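import Mathlib
import Groth.Prelude.Def_ega3
set_option autoImplicit false
universe u
open CategoryTheory CategoryTheory.Limits MonoidalCategory

namespace Groth.Agent.Lib.Helper7

variable {A : Type u} [CommRing A] {ι : Type} {c : ComplexShape ι}

lemma tensorMap_f (P : HomologicalComplex (ModuleCat.{u} A) c) {M N : ModuleCat.{u} A}
    (g : M ⟶ N) (i : ι) : (CohIII.tensorMap P g).f i = P.X i ◁ g := rfl

/-- the short complex of complexes `P ⊗ S` -/
noncomputable def tensorSC (P : HomologicalComplex (ModuleCat.{u} A) c)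
    (S : ShortComplex (ModuleCat.{u} A)) :
    ShortComplex (HomologicalComplex (ModuleCat.{u} A) c) :=
  ShortComplex.mk (CohIII.tensorMap P S.f) (CohIII.tensorMap P S.g) (by
    ext i : 1
    show P.X i ◁ S.f ≫ P.X i ◁ S.g = 0
    rw [← MonoidalCategory.whiskerLeft_comp, S.zero, MonoidalPreadditive.whiskerLeft_zero])

lemma tensorSC_shortExact (P : HomologicalComplex (ModuleCat.{u} A) c)
    (hP : ∀ i, Module.Flat A (P.X i)) (S : ShortComplex (ModuleCat.{u} A)) (hS : S.ShortExact) :
    (tensorSC P S).ShortExact := by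
  apply HomologicalComplex.shortExact_of_degreewise_shortExact
  intro i
  have := hP i
  apply ModuleCat.shortComplex_shortExact
  · show Function.Exact (P.X i ◁ S.f).hom (P.X i ◁ S.g).hom
    rw [ModuleCat.hom_whiskerLeft, ModuleCat.hom_whiskerLeft]
    exact lTensor_exact (P.X i)
      ((ShortComplex.ShortExact.moduleCat_exact_iff_function_exact S).mp hS.exact)
      hS.moduleCat_surjective_g
  · show Function.Injective (P.X i ◁ S.f).hom
    rw [ModuleCat.hom_whiskerLeft]
    exact Module.Flat.lTensor_preserves_injective_linearMap _ hS.moduleCat_injective_f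
  · show Function.Surjective (P.X i ◁ S.g).hom
    rw [ModuleCat.hom_whiskerLeft]
    exact LinearMap.lTensor_surjective _ hS.moduleCat_surjective_g

lemma tensorMap_smul_id (P : HomologicalComplex (ModuleCat.{u} A) c) (M : ModuleCat.{u} A) (f : A) :
    CohIII.tensorMap P (f • 𝟙 M) = f • 𝟙 (CohIII.tensorObj P M) := by
  ext i : 1
  rw [tensorMap_f, HomologicalComplex.smul_f_apply, HomologicalComplex.id_f,
    MonoidalLinear.whiskerLeft_smul, MonoidalCategory.whiskerLeft_id]
  rfl

lemma homologyMap_smul' {X Y : HomologicalComplex (ModuleCat.{u} A) c} (r : A) (φ : X ⟶ Y) (i : ι) :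
    HomologicalComplex.homologyMap (r • φ) i = r • HomologicalComplex.homologyMap φ i := by
  have : (HomologicalComplex.shortComplexFunctor _ c i).map (r • φ) =
      r • (HomologicalComplex.shortComplexFunctor _ c i).map φ := by
    ext <;> rfl
  unfold HomologicalComplex.homologyMap
  rw [this, ShortComplex.homologyMap_smul]
  rfl

theorem smul_injective_T (P : ChainComplex (ModuleCat.{u} A) ℤ)
    (hP : ∀ i, Module.Flat A (P.X i)) (p q : ℤ) (hpq : q + 1 = p)
    (hex : (CohIII.TFun P p).PreservesEpimorphisms) (M : ModuleCat.{u} A) (f : A)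
    (hf : Function.Injective (fun x : M => f • x)) :
    Function.Injective (fun y : CohIII.T P q M => f • y) := by
  let φ : M ⟶ M := f • 𝟙 M
  have hφ : ∀ x : M, φ x = f • x := fun x => rfl
  let S₀ : ShortComplex (ModuleCat.{u} A) :=
    ShortComplex.mk φ (ModuleCat.ofHom (LinearMap.range φ.hom).mkQ) (by ext x; simp)
  have hS₀ : S₀.ShortExact := ModuleCat.shortComplex_shortExact S₀
    (LinearMap.exact_map_mkQ_range φ.hom) (fun x y h => hf h) (Submodule.mkQ_surjective _)
  have hS := tensorSC_shortExact P hP S₀ hS₀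
  have hrel : (ComplexShape.down ℤ).Rel p q := hpq
  have h3 := hS.homology_exact₃ p q hrel
  have h1 := hS.homology_exact₁ p q hrel
  have hepi : Epi (HomologicalComplex.homologyMap (tensorSC P S₀).g p) := by
    have : Epi S₀.g := hS₀.epi_g
    exact (inferInstance : Epi ((CohIII.TFun P p).map S₀.g))
  have hδ : hS.δ p q hrel = 0 := (h3.epi_f_iff.mp hepi)
  have hmono : Mono (HomologicalComplex.homologyMap (tensorSC P S₀).f q) := h1.mono_g_iff.mpr hδ
  have heq : HomologicalComplex.homologyMap (tensorSC P S₀).f q = f • 𝟙 (CohIII.T P q M) := by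
    show HomologicalComplex.homologyMap (CohIII.tensorMap P (f • 𝟙 M)) q = _
    rw [tensorMap_smul_id, homologyMap_smul', HomologicalComplex.homologyMap_id]
  rw [heq] at hmono
  have hinj := (ModuleCat.mono_iff_injective _).mp hmono
  intro y y' h
  exact hinj h

theorem smul_injective_T_full (P : ChainComplex (ModuleCat.{u} A) ℤ)
    (hP : ∀ i, Module.Flat A (P.X i)) (p q : ℤ) (hpq : q + 1 = p)
    (hex : (CohIII.TFun P p).PreservesEpimorphisms) :
    (∀ (M : ModuleCat.{u} A) (f : A), Function.Injective (fun x : M => f • x) →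
        Function.Injective (fun y : CohIII.T P q M => f • y)) ∧
      (IsDomain A → NoZeroSMulDivisors A (CohIII.T P q (ModuleCat.of A A))) := by
  refine ⟨fun M f hf => smul_injective_T P hP p q hpq hex M f hf, fun hdom => ?_⟩
  refine ⟨fun {c x} h => ?_⟩
  by_cases hc : c = 0
  · exact Or.inl hc
  · right
    have hinjA : Function.Injective (fun a : (ModuleCat.of A A) => c • a) := by
      intro a b hab
      exact mul_left_cancel₀ hc hab
    have := smul_injective_T P hP p q hpq hex (ModuleCat.of A A) c hinjA
    apply this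
    show c • x = c • 0
    rw [smul_zero]; exact h

end Groth.Agent.Lib.Helper7
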