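import Mathlib
import Groth.Prelude.Def_ega3
import Groth.Agent.Lib.Helper7.TFunLES
set_option autoImplicit false
universe u
open CategoryTheory CategoryTheory.Limits MonoidalCategory

namespace Groth.Agent.Lib.Helper7

variable {A : Type u} [CommRing A] {ι : Type} {c : ComplexShape ι}

lemma tensorMap_add (P : HomologicalComplex (ModuleCat.{u} A) c) {M N : ModuleCat.{u} A}
    (f g : M ⟶ N) : CohIII.tensorMap P (f + g) = CohIII.tensorMap P f + CohIII.tensorMap P g := by
  ext i : 1
  rw [HomologicalComplex.add_f_apply, tensorMap_f, tensorMap_f, tensorMap_f,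
    MonoidalPreadditive.whiskerLeft_add]
  rfl

lemma tensorMap_smul (P : HomologicalComplex (ModuleCat.{u} A) c) {M N : ModuleCat.{u} A}
    (r : A) (g : M ⟶ N) : CohIII.tensorMap P (r • g) = r • CohIII.tensorMap P g := by
  ext i : 1
  rw [HomologicalComplex.smul_f_apply, tensorMap_f, tensorMap_f, MonoidalLinear.whiskerLeft_smul]
  rfl

lemma TFun_map (P : HomologicalComplex (ModuleCat.{u} A) c) (p : ι) {M N : ModuleCat.{u} A}
    (g : M ⟶ N) : (CohIII.TFun P p).map g = HomologicalComplex.homologyMap (CohIII.tensorMap P g) p :=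
  rfl

instance TFun_additive (P : HomologicalComplex (ModuleCat.{u} A) c) (p : ι) :
    (CohIII.TFun P p).Additive where
  map_add {M N f g} := by
    rw [TFun_map, TFun_map, TFun_map, tensorMap_add, HomologicalComplex.homologyMap_add]
    rfl

instance TFun_linear (P : HomologicalComplex (ModuleCat.{u} A) c) (p : ι) :
    (CohIII.TFun P p).Linear A where
  map_smul {M N} g r := by
    rw [TFun_map, TFun_map, tensorMap_smul, homologyMap_smul']
    rfl

/-- half exactness of `T_p` -/
lemma TFun_halfExact (P : HomologicalComplex (ModuleCat.{u} A) c)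
    (hP : ∀ i, Module.Flat A (P.X i)) (p : ι) (S : ShortComplex (ModuleCat.{u} A))
    (hS : S.ShortExact) : (S.map (CohIII.TFun P p)).Exact :=
  (tensorSC_shortExact P hP S hS).homology_exact₂ p

/-- For a short exact sequence, `T_q(f)` is mono iff `T_p(g)` is epi when `c.Rel p q`. -/
lemma TFun_mono_iff_epi (P : HomologicalComplex (ModuleCat.{u} A) c)
    (hP : ∀ i, Module.Flat A (P.X i)) (p q : ι) (hpq : c.Rel p q) (S : ShortComplex (ModuleCat.{u} A))
    (hS : S.ShortExact) :
    Mono ((CohIII.TFun P q).map S.f) ↔ Epi ((CohIII.TFun P p).map S.g) := by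
  have hS' := tensorSC_shortExact P hP S hS
  have h3 := hS'.homology_exact₃ p q hpq
  have h1 := hS'.homology_exact₁ p q hpq
  exact (h1.mono_g_iff).trans (h3.epi_f_iff).symm

lemma TFun_preservesMono_iff_preservesEpi (P : HomologicalComplex (ModuleCat.{u} A) c)
    (hP : ∀ i, Module.Flat A (P.X i)) (p q : ι) (hpq : c.Rel p q) :
    (CohIII.TFun P q).PreservesMonomorphisms ↔ (CohIII.TFun P p).PreservesEpimorphisms := by
  constructor
  · intro h
    refine ⟨fun {X Y} g hg => ?_⟩
    let S : ShortComplex (ModuleCat.{u} A) := ShortComplex.mk (kernel.ι g) g (kernel.condition g)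
    have hS : S.ShortExact := { exact := ShortComplex.exact_kernel g }
    have : Mono ((CohIII.TFun P q).map S.f) := inferInstance
    exact (TFun_mono_iff_epi P hP p q hpq S hS).mp this
  · intro h
    refine ⟨fun {X Y} f hf => ?_⟩
    let S : ShortComplex (ModuleCat.{u} A) := ShortComplex.mk f (cokernel.π f) (cokernel.condition f)
    have hS : S.ShortExact := { exact := ShortComplex.exact_cokernel f }
    have : Epi ((CohIII.TFun P p).map S.g) := inferInstance
    exact (TFun_mono_iff_epi P hP p q hpq S hS).mpr this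

end Groth.Agent.Lib.Helper7
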