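import Mathlib
set_option autoImplicit false
universe u
open CategoryTheory CategoryTheory.Limits TensorProduct

namespace Groth.Agent.Lib.Helper7

variable {A : Type u} [CommRing A]

/-- θ_x : A → M, a ↦ a • x as morphism in ModuleCat -/
noncomputable def thetaHom (M : ModuleCat.{u} A) (x : M) : ModuleCat.of A A ⟶ M :=
  (ModuleCat.homLinearEquiv (S := A)).symm ((LinearMap.ringLmapEquivSelf A A M).symm x)

lemma thetaHom_apply (M : ModuleCat.{u} A) (x : M) (a : A) : (thetaHom M x).hom a = a • x := by
  show (LinearMap.smulRight (1 : A →ₗ[A] A) x) a = a • x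
  simp

/-- the canonical map t_M -/
noncomputable def tMap (T : ModuleCat.{u} A ⥤ ModuleCat.{u} A) [T.Additive] [T.Linear A]
    (M : ModuleCat.{u} A) :
    TensorProduct A (T.obj (ModuleCat.of A A)) M →ₗ[A] T.obj M :=
  TensorProduct.lift (LinearMap.flip
        ((ModuleCat.homLinearEquiv (S := A)).toLinearMap ∘ₗ Functor.mapLinearMap A T ∘ₗ
          (ModuleCat.homLinearEquiv (S := A)).symm.toLinearMap ∘ₗ
            (LinearMap.ringLmapEquivSelf A A M).symm.toLinearMap))

lemma tMap_tmul (T : ModuleCat.{u} A ⥤ ModuleCat.{u} A) [T.Additive] [T.Linear A]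
    (M : ModuleCat.{u} A) (y : T.obj (ModuleCat.of A A)) (x : M) :
    tMap T M (y ⊗ₜ x) = (T.map (thetaHom M x)).hom y := rfl

theorem tMap_bijective_of_free (T : ModuleCat.{u} A ⥤ ModuleCat.{u} A) [T.Additive] [T.Linear A]
    [∀ J : Type u, PreservesColimitsOfShape (Discrete J) T]
    (L : ModuleCat.{u} A) [Module.Free A L] : Function.Bijective (tMap T L) := by
  let I := Module.Free.ChooseBasisIndex A L
  let b : Module.Basis I A L := Module.Free.chooseBasis A L
  let c : Cofan (fun _ : I => ModuleCat.of A A) := Cofan.mk L (fun i => thetaHom L (b i))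
  have hc : IsColimit c := Cofan.IsColimit.mk c
    (fun s => ModuleCat.ofHom (b.constr A (fun i => (s.inj i).hom (1 : A))))
    (fun s i => by
      apply ModuleCat.hom_ext
      apply LinearMap.ext_ring
      show (b.constr A (fun i => (s.inj i).hom (1 : A))) ((thetaHom L (b i)).hom 1) = _
      rw [thetaHom_apply, one_smul, Module.Basis.constr_basis])
    (fun s m hm => by
      apply ModuleCat.hom_ext
      apply b.ext
      intro i
      show m.hom (b i) = (b.constr A (fun i => (s.inj i).hom (1 : A))) (b i)
      rw [Module.Basis.constr_basis, ← hm i]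
      show m.hom (b i) = m.hom ((thetaHom L (b i)).hom 1)
      rw [thetaHom_apply, one_smul])
  have hTc : IsColimit (T.mapCocone c) := isColimitOfPreserves T hc
  let d : Cocone (Discrete.functor (fun _ : I => ModuleCat.of A A) ⋙ T) :=
    { pt := ModuleCat.of A (TensorProduct A (T.obj (ModuleCat.of A A)) L)
      ι := Discrete.natTrans (fun i => ModuleCat.ofHom
        ((TensorProduct.mk A (T.obj (ModuleCat.of A A)) L).flip (b i.as))) }
  let s := hTc.desc d
  have hs : ∀ (i : I) (y : T.obj (ModuleCat.of A A)),
      s.hom ((T.map (thetaHom L (b i))).hom y) = y ⊗ₜ b i := by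
    intro i y
    have := hTc.fac d ⟨i⟩
    exact congrArg (fun f => f.hom y) this
  rw [Function.bijective_iff_has_inverse]
  refine ⟨s.hom, ?_, ?_⟩
  · -- left inverse: s (t z) = z
    intro z
    have : s.hom ∘ₗ tMap T L = LinearMap.id := by
      refine TensorProduct.ext (LinearMap.ext fun y => b.ext fun i => ?_)
      show s.hom (tMap T L (y ⊗ₜ b i)) = y ⊗ₜ b i
      rw [tMap_tmul, hs]
    exact LinearMap.congr_fun this z
  · -- right inverse: t (s w) = w
    intro w
    have : s ≫ ModuleCat.ofHom (tMap T L) = 𝟙 _ := by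
      apply hTc.hom_ext
      rintro ⟨i⟩
      apply ModuleCat.hom_ext
      apply LinearMap.ext
      intro y
      show tMap T L (s.hom ((T.map (thetaHom L (b i))).hom y)) = (T.map (thetaHom L (b i))).hom y
      rw [hs, tMap_tmul]
    exact congrArg (fun f => f.hom w) this

end Groth.Agent.Lib.Helper7
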