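import Mathlib
import Groth.Prelude.Def_ega3
import Groth.Agent.Lib.Helper7.TFunLib
import Groth.Agent.Lib.Helper7.TMapLib
set_option autoImplicit false
universe u
open CategoryTheory CategoryTheory.Limits MonoidalCategory

namespace Groth.Agent.Lib.Helper7

variable {A : Type u} [CommRing A] {ι : Type} {c : ComplexShape ι}

section elements
variable (K : HomologicalComplex (ModuleCat.{u} A) c) (i : ι)

lemma homologyπ_surjective : Function.Surjective (K.homologyπ i).hom :=
  (ModuleCat.epi_iff_surjective _).mp inferInstance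

lemma iCycles_injective : Function.Injective (K.iCycles i).hom :=
  (ModuleCat.mono_iff_injective _).mp inferInstance

lemma exists_cycle (x : K.X i) (hx : (K.d i (c.next i)).hom x = 0) :
    ∃ z : K.cycles i, (K.iCycles i).hom z = x := by
  let k : ModuleCat.of A A ⟶ K.X i := thetaHom (K.X i) x
  have hk : k ≫ K.d i (c.next i) = 0 := by
    apply ModuleCat.hom_ext
    apply LinearMap.ext_ring
    show (K.d i (c.next i)).hom (k.hom 1) = 0
    rw [thetaHom_apply, one_smul, hx]
  refine ⟨(K.liftCycles k (c.next i) rfl hk).hom 1, ?_⟩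
  have := K.liftCycles_i k (c.next i) rfl hk
  have h2 := congrArg (fun f => f.hom (1 : A)) this
  have h3 : k.hom (1 : A) = x := by rw [thetaHom_apply, one_smul]
  rw [← h3, ← h2]
  rfl

end elements

theorem exists_fg_submodule_of_T (P : HomologicalComplex (ModuleCat.{u} A) c)
    (hP : ∀ i, Module.Flat A (P.X i)) (p : ι)
    (M : ModuleCat.{u} A) (z : CohIII.T P p M) :
    ∃ (M' : Submodule A M), M'.FG ∧ ∃ z' : CohIII.T P p (ModuleCat.of A M'),
      ((CohIII.TFun P p).map (ModuleCat.ofHom M'.subtype)).hom z' = z := by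
  obtain ⟨cz, rfl⟩ := homologyπ_surjective (CohIII.tensorObj P M) p z
  let x : TensorProduct A (P.X p) M := ((CohIII.tensorObj P M).iCycles p).hom cz
  obtain ⟨M', hfin, hsub⟩ := TensorProduct.exists_finite_submodule_right_of_setFinite
    ({x} : Set (TensorProduct A (P.X p) M)) (Set.finite_singleton x)
  obtain ⟨x', hx'⟩ := hsub (Set.mem_singleton x)
  let g : ModuleCat.of A M' ⟶ M := ModuleCat.ofHom M'.subtype
  obtain ⟨φ, hφdef⟩ : ∃ φ, φ = CohIII.tensorMap P g := ⟨_, rfl⟩
  have := hP (c.next p)
  have hinj : Function.Injective (LinearMap.lTensor (P.X (c.next p)) M'.subtype) :=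
    Module.Flat.lTensor_preserves_injective_linearMap _ (Submodule.subtype_injective _)
  have hinj' : Function.Injective (φ.f (c.next p)).hom := by rw [hφdef]; exact hinj
  obtain ⟨x'', hx''⟩ : ∃ x'' : ((CohIII.tensorObj P (ModuleCat.of A M')).X p),
      (φ.f p).hom x'' = ((CohIII.tensorObj P M).iCycles p).hom cz := by
    rw [hφdef]; exact ⟨x', hx'⟩
  clear hx' x' hsub x hinj
  have hd : ((CohIII.tensorObj P (ModuleCat.of A M')).d p (c.next p)).hom x'' = 0 := by
    apply hinj'
    rw [map_zero]
    have hcomm := congrArg (fun f => f.hom x'') (φ.comm p (c.next p))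
    have e1 : (φ.f (c.next p)).hom (((CohIII.tensorObj P (ModuleCat.of A M')).d p (c.next p)).hom x'') =
        ((CohIII.tensorObj P M).d p (c.next p)).hom ((φ.f p).hom x'') := hcomm.symm
    rw [e1, hx'']
    have h0 := congrArg (fun f => f.hom cz) ((CohIII.tensorObj P M).iCycles_d p (c.next p))
    exact h0
  obtain ⟨cz', hcz'⟩ := exists_cycle _ p x'' hd
  refine ⟨M', Module.Finite.iff_fg.mp hfin,
    ((CohIII.tensorObj P (ModuleCat.of A M')).homologyπ p).hom cz', ?_⟩
  have hnat := congrArg (fun f => f.hom cz') (HomologicalComplex.homologyπ_naturality φ p)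
  have h1 : (HomologicalComplex.cyclesMap φ p).hom cz' = cz := by
    apply iCycles_injective
    have := congrArg (fun f => f.hom cz') (HomologicalComplex.cyclesMap_i φ p)
    have e2 : ((CohIII.tensorObj P M).iCycles p).hom ((HomologicalComplex.cyclesMap φ p).hom cz') =
        (φ.f p).hom (((CohIII.tensorObj P (ModuleCat.of A M')).iCycles p).hom cz') := this
    rw [e2, hcz', hx'']
  have e3 : (HomologicalComplex.homologyMap φ p).hom
      (((CohIII.tensorObj P (ModuleCat.of A M')).homologyπ p).hom cz') =
      ((CohIII.tensorObj P M).homologyπ p).hom ((HomologicalComplex.cyclesMap φ p).hom cz') :=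
    hnat
  rw [← h1, ← e3, TFun_map, ← hφdef]
  rfl

end Groth.Agent.Lib.Helper7
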