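import Mathlib.AlgebraicGeometry.IdealSheaf.Subscheme
import Mathlib.AlgebraicGeometry.Morphisms.ClosedImmersion
import Mathlib.AlgebraicGeometry.Morphisms.Immersion
import Mathlib.AlgebraicGeometry.Properties
import Mathlib.AlgebraicGeometry.PullbackCarrier

/-! Helper7: reduced closed subschemes, factorisations through closed subschemes. -/

universe u

namespace Groth.Agent.Lib.Helper7

open AlgebraicGeometry CategoryTheory Limits Scheme

/-- The closed subscheme defined by `I` is reduced iff `I` is radical. -/
theorem isReduced_subscheme_iff {X : Scheme.{u}} (I : X.IdealSheafData) :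
    IsReduced I.subscheme ↔ I.radical = I := by
  rw [IsReduced.iff_of_openCover (𝒰 := I.subschemeCover.openCover)]
  constructor
  · intro h
    apply IdealSheafData.ext
    funext U
    rw [IdealSheafData.radical_ideal]
    have hU : IsReduced (Spec (.of (Γ(X, U) ⧸ I.ideal U))) := h U
    rw [affine_isReduced_iff] at hU
    exact ((Ideal.isRadical_iff_quotient_reduced _).mpr hU).radical
  · intro h (U : X.affineOpens)
    change IsReduced (Spec (.of (Γ(X, U) ⧸ I.ideal U)))
    rw [affine_isReduced_iff]
    change _root_.IsReduced (Γ(X, U) ⧸ I.ideal U)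
    rw [← Ideal.isRadical_iff_quotient_reduced, ← h, IdealSheafData.radical_ideal]
    exact Ideal.radical_isRadical _

theorem isReduced_vanishingIdeal_subscheme {X : Scheme.{u}} (C : TopologicalSpace.Closeds X) :
    IsReduced (IdealSheafData.vanishingIdeal C).subscheme := by
  rw [isReduced_subscheme_iff, ← IdealSheafData.vanishingIdeal_support]
  exact IdealSheafData.gc.u_l_u_eq_u C

theorem isReduced_nilradical_subscheme (X : Scheme.{u}) : IsReduced X.nilradical.subscheme := by
  rw [← IdealSheafData.vanishingIdeal_top]
  exact isReduced_vanishingIdeal_subscheme _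

theorem isReduced_subscheme_iff_eq_nilradical (X : Scheme.{u}) (I : X.IdealSheafData)
    (hI : I.support = ⊤) : IsReduced I.subscheme ↔ I = X.nilradical := by
  rw [isReduced_subscheme_iff, ← IdealSheafData.vanishingIdeal_support, hI,
    IdealSheafData.vanishingIdeal_top]
  exact eq_comm

/-- A morphism from a reduced scheme whose image lies in a closed subscheme factors through it. -/
theorem exists_lift_of_isReduced_of_range_subset {X Y Z : Scheme.{u}} [IsReduced X] (f : X ⟶ Y)
    (j : Z ⟶ Y) [IsClosedImmersion j] (h : Set.range f ⊆ Set.range j) :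
    ∃ g : X ⟶ Z, g ≫ j = f := by
  have : Surjective (pullback.fst f j) := ⟨fun x => by
    obtain ⟨z, hz⟩ := h ⟨x, rfl⟩
    obtain ⟨p, hp, -⟩ := Scheme.Pullback.exists_preimage_pullback (f := f) (g := j) x z hz.symm
    exact ⟨p, hp⟩⟩
  have : IsIso (pullback.fst f j) := isIso_of_isClosedImmersion_of_surjective _
  exact ⟨inv (pullback.fst f j) ≫ pullback.snd f j, by
    rw [Category.assoc, ← pullback.condition, IsIso.inv_hom_id_assoc]⟩

theorem subschemeι_nilradical_surjective (X : Scheme.{u}) :
    Function.Surjective X.nilradical.subschemeι := by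
  rw [← Set.range_eq_univ, IdealSheafData.range_subschemeι, X.support_nilradical]
  rfl

/-- The morphism induced on reductions by an open immersion is an open immersion. -/
theorem isOpenImmersion_red {X Y : Scheme.{u}} (f : X ⟶ Y) [IsOpenImmersion f]
    (g : X.nilradical.subscheme ⟶ Y.nilradical.subscheme)
    (hg : g ≫ Y.nilradical.subschemeι = X.nilradical.subschemeι ≫ f) : IsOpenImmersion g := by
  have : IsReduced Y.nilradical.subscheme := isReduced_nilradical_subscheme Y
  have : IsReduced (pullback Y.nilradical.subschemeι f) :=
    isReduced_of_isOpenImmersion (pullback.fst Y.nilradical.subschemeι f)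
  let l : X.nilradical.subscheme ⟶ pullback Y.nilradical.subschemeι f :=
    pullback.lift g X.nilradical.subschemeι hg
  have hl2 : l ≫ pullback.snd _ _ = X.nilradical.subschemeι := pullback.lift_snd _ _ _
  have hl1 : l ≫ pullback.fst _ _ = g := pullback.lift_fst _ _ _
  have : IsClosedImmersion (l ≫ pullback.snd Y.nilradical.subschemeι f) := by
    rw [hl2]; infer_instance
  have : IsClosedImmersion l := IsClosedImmersion.of_comp_isClosedImmersion l (pullback.snd _ _)
  have : Surjective l := ⟨fun p => by
    obtain ⟨x', hx'⟩ := subschemeι_nilradical_surjective X ((pullback.snd Y.nilradical.subschemeι f) p)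
    refine ⟨x', ?_⟩
    apply (pullback.snd Y.nilradical.subschemeι f).isEmbedding.injective
    rw [← Scheme.Hom.comp_apply, hl2, hx']⟩
  have : IsIso l := isIso_of_isClosedImmersion_of_surjective l
  rw [← hl1]
  infer_instance

/-- A reduced immersed subscheme is open in the reduced closed subscheme on its closure. -/
theorem exists_factor_openImmersion_closedImmersion {Z X : Scheme.{u}} (h : Z ⟶ X)
    [IsImmersion h] [IsReduced Z] :
    ∃ (W : Scheme.{u}) (j : Z ⟶ W) (i : W ⟶ X), IsOpenImmersion j ∧ IsClosedImmersion i ∧
      IsReduced W ∧ Set.range i = closure (Set.range h) ∧ j ≫ i = h := by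
  let C : TopologicalSpace.Closeds X := ⟨closure (Set.range h), isClosed_closure⟩
  have hW : IsReduced (IdealSheafData.vanishingIdeal C).subscheme :=
    isReduced_vanishingIdeal_subscheme C
  have hrange : Set.range (IdealSheafData.vanishingIdeal C).subschemeι =
      closure (Set.range h) := by
    rw [IdealSheafData.range_subschemeι]
    simp [C]
  obtain ⟨j, hj⟩ := exists_lift_of_isReduced_of_range_subset h
    (IdealSheafData.vanishingIdeal C).subschemeι (by rw [hrange]; exact subset_closure)
  refine ⟨_, j, (IdealSheafData.vanishingIdeal C).subschemeι, ?_, inferInstance, hW, hrange, hj⟩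
  have : IsImmersion (j ≫ (IdealSheafData.vanishingIdeal C).subschemeι) := by
    rw [hj]; infer_instance
  have : IsImmersion j := IsImmersion.of_comp j (IdealSheafData.vanishingIdeal C).subschemeι
  have hdense : closure (Set.range j) = Set.univ := by
    apply Set.image_injective.mpr
      (IdealSheafData.vanishingIdeal C).subschemeι.isClosedEmbedding.injective
    rw [← (IdealSheafData.vanishingIdeal C).subschemeι.isClosedEmbedding.closure_image_eq,
      ← Set.range_comp, Set.image_univ, hrange, ← hj]
    rfl
  have hcob : coborder (Set.range j) = Set.range j := by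
    rw [coborder_eq_union_closure_compl, hdense]
    simp
  have : Surjective j.liftCoborder := ⟨fun p => by
    have hp : p.1 ∈ coborder (Set.range j) := p.2
    rw [hcob] at hp
    obtain ⟨z, hz⟩ := hp
    refine ⟨z, ?_⟩
    apply j.coborderRange.ι.isEmbedding.injective
    rw [← Scheme.Hom.comp_apply, j.liftCoborder_ι, hz]
    rfl⟩
  have : IsIso j.liftCoborder := isIso_of_isClosedImmersion_of_surjective _
  rw [← j.liftCoborder_ι]
  infer_instance

end Groth.Agent.Lib.Helper7
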