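import Mathlib
import Groth.Agent.S7546
import Groth.Agent.S8345
set_option autoImplicit false
universe u v
open Topology TopologicalSpace Set

namespace Groth.Agent.Lib.Helper7.ConstrNoeth

variable {X : Type u} [TopologicalSpace X]

theorem closed_induction [NoetherianSpace X] (P : Set X → Prop) (hempty : P ∅)
    (hunion : ∀ Y₁ Y₂ : Set X, IsClosed Y₁ → IsClosed Y₂ → P Y₁ → P Y₂ → P (Y₁ ∪ Y₂))
    (hirr : ∀ Y : Set X, IsClosed Y → IsIrreducible Y →
      (∀ Y' : Set X, IsClosed Y' → Y' ⊂ Y → P Y') → P Y) :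
    ∀ Y : Set X, IsClosed Y → P Y := by
  have key : ∀ Z : Closeds X, P (Z : Set X) := by
    intro Z
    refine WellFounded.induction (C := fun Z : Closeds X => P (Z : Set X)) wellFounded_lt Z ?_
    intro Z ih
    have ih' : ∀ Y' : Set X, IsClosed Y' → Y' ⊂ (Z : Set X) → P Y' := fun Y' hY' hlt =>
      ih ⟨Y', hY'⟩ (SetLike.coe_ssubset_coe.mp hlt)
    by_cases hne : (Z : Set X) = ∅
    · rw [hne]
      exact hempty
    by_cases hirrZ : IsIrreducible (Z : Set X)
    · exact hirr Z Z.isClosed hirrZ ih'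
    · have hnonempty : (Z : Set X).Nonempty := nonempty_iff_ne_empty.mpr hne
      have hnp : ¬ IsPreirreducible (Z : Set X) := fun h => hirrZ ⟨hnonempty, h⟩
      rw [isPreirreducible_iff_isClosed_union_isClosed] at hnp
      push Not at hnp
      obtain ⟨z₁, z₂, hz₁, hz₂, hsub, hn₁, hn₂⟩ := hnp
      have h1 : P ((Z : Set X) ∩ z₁) := ih' _ (Z.isClosed.inter hz₁)
        ⟨inter_subset_left, fun h => hn₁ (fun x hx => (h hx).2)⟩
      have h2 : P ((Z : Set X) ∩ z₂) := ih' _ (Z.isClosed.inter hz₂)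
        ⟨inter_subset_left, fun h => hn₂ (fun x hx => (h hx).2)⟩
      have heq : (Z : Set X) = ((Z : Set X) ∩ z₁) ∪ ((Z : Set X) ∩ z₂) := by
        rw [← inter_union_distrib_left]
        exact (inter_eq_left.mpr hsub).symm
      rw [heq]
      exact hunion _ _ (Z.isClosed.inter hz₁) (Z.isClosed.inter hz₂) h1 h2
  intro Y hY
  exact key ⟨Y, hY⟩

lemma isRetrocompact_of_noeth [NoetherianSpace X] (W : Set X) : IsRetrocompact W :=
  fun _ _ _ => NoetherianSpace.isCompact _

lemma isConstructible_of_isOpen [NoetherianSpace X] {U : Set X} (hU : IsOpen U) :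
    IsConstructible U :=
  (isRetrocompact_of_noeth U).isConstructible hU

lemma isConstructible_of_isClosed [NoetherianSpace X] {Y : Set X} (hY : IsClosed Y) :
    IsConstructible Y := by
  have h := (isConstructible_of_isOpen hY.isOpen_compl).compl
  rwa [compl_compl] at h

theorem exists_open_of_subset_closure [NoetherianSpace X] {E : Set X} (hE : IsConstructible E)
    {Y : Set X} (hY : IsIrreducible Y) (h : Y ⊆ closure (E ∩ Y)) :
    ∃ U : Set X, IsOpen U ∧ (U ∩ Y).Nonempty ∧ U ∩ Y ⊆ E := by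
  obtain ⟨n, L, hL, hEL⟩ := (Groth.Agent.S8345.result E).mp hE
  obtain ⟨U, hU, hUE, hZU⟩ := ((Groth.Agent.S7546.result Y hY L hL E hEL).1).mp h
  refine ⟨U, hU, ?_, hUE⟩
  by_contra hne
  rw [not_nonempty_iff_eq_empty] at hne
  rw [hne, closure_empty] at hZU
  obtain ⟨y, hy⟩ := hY.nonempty
  exact hZU hy

theorem exists_open_subset_or_compl [NoetherianSpace X] {E : Set X} (hE : IsConstructible E)
    {Y : Set X} (hY : IsIrreducible Y) :
    ∃ U : Set X, IsOpen U ∧ (U ∩ Y).Nonempty ∧ (U ∩ Y ⊆ E ∨ U ∩ Y ⊆ Eᶜ) := by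
  have hcov : Y ⊆ closure (E ∩ Y) ∪ closure (Eᶜ ∩ Y) := by
    intro y hy
    by_cases hyE : y ∈ E
    · exact Or.inl (subset_closure ⟨hyE, hy⟩)
    · exact Or.inr (subset_closure ⟨hyE, hy⟩)
  rcases (isPreirreducible_iff_isClosed_union_isClosed.mp hY.isPreirreducible) _ _
    isClosed_closure isClosed_closure hcov with h | h
  · obtain ⟨U, hU, hne, hUE⟩ := exists_open_of_subset_closure hE hY h
    exact ⟨U, hU, hne, Or.inl hUE⟩
  · obtain ⟨U, hU, hne, hUE⟩ := exists_open_of_subset_closure hE.compl hY h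
    exact ⟨U, hU, hne, Or.inr hUE⟩

lemma dense_preimage_val_iff {Y E : Set X} :
    Dense (Subtype.val ⁻¹' E : Set Y) ↔ Y ⊆ closure (E ∩ Y) := by
  rw [Subtype.dense_iff, Subtype.image_preimage_coe, inter_comm]

lemma subset_closure_of_genericPoint {Y E : Set X} {ξ : X} (hξ : IsGenericPoint ξ Y)
    (hξE : ξ ∈ E) : Y ⊆ closure (E ∩ Y) := by
  intro y hy
  have h1 : y ∈ closure ({ξ} : Set X) := by
    rw [hξ.def]
    exact hy
  exact closure_mono (singleton_subset_iff.mpr (show ξ ∈ E ∩ Y from ⟨hξE, hξ.mem⟩)) h1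

lemma isNowhereDense_of_inter_subset_compl {Y E U : Set X} (hY : IsPreirreducible Y)
    (hU : IsOpen U) (hne : (U ∩ Y).Nonempty) (hUE : U ∩ Y ⊆ Eᶜ) :
    IsNowhereDense (Subtype.val ⁻¹' E : Set Y) := by
  show interior (closure (Subtype.val ⁻¹' E : Set Y)) = ∅
  by_contra hcon
  obtain ⟨y, hy⟩ := nonempty_iff_ne_empty.mpr hcon
  have hWo : IsOpen (interior (closure (Subtype.val ⁻¹' E : Set Y))) := isOpen_interior
  obtain ⟨W', hW'o, hW'eq⟩ := isOpen_induced_iff.mp hWo
  have h1 : (Y ∩ W').Nonempty := by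
    refine ⟨y.1, y.2, ?_⟩
    have h : y ∈ Subtype.val ⁻¹' W' := by
      rw [hW'eq]
      exact hy
    exact h
  have h2 : (Y ∩ U).Nonempty := by
    rwa [inter_comm] at hne
  obtain ⟨z, hzY, hzW', hzU⟩ := hY W' U hW'o hU h1 h2
  have hzW : (⟨z, hzY⟩ : Y) ∈ interior (closure (Subtype.val ⁻¹' E : Set Y)) := by
    rw [← hW'eq]
    exact hzW'
  have hzcl : (⟨z, hzY⟩ : Y) ∈ closure (Subtype.val ⁻¹' E : Set Y) := interior_subset hzW
  have hcl : closure (Subtype.val ⁻¹' E : Set Y) ⊆ (Subtype.val ⁻¹' U : Set Y)ᶜ := by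
    apply closure_minimal
    · intro w hwE hwU
      exact hUE ⟨hwU, w.2⟩ hwE
    · exact (hU.preimage continuous_subtype_val).isClosed_compl
  exact hcl hzcl hzU

/-- S2395 -/
theorem dense_iff_contains_open [NoetherianSpace X] [IrreducibleSpace X] {E : Set X}
    (hE : IsConstructible E) :
    Dense E ↔ ∃ U : Set X, IsOpen U ∧ U.Nonempty ∧ U ⊆ E := by
  constructor
  · intro hd
    have hY : IsIrreducible (univ : Set X) := IrreducibleSpace.isIrreducible_univ X
    obtain ⟨U, hU, hne, hUE⟩ := exists_open_of_subset_closure hE hY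
      (by rw [inter_univ, hd.closure_eq])
    rw [inter_univ] at hne hUE
    exact ⟨U, hU, hne, hUE⟩
  · rintro ⟨U, hU, hne, hUE⟩
    exact (hU.dense hne).mono hUE

/-- S2399 -/
theorem isOpen_iff_forall_irreducible_closed [NoetherianSpace X] (E : Set X) :
    IsOpen E ↔
      ∀ Y : Set X, IsClosed Y → IsIrreducible Y → (E ∩ Y).Nonempty →
        ∃ U : Set X, IsOpen U ∧ (U ∩ Y).Nonempty ∧ U ∩ Y ⊆ E := by
  constructor
  · intro hE Y _ _ hne
    exact ⟨E, hE, hne, inter_subset_left⟩
  · intro h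
    have key : ∀ Y : Set X, IsClosed Y → IsClosed (Y \ E) := by
      refine closed_induction (fun Y => IsClosed (Y \ E)) ?_ ?_ ?_
      · show IsClosed (∅ \ E)
        rw [empty_diff]
        exact isClosed_empty
      · intro Y₁ Y₂ _ _ h1 h2
        show IsClosed ((Y₁ ∪ Y₂) \ E)
        rw [union_diff_distrib]
        exact h1.union h2
      · intro Y hY hYirr ih
        show IsClosed (Y \ E)
        by_cases hne : (E ∩ Y).Nonempty
        · obtain ⟨U, hU, hUne, hUE⟩ := h Y hY hYirr hne
          have hY' : IsClosed (Y \ U) := hY.sdiff hU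
          have hlt : Y \ U ⊂ Y := by
            refine ⟨diff_subset, fun hsub => ?_⟩
            obtain ⟨y, hyU, hyY⟩ := hUne
            exact (hsub hyY).2 hyU
          have h3 : IsClosed ((Y \ U) \ E) := ih _ hY' hlt
          have heq : Y \ E = (Y \ U) \ E := by
            ext y
            constructor
            · rintro ⟨hyY, hyE⟩
              exact ⟨⟨hyY, fun hyU => hyE (hUE ⟨hyU, hyY⟩)⟩, hyE⟩
            · rintro ⟨⟨hyY, _⟩, hyE⟩
              exact ⟨hyY, hyE⟩
          rw [heq]
          exact h3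
        · have heq : Y \ E = Y := by
            ext y
            constructor
            · exact fun hy => hy.1
            · exact fun hy => ⟨hy, fun hyE => hne ⟨y, hyE, hy⟩⟩
          rw [heq]
          exact hY
    have h4 := key univ isClosed_univ
    rw [← compl_eq_univ_diff] at h4
    exact isClosed_compl_iff.mp h4

/-- S2396 -/
theorem isConstructible_iff_forall_irreducible_closed [NoetherianSpace X] (E : Set X) :
    IsConstructible E ↔
      ∀ Y : Set X, IsClosed Y → IsIrreducible Y →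
        IsNowhereDense (Subtype.val ⁻¹' E : Set Y) ∨
          ∃ U : Set X, IsOpen U ∧ (U ∩ Y).Nonempty ∧ U ∩ Y ⊆ E := by
  constructor
  · intro hE Y _ hYirr
    obtain ⟨U, hU, hne, h | h⟩ := exists_open_subset_or_compl hE hYirr
    · exact Or.inr ⟨U, hU, hne, h⟩
    · exact Or.inl (isNowhereDense_of_inter_subset_compl hYirr.isPreirreducible hU hne h)
  · intro H
    have key : ∀ Y : Set X, IsClosed Y → IsConstructible (E ∩ Y) := by
      refine closed_induction (fun Y => IsConstructible (E ∩ Y)) ?_ ?_ ?_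
      · show IsConstructible (E ∩ ∅)
        rw [inter_empty]
        exact IsConstructible.empty
      · intro Y₁ Y₂ _ _ h1 h2
        show IsConstructible (E ∩ (Y₁ ∪ Y₂))
        rw [inter_union_distrib_left]
        exact h1.union h2
      · intro Y hY hYirr ih
        show IsConstructible (E ∩ Y)
        rcases H Y hY hYirr with hnd | ⟨U, hU, hUne, hUE⟩
        · have hsubY : closure (E ∩ Y) ⊆ Y := closure_minimal inter_subset_right hY
          have hlt : closure (E ∩ Y) ⊂ Y := by
            refine ⟨hsubY, fun hsub => ?_⟩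
            have hd : Dense (Subtype.val ⁻¹' E : Set Y) := dense_preimage_val_iff.mpr hsub
            have h5 : interior (closure (Subtype.val ⁻¹' E : Set Y)) = ∅ := hnd
            rw [hd.closure_eq, interior_univ] at h5
            obtain ⟨y, hy⟩ := hYirr.nonempty
            have h6 : (⟨y, hy⟩ : Y) ∈ (univ : Set Y) := mem_univ _
            rw [h5] at h6
            exact h6
          have h7 := ih _ isClosed_closure hlt
          have heq : E ∩ Y = E ∩ closure (E ∩ Y) := by
            ext y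
            constructor
            · rintro ⟨hyE, hyY⟩
              exact ⟨hyE, subset_closure ⟨hyE, hyY⟩⟩
            · rintro ⟨hyE, hycl⟩
              exact ⟨hyE, hsubY hycl⟩
          rw [heq]
          exact h7
        · have hY' : IsClosed (Y \ U) := hY.sdiff hU
          have hlt : Y \ U ⊂ Y := by
            refine ⟨diff_subset, fun hsub => ?_⟩
            obtain ⟨y, hyU, hyY⟩ := hUne
            exact (hsub hyY).2 hyU
          have h3 : IsConstructible (E ∩ (Y \ U)) := ih _ hY' hlt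
          have heq : E ∩ Y = (U ∩ Y) ∪ (E ∩ (Y \ U)) := by
            ext y
            constructor
            · rintro ⟨hyE, hyY⟩
              by_cases hyU : y ∈ U
              · exact Or.inl ⟨hyU, hyY⟩
              · exact Or.inr ⟨hyE, hyY, hyU⟩
            · rintro (hy | ⟨hyE, hyY, _⟩)
              · exact ⟨hUE hy, hy.2⟩
              · exact ⟨hyE, hyY⟩
          rw [heq]
          exact ((isConstructible_of_isOpen hU).inter (isConstructible_of_isClosed hY)).union h3
    have h8 := key univ isClosed_univ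
    rwa [inter_univ] at h8

/-- S2398 -/
theorem mem_nhds_iff_dense_on_irreducible_closed [NoetherianSpace X] (x : X) {E : Set X}
    (hE : IsConstructible E) :
    E ∈ nhds x ↔
      ∀ Y : Set X, IsClosed Y → IsIrreducible Y → x ∈ Y →
        Dense (Subtype.val ⁻¹' E : Set Y) := by
  constructor
  · intro hEx Y _ hYirr hxY
    obtain ⟨V, hVE, hV, hxV⟩ := mem_nhds_iff.mp hEx
    rw [dense_preimage_val_iff]
    have h1 : Y ⊆ closure (Y ∩ V) :=
      subset_closure_inter_of_isPreirreducible_of_isOpen hYirr.isPreirreducible hV ⟨x, hxY, hxV⟩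
    refine h1.trans (closure_mono ?_)
    rintro y ⟨hyY, hyV⟩
    exact ⟨hVE hyV, hyY⟩
  · intro H
    have key : ∀ Y : Set X, IsClosed Y → ∃ V : Set X, IsOpen V ∧ x ∈ V ∧ V ∩ Y ⊆ E := by
      refine closed_induction (fun Y => ∃ V : Set X, IsOpen V ∧ x ∈ V ∧ V ∩ Y ⊆ E) ?_ ?_ ?_
      · exact ⟨univ, isOpen_univ, mem_univ _, by rw [inter_empty]; exact empty_subset _⟩
      · rintro Y₁ Y₂ _ _ ⟨V₁, hV₁, hx₁, h₁⟩ ⟨V₂, hV₂, hx₂, h₂⟩
        refine ⟨V₁ ∩ V₂, hV₁.inter hV₂, ⟨hx₁, hx₂⟩, ?_⟩
        rintro y ⟨⟨hy1, hy2⟩, hy | hy⟩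
        · exact h₁ ⟨hy1, hy⟩
        · exact h₂ ⟨hy2, hy⟩
      · intro Y hY hYirr ih
        by_cases hxY : x ∈ Y
        · have hd := H Y hY hYirr hxY
          rw [dense_preimage_val_iff] at hd
          obtain ⟨U, hU, hUne, hUE⟩ := exists_open_of_subset_closure hE hYirr hd
          have hY' : IsClosed (Y \ U) := hY.sdiff hU
          have hlt : Y \ U ⊂ Y := by
            refine ⟨diff_subset, fun hsub => ?_⟩
            obtain ⟨y, hyU, hyY⟩ := hUne
            exact (hsub hyY).2 hyU
          obtain ⟨V', hV', hxV', hV'E⟩ := ih _ hY' hlt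
          refine ⟨V', hV', hxV', ?_⟩
          rintro y ⟨hyV', hyY⟩
          by_cases hyU : y ∈ U
          · exact hUE ⟨hyU, hyY⟩
          · exact hV'E ⟨hyV', hyY, hyU⟩
        · refine ⟨Yᶜ, hY.isOpen_compl, hxY, ?_⟩
          rintro y ⟨hy1, hy2⟩
          exact absurd hy2 hy1
    obtain ⟨V, hV, hxV, hVE⟩ := key univ isClosed_univ
    rw [inter_univ] at hVE
    exact mem_nhds_iff.mpr ⟨V, hVE, hV, hxV⟩

/-- S2397 -/
theorem eq_of_directed_constructible_cover [NoetherianSpace X] {ι : Type v} [Preorder ι]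
    [IsDirected ι (· ≤ ·)] [Nonempty ι] (E : ι → Set X) (hmono : Monotone E)
    (hE : ∀ a, IsConstructible (E a))
    (hirr : ∀ Y : Set X, IsClosed Y → IsIrreducible Y → ∃ a, Y ⊆ closure (E a ∩ Y)) :
    ∃ a, E a = Set.univ := by
  have key : ∀ Y : Set X, IsClosed Y → ∃ a, Y ⊆ E a := by
    refine closed_induction (fun Y => ∃ a, Y ⊆ E a) ?_ ?_ ?_
    · exact ⟨Classical.arbitrary ι, empty_subset _⟩
    · rintro Y₁ Y₂ _ _ ⟨a, ha⟩ ⟨b, hb⟩
      obtain ⟨c, hac, hbc⟩ := exists_ge_ge a b
      exact ⟨c, union_subset (ha.trans (hmono hac)) (hb.trans (hmono hbc))⟩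
    · intro Y hY hYirr ih
      obtain ⟨a, ha⟩ := hirr Y hY hYirr
      obtain ⟨U, hU, hUne, hUE⟩ := exists_open_of_subset_closure (hE a) hYirr ha
      have hY' : IsClosed (Y \ U) := hY.sdiff hU
      have hlt : Y \ U ⊂ Y := by
        refine ⟨diff_subset, fun hsub => ?_⟩
        obtain ⟨y, hyU, hyY⟩ := hUne
        exact (hsub hyY).2 hyU
      obtain ⟨b, hb⟩ := ih _ hY' hlt
      obtain ⟨c, hac, hbc⟩ := exists_ge_ge a b
      refine ⟨c, fun y hyY => ?_⟩
      by_cases hyU : y ∈ U
      · exact hmono hac (hUE ⟨hyU, hyY⟩)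
      · exact hmono hbc (hb ⟨hyY, hyU⟩)
  obtain ⟨a, ha⟩ := key univ isClosed_univ
  exact ⟨a, eq_univ_of_univ_subset ha⟩

/-- S2433 -/
theorem eq_of_directed_constructible_cover_of_quasiSober [NoetherianSpace X] [QuasiSober X]
    {ι : Type v} [Preorder ι] [IsDirected ι (· ≤ ·)] [Nonempty ι] (E : ι → Set X)
    (hmono : Monotone E) (hE : ∀ a, IsConstructible (E a)) (hcov : ⋃ a, E a = Set.univ) :
    ∃ a, E a = Set.univ := by
  refine eq_of_directed_constructible_cover E hmono hE ?_
  intro Y hY hYirr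
  obtain ⟨ξ, hξ⟩ := QuasiSober.sober hYirr hY
  have h1 : ξ ∈ ⋃ a, E a := by
    rw [hcov]
    exact mem_univ _
  obtain ⟨a, ha⟩ := mem_iUnion.mp h1
  exact ⟨a, subset_closure_of_genericPoint hξ ha⟩

/-- S2400 -/
theorem constructible_function_iff [NoetherianSpace X] {T : Type v} (h : X → T) :
    ((∀ t, IsConstructible (h ⁻¹' {t})) ∧ (Set.range h).Finite) ↔
      ∀ Y : Set X, IsClosed Y → IsIrreducible Y →
        ∃ U : Set X, IsOpen U ∧ (U ∩ Y).Nonempty ∧ ∀ a ∈ U ∩ Y, ∀ b ∈ U ∩ Y, h a = h b := by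
  classical
  constructor
  · rintro ⟨hcon, hfin⟩ Y _ hYirr
    let F : Finset (Set X) := hfin.toFinset.image (fun t => closure (h ⁻¹' {t} ∩ Y))
    have hcl : ∀ z ∈ F, IsClosed z := by
      intro z hz
      obtain ⟨t, _, rfl⟩ := Finset.mem_image.mp hz
      exact isClosed_closure
    have hcov : Y ⊆ ⋃₀ (F : Set (Set X)) := by
      intro y hy
      refine mem_sUnion.mpr ⟨closure (h ⁻¹' {h y} ∩ Y), ?_, subset_closure ⟨rfl, hy⟩⟩
      exact Finset.mem_coe.mpr (Finset.mem_image.mpr
        ⟨h y, hfin.mem_toFinset.mpr (mem_range_self y), rfl⟩)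
    obtain ⟨z, hz, hYz⟩ := (isIrreducible_iff_sUnion_isClosed.mp hYirr) F hcl hcov
    obtain ⟨t, _, rfl⟩ := Finset.mem_image.mp hz
    obtain ⟨U, hU, hne, hUE⟩ := exists_open_of_subset_closure (hcon t) hYirr hYz
    refine ⟨U, hU, hne, fun a ha b hb => ?_⟩
    have h1 : h a = t := hUE ha
    have h2 : h b = t := hUE hb
    rw [h1, h2]
  · intro H
    have key : ∀ Y : Set X, IsClosed Y →
        (h '' Y).Finite ∧ ∀ t, IsConstructible (h ⁻¹' {t} ∩ Y) := by
      refine closed_induction
        (fun Y => (h '' Y).Finite ∧ ∀ t, IsConstructible (h ⁻¹' {t} ∩ Y)) ?_ ?_ ?_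
      · refine ⟨by rw [image_empty]; exact finite_empty, fun t => ?_⟩
        rw [inter_empty]
        exact IsConstructible.empty
      · rintro Y₁ Y₂ _ _ ⟨f1, c1⟩ ⟨f2, c2⟩
        refine ⟨by rw [image_union]; exact f1.union f2, fun t => ?_⟩
        rw [inter_union_distrib_left]
        exact (c1 t).union (c2 t)
      · intro Y hY hYirr ih
        obtain ⟨U, hU, hUne, hconst⟩ := H Y hY hYirr
        obtain ⟨y₀, hy₀⟩ := hUne
        have hY' : IsClosed (Y \ U) := hY.sdiff hU
        have hlt : Y \ U ⊂ Y := by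
          refine ⟨diff_subset, fun hsub => ?_⟩
          exact (hsub hy₀.2).2 hy₀.1
        obtain ⟨f', c'⟩ := ih _ hY' hlt
        have hUY : IsConstructible (U ∩ Y) :=
          (isConstructible_of_isOpen hU).inter (isConstructible_of_isClosed hY)
        refine ⟨?_, fun t => ?_⟩
        · refine (f'.insert (h y₀)).subset ?_
          rintro _ ⟨y, hyY, rfl⟩
          by_cases hyU : y ∈ U
          · exact Or.inl (hconst y ⟨hyU, hyY⟩ y₀ hy₀)
          · exact Or.inr ⟨y, ⟨hyY, hyU⟩, rfl⟩
        · by_cases ht : t = h y₀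
          · have heq : h ⁻¹' {t} ∩ Y = (h ⁻¹' {t} ∩ (Y \ U)) ∪ (U ∩ Y) := by
              ext y
              constructor
              · rintro ⟨hyt, hyY⟩
                by_cases hyU : y ∈ U
                · exact Or.inr ⟨hyU, hyY⟩
                · exact Or.inl ⟨hyt, hyY, hyU⟩
              · rintro (⟨hyt, hyY, _⟩ | hy)
                · exact ⟨hyt, hyY⟩
                · refine ⟨?_, hy.2⟩
                  show h y = t
                  rw [ht]
                  exact hconst y hy y₀ hy₀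
            rw [heq]
            exact (c' t).union hUY
          · have heq : h ⁻¹' {t} ∩ Y = h ⁻¹' {t} ∩ (Y \ U) := by
              ext y
              constructor
              · rintro ⟨hyt, hyY⟩
                refine ⟨hyt, hyY, fun hyU => ht ?_⟩
                have h1 : h y = t := hyt
                rw [← h1]
                exact hconst y ⟨hyU, hyY⟩ y₀ hy₀
              · rintro ⟨hyt, hyY, _⟩
                exact ⟨hyt, hyY⟩
            rw [heq]
            exact c' t
    obtain ⟨f, c⟩ := key univ isClosed_univ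
    refine ⟨fun t => ?_, ?_⟩
    · have h1 := c t
      rwa [inter_univ] at h1
    · rwa [image_univ] at f

/-- S2401 -/
theorem constructible_function_of_fibres_of_quasiSober [NoetherianSpace X] [QuasiSober X]
    {T : Type v} (h : X → T) (hfib : ∀ t, IsConstructible (h ⁻¹' {t})) :
    (Set.range h).Finite := by
  refine ((constructible_function_iff h).mpr ?_).2
  intro Y hY hYirr
  obtain ⟨ξ, hξ⟩ := QuasiSober.sober hYirr hY
  have h1 : Y ⊆ closure (h ⁻¹' {h ξ} ∩ Y) := subset_closure_of_genericPoint hξ rfl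
  obtain ⟨U, hU, hne, hUE⟩ := exists_open_of_subset_closure (hfib (h ξ)) hYirr h1
  refine ⟨U, hU, hne, fun a ha b hb => ?_⟩
  have h2 : h a = h ξ := hUE ha
  have h3 : h b = h ξ := hUE hb
  rw [h2, h3]

/-- S2402 -/
theorem upperSemicontinuous_iff_antitone_specialization [NoetherianSpace X] [QuasiSober X]
    {T : Type v} [LinearOrder T] (h : X → T)
    (hc : (∀ t, IsConstructible (h ⁻¹' {t})) ∧ (Set.range h).Finite) :
    UpperSemicontinuous h ↔ ∀ x x' : X, x' ⤳ x → h x' ≤ h x := by
  constructor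
  · intro husc x x' hspec
    by_contra hlt
    rw [not_le] at hlt
    have h1 : ∀ᶠ z in nhds x, h z < h x' := husc x (h x') hlt
    have h2 : {z | h z < h x'} ∈ nhds x' := hspec h1
    have h3 : x' ∈ {z | h z < h x'} := mem_of_mem_nhds h2
    exact lt_irrefl _ h3
  · intro H x y hxy
    show {z | h z < y} ∈ nhds x
    have hEc : IsConstructible {z | h z < y} := by
      have heq : {z | h z < y} = ⋃ t ∈ (Set.range h ∩ Set.Iio y), h ⁻¹' {t} := by
        ext z
        simp only [mem_setOf_eq, mem_iUnion, mem_preimage, mem_singleton_iff, exists_prop]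
        constructor
        · intro hz
          exact ⟨h z, ⟨mem_range_self z, hz⟩, rfl⟩
        · rintro ⟨t, ⟨_, ht⟩, rfl⟩
          exact ht
      rw [heq]
      exact IsConstructible.biUnion (hc.2.subset inter_subset_left) (fun t _ => hc.1 t)
    rw [mem_nhds_iff_dense_on_irreducible_closed x hEc]
    intro Y hY hYirr hxY
    rw [dense_preimage_val_iff]
    obtain ⟨ξ, hξ⟩ := QuasiSober.sober hYirr hY
    have hspec : ξ ⤳ x := hξ.specializes hxY
    have hle : h ξ ≤ h x := H x ξ hspec
    exact subset_closure_of_genericPoint hξ (lt_of_le_of_lt hle hxy)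

end Groth.Agent.Lib.Helper7.ConstrNoeth
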