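import Mathlib
set_option autoImplicit false
universe u
open CategoryTheory AlgebraicGeometry Opposite TopologicalSpace

namespace Groth.Agent.Lib.Helper7

theorem eq_one_of_isUnit_of_idem {R : Type*} [Monoid R] {e : R} (he : IsIdempotentElem e)
    (hu : IsUnit e) : e = 1 := by
  have : e * e = e * 1 := by rw [mul_one]; exact he
  exact hu.mul_left_cancel this

theorem idem_of_preconnected (Z : LocallyRingedSpace.{u}) [PreconnectedSpace Z]
    (e : Z.presheaf.obj (op ⊤)) (he : IsIdempotentElem e) : e = 0 ∨ e = 1 := by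
  have hadd : ∀ x : Z, Z.presheaf.germ ⊤ x trivial e + Z.presheaf.germ ⊤ x trivial (1 - e) = 1 := by
    intro x
    rw [← map_add, add_sub_cancel, map_one]
  have hmul : ∀ x : Z, Z.presheaf.germ ⊤ x trivial e * Z.presheaf.germ ⊤ x trivial (1 - e) = 0 := by
    intro x
    rw [← map_mul, mul_sub, mul_one, he.eq, sub_self, map_zero]
  have hcompl : (Z.toRingedSpace.basicOpen e).1ᶜ =
      (Z.toRingedSpace.basicOpen (1 - e)).1 := by
    ext x
    show ¬ (x ∈ Z.toRingedSpace.basicOpen e) ↔ x ∈ Z.toRingedSpace.basicOpen (1 - e)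
    rw [RingedSpace.mem_basicOpen Z.toRingedSpace e x trivial,
      RingedSpace.mem_basicOpen Z.toRingedSpace (U := ⊤) (1 - e) x trivial]
    constructor
    · intro h
      exact (IsLocalRing.isUnit_or_isUnit_of_add_one (hadd x)).resolve_left h
    · intro h2 h1
      have := h1.mul h2
      rw [hmul x] at this
      exact not_isUnit_zero this
  have hU : @IsClopen Z _ (Z.toRingedSpace.basicOpen e).1 := by
    refine ⟨?_, (Z.toRingedSpace.basicOpen e).isOpen⟩
    rw [← isOpen_compl_iff, hcompl]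
    exact (Z.toRingedSpace.basicOpen (1 - e)).isOpen
  rcases isClopen_iff.mp hU with h | h
  · left
    have hu : IsUnit (1 - e) := by
      apply Z.toRingedSpace.isUnit_of_isUnit_germ ⊤ (1 - e)
      intro x hx
      have hx' : x ∈ (Z.toRingedSpace.basicOpen e).1ᶜ := by
        rw [h]; exact id
      rw [hcompl] at hx'
      exact (RingedSpace.mem_basicOpen _ _ x hx).mp hx'
    have := eq_one_of_isUnit_of_idem he.one_sub hu
    exact (sub_eq_self.mp this)
  · right
    have hu : IsUnit e := by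
      apply Z.toRingedSpace.isUnit_of_isUnit_germ ⊤ e
      intro x hx
      have hx' : x ∈ (Z.toRingedSpace.basicOpen e).1 := by rw [h]; trivial
      exact (RingedSpace.mem_basicOpen _ _ x hx).mp hx'
    exact eq_one_of_isUnit_of_idem he hu

theorem preconnected_of_idem (Z : LocallyRingedSpace.{u})
    (h : ∀ e : Z.presheaf.obj (op ⊤), IsIdempotentElem e → e = 0 ∨ e = 1) : PreconnectedSpace Z := by
  rw [preconnectedSpace_iff_clopen]
  intro s hs
  let U₁ : Opens Z := ⟨s, hs.isOpen⟩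
  let U₂ : Opens Z := ⟨sᶜ, hs.compl.isOpen⟩
  have hinf : U₁ ⊓ U₂ = ⊥ := by
    ext x
    simp [U₁, U₂]
  have hsup : (⊤ : Opens Z) ≤ U₁ ⊔ U₂ := by
    intro x _
    by_cases hx : x ∈ s
    · exact Or.inl hx
    · exact Or.inr hx
  have hsub : Subsingleton (Z.sheaf.1.obj (op (U₁ ⊓ U₂))) :=
    CommRingCat.subsingleton_of_isTerminal (Z.sheaf.isTerminalOfEqEmpty hinf)
  let x : (CommRingCat.of <| RingHom.eqLocus
      (RingHom.comp (Z.sheaf.obj.map (homOfLE inf_le_left : U₁ ⊓ U₂ ⟶ U₁).op).hom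
        (RingHom.fst (Z.sheaf.obj.obj <| op U₁) (Z.sheaf.obj.obj <| op U₂)))
      (RingHom.comp (Z.sheaf.obj.map (homOfLE inf_le_right : U₁ ⊓ U₂ ⟶ U₂).op).hom
        (RingHom.snd (Z.sheaf.obj.obj <| op U₁) (Z.sheaf.obj.obj <| op U₂)))) :=
    ⟨((1 : Z.sheaf.obj.obj (op U₁)), (0 : Z.sheaf.obj.obj (op U₂))), Subsingleton.elim _ _⟩
  let e' := (Z.sheaf.objSupIsoProdEqLocus U₁ U₂).inv x
  let e : Z.presheaf.obj (op ⊤) := Z.sheaf.1.map (homOfLE hsup).op e'
  have he1 : Z.presheaf.map (homOfLE le_top : U₁ ⟶ ⊤).op e = 1 := by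
    have := Z.sheaf.objSupIsoProdEqLocus_inv_fst U₁ U₂ x
    show Z.presheaf.map (homOfLE le_top : U₁ ⟶ ⊤).op (Z.presheaf.map (homOfLE hsup).op e') = 1
    rw [← CommRingCat.comp_apply, ← Functor.map_comp, ← op_comp, homOfLE_comp]
    exact this
  have he2 : Z.presheaf.map (homOfLE le_top : U₂ ⟶ ⊤).op e = 0 := by
    have := Z.sheaf.objSupIsoProdEqLocus_inv_snd U₁ U₂ x
    show Z.presheaf.map (homOfLE le_top : U₂ ⟶ ⊤).op (Z.presheaf.map (homOfLE hsup).op e') = 0
    rw [← CommRingCat.comp_apply, ← Functor.map_comp, ← op_comp, homOfLE_comp]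
    exact this
  have hidem : IsIdempotentElem e := by
    refine Z.sheaf.eq_of_locally_eq₂ (homOfLE le_top : U₁ ⟶ ⊤) (homOfLE le_top : U₂ ⟶ ⊤) hsup
      (e * e) e ?_ ?_
    · show Z.presheaf.map (homOfLE le_top : U₁ ⟶ ⊤).op (e * e) =
        Z.presheaf.map (homOfLE le_top : U₁ ⟶ ⊤).op e
      rw [map_mul, he1, mul_one]
    · show Z.presheaf.map (homOfLE le_top : U₂ ⟶ ⊤).op (e * e) =
        Z.presheaf.map (homOfLE le_top : U₂ ⟶ ⊤).op e
      rw [map_mul, he2, mul_zero]
  rcases h e hidem with h0 | h1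
  · left
    rw [h0, map_zero] at he1
    by_contra hne
    obtain ⟨y, hy⟩ := Set.nonempty_iff_ne_empty.mpr hne
    have := @LocallyRingedSpace.component_nontrivial Z U₁ ⟨⟨y, hy⟩⟩
    exact zero_ne_one he1
  · right
    rw [h1, map_one] at he2
    by_contra hne
    obtain ⟨y, hy⟩ : (sᶜ).Nonempty := by rwa [Set.nonempty_compl]
    have := @LocallyRingedSpace.component_nontrivial Z U₂ ⟨⟨y, hy⟩⟩
    exact one_ne_zero he2

theorem preconnectedSpace_iff_idem (Z : LocallyRingedSpace.{u}) :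
    PreconnectedSpace Z ↔
      ∀ e : Z.presheaf.obj (op ⊤), IsIdempotentElem e → e = 0 ∨ e = 1 :=
  ⟨fun _ e he => idem_of_preconnected Z e he, preconnected_of_idem Z⟩

end Groth.Agent.Lib.Helper7
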