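import Groth.Agent.Lib.Helper23.GeomH0
import Groth.Agent.Lib.Helper23.CurveD
import Groth.Agent.Lib.Helper4.CM
import Groth.Agent.Lib.Helper4.Depth
import Groth.Agent.Lib.Helper7.LRSConnected
import Groth.Agent.Lib.Lead.ZeroDimPts
import Groth.Agent.Lib.Helper3.InvGen

/-!
# CurveCM: a proper one-dimensional scheme over `k` with `H⁰(O) = k` is connected, Cohen–Macaulay
and equidimensional
-/
set_option autoImplicit false
universe u
open CategoryTheory CategoryTheory.Limits Opposite TopologicalSpace AlgebraicGeometry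
open Scheme.Modules

noncomputable section

namespace Groth.Agent.Lib.Helper7.CurveCM

open Groth.Agent.Lib.Helper3 Groth.Agent.Lib.Helper3.QCSec Groth.Agent.Lib.Helper3.InvGen

section Top

variable {T : Type*} [TopologicalSpace T]

attribute [local instance] specializationPreorder

/-- The dimension of a sober space is the supremum of the coheights of its points. -/
theorem topologicalKrullDim_eq_iSup_coheight' [QuasiSober T] [T0Space T] :
    topologicalKrullDim T = ⨆ t : T, ((Order.coheight t : ℕ∞) : WithBot ℕ∞) := by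
  unfold topologicalKrullDim
  rw [Order.krullDim_eq_of_orderIso (irreducibleSetEquivPoints (α := T))]
  exact Order.krullDim_eq_iSup_coheight

end Top

lemma enat_eq_zero_of_add_one_le_one (a : ℕ∞) (h : a + 1 ≤ 1) : a = 0 := by
  rcases eq_or_ne a ⊤ with rfl | ha
  · simp at h
  · lift a to ℕ using ha
    norm_cast at h ⊢
    omega

lemma withBot_enat_le_zero_of_lt_one (d : WithBot ℕ∞) (h : d < 1) : d ≤ 0 := by
  induction d using WithBot.recBotCoe with
  | bot => exact bot_le
  | coe a =>
    have h' : a < 1 := by exact_mod_cast h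
    have h0 : a = 0 := Order.lt_one_iff.mp h'
    rw [h0]
    exact le_of_eq rfl

variable {X : Scheme.{u}}

theorem ringKrullDim_stalk_le_topologicalKrullDim (x : X) :
    ringKrullDim (X.presheaf.stalk x) ≤ topologicalKrullDim X := by
  rw [ringKrullDim_stalk_eq_coheight, topologicalKrullDim_eq_iSup_coheight']
  exact le_iSup (fun t : X => ((Order.coheight t : ℕ∞) : WithBot ℕ∞)) x

lemma singleton_ne_univ (hdim : topologicalKrullDim X = 1) (x : X) :
    ({x} : Set X) ≠ Set.univ := by
  intro h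
  haveI : Subsingleton X := ⟨fun a b => by
    have ha : a ∈ ({x} : Set X) := h ▸ Set.mem_univ a
    have hb : b ∈ ({x} : Set X) := h ▸ Set.mem_univ b
    rw [Set.mem_singleton_iff] at ha hb
    rw [ha, hb]⟩
  haveI : Subsingleton (IrreducibleCloseds X) := ⟨fun Z1 Z2 => by
    apply IrreducibleCloseds.ext
    ext y
    obtain ⟨z1, hz1⟩ := Z1.isIrreducible.nonempty
    obtain ⟨z2, hz2⟩ := Z2.isIrreducible.nonempty
    constructor
    · intro _
      rwa [Subsingleton.elim y z2]
    · intro _
      rwa [Subsingleton.elim y z1]⟩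
  have h0 : topologicalKrullDim X ≤ 0 := Order.krullDim_nonpos_of_subsingleton
  rw [hdim] at h0
  exact absurd h0 (not_le.mpr zero_lt_one)

section Glue

/-- the two-element cover -/
def W2 (U₁ U₂ : X.Opens) : ULift.{u} Bool → X.Opens
  | ⟨true⟩ => U₁
  | ⟨false⟩ => U₂

/-- a pair of sections as a family -/
def a2 (M : X.Modules) {U₁ U₂ : X.Opens} (s₁ : Γ(M, U₁)) (s₂ : Γ(M, U₂)) :
    ∀ b : ULift.{u} Bool, Γ(M, W2 U₁ U₂ b)
  | ⟨true⟩ => s₁
  | ⟨false⟩ => s₂

theorem exists_glue_two (M : X.Modules) {U₁ U₂ : X.Opens} (hcov : (⊤ : X.Opens) ≤ U₁ ⊔ U₂)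
    (s₁ : Γ(M, U₁)) (s₂ : Γ(M, U₂))
    (h : res M (inf_le_left : U₁ ⊓ U₂ ≤ U₁) s₁ = res M (inf_le_right : U₁ ⊓ U₂ ≤ U₂) s₂) :
    ∃ s : Γ(M, ⊤), res M (le_top : U₁ ≤ ⊤) s = s₁ ∧ res M (le_top : U₂ ≤ ⊤) s = s₂ := by
  have hW : ∀ b, W2 U₁ U₂ b ≤ ⊤ := fun _ => le_top
  have hcov' : (⊤ : X.Opens) ≤ ⨆ b, W2 U₁ U₂ b := by
    refine hcov.trans (sup_le ?_ ?_)
    · exact le_iSup (W2 U₁ U₂) ⟨true⟩
    · exact le_iSup (W2 U₁ U₂) ⟨false⟩
  obtain ⟨s, hs⟩ := sec_glue M (W2 U₁ U₂) ⊤ hW hcov' (a2 M s₁ s₂) (by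
    rintro ⟨_ | _⟩ ⟨_ | _⟩
    · rfl
    · change res M (inf_le_left : U₂ ⊓ U₁ ≤ U₂) s₂ = res M (inf_le_right : U₂ ⊓ U₁ ≤ U₁) s₁
      have hle : U₂ ⊓ U₁ ≤ U₁ ⊓ U₂ := le_of_eq (inf_comm _ _)
      have h2 := congrArg (res M hle) h
      rw [res_res, res_res] at h2
      exact h2.symm
    · exact h
    · rfl)
  exact ⟨s, hs ⟨true⟩, hs ⟨false⟩⟩

end Glue

/-- a function on a neighbourhood of a closed point vanishing off the point is zero, if all global
functions are zero or units and the space is not a single point. -/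
theorem eq_zero_of_vanish_off_point (hΓ : ∀ t : Γ(X, ⊤), t = 0 ∨ IsUnit t)
    (x : X) (hxc : IsClosed ({x} : Set X)) (hne : ({x} : Set X) ≠ Set.univ) (U : X.Opens)
    (hxU : x ∈ U) (s : Γ(X, U))
    (hs : ∀ (y : X) (hy : y ∈ U), y ≠ x → X.presheaf.germ U y hy s = 0) : s = 0 := by
  let V : X.Opens := ⟨({x} : Set X)ᶜ, hxc.isOpen_compl⟩
  have hcov : (⊤ : X.Opens) ≤ U ⊔ V := by
    intro y _
    by_cases hy : y = x
    · exact Or.inl (hy ▸ hxU)
    · exact Or.inr hy
  have hov : rres X (inf_le_left : U ⊓ V ≤ U) s = 0 := by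
    apply TopCat.Presheaf.section_ext X.sheaf (U ⊓ V)
    intro y hy
    have hz0 : (X.presheaf.germ (U ⊓ V) y hy).hom 0 = 0 := map_zero _
    exact ((TopCat.Presheaf.germ_res_apply X.presheaf
      (homOfLE (inf_le_left : U ⊓ V ≤ U)) y hy s).trans (hs y hy.1 hy.2)).trans hz0.symm
  have hz : rres X (inf_le_right : U ⊓ V ≤ V) (0 : Γ(X, V)) = 0 :=
    map_zero (X.presheaf.map (homOfLE (inf_le_right : U ⊓ V ≤ V)).op).hom
  obtain ⟨t, ht1, ht2⟩ := exists_glue_two (Coh.structureModule X) hcov (ofFun U s) (ofFun V 0)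
    (hov.trans hz.symm)
  have e1 : rres X (le_top : U ≤ ⊤) (toFun ⊤ t) = s := ht1
  have e2 : rres X (le_top : V ≤ ⊤) (toFun ⊤ t) = 0 := ht2
  rcases hΓ (toFun ⊤ t) with h0 | hu
  · rw [h0] at e1
    rw [← e1]
    exact map_zero (X.presheaf.map (homOfLE (le_top : U ≤ ⊤)).op).hom
  · exfalso
    have hu' : IsUnit (0 : Γ(X, V)) := e2 ▸ rres_isUnit (le_top : V ≤ ⊤) hu
    have hV : V = ⊥ := by
      rw [← X.basicOpen_of_isUnit hu', X.basicOpen_zero]
    apply hne
    have h3 : (({x} : Set X)ᶜ) = ∅ := congrArg (fun W : X.Opens => (W : Set X)) hV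
    exact Set.compl_empty_iff.mp h3

/-- at a closed point of such a scheme the maximal ideal is not an associated prime. -/
theorem maximalIdeal_notMem_associatedPrimes [IsLocallyNoetherian X]
    (hΓ : ∀ t : Γ(X, ⊤), t = 0 ∨ IsUnit t) (x : X) (hxc : IsClosed ({x} : Set X))
    (hne : ({x} : Set X) ≠ Set.univ) :
    IsLocalRing.maximalIdeal (X.presheaf.stalk x) ∉
      associatedPrimes (X.presheaf.stalk x) (X.presheaf.stalk x) := by
  intro hass
  obtain ⟨U, hU, hxU⟩ : ∃ U : X.Opens, IsAffineOpen U ∧ x ∈ U := by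
    obtain ⟨U, hU, hxU, -⟩ := Opens.isBasis_iff_nbhd.mp X.isBasis_affineOpens
      (show x ∈ (⊤ : X.Opens) from trivial)
    exact ⟨U, hU, hxU⟩
  haveI : IsNoetherianRing Γ(X, U) := IsLocallyNoetherian.component_noetherian ⟨U, hU⟩
  letI : Algebra Γ(X, U) (X.presheaf.stalk x) :=
    TopCat.Presheaf.algebra_section_stalk X.presheaf ⟨x, hxU⟩
  haveI hloc : IsLocalization.AtPrime (X.presheaf.stalk x)
      (hU.primeIdealOf ⟨x, hxU⟩).asIdeal := hU.isLocalization_stalk ⟨x, hxU⟩
  have h1 := Module.associatedPrimes.comap_mem_associatedPrimes_of_mem_associatedPrimes_of_isLocalizedModule_of_fg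
    (hU.primeIdealOf ⟨x, hxU⟩).asIdeal.primeCompl
    (Algebra.linearMap Γ(X, U) (X.presheaf.stalk x)) _ hass
    ((isNoetherianRing_iff_ideal_fg Γ(X, U)).mp inferInstance _)
  have h2 : (IsLocalRing.maximalIdeal (X.presheaf.stalk x)).comap
      (algebraMap Γ(X, U) (X.presheaf.stalk x)) = (hU.primeIdealOf ⟨x, hxU⟩).asIdeal :=
    IsLocalization.AtPrime.under_maximalIdeal (X.presheaf.stalk x)
      (hU.primeIdealOf ⟨x, hxU⟩).asIdeal inferInstance
  rw [h2] at h1
  obtain ⟨hpp, s, hs⟩ := isAssociatedPrime_iff.mp h1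
  have hs0 : s = 0 := by
    refine eq_zero_of_vanish_off_point hΓ x hxc hne U hxU s (fun y hy hyx => ?_)
    have hpq : ¬ (hU.primeIdealOf ⟨x, hxU⟩).asIdeal ≤ (hU.primeIdealOf ⟨y, hy⟩).asIdeal := by
      intro hle
      apply hyx
      have h3 : hU.primeIdealOf ⟨x, hxU⟩ ⤳ hU.primeIdealOf ⟨y, hy⟩ :=
        (PrimeSpectrum.le_iff_specializes _ _).mp hle
      have h4 := h3.map hU.fromSpec.continuous
      rw [hU.fromSpec_primeIdealOf, hU.fromSpec_primeIdealOf] at h4
      -- x ⤳ y with x closed gives y = x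
      have h5 : y ∈ closure ({x} : Set X) := specializes_iff_mem_closure.mp h4
      rw [hxc.closure_eq] at h5
      exact h5
    obtain ⟨a, hap, haq⟩ := SetLike.not_le_iff_exists.mp hpq
    have has : a * s = 0 := by
      rw [hs, Submodule.mem_colon_singleton, Submodule.mem_bot] at hap
      simpa using hap
    have hq : (hU.primeIdealOf ⟨y, hy⟩).asIdeal =
        (IsLocalRing.maximalIdeal (X.presheaf.stalk y)).comap (X.presheaf.germ U y hy).hom := by
      rw [hU.primeIdealOf_eq_map_closedPoint ⟨y, hy⟩]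
      rfl
    rw [hq, Ideal.mem_comap] at haq
    have hunit : IsUnit ((X.presheaf.germ U y hy).hom a) := IsLocalRing.notMem_maximalIdeal.mp haq
    have h6 : (X.presheaf.germ U y hy).hom a * (X.presheaf.germ U y hy).hom s = 0 := by
      rw [← map_mul, has, map_zero]
    exact (hunit.mul_right_eq_zero).mp h6
  apply hpp.ne_top
  rw [hs, hs0]
  ext a
  simp [Submodule.mem_colon_singleton]

section Main

variable (k : Type u) [Field k] (X : Scheme.{u}) [X.Over (Spec (CommRingCat.of k))]
  [IsProper (X ↘ Spec (CommRingCat.of k))]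

lemma global_zero_or_unit (h0 : Module.finrank k (Coh.HH X (Coh.structureModule X) 0) = 1)
    (t : Γ(X, ⊤)) : t = 0 ∨ IsUnit t := by
  letI : Algebra k Γ(X, ⊤) := (Coh.toGlobal (X ↘ Spec (CommRingCat.of k))).toAlgebra
  have e := Groth.Agent.Lib.Helper23.GeomH0.H0structEquiv k X
  have h1 : Module.finrank k Γ(X, ⊤) = 1 := by
    rw [← e.finrank_eq]
    exact h0
  have hnt : Nontrivial Γ(X, ⊤) :=
    Module.nontrivial_of_finrank_pos (R := k) (by rw [h1]; exact one_pos)
  have h10 : (1 : Γ(X, ⊤)) ≠ 0 := one_ne_zero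
  obtain ⟨c, hc⟩ := (finrank_eq_one_iff_of_nonzero' (1 : Γ(X, ⊤)) h10).mp h1 t
  by_cases hc0 : c = 0
  · left
    rw [← hc, hc0, zero_smul]
  · right
    rw [← hc, ← Algebra.algebraMap_eq_smul_one]
    exact (IsUnit.mk0 c hc0).map (algebraMap k Γ(X, ⊤))

theorem connected (hdim : topologicalKrullDim X = 1)
    (h0 : Module.finrank k (Coh.HH X (Coh.structureModule X) 0) = 1) : ConnectedSpace X := by
  have hpre : PreconnectedSpace X := by
    apply Groth.Agent.Lib.Helper7.preconnected_of_idem X.toLocallyRingedSpace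
    intro e he
    rcases global_zero_or_unit k X h0 e with h | h
    · exact Or.inl h
    · right
      exact h.mul_left_cancel (by rw [he.eq, mul_one])
  have hne : Nonempty X := by
    by_contra hemp
    rw [not_nonempty_iff] at hemp
    haveI : IsEmpty (IrreducibleCloseds X) := ⟨fun Z => by
      obtain ⟨z, _⟩ := Z.isIrreducible.nonempty
      exact hemp.false z⟩
    have h1 : topologicalKrullDim X = ⊥ := Order.krullDim_eq_bot
    rw [h1] at hdim
    exact absurd hdim (by simp)
  exact { toPreconnectedSpace := hpre, toNonempty := hne }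

theorem cm_stalk (hdim : topologicalKrullDim X = 1)
    (h0 : Module.finrank k (Coh.HH X (Coh.structureModule X) 0) = 1) (x : X) :
    LocCoh.IsCohenMacaulayLocalRing (X.presheaf.stalk x) := by
  haveI := Groth.Agent.Lib.Helper23.Curve.isNoetherian_of_isProper k X
  have hΓ := global_zero_or_unit k X h0
  have hdimR : ringKrullDim (X.presheaf.stalk x) ≤ 1 :=
    (ringKrullDim_stalk_le_topologicalKrullDim x).trans hdim.le
  have hle := Groth.Agent.Lib.Helper4.depth_le_supportDim (R := X.presheaf.stalk x)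
    (M := X.presheaf.stalk x)
  rw [Module.supportDim_self_eq_ringKrullDim] at hle
  refine { supportDim_eq_depth := ?_ }
  rw [Module.supportDim_self_eq_ringKrullDim]
  by_cases hxc : IsClosed ({x} : Set X)
  · have hass := maximalIdeal_notMem_associatedPrimes hΓ x hxc (singleton_ne_univ hdim x)
    have hd1 : LocCoh.depth (X.presheaf.stalk x) (X.presheaf.stalk x) ≠ 0 := fun h =>
      hass (Groth.Agent.Lib.Helper4.depth_eq_zero_iff_maximalIdeal_mem_associatedPrimes.mp h)
    have h1 : (1 : ℕ∞) ≤ LocCoh.depth (X.presheaf.stalk x) (X.presheaf.stalk x) :=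
      Order.one_le_iff_pos.mpr (pos_iff_ne_zero.mpr hd1)
    apply le_antisymm
    · exact hdimR.trans (by exact_mod_cast h1)
    · exact hle
  · have hdim0 : ringKrullDim (X.presheaf.stalk x) ≤ 0 := by
      have hcl : closure ({x} : Set X) ≠ {x} := fun h => hxc (h ▸ isClosed_closure)
      obtain ⟨y, hy, hyx⟩ : ∃ y ∈ closure ({x} : Set X), y ≠ x := by
        by_contra hcon
        push Not at hcon
        exact hcl (Set.Subset.antisymm (fun y hy => hcon y hy) subset_closure)
      have hspec : x ⤳ y := specializes_iff_mem_closure.mpr hy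
      have hlt : y < x := by
        refine lt_of_le_not_ge hspec ?_
        intro hxy
        exact hyx ((hspec.antisymm hxy).eq.symm)
      have h1 := Order.coheight_add_one_le hlt
      have h2 : ((Order.coheight y : ℕ∞) : WithBot ℕ∞) ≤ 1 := by
        rw [← ringKrullDim_stalk_eq_coheight]
        exact (ringKrullDim_stalk_le_topologicalKrullDim y).trans hdim.le
      have h3 : Order.coheight y ≤ 1 := by exact_mod_cast h2
      have h4 : Order.coheight x = 0 := enat_eq_zero_of_add_one_le_one _ (h1.trans h3)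
      rw [ringKrullDim_stalk_eq_coheight, h4]
      exact le_of_eq rfl
    have hd0 : ((LocCoh.depth (X.presheaf.stalk x) (X.presheaf.stalk x) : ℕ∞) : WithBot ℕ∞) ≤ 0 :=
      hle.trans hdim0
    have hd0' : LocCoh.depth (X.presheaf.stalk x) (X.presheaf.stalk x) = 0 := by
      have h5 : LocCoh.depth (X.presheaf.stalk x) (X.presheaf.stalk x) ≤ 0 := by exact_mod_cast hd0
      exact le_antisymm h5 zero_le
    rw [hd0']
    exact le_antisymm hdim0 ringKrullDim_nonneg_of_nontrivial

theorem dim_component (hdim : topologicalKrullDim X = 1)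
    (h0 : Module.finrank k (Coh.HH X (Coh.structureModule X) 0) = 1) (Z : Set X)
    (hZ : Z ∈ irreducibleComponents X) : topologicalKrullDim Z = 1 := by
  haveI := Groth.Agent.Lib.Helper23.Curve.isNoetherian_of_isProper k X
  haveI hconn := connected k X hdim h0
  apply le_antisymm
  · exact (topologicalKrullDim_subspace_le X Z).trans hdim.le
  · by_contra hlt
    have hle0 : topologicalKrullDim Z ≤ 0 :=
      withBot_enat_le_zero_of_lt_one _ (not_le.mp hlt)
    have hZcl : IsClosed Z := isClosed_of_mem_irreducibleComponents Z hZ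
    have hZirr : IsIrreducible Z := hZ.prop
    obtain ⟨η, hη⟩ := QuasiSober.sober hZirr hZcl
    have hηZ : η ∈ Z := hη.mem
    have hηc : IsClosed ({η} : Set X) :=
      Groth.Agent.Lib.Lead.ZeroDimPts.isClosed_singleton_of_dim_le_zero hZcl hle0 hηZ
    have hZη : Z = {η} := by rw [← hη.def, hηc.closure_eq]
    -- the union of the other components
    have hfin : (irreducibleComponents X).Finite := NoetherianSpace.finite_irreducibleComponents
    let W : Set X := ⋃₀ (irreducibleComponents X \ {Z})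
    have hWcl : IsClosed W := by
      change IsClosed (⋃₀ (irreducibleComponents X \ {Z}))
      rw [Set.sUnion_eq_biUnion]
      exact Set.Finite.isClosed_biUnion (hfin.subset Set.sdiff_subset)
        (fun s hs => isClosed_of_mem_irreducibleComponents s hs.1)
    have hηW : η ∉ W := by
      rintro ⟨Z', ⟨hZ', hne⟩, hηZ'⟩
      apply hne
      have hsub : Z ⊆ Z' := by
        rw [hZη]
        exact Set.singleton_subset_iff.mpr hηZ'
      exact (hZ.eq_of_subset hZ'.prop hsub).symm
    have hWc : Wᶜ = {η} := by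
      apply Set.Subset.antisymm
      · intro y hy
        have hyU : y ∈ ⋃₀ irreducibleComponents X := by
          rw [sUnion_irreducibleComponents]
          exact Set.mem_univ y
        obtain ⟨Z', hZ', hyZ'⟩ := hyU
        by_cases hZZ : Z' = Z
        · rw [← hZη, ← hZZ]
          exact hyZ'
        · exact absurd ⟨Z', ⟨hZ', hZZ⟩, hyZ'⟩ hy
      · intro y hy
        rw [Set.mem_singleton_iff] at hy
        rw [hy]
        exact hηW
    have hopen : IsOpen ({η} : Set X) := hWc ▸ hWcl.isOpen_compl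
    have huniv : ({η} : Set X) = Set.univ :=
      (isClopen_iff.mp ⟨hηc, hopen⟩).resolve_left (Set.singleton_ne_empty η)
    exact singleton_ne_univ hdim η huniv

end Main

end Groth.Agent.Lib.Helper7.CurveCM
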