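import Mathlib
import Groth.Prelude
import Groth.Agent.Lib.Helper3.SecLoc
import Groth.Agent.Lib.Helper3.ModBasis
import Groth.Agent.Lib.Helper17.LocConstRank

/-!
# Finite locally free modules on integral schemes are torsion free

* `eq_zero_of_smul_res_eq_zero`: a section of a finite locally free module on an integral scheme
  which is killed by a nonzero function on a nonempty open vanishes.
* `mono_of_ne_zero`: a nonzero map from a locally free module of rank one to a finite locally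
  free module on an integral scheme is a monomorphism.
* `rank_le_of_mono'`, `rank_unique'`: ranks and monomorphisms.
-/
set_option autoImplicit false
universe u
open CategoryTheory CategoryTheory.Limits AlgebraicGeometry TopologicalSpace Opposite
open Scheme.Modules

namespace Groth.Agent.Lib.Helper7.TorsFree

open Groth.Agent.Lib.Helper3 Groth.Agent.Lib.Helper3.QCSec Groth.Agent.Lib.Helper3.FreeBasis
  Groth.Agent.Lib.Helper3.SecLoc

variable {X : Scheme.{u}}

lemma inter_nonempty [IsIntegral X] {A B : X.Opens} (hA : (A : Set X).Nonempty)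
    (hB : (B : Set X).Nonempty) : ((A ⊓ B : X.Opens) : Set X).Nonempty :=
  nonempty_preirreducible_inter A.2 B.2 hA hB

lemma rres_injective [IsIntegral X] {A B : X.Opens} (h : A ≤ B) (hA : (A : Set X).Nonempty) :
    Function.Injective (rres X h) := by
  obtain ⟨x, hx⟩ := hA
  haveI : Nonempty A := ⟨⟨x, hx⟩⟩
  exact map_injective_of_isIntegral X (homOfLE h)

/-- torsion-freeness of finite locally free modules on an integral scheme. -/
theorem eq_zero_of_smul_res_eq_zero [IsIntegral X] {E : X.Modules} {r : ℕ}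
    (hE : FlatMod.IsFinLocFreeOfRank r E) {W V : X.Opens} (hVW : V ≤ W)
    (hV : (V : Set X).Nonempty) (a : Γ(X, V)) (ha : a ≠ 0) (t : Γ(E, W))
    (h : a • res E hVW t = 0) : t = 0 := by
  refine ModBasis.eq_zero_of_locally_zero E W t (fun x hx => ?_)
  obtain ⟨U, e, hxU, hb⟩ := isFinLocFreeOfRank_iff.mp hE x
  have hW'W : W ⊓ U ≤ W := inf_le_left
  have hW'U : W ⊓ U ≤ U := inf_le_right
  refine ⟨W ⊓ U, hW'W, ⟨hx, hxU⟩, ?_⟩
  obtain ⟨c, hc⟩ := (hb (W ⊓ U) hW'U).2 (res E hW'W t)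
  have hc' : ∑ i, c i • res E hW'U (e i) = res E hW'W t := hc
  have hV'ne : (((W ⊓ U) ⊓ V : X.Opens) : Set X).Nonempty :=
    inter_nonempty ⟨x, ⟨hx, hxU⟩⟩ hV
  obtain ⟨V', hV'def⟩ : ∃ V' : X.Opens, V' = (W ⊓ U) ⊓ V := ⟨_, rfl⟩
  rw [← hV'def] at hV'ne
  have hV'W' : V' ≤ W ⊓ U := hV'def ▸ inf_le_left
  have hV'V : V' ≤ V := hV'def ▸ inf_le_right
  have h1 : res E hV'W' (res E hW'W t) =
      ∑ i, rres X hV'W' (c i) • res E (hV'W'.trans hW'U) (e i) := by
    rw [← hc']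
    exact res_lincomb E hV'W' hW'U c e
  have h2 : rres X hV'V a • res E hV'W' (res E hW'W t) = 0 := by
    have h3 : res E hV'W' (res E hW'W t) = res E hV'V (res E hVW t) := by
      rw [res_res, res_res]
    rw [h3, ← res_smul, h, res_zero]
  rw [h1, Finset.smul_sum] at h2
  have h3 : ∑ i, (rres X hV'V a * rres X hV'W' (c i)) • res E (hV'W'.trans hW'U) (e i) = 0 := by
    rw [← h2]
    refine Finset.sum_congr rfl fun i _ => ?_
    rw [smul_smul]
  have hinj := (hb V' (hV'W'.trans hW'U)).1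
  have h4 : (fun i => rres X hV'V a * rres X hV'W' (c i)) = fun _ => (0 : Γ(X, V')) := by
    apply hinj
    change ∑ i, (rres X hV'V a * rres X hV'W' (c i)) • res E (hV'W'.trans hW'U) (e i) =
      ∑ i, (0 : Γ(X, V')) • res E (hV'W'.trans hW'U) (e i)
    rw [h3]
    simp only [zero_smul, Finset.sum_const_zero]
  haveI : Nonempty V' := by
    obtain ⟨y, hy⟩ := hV'ne
    exact ⟨⟨y, hy⟩⟩
  haveI : IsDomain Γ(X, V') := IsIntegral.component_integral V'
  have ha' : rres X hV'V a ≠ 0 := fun h0 =>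
    ha (rres_injective hV'V hV'ne (h0.trans (rres_zero' hV'V).symm))
  have h5 : ∀ i, c i = 0 := by
    intro i
    have h6 := congrFun h4 i
    rcases mul_eq_zero.mp h6 with h7 | h7
    · exact absurd h7 ha'
    · exact rres_injective hV'W' hV'ne (h7.trans (rres_zero' hV'W').symm)
  rw [← hc']
  simp only [h5, zero_smul, Finset.sum_const_zero]

/-- a nonzero map from a rank one locally free module to a finite locally free module on an
integral scheme is a monomorphism. -/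
theorem mono_of_ne_zero [IsIntegral X] {L E : X.Modules} {r : ℕ}
    (hL : FlatMod.IsFinLocFreeOfRank 1 L) (hE : FlatMod.IsFinLocFreeOfRank r E)
    (φ : L ⟶ E) (hφ : φ ≠ 0) : Mono φ := by
  apply ModBasis.mono_of_injective_on_basis
  intro W x hx
  obtain ⟨U, ℓ, hxU, hb⟩ := isFinLocFreeOfRank_iff.mp hL x
  have hVU : W ⊓ U ≤ U := inf_le_right
  refine ⟨W ⊓ U, ⟨hx, hxU⟩, inf_le_left, fun t ht => ?_⟩
  obtain ⟨a, ha⟩ := (hb (W ⊓ U) hVU).2 t
  have ha' : a 0 • res L hVU (ℓ 0) = t := by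
    have h1 : ∑ i, a i • res L hVU (ℓ i) = t := ha
    rw [Fin.sum_univ_one] at h1
    exact h1
  by_cases ha0 : a 0 = 0
  · rw [← ha', ha0, zero_smul]
  exfalso
  apply hφ
  have hVne : ((W ⊓ U : X.Opens) : Set X).Nonempty := ⟨x, ⟨hx, hxU⟩⟩
  have h1 : φ.app (W ⊓ U) (res L hVU (ℓ 0)) = 0 := by
    apply eq_zero_of_smul_res_eq_zero hE (le_refl _) hVne (a 0) ha0
    rw [res_self, ← Scheme.Modules.Hom.app_smul, ha', ht]
  apply Scheme.Modules.hom_ext
  intro W''
  refine ConcreteCategory.hom_ext _ _ (fun s => ?_)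
  change φ.app W'' s = 0
  refine ModBasis.eq_zero_of_locally_zero E W'' _ (fun y hy => ?_)
  refine ⟨W'', le_refl _, hy, ?_⟩
  rw [res_self]
  have hne2 : ((W'' ⊓ (W ⊓ U) : X.Opens) : Set X).Nonempty := inter_nonempty ⟨y, hy⟩ hVne
  obtain ⟨V₂, hV₂def⟩ : ∃ V₂ : X.Opens, V₂ = W'' ⊓ (W ⊓ U) := ⟨_, rfl⟩
  rw [← hV₂def] at hne2
  have hV₂W : V₂ ≤ W'' := hV₂def ▸ inf_le_left
  have hV₂V : V₂ ≤ W ⊓ U := hV₂def ▸ inf_le_right
  haveI : Nonempty V₂ := by
    obtain ⟨z, hz⟩ := hne2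
    exact ⟨⟨z, hz⟩⟩
  haveI : IsDomain Γ(X, V₂) := IsIntegral.component_integral V₂
  apply eq_zero_of_smul_res_eq_zero hE hV₂W hne2 (1 : Γ(X, V₂)) one_ne_zero
  rw [one_smul, ← QCExact.app_res']
  obtain ⟨b, hb'⟩ := (hb V₂ (hV₂V.trans hVU)).2 (res L hV₂W s)
  have hb2 : b 0 • res L (hV₂V.trans hVU) (ℓ 0) = res L hV₂W s := by
    have h2 : ∑ i, b i • res L (hV₂V.trans hVU) (ℓ i) = res L hV₂W s := hb'
    rw [Fin.sum_univ_one] at h2
    exact h2
  rw [← hb2, Scheme.Modules.Hom.app_smul]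
  have h3 : res L (hV₂V.trans hVU) (ℓ 0) = res L hV₂V (res L hVU (ℓ 0)) := by
    rw [res_res]
  rw [h3, QCExact.app_res', h1, res_zero, smul_zero]

/-- sections with a basis are free of the given rank. -/
lemma free_of_isBasisAt' {M : X.Modules} {V : X.Opens} {n : ℕ} {e : Fin n → Γ(M, V)}
    (he : FreeBasis.IsBasisAt M V e) :
    Nonempty ((Fin n → Γ(X, V)) ≃ₗ[Γ(X, V)] Γ(M, V)) := by
  refine ⟨LinearEquiv.ofBijective (Fintype.linearCombination Γ(X, V) e) ?_⟩
  have : (⇑(Fintype.linearCombination Γ(X, V) e) : (Fin n → Γ(X, V)) → Γ(M, V)) =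
      fun a : Fin n → Γ(X, V) => ∑ i, a i • e i := by
    funext a
    simp [Fintype.linearCombination_apply]
  rw [this]
  exact he

/-- the map on sections as a linear map. -/
noncomputable def appLin' {M N : X.Modules} (φ : M ⟶ N) (V : X.Opens) : Γ(M, V) →ₗ[Γ(X, V)] Γ(N, V) where
  toFun := φ.app V
  map_add' := fun a b => QCExact.app_add φ V a b
  map_smul' := fun r t => Scheme.Modules.Hom.app_smul φ r t

/-- the rank of a finite locally free submodule is at most the rank of the ambient module. -/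
theorem rank_le_of_mono' [Nonempty X] {G F : X.Modules} {n s : ℕ}
    (hG : FlatMod.IsFinLocFreeOfRank n G) (hF : FlatMod.IsFinLocFreeOfRank s F)
    (φ : G ⟶ F) [Mono φ] : n ≤ s := by
  obtain ⟨x⟩ : Nonempty X := inferInstance
  obtain ⟨U₁, e₁, hxU₁, hb₁⟩ := isFinLocFreeOfRank_iff.mp hG x
  obtain ⟨U₂, e₂, hxU₂, hb₂⟩ := isFinLocFreeOfRank_iff.mp hF x
  have hxU : x ∈ U₁ ⊓ U₂ := ⟨hxU₁, hxU₂⟩
  have hbG := hb₁.mono (inf_le_left : U₁ ⊓ U₂ ≤ U₁)
  have hbF := hb₂.mono (inf_le_right : U₁ ⊓ U₂ ≤ U₂)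
  haveI : Nonempty (U₁ ⊓ U₂ : X.Opens) := ⟨⟨x, hxU⟩⟩
  haveI : Nontrivial Γ(X, U₁ ⊓ U₂) := Scheme.component_nontrivial X (U₁ ⊓ U₂)
  obtain ⟨eG'⟩ := free_of_isBasisAt' hbG.self
  obtain ⟨eF'⟩ := free_of_isBasisAt' hbF.self
  have hinj : Function.Injective
      (eF'.symm.toLinearMap.comp ((appLin' φ (U₁ ⊓ U₂)).comp eG'.toLinearMap)) := by
    intro a b hab
    apply eG'.injective
    apply (QCProps.mono_iff_app_injective φ).mp inferInstance (U₁ ⊓ U₂)
    exact eF'.symm.injective hab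
  have := card_le_of_injective Γ(X, U₁ ⊓ U₂) _ hinj
  simpa using this

theorem rank_unique' [Nonempty X] (M : X.Modules) {n m : ℕ}
    (hn : FlatMod.IsFinLocFreeOfRank n M) (hm : FlatMod.IsFinLocFreeOfRank m M) : n = m :=
  le_antisymm (rank_le_of_mono' hn hm (𝟙 M)) (rank_le_of_mono' hm hn (𝟙 M))

theorem isFinLocFreeOfRank_of_iso' {M N : X.Modules} (e : M ≅ N) (n : ℕ)
    (hM : FlatMod.IsFinLocFreeOfRank n M) : FlatMod.IsFinLocFreeOfRank n N := by
  intro x
  obtain ⟨U, hxU, ⟨φ⟩⟩ := hM x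
  exact ⟨U, hxU, ⟨(Scheme.Modules.restrictFunctor U.ι).mapIso e.symm ≪≫ φ⟩⟩

lemma isCoh_of_isFinLocFreeOfRank' {E : X.Modules} {n : ℕ}
    (hE : FlatMod.IsFinLocFreeOfRank n E) : Coh.IsCoh E := by
  have hq := SecLoc.isQuasicoherent_of_isFinLocFreeOfRank hE
  haveI : E.IsQuasicoherent := hq
  refine ⟨hq, Groth.Agent.Lib.Helper17.LocConstRank.isFiniteType_of_isFinLocFree E ?_⟩
  intro x
  obtain ⟨U, hxU, hU⟩ := hE x
  exact ⟨U, n, hxU, hU⟩

lemma isFinLocFreeOfRank_one_of_isInvertible' {L : X.Modules} (hL : PicF.IsInvertible L) :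
    FlatMod.IsFinLocFreeOfRank 1 L := by
  intro x
  obtain ⟨U, hxU, ⟨e⟩⟩ := hL x
  exact ⟨U, hxU, ⟨e ≪≫ (coproductUniqueIso
    (fun _ : Fin 1 => Coh.structureModule (U : Scheme.{u}))).symm⟩⟩

end Groth.Agent.Lib.Helper7.TorsFree
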