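import Mathlib
import Groth.Prelude.Def_ega3
import Groth.Agent.Lib.Helper7.TFunFG
import Groth.Agent.Lib.Helper7.TFunLES
set_option autoImplicit false
universe u
open CategoryTheory CategoryTheory.Limits MonoidalCategory

namespace Groth.Agent.Lib.Helper7

variable {A : Type u} [CommRing A] {ι : Type} {c : ComplexShape ι}

section elements
variable (K : HomologicalComplex (ModuleCat.{u} A) c) (i : ι)

/-- a chosen cycle lifting `x`. -/
noncomputable def cyc (x : K.X i) (hx : (K.d i (c.next i)).hom x = 0) : K.cycles i :=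
  (exists_cycle K i x hx).choose

lemma iCycles_cyc (x : K.X i) (hx : (K.d i (c.next i)).hom x = 0) :
    (K.iCycles i).hom (cyc K i x hx) = x :=
  (exists_cycle K i x hx).choose_spec

/-- the homology class of a cycle. -/
noncomputable def cls (x : K.X i) (hx : (K.d i (c.next i)).hom x = 0) : K.homology i :=
  (K.homologyπ i).hom (cyc K i x hx)

lemma d_iCycles (z : K.cycles i) : (K.d i (c.next i)).hom ((K.iCycles i).hom z) = 0 :=
  congrArg (fun f => f.hom z) (K.iCycles_d i (c.next i))

lemma cls_surjective (h : K.homology i) :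
    ∃ (x : K.X i) (hx : (K.d i (c.next i)).hom x = 0), cls K i x hx = h := by
  obtain ⟨z, rfl⟩ := homologyπ_surjective K i h
  refine ⟨(K.iCycles i).hom z, d_iCycles K i z, ?_⟩
  unfold cls
  congr 1
  exact iCycles_injective K i (iCycles_cyc K i _ _)

lemma homologyπ_eq_zero_iff (z : K.cycles i) :
    (K.homologyπ i).hom z = 0 ↔
      ∃ y : K.X (c.prev i), (K.toCycles (c.prev i) i).hom y = z := by
  have hex : (ShortComplex.mk (K.toCycles (c.prev i) i) (K.homologyπ i)
      (K.toCycles_comp_homologyπ _ _)).Exact :=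
    ShortComplex.exact_of_g_is_cokernel _ (K.homologyIsCokernel (c.prev i) i rfl)
  rw [ShortComplex.moduleCat_exact_iff] at hex
  constructor
  · intro hz
    exact hex z hz
  · rintro ⟨y, rfl⟩
    exact congrArg (fun f => f.hom y) (K.toCycles_comp_homologyπ (c.prev i) i)

lemma cls_eq_zero_iff (x : K.X i) (hx : (K.d i (c.next i)).hom x = 0) :
    cls K i x hx = 0 ↔ ∃ y : K.X (c.prev i), (K.d (c.prev i) i).hom y = x := by
  unfold cls
  rw [homologyπ_eq_zero_iff]
  have key : ∀ y : K.X (c.prev i),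
      (K.iCycles i).hom ((K.toCycles (c.prev i) i).hom y) = (K.d (c.prev i) i).hom y :=
    fun y => congrArg (fun f => f.hom y) (K.toCycles_i (c.prev i) i)
  constructor
  · rintro ⟨y, hy⟩
    refine ⟨y, ?_⟩
    have := congrArg (K.iCycles i).hom hy
    rw [iCycles_cyc, key] at this
    exact this
  · rintro ⟨y, hy⟩
    refine ⟨y, iCycles_injective K i ?_⟩
    rw [iCycles_cyc, key, hy]

lemma cls_congr (x x' : K.X i) (hx : (K.d i (c.next i)).hom x = 0)
    (hx' : (K.d i (c.next i)).hom x' = 0) (h : x = x') : cls K i x hx = cls K i x' hx' := by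
  subst h; rfl

lemma cyc_sub (x x' : K.X i) (hx : (K.d i (c.next i)).hom x = 0)
    (hx' : (K.d i (c.next i)).hom x' = 0) :
    cyc K i (x - x') (by rw [map_sub, hx, hx', sub_zero]) = cyc K i x hx - cyc K i x' hx' := by
  apply iCycles_injective K i
  rw [iCycles_cyc, map_sub, iCycles_cyc, iCycles_cyc]

lemma cls_sub (x x' : K.X i) (hx : (K.d i (c.next i)).hom x = 0)
    (hx' : (K.d i (c.next i)).hom x' = 0) :
    cls K i (x - x') (by rw [map_sub, hx, hx', sub_zero]) = cls K i x hx - cls K i x' hx' := by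
  unfold cls
  rw [cyc_sub, map_sub]

lemma cls_eq_iff (x x' : K.X i) (hx : (K.d i (c.next i)).hom x = 0)
    (hx' : (K.d i (c.next i)).hom x' = 0) :
    cls K i x hx = cls K i x' hx' ↔ ∃ y : K.X (c.prev i), (K.d (c.prev i) i).hom y = x - x' := by
  rw [← sub_eq_zero, ← cls_sub, cls_eq_zero_iff]

lemma pOpcycles_surjective : Function.Surjective (K.pOpcycles i).hom :=
  (ModuleCat.epi_iff_surjective _).mp inferInstance

lemma pOpcycles_eq_zero_iff (x : K.X i) :
    (K.pOpcycles i).hom x = 0 ↔ x ∈ LinearMap.range (K.d (c.prev i) i).hom :=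
  ShortComplex.moduleCat_pOpcycles_eq_zero_iff (K.sc i) x

lemma exact_d_pOpcycles : Function.Exact (K.d (c.prev i) i).hom (K.pOpcycles i).hom := by
  intro x
  rw [pOpcycles_eq_zero_iff]
  rfl

end elements

section maps
variable {K L : HomologicalComplex (ModuleCat.{u} A) c} (φ : K ⟶ L) (i : ι)

lemma d_map_eq_zero (x : K.X i) (hx : (K.d i (c.next i)).hom x = 0) :
    (L.d i (c.next i)).hom ((φ.f i).hom x) = 0 := by
  have h := congrArg (fun f => f.hom x) (φ.comm i (c.next i))
  have h' : (L.d i (c.next i)).hom ((φ.f i).hom x) = (φ.f (c.next i)).hom ((K.d i (c.next i)).hom x) :=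
    h
  rw [h', hx, map_zero]

lemma homologyMap_cls (x : K.X i) (hx : (K.d i (c.next i)).hom x = 0)
    (hx' : (L.d i (c.next i)).hom ((φ.f i).hom x) = 0) :
    (HomologicalComplex.homologyMap φ i).hom (cls K i x hx) = cls L i ((φ.f i).hom x) hx' := by
  unfold cls
  have h1 := congrArg (fun f => f.hom (cyc K i x hx)) (HomologicalComplex.homologyπ_naturality φ i)
  refine h1.trans ?_
  show (L.homologyπ i).hom ((HomologicalComplex.cyclesMap φ i).hom (cyc K i x hx)) = _
  congr 1
  apply iCycles_injective L i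
  rw [iCycles_cyc]
  have h2 := congrArg (fun f => f.hom (cyc K i x hx)) (HomologicalComplex.cyclesMap_i φ i)
  refine h2.trans ?_
  show (φ.f i).hom ((K.iCycles i).hom (cyc K i x hx)) = _
  rw [iCycles_cyc]

end maps

section tensor
variable (P : HomologicalComplex (ModuleCat.{u} A) c) (p : ι)

lemma tensorObj_d (M : ModuleCat.{u} A) (i j : ι) :
    ((CohIII.tensorObj P M).d i j).hom = LinearMap.rTensor M (P.d i j).hom := by
  show ((P.d i j) ▷ M).hom = _
  rw [ModuleCat.hom_whiskerRight]

lemma tensorMap_f_hom {M N : ModuleCat.{u} A} (g : M ⟶ N) (i : ι) :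
    ((CohIII.tensorMap P g).f i).hom = LinearMap.lTensor (P.X i) g.hom := by
  exact ModuleCat.hom_whiskerLeft (P.X i) g

/-- class in `T_p(M)` of a tensor cycle. -/
noncomputable def clsT (M : ModuleCat.{u} A) (x : TensorProduct A (P.X p) M)
    (hx : LinearMap.rTensor M (P.d p (c.next p)).hom x = 0) : (CohIII.TFun P p).obj M :=
  cls (CohIII.tensorObj P M) p x (by rw [tensorObj_d]; exact hx)

lemma clsT_surjective (M : ModuleCat.{u} A) (h : (CohIII.TFun P p).obj M) :
    ∃ (x : TensorProduct A (P.X p) M)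
      (hx : LinearMap.rTensor M (P.d p (c.next p)).hom x = 0), clsT P p M x hx = h := by
  obtain ⟨x, hx, rfl⟩ := cls_surjective (CohIII.tensorObj P M) p h
  rw [tensorObj_d] at hx
  exact ⟨x, hx, rfl⟩

lemma clsT_eq_zero_iff (M : ModuleCat.{u} A) (x : TensorProduct A (P.X p) M)
    (hx : LinearMap.rTensor M (P.d p (c.next p)).hom x = 0) :
    clsT P p M x hx = 0 ↔
      ∃ y : TensorProduct A (P.X (c.prev p)) M,
        LinearMap.rTensor M (P.d (c.prev p) p).hom y = x := by
  refine (cls_eq_zero_iff (CohIII.tensorObj P M) p x _).trans ?_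
  rw [tensorObj_d]
  rfl

lemma clsT_eq_iff (M : ModuleCat.{u} A) (x x' : TensorProduct A (P.X p) M)
    (hx : LinearMap.rTensor M (P.d p (c.next p)).hom x = 0)
    (hx' : LinearMap.rTensor M (P.d p (c.next p)).hom x' = 0) :
    clsT P p M x hx = clsT P p M x' hx' ↔
      ∃ y : TensorProduct A (P.X (c.prev p)) M,
        LinearMap.rTensor M (P.d (c.prev p) p).hom y = x - x' := by
  refine (cls_eq_iff (CohIII.tensorObj P M) p x x' _ _).trans ?_
  rw [tensorObj_d]
  rfl

lemma rTensor_lTensor_comm {X Y : Type u} [AddCommGroup X] [AddCommGroup Y] [Module A X]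
    [Module A Y] {M N : Type u} [AddCommGroup M] [AddCommGroup N] [Module A M] [Module A N]
    (d : X →ₗ[A] Y) (g : M →ₗ[A] N) (t : TensorProduct A X M) :
    LinearMap.rTensor N d (LinearMap.lTensor X g t) =
      LinearMap.lTensor Y g (LinearMap.rTensor M d t) := by
  rw [← LinearMap.comp_apply, ← LinearMap.comp_apply, LinearMap.rTensor_comp_lTensor,
    LinearMap.lTensor_comp_rTensor]

lemma TFun_map_clsT {M N : ModuleCat.{u} A} (g : M ⟶ N) (x : TensorProduct A (P.X p) M)
    (hx : LinearMap.rTensor M (P.d p (c.next p)).hom x = 0)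
    (hx' : LinearMap.rTensor N (P.d p (c.next p)).hom (LinearMap.lTensor (P.X p) g.hom x) = 0) :
    ((CohIII.TFun P p).map g).hom (clsT P p M x hx) =
      clsT P p N (LinearMap.lTensor (P.X p) g.hom x) hx' := by
  unfold clsT
  have h := homologyMap_cls (CohIII.tensorMap P g) p x (by rw [tensorObj_d]; exact hx)
    (by rw [tensorObj_d, tensorMap_f_hom]; exact hx')
  refine h.trans ?_
  apply cls_congr
  exact LinearMap.congr_fun (tensorMap_f_hom P g p) x

lemma lTensor_cycle {M N : ModuleCat.{u} A} (g : M ⟶ N) (x : TensorProduct A (P.X p) M)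
    (hx : LinearMap.rTensor M (P.d p (c.next p)).hom x = 0) :
    LinearMap.rTensor N (P.d p (c.next p)).hom (LinearMap.lTensor (P.X p) g.hom x) = 0 := by
  rw [rTensor_lTensor_comm, hx, map_zero]

end tensor

end Groth.Agent.Lib.Helper7
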