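import Mathlib
import Groth.Prelude.Def_ega3
import Groth.Agent.Lib.Helper7.CxElem
set_option autoImplicit false
universe u
open CategoryTheory CategoryTheory.Limits

namespace Groth.Agent.Lib.Helper7

section clsmore
variable {A : Type u} [CommRing A] {ι : Type} {c : ComplexShape ι}
variable (K : HomologicalComplex (ModuleCat.{u} A) c) (i : ι)

lemma cyc_add (x x' : K.X i) (hx : (K.d i (c.next i)).hom x = 0)
    (hx' : (K.d i (c.next i)).hom x' = 0) :
    cyc K i (x + x') (by rw [map_add, hx, hx', add_zero]) = cyc K i x hx + cyc K i x' hx' := by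
  apply iCycles_injective K i
  rw [iCycles_cyc, map_add, iCycles_cyc, iCycles_cyc]

lemma cls_add (x x' : K.X i) (hx : (K.d i (c.next i)).hom x = 0)
    (hx' : (K.d i (c.next i)).hom x' = 0) :
    cls K i (x + x') (by rw [map_add, hx, hx', add_zero]) = cls K i x hx + cls K i x' hx' := by
  unfold cls
  rw [cyc_add, map_add]

lemma cyc_smul (r : A) (x : K.X i) (hx : (K.d i (c.next i)).hom x = 0) :
    cyc K i (r • x) (by rw [map_smul, hx, smul_zero]) = r • cyc K i x hx := by
  apply iCycles_injective K i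
  rw [iCycles_cyc, map_smul, iCycles_cyc]

lemma cls_smul (r : A) (x : K.X i) (hx : (K.d i (c.next i)).hom x = 0) :
    cls K i (r • x) (by rw [map_smul, hx, smul_zero]) = r • cls K i x hx := by
  unfold cls
  rw [cyc_smul, map_smul]

end clsmore

section transfer
variable {R S : Type u} [CommRing R] [CommRing S] {ι : Type} {c : ComplexShape ι}

/-- degreewise additive maps commuting with the differentials, between complexes over possibly
different rings. -/
structure CxAddHom (K : HomologicalComplex (ModuleCat.{u} R) c)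
    (L : HomologicalComplex (ModuleCat.{u} S) c) where
  f : ∀ i, K.X i →+ L.X i
  comm : ∀ i j (x : K.X i), f j ((K.d i j).hom x) = (L.d i j).hom (f i x)

variable {K : HomologicalComplex (ModuleCat.{u} R) c} {L : HomologicalComplex (ModuleCat.{u} S) c}

lemma CxAddHom.d_f (θ : CxAddHom K L) (i : ι) (x : K.X i)
    (hx : (K.d i (c.next i)).hom x = 0) : (L.d i (c.next i)).hom (θ.f i x) = 0 := by
  rw [← θ.comm, hx, map_zero]

noncomputable def CxAddHom.homologyFun (θ : CxAddHom K L) (i : ι) (h : K.homology i) :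
    L.homology i :=
  cls L i (θ.f i (cls_surjective K i h).choose)
    (θ.d_f i _ (cls_surjective K i h).choose_spec.choose)

lemma CxAddHom.homologyFun_cls (θ : CxAddHom K L) (i : ι) (x : K.X i)
    (hx : (K.d i (c.next i)).hom x = 0) :
    θ.homologyFun i (cls K i x hx) = cls L i (θ.f i x) (θ.d_f i x hx) := by
  unfold CxAddHom.homologyFun
  have hspec := (cls_surjective K i (cls K i x hx)).choose_spec.choose_spec
  rw [cls_eq_iff] at hspec ⊢
  obtain ⟨y, hy⟩ := hspec
  refine ⟨θ.f (c.prev i) y, ?_⟩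
  rw [← θ.comm, hy, map_sub]

noncomputable def CxAddHom.homologyMap (θ : CxAddHom K L) (i : ι) :
    K.homology i →+ L.homology i :=
  AddMonoidHom.mk' (θ.homologyFun i) (by
    intro h₁ h₂
    obtain ⟨x₁, hx₁, rfl⟩ := cls_surjective K i h₁
    obtain ⟨x₂, hx₂, rfl⟩ := cls_surjective K i h₂
    rw [← cls_add, θ.homologyFun_cls, θ.homologyFun_cls, θ.homologyFun_cls, ← cls_add]
    exact cls_congr L i _ _ _ _ (map_add _ _ _))

lemma CxAddHom.homologyMap_cls (θ : CxAddHom K L) (i : ι) (x : K.X i)
    (hx : (K.d i (c.next i)).hom x = 0) :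
    θ.homologyMap i (cls K i x hx) = cls L i (θ.f i x) (θ.d_f i x hx) :=
  θ.homologyFun_cls i x hx

lemma CxAddHom.homologyMap_smul (θ : CxAddHom K L) (i : ι) (r : R) (s : S)
    (hrs : ∀ x : K.X i, θ.f i (r • x) = s • θ.f i x) (h : K.homology i) :
    θ.homologyMap i (r • h) = s • θ.homologyMap i h := by
  obtain ⟨x, hx, rfl⟩ := cls_surjective K i h
  rw [← cls_smul, θ.homologyMap_cls, θ.homologyMap_cls, ← cls_smul]
  exact cls_congr L i _ _ _ _ (hrs x)

lemma CxAddHom.homologyMap_naturality {K' : HomologicalComplex (ModuleCat.{u} R) c}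
    {L' : HomologicalComplex (ModuleCat.{u} S) c}
    (θ : CxAddHom K L) (θ' : CxAddHom K' L') (a : K ⟶ K') (b : L ⟶ L') (i : ι)
    (hab : ∀ x : K.X i, θ'.f i ((a.f i).hom x) = (b.f i).hom (θ.f i x)) (h : K.homology i) :
    θ'.homologyMap i ((HomologicalComplex.homologyMap a i).hom h) =
      (HomologicalComplex.homologyMap b i).hom (θ.homologyMap i h) := by
  obtain ⟨x, hx, rfl⟩ := cls_surjective K i h
  rw [Groth.Agent.Lib.Helper7.homologyMap_cls a i x hx (d_map_eq_zero a i x hx),
    θ'.homologyMap_cls, θ.homologyMap_cls,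
    Groth.Agent.Lib.Helper7.homologyMap_cls b i _ _ (d_map_eq_zero b i _ (θ.d_f i x hx))]
  exact cls_congr L' i _ _ _ _ (hab x)

/-- degreewise additive equivalences commuting with the differentials. -/
structure CxAddEquiv (K : HomologicalComplex (ModuleCat.{u} R) c)
    (L : HomologicalComplex (ModuleCat.{u} S) c) where
  e : ∀ i, K.X i ≃+ L.X i
  comm : ∀ i j (x : K.X i), e j ((K.d i j).hom x) = (L.d i j).hom (e i x)

def CxAddEquiv.toHom (θ : CxAddEquiv K L) : CxAddHom K L where
  f i := (θ.e i).toAddMonoidHom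
  comm i j x := θ.comm i j x

def CxAddEquiv.invHom (θ : CxAddEquiv K L) : CxAddHom L K where
  f i := (θ.e i).symm.toAddMonoidHom
  comm i j y := by
    apply (θ.e j).injective
    show θ.e j ((θ.e j).symm ((L.d i j).hom y)) = θ.e j ((K.d i j).hom ((θ.e i).symm y))
    rw [AddEquiv.apply_symm_apply, θ.comm, AddEquiv.apply_symm_apply]

noncomputable def CxAddEquiv.homologyEquiv (θ : CxAddEquiv K L) (i : ι) :
    K.homology i ≃+ L.homology i where
  toFun := θ.toHom.homologyMap i
  invFun := θ.invHom.homologyMap i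
  left_inv h := by
    obtain ⟨x, hx, rfl⟩ := cls_surjective K i h
    rw [CxAddHom.homologyMap_cls, CxAddHom.homologyMap_cls]
    exact cls_congr K i _ _ _ _ ((θ.e i).symm_apply_apply x)
  right_inv h := by
    obtain ⟨x, hx, rfl⟩ := cls_surjective L i h
    rw [CxAddHom.homologyMap_cls, CxAddHom.homologyMap_cls]
    exact cls_congr L i _ _ _ _ ((θ.e i).apply_symm_apply x)
  map_add' := map_add _

lemma CxAddEquiv.homologyEquiv_apply (θ : CxAddEquiv K L) (i : ι) (h : K.homology i) :
    θ.homologyEquiv i h = θ.toHom.homologyMap i h := rfl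

lemma CxAddEquiv.homologyEquiv_cls (θ : CxAddEquiv K L) (i : ι) (x : K.X i)
    (hx : (K.d i (c.next i)).hom x = 0) :
    θ.homologyEquiv i (cls K i x hx) = cls L i (θ.e i x) (θ.toHom.d_f i x hx) :=
  θ.toHom.homologyMap_cls i x hx

end transfer

end Groth.Agent.Lib.Helper7
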