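import Mathlib
import Groth.Prelude.Def_ega3
import Groth.Agent.Lib.Helper7.CxElem
set_option autoImplicit false
universe u
open CategoryTheory CategoryTheory.Limits MonoidalCategory

namespace Groth.Agent.Lib.Helper7

variable {A : Type u} [CommRing A] {ι : Type} {c : ComplexShape ι}

lemma exact_d_pOpcycles' (K : HomologicalComplex (ModuleCat.{u} A) c) (i j : ι) (hij : c.Rel i j) :
    Function.Exact (K.d i j).hom (K.pOpcycles j).hom := by
  obtain rfl := c.prev_eq' hij
  exact exact_d_pOpcycles K j

lemma hom_d_comp_d (K : HomologicalComplex (ModuleCat.{u} A) c) (i j k : ι) :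
    (K.d j k).hom ∘ₗ (K.d i j).hom = 0 := by
  rw [← ModuleCat.hom_comp, K.d_comp_d]
  rfl

lemma hom_d_pOpcycles (K : HomologicalComplex (ModuleCat.{u} A) c) (i j : ι) :
    (K.pOpcycles j).hom ∘ₗ (K.d i j).hom = 0 := by
  rw [← ModuleCat.hom_comp, K.d_pOpcycles]
  rfl

theorem TFun_preservesMono_iff_flat_opcycles (P : HomologicalComplex (ModuleCat.{u} A) c)
    (hP : ∀ i, Module.Flat A (P.X i)) (p : ι) :
    (CohIII.TFun P p).PreservesMonomorphisms ↔ Module.Flat A (P.opcycles p) := by
  have hπs := pOpcycles_surjective P p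
  have hex := exact_d_pOpcycles P p
  constructor
  · intro hT
    rw [Module.Flat.iff_lTensor_preserves_injective_linearMap]
    intro N₁ N₂ _ _ _ _ f hf
    rw [injective_iff_map_eq_zero]
    intro w hw
    obtain ⟨x, rfl⟩ := LinearMap.rTensor_surjective N₁ hπs w
    rw [← rTensor_lTensor_comm] at hw
    obtain ⟨y, hy⟩ := (rTensor_exact N₂ hex hπs _).mp hw
    have hfl : Module.Flat A (P.X (c.next p)) := hP _
    have hxc : LinearMap.rTensor N₁ (P.d p (c.next p)).hom x = 0 := by
      apply Module.Flat.lTensor_preserves_injective_linearMap (M := P.X (c.next p)) f hf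
      rw [map_zero, ← rTensor_lTensor_comm, ← hy, ← LinearMap.comp_apply, ← LinearMap.rTensor_comp,
        hom_d_comp_d, LinearMap.rTensor_zero, LinearMap.zero_apply]
    let g : ModuleCat.of A N₁ ⟶ ModuleCat.of A N₂ := ModuleCat.ofHom f
    have hmono : Mono g := (ModuleCat.mono_iff_injective _).mpr hf
    have hTf : Function.Injective ((CohIII.TFun P p).map g).hom :=
      (ModuleCat.mono_iff_injective _).mp inferInstance
    have hcls : clsT P p (ModuleCat.of A N₁) x hxc = 0 := by
      apply hTf
      rw [map_zero, TFun_map_clsT P p g x hxc (lTensor_cycle P p g x hxc), clsT_eq_zero_iff]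
      exact ⟨y, hy⟩
    obtain ⟨y', hy'⟩ := (clsT_eq_zero_iff P p (ModuleCat.of A N₁) x hxc).mp hcls
    rw [← hy', ← LinearMap.comp_apply, ← LinearMap.rTensor_comp, hom_d_pOpcycles,
      LinearMap.rTensor_zero, LinearMap.zero_apply]
  · intro hW
    refine ⟨fun {M' M} g hg => ?_⟩
    rw [ModuleCat.mono_iff_injective] at hg ⊢
    rw [injective_iff_map_eq_zero]
    intro h hh
    obtain ⟨x, hx, rfl⟩ := clsT_surjective P p M' h
    rw [TFun_map_clsT P p g x hx (lTensor_cycle P p g x hx), clsT_eq_zero_iff] at hh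
    obtain ⟨y, hy⟩ := hh
    rw [clsT_eq_zero_iff]
    have h1 : LinearMap.rTensor M' (P.pOpcycles p).hom x = 0 := by
      apply Module.Flat.lTensor_preserves_injective_linearMap (M := P.opcycles p) g.hom hg
      rw [map_zero, ← rTensor_lTensor_comm, ← hy, ← LinearMap.comp_apply, ← LinearMap.rTensor_comp,
        hom_d_pOpcycles, LinearMap.rTensor_zero, LinearMap.zero_apply]
    exact (rTensor_exact M' hex hπs _).mp h1

open IsLocalRing in
theorem free_opcycles_of_surjective_residue [IsLocalRing A]
    (P : HomologicalComplex (ModuleCat.{u} A) c) (p q : ι) (hpq : c.Rel p q)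
    [Module.Finite A (P.X p)] [Module.Finite A (P.X q)] [Module.Free A (P.X q)]
    (hs : Function.Surjective ((CohIII.TFun P p).map
      (ModuleCat.ofHom (Algebra.linearMap A (ResidueField A)))).hom) :
    Module.Free A (P.opcycles q) := by
  have hexq := exact_d_pOpcycles' P p q hpq
  have hπs := pOpcycles_surjective P q
  obtain rfl : c.next p = q := c.next_eq' hpq
  obtain ⟨d, hd⟩ : ∃ d : P.X p →ₗ[A] P.X (c.next p), d = (P.d p (c.next p)).hom := ⟨_, rfl⟩
  rw [← hd] at hexq
  let B : Submodule A (P.X (c.next p)) := LinearMap.range d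
  let d' : P.X p →ₗ[A] B := d.rangeRestrict
  have hd's : Function.Surjective d' := d.surjective_rangeRestrict
  have hsub : B.subtype ∘ₗ d' = d := by
    ext x
    rfl
  have hexB : Function.Exact B.subtype (P.pOpcycles (c.next p)).hom := by
    intro y
    rw [hexq y]
    constructor
    · rintro ⟨x, rfl⟩
      exact ⟨⟨d x, ⟨x, rfl⟩⟩, rfl⟩
    · rintro ⟨⟨_, ⟨x, rfl⟩⟩, rfl⟩
      exact ⟨x, rfl⟩
  let res : ModuleCat.of A A ⟶ ModuleCat.of A (ResidueField A) :=
    ModuleCat.ofHom (Algebra.linearMap A (ResidueField A))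
  have key : Function.Injective (LinearMap.rTensor (ResidueField A) B.subtype) := by
    rw [injective_iff_map_eq_zero]
    intro b hb
    obtain ⟨x', rfl⟩ := LinearMap.rTensor_surjective (ResidueField A) hd's b
    rw [← LinearMap.comp_apply, ← LinearMap.rTensor_comp, hsub] at hb
    have hx' : LinearMap.rTensor (ModuleCat.of A (ResidueField A)) (P.d p (c.next p)).hom x' = 0 := by
      rw [← hd]; exact hb
    obtain ⟨h₀, hh₀⟩ := hs (clsT P p (ModuleCat.of A (ResidueField A)) x' hx')
    obtain ⟨x₀, hx₀, rfl⟩ := clsT_surjective P p (ModuleCat.of A A) h₀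
    rw [TFun_map_clsT P p res x₀ hx₀ (lTensor_cycle P p res x₀ hx₀), clsT_eq_iff] at hh₀
    obtain ⟨y, hy⟩ := hh₀
    have hx'eq : x' = LinearMap.lTensor (P.X p) res.hom x₀ -
        LinearMap.rTensor (ResidueField A) (P.d (c.prev p) p).hom y := by
      rw [hy]; abel
    have h1 : LinearMap.rTensor A d' x₀ = 0 := by
      apply Module.Flat.rTensor_preserves_injective_linearMap (M := A) B.subtype
        (Submodule.subtype_injective B)
      rw [map_zero, ← LinearMap.comp_apply, ← LinearMap.rTensor_comp, hsub, hd]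
      exact hx₀
    have h2 : d' ∘ₗ (P.d (c.prev p) p).hom = 0 := by
      ext z
      show d ((P.d (c.prev p) p).hom z) = 0
      rw [hd, ← LinearMap.comp_apply, hom_d_comp_d, LinearMap.zero_apply]
    rw [hx'eq, map_sub, rTensor_lTensor_comm, h1, map_zero, ← LinearMap.comp_apply,
      ← LinearMap.rTensor_comp, h2, LinearMap.rTensor_zero, LinearMap.zero_apply, sub_zero]
  exact Module.free_of_lTensor_residueField_injective B.subtype (P.pOpcycles (c.next p)).hom hπs hexB
    ((LinearMap.lTensor_inj_iff_rTensor_inj _ _).mpr key)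

end Groth.Agent.Lib.Helper7
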