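import Mathlib
import Groth.Prelude.Def_ega3
import Groth.Agent.Lib.Helper7.OpcyclesFlat
import Groth.Agent.Lib.Helper7.TFunLib
set_option autoImplicit false
universe u
open CategoryTheory CategoryTheory.Limits MonoidalCategory TensorProduct Module

namespace Groth.Agent.Lib.Helper7

section elems
variable {A : Type u} [CommRing A] {ι : Type} {c : ComplexShape ι}
  (K : HomologicalComplex (ModuleCat.{u} A) c) (i : ι)

lemma homologyι_injective : Function.Injective (K.homologyι i).hom :=
  (ModuleCat.mono_iff_injective _).mp inferInstance

lemma fromOpcycles_eq_zero_iff (w : K.opcycles i) :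
    (K.fromOpcycles i (c.next i)).hom w = 0 ↔ ∃ h : K.homology i, (K.homologyι i).hom h = w := by
  have hex : (ShortComplex.mk (K.homologyι i) (K.fromOpcycles i (c.next i))
      (K.homologyι_comp_fromOpcycles i (c.next i))).Exact :=
    ShortComplex.exact_of_f_is_kernel _ (K.homologyIsKernel i (c.next i) rfl)
  rw [ShortComplex.moduleCat_exact_iff] at hex
  constructor
  · intro hw
    exact hex w hw
  · rintro ⟨h, rfl⟩
    exact congrArg (fun f => f.hom h) (K.homologyι_comp_fromOpcycles i (c.next i))

end elems

section dedekind
variable {A : Type u} [CommRing A] [IsDedekindDomain A]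

lemma flat_iff_isTorsionFree (M : Type u) [AddCommGroup M] [Module A M] :
    Module.Flat A M ↔ Module.IsTorsionFree A M := by
  rw [IsDedekindDomain.flat_iff_torsion_eq_bot, Submodule.isTorsionFree_iff_torsion_eq_bot]

theorem flat_opcycles_iff_flat_homology {ι : Type} {c : ComplexShape ι}
    (P : HomologicalComplex (ModuleCat.{u} A) c) (hP : ∀ i, Module.Flat A (P.X i)) (p : ι) :
    Module.Flat A (P.opcycles p) ↔ Module.Flat A (P.homology p) := by
  rw [flat_iff_isTorsionFree, flat_iff_isTorsionFree]
  constructor
  · intro h
    exact Function.Injective.moduleIsTorsionFree (P.homologyι p).hom (homologyι_injective P p)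
      (fun r m => map_smul _ r m)
  · intro h
    haveI : Module.IsTorsionFree A (P.X (c.next p)) := (flat_iff_isTorsionFree _).mp (hP _)
    rw [Module.isTorsionFree_iff_smul_eq_zero]
    intro r w hrw
    by_cases hr : r = 0
    · exact Or.inl hr
    · right
      have h1 : (P.fromOpcycles p (c.next p)).hom w = 0 := by
        have h2 : r • (P.fromOpcycles p (c.next p)).hom w = 0 := by
          rw [← map_smul, hrw, map_zero]
        exact (smul_eq_zero.mp h2).resolve_left hr
      obtain ⟨h', rfl⟩ := (fromOpcycles_eq_zero_iff P p w).mp h1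
      have h3 : (P.homologyι p).hom (r • h') = 0 := by
        rw [map_smul]
        exact hrw
      have h4 : r • h' = 0 := homologyι_injective P p (h3.trans (map_zero _).symm)
      rw [(smul_eq_zero.mp h4).resolve_left hr, map_zero]

theorem preservesMono_iff_flat_homology_of_dedekind (P : ChainComplex (ModuleCat.{u} A) ℤ)
    (hP : ∀ i, Module.Flat A (P.X i)) (p q : ℤ) (hpq : q + 1 = p) :
    ((CohIII.TFun P p).PreservesMonomorphisms ↔ Module.Flat A (P.homology p)) ∧
      (((CohIII.TFun P p).PreservesMonomorphisms ∧ (CohIII.TFun P p).PreservesEpimorphisms) ↔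
        (Module.Flat A (P.homology p) ∧ Module.Flat A (P.homology q))) := by
  have key : ∀ r : ℤ, (CohIII.TFun P r).PreservesMonomorphisms ↔ Module.Flat A (P.homology r) :=
    fun r => (TFun_preservesMono_iff_flat_opcycles P hP r).trans
      (flat_opcycles_iff_flat_homology P hP r)
  have hrel : (ComplexShape.down ℤ).Rel p q := hpq
  refine ⟨key p, ?_⟩
  rw [← TFun_preservesMono_iff_preservesEpi P hP p q hrel, key p, key q]

end dedekind

end Groth.Agent.Lib.Helper7
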