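import Mathlib
import Groth.Prelude.Def_ega3
import Groth.Agent.Lib.Helper7.CxElem
import Groth.Agent.Lib.Helper7.CxTransfer
import Groth.Agent.Lib.Helper7.TFunLES
import Groth.Agent.Lib.Helper7.OpcyclesFlat
import Groth.Agent.Lib.Helper7.DedekindT
set_option autoImplicit false
universe u
open CategoryTheory CategoryTheory.Limits MonoidalCategory TensorProduct

namespace Groth.Agent.Lib.Helper7

section linalg
variable {A : Type u} [CommRing A]

/-- two surjections with the same kernel have isomorphic targets. -/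
noncomputable def equivOfSurjOfKerEq {U C₁ C₂ : Type u} [AddCommGroup U] [AddCommGroup C₁]
    [AddCommGroup C₂] [Module A U] [Module A C₁] [Module A C₂] (p₁ : U →ₗ[A] C₁)
    (p₂ : U →ₗ[A] C₂) (h₁ : Function.Surjective p₁) (h₂ : Function.Surjective p₂)
    (hk : LinearMap.ker p₁ = LinearMap.ker p₂) : C₁ ≃ₗ[A] C₂ :=
  (p₁.quotKerEquivOfSurjective h₁).symm ≪≫ₗ Submodule.quotEquivOfEq _ _ hk ≪≫ₗ
    p₂.quotKerEquivOfSurjective h₂

lemma equivOfSurjOfKerEq_apply {U C₁ C₂ : Type u} [AddCommGroup U] [AddCommGroup C₁]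
    [AddCommGroup C₂] [Module A U] [Module A C₁] [Module A C₂] (p₁ : U →ₗ[A] C₁)
    (p₂ : U →ₗ[A] C₂) (h₁ : Function.Surjective p₁) (h₂ : Function.Surjective p₂)
    (hk : LinearMap.ker p₁ = LinearMap.ker p₂) (u : U) :
    equivOfSurjOfKerEq p₁ p₂ h₁ h₂ hk (p₁ u) = p₂ u := by
  unfold equivOfSurjOfKerEq
  rw [LinearEquiv.trans_apply, LinearEquiv.trans_apply,
    LinearMap.quotKerEquivOfSurjective_symm_apply, Submodule.quotEquivOfEq_mk]
  exact LinearMap.quotKerEquivOfSurjective_apply_mk p₂ h₂ u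

/-- kernels of maps intertwined by equivalences are equivalent. -/
noncomputable def kerEquivOfComm {X Y X' Y' : Type u} [AddCommGroup X] [AddCommGroup Y]
    [AddCommGroup X'] [AddCommGroup Y'] [Module A X] [Module A Y] [Module A X'] [Module A Y']
    (a : X →ₗ[A] Y) (b : X' →ₗ[A] Y') (e : X ≃ₗ[A] X') (e' : Y ≃ₗ[A] Y')
    (h : ∀ x, e' (a x) = b (e x)) : LinearMap.ker a ≃ₗ[A] LinearMap.ker b where
  toFun x := ⟨e x.1, by
    rw [LinearMap.mem_ker, ← h, x.2, map_zero]⟩
  map_add' x y := Subtype.ext (by simp)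
  map_smul' r x := Subtype.ext (by simp)
  invFun y := ⟨e.symm y.1, by
    rw [LinearMap.mem_ker]
    apply e'.injective
    rw [h, e.apply_symm_apply, y.2, map_zero]⟩
  left_inv x := Subtype.ext (by simp)
  right_inv y := Subtype.ext (by simp)

end linalg

section general
variable {A : Type u} [CommRing A] {ι : Type} {c : ComplexShape ι}

lemma fromOpcycles_eq_zero_iff' (K : HomologicalComplex (ModuleCat.{u} A) c) (i j : ι)
    (hj : c.next i = j) (w : K.opcycles i) :
    (K.fromOpcycles i j).hom w = 0 ↔ ∃ h : K.homology i, (K.homologyι i).hom h = w := by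
  subst hj
  exact fromOpcycles_eq_zero_iff K i w

lemma hom_p_fromOpcycles (K : HomologicalComplex (ModuleCat.{u} A) c) (i j : ι) (x : K.X i) :
    (K.fromOpcycles i j).hom ((K.pOpcycles i).hom x) = (K.d i j).hom x :=
  congrArg (fun f => f.hom x) (K.p_fromOpcycles i j)

/-- homology is the kernel of `fromOpcycles`. -/
theorem nonempty_homology_equiv_ker (K : HomologicalComplex (ModuleCat.{u} A) c) (i j : ι)
    (hj : c.next i = j) :
    Nonempty (K.homology i ≃ₗ[A] LinearMap.ker (K.fromOpcycles i j).hom) := by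
  have e0 := LinearEquiv.ofInjective (K.homologyι i).hom (homologyι_injective K i)
  have hr : LinearMap.range (K.homologyι i).hom = LinearMap.ker (K.fromOpcycles i j).hom := by
    ext w
    rw [LinearMap.mem_ker, fromOpcycles_eq_zero_iff' K i j hj w]
    rfl
  exact ⟨e0.trans (LinearEquiv.ofEq _ _ hr)⟩

/-- opcycles commute with `- ⊗ M`. -/
theorem exists_opcycles_tensor_equiv (Q : HomologicalComplex (ModuleCat.{u} A) c)
    (M : ModuleCat.{u} A) (i : ι) :
    ∃ e : (CohIII.tensorObj Q M).opcycles i ≃ₗ[A] (Q.opcycles i ⊗[A] M),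
      ∀ x : Q.X i ⊗[A] M, e (((CohIII.tensorObj Q M).pOpcycles i).hom x) =
        (Q.pOpcycles i).hom.rTensor M x := by
  let p₁ : (Q.X i ⊗[A] M) →ₗ[A] (CohIII.tensorObj Q M).opcycles i :=
    ((CohIII.tensorObj Q M).pOpcycles i).hom
  let p₂ : (Q.X i ⊗[A] M) →ₗ[A] (Q.opcycles i ⊗[A] M) := (Q.pOpcycles i).hom.rTensor M
  have h₁ : Function.Surjective p₁ := pOpcycles_surjective (CohIII.tensorObj Q M) i
  have h₂ : Function.Surjective p₂ := LinearMap.rTensor_surjective M (pOpcycles_surjective Q i)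
  have hk₁ : LinearMap.ker p₁ = LinearMap.range ((Q.d (c.prev i) i).hom.rTensor M) := by
    have hex := exact_d_pOpcycles (CohIII.tensorObj Q M) i
    rw [tensorObj_d] at hex
    exact LinearMap.exact_iff.mp hex
  have hk₂ : LinearMap.ker p₂ = LinearMap.range ((Q.d (c.prev i) i).hom.rTensor M) :=
    LinearMap.exact_iff.mp (rTensor_exact M (exact_d_pOpcycles Q i) (pOpcycles_surjective Q i))
  exact ⟨equivOfSurjOfKerEq p₁ p₂ h₁ h₂ (hk₁.trans hk₂.symm),
    fun x => equivOfSurjOfKerEq_apply p₁ p₂ h₁ h₂ _ x⟩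

/-- `T_i(M) = ker (Q.opcycles i ⊗ M → Q_j ⊗ M)`. -/
theorem nonempty_T_equiv_ker_fromOpcycles (Q : HomologicalComplex (ModuleCat.{u} A) c)
    (M : ModuleCat.{u} A) (i j : ι) (hj : c.next i = j) :
    Nonempty (CohIII.T Q i M ≃ₗ[A] LinearMap.ker ((Q.fromOpcycles i j).hom.rTensor M)) := by
  obtain ⟨e1⟩ := nonempty_homology_equiv_ker (CohIII.tensorObj Q M) i j hj
  obtain ⟨e, he⟩ := exists_opcycles_tensor_equiv Q M i
  have hcomm : ∀ w : (CohIII.tensorObj Q M).opcycles i,
      (LinearEquiv.refl A (Q.X j ⊗[A] M)) (((CohIII.tensorObj Q M).fromOpcycles i j).hom w) =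
        (Q.fromOpcycles i j).hom.rTensor M (e w) := by
    intro w
    obtain ⟨x, rfl⟩ := pOpcycles_surjective (CohIII.tensorObj Q M) i w
    rw [he, LinearEquiv.refl_apply, hom_p_fromOpcycles, ← LinearMap.comp_apply,
      ← LinearMap.rTensor_comp, ← ModuleCat.hom_comp, Q.p_fromOpcycles]
    exact LinearMap.congr_fun (tensorObj_d Q M i j) x
  exact ⟨e1.trans (kerEquivOfComm _ _ e (LinearEquiv.refl A (Q.X j ⊗[A] M)) hcomm)⟩

end general

end Groth.Agent.Lib.Helper7
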