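import Mathlib
import Groth.Prelude.Def_ega3
import Groth.Agent.Lib.Helper7.TorBalance1
set_option autoImplicit false
universe u
open CategoryTheory CategoryTheory.Limits MonoidalCategory TensorProduct

namespace Groth.Agent.Lib.Helper7

variable {A : Type u} [CommRing A]

/-- a flat resolution of `M`: `ℕ`-indexed chain complex of flat modules, exact in positive
degrees, with an augmentation identifying `coker (P₁ → P₀)` with `M`. -/
structure FlatRes (P : ChainComplex (ModuleCat.{u} A) ℕ) (M : ModuleCat.{u} A) where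
  ε : P.X 0 ⟶ M
  flat : ∀ i, Module.Flat A (P.X i)
  exactAt : ∀ i, P.ExactAt (i + 1)
  ε_surj : Function.Surjective ε.hom
  ε_exact : Function.Exact (P.d 1 0).hom ε.hom

section vanishing
variable {ι : Type} {c : ComplexShape ι}

lemma TFun_isZero_of_exactAt_of_flat (P : HomologicalComplex (ModuleCat.{u} A) c) (k : ι)
    (hk : P.ExactAt k) (X : ModuleCat.{u} A) (hX : Module.Flat A X) :
    IsZero (CohIII.T P k X) := by
  haveI := hX
  have hex : (CohIII.tensorObj P X).ExactAt k :=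
    Module.Flat.rTensor_shortComplex_exact X _ hk
  exact hex.isZero_homology

end vanishing

section degreeZero
variable (P : ChainComplex (ModuleCat.{u} A) ℕ)

lemma d_zero_next (X : ModuleCat.{u} A) (u : P.X 0 ⊗[A] X) :
    LinearMap.rTensor X (P.d 0 ((ComplexShape.down ℕ).next 0)).hom u = 0 := by
  have h : P.d 0 ((ComplexShape.down ℕ).next 0) = 0 := by
    apply P.shape
    rw [ChainComplex.next_nat_zero]
    show ¬ (0 + 1 = 0)
    omega
  rw [h, ModuleCat.hom_zero, LinearMap.rTensor_zero, LinearMap.zero_apply]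

/-- the class map `P₀ ⊗ X → T_0(X)`. -/
noncomputable def clsT0 (X : ModuleCat.{u} A) :
    (P.X 0 ⊗[A] X) →ₗ[A] (CohIII.TFun P 0).obj X where
  toFun u := clsT P 0 X u (d_zero_next P X u)
  map_add' u v := cls_add (CohIII.tensorObj P X) 0 u v _ _
  map_smul' r u := cls_smul (CohIII.tensorObj P X) 0 r u _

lemma clsT0_apply (X : ModuleCat.{u} A) (u : P.X 0 ⊗[A] X) :
    clsT0 P X u = clsT P 0 X u (d_zero_next P X u) := rfl

lemma clsT0_surjective (X : ModuleCat.{u} A) : Function.Surjective (clsT0 P X) := by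
  intro h
  obtain ⟨x, hx, rfl⟩ := clsT_surjective P 0 X h
  exact ⟨x, rfl⟩

lemma clsT0_ker (X : ModuleCat.{u} A) :
    LinearMap.ker (clsT0 P X) = LinearMap.range ((P.d 1 0).hom.rTensor X) := by
  ext u
  rw [LinearMap.mem_ker, clsT0_apply]
  refine (clsT_eq_zero_iff P 0 X u _).trans ?_
  have hprev : (ComplexShape.down ℕ).prev 0 = 1 := by
    rw [ChainComplex.prev, Nat.zero_add]
  rw [hprev]
  rfl

lemma clsT0_naturality {X X' : ModuleCat.{u} A} (g : X ⟶ X') (u : P.X 0 ⊗[A] X) :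
    ((CohIII.TFun P 0).map g).hom (clsT0 P X u) =
      clsT0 P X' (LinearMap.lTensor (P.X 0) g.hom u) :=
  TFun_map_clsT P 0 g u (d_zero_next P X u) (d_zero_next P X' _)

variable {P} {M : ModuleCat.{u} A}

/-- `T_0(X) ≃ M ⊗ X`. -/
noncomputable def T0Equiv (hP : FlatRes P M) (X : ModuleCat.{u} A) :
    (CohIII.TFun P 0).obj X ≃ₗ[A] (M ⊗[A] X) :=
  equivOfSurjOfKerEq (clsT0 P X) (hP.ε.hom.rTensor X) (clsT0_surjective P X)
    (LinearMap.rTensor_surjective X hP.ε_surj)
    ((clsT0_ker P X).trans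
      (LinearMap.exact_iff.mp (rTensor_exact X hP.ε_exact hP.ε_surj)).symm)

lemma T0Equiv_clsT0 (hP : FlatRes P M) (X : ModuleCat.{u} A) (u : P.X 0 ⊗[A] X) :
    T0Equiv hP X (clsT0 P X u) = hP.ε.hom.rTensor X u :=
  equivOfSurjOfKerEq_apply _ _ _ _ _ u

lemma T0Equiv_naturality (hP : FlatRes P M) {X X' : ModuleCat.{u} A} (g : X ⟶ X')
    (h : (CohIII.TFun P 0).obj X) :
    T0Equiv hP X' (((CohIII.TFun P 0).map g).hom h) = LinearMap.lTensor M g.hom (T0Equiv hP X h) := by
  obtain ⟨u, rfl⟩ := clsT0_surjective P X h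
  rw [clsT0_naturality, T0Equiv_clsT0, T0Equiv_clsT0, rTensor_lTensor_comm]

end degreeZero

section syzygy
variable (Q : ChainComplex (ModuleCat.{u} A) ℕ)

/-- the syzygy sequence `0 → opcycles (j+1) → Q_j → opcycles j → 0`. -/
noncomputable def syzSC (j : ℕ) : ShortComplex (ModuleCat.{u} A) :=
  ShortComplex.mk (Q.fromOpcycles (j + 1) j) (Q.pOpcycles j) (by
    rw [← cancel_epi (Q.pOpcycles (j + 1)), HomologicalComplex.p_fromOpcycles_assoc,
      HomologicalComplex.d_pOpcycles, comp_zero])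

lemma syzSC_shortExact (j : ℕ) (hex : Q.ExactAt (j + 1)) : (syzSC Q j).ShortExact := by
  have hrel : (ComplexShape.down ℕ).Rel (j + 1) j := rfl
  apply ModuleCat.shortComplex_shortExact
  · show Function.Exact (Q.fromOpcycles (j + 1) j).hom (Q.pOpcycles j).hom
    have hd := exact_d_pOpcycles' Q (j + 1) j hrel
    intro x
    rw [hd x]
    constructor
    · rintro ⟨y, rfl⟩
      exact ⟨(Q.pOpcycles (j + 1)).hom y, hom_p_fromOpcycles Q (j + 1) j y⟩
    · rintro ⟨w, rfl⟩
      obtain ⟨y, rfl⟩ := pOpcycles_surjective Q (j + 1) w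
      exact ⟨y, (hom_p_fromOpcycles Q (j + 1) j y).symm⟩
  · show Function.Injective (Q.fromOpcycles (j + 1) j).hom
    rw [injective_iff_map_eq_zero]
    intro w hw
    obtain ⟨h, rfl⟩ := (fromOpcycles_eq_zero_iff' Q (j + 1) j
      (ChainComplex.next_nat_succ j) w).mp hw
    haveI : Subsingleton (Q.homology (j + 1)) :=
      ModuleCat.subsingleton_of_isZero hex.isZero_homology
    rw [Subsingleton.elim h 0, map_zero]
  · exact pOpcycles_surjective Q j

end syzygy

section shift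
variable (P : ChainComplex (ModuleCat.{u} A) ℕ) (hPf : ∀ i, Module.Flat A (P.X i))
  (hPex : ∀ i, P.ExactAt (i + 1))
include hPf hPex

lemma nonempty_shift_iso (S : ShortComplex (ModuleCat.{u} A)) (hS : S.ShortExact)
    (hfl : Module.Flat A S.X₂) (k : ℕ) :
    Nonempty (CohIII.T P (k + 2) S.X₃ ≅ CohIII.T P (k + 1) S.X₁) := by
  have hSE := tensorSC_shortExact P hPf S hS
  have hrel : (ComplexShape.down ℕ).Rel (k + 2) (k + 1) := rfl
  have hz2 : IsZero (CohIII.T P (k + 2) S.X₂) :=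
    TFun_isZero_of_exactAt_of_flat P (k + 2) (hPex (k + 1)) S.X₂ hfl
  have hz1 : IsZero (CohIII.T P (k + 1) S.X₂) :=
    TFun_isZero_of_exactAt_of_flat P (k + 1) (hPex k) S.X₂ hfl
  have e3 := hSE.homology_exact₃ (k + 2) (k + 1) hrel
  have e1 := hSE.homology_exact₁ (k + 2) (k + 1) hrel
  haveI : Mono (hSE.δ (k + 2) (k + 1) hrel) := e3.mono_g (hz2.eq_of_src _ _)
  haveI : Epi (hSE.δ (k + 2) (k + 1) hrel) := e1.epi_f (hz1.eq_of_tgt _ _)
  haveI : IsIso (hSE.δ (k + 2) (k + 1) hrel) := isIso_of_mono_of_epi _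
  let e := asIso (hSE.δ (k + 2) (k + 1) hrel)
  exact ⟨e⟩

lemma nonempty_T1_equiv_ker (S : ShortComplex (ModuleCat.{u} A)) (hS : S.ShortExact)
    (hfl : Module.Flat A S.X₂) :
    Nonempty (CohIII.T P 1 S.X₃ ≃ₗ[A] LinearMap.ker ((CohIII.TFun P 0).map S.f).hom) := by
  have hSE := tensorSC_shortExact P hPf S hS
  have hrel : (ComplexShape.down ℕ).Rel 1 0 := rfl
  have hz : IsZero (CohIII.T P 1 S.X₂) :=
    TFun_isZero_of_exactAt_of_flat P 1 (hPex 0) S.X₂ hfl
  have e3 := hSE.homology_exact₃ 1 0 hrel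
  have e1 := hSE.homology_exact₁ 1 0 hrel
  haveI : Mono (hSE.δ 1 0 hrel) := e3.mono_g (hz.eq_of_src _ _)
  have hinj : Function.Injective (hSE.δ 1 0 hrel).hom :=
    (ModuleCat.mono_iff_injective _).mp inferInstance
  have hfe := (ShortComplex.ShortExact.moduleCat_exact_iff_function_exact _).mp e1
  have hr : LinearMap.range (hSE.δ 1 0 hrel).hom =
      LinearMap.ker ((CohIII.TFun P 0).map S.f).hom := (LinearMap.exact_iff.mp hfe).symm
  exact ⟨(LinearEquiv.ofInjective _ hinj).trans (LinearEquiv.ofEq _ _ hr)⟩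

end shift

end Groth.Agent.Lib.Helper7
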