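import Mathlib
import Groth.Prelude.Def_ega3
import Groth.Agent.Lib.Helper7.TorBalance2
set_option autoImplicit false
universe u
open CategoryTheory CategoryTheory.Limits MonoidalCategory TensorProduct

namespace Groth.Agent.Lib.Helper7

variable {A : Type u} [CommRing A]

section chain
variable (P Q : ChainComplex (ModuleCat.{u} A) ℕ) (hPf : ∀ i, Module.Flat A (P.X i))
  (hPex : ∀ i, P.ExactAt (i + 1)) (hQf : ∀ i, Module.Flat A (Q.X i))
  (hQex : ∀ i, Q.ExactAt (i + 1))
include hPf hPex hQf hQex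

lemma shift_opcycles : ∀ k j : ℕ,
    Nonempty (CohIII.T P (k + 1) (Q.opcycles j) ≃ₗ[A] CohIII.T P 1 (Q.opcycles (j + k)))
  | 0, j => ⟨LinearEquiv.refl _ _⟩
  | k + 1, j => by
    obtain ⟨e1⟩ := nonempty_shift_iso P hPf hPex (syzSC Q j) (syzSC_shortExact Q j (hQex j))
      (hQf j) k
    obtain ⟨e2⟩ := shift_opcycles k (j + 1)
    have h : j + 1 + k = j + (k + 1) := by omega
    rw [h] at e2
    exact ⟨e1.toLinearEquiv.trans e2⟩

end chain

lemma comm_lTensor {M X Y : Type u} [AddCommGroup M] [AddCommGroup X] [AddCommGroup Y]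
    [Module A M] [Module A X] [Module A Y] (f : X →ₗ[A] Y) (x : M ⊗[A] X) :
    TensorProduct.comm A M Y (LinearMap.lTensor M f x) =
      LinearMap.rTensor M f (TensorProduct.comm A M X x) := by
  induction x using TensorProduct.induction_on with
  | zero => simp only [map_zero]
  | tmul a b =>
    simp only [LinearMap.lTensor_tmul, TensorProduct.comm_tmul, LinearMap.rTensor_tmul]
  | add x y hx hy => simp only [map_add, hx, hy]

/-- **Balancing**: two flat resolutions compute the same Tor. -/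
theorem balance {P Q : ChainComplex (ModuleCat.{u} A) ℕ} {M N : ModuleCat.{u} A}
    (hP : FlatRes P M) (hQ : FlatRes Q N) (n : ℕ) :
    Nonempty (CohIII.T P n N ≃ₗ[A] CohIII.T Q n M) := by
  cases n with
  | zero =>
    have e1 := T0Equiv hP N
    have e2 := T0Equiv hQ M
    exact ⟨e1.trans ((TensorProduct.comm A M N).trans e2.symm)⟩
  | succ m =>
    have hrel10 : (ComplexShape.down ℕ).Rel 1 0 := rfl
    have hk₁ : LinearMap.ker (Q.pOpcycles 0).hom = LinearMap.range (Q.d 1 0).hom :=
      LinearMap.exact_iff.mp (exact_d_pOpcycles' Q 1 0 hrel10)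
    have hk₂ : LinearMap.ker hQ.ε.hom = LinearMap.range (Q.d 1 0).hom :=
      LinearMap.exact_iff.mp hQ.ε_exact
    let iso0 : Q.opcycles 0 ≃ₗ[A] N :=
      equivOfSurjOfKerEq (Q.pOpcycles 0).hom hQ.ε.hom (pOpcycles_surjective Q 0) hQ.ε_surj
        (hk₁.trans hk₂.symm)
    have e0 : CohIII.T P (m + 1) N ≃ₗ[A] CohIII.T P (m + 1) (Q.opcycles 0) :=
      ((CohIII.TFun P (m + 1)).mapIso iso0.toModuleIso.symm).toLinearEquiv
    obtain ⟨e1⟩ := shift_opcycles P Q hP.flat hP.exactAt hQ.flat hQ.exactAt m 0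
    rw [Nat.zero_add] at e1
    obtain ⟨e2⟩ := nonempty_T1_equiv_ker P hP.flat hP.exactAt (syzSC Q m)
      (syzSC_shortExact Q m (hQ.exactAt m)) (hQ.flat m)
    have e3 : LinearMap.ker ((CohIII.TFun P 0).map (Q.fromOpcycles (m + 1) m)).hom ≃ₗ[A]
        LinearMap.ker (LinearMap.lTensor M (Q.fromOpcycles (m + 1) m).hom) :=
      kerEquivOfComm _ _ (T0Equiv hP _) (T0Equiv hP _)
        (fun h => T0Equiv_naturality hP (Q.fromOpcycles (m + 1) m) h)
    have e4 : LinearMap.ker (LinearMap.lTensor M (Q.fromOpcycles (m + 1) m).hom) ≃ₗ[A]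
        LinearMap.ker (LinearMap.rTensor M (Q.fromOpcycles (m + 1) m).hom) :=
      kerEquivOfComm _ _ (TensorProduct.comm A M _) (TensorProduct.comm A M _)
        (fun x => comm_lTensor _ x)
    obtain ⟨e5⟩ := nonempty_T_equiv_ker_fromOpcycles Q M (m + 1) m (ChainComplex.next_nat_succ m)
    exact ⟨e0.trans (e1.trans (e2.trans (e3.trans (e4.trans e5.symm))))⟩

/-- a projective resolution is a flat resolution. -/
noncomputable def FlatRes.ofProjectiveResolution {M : ModuleCat.{u} A}
    (P : ProjectiveResolution M) : FlatRes P.complex M where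
  ε := P.π.f 0 ≫ (HomologicalComplex.singleObjXSelf (ComplexShape.down ℕ) 0 M).hom
  flat i := by
    haveI : Module.Projective A (P.complex.X i) :=
      (IsProjective.iff_projective (R := A) (P.complex.X i)).mpr (P.projective i)
    exact Module.Flat.of_projective
  exactAt i := P.complex_exactAt_succ i
  ε_surj := (ModuleCat.epi_iff_surjective _).mp inferInstance
  ε_exact := by
    have h := (ShortComplex.ShortExact.moduleCat_exact_iff_function_exact _).mp P.exact₀
    intro x
    rw [← h x]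
    show (HomologicalComplex.singleObjXSelf (ComplexShape.down ℕ) 0 M).hom.hom
      ((P.π.f 0).hom x) = 0 ↔ (P.π.f 0).hom x = 0
    constructor
    · intro hx
      have hinj : Function.Injective
          (HomologicalComplex.singleObjXSelf (ComplexShape.down ℕ) 0 M).hom.hom :=
        (ModuleCat.mono_iff_injective _).mp inferInstance
      exact hinj (hx.trans (map_zero _).symm)
    · intro hx
      rw [hx, map_zero]

/-- Mathlib's `Tor_n(M, N)` is computed by tensoring a projective resolution of `N` with `M`. -/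
theorem nonempty_Tor_iso_T (M N : ModuleCat.{u} A) (Q : ProjectiveResolution N) (n : ℕ) :
    Nonempty (((Tor (ModuleCat.{u} A) n).obj M).obj N ≅ CohIII.T Q.complex n M) := by
  have e1 := Q.isoLeftDerivedObj ((tensoringLeft (ModuleCat.{u} A)).obj M) n
  have β : (tensoringLeft (ModuleCat.{u} A)).obj M ≅ tensorRight M :=
    BraidedCategory.tensorLeftIsoTensorRight M
  have e2 := (HomologicalComplex.homologyFunctor (ModuleCat.{u} A) (ComplexShape.down ℕ) n).mapIso
    ((NatIso.mapHomologicalComplex β (ComplexShape.down ℕ)).app Q.complex)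
  exact ⟨e1 ≪≫ e2⟩

/-- Mathlib's `Tor_n(M, N)` is computed by any flat resolution of `M` (first variable). -/
theorem nonempty_Tor_equiv_T_of_flatRes {P : ChainComplex (ModuleCat.{u} A) ℕ}
    {M : ModuleCat.{u} A} (hP : FlatRes P M) (N : ModuleCat.{u} A) (n : ℕ) :
    Nonempty (((Tor (ModuleCat.{u} A) n).obj M).obj N ≃ₗ[A] CohIII.T P n N) := by
  let Q := ProjectiveResolution.of N
  obtain ⟨e1⟩ := nonempty_Tor_iso_T M N Q n
  obtain ⟨e2⟩ := balance hP (FlatRes.ofProjectiveResolution Q) n
  exact ⟨e1.toLinearEquiv.trans e2.symm⟩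

/-- Mathlib's `Tor_n(M, N)` is computed by any flat resolution of `N` (second variable). -/
theorem nonempty_Tor_equiv_T_of_flatRes_right {Q : ChainComplex (ModuleCat.{u} A) ℕ}
    {N : ModuleCat.{u} A} (hQ : FlatRes Q N) (M : ModuleCat.{u} A) (n : ℕ) :
    Nonempty (((Tor (ModuleCat.{u} A) n).obj M).obj N ≃ₗ[A] CohIII.T Q n M) := by
  let P := ProjectiveResolution.of M
  obtain ⟨e1⟩ := nonempty_Tor_equiv_T_of_flatRes (FlatRes.ofProjectiveResolution P) N n
  obtain ⟨e2⟩ := balance (FlatRes.ofProjectiveResolution P) hQ n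
  exact ⟨e1.trans e2⟩

/-- symmetry of Tor. -/
theorem nonempty_Tor_equiv_flip (M N : ModuleCat.{u} A) (n : ℕ) :
    Nonempty (((Tor (ModuleCat.{u} A) n).obj M).obj N ≃ₗ[A]
      ((Tor (ModuleCat.{u} A) n).obj N).obj M) := by
  let Q := ProjectiveResolution.of N
  obtain ⟨e1⟩ := nonempty_Tor_iso_T M N Q n
  obtain ⟨e2⟩ := nonempty_Tor_equiv_T_of_flatRes (FlatRes.ofProjectiveResolution Q) M n
  exact ⟨e1.toLinearEquiv.trans e2.symm⟩

end Groth.Agent.Lib.Helper7
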