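import Mathlib
import Groth.Prelude.Def_ega3
import Groth.Agent.Lib.Helper7.TorBalance3
set_option autoImplicit false
universe u
open CategoryTheory CategoryTheory.Limits MonoidalCategory TensorProduct

namespace Groth.Agent.Lib.Helper7

variable {A : Type u} [CommRing A]

/-- S3535: balancing. -/
theorem nonempty_Tor_iso_homology_left (M N : ModuleCat.{u} A) (P : ProjectiveResolution M)
    (n : ℕ) :
    Nonempty (((Tor (ModuleCat.{u} A) n).obj M).obj N ≅
      (((tensorRight N).mapHomologicalComplex (ComplexShape.down ℕ)).obj P.complex).homology n) := by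
  obtain ⟨e⟩ := nonempty_Tor_equiv_T_of_flatRes (FlatRes.ofProjectiveResolution P) N n
  exact ⟨e.toModuleIso⟩

theorem Tor_subsingleton_of_flat_left (M N : ModuleCat.{u} A) (hM : Module.Flat A M) (p : ℕ)
    (hp : 0 < p) : Subsingleton (((Tor (ModuleCat.{u} A) p).obj M).obj N) := by
  obtain ⟨k, rfl⟩ : ∃ k, p = k + 1 := Nat.exists_eq_succ_of_ne_zero hp.ne'
  let Q := ProjectiveResolution.of N
  obtain ⟨e⟩ := nonempty_Tor_iso_T M N Q (k + 1)
  have hz : IsZero (CohIII.T Q.complex (k + 1) M) :=
    TFun_isZero_of_exactAt_of_flat Q.complex (k + 1) (Q.complex_exactAt_succ k) M hM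
  haveI : Subsingleton (CohIII.T Q.complex (k + 1) M) := ModuleCat.subsingleton_of_isZero hz
  exact e.toLinearEquiv.toEquiv.subsingleton

theorem Tor_subsingleton_of_flat_right (M N : ModuleCat.{u} A) (hN : Module.Flat A N) (p : ℕ)
    (hp : 0 < p) : Subsingleton (((Tor (ModuleCat.{u} A) p).obj M).obj N) := by
  obtain ⟨k, rfl⟩ : ∃ k, p = k + 1 := Nat.exists_eq_succ_of_ne_zero hp.ne'
  let P := ProjectiveResolution.of M
  obtain ⟨e⟩ := nonempty_Tor_equiv_T_of_flatRes (FlatRes.ofProjectiveResolution P) N (k + 1)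
  have hz : IsZero (CohIII.T P.complex (k + 1) N) :=
    TFun_isZero_of_exactAt_of_flat P.complex (k + 1) (P.complex_exactAt_succ k) N hN
  haveI : Subsingleton (CohIII.T P.complex (k + 1) N) := ModuleCat.subsingleton_of_isZero hz
  exact e.toEquiv.subsingleton

end Groth.Agent.Lib.Helper7
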