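import Mathlib
import Groth.Prelude
import Groth.Agent.Lib.Helper13.CechLeray

/-!
# Naturality of the Leray isomorphism `Ȟ^p(Y, G) ≃ H^p(Φ B, G)`

We rebuild the isomorphisms of `Helper13.CechLeray.leray` from the *standard* short exact sequences
`G → I(G) → I(G)/G` and prove that the resulting family is natural in the Leray sheaf `G`.
-/
set_option autoImplicit false
universe w v u' u
open CategoryTheory CategoryTheory.Limits Opposite CategoryTheory.Abelian

noncomputable section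

namespace Groth.Agent.Lib.Helper7.LerayNat

open Groth.Agent.Lib.Helper13 Groth.Agent.Lib.Helper13.CechBasic Groth.Agent.Lib.Helper13.CechLow
  Groth.Agent.Lib.Helper13.CechSheaf Groth.Agent.Lib.Helper13.CechLES
  Groth.Agent.Lib.Helper13.CechH0 Groth.Agent.Lib.Helper13.CechLeray

section Abstract

theorem cokerTransfer_apply {A₃ A₁ B₃ B₁ : Type*} [AddCommGroup A₃] [AddCommGroup A₁]
    [AddCommGroup B₃] [AddCommGroup B₁] (π : A₃ →+ A₁) (hπ : Function.Surjective π)
    (ρ : B₃ →+ B₁) (hρ : Function.Surjective ρ) (e₃ : A₃ ≃+ B₃)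
    (h : ∀ x, π x = 0 ↔ ρ (e₃ x) = 0) (x : A₃) :
    ExtShift.cokerTransfer π hπ ρ hρ e₃ h (π x) = ρ (e₃ x) := by
  have h1 : (QuotientAddGroup.quotientKerEquivOfSurjective π hπ).symm (π x) =
      (QuotientAddGroup.mk x : A₃ ⧸ π.ker) := by
    rw [AddEquiv.symm_apply_eq]
    rfl
  unfold ExtShift.cokerTransfer
  rw [AddEquiv.trans_apply, h1, AddEquiv.trans_apply]
  rfl

variable {𝒜 : Type u'} [Category.{v} 𝒜] [Abelian 𝒜] [HasExt.{w} 𝒜]

theorem extδ_naturality {S S' : ShortComplex 𝒜} (hS : S.ShortExact) (hS' : S'.ShortExact)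
    (φ : S ⟶ S') (T : 𝒜) (n m : ℕ) (h : n + 1 = m) (x : Ext T S.X₃ n) :
    (ExtShift.δ hS T n m h x).comp (Ext.mk₀ φ.τ₁) (add_zero m) =
      ExtShift.δ hS' T n m h (x.comp (Ext.mk₀ φ.τ₃) (add_zero n)) := by
  rw [ExtShift.δ_apply, ExtShift.δ_apply, Ext.comp_assoc_of_third_deg_zero,
    ShortComplex.ShortExact.extClass_naturality hS hS' φ, Ext.comp_assoc_of_second_deg_zero]

end Abstract

variable {C : Type u} [SmallCategory C] {J : GrothendieckTopology C}
  {D : Type u} [SmallCategory D] [HasFiniteProducts D] {Φ : D ⥤ C} {κ : Type u} {Y : κ → D}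
  {B : D} {A : Aug Y B}

/-- functoriality of `cechSC`. -/
def cechSCMap {S S' : ShortComplex (Dᵒᵖ ⥤ AddCommGrpCat.{u})} (θ : S ⟶ S') :
    cechSC Y S ⟶ cechSC Y S' where
  τ₁ := (cechComplexFunctor Y).map θ.τ₁
  τ₂ := (cechComplexFunctor Y).map θ.τ₂
  τ₃ := (cechComplexFunctor Y).map θ.τ₃
  comm₁₂ := by
    change (cechComplexFunctor Y).map θ.τ₁ ≫ (cechComplexFunctor Y).map S'.f =
      (cechComplexFunctor Y).map S.f ≫ (cechComplexFunctor Y).map θ.τ₂
    rw [← Functor.map_comp, ← Functor.map_comp, θ.comm₁₂]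
  comm₂₃ := by
    change (cechComplexFunctor Y).map θ.τ₂ ≫ (cechComplexFunctor Y).map S'.g =
      (cechComplexFunctor Y).map S.g ≫ (cechComplexFunctor Y).map θ.τ₃
    rw [← Functor.map_comp, ← Functor.map_comp, θ.comm₂₃]

/-- functoriality of `preSC`. -/
def preSCMap {S S' : ShortComplex (Sheaf J AddCommGrpCat.{u})} (φ : S ⟶ S') :
    preSC J Φ S ⟶ preSC J Φ S' :=
  ((Functor.whiskeringLeft _ _ AddCommGrpCat.{u}).obj Φ.op).mapShortComplex.map
    ((sheafToPresheaf J AddCommGrpCat.{u}).mapShortComplex.map φ)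

theorem cechδ_naturality {S S' : ShortComplex (Sheaf J AddCommGrpCat.{u})} (hS : S.ShortExact)
    (hS' : S'.ShortExact) (hL : IsLeray J Φ Y S.X₁) (hL' : IsLeray J Φ Y S'.X₁) (φ : S ⟶ S')
    (i j : ℕ) (hij : i + 1 = j) (x : (cx Y (pre J Φ S.X₃)).homology i) :
    (HomologicalComplex.homologyMap ((cechComplexFunctor Y).map
        (Functor.whiskerLeft Φ.op φ.τ₁.hom)) j).hom
        (((cechSC_shortExact (sectionwiseExact hS hL)).δ i j hij).hom x) =
      ((cechSC_shortExact (sectionwiseExact hS' hL')).δ i j hij).hom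
        ((HomologicalComplex.homologyMap ((cechComplexFunctor Y).map
          (Functor.whiskerLeft Φ.op φ.τ₃.hom)) i).hom x) :=
  ConcreteCategory.congr_hom (HomologicalComplex.HomologySequence.δ_naturality
    (cechSCMap (preSCMap φ)) (cechSC_shortExact (sectionwiseExact hS hL))
    (cechSC_shortExact (sectionwiseExact hS' hL')) i j hij) x

section Equivs

variable (ctx : Ctx J Φ Y A)
include ctx

theorem h1Equiv_δ {S : ShortComplex (Sheaf J AddCommGrpCat.{u})} (hS : S.ShortExact)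
    [Injective S.X₂] (hL : IsLeray J Φ Y S.X₁) (x : (cx Y (pre J Φ S.X₃)).homology 0) :
    h1Equiv ctx hS hL (((cechSC_shortExact (sectionwiseExact hS hL)).δ 0 1 rfl).hom x) =
      ExtShift.δ hS (CohCx.freeSheaf J (Φ.obj B)) 0 1 rfl (h0Equiv ctx S.X₃ x) := by
  unfold h1Equiv
  exact cokerTransfer_apply _ _ _ _ _ _ x

theorem h1Equiv_naturality {S S' : ShortComplex (Sheaf J AddCommGrpCat.{u})}
    (hS : S.ShortExact) (hS' : S'.ShortExact) [Injective S.X₂] [Injective S'.X₂]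
    (hL : IsLeray J Φ Y S.X₁) (hL' : IsLeray J Φ Y S'.X₁) (φ : S ⟶ S')
    (y : (cx Y (pre J Φ S.X₁)).homology 1) :
    h1Equiv ctx hS' hL' ((HomologicalComplex.homologyMap ((cechComplexFunctor Y).map
        (Functor.whiskerLeft Φ.op φ.τ₁.hom)) 1).hom y) =
      (h1Equiv ctx hS hL y).comp (Ext.mk₀ φ.τ₁) (add_zero 1) := by
  have hsurj : ∀ y : (cx Y (pre J Φ S.X₁)).homology 1,
      ∃ x : (cx Y (pre J Φ S.X₃)).homology 0,
        ((cechSC_shortExact (sectionwiseExact hS hL)).δ 0 1 rfl).hom x = y :=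
    (AddCommGrpCat.epi_iff_surjective _).1
      ((cechSC_shortExact (sectionwiseExact hS hL)).epi_δ 0 1 rfl
        (ctx.inj S.X₂ inferInstance 0))
  obtain ⟨x, rfl⟩ := hsurj y
  have e1 := cechδ_naturality hS hS' hL hL' φ 0 1 rfl x
  have e2 := h1Equiv_δ ctx hS' hL' ((HomologicalComplex.homologyMap
    ((cechComplexFunctor Y).map (Functor.whiskerLeft Φ.op φ.τ₃.hom)) 0).hom x)
  have e3 := h1Equiv_δ ctx hS hL x
  have e4 := h0Equiv_naturality ctx φ.τ₃ x
  have e5 := extδ_naturality hS hS' φ (CohCx.freeSheaf J (Φ.obj B)) 0 1 rfl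
    (h0Equiv ctx S.X₃ x)
  exact ((congrArg (h1Equiv ctx hS' hL') e1).trans (e2.trans ((congrArg
    (ExtShift.δ hS' (CohCx.freeSheaf J (Φ.obj B)) 0 1 rfl) e4).trans e5.symm))).trans
    (congrArg (fun z => z.comp (Ext.mk₀ φ.τ₁) (add_zero 1)) e3.symm)

theorem stepEquiv_δ {S : ShortComplex (Sheaf J AddCommGrpCat.{u})} (hS : S.ShortExact)
    [Injective S.X₂] (hL : IsLeray J Φ Y S.X₁) (p : ℕ)
    (e : (cx Y (pre J Φ S.X₃)).homology (p + 1) ≃+
      Ext (CohCx.freeSheaf J (Φ.obj B)) S.X₃ (p + 1))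
    (x : (cx Y (pre J Φ S.X₃)).homology (p + 1)) :
    stepEquiv ctx hS hL p e
        (((cechSC_shortExact (sectionwiseExact hS hL)).δ (p + 1) (p + 2) rfl).hom x) =
      ExtShift.δ hS (CohCx.freeSheaf J (Φ.obj B)) (p + 1) (p + 2) rfl (e x) := by
  have h1 : ((cechSC_shortExact (sectionwiseExact hS hL)).δIso (p + 1) (p + 2) rfl
      (ctx.inj S.X₂ inferInstance p)
      (ctx.inj S.X₂ inferInstance (p + 1))).addCommGroupIsoToAddEquiv.symm
      (((cechSC_shortExact (sectionwiseExact hS hL)).δ (p + 1) (p + 2) rfl).hom x) = x :=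
    (AddEquiv.symm_apply_eq _).mpr rfl
  have h2 : stepEquiv ctx hS hL p e
        (((cechSC_shortExact (sectionwiseExact hS hL)).δ (p + 1) (p + 2) rfl).hom x) =
      ExtShift.δ hS (CohCx.freeSheaf J (Φ.obj B)) (p + 1) (p + 2) rfl
        (e (((cechSC_shortExact (sectionwiseExact hS hL)).δIso (p + 1) (p + 2) rfl
      (ctx.inj S.X₂ inferInstance p)
      (ctx.inj S.X₂ inferInstance (p + 1))).addCommGroupIsoToAddEquiv.symm
      (((cechSC_shortExact (sectionwiseExact hS hL)).δ (p + 1) (p + 2) rfl).hom x))) := rfl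
  exact h2.trans (congrArg (fun z => ExtShift.δ hS (CohCx.freeSheaf J (Φ.obj B)) (p + 1) (p + 2)
    rfl (e z)) h1)

theorem stepEquiv_naturality {S S' : ShortComplex (Sheaf J AddCommGrpCat.{u})}
    (hS : S.ShortExact) (hS' : S'.ShortExact) [Injective S.X₂] [Injective S'.X₂]
    (hL : IsLeray J Φ Y S.X₁) (hL' : IsLeray J Φ Y S'.X₁) (φ : S ⟶ S') (p : ℕ)
    (e : (cx Y (pre J Φ S.X₃)).homology (p + 1) ≃+
      Ext (CohCx.freeSheaf J (Φ.obj B)) S.X₃ (p + 1))
    (e' : (cx Y (pre J Φ S'.X₃)).homology (p + 1) ≃+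
      Ext (CohCx.freeSheaf J (Φ.obj B)) S'.X₃ (p + 1))
    (he : ∀ x, e' ((HomologicalComplex.homologyMap ((cechComplexFunctor Y).map
        (Functor.whiskerLeft Φ.op φ.τ₃.hom)) (p + 1)).hom x) =
      (e x).comp (Ext.mk₀ φ.τ₃) (add_zero (p + 1)))
    (y : (cx Y (pre J Φ S.X₁)).homology (p + 2)) :
    stepEquiv ctx hS' hL' p e' ((HomologicalComplex.homologyMap ((cechComplexFunctor Y).map
        (Functor.whiskerLeft Φ.op φ.τ₁.hom)) (p + 2)).hom y) =
      (stepEquiv ctx hS hL p e y).comp (Ext.mk₀ φ.τ₁) (add_zero (p + 2)) := by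
  have hsurj : ∀ y : (cx Y (pre J Φ S.X₁)).homology (p + 2),
      ∃ x : (cx Y (pre J Φ S.X₃)).homology (p + 1),
        ((cechSC_shortExact (sectionwiseExact hS hL)).δ (p + 1) (p + 2) rfl).hom x = y :=
    (AddCommGrpCat.epi_iff_surjective _).1
      ((cechSC_shortExact (sectionwiseExact hS hL)).epi_δ (p + 1) (p + 2) rfl
        (ctx.inj S.X₂ inferInstance (p + 1)))
  obtain ⟨x, rfl⟩ := hsurj y
  have e1 := cechδ_naturality hS hS' hL hL' φ (p + 1) (p + 2) rfl x
  have e2 := stepEquiv_δ ctx hS' hL' p e' ((HomologicalComplex.homologyMap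
    ((cechComplexFunctor Y).map (Functor.whiskerLeft Φ.op φ.τ₃.hom)) (p + 1)).hom x)
  have e3 := stepEquiv_δ ctx hS hL p e x
  have e4 := he x
  have e5 := extδ_naturality hS hS' φ (CohCx.freeSheaf J (Φ.obj B)) (p + 1) (p + 2) rfl (e x)
  exact ((congrArg (stepEquiv ctx hS' hL' p e') e1).trans (e2.trans ((congrArg
    (ExtShift.δ hS' (CohCx.freeSheaf J (Φ.obj B)) (p + 1) (p + 2) rfl) e4).trans e5.symm))).trans
    (congrArg (fun z => z.comp (Ext.mk₀ φ.τ₁) (add_zero (p + 2))) e3.symm)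

end Equivs

section Std

variable [EnoughInjectives (Sheaf J AddCommGrpCat.{u})]

/-- the standard short exact sequence `G → I(G) → I(G)/G`. -/
abbrev stdSES (G : Sheaf J AddCommGrpCat.{u}) : ShortComplex (Sheaf J AddCommGrpCat.{u}) :=
  ShortComplex.mk (Injective.ι G) (cokernel.π (Injective.ι G)) (cokernel.condition _)

lemma stdSES_shortExact (G : Sheaf J AddCommGrpCat.{u}) : (stdSES G).ShortExact :=
  { exact := ShortComplex.exact_of_g_is_cokernel _ (cokernelIsCokernel _)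
    mono_f := inferInstanceAs (Mono (Injective.ι G))
    epi_g := inferInstanceAs (Epi (cokernel.π (Injective.ι G))) }

instance (G : Sheaf J AddCommGrpCat.{u}) : Injective (stdSES G).X₂ :=
  inferInstanceAs (Injective (Injective.under G))

/-- a lift of a morphism to the injective hulls. -/
def stdMid {G G' : Sheaf J AddCommGrpCat.{u}} (ψ : G ⟶ G') :
    Injective.under G ⟶ Injective.under G' :=
  Injective.factorThru (ψ ≫ Injective.ι G') (Injective.ι G)

lemma stdMid_comm {G G' : Sheaf J AddCommGrpCat.{u}} (ψ : G ⟶ G') :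
    Injective.ι G ≫ stdMid ψ = ψ ≫ Injective.ι G' :=
  Injective.comp_factorThru _ _

/-- functoriality (non canonical) of the standard short exact sequence. -/
abbrev stdMap {G G' : Sheaf J AddCommGrpCat.{u}} (ψ : G ⟶ G') : stdSES G ⟶ stdSES G' :=
  ShortComplex.homMk ψ (stdMid ψ)
    (cokernel.map (Injective.ι G) (Injective.ι G') ψ (stdMid ψ) (stdMid_comm ψ))
    (stdMid_comm ψ).symm
    (cokernel.π_desc _ _ _).symm

/-- a natural family of isomorphisms `Ȟ^p(Y, G) ≃ H^p(Φ B, G)` on Leray sheaves. -/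
def NatFam (J : GrothendieckTopology C) (Φ : D ⥤ C) (Y : κ → D) (B : D) (p : ℕ) : Prop :=
  ∃ e : ∀ G : Sheaf J AddCommGrpCat.{u}, IsLeray J Φ Y G →
      ((cx Y (pre J Φ G)).homology p ≃+ Ext (CohCx.freeSheaf J (Φ.obj B)) G p),
    ∀ (G G' : Sheaf J AddCommGrpCat.{u}) (hG : IsLeray J Φ Y G) (hG' : IsLeray J Φ Y G')
      (ψ : G ⟶ G') (y : (cx Y (pre J Φ G)).homology p),
      e G' hG' ((HomologicalComplex.homologyMap ((cechComplexFunctor Y).map
        (Functor.whiskerLeft Φ.op ψ.hom)) p).hom y) =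
        (e G hG y).comp (Ext.mk₀ ψ) (add_zero p)

set_option maxHeartbeats 2000000 in
/-- the degree one isomorphism. -/
def eOne (ctx : Ctx J Φ Y A) (G : Sheaf J AddCommGrpCat.{u}) (hL : IsLeray J Φ Y G) :
    (cx Y (pre J Φ G)).homology 1 ≃+ Ext (CohCx.freeSheaf J (Φ.obj B)) G 1 :=
  h1Equiv (S := stdSES G) ctx (stdSES_shortExact G) hL

set_option maxHeartbeats 2000000 in
theorem eOne_naturality (ctx : Ctx J Φ Y A) {G G' : Sheaf J AddCommGrpCat.{u}}
    (hG : IsLeray J Φ Y G) (hG' : IsLeray J Φ Y G') (ψ : G ⟶ G')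
    (y : (cx Y (pre J Φ G)).homology 1) :
    eOne ctx G' hG' ((HomologicalComplex.homologyMap ((cechComplexFunctor Y).map
        (Functor.whiskerLeft Φ.op ψ.hom)) 1).hom y) =
      (eOne ctx G hG y).comp (Ext.mk₀ ψ) (add_zero 1) :=
  h1Equiv_naturality (S := stdSES G) (S' := stdSES G') ctx (stdSES_shortExact G)
    (stdSES_shortExact G') hG hG' (stdMap ψ) y

set_option maxHeartbeats 2000000 in
/-- the inductive step. -/
def eStep (ctx : Ctx J Φ Y A) (p : ℕ)
    (e : ∀ G : Sheaf J AddCommGrpCat.{u}, IsLeray J Φ Y G →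
      ((cx Y (pre J Φ G)).homology (p + 1) ≃+ Ext (CohCx.freeSheaf J (Φ.obj B)) G (p + 1)))
    (G : Sheaf J AddCommGrpCat.{u}) (hL : IsLeray J Φ Y G) :
    (cx Y (pre J Φ G)).homology (p + 2) ≃+ Ext (CohCx.freeSheaf J (Φ.obj B)) G (p + 2) :=
  stepEquiv (S := stdSES G) ctx (stdSES_shortExact G) hL p
    (e (stdSES G).X₃ (isLeray_X₃ (stdSES_shortExact G) hL))

set_option maxHeartbeats 2000000 in
theorem eStep_naturality (ctx : Ctx J Φ Y A) (p : ℕ)
    (e : ∀ G : Sheaf J AddCommGrpCat.{u}, IsLeray J Φ Y G →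
      ((cx Y (pre J Φ G)).homology (p + 1) ≃+ Ext (CohCx.freeSheaf J (Φ.obj B)) G (p + 1)))
    (he : ∀ (G G' : Sheaf J AddCommGrpCat.{u}) (hG : IsLeray J Φ Y G) (hG' : IsLeray J Φ Y G')
      (ψ : G ⟶ G') (y : (cx Y (pre J Φ G)).homology (p + 1)),
      e G' hG' ((HomologicalComplex.homologyMap ((cechComplexFunctor Y).map
        (Functor.whiskerLeft Φ.op ψ.hom)) (p + 1)).hom y) =
        (e G hG y).comp (Ext.mk₀ ψ) (add_zero (p + 1)))
    {G G' : Sheaf J AddCommGrpCat.{u}}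
    (hG : IsLeray J Φ Y G) (hG' : IsLeray J Φ Y G') (ψ : G ⟶ G')
    (y : (cx Y (pre J Φ G)).homology (p + 2)) :
    eStep ctx p e G' hG' ((HomologicalComplex.homologyMap ((cechComplexFunctor Y).map
        (Functor.whiskerLeft Φ.op ψ.hom)) (p + 2)).hom y) =
      (eStep ctx p e G hG y).comp (Ext.mk₀ ψ) (add_zero (p + 2)) :=
  stepEquiv_naturality (S := stdSES G) (S' := stdSES G') ctx (stdSES_shortExact G)
    (stdSES_shortExact G') hG hG' (stdMap ψ) p
    (e (stdSES G).X₃ (isLeray_X₃ (stdSES_shortExact G) hG))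
    (e (stdSES G').X₃ (isLeray_X₃ (stdSES_shortExact G') hG'))
    (fun x => he (stdSES G).X₃ (stdSES G').X₃ _ _ (stdMap ψ).τ₃ x) y

/-- **Leray's theorem, natural form.** -/
theorem leray_nat (ctx : Ctx J Φ Y A) (p : ℕ) : NatFam J Φ Y B p := by
  suffices h : NatFam J Φ Y B p ∧ NatFam J Φ Y B (p + 1) from h.1
  induction p with
  | zero =>
    exact ⟨⟨fun G _ => h0Equiv ctx G, fun G G' _ _ ψ y => h0Equiv_naturality ctx ψ y⟩,
      ⟨fun G hL => eOne ctx G hL, fun G G' hG hG' ψ y => eOne_naturality ctx hG hG' ψ y⟩⟩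
  | succ p ih =>
    obtain ⟨e, he⟩ := ih.2
    exact ⟨ih.2, ⟨fun G hL => eStep ctx p e G hL,
      fun G G' hG hG' ψ y => eStep_naturality ctx p e he hG hG' ψ y⟩⟩

end Std

end Groth.Agent.Lib.Helper7.LerayNat
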