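import Mathlib
import Groth.Prelude
import Groth.Agent.Lib.Helper7.LerayNat
import Groth.Agent.Lib.Helper13.AffineVanish
import Groth.Agent.Lib.Helper13.CechLerayApp

/-!
# Natural comparison between Čech and sheaf cohomology on schemes
-/
set_option autoImplicit false
universe u
open CategoryTheory CategoryTheory.Limits Opposite CategoryTheory.Abelian TopologicalSpace
  AlgebraicGeometry

noncomputable section

namespace Groth.Agent.Lib.Helper7.LerayNat

open Groth.Agent.Lib.Helper13 Groth.Agent.Lib.Helper13.CechBasic Groth.Agent.Lib.Helper13.CechLow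
  Groth.Agent.Lib.Helper13.CechSheaf Groth.Agent.Lib.Helper13.CechLES
  Groth.Agent.Lib.Helper13.CechH0 Groth.Agent.Lib.Helper13.CechLeray
  Groth.Agent.Lib.Helper13.CechInjective

theorem HEquivHU_symm_naturality {C : Type u} [SmallCategory C] (J : GrothendieckTopology C)
    {T : C} (hT : IsTerminal T) {F F' : Sheaf J AddCommGrpCat.{u}} (ψ : F ⟶ F') (n : ℕ)
    (α : Ext (CohCx.freeSheaf J T) F n) :
    (ProfiniteAcyclic.HEquivHU J hT F' n).symm (α.comp (Ext.mk₀ ψ) (add_zero n)) =
      Sheaf.H.map ψ n ((ProfiniteAcyclic.HEquivHU J hT F n).symm α) :=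
  (Ext.comp_assoc_of_third_deg_zero (Ext.mk₀ (ProfiniteAcyclic.constIso J hT).hom) α
    (Ext.mk₀ ψ) (zero_add n)).symm

/-- Čech cohomology for a cover with affine finite intersections computes the cohomology of
quasi-coherent modules, *naturally* with respect to morphisms of the underlying abelian sheaves. -/
theorem cech_nat (X : Scheme.{u}) {ι : Type u} (U : ι → X.Opens) (hcov : ⨆ i, U i = ⊤)
    (hU : ∀ s : Finset ι, s.Nonempty → IsAffineOpen (⨅ i ∈ s, U i)) (p : ℕ) :
    ∃ e : ∀ M : X.Modules, Coh.IsQCoh M → (↑(CohB1.cechH U M p) ≃+ Coh.HH X M p),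
      ∀ (M M' : X.Modules) (hM : Coh.IsQCoh M) (hM' : Coh.IsQCoh M')
        (ψ : Coh.toAb M ⟶ Coh.toAb M') (y : ↑(CohB1.cechH U M p)),
        e M' hM' ((HomologicalComplex.homologyMap ((cechComplexFunctor U).map ψ.hom) p).hom y) =
          Sheaf.H.map ψ p (e M hM y) := by
  classical
  have ctx : Ctx (Opens.grothendieckTopology X) (𝟭 (Opens X)) U (topAug U ⊤ hcov) :=
    { glue := fun G => isGluing_top U ⊤ hcov G
      inj := fun I hI p => isZero_cechH_top I U p }
  have hL : ∀ M : X.Modules, Coh.IsQCoh M →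
      IsLeray (Opens.grothendieckTopology X) (𝟭 (Opens X)) U (Coh.toAb M) := by
    intro M hM n a q
    have hs : (Finset.univ.image a).Nonempty := Finset.image_nonempty.2 Finset.univ_nonempty
    have h1 := hU (Finset.univ.image a) hs
    have h2 : (⨅ i ∈ Finset.univ.image a, U i) = iInf fun k => U (a k) := by
      rw [Finset.iInf_finset_image]
      simp
    rw [h2] at h1
    have h3 := AffineVanish.subsingleton_HU_of_isAffineOpen M h1 q
    rw [← CechTop.prod_eq_iInf] at h3
    exact h3
  obtain ⟨e, he⟩ := leray_nat ctx p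
  have hT : IsTerminal (⊤ : X.Opens) := isTerminalTop
  refine ⟨fun M hM => (e (Coh.toAb M) (hL M hM)).trans
    (ProfiniteAcyclic.HEquivHU (Opens.grothendieckTopology X) hT (Coh.toAb M) p).symm, ?_⟩
  intro M M' hM hM' ψ y
  have h1 := he (Coh.toAb M) (Coh.toAb M') (hL M hM) (hL M' hM') ψ y
  exact (congrArg (ProfiniteAcyclic.HEquivHU (Opens.grothendieckTopology X) hT
    (Coh.toAb M') p).symm h1).trans
    (HEquivHU_symm_naturality (Opens.grothendieckTopology X) hT ψ p _)

end Groth.Agent.Lib.Helper7.LerayNat
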