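import Mathlib
import Groth.Agent.Lib.Helper7.TMapLib
set_option autoImplicit false
universe u
open CategoryTheory CategoryTheory.Limits TensorProduct

namespace Groth.Agent.Lib.Helper7

variable {A : Type u} [CommRing A]
variable (T : ModuleCat.{u} A ⥤ ModuleCat.{u} A) [T.Additive] [T.Linear A]

lemma tMap_naturality {M N : ModuleCat.{u} A} (g : M ⟶ N)
    (w : TensorProduct A (T.obj (ModuleCat.of A A)) M) :
    (T.map g).hom (tMap T M w) = tMap T N (LinearMap.lTensor _ g.hom w) := by
  induction w using TensorProduct.induction_on with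
  | zero => simp
  | tmul y x =>
    rw [tMap_tmul, LinearMap.lTensor_tmul, tMap_tmul]
    have : thetaHom M x ≫ g = thetaHom N (g.hom x) := by
      apply ModuleCat.hom_ext
      apply LinearMap.ext_ring
      show g.hom ((thetaHom M x).hom 1) = (thetaHom N (g.hom x)).hom 1
      rw [thetaHom_apply, thetaHom_apply, one_smul, one_smul]
    rw [← this, T.map_comp]
    rfl
  | add a b ha hb => simp only [map_add, ha, hb]

/-- Lemma A -/
lemma tMap_surjective_of_surjective {F M : ModuleCat.{u} A} (b : F ⟶ M)
    (hTb : Function.Surjective (T.map b).hom) (hF : Function.Surjective (tMap T F)) :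
    Function.Surjective (tMap T M) := by
  intro z
  obtain ⟨z₀, rfl⟩ := hTb z
  obtain ⟨w₀, rfl⟩ := hF z₀
  exact ⟨_, (tMap_naturality T b w₀).symm⟩

/-- Lemma B -/
lemma tMap_injective_of_exact (S : ShortComplex (ModuleCat.{u} A))
    (hg : Function.Surjective S.g.hom)
    (hT : Function.Exact (T.map S.f).hom (T.map S.g).hom)
    (hK : Function.Surjective (tMap T S.X₁)) (hF : Function.Injective (tMap T S.X₂)) :
    Function.Injective (tMap T S.X₃) := by
  rw [injective_iff_map_eq_zero]
  intro x hx
  obtain ⟨y, rfl⟩ := LinearMap.lTensor_surjective (T.obj (ModuleCat.of A A)) hg x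
  have h1 : (T.map S.g).hom (tMap T S.X₂ y) = 0 := by rw [tMap_naturality, hx]
  obtain ⟨z, hz⟩ := (hT _).mp h1
  obtain ⟨w, rfl⟩ := hK z
  rw [tMap_naturality] at hz
  have hy := hF hz
  rw [← hy, ← LinearMap.comp_apply, ← LinearMap.lTensor_comp]
  have h0 : S.g.hom ∘ₗ S.f.hom = 0 := by
    rw [← ModuleCat.hom_comp, S.zero]; rfl
  rw [h0, LinearMap.lTensor_zero, LinearMap.zero_apply]

section
variable [∀ J : Type u, PreservesColimitsOfShape (Discrete J) T]

theorem tMap_bijective_of_halfExact_of_surjective
    (hhalf : ∀ S : ShortComplex (ModuleCat.{u} A), S.ShortExact → (S.map T).Exact)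
    (hsurj : ∀ M : ModuleCat.{u} A, Function.Surjective (tMap T M)) (M : ModuleCat.{u} A) :
    Function.Bijective (tMap T M) := by
  refine ⟨?_, hsurj M⟩
  let b : (M →₀ A) →ₗ[A] M := Finsupp.linearCombination A id
  have hb : Function.Surjective b := Finsupp.linearCombination_id_surjective A M
  let S := b.shortComplexKer
  have hS : S.ShortExact := LinearMap.shortExact_shortComplexKer hb
  have hT := hhalf S hS
  rw [ShortComplex.ShortExact.moduleCat_exact_iff_function_exact] at hT
  have : Module.Free A S.X₂ := inferInstanceAs (Module.Free A (M →₀ A))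
  exact tMap_injective_of_exact T S hS.moduleCat_surjective_g hT (hsurj _)
    (tMap_bijective_of_free T S.X₂).1

theorem preservesFiniteColimits_iff_tMap_bijective :
    PreservesFiniteColimits T ↔ ∀ M : ModuleCat.{u} A, Function.Bijective (tMap T M) := by
  constructor
  · intro h M
    have h' := (Functor.preservesFiniteColimits_iff_forall_exact_map_and_epi T).mp h
    have hsurj : ∀ M : ModuleCat.{u} A, Function.Surjective (tMap T M) := by
      intro M
      let b : (M →₀ A) →ₗ[A] M := Finsupp.linearCombination A id
      have hb : Function.Surjective b := Finsupp.linearCombination_id_surjective A M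
      let S := b.shortComplexKer
      have hS : S.ShortExact := LinearMap.shortExact_shortComplexKer hb
      have hepi : Epi (T.map S.g) := (h' S hS).2
      have : Module.Free A S.X₂ := inferInstanceAs (Module.Free A (M →₀ A))
      exact tMap_surjective_of_surjective T S.g ((ModuleCat.epi_iff_surjective _).mp hepi)
        (tMap_bijective_of_free T S.X₂).2
    exact tMap_bijective_of_halfExact_of_surjective T (fun S hS => (h' S hS).1) hsurj M
  · intro hbij
    rw [Functor.preservesFiniteColimits_iff_forall_exact_map_and_epi]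
    intro S hS
    have hex := (ShortComplex.ShortExact.moduleCat_exact_iff_function_exact S).mp hS.exact
    have hg := hS.moduleCat_surjective_g
    have hgT : Function.Surjective (T.map S.g).hom := by
      intro z
      obtain ⟨w, rfl⟩ := (hbij S.X₃).2 z
      obtain ⟨w', rfl⟩ := LinearMap.lTensor_surjective (T.obj (ModuleCat.of A A)) hg w
      exact ⟨tMap T S.X₂ w', tMap_naturality T S.g w'⟩
    refine ⟨?_, (ModuleCat.epi_iff_surjective _).mpr hgT⟩
    rw [ShortComplex.ShortExact.moduleCat_exact_iff_function_exact]
    intro z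
    constructor
    · intro hz
      obtain ⟨w, rfl⟩ := (hbij S.X₂).2 z
      have hz' : (T.map S.g).hom (tMap T S.X₂ w) = 0 := hz
      rw [tMap_naturality] at hz'
      have hw : LinearMap.lTensor (T.obj (ModuleCat.of A A)) S.g.hom w = 0 :=
        (hbij S.X₃).1 (by rw [hz', map_zero])
      obtain ⟨v, rfl⟩ := (lTensor_exact (T.obj (ModuleCat.of A A)) hex hg _).mp hw
      exact ⟨tMap T S.X₁ v, tMap_naturality T S.f v⟩
    · rintro ⟨v, rfl⟩
      show (T.map S.g).hom ((T.map S.f).hom v) = 0
      rw [← LinearMap.comp_apply, ← ModuleCat.hom_comp, ← T.map_comp, S.zero, T.map_zero]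
      rfl

theorem preservesFiniteColimits_iff_halfExact_and_tMap_surjective :
    PreservesFiniteColimits T ↔
      (∀ S : ShortComplex (ModuleCat.{u} A), S.ShortExact → (S.map T).Exact) ∧
        ∀ M : ModuleCat.{u} A, Function.Surjective (tMap T M) := by
  constructor
  · intro h
    have h' := (Functor.preservesFiniteColimits_iff_forall_exact_map_and_epi T).mp h
    exact ⟨fun S hS => (h' S hS).1,
      fun M => ((preservesFiniteColimits_iff_tMap_bijective T).mp h M).2⟩
  · rintro ⟨hhalf, hsurj⟩
    exact (preservesFiniteColimits_iff_tMap_bijective T).mpr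
      (tMap_bijective_of_halfExact_of_surjective T hhalf hsurj)

end

end Groth.Agent.Lib.Helper7
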