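import Mathlib
import Groth.Agent.Lib.Helper7.TMapLib2
set_option autoImplicit false
universe u
open CategoryTheory CategoryTheory.Limits TensorProduct

namespace Groth.Agent.Lib.Helper7

variable {A : Type u} [CommRing A]
variable (T : ModuleCat.{u} A ⥤ ModuleCat.{u} A) [T.Additive] [T.Linear A]

/-- `t_A` is the canonical iso `T(A) ⊗ A ≅ T(A)`. -/
lemma tMap_self_eq : tMap T (ModuleCat.of A A) =
    (TensorProduct.rid A (T.obj (ModuleCat.of A A))).toLinearMap := by
  refine TensorProduct.ext' fun y a => ?_
  rw [tMap_tmul]
  have h1 : thetaHom (ModuleCat.of A A) a = a • 𝟙 (ModuleCat.of A A) := by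
    apply ModuleCat.hom_ext
    apply LinearMap.ext_ring
    rw [thetaHom_apply, ModuleCat.hom_smul, LinearMap.smul_apply, ModuleCat.hom_id,
      LinearMap.id_apply, one_smul, smul_eq_mul, mul_one]
  rw [h1, Functor.map_smul, T.map_id, ModuleCat.hom_smul, LinearMap.smul_apply, ModuleCat.hom_id,
    LinearMap.id_apply]
  simp

lemma tMap_self_bijective : Function.Bijective (tMap T (ModuleCat.of A A)) := by
  rw [tMap_self_eq]
  exact (TensorProduct.rid A (T.obj (ModuleCat.of A A))).bijective

/-- injectivity of `t_F` for free `F = X →₀ A`, for any additive linear functor. -/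
lemma tMap_injective_finsupp (X : Type u) :
    Function.Injective (tMap T (ModuleCat.of A (X →₀ A))) := by
  classical
  rw [injective_iff_map_eq_zero]
  intro w hw
  apply (TensorProduct.finsuppRight A A (T.obj (ModuleCat.of A A)) A X).injective
  rw [map_zero]
  ext x : 1
  rw [TensorProduct.finsuppRight_apply, Finsupp.zero_apply]
  apply (tMap_self_bijective T).1
  rw [map_zero]
  have := tMap_naturality T (ModuleCat.ofHom (Finsupp.lapply (R := A) (M := A) x) :
    ModuleCat.of A (X →₀ A) ⟶ ModuleCat.of A A) w
  rw [hw, map_zero] at this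
  exact this.symm

/-- surjectivity of `t_F` for finite free `F = s →₀ A`. -/
lemma tMap_surjective_finsupp_fintype (s : Type u) [Fintype s] :
    Function.Surjective (tMap T (ModuleCat.of A (s →₀ A))) := by
  classical
  intro z
  let F := ModuleCat.of A (s →₀ A)
  let pr : s → (F ⟶ ModuleCat.of A A) := fun i => ModuleCat.ofHom (Finsupp.lapply (R := A) (M := A) i)
  let e : s → F := fun i => (Finsupp.single i (1 : A) : s →₀ A)
  have hid : 𝟙 F = ∑ i : s, pr i ≫ thetaHom F (e i) := by
    apply ModuleCat.hom_ext
    apply LinearMap.ext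
    intro v
    have : ∀ i : s, (pr i ≫ thetaHom F (e i)).hom v = Finsupp.single i ((v : s →₀ A) i) := by
      intro i
      show (thetaHom F (e i)).hom ((v : s →₀ A) i) = _
      rw [thetaHom_apply]
      show (v : s →₀ A) i • (Finsupp.single i (1 : A) : s →₀ A) = _
      rw [Finsupp.smul_single, smul_eq_mul, mul_one]
    rw [ModuleCat.hom_sum, LinearMap.sum_apply, Finset.sum_congr rfl (fun i _ => this i)]
    exact (Finsupp.univ_sum_single (v : s →₀ A)).symm
  refine ⟨∑ i : s, ((T.map (pr i)).hom z) ⊗ₜ[A] (e i), ?_⟩
  rw [map_sum]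
  have h2 : z = (T.map (𝟙 F)).hom z := by rw [T.map_id]; rfl
  conv_rhs => rw [h2, hid, Functor.map_sum, ModuleCat.hom_sum, LinearMap.sum_apply]
  refine Finset.sum_congr rfl fun i _ => ?_
  rw [T.map_comp]
  exact tMap_tmul T F _ _

section
variable (hfree : ∀ X : Type u, Function.Bijective (tMap T (ModuleCat.of A (X →₀ A))))
include hfree

theorem tMap_bijective_of_halfExact_of_surjective'
    (hhalf : ∀ S : ShortComplex (ModuleCat.{u} A), S.ShortExact → (S.map T).Exact)
    (hsurj : ∀ M : ModuleCat.{u} A, Function.Surjective (tMap T M)) (M : ModuleCat.{u} A) :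
    Function.Bijective (tMap T M) := by
  refine ⟨?_, hsurj M⟩
  let b : (M →₀ A) →ₗ[A] M := Finsupp.linearCombination A id
  have hb : Function.Surjective b := Finsupp.linearCombination_id_surjective A M
  let S := b.shortComplexKer
  have hS : S.ShortExact := LinearMap.shortExact_shortComplexKer hb
  have hT := hhalf S hS
  rw [ShortComplex.ShortExact.moduleCat_exact_iff_function_exact] at hT
  exact tMap_injective_of_exact T S hS.moduleCat_surjective_g hT (hsurj _) (hfree M).1

theorem tMap_bijective_of_preservesFiniteColimits' (h : PreservesFiniteColimits T)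
    (M : ModuleCat.{u} A) : Function.Bijective (tMap T M) := by
  have h' := (Functor.preservesFiniteColimits_iff_forall_exact_map_and_epi T).mp h
  have hsurj : ∀ M : ModuleCat.{u} A, Function.Surjective (tMap T M) := by
    intro M
    let b : (M →₀ A) →ₗ[A] M := Finsupp.linearCombination A id
    have hb : Function.Surjective b := Finsupp.linearCombination_id_surjective A M
    let S := b.shortComplexKer
    have hS : S.ShortExact := LinearMap.shortExact_shortComplexKer hb
    have hepi : Epi (T.map S.g) := (h' S hS).2
    exact tMap_surjective_of_surjective T S.g ((ModuleCat.epi_iff_surjective _).mp hepi)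
      (hfree M).2
  exact tMap_bijective_of_halfExact_of_surjective' T hfree (fun S hS => (h' S hS).1) hsurj M

end

end Groth.Agent.Lib.Helper7
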