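import Mathlib
import Groth.Prelude.Def_ega3
import Groth.Agent.Lib.Helper7.TMapLib3
import Groth.Agent.Lib.Helper7.TFunFG
set_option autoImplicit false
universe u
open CategoryTheory CategoryTheory.Limits MonoidalCategory

namespace Groth.Agent.Lib.Helper7

variable {A : Type u} [CommRing A] {ι : Type} {c : ComplexShape ι}

theorem TFun_tMap_bijective_finsupp (P : HomologicalComplex (ModuleCat.{u} A) c)
    (hP : ∀ i, Module.Flat A (P.X i)) (p : ι) (X : Type u) :
    Function.Bijective (tMap (CohIII.TFun P p) (ModuleCat.of A (X →₀ A))) := by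
  classical
  refine ⟨tMap_injective_finsupp _ X, ?_⟩
  intro z
  obtain ⟨M', hfg, z', rfl⟩ := exists_fg_submodule_of_T P hP p (ModuleCat.of A (X →₀ A)) z
  obtain ⟨S', hS'⟩ := hfg
  let s : Finset X := S'.biUnion Finsupp.support
  have hle : M' ≤ Finsupp.supported A A (s : Set X) := by
    rw [← hS', Submodule.span_le]
    intro v hv
    rw [SetLike.mem_coe, Finsupp.mem_supported]
    intro x hx
    exact Finset.mem_coe.mpr (Finset.mem_biUnion.mpr ⟨v, hv, hx⟩)
  let eq := Finsupp.supportedEquivFinsupp (M := A) (R := A) (s : Set X)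
  let r : M' →ₗ[A] ((s : Set X) →₀ A) := eq.toLinearMap ∘ₗ Submodule.inclusion hle
  let j : ((s : Set X) →₀ A) →ₗ[A] (X →₀ A) :=
    (Finsupp.supported A A (s : Set X)).subtype ∘ₗ eq.symm.toLinearMap
  have hjr : j ∘ₗ r = M'.subtype := by
    apply LinearMap.ext
    intro m
    simp [j, r]
  have hcomp : (ModuleCat.ofHom M'.subtype : ModuleCat.of A M' ⟶ ModuleCat.of A (X →₀ A)) =
      ModuleCat.ofHom r ≫ ModuleCat.ofHom j := by
    rw [← ModuleCat.ofHom_comp, hjr]
  obtain ⟨w, hw⟩ := tMap_surjective_finsupp_fintype (CohIII.TFun P p) (s : Set X)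
    (((CohIII.TFun P p).map (ModuleCat.ofHom r)).hom z')
  refine ⟨LinearMap.lTensor _ j w, ?_⟩
  have hn := tMap_naturality (CohIII.TFun P p) (ModuleCat.ofHom j) w
  rw [hw] at hn
  rw [hcomp, Functor.map_comp]
  exact hn.symm

theorem TFun_exact_iff_iso_tensorLeft (P : HomologicalComplex (ModuleCat.{u} A) c)
    (hP : ∀ i, Module.Flat A (P.X i)) (p : ι) :
    ((CohIII.TFun P p).PreservesMonomorphisms ∧ (CohIII.TFun P p).PreservesEpimorphisms) ↔
      ∃ N : ModuleCat.{u} A, Module.Flat A N ∧ Nonempty (CohIII.TFun P p ≅ tensorLeft N) := by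
  constructor
  · rintro ⟨hm, he⟩
    have hrex : PreservesFiniteColimits (CohIII.TFun P p) := by
      rw [Functor.preservesFiniteColimits_iff_forall_exact_map_and_epi]
      intro S hS
      have : Epi S.g := hS.epi_g
      exact ⟨TFun_halfExact P hP p S hS, inferInstance⟩
    have hbij := tMap_bijective_of_preservesFiniteColimits' (CohIII.TFun P p)
      (TFun_tMap_bijective_finsupp P hP p) hrex
    let N := (CohIII.TFun P p).obj (ModuleCat.of A A)
    let iso : tensorLeft N ≅ CohIII.TFun P p := NatIso.ofComponents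
      (fun M => (LinearEquiv.ofBijective (tMap (CohIII.TFun P p) M) (hbij M)).toModuleIso)
      (by
        intro M M' g
        apply ModuleCat.hom_ext
        apply LinearMap.ext
        intro w
        exact (tMap_naturality (CohIII.TFun P p) g w).symm)
    refine ⟨N, ?_, ⟨iso.symm⟩⟩
    rw [Module.Flat.iff_lTensor_preserves_injective_linearMap]
    intro N₁ N₂ _ _ _ _ f hf
    have hmono : Mono (ModuleCat.ofHom f) := (ModuleCat.mono_iff_injective _).mpr hf
    have hTf : Function.Injective ((CohIII.TFun P p).map (ModuleCat.ofHom f)).hom :=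
      (ModuleCat.mono_iff_injective _).mp inferInstance
    rw [injective_iff_map_eq_zero]
    intro w hw
    apply (hbij (ModuleCat.of A N₁)).1
    apply hTf
    rw [map_zero, map_zero, tMap_naturality]
    show tMap (CohIII.TFun P p) (ModuleCat.of A N₂) (LinearMap.lTensor _ f w) = 0
    rw [hw, map_zero]
  · rintro ⟨N, hN, ⟨iso⟩⟩
    have hm : (tensorLeft N).PreservesMonomorphisms := ⟨fun {X Y} f hf => by
      rw [ModuleCat.mono_iff_injective] at hf ⊢
      show Function.Injective (N ◁ f).hom
      rw [ModuleCat.hom_whiskerLeft]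
      exact Module.Flat.lTensor_preserves_injective_linearMap _ hf⟩
    have he : (tensorLeft N).PreservesEpimorphisms := ⟨fun {X Y} f hf => by
      rw [ModuleCat.epi_iff_surjective] at hf ⊢
      show Function.Surjective (N ◁ f).hom
      rw [ModuleCat.hom_whiskerLeft]
      exact LinearMap.lTensor_surjective _ hf⟩
    exact ⟨Functor.PreservesMonomorphisms.of_iso iso.symm,
      Functor.PreservesEpimorphisms.of_iso iso.symm⟩

end Groth.Agent.Lib.Helper7
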