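import Mathlib
import Groth.Prelude
import Groth.Agent.Lib.Helper13.CechLocal
import Groth.Agent.Lib.Helper13.CechLES
import Groth.Agent.Lib.Helper13.CechDelta

/-!
# The full (ordered) Čech complex of a finite family of `n` opens is acyclic in degrees `≥ n`

No alternating cochains: induction on a finite "support" set `S` of indices.  For `a ∈ S` compare
`P` with `P_a : W ↦ P(W ∩ U_a)` (whose Čech complex is contractible in positive degrees); kernel and
cokernel of `P → P_a` vanish on opens inside `U_a`, hence are supported on `S \ {a}`.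

* `SuppIn U P S`: `P(W) = 0` whenever `W ≤ U j` for some `j ∉ S`.
* `isZero_homology_of_suppIn`, `isZero_cechH_of_card_le`.
-/
set_option autoImplicit false
universe u
open CategoryTheory CategoryTheory.Limits Opposite TopologicalSpace

noncomputable section

namespace Groth.Agent.Lib.Helper7.CechCard

open Groth.Agent.Lib.Helper13 Groth.Agent.Lib.Helper13.CechBasic Groth.Agent.Lib.Helper13.CechLow
  Groth.Agent.Lib.Helper13.CechLES Groth.Agent.Lib.Helper13.CechLocal

section Abelian

variable {𝒜 : Type*} [Category 𝒜] [Abelian 𝒜]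

lemma shortExact_kernel {A B : 𝒜} (g : A ⟶ B) [Epi g] :
    (ShortComplex.mk (kernel.ι g) g (kernel.condition g)).ShortExact := by
  have h1 : Mono (ShortComplex.mk (kernel.ι g) g (kernel.condition g)).f :=
    inferInstanceAs (Mono (kernel.ι g))
  have h2 : Epi (ShortComplex.mk (kernel.ι g) g (kernel.condition g)).g :=
    inferInstanceAs (Epi g)
  exact ShortComplex.ShortExact.mk' (ShortComplex.exact_of_f_is_kernel _ (kernelIsKernel g)) h1 h2

end Abelian

variable {X : TopCat.{u}} {ι : Type u} (U : ι → Opens X)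

lemma r_refl (P : (Opens X)ᵒᵖ ⥤ AddCommGrpCat.{u}) {W : Opens X} (h : W ≤ W)
    (x : P.obj (op W)) : r P h x = x := by
  change (P.map (𝟙 (op W))).hom x = x
  rw [P.map_id]
  rfl

lemma r_bijective (P : (Opens X)ᵒᵖ ⥤ AddCommGrpCat.{u}) {W W' : Opens X} (h : W' ≤ W)
    (h' : W ≤ W') : Function.Bijective (r P h) := by
  constructor
  · intro x y hxy
    have := congrArg (r P h') hxy
    rwa [r_r, r_r, r_refl, r_refl] at this
  · intro y
    exact ⟨r P h' y, by rw [r_r, r_refl]⟩

/-- `W ↦ W ⊓ U a`. -/
def interF (a : ι) : Opens X ⥤ Opens X :=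
  Monotone.functor (f := fun W => W ⊓ U a) (fun _ _ h => inf_le_inf_right _ h)

/-- `W ↦ P (W ⊓ U a)`. -/
def Pa (P : (Opens X)ᵒᵖ ⥤ AddCommGrpCat.{u}) (a : ι) : (Opens X)ᵒᵖ ⥤ AddCommGrpCat.{u} :=
  (interF U a).op ⋙ P

/-- restriction `P ⟶ P_a`. -/
def rho (P : (Opens X)ᵒᵖ ⥤ AddCommGrpCat.{u}) (a : ι) : P ⟶ Pa U P a where
  app W := P.map (homOfLE (inf_le_left : W.unop ⊓ U a ≤ W.unop)).op
  naturality W W' f := by
    have h : ∀ {A B : (Opens X)ᵒᵖ} (g g' : A ⟶ B), P.map g = P.map g' :=
      fun g g' => congrArg P.map (Quiver.Hom.unop_inj (Subsingleton.elim _ _))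
    change P.map f ≫ P.map _ = P.map _ ≫ P.map _
    exact (P.map_comp _ _).symm.trans ((h _ _).trans (P.map_comp _ _))

lemma rho_app (P : (Opens X)ᵒᵖ ⥤ AddCommGrpCat.{u}) (a : ι) (W : Opens X) (x : P.obj (op W)) :
    ((rho U P a).app (op W)).hom x = r P (inf_le_left : W ⊓ U a ≤ W) x := rfl

lemma isLoc_Pa (P : (Opens X)ᵒᵖ ⥤ AddCommGrpCat.{u}) (a : ι) {n : ℕ} (i : Fin (n + 1) → ι) :
    IsLoc (Pa U P a) (fun _ => 𝟙 (Pa U P a)) (le_cons U a i) := by
  have hbij : Function.Bijective (r (Pa U P a) (le_cons U a i)) := by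
    have h0 : (∏ᶜ (U ∘ i)) ⊓ U a ≤ (∏ᶜ (U ∘ (Fin.cons a i : Fin (n + 2) → ι))) ⊓ U a := by
      refine le_inf ?_ inf_le_right
      rw [prod_eq_iInf U (Fin.cons a i : Fin (n + 2) → ι)]
      refine le_iInf (fun k => ?_)
      refine Fin.cases ?_ (fun k' => ?_) k
      · simp only [Fin.cons_zero]
        exact inf_le_right
      · simp only [Fin.cons_succ]
        exact inf_le_left.trans (Pi.π (U ∘ i) k').le
    exact r_bijective P (inf_le_inf_right (U a) (le_cons U a i)) h0
  exact
    { surj := fun y => by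
        obtain ⟨x, hx⟩ := hbij.2 y
        exact ⟨0, x, hx⟩
      inj := fun x hx => ⟨0, hbij.1 (hx.trans (map_zero _).symm)⟩ }

lemma cechExact_Pa [Finite ι] (P : (Opens X)ᵒᵖ ⥤ AddCommGrpCat.{u}) (a : ι) (n : ℕ) :
    CechExact U (Pa U P a) n := by
  intro c hc
  obtain ⟨M, b, hb⟩ := exists_primitive_mul (P := Pa U P a) (V := U)
    (φ := fun _ => 𝟙 (Pa U P a)) (fun N K => (Category.id_comp _).symm) a
    (fun n i => isLoc_Pa U P a i) n c hc
  refine ⟨b, hb.trans ?_⟩
  change (((cechComplexFunctor U).map (𝟙 (Pa U P a))).f (n + 1)).hom c = c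
  rw [CategoryTheory.Functor.map_id]
  rfl

/-- `P` vanishes on every open contained in some `U j` with `j ∉ S`. -/
def SuppIn (P : (Opens X)ᵒᵖ ⥤ AddCommGrpCat.{u}) (S : Finset ι) : Prop :=
  ∀ (W : Opens X) (j : ι), j ∉ S → W ≤ U j → Subsingleton (P.obj (op W))

lemma isZero_X_of_suppIn_empty (P : (Opens X)ᵒᵖ ⥤ AddCommGrpCat.{u}) (h : SuppIn U P ∅) (q : ℕ) :
    IsZero ((cx U P).X q) := by
  have hs : Subsingleton ((cx U P).X q) := ⟨fun x y => ext_elem U P (fun i => by
    haveI := h (∏ᶜ (U ∘ i)) (i 0) (Finset.notMem_empty _) (Pi.π (U ∘ i) 0).le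
    exact Subsingleton.elim _ _)⟩
  exact AddCommGrpCat.isZero_of_subsingleton _

lemma isZero_homology_of_isZero_X (K : CochainComplex AddCommGrpCat.{u} ℕ) (q : ℕ)
    (h : IsZero (K.X q)) : IsZero (K.homology q) := by
  have h1 : (K.sc q).Exact := ShortComplex.exact_of_isZero_X₂ _ h
  exact (ShortComplex.exact_iff_isZero_homology _).1 h1

variable {U}

lemma isZero_mid {S : ShortComplex ((Opens X)ᵒᵖ ⥤ AddCommGrpCat.{u})}
    (hS : SectionwiseExact U S) (q : ℕ) (h₁ : IsZero ((cx U S.X₁).homology q))
    (h₃ : IsZero ((cx U S.X₃).homology q)) : IsZero ((cx U S.X₂).homology q) :=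
  ((cechSC_shortExact hS).homology_exact₂ q).isZero_of_both_zeros
    (h₁.eq_of_src _ _) (h₃.eq_of_tgt _ _)

lemma isZero_left {S : ShortComplex ((Opens X)ᵒᵖ ⥤ AddCommGrpCat.{u})}
    (hS : SectionwiseExact U S) (q : ℕ) (h₃ : IsZero ((cx U S.X₃).homology q))
    (h₂ : IsZero ((cx U S.X₂).homology (q + 1))) : IsZero ((cx U S.X₁).homology (q + 1)) :=
  ((cechSC_shortExact hS).homology_exact₁ q (q + 1) rfl).isZero_of_both_zeros
    (h₃.eq_of_src _ _) (h₂.eq_of_tgt _ _)

variable (U)

lemma sectionwise_of_shortExact {S : ShortComplex ((Opens X)ᵒᵖ ⥤ AddCommGrpCat.{u})}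
    (hS : S.ShortExact) : SectionwiseExact U S :=
  { inj := fun _ _ x hx => CechDelta.app_injective hS _ x hx
    ex := fun _ _ x hx => CechDelta.app_exact hS _ x hx
    surj := fun _ _ z => CechDelta.app_surjective hS _ z }

theorem isZero_homology_of_suppIn [Finite ι] [DecidableEq ι] (S : Finset ι) :
    ∀ (P : (Opens X)ᵒᵖ ⥤ AddCommGrpCat.{u}), SuppIn U P S → ∀ q, S.card ≤ q →
      IsZero ((cx U P).homology q) := by
  induction S using Finset.induction_on with
  | empty =>
    intro P hP q _
    exact isZero_homology_of_isZero_X _ q (isZero_X_of_suppIn_empty U P hP q)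
  | insert a S' ha ih =>
    intro P hP q hq
    rw [Finset.card_insert_of_notMem ha] at hq
    obtain ⟨q', rfl⟩ : ∃ q', q = q' + 1 := ⟨q - 1, by omega⟩
    have hq' : S'.card ≤ q' := by omega
    have hS1 := shortExact_kernel (Abelian.factorThruImage (rho U P a))
    have hS2 := shortExact_kernel (cokernel.π (rho U P a))
    have hK : SuppIn U (kernel (Abelian.factorThruImage (rho U P a))) S' := by
      intro W j hj hW
      have key : ∀ x : (kernel (Abelian.factorThruImage (rho U P a))).obj (op W), x = 0 := by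
        intro x
        apply CechDelta.app_injective hS1 (op W) x
        change ((kernel.ι (Abelian.factorThruImage (rho U P a))).app (op W)).hom x = 0
        generalize hy : ((kernel.ι (Abelian.factorThruImage (rho U P a))).app (op W)).hom x = y
        have h1 : ((Abelian.factorThruImage (rho U P a)).app (op W)).hom y = 0 := by
          have := ConcreteCategory.congr_hom (NatTrans.congr_app
            (kernel.condition (Abelian.factorThruImage (rho U P a))) (op W)) x
          rw [← hy]
          exact this.trans (by simp)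
        by_cases hja : j = a
        · have hWa : W ≤ U a := hja ▸ hW
          have h2 := ConcreteCategory.congr_hom (NatTrans.congr_app
            (Abelian.image.fac (rho U P a)) (op W)) y
          have h3 : ((rho U P a).app (op W)).hom y = 0 := by
            rw [← h2]
            change ((Abelian.image.ι (rho U P a)).app (op W)).hom
              (((Abelian.factorThruImage (rho U P a)).app (op W)).hom y) = 0
            rw [h1, map_zero]
          exact (r_bijective P inf_le_left (le_inf le_rfl hWa)).1 (h3.trans (map_zero _).symm)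
        · haveI := hP W j (by simp [hja, hj]) hW
          exact Subsingleton.elim _ _
      exact ⟨fun x x' => (key x).trans (key x').symm⟩
    have hQ : SuppIn U (cokernel (rho U P a)) S' := by
      intro W j hj hW
      have key : ∀ z : (cokernel (rho U P a)).obj (op W), z = 0 := by
        intro z
        obtain ⟨y, rfl⟩ := CechDelta.app_surjective hS2 (op W) z
        change ((cokernel.π (rho U P a)).app (op W)).hom y = 0
        by_cases hja : j = a
        · have hWa : W ≤ U a := hja ▸ hW
          obtain ⟨x, rfl⟩ := (r_bijective P inf_le_left (le_inf le_rfl hWa)).2 y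
          have := ConcreteCategory.congr_hom (NatTrans.congr_app
            (cokernel.condition (rho U P a)) (op W)) x
          exact this.trans (by simp)
        · haveI : Subsingleton ((Pa U P a).obj (op W)) :=
            hP (W ⊓ U a) j (by simp [hja, hj]) (inf_le_left.trans hW)
          rw [Subsingleton.elim y 0, map_zero]
      exact ⟨fun z z' => (key z).trans (key z').symm⟩
    have h1 : IsZero ((cx U (kernel (Abelian.factorThruImage (rho U P a)))).homology (q' + 1)) :=
      ih _ hK (q' + 1) (by omega)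
    have h2 : IsZero ((cx U (cokernel (rho U P a))).homology q') := ih _ hQ q' hq'
    have h3 : IsZero ((cx U (Pa U P a)).homology (q' + 1)) :=
      (cechExact_iff U _ q').1 (cechExact_Pa U P a q')
    have h4 : IsZero ((cx U (Abelian.image (rho U P a))).homology (q' + 1)) :=
      isZero_left (sectionwise_of_shortExact U hS2) q' h2 h3
    exact isZero_mid (sectionwise_of_shortExact U hS1) (q' + 1) h1 h4

/-- the ordered Čech complex of a family of `n` opens has no cohomology in degrees `≥ n`. -/
theorem isZero_cechH_of_card_le [Finite ι] (P : (Opens X)ᵒᵖ ⥤ AddCommGrpCat.{u}) (q : ℕ)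
    (hq : Nat.card ι ≤ q) : IsZero ((cx U P).homology q) := by
  classical
  haveI := Fintype.ofFinite ι
  refine isZero_homology_of_suppIn U Finset.univ P
    (fun W j hj _ => absurd (Finset.mem_univ j) hj) q ?_
  rw [Finset.card_univ, ← Nat.card_eq_fintype_card]
  exact hq

end Groth.Agent.Lib.Helper7.CechCard
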