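import Mathlib
set_option autoImplicit false
universe u
open CategoryTheory CategoryTheory.Limits
namespace Groth.Agent.Lib.Helper7

section modlemma
variable {R : Type*} [Ring R] {N M P : Type*} [AddCommGroup N] [AddCommGroup M] [AddCommGroup P]
  [Module R N] [Module R M] [Module R P]

theorem length_eq_ker_add_range (f : N →ₗ[R] M) :
    Module.length R N = Module.length R (LinearMap.ker f) + Module.length R (LinearMap.range f) :=
  Module.length_eq_add_of_exact (LinearMap.ker f).subtype f.rangeRestrict
    (Submodule.subtype_injective _) f.surjective_rangeRestrict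
    (by
      intro y
      constructor
      · intro hy
        refine ⟨⟨y, ?_⟩, rfl⟩
        rw [LinearMap.mem_ker]
        exact congrArg Subtype.val hy
      · rintro ⟨z, rfl⟩
        apply Subtype.ext
        exact z.2)

theorem length_eq_range_add_quotient (g : M →ₗ[R] P) :
    Module.length R P = Module.length R (LinearMap.range g) + Module.length R (P ⧸ LinearMap.range g) :=
  Module.length_eq_add_of_exact (LinearMap.range g).subtype (LinearMap.range g).mkQ
    (Submodule.subtype_injective _) (Submodule.mkQ_surjective _) (LinearMap.exact_subtype_mkQ _)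

theorem length_mid_le (f : N →ₗ[R] M) (g : M →ₗ[R] P) (H : Function.Exact f g) :
    Module.length R M ≤ Module.length R N + Module.length R P := by
  have h1 := length_eq_ker_add_range g
  rw [LinearMap.exact_iff.mp H] at h1
  have h2 := length_eq_ker_add_range f
  have h3 := length_eq_range_add_quotient g
  rw [h1, h2, h3]
  exact add_le_add le_add_self le_self_add

theorem length_mid_eq_iff (f : N →ₗ[R] M) (g : M →ₗ[R] P) (H : Function.Exact f g)
    (hN : Module.length R N ≠ ⊤) (hP : Module.length R P ≠ ⊤) :
    Module.length R M = Module.length R N + Module.length R P ↔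
      Function.Injective f ∧ Function.Surjective g := by
  have h1 := length_eq_ker_add_range g
  rw [LinearMap.exact_iff.mp H] at h1
  have h2 := length_eq_ker_add_range f
  have h3 := length_eq_range_add_quotient g
  have hk : Module.length R (LinearMap.ker f) = 0 ↔ Function.Injective f := by
    rw [Module.length_eq_zero_iff, ← LinearMap.ker_eq_bot, Submodule.subsingleton_iff_eq_bot]
  have hc : Module.length R (P ⧸ LinearMap.range g) = 0 ↔ Function.Surjective g := by
    rw [Module.length_eq_zero_iff, Submodule.Quotient.subsingleton_iff, LinearMap.range_eq_top]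
  rw [← hk, ← hc, h1]
  rw [h2] at hN
  rw [h3] at hP
  rw [h2, h3]
  generalize Module.length R (LinearMap.ker f) = k at *
  generalize Module.length R (LinearMap.range f) = rf at *
  generalize Module.length R (LinearMap.range g) = rg at *
  generalize Module.length R (P ⧸ LinearMap.range g) = c at *
  obtain ⟨hk', hrf⟩ := WithTop.add_ne_top.mp hN
  obtain ⟨hrg, hc'⟩ := WithTop.add_ne_top.mp hP
  lift k to ℕ using hk'
  lift rf to ℕ using hrf
  lift rg to ℕ using hrg
  lift c to ℕ using hc'
  norm_cast
  omega

end modlemma

theorem length_map_ne_top_aux {A B : Type u} [Ring A] [Ring B]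
    (F : ModuleCat.{u} A ⥤ ModuleCat.{u} B) [F.Additive]
    (hF : ∀ S : ShortComplex (ModuleCat.{u} A), S.ShortExact → (S.map F).Exact)
    (hS : ∀ M : ModuleCat.{u} A, IsSimpleModule A M → Module.length B (F.obj M) ≠ ⊤)
    (M : Type u) [AddCommGroup M] [Module A M] (h : IsFiniteLength A M) :
    Module.length B (F.obj (ModuleCat.of A M)) ≠ ⊤ := by
  induction h with
  | of_subsingleton =>
    rename_i M _ _ _
    have hz : IsZero (F.obj (ModuleCat.of A M)) := F.map_isZero (ModuleCat.isZero_of_subsingleton _)
    have := ModuleCat.subsingleton_of_isZero hz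
    rw [Module.length_eq_zero]
    exact ENat.zero_ne_top
  | of_simple_quotient hN ih =>
    rename_i M _ _ N _
    let S : ShortComplex (ModuleCat.{u} A) := ShortComplex.moduleCatMk N.subtype N.mkQ (by ext x; simp)
    have hSE : S.ShortExact := ModuleCat.shortComplex_shortExact S (LinearMap.exact_subtype_mkQ N)
      (Submodule.subtype_injective N) (Submodule.mkQ_surjective N)
    have hex := hF S hSE
    rw [ShortComplex.ShortExact.moduleCat_exact_iff_function_exact] at hex
    have hle := length_mid_le (S.map F).f.hom (S.map F).g.hom hex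
    have h3 : Module.length B (F.obj (ModuleCat.of A (M ⧸ N))) ≠ ⊤ := hS _ ‹_›
    exact ne_top_of_le_ne_top (WithTop.add_ne_top.mpr ⟨ih, h3⟩) hle

theorem length_map_halfExact {A B : Type u} [Ring A] [Ring B]
    (F : ModuleCat.{u} A ⥤ ModuleCat.{u} B) [F.Additive]
    (hF : ∀ S : ShortComplex (ModuleCat.{u} A), S.ShortExact → (S.map F).Exact)
    (hS : ∀ M : ModuleCat.{u} A, IsSimpleModule A M → Module.length B (F.obj M) ≠ ⊤) :
    (∀ E : ModuleCat.{u} A, Module.length A E ≠ ⊤ → Module.length B (F.obj E) ≠ ⊤) ∧
      ∀ S : ShortComplex (ModuleCat.{u} A), S.ShortExact → Module.length A S.X₂ ≠ ⊤ →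
        Module.length B (F.obj S.X₂) ≤ Module.length B (F.obj S.X₁) + Module.length B (F.obj S.X₃) ∧
          (Module.length B (F.obj S.X₂) = Module.length B (F.obj S.X₁) + Module.length B (F.obj S.X₃) ↔
            (S.map F).ShortExact) := by
  have h1 : ∀ E : ModuleCat.{u} A, Module.length A E ≠ ⊤ → Module.length B (F.obj E) ≠ ⊤ := by
    intro E hE
    exact length_map_ne_top_aux F hF hS E (Module.length_ne_top_iff.mp hE)
  refine ⟨h1, fun S hSE hfin => ?_⟩
  have hex := hF S hSE
  rw [ShortComplex.ShortExact.moduleCat_exact_iff_function_exact] at hex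
  have hX1 : Module.length A S.X₁ ≠ ⊤ :=
    ne_top_of_le_ne_top hfin (Module.length_le_of_injective S.f.hom hSE.moduleCat_injective_f)
  have hX3 : Module.length A S.X₃ ≠ ⊤ :=
    ne_top_of_le_ne_top hfin (Module.length_le_of_surjective S.g.hom hSE.moduleCat_surjective_g)
  refine ⟨length_mid_le (S.map F).f.hom (S.map F).g.hom hex, ?_⟩
  refine (length_mid_eq_iff (S.map F).f.hom (S.map F).g.hom hex (h1 _ hX1) (h1 _ hX3)).trans ?_
  constructor
  · rintro ⟨hi, hs⟩
    exact ModuleCat.shortComplex_shortExact _ hex hi hs
  · intro h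
    exact ⟨h.moduleCat_injective_f, h.moduleCat_surjective_g⟩

end Groth.Agent.Lib.Helper7
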