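import Mathlib
import Groth.Prelude.Def_ega3
import Groth.Agent.Lib.Helper7.TFunFG
import Groth.Agent.Lib.Helper7.TMapLib2
set_option autoImplicit false
universe u
open CategoryTheory CategoryTheory.Limits MonoidalCategory

namespace Groth.Agent.Lib.Helper7

variable {A : Type u} [CommRing A]

section abstractT
variable (T : ModuleCat.{u} A ⥤ ModuleCat.{u} A) [T.Additive] [T.Linear A]

/-- four-lemma chase: surjectivity of `t` in the middle. -/
lemma tMap_surjective_of_exact (S : ShortComplex (ModuleCat.{u} A))
    (hg : Function.Surjective S.g.hom)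
    (hT : Function.Exact (T.map S.f).hom (T.map S.g).hom)
    (h1 : Function.Surjective (tMap T S.X₁)) (h3 : Function.Surjective (tMap T S.X₃)) :
    Function.Surjective (tMap T S.X₂) := by
  intro z
  obtain ⟨w'', hw''⟩ := h3 ((T.map S.g).hom z)
  obtain ⟨w, rfl⟩ := LinearMap.lTensor_surjective (T.obj (ModuleCat.of A A)) hg w''
  have hker : (T.map S.g).hom (z - tMap T S.X₂ w) = 0 := by
    rw [map_sub, tMap_naturality, hw'', sub_self]
  obtain ⟨z', hz'⟩ := (hT _).mp hker
  obtain ⟨w', rfl⟩ := h1 z'
  rw [tMap_naturality] at hz'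
  refine ⟨w + LinearMap.lTensor _ S.f.hom w', ?_⟩
  rw [map_add, hz', add_sub_cancel]

lemma tMap_surjective_of_linearEquiv {M N : ModuleCat.{u} A} (e : M ≃ₗ[A] N)
    (hN : Function.Surjective (tMap T N)) : Function.Surjective (tMap T M) := by
  apply tMap_surjective_of_surjective T (ModuleCat.ofHom e.symm.toLinearMap) _ hN
  intro z
  refine ⟨(T.map (ModuleCat.ofHom e.toLinearMap)).hom z, ?_⟩
  rw [← LinearMap.comp_apply, ← ModuleCat.hom_comp, ← T.map_comp]
  have : ModuleCat.ofHom e.toLinearMap ≫ ModuleCat.ofHom e.symm.toLinearMap = 𝟙 M := by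
    apply ModuleCat.hom_ext
    apply LinearMap.ext
    intro x
    simp
  rw [this, T.map_id]
  rfl

/-- over a local ring: if `T` is half exact and `t_k` is surjective then `t_M` is surjective for
all modules of finite length. -/
theorem tMap_surjective_of_isFiniteLength [IsLocalRing A]
    (hhalf : ∀ S : ShortComplex (ModuleCat.{u} A), S.ShortExact → (S.map T).Exact)
    (hk : Function.Surjective (tMap T (ModuleCat.of A (IsLocalRing.ResidueField A))))
    (M : Type u) [AddCommGroup M] [Module A M] (hM : IsFiniteLength A M) :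
    Function.Surjective (tMap T (ModuleCat.of A M)) := by
  induction hM with
  | of_subsingleton =>
    rename_i M _ _ _
    have hz : IsZero (T.obj (ModuleCat.of A M)) :=
      T.map_isZero (ModuleCat.isZero_of_subsingleton _)
    have := ModuleCat.subsingleton_of_isZero hz
    exact Function.surjective_to_subsingleton _
  | of_simple_quotient hN ih =>
    rename_i M _ _ N hsimple
    let S : ShortComplex (ModuleCat.{u} A) :=
      ShortComplex.moduleCatMk N.subtype N.mkQ (by ext x; simp)
    have hSE : S.ShortExact := ModuleCat.shortComplex_shortExact S (LinearMap.exact_subtype_mkQ N)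
      (Submodule.subtype_injective N) (Submodule.mkQ_surjective N)
    have hex := hhalf S hSE
    rw [ShortComplex.ShortExact.moduleCat_exact_iff_function_exact] at hex
    have h3 : Function.Surjective (tMap T (ModuleCat.of A (M ⧸ N))) := by
      obtain ⟨I, hI, ⟨e⟩⟩ := isSimpleModule_iff_quot_maximal.mp hsimple
      have hIm : I = IsLocalRing.maximalIdeal A := IsLocalRing.eq_maximalIdeal hI
      subst hIm
      exact tMap_surjective_of_linearEquiv T (M := ModuleCat.of A (M ⧸ N))
        (N := ModuleCat.of A (IsLocalRing.ResidueField A)) e hk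
    exact tMap_surjective_of_exact T S (Submodule.mkQ_surjective N) hex ih h3

lemma tMap_residue_surjective [IsLocalRing A]
    (h : Function.Surjective (T.map
        (ModuleCat.ofHom (Algebra.linearMap A (IsLocalRing.ResidueField A)))).hom) :
    Function.Surjective (tMap T (ModuleCat.of A (IsLocalRing.ResidueField A))) := by
  intro z
  obtain ⟨y, rfl⟩ := h z
  refine ⟨y ⊗ₜ (1 : IsLocalRing.ResidueField A), ?_⟩
  rw [tMap_tmul]
  have : thetaHom (ModuleCat.of A (IsLocalRing.ResidueField A)) (1 : IsLocalRing.ResidueField A) =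
      ModuleCat.ofHom (Algebra.linearMap A (IsLocalRing.ResidueField A)) := by
    apply ModuleCat.hom_ext
    apply LinearMap.ext
    intro a
    show (thetaHom (ModuleCat.of A (IsLocalRing.ResidueField A)) 1).hom a = algebraMap A _ a
    rw [thetaHom_apply, Algebra.algebraMap_eq_smul_one]
  rw [this]

lemma preservesEpi_of_tMap_surjective (h : ∀ M : ModuleCat.{u} A, Function.Surjective (tMap T M)) :
    T.PreservesEpimorphisms := by
  refine ⟨fun {M N} g hg => ?_⟩
  rw [ModuleCat.epi_iff_surjective]
  have hgs := (ModuleCat.epi_iff_surjective g).mp hg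
  intro z
  obtain ⟨w, rfl⟩ := h N z
  obtain ⟨w', rfl⟩ := LinearMap.lTensor_surjective (T.obj (ModuleCat.of A A)) hgs w
  exact ⟨tMap T M w', tMap_naturality T g w'⟩

end abstractT

theorem TFun_preservesEpi_iff_artinian [IsArtinianRing A] [IsLocalRing A]
    (P : ChainComplex (ModuleCat.{u} A) ℤ) (hP : ∀ i, Module.Flat A (P.X i)) (p : ℤ) :
    (CohIII.TFun P p).PreservesEpimorphisms ↔
      Function.Surjective ((CohIII.TFun P p).map
        (ModuleCat.ofHom (Algebra.linearMap A (IsLocalRing.ResidueField A)))).hom := by
  constructor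
  · intro h
    have hs : Function.Surjective (Algebra.linearMap A (IsLocalRing.ResidueField A)) :=
      IsLocalRing.residue_surjective
    have : Epi (ModuleCat.ofHom (Algebra.linearMap A (IsLocalRing.ResidueField A))) :=
      (ModuleCat.epi_iff_surjective _).mpr hs
    exact (ModuleCat.epi_iff_surjective _).mp inferInstance
  · intro h
    apply preservesEpi_of_tMap_surjective
    have hk := tMap_residue_surjective (CohIII.TFun P p) h
    have hfl := tMap_surjective_of_isFiniteLength (CohIII.TFun P p)
      (fun S hS => TFun_halfExact P hP p S hS) hk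
    intro M z
    obtain ⟨M', hfg, z', rfl⟩ := exists_fg_submodule_of_T P hP p M z
    have : Module.Finite A M' := Module.Finite.iff_fg.mpr hfg
    have hM' : IsFiniteLength A M' :=
      isFiniteLength_iff_isNoetherian_isArtinian.mpr ⟨inferInstance, inferInstance⟩
    obtain ⟨w', rfl⟩ := hfl M' hM' z'
    exact ⟨_, (tMap_naturality (CohIII.TFun P p) (ModuleCat.ofHom M'.subtype) w').symm⟩

end Groth.Agent.Lib.Helper7
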