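import Mathlib
import Groth.Prelude.Def_ega3
import Groth.Agent.Lib.Helper7.TFunArtin
import Groth.Agent.Lib.Helper7.HalfExactLength
set_option autoImplicit false
universe u
open CategoryTheory CategoryTheory.Limits MonoidalCategory

namespace Groth.Agent.Lib.Helper7

variable {A : Type u} [CommRing A]

section abstractT
variable (T : ModuleCat.{u} A ⥤ ModuleCat.{u} A)

lemma length_T_congr {M N : ModuleCat.{u} A} (e : M ≃ₗ[A] N) :
    Module.length A (T.obj M) = Module.length A (T.obj N) :=
  (T.mapIso e.toModuleIso).toLinearEquiv.length_eq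

lemma length_T_simple [IsLocalRing A] (M : ModuleCat.{u} A) (hM : IsSimpleModule A M) :
    Module.length A (T.obj M) =
      Module.length A (T.obj (ModuleCat.of A (IsLocalRing.ResidueField A))) := by
  obtain ⟨I, hI, ⟨e⟩⟩ := isSimpleModule_iff_quot_maximal.mp hM
  have hIm : I = IsLocalRing.maximalIdeal A := IsLocalRing.eq_maximalIdeal hI
  subst hIm
  exact length_T_congr T (M := M) (N := ModuleCat.of A (IsLocalRing.ResidueField A)) e

theorem length_T_eq_mul [T.Additive] [IsLocalRing A]
    (hhalf : ∀ S : ShortComplex (ModuleCat.{u} A), S.ShortExact → (S.map T).Exact)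
    [T.PreservesMonomorphisms] [T.PreservesEpimorphisms]
    (M : Type u) [AddCommGroup M] [Module A M] (hM : IsFiniteLength A M) :
    Module.length A (T.obj (ModuleCat.of A M)) =
      Module.length A (T.obj (ModuleCat.of A (IsLocalRing.ResidueField A))) * Module.length A M := by
  induction hM with
  | of_subsingleton =>
    rename_i M _ _ _
    have hz : IsZero (T.obj (ModuleCat.of A M)) :=
      T.map_isZero (ModuleCat.isZero_of_subsingleton _)
    have := ModuleCat.subsingleton_of_isZero hz
    rw [Module.length_eq_zero (R := A) (M := T.obj (ModuleCat.of A M)),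
      Module.length_eq_zero (R := A) (M := M), mul_zero]
  | of_simple_quotient hN ih =>
    rename_i M _ _ N hsimple
    let S : ShortComplex (ModuleCat.{u} A) :=
      ShortComplex.moduleCatMk N.subtype N.mkQ (by ext x; simp)
    have hSE : S.ShortExact := ModuleCat.shortComplex_shortExact S (LinearMap.exact_subtype_mkQ N)
      (Submodule.subtype_injective N) (Submodule.mkQ_surjective N)
    have hex := hhalf S hSE
    rw [ShortComplex.ShortExact.moduleCat_exact_iff_function_exact] at hex
    have : Mono S.f := hSE.mono_f
    have : Epi S.g := hSE.epi_g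
    have hinj : Function.Injective (T.map S.f).hom := (ModuleCat.mono_iff_injective _).mp inferInstance
    have hsurj : Function.Surjective (T.map S.g).hom := (ModuleCat.epi_iff_surjective _).mp inferInstance
    have hadd := Module.length_eq_add_of_exact (T.map S.f).hom (T.map S.g).hom hinj hsurj hex
    have hM : Module.length A M = Module.length A N + Module.length A (M ⧸ N) :=
      Module.length_eq_add_of_exact N.subtype N.mkQ (Submodule.subtype_injective N)
        (Submodule.mkQ_surjective N) (LinearMap.exact_subtype_mkQ N)
    have h3 : Module.length A (T.obj (ModuleCat.of A (M ⧸ N))) =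
        Module.length A (T.obj (ModuleCat.of A (IsLocalRing.ResidueField A))) :=
      length_T_simple T (ModuleCat.of A (M ⧸ N)) hsimple
    have h1 : Module.length A (M ⧸ N) = 1 := Module.length_eq_one A (M ⧸ N)
    have hadd' : Module.length A (T.obj (ModuleCat.of A M)) =
        Module.length A (T.obj (ModuleCat.of A N)) + Module.length A (T.obj (ModuleCat.of A (M ⧸ N))) :=
      hadd
    rw [hadd', ih, h3, hM, h1, mul_add, mul_one]

end abstractT

theorem TFun_exact_iff_artinian [IsArtinianRing A] [IsLocalRing A]
    (P : ChainComplex (ModuleCat.{u} A) ℤ) (hP : ∀ i, Module.Flat A (P.X i)) (p q : ℤ)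
    (hpq : p + 1 = q) :
    (((CohIII.TFun P p).PreservesMonomorphisms ∧ (CohIII.TFun P p).PreservesEpimorphisms) ↔
      (Function.Surjective ((CohIII.TFun P p).map
          (ModuleCat.ofHom (Algebra.linearMap A (IsLocalRing.ResidueField A)))).hom ∧
        Function.Surjective ((CohIII.TFun P q).map
          (ModuleCat.ofHom (Algebra.linearMap A (IsLocalRing.ResidueField A)))).hom)) := by
  have hrel : (ComplexShape.down ℤ).Rel q p := hpq
  rw [TFun_preservesMono_iff_preservesEpi P hP q p hrel, TFun_preservesEpi_iff_artinian P hP p,
    TFun_preservesEpi_iff_artinian P hP q]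
  exact and_comm

theorem TFun_exact_iff_length_artinian [IsArtinianRing A] [IsLocalRing A]
    (P : ChainComplex (ModuleCat.{u} A) ℤ) (hP : ∀ i, Module.Flat A (P.X i)) (p q : ℤ)
    (hpq : p + 1 = q)
    (hd : Module.length A (CohIII.T P p (ModuleCat.of A (IsLocalRing.ResidueField A))) ≠ ⊤) :
    (((CohIII.TFun P p).PreservesMonomorphisms ∧ (CohIII.TFun P p).PreservesEpimorphisms) ↔
        ∀ M : ModuleCat.{u} A, Module.length A M ≠ ⊤ →
          Module.length A (CohIII.T P p M) =
            Module.length A (CohIII.T P p (ModuleCat.of A (IsLocalRing.ResidueField A))) *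
              Module.length A M) := by
  have hhalf : ∀ S : ShortComplex (ModuleCat.{u} A), S.ShortExact →
      (S.map (CohIII.TFun P p)).Exact := fun S hS => TFun_halfExact P hP p S hS
  constructor
  · rintro ⟨hm, he⟩ M hM
    exact length_T_eq_mul (CohIII.TFun P p) hhalf M (Module.length_ne_top_iff.mp hM)
  · intro hlen
    rw [TFun_exact_iff_artinian P hP p q hpq]
    -- the short exact sequence 0 → m → A → k → 0
    have hs : Function.Surjective (Algebra.linearMap A (IsLocalRing.ResidueField A)) :=
      IsLocalRing.residue_surjective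
    let S := (Algebra.linearMap A (IsLocalRing.ResidueField A)).shortComplexKer
    have hSE : S.ShortExact := LinearMap.shortExact_shortComplexKer hs
    have hsimple : ∀ M : ModuleCat.{u} A, IsSimpleModule A M →
        Module.length A ((CohIII.TFun P p).obj M) ≠ ⊤ := by
      intro M hM
      rw [length_T_simple (CohIII.TFun P p) M hM]
      exact hd
    have hmain := (length_map_halfExact (CohIII.TFun P p) hhalf hsimple).2 S hSE
      (Module.length_ne_top (R := A) (M := A))
    have hA : Module.length A A ≠ ⊤ := Module.length_ne_top
    have hX1 : Module.length A S.X₁ ≠ ⊤ :=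
      ne_top_of_le_ne_top hA (Module.length_le_of_injective S.f.hom hSE.moduleCat_injective_f)
    have hX3 : Module.length A S.X₃ ≠ ⊤ :=
      ne_top_of_le_ne_top hA (Module.length_le_of_surjective S.g.hom hSE.moduleCat_surjective_g)
    have hAadd : Module.length A S.X₂ = Module.length A S.X₁ + Module.length A S.X₃ :=
      Module.length_eq_add_of_exact S.f.hom S.g.hom hSE.moduleCat_injective_f
        hSE.moduleCat_surjective_g
        ((ShortComplex.ShortExact.moduleCat_exact_iff_function_exact S).mp hSE.exact)
    have heq : Module.length A ((CohIII.TFun P p).obj S.X₂) =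
        Module.length A ((CohIII.TFun P p).obj S.X₁) + Module.length A ((CohIII.TFun P p).obj S.X₃) := by
      have e2 := hlen S.X₂ hA
      have e1 := hlen S.X₁ hX1
      have e3 := hlen S.X₃ hX3
      exact e2.trans ((congrArg (fun t => _ * t) hAadd).trans
        ((mul_add _ _ _).trans (congrArg₂ (· + ·) e1.symm e3.symm)))
    have hSEmap : (S.map (CohIII.TFun P p)).ShortExact := hmain.2.mp heq
    refine ⟨(ModuleCat.epi_iff_surjective _).mp hSEmap.epi_g, ?_⟩
    have hrel : (ComplexShape.down ℤ).Rel q p := hpq
    have hepi := (TFun_mono_iff_epi P hP q p hrel S hSE).mp hSEmap.mono_f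
    exact (ModuleCat.epi_iff_surjective _).mp hepi

end Groth.Agent.Lib.Helper7
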