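import Mathlib
import Groth.Prelude.Def_ega3
import Groth.Agent.Lib.Helper7.TFunFree
import Groth.Agent.Lib.Helper7.TFunArtin2
set_option autoImplicit false
universe u
open CategoryTheory CategoryTheory.Limits MonoidalCategory

namespace Groth.Agent.Lib.Helper7

variable {A : Type u} [CommRing A]

section abstractT
variable (T : ModuleCat.{u} A ⥤ ModuleCat.{u} A) [T.Additive] [T.Linear A]

/-- the natural isomorphism `T(A) ⊗ - ≅ T` when all `t_M` are bijective. -/
noncomputable def isoTensorLeftOfBijective (hbij : ∀ M, Function.Bijective (tMap T M)) :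
    tensorLeft (T.obj (ModuleCat.of A A)) ≅ T :=
  NatIso.ofComponents
    (fun M => (LinearEquiv.ofBijective (tMap T M) (hbij M)).toModuleIso)
    (by
      intro M M' g
      apply ModuleCat.hom_ext
      apply LinearMap.ext
      intro w
      exact (tMap_naturality T g w).symm)

lemma tensorLeft_preservesEpi (N : ModuleCat.{u} A) : (tensorLeft N).PreservesEpimorphisms :=
  ⟨fun {X Y} f hf => by
    rw [ModuleCat.epi_iff_surjective] at hf ⊢
    show Function.Surjective (N ◁ f).hom
    rw [ModuleCat.hom_whiskerLeft]
    exact LinearMap.lTensor_surjective _ hf⟩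

lemma tensorLeft_preservesMono (N : ModuleCat.{u} A) [Module.Flat A N] :
    (tensorLeft N).PreservesMonomorphisms :=
  ⟨fun {X Y} f hf => by
    rw [ModuleCat.mono_iff_injective] at hf ⊢
    show Function.Injective (N ◁ f).hom
    rw [ModuleCat.hom_whiskerLeft]
    exact Module.Flat.lTensor_preserves_injective_linearMap _ hf⟩

lemma tensorLeft_preservesFiniteColimits (N : ModuleCat.{u} A) :
    PreservesFiniteColimits (tensorLeft N) := by
  rw [Functor.preservesFiniteColimits_iff_forall_exact_map_and_epi]
  intro S hS
  have hex := (ShortComplex.ShortExact.moduleCat_exact_iff_function_exact S).mp hS.exact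
  have hg := hS.moduleCat_surjective_g
  constructor
  · rw [ShortComplex.ShortExact.moduleCat_exact_iff_function_exact]
    show Function.Exact (N ◁ S.f).hom (N ◁ S.g).hom
    rw [ModuleCat.hom_whiskerLeft, ModuleCat.hom_whiskerLeft]
    exact lTensor_exact N hex hg
  · rw [ModuleCat.epi_iff_surjective]
    show Function.Surjective (N ◁ S.g).hom
    rw [ModuleCat.hom_whiskerLeft]
    exact LinearMap.lTensor_surjective _ hg

/-- if all `t_M` are bijective and `T` preserves monos then `T(A)` is flat. -/
lemma flat_of_tMap_bijective_of_preservesMono (hbij : ∀ M, Function.Bijective (tMap T M))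
    [T.PreservesMonomorphisms] : Module.Flat A (T.obj (ModuleCat.of A A)) := by
  rw [Module.Flat.iff_lTensor_preserves_injective_linearMap]
  intro N₁ N₂ _ _ _ _ f hf
  have hmono : Mono (ModuleCat.ofHom f) := (ModuleCat.mono_iff_injective _).mpr hf
  have hTf : Function.Injective (T.map (ModuleCat.ofHom f)).hom :=
    (ModuleCat.mono_iff_injective _).mp inferInstance
  rw [injective_iff_map_eq_zero]
  intro w hw
  apply (hbij (ModuleCat.of A N₁)).1
  apply hTf
  rw [map_zero, map_zero, tMap_naturality]
  show tMap T (ModuleCat.of A N₂) (LinearMap.lTensor _ f w) = 0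
  rw [hw, map_zero]

/-- half-exact length bound: `length T(M) ≤ length T(k) * length M`. -/
theorem length_T_le_mul [IsLocalRing A]
    (hhalf : ∀ S : ShortComplex (ModuleCat.{u} A), S.ShortExact → (S.map T).Exact)
    (M : Type u) [AddCommGroup M] [Module A M] (hM : IsFiniteLength A M) :
    Module.length A (T.obj (ModuleCat.of A M)) ≤
      Module.length A (T.obj (ModuleCat.of A (IsLocalRing.ResidueField A))) * Module.length A M := by
  induction hM with
  | of_subsingleton =>
    rename_i M _ _ _
    have hz : IsZero (T.obj (ModuleCat.of A M)) :=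
      T.map_isZero (ModuleCat.isZero_of_subsingleton _)
    have := ModuleCat.subsingleton_of_isZero hz
    rw [Module.length_eq_zero (R := A) (M := T.obj (ModuleCat.of A M))]
    exact zero_le
  | of_simple_quotient hN ih =>
    rename_i M _ _ N hsimple
    let S : ShortComplex (ModuleCat.{u} A) :=
      ShortComplex.moduleCatMk N.subtype N.mkQ (by ext x; simp)
    have hSE : S.ShortExact := ModuleCat.shortComplex_shortExact S (LinearMap.exact_subtype_mkQ N)
      (Submodule.subtype_injective N) (Submodule.mkQ_surjective N)
    have hex := hhalf S hSE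
    rw [ShortComplex.ShortExact.moduleCat_exact_iff_function_exact] at hex
    have hle := length_mid_le (T.map S.f).hom (T.map S.g).hom hex
    have hM : Module.length A M = Module.length A N + Module.length A (M ⧸ N) :=
      Module.length_eq_add_of_exact N.subtype N.mkQ (Submodule.subtype_injective N)
        (Submodule.mkQ_surjective N) (LinearMap.exact_subtype_mkQ N)
    have h3 : Module.length A (T.obj (ModuleCat.of A (M ⧸ N))) =
        Module.length A (T.obj (ModuleCat.of A (IsLocalRing.ResidueField A))) :=
      length_T_simple T (ModuleCat.of A (M ⧸ N)) hsimple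
    have h1 : Module.length A (M ⧸ N) = 1 := Module.length_eq_one A (M ⧸ N)
    have hle' : Module.length A (T.obj (ModuleCat.of A M)) ≤
        Module.length A (T.obj (ModuleCat.of A N)) +
          Module.length A (T.obj (ModuleCat.of A (M ⧸ N))) := hle
    rw [hM, h1, mul_add, mul_one]
    exact hle'.trans (add_le_add ih h3.le)

end abstractT

variable {ι : Type} {c : ComplexShape ι}

lemma TFun_rightExact_of_preservesEpi (P : HomologicalComplex (ModuleCat.{u} A) c)
    (hP : ∀ i, Module.Flat A (P.X i)) (p : ι) [(CohIII.TFun P p).PreservesEpimorphisms] :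
    PreservesFiniteColimits (CohIII.TFun P p) := by
  rw [Functor.preservesFiniteColimits_iff_forall_exact_map_and_epi]
  intro S hS
  have : Epi S.g := hS.epi_g
  exact ⟨TFun_halfExact P hP p S hS, inferInstance⟩

lemma TFun_tMap_bijective_of_preservesEpi (P : HomologicalComplex (ModuleCat.{u} A) c)
    (hP : ∀ i, Module.Flat A (P.X i)) (p : ι) [(CohIII.TFun P p).PreservesEpimorphisms]
    (M : ModuleCat.{u} A) : Function.Bijective (tMap (CohIII.TFun P p) M) :=
  tMap_bijective_of_preservesFiniteColimits' (CohIII.TFun P p)
    (TFun_tMap_bijective_finsupp P hP p) (TFun_rightExact_of_preservesEpi P hP p) M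

lemma TFun_flat_of_exact (P : HomologicalComplex (ModuleCat.{u} A) c)
    (hP : ∀ i, Module.Flat A (P.X i)) (p : ι) [(CohIII.TFun P p).PreservesMonomorphisms]
    [(CohIII.TFun P p).PreservesEpimorphisms] :
    Module.Flat A (CohIII.T P p (ModuleCat.of A A)) :=
  flat_of_tMap_bijective_of_preservesMono (CohIII.TFun P p)
    (TFun_tMap_bijective_of_preservesEpi P hP p)

lemma TFun_preservesMono_of_preservesEpi_of_flat (P : HomologicalComplex (ModuleCat.{u} A) c)
    (hP : ∀ i, Module.Flat A (P.X i)) (p : ι) [(CohIII.TFun P p).PreservesEpimorphisms]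
    (hfl : Module.Flat A (CohIII.T P p (ModuleCat.of A A))) :
    (CohIII.TFun P p).PreservesMonomorphisms := by
  have iso := isoTensorLeftOfBijective (CohIII.TFun P p) (TFun_tMap_bijective_of_preservesEpi P hP p)
  haveI : Module.Flat A ((CohIII.TFun P p).obj (ModuleCat.of A A)) := hfl
  haveI := tensorLeft_preservesMono ((CohIII.TFun P p).obj (ModuleCat.of A A))
  exact Functor.PreservesMonomorphisms.of_iso iso

/-- Artinian local: the length formula for `A` alone forces exactness. -/
theorem TFun_exact_of_length_eq_artinian [IsArtinianRing A] [IsLocalRing A]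
    (P : ChainComplex (ModuleCat.{u} A) ℤ) (hP : ∀ i, Module.Flat A (P.X i)) (p : ℤ)
    (hd : Module.length A (CohIII.T P p (ModuleCat.of A (IsLocalRing.ResidueField A))) ≠ ⊤)
    (hj : Module.length A (CohIII.T P p (ModuleCat.of A A)) =
      Module.length A (CohIII.T P p (ModuleCat.of A (IsLocalRing.ResidueField A))) *
        Module.length A A) :
    (CohIII.TFun P p).PreservesMonomorphisms ∧ (CohIII.TFun P p).PreservesEpimorphisms := by
  have hhalf : ∀ S : ShortComplex (ModuleCat.{u} A), S.ShortExact →
      (S.map (CohIII.TFun P p)).Exact := fun S hS => TFun_halfExact P hP p S hS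
  rw [TFun_exact_iff_artinian P hP p (p + 1) rfl]
  have hs : Function.Surjective (Algebra.linearMap A (IsLocalRing.ResidueField A)) :=
    IsLocalRing.residue_surjective
  let S := (Algebra.linearMap A (IsLocalRing.ResidueField A)).shortComplexKer
  have hSE : S.ShortExact := LinearMap.shortExact_shortComplexKer hs
  have hsimple : ∀ M : ModuleCat.{u} A, IsSimpleModule A M →
      Module.length A ((CohIII.TFun P p).obj M) ≠ ⊤ := by
    intro M hM
    rw [length_T_simple (CohIII.TFun P p) M hM]
    exact hd
  have hA : Module.length A A ≠ ⊤ := Module.length_ne_top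
  have hmain := (length_map_halfExact (CohIII.TFun P p) hhalf hsimple).2 S hSE hA
  have hX1 : Module.length A S.X₁ ≠ ⊤ :=
    ne_top_of_le_ne_top hA (Module.length_le_of_injective S.f.hom hSE.moduleCat_injective_f)
  have hAadd : Module.length A S.X₂ = Module.length A S.X₁ + Module.length A S.X₃ :=
    Module.length_eq_add_of_exact S.f.hom S.g.hom hSE.moduleCat_injective_f
      hSE.moduleCat_surjective_g
      ((ShortComplex.ShortExact.moduleCat_exact_iff_function_exact S).mp hSE.exact)
  have hks : IsSimpleModule A (IsLocalRing.ResidueField A) :=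
    isSimpleModule_iff_quot_maximal.mpr
      ⟨IsLocalRing.maximalIdeal A, inferInstance, ⟨LinearEquiv.refl A _⟩⟩
  have hk1 : Module.length A S.X₃ = 1 :=
    Module.length_eq_one A (IsLocalRing.ResidueField A)
  have hle1 : Module.length A ((CohIII.TFun P p).obj S.X₁) ≤
      Module.length A (CohIII.T P p (ModuleCat.of A (IsLocalRing.ResidueField A))) *
        Module.length A S.X₁ :=
    length_T_le_mul (CohIII.TFun P p) hhalf _ (Module.length_ne_top_iff.mp hX1)
  have heq : Module.length A ((CohIII.TFun P p).obj S.X₂) =
      Module.length A ((CohIII.TFun P p).obj S.X₁) +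
        Module.length A ((CohIII.TFun P p).obj S.X₃) := by
    apply le_antisymm hmain.1
    have e2 : Module.length A ((CohIII.TFun P p).obj S.X₂) =
        Module.length A (CohIII.T P p (ModuleCat.of A (IsLocalRing.ResidueField A))) *
          Module.length A S.X₂ := hj
    rw [e2, hAadd, hk1, mul_add, mul_one]
    exact add_le_add hle1 le_rfl
  have hSEmap : (S.map (CohIII.TFun P p)).ShortExact := hmain.2.mp heq
  refine ⟨(ModuleCat.epi_iff_surjective _).mp hSEmap.epi_g, ?_⟩
  have hrel : (ComplexShape.down ℤ).Rel (p + 1) p := rfl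
  have hepi := (TFun_mono_iff_epi P hP (p + 1) p hrel S hSE).mp hSEmap.mono_f
  exact (ModuleCat.epi_iff_surjective _).mp hepi

end Groth.Agent.Lib.Helper7
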