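import Mathlib
import Groth.Prelude.Def_ega3
import Groth.Agent.Lib.Helper7.TFunExact
set_option autoImplicit false
universe u
open CategoryTheory CategoryTheory.Limits MonoidalCategory

namespace Groth.Agent.Lib.Helper7

variable {A : Type u} [CommRing A] {ι : Type} {c : ComplexShape ι}

lemma TFun_isZero_of_isZero (P : HomologicalComplex (ModuleCat.{u} A) c) (q : ι)
    (h : IsZero (P.X q)) (M : ModuleCat.{u} A) : IsZero ((CohIII.TFun P q).obj M) := by
  have h1 : IsZero ((CohIII.tensorObj P M).X q) := (tensorRight M).map_isZero h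
  exact ShortComplex.isZero_homology_of_isZero_X₂ _ h1

lemma preservesMonoEpi_of_isZero {C D : Type*} [Category C] [Category D] (T : C ⥤ D)
    (h : ∀ M, IsZero (T.obj M)) : T.PreservesMonomorphisms ∧ T.PreservesEpimorphisms :=
  ⟨⟨fun {X Y} f _ => ⟨fun g g' _ => (h X).eq_of_tgt g g'⟩⟩,
    ⟨fun {X Y} f _ => ⟨fun g g' _ => (h Y).eq_of_src g g'⟩⟩⟩

/-- homology of a complex of f.g. modules tensored with a f.g. module over a Noetherian ring is f.g. -/
lemma TFun_finite_of_finite [IsNoetherianRing A] (P : HomologicalComplex (ModuleCat.{u} A) c) (p : ι)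
    [Module.Finite A (P.X p)] (M : ModuleCat.{u} A) [Module.Finite A M] :
    Module.Finite A (CohIII.T P p M) := by
  have h0 : Module.Finite A ((CohIII.tensorObj P M).X p) :=
    inferInstanceAs (Module.Finite A (TensorProduct A (P.X p) M))
  have h1 : Module.Finite A ((CohIII.tensorObj P M).cycles p) :=
    Module.Finite.of_injective ((CohIII.tensorObj P M).iCycles p).hom (iCycles_injective _ _)
  exact Module.Finite.of_surjective ((CohIII.tensorObj P M).homologyπ p).hom
    (homologyπ_surjective _ _)

theorem TFun_exact_upTo_of_flat (P : ChainComplex (ModuleCat.{u} A) ℤ)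
    (hP : ∀ i, Module.Flat A (P.X i)) (i₀ : ℤ) (hb : ∀ i < i₀, IsZero (P.X i)) (p : ℤ)
    (hfl : ∀ q ≤ p, Module.Flat A ((CohIII.TFun P q).obj (ModuleCat.of A A))) :
    ∀ q ≤ p, (CohIII.TFun P q).PreservesMonomorphisms ∧
      (CohIII.TFun P q).PreservesEpimorphisms := by
  have key : ∀ n : ℕ, ∀ q : ℤ, q < i₀ + n → q ≤ p →
      (CohIII.TFun P q).PreservesMonomorphisms ∧ (CohIII.TFun P q).PreservesEpimorphisms := by
    intro n
    induction n with
    | zero =>
      intro q hq _
      exact preservesMonoEpi_of_isZero _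
        (fun M => TFun_isZero_of_isZero P q (hb q (by simpa using hq)) M)
    | succ n ih =>
      intro q hq hqp
      obtain ⟨hm', he'⟩ := ih (q - 1) (by push_cast at hq ⊢; omega) (by omega)
      have hrel : (ComplexShape.down ℤ).Rel q (q - 1) := by
        show q - 1 + 1 = q
        ring
      haveI he : (CohIII.TFun P q).PreservesEpimorphisms :=
        (TFun_preservesMono_iff_preservesEpi P hP q (q - 1) hrel).mp hm'
      exact ⟨TFun_preservesMono_of_preservesEpi_of_flat P hP q (hfl q hqp), he⟩
  intro q hq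
  obtain ⟨n, hn⟩ : ∃ n : ℕ, q < i₀ + n := ⟨(q - i₀ + 1).toNat, by omega⟩
  exact key n q hn hq

end Groth.Agent.Lib.Helper7
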