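import Mathlib
import Groth.Prelude.Def_ega3
import Groth.Agent.Lib.Helper7.OpcyclesFlat
import Groth.Agent.Lib.Helper7.TFunExact2
set_option autoImplicit false
universe u
open CategoryTheory CategoryTheory.Limits MonoidalCategory IsLocalRing

namespace Groth.Agent.Lib.Helper7

variable {A : Type u} [CommRing A]

/-- local ring, finitely generated flat terms: `T_p` takes surjections to surjections iff
`T_p(A) → T_p(k)` is surjective. (No Noetherian hypothesis is needed.) -/
theorem TFun_preservesEpi_iff_surjective_residue [IsLocalRing A]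
    (P : ChainComplex (ModuleCat.{u} A) ℤ)
    (hP : ∀ i, Module.Finite A (P.X i) ∧ Module.Flat A (P.X i)) (p : ℤ) :
    (CohIII.TFun P p).PreservesEpimorphisms ↔
      Function.Surjective ((CohIII.TFun P p).map
        (ModuleCat.ofHom (Algebra.linearMap A (ResidueField A)))).hom := by
  have hfl : ∀ i, Module.Flat A (P.X i) := fun i => (hP i).2
  constructor
  · intro h
    have hs : Function.Surjective (Algebra.linearMap A (ResidueField A)) :=
      IsLocalRing.residue_surjective
    have : Epi (ModuleCat.ofHom (Algebra.linearMap A (ResidueField A))) :=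
      (ModuleCat.epi_iff_surjective _).mpr hs
    exact (ModuleCat.epi_iff_surjective _).mp inferInstance
  · intro hs
    have hrel : (ComplexShape.down ℤ).Rel p (p - 1) := by
      show p - 1 + 1 = p
      ring
    haveI : Module.Finite A (P.X p) := (hP p).1
    haveI : Module.Finite A (P.X (p - 1)) := (hP (p - 1)).1
    haveI : Module.Flat A (P.X (p - 1)) := (hP (p - 1)).2
    haveI : Module.Free A (P.X (p - 1)) := Module.free_of_flat_of_isLocalRing
    haveI : Module.Free A (P.opcycles (p - 1)) :=
      free_opcycles_of_surjective_residue P p (p - 1) hrel hs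
    have hflat : Module.Flat A (P.opcycles (p - 1)) := inferInstance
    have hmono := (TFun_preservesMono_iff_flat_opcycles P hfl (p - 1)).mpr hflat
    exact (TFun_preservesMono_iff_preservesEpi P hfl p (p - 1) hrel).mp hmono

theorem TFun_exact_iff_surjective_residue [IsLocalRing A]
    (P : ChainComplex (ModuleCat.{u} A) ℤ)
    (hP : ∀ i, Module.Finite A (P.X i) ∧ Module.Flat A (P.X i)) (p q : ℤ) (hpq : p + 1 = q) :
    ((CohIII.TFun P p).PreservesMonomorphisms ∧ (CohIII.TFun P p).PreservesEpimorphisms) ↔
      Function.Surjective ((CohIII.TFun P q).map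
          (ModuleCat.ofHom (Algebra.linearMap A (ResidueField A)))).hom ∧
        Function.Surjective ((CohIII.TFun P p).map
          (ModuleCat.ofHom (Algebra.linearMap A (ResidueField A)))).hom := by
  have hfl : ∀ i, Module.Flat A (P.X i) := fun i => (hP i).2
  have hrel : (ComplexShape.down ℤ).Rel q p := hpq
  rw [TFun_preservesMono_iff_preservesEpi P hfl q p hrel,
    TFun_preservesEpi_iff_surjective_residue P hP q,
    TFun_preservesEpi_iff_surjective_residue P hP p]

theorem TFun_exact_iff_preservesEpi_and_free [IsNoetherianRing A] [IsLocalRing A]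
    (P : ChainComplex (ModuleCat.{u} A) ℤ)
    (hP : ∀ i, Module.Finite A (P.X i) ∧ Module.Flat A (P.X i)) (p : ℤ) :
    ((CohIII.TFun P p).PreservesMonomorphisms ∧ (CohIII.TFun P p).PreservesEpimorphisms) ↔
      ((CohIII.TFun P p).PreservesEpimorphisms ∧
        Module.Free A ((CohIII.TFun P p).obj (ModuleCat.of A A))) := by
  have hfl : ∀ i, Module.Flat A (P.X i) := fun i => (hP i).2
  haveI : Module.Finite A (P.X p) := (hP p).1
  haveI : Module.Finite A (ModuleCat.of A A) := inferInstanceAs (Module.Finite A A)
  have hfin : Module.Finite A ((CohIII.TFun P p).obj (ModuleCat.of A A)) :=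
    TFun_finite_of_finite P p (ModuleCat.of A A)
  constructor
  · rintro ⟨hm, he⟩
    have hflat : Module.Flat A ((CohIII.TFun P p).obj (ModuleCat.of A A)) :=
      TFun_flat_of_exact P hfl p
    exact ⟨he, Module.free_of_flat_of_isLocalRing⟩
  · rintro ⟨he, hfree⟩
    have hflat : Module.Flat A ((CohIII.TFun P p).obj (ModuleCat.of A A)) := inferInstance
    exact ⟨TFun_preservesMono_of_preservesEpi_of_flat P hfl p hflat, he⟩

theorem TFun_isZero_of_isZero_residue [IsNoetherianRing A] [IsLocalRing A]
    (P : ChainComplex (ModuleCat.{u} A) ℤ)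
    (hP : ∀ i, Module.Finite A (P.X i) ∧ Module.Flat A (P.X i)) (p : ℤ)
    (hk : IsZero ((CohIII.TFun P p).obj (ModuleCat.of A (ResidueField A))))
    (M : ModuleCat.{u} A) : IsZero ((CohIII.TFun P p).obj M) := by
  have hfl : ∀ i, Module.Flat A (P.X i) := fun i => (hP i).2
  haveI : Module.Finite A (P.X p) := (hP p).1
  haveI : Module.Finite A (ModuleCat.of A A) := inferInstanceAs (Module.Finite A A)
  haveI hfin : Module.Finite A ((CohIII.TFun P p).obj (ModuleCat.of A A)) :=
    TFun_finite_of_finite P p (ModuleCat.of A A)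
  have hsub := ModuleCat.subsingleton_of_isZero hk
  haveI he : (CohIII.TFun P p).PreservesEpimorphisms :=
    (TFun_preservesEpi_iff_surjective_residue P hP p).mpr
      (fun z => ⟨0, Subsingleton.elim _ _⟩)
  have hbij := TFun_tMap_bijective_of_preservesEpi P hfl p
  -- `T(A) ⊗ k` is subsingleton
  have h1 : Subsingleton (TensorProduct A ((CohIII.TFun P p).obj (ModuleCat.of A A))
      (ResidueField A)) :=
    (hbij (ModuleCat.of A (ResidueField A))).1.subsingleton
  have h2 : Subsingleton (TensorProduct A (ResidueField A)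
      ((CohIII.TFun P p).obj (ModuleCat.of A A))) :=
    (TensorProduct.comm A _ _).toEquiv.subsingleton
  have h3 : Subsingleton ((CohIII.TFun P p).obj (ModuleCat.of A A)) :=
    IsLocalRing.subsingleton_tensorProduct.mp h2
  have h4 : Subsingleton (TensorProduct A ((CohIII.TFun P p).obj (ModuleCat.of A A)) M) :=
    inferInstance
  have h5 : Subsingleton ((CohIII.TFun P p).obj M) :=
    (hbij M).2.subsingleton
  exact ModuleCat.isZero_of_subsingleton _

theorem TFun_exact_and_free_of_adjacent_vanishing [IsNoetherianRing A] [IsLocalRing A]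
    (P : ChainComplex (ModuleCat.{u} A) ℤ)
    (hP : ∀ i, Module.Finite A (P.X i) ∧ Module.Flat A (P.X i)) (p q r : ℤ)
    (hqp : q + 1 = p) (hpr : p + 1 = r)
    (hq : IsZero ((CohIII.TFun P q).obj (ModuleCat.of A (ResidueField A))))
    (hr : IsZero ((CohIII.TFun P r).obj (ModuleCat.of A (ResidueField A)))) :
    ((CohIII.TFun P p).PreservesMonomorphisms ∧ (CohIII.TFun P p).PreservesEpimorphisms) ∧
      Module.Free A ((CohIII.TFun P p).obj (ModuleCat.of A A)) := by
  have hfl : ∀ i, Module.Flat A (P.X i) := fun i => (hP i).2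
  have hsubr := ModuleCat.subsingleton_of_isZero hr
  have her : (CohIII.TFun P r).PreservesEpimorphisms :=
    (TFun_preservesEpi_iff_surjective_residue P hP r).mpr
      (fun z => ⟨0, Subsingleton.elim _ _⟩)
  have hrel1 : (ComplexShape.down ℤ).Rel r p := hpr
  have hm : (CohIII.TFun P p).PreservesMonomorphisms :=
    (TFun_preservesMono_iff_preservesEpi P hfl r p hrel1).mpr her
  have hzq := TFun_isZero_of_isZero_residue P hP q hq
  have hmq : (CohIII.TFun P q).PreservesMonomorphisms := (preservesMonoEpi_of_isZero _ hzq).1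
  have hrel2 : (ComplexShape.down ℤ).Rel p q := hqp
  have he : (CohIII.TFun P p).PreservesEpimorphisms :=
    (TFun_preservesMono_iff_preservesEpi P hfl p q hrel2).mp hmq
  exact ⟨⟨hm, he⟩, ((TFun_exact_iff_preservesEpi_and_free P hP p).mp ⟨hm, he⟩).2⟩

end Groth.Agent.Lib.Helper7
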