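import Mathlib
import Groth.Prelude.Def_ega3
import Groth.Agent.Lib.Helper7.TFunLocal
set_option autoImplicit false
universe u
open CategoryTheory CategoryTheory.Limits MonoidalCategory TensorProduct

namespace Groth.Agent.Lib.Helper7

section AR
variable {R : Type u} [CommRing R] [IsNoetherianRing R] (I : Ideal R)
  {N : Type u} [AddCommGroup N] [Module R N] [Module.Finite R N] (B : Submodule R N)

theorem exists_AR_bound :
    ∃ c : ℕ, ∀ n ≥ c, ∀ β : B, (β : N) ∈ I ^ (n + 1) • (⊤ : Submodule R N) →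
      β ∈ I • (⊤ : Submodule R B) := by
  obtain ⟨c, hc⟩ := Ideal.exists_pow_inf_eq_pow_smul I B
  refine ⟨c, fun n hn β hβ => ?_⟩
  have h1 : (β : N) ∈ I ^ (n + 1) • ⊤ ⊓ B := ⟨hβ, β.2⟩
  rw [hc (n + 1) (by omega)] at h1
  have h2 : I ^ (n + 1 - c) • (I ^ c • ⊤ ⊓ B) ≤ I • B := by
    refine Submodule.smul_mono ?_ inf_le_right
    exact Ideal.pow_le_self (by omega)
  have h3 : (β : N) ∈ I • B := h2 h1
  have h4 : I • B = (I • (⊤ : Submodule R B)).map B.subtype := by
    rw [Submodule.map_smul'', Submodule.map_subtype_top]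
  rw [h4] at h3
  obtain ⟨β', hβ', hβ'eq⟩ := h3
  have : β' = β := Subtype.ext hβ'eq
  rw [← this]
  exact hβ'

theorem AR_tensor :
    ∃ c : ℕ, ∀ n ≥ c, ∀ u : TensorProduct R B (R ⧸ I ^ (n + 1)),
      LinearMap.rTensor (R ⧸ I ^ (n + 1)) B.subtype u = 0 →
      LinearMap.lTensor B (Ideal.Quotient.factorₐ R
        (Ideal.pow_le_self (I := I) (Nat.succ_ne_zero n))).toLinearMap u = 0 := by
  obtain ⟨c, hc⟩ := exists_AR_bound I B
  refine ⟨c, fun n hn u hu => ?_⟩
  obtain ⟨β, rfl⟩ : ∃ β : B, u = β ⊗ₜ[R] (1 : R ⧸ I ^ (n + 1)) := by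
    obtain ⟨β, hβ⟩ := Submodule.Quotient.mk_surjective _
      (TensorProduct.tensorQuotEquivQuotSMul B (I ^ (n + 1)) u)
    refine ⟨β, ?_⟩
    have := congrArg (TensorProduct.tensorQuotEquivQuotSMul B (I ^ (n + 1))).symm hβ
    rw [LinearEquiv.symm_apply_apply] at this
    rw [← this]
    rfl
  rw [LinearMap.rTensor_tmul] at hu
  have h1 : (β : N) ∈ I ^ (n + 1) • (⊤ : Submodule R N) := by
    have := congrArg (TensorProduct.tensorQuotEquivQuotSMul N (I ^ (n + 1))) hu
    rw [map_zero, ← map_one (Ideal.Quotient.mk (I ^ (n + 1))),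
      TensorProduct.tensorQuotEquivQuotSMul_tmul_mk, one_smul, Submodule.Quotient.mk_eq_zero] at this
    exact this
  have h2 := hc n hn β h1
  rw [LinearMap.lTensor_tmul]
  have h3 : (Ideal.Quotient.factorₐ R (Ideal.pow_le_self (I := I) (Nat.succ_ne_zero n))).toLinearMap
      (1 : R ⧸ I ^ (n + 1)) = (1 : R ⧸ I) := by
    rw [AlgHom.toLinearMap_apply]
    exact map_one _
  rw [h3]
  apply (TensorProduct.tensorQuotEquivQuotSMul B I).injective
  rw [map_zero, ← map_one (Ideal.Quotient.mk I), TensorProduct.tensorQuotEquivQuotSMul_tmul_mk,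
    one_smul, Submodule.Quotient.mk_eq_zero]
  exact h2

end AR

variable {A : Type u} [CommRing A] {ι : Type} {c : ComplexShape ι}

open IsLocalRing in
theorem free_opcycles_of_lift [IsLocalRing A]
    (P : HomologicalComplex (ModuleCat.{u} A) c) (p q : ι) (hpq : c.Rel p q)
    [Module.Finite A (P.X p)] [Module.Finite A (P.X q)] [Module.Free A (P.X q)]
    (hlift : ∀ (x' : TensorProduct A (P.X p) (ModuleCat.of A (ResidueField A)))
      (hx' : LinearMap.rTensor (ModuleCat.of A (ResidueField A)) (P.d p (c.next p)).hom x' = 0),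
      ∃ (Q : ModuleCat.{u} A) (ρ : Q ⟶ ModuleCat.of A (ResidueField A))
        (x₀ : TensorProduct A (P.X p) Q)
        (hx₀ : LinearMap.rTensor Q (P.d p (c.next p)).hom x₀ = 0),
        ((CohIII.TFun P p).map ρ).hom (clsT P p Q x₀ hx₀) =
            clsT P p (ModuleCat.of A (ResidueField A)) x' hx' ∧
        ∀ u : TensorProduct A (LinearMap.range (P.d p q).hom) Q,
          LinearMap.rTensor Q (LinearMap.range (P.d p q).hom).subtype u = 0 →
            LinearMap.lTensor (LinearMap.range (P.d p q).hom) ρ.hom u = 0) :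
    Module.Free A (P.opcycles q) := by
  have hexq := exact_d_pOpcycles' P p q hpq
  have hπs := pOpcycles_surjective P q
  obtain rfl : c.next p = q := c.next_eq' hpq
  let d' : P.X p →ₗ[A] LinearMap.range (P.d p (c.next p)).hom :=
    (P.d p (c.next p)).hom.rangeRestrict
  have hd's : Function.Surjective d' := (P.d p (c.next p)).hom.surjective_rangeRestrict
  have hsub : (LinearMap.range (P.d p (c.next p)).hom).subtype ∘ₗ d' = (P.d p (c.next p)).hom := by
    ext x
    rfl
  have hexB : Function.Exact (LinearMap.range (P.d p (c.next p)).hom).subtype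
      (P.pOpcycles (c.next p)).hom := by
    intro y
    rw [hexq y]
    constructor
    · rintro ⟨x, rfl⟩
      exact ⟨⟨(P.d p (c.next p)).hom x, ⟨x, rfl⟩⟩, rfl⟩
    · rintro ⟨⟨_, ⟨x, rfl⟩⟩, rfl⟩
      exact ⟨x, rfl⟩
  have h2 : d' ∘ₗ (P.d (c.prev p) p).hom = 0 := by
    ext z
    show (P.d p (c.next p)).hom ((P.d (c.prev p) p).hom z) = 0
    rw [← LinearMap.comp_apply, hom_d_comp_d, LinearMap.zero_apply]
  have key : Function.Injective (LinearMap.rTensor (ResidueField A)
      (LinearMap.range (P.d p (c.next p)).hom).subtype) := by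
    rw [injective_iff_map_eq_zero]
    intro b hb
    obtain ⟨x', rfl⟩ := LinearMap.rTensor_surjective (ResidueField A) hd's b
    rw [← LinearMap.comp_apply, ← LinearMap.rTensor_comp, hsub] at hb
    obtain ⟨Q, ρ, x₀, hx₀, hρ, hAR⟩ := hlift x' hb
    rw [TFun_map_clsT P p ρ x₀ hx₀ (lTensor_cycle P p ρ x₀ hx₀), clsT_eq_iff] at hρ
    obtain ⟨y, hy⟩ := hρ
    have hx'eq : x' = LinearMap.lTensor (P.X p) ρ.hom x₀ -
        LinearMap.rTensor (ResidueField A) (P.d (c.prev p) p).hom y := by
      rw [hy]; abel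
    have h1 : LinearMap.lTensor (LinearMap.range (P.d p (c.next p)).hom) ρ.hom
        (LinearMap.rTensor Q d' x₀) = 0 := by
      apply hAR
      rw [← LinearMap.comp_apply, ← LinearMap.rTensor_comp, hsub]
      exact hx₀
    rw [hx'eq, map_sub, rTensor_lTensor_comm, h1, ← LinearMap.comp_apply,
      ← LinearMap.rTensor_comp, h2, LinearMap.rTensor_zero, LinearMap.zero_apply, sub_zero]
  exact Module.free_of_lTensor_residueField_injective
    (LinearMap.range (P.d p (c.next p)).hom).subtype (P.pOpcycles (c.next p)).hom hπs hexB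
    ((LinearMap.lTensor_inj_iff_rTensor_inj _ _).mpr key)

end Groth.Agent.Lib.Helper7
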