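import Mathlib
import Groth.Prelude.Def_ega3
import Groth.Agent.Lib.Helper7.OpcyclesAR
set_option autoImplicit false
universe u
open CategoryTheory CategoryTheory.Limits MonoidalCategory IsLocalRing

namespace Groth.Agent.Lib.Helper7

variable {A : Type u} [CommRing A]

theorem TFun_preservesEpi_iff_eventually_surjective [IsNoetherianRing A] [IsLocalRing A]
    (P : ChainComplex (ModuleCat.{u} A) ℤ)
    (hP : ∀ i, Module.Finite A (P.X i) ∧ Module.Flat A (P.X i)) (p : ℤ) :
    (CohIII.TFun P p).PreservesEpimorphisms ↔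
      ∃ n₀ : ℕ, ∀ n : ℕ, n₀ ≤ n → Function.Surjective ((CohIII.TFun P p).map (ModuleCat.ofHom
        (Ideal.Quotient.factorₐ A (Ideal.pow_le_self (I := IsLocalRing.maximalIdeal A)
          (Nat.succ_ne_zero n))).toLinearMap :
        ModuleCat.of A (A ⧸ IsLocalRing.maximalIdeal A ^ (n + 1)) ⟶
          ModuleCat.of A (A ⧸ IsLocalRing.maximalIdeal A))).hom := by
  have hfl : ∀ i, Module.Flat A (P.X i) := fun i => (hP i).2
  constructor
  · intro h
    refine ⟨0, fun n _ => ?_⟩
    have hs : Function.Surjective (Ideal.Quotient.factorₐ A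
        (Ideal.pow_le_self (I := IsLocalRing.maximalIdeal A) (Nat.succ_ne_zero n))).toLinearMap :=
      Ideal.Quotient.factor_surjective
        (Ideal.pow_le_self (I := IsLocalRing.maximalIdeal A) (Nat.succ_ne_zero n))
    have : Epi (ModuleCat.ofHom (Ideal.Quotient.factorₐ A
        (Ideal.pow_le_self (I := IsLocalRing.maximalIdeal A) (Nat.succ_ne_zero n))).toLinearMap :
        ModuleCat.of A (A ⧸ IsLocalRing.maximalIdeal A ^ (n + 1)) ⟶
          ModuleCat.of A (A ⧸ IsLocalRing.maximalIdeal A)) :=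
      (ModuleCat.epi_iff_surjective _).mpr hs
    exact (ModuleCat.epi_iff_surjective _).mp inferInstance
  · rintro ⟨n₀, hn₀⟩
    have hrel : (ComplexShape.down ℤ).Rel p (p - 1) := by
      show p - 1 + 1 = p
      ring
    haveI : Module.Finite A (P.X p) := (hP p).1
    haveI : Module.Finite A (P.X (p - 1)) := (hP (p - 1)).1
    haveI : Module.Flat A (P.X (p - 1)) := (hP (p - 1)).2
    haveI : Module.Free A (P.X (p - 1)) := Module.free_of_flat_of_isLocalRing
    obtain ⟨c₀, hc₀⟩ := AR_tensor (maximalIdeal A) (LinearMap.range (P.d p (p - 1)).hom)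
    obtain ⟨n, hn1, hn2⟩ : ∃ n, n₀ ≤ n ∧ c₀ ≤ n := ⟨max n₀ c₀, le_max_left _ _, le_max_right _ _⟩
    have hsn := hn₀ n hn1
    have hARn := hc₀ n hn2
    haveI : Module.Free A (P.opcycles (p - 1)) := by
      apply free_opcycles_of_lift P p (p - 1) hrel
      intro x' hx'
      obtain ⟨h₀, hh₀⟩ := hsn (clsT P p (ModuleCat.of A (ResidueField A)) x' hx')
      obtain ⟨x₀, hx₀, rfl⟩ :=
        clsT_surjective P p (ModuleCat.of A (A ⧸ maximalIdeal A ^ (n + 1))) h₀
      exact ⟨_, _, x₀, hx₀, hh₀, hARn⟩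
    have hflat : Module.Flat A (P.opcycles (p - 1)) := inferInstance
    have hmono := (TFun_preservesMono_iff_flat_opcycles P hfl (p - 1)).mpr hflat
    exact (TFun_preservesMono_iff_preservesEpi P hfl p (p - 1) hrel).mp hmono

end Groth.Agent.Lib.Helper7
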