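import Mathlib
import Groth.Prelude.Def_ega3
import Groth.Agent.Lib.Helper7.CxTransfer
set_option autoImplicit false
universe u
open CategoryTheory CategoryTheory.Limits MonoidalCategory TensorProduct

namespace Groth.Agent.Lib.Helper7

section theta
variable {A B : Type u} [CommRing A] [CommRing B] [Algebra A B]
variable (X : Type u) [AddCommGroup X] [Module A X]
variable (N : Type u) [AddCommGroup N] [Module B N] [Module A N] [IsScalarTower A B N]

/-- `(B ⊗_A X) ⊗_B N ≃ X ⊗_A N`, `(b ⊗ x) ⊗ n ↦ x ⊗ b n`. -/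
noncomputable def thetaEquiv : (B ⊗[A] X) ⊗[B] N ≃+ X ⊗[A] N :=
  ((TensorProduct.comm B (B ⊗[A] X) N).toAddEquiv.trans
    (TensorProduct.AlgebraTensorModule.cancelBaseChange A B B N X).toAddEquiv).trans
    (TensorProduct.comm A N X).toAddEquiv

lemma thetaEquiv_tmul (b : B) (x : X) (n : N) :
    thetaEquiv X N ((b ⊗ₜ[A] x) ⊗ₜ[B] n) = x ⊗ₜ[A] (b • n) := rfl

variable {X N}

lemma thetaEquiv_naturality_left {X' : Type u} [AddCommGroup X'] [Module A X'] (f : X →ₗ[A] X')
    (z : (B ⊗[A] X) ⊗[B] N) :
    thetaEquiv X' N (LinearMap.rTensor N (f.baseChange B) z) =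
      LinearMap.rTensor N f (thetaEquiv X N z) := by
  induction z using TensorProduct.induction_on with
  | zero => simp only [map_zero]
  | add z₁ z₂ h₁ h₂ => simp only [map_add, h₁, h₂]
  | tmul w n =>
    induction w using TensorProduct.induction_on with
    | zero => simp only [TensorProduct.zero_tmul, map_zero]
    | add w₁ w₂ h₁ h₂ => simp only [TensorProduct.add_tmul, map_add, h₁, h₂]
    | tmul b x =>
      rw [LinearMap.rTensor_tmul, LinearMap.baseChange_tmul, thetaEquiv_tmul, thetaEquiv_tmul,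
        LinearMap.rTensor_tmul]

lemma thetaEquiv_naturality_right {N' : Type u} [AddCommGroup N'] [Module B N'] [Module A N']
    [IsScalarTower A B N'] (g : N →ₗ[B] N') (gA : N →ₗ[A] N') (hg : ∀ n, gA n = g n)
    (z : (B ⊗[A] X) ⊗[B] N) :
    thetaEquiv X N' (LinearMap.lTensor (B ⊗[A] X) g z) =
      LinearMap.lTensor X gA (thetaEquiv X N z) := by
  induction z using TensorProduct.induction_on with
  | zero => simp only [map_zero]
  | add z₁ z₂ h₁ h₂ => simp only [map_add, h₁, h₂]
  | tmul w n =>
    induction w using TensorProduct.induction_on with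
    | zero => simp only [TensorProduct.zero_tmul, map_zero]
    | add w₁ w₂ h₁ h₂ => simp only [TensorProduct.add_tmul, map_add, h₁, h₂]
    | tmul b x =>
      rw [LinearMap.lTensor_tmul, thetaEquiv_tmul, thetaEquiv_tmul, LinearMap.lTensor_tmul, hg,
        map_smul]

lemma thetaEquiv_smul (a : A) (z : (B ⊗[A] X) ⊗[B] N) :
    thetaEquiv X N (algebraMap A B a • z) = a • thetaEquiv X N z := by
  induction z using TensorProduct.induction_on with
  | zero => simp only [smul_zero, map_zero]
  | add z₁ z₂ h₁ h₂ => simp only [smul_add, map_add, h₁, h₂]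
  | tmul w n =>
    induction w using TensorProduct.induction_on with
    | zero => simp only [TensorProduct.zero_tmul, smul_zero, map_zero]
    | add w₁ w₂ h₁ h₂ => simp only [TensorProduct.add_tmul, smul_add, map_add, h₁, h₂]
    | tmul b x =>
      rw [TensorProduct.smul_tmul', TensorProduct.smul_tmul', thetaEquiv_tmul, thetaEquiv_tmul,
        smul_eq_mul, mul_smul, algebraMap_smul, TensorProduct.tmul_smul]

lemma comm_baseChange {X' : Type u} [AddCommGroup X'] [Module A X'] (f : X →ₗ[A] X')
    (w : B ⊗[A] X) :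
    TensorProduct.comm A B X' (f.baseChange B w) =
      LinearMap.rTensor B f (TensorProduct.comm A B X w) := by
  induction w using TensorProduct.induction_on with
  | zero => simp only [map_zero]
  | add w₁ w₂ h₁ h₂ => simp only [map_add, h₁, h₂]
  | tmul b x =>
    rw [LinearMap.baseChange_tmul, TensorProduct.comm_tmul, TensorProduct.comm_tmul,
      LinearMap.rTensor_tmul]

lemma comm_algebraMap_smul (a : A) (w : B ⊗[A] X) :
    TensorProduct.comm A B X (algebraMap A B a • w) = a • TensorProduct.comm A B X w := by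
  rw [algebraMap_smul, map_smul]

end theta

section link
variable {A B : Type u} [CommRing A] [CommRing B] (φ : A →+* B) {ι : Type} {c : ComplexShape ι}
  (P : HomologicalComplex (ModuleCat.{u} A) c)

/-- degreewise `((B ⊗_A P_i) ⊗_B N) ≃ P_i ⊗_A N`. -/
noncomputable def linkTe (N : ModuleCat.{u} B) (i : ι) :
    (CohIII.tensorObj (CohIII.bcCx φ P) N).X i ≃+
      (CohIII.tensorObj P ((ModuleCat.restrictScalars φ).obj N)).X i :=
  letI := φ.toAlgebra
  letI : Module A N := Module.compHom N φ
  haveI : IsScalarTower A B N := ⟨fun a b n => mul_smul (φ a) b n⟩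
  let e : (B ⊗[A] P.X i) ⊗[B] N ≃+ P.X i ⊗[A] N := thetaEquiv (P.X i) N
  e

lemma linkTe_comm (N : ModuleCat.{u} B) (i j : ι)
    (z : (CohIII.tensorObj (CohIII.bcCx φ P) N).X i) :
    linkTe φ P N j (((CohIII.tensorObj (CohIII.bcCx φ P) N).d i j).hom z) =
      ((CohIII.tensorObj P ((ModuleCat.restrictScalars φ).obj N)).d i j).hom
        (linkTe φ P N i z) := by
  rw [tensorObj_d, tensorObj_d]
  letI := φ.toAlgebra
  letI : Module A N := Module.compHom N φ
  haveI : IsScalarTower A B N := ⟨fun a b n => mul_smul (φ a) b n⟩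
  let z' : (B ⊗[A] P.X i) ⊗[B] N := z
  have h := thetaEquiv_naturality_left (P.d i j).hom z'
  exact h

noncomputable def linkT (N : ModuleCat.{u} B) :
    CxAddEquiv (CohIII.tensorObj (CohIII.bcCx φ P) N)
      (CohIII.tensorObj P ((ModuleCat.restrictScalars φ).obj N)) where
  e i := linkTe φ P N i
  comm i j z := linkTe_comm φ P N i j z

/-- `T'_p(N) ≃ T_p(N|_A)` for the base-changed complex. -/
noncomputable def linkTEquiv (p : ι) (N : ModuleCat.{u} B) :
    (CohIII.TFun (CohIII.bcCx φ P) p).obj N ≃+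
      (CohIII.TFun P p).obj ((ModuleCat.restrictScalars φ).obj N) :=
  (linkT φ P N).homologyEquiv p

lemma linkTEquiv_naturality (p : ι) {N N' : ModuleCat.{u} B} (g : N ⟶ N')
    (h : (CohIII.TFun (CohIII.bcCx φ P) p).obj N) :
    linkTEquiv φ P p N' (((CohIII.TFun (CohIII.bcCx φ P) p).map g).hom h) =
      ((CohIII.TFun P p).map ((ModuleCat.restrictScalars φ).map g)).hom
        (linkTEquiv φ P p N h) := by
  refine CxAddHom.homologyMap_naturality (linkT φ P N).toHom (linkT φ P N').toHom
    (CohIII.tensorMap (CohIII.bcCx φ P) g)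
    (CohIII.tensorMap P ((ModuleCat.restrictScalars φ).map g)) p (fun z => ?_) h
  show linkTe φ P N' p (((CohIII.tensorMap (CohIII.bcCx φ P) g).f p).hom z) =
    ((CohIII.tensorMap P ((ModuleCat.restrictScalars φ).map g)).f p).hom (linkTe φ P N p z)
  rw [tensorMap_f_hom, tensorMap_f_hom]
  letI := φ.toAlgebra
  letI : Module A N := Module.compHom N φ
  haveI : IsScalarTower A B N := ⟨fun a b n => mul_smul (φ a) b n⟩
  letI : Module A N' := Module.compHom N' φ
  haveI : IsScalarTower A B N' := ⟨fun a b n => mul_smul (φ a) b n⟩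
  let z' : (B ⊗[A] P.X p) ⊗[B] N := z
  let gA : N →ₗ[A] N' := ((ModuleCat.restrictScalars φ).map g).hom
  have h := thetaEquiv_naturality_right g.hom gA (fun n => rfl) z'
  exact h

lemma linkTEquiv_smul (p : ι) (N : ModuleCat.{u} B) (a : A)
    (h : (CohIII.TFun (CohIII.bcCx φ P) p).obj N) :
    linkTEquiv φ P p N (φ a • h) = a • linkTEquiv φ P p N h := by
  refine CxAddHom.homologyMap_smul (linkT φ P N).toHom p (φ a) a (fun z => ?_) h
  show linkTe φ P N p (φ a • z) = a • linkTe φ P N p z
  letI := φ.toAlgebra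
  letI : Module A N := Module.compHom N φ
  haveI : IsScalarTower A B N := ⟨fun a b n => mul_smul (φ a) b n⟩
  let z' : (B ⊗[A] P.X p) ⊗[B] N := z
  have h := thetaEquiv_smul a z'
  exact h

/-- degreewise `B ⊗_A P_i ≃ P_i ⊗_A B`. -/
noncomputable def linkHe (i : ι) :
    (CohIII.bcCx φ P).X i ≃+
      (CohIII.tensorObj P ((ModuleCat.restrictScalars φ).obj (ModuleCat.of B B))).X i :=
  letI := φ.toAlgebra
  let e : B ⊗[A] P.X i ≃+ P.X i ⊗[A] B := (TensorProduct.comm A B (P.X i)).toAddEquiv
  e

lemma linkHe_comm (i j : ι) (z : (CohIII.bcCx φ P).X i) :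
    linkHe φ P j (((CohIII.bcCx φ P).d i j).hom z) =
      ((CohIII.tensorObj P ((ModuleCat.restrictScalars φ).obj (ModuleCat.of B B))).d i j).hom
        (linkHe φ P i z) := by
  rw [tensorObj_d]
  letI := φ.toAlgebra
  let z' : B ⊗[A] P.X i := z
  have h := comm_baseChange (B := B) (P.d i j).hom z'
  exact h

noncomputable def linkH :
    CxAddEquiv (CohIII.bcCx φ P)
      (CohIII.tensorObj P ((ModuleCat.restrictScalars φ).obj (ModuleCat.of B B))) where
  e i := linkHe φ P i
  comm i j z := linkHe_comm φ P i j z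

/-- `H_p(P_B) ≃ T_p(B)`. -/
noncomputable def linkHEquiv (p : ι) :
    (CohIII.bcCx φ P).homology p ≃+
      (CohIII.TFun P p).obj ((ModuleCat.restrictScalars φ).obj (ModuleCat.of B B)) :=
  (linkH φ P).homologyEquiv p

lemma linkHEquiv_smul (p : ι) (a : A) (h : (CohIII.bcCx φ P).homology p) :
    linkHEquiv φ P p (φ a • h) = a • linkHEquiv φ P p h := by
  refine CxAddHom.homologyMap_smul (linkH φ P).toHom p (φ a) a (fun z => ?_) h
  show linkHe φ P p (φ a • z) = a • linkHe φ P p z
  letI := φ.toAlgebra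
  let z' : B ⊗[A] P.X p := z
  have h := comm_algebraMap_smul (B := B) a z'
  exact h

end link

end Groth.Agent.Lib.Helper7
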