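import Mathlib
set_option autoImplicit false
universe u
open TensorProduct Module

namespace Groth.Agent.Lib.Helper7

variable {A : Type*} [CommRing A]

/-- fibre dimension of a module at a prime. -/
noncomputable def fibDim (W : Type*) [AddCommGroup W] [Module A W] (x : PrimeSpectrum A) : ℕ :=
  finrank x.asIdeal.ResidueField (x.asIdeal.ResidueField ⊗[A] W)

/-- if the cokernel of `φ` vanishes after tensoring with the field `k`, then `k ⊗ φ` is onto. -/
lemma baseChange_surjective_of_subsingleton {M W : Type*} [AddCommGroup M] [AddCommGroup W]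
    [Module A M] [Module A W] (k : Type*) [Field k] [Algebra A k] (φ : M →ₗ[A] W)
    (h : Subsingleton (k ⊗[A] (W ⧸ LinearMap.range φ))) :
    Function.Surjective (φ.baseChange k) := by
  have hex : Function.Exact (φ.baseChange k) ((LinearMap.range φ).mkQ.baseChange k) :=
    lTensor_exact k (LinearMap.exact_map_mkQ_range φ) (Submodule.mkQ_surjective _)
  intro v
  exact (hex v).mp (Subsingleton.elim _ _)

lemma subsingleton_of_baseChange_surjective {M W : Type*} [AddCommGroup M] [AddCommGroup W]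
    [Module A M] [Module A W] (k : Type*) [Field k] [Algebra A k] (φ : M →ₗ[A] W)
    (h : Function.Surjective (φ.baseChange k)) :
    Subsingleton (k ⊗[A] (W ⧸ LinearMap.range φ)) := by
  have hex : Function.Exact (φ.baseChange k) ((LinearMap.range φ).mkQ.baseChange k) :=
    lTensor_exact k (LinearMap.exact_map_mkQ_range φ) (Submodule.mkQ_surjective _)
  have hs : Function.Surjective ((LinearMap.range φ).mkQ.baseChange k) :=
    LinearMap.lTensor_surjective k (Submodule.mkQ_surjective _)
  refine ⟨fun c c' => ?_⟩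
  obtain ⟨v, rfl⟩ := hs c
  obtain ⟨v', rfl⟩ := hs c'
  rw [(hex v).mpr (h v), (hex v').mpr (h v')]

lemma exists_smul_eq_algebraMap (p : Ideal A) [p.IsPrime] (c : p.ResidueField) :
    ∃ t ∉ p, ∃ a : A, t • c = algebraMap A p.ResidueField a := by
  obtain ⟨z, rfl⟩ := IsLocalRing.residue_surjective c
  obtain ⟨⟨y, t⟩, rfl⟩ := IsLocalization.mk'_surjective p.primeCompl z
  refine ⟨t.1, t.2, y, ?_⟩
  rw [Algebra.smul_def, IsScalarTower.algebraMap_apply A (Localization.AtPrime p) p.ResidueField,
    IsScalarTower.algebraMap_apply A (Localization.AtPrime p) p.ResidueField y]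
  show IsLocalRing.residue _ (algebraMap A _ t.1) * IsLocalRing.residue _ (IsLocalization.mk' _ y t) =
    IsLocalRing.residue _ (algebraMap A _ y)
  rw [← map_mul, IsLocalization.mk'_spec']

lemma exists_smul_eq_one_tmul (p : Ideal A) [p.IsPrime] {W : Type*} [AddCommGroup W] [Module A W]
    (v : p.ResidueField ⊗[A] W) : ∃ r ∉ p, ∃ s : W, r • v = (1 : p.ResidueField) ⊗ₜ[A] s := by
  induction v using TensorProduct.induction_on with
  | zero => exact ⟨1, p.primeCompl.one_mem, 0, by simp⟩
  | tmul c w =>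
    obtain ⟨t, ht, a, hta⟩ := exists_smul_eq_algebraMap p c
    refine ⟨t, ht, a • w, ?_⟩
    rw [TensorProduct.smul_tmul', hta, Algebra.algebraMap_eq_smul_one, TensorProduct.smul_tmul]
  | add v₁ v₂ h₁ h₂ =>
    obtain ⟨r₁, hr₁, s₁, e₁⟩ := h₁
    obtain ⟨r₂, hr₂, s₂, e₂⟩ := h₂
    refine ⟨r₁ * r₂, p.primeCompl.mul_mem hr₁ hr₂, r₂ • s₁ + r₁ • s₂, ?_⟩
    rw [smul_add, mul_comm r₁ r₂, mul_smul, e₁, mul_comm r₂ r₁, mul_smul, e₂, TensorProduct.tmul_add,
      TensorProduct.tmul_smul, TensorProduct.tmul_smul]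

theorem fibDim_le_nhds (W : Type*) [AddCommGroup W] [Module A W] [Module.Finite A W]
    (x : PrimeSpectrum A) :
    ∃ U : Set (PrimeSpectrum A), IsOpen U ∧ x ∈ U ∧ ∀ y ∈ U, fibDim W y ≤ fibDim W x := by
  classical
  obtain ⟨n, hn⟩ : ∃ n, n = fibDim W x := ⟨_, rfl⟩
  let κ := x.asIdeal.ResidueField
  have hn' : finrank κ (κ ⊗[A] W) = n := hn.symm
  let b : Basis (Fin n) κ (κ ⊗[A] W) := Module.finBasisOfFinrankEq κ (κ ⊗[A] W) hn'
  have hex : ∀ i, ∃ r : A, r ∉ x.asIdeal ∧ ∃ s : W, r • (b i) = (1 : κ) ⊗ₜ[A] s :=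
    fun i => exists_smul_eq_one_tmul x.asIdeal (b i)
  choose r hr s hs using hex
  let φ : (Fin n → A) →ₗ[A] W := Fintype.linearCombination A s
  -- κ ⊗ φ is surjective
  have hφκ : Function.Surjective (φ.baseChange κ) := by
    rw [← LinearMap.range_eq_top, eq_top_iff, ← b.span_eq, Submodule.span_le]
    rintro _ ⟨i, rfl⟩
    have h1 : (1 : κ) ⊗ₜ[A] s i ∈ LinearMap.range (φ.baseChange κ) := by
      refine ⟨(1 : κ) ⊗ₜ[A] (Pi.single i (1 : A)), ?_⟩
      rw [LinearMap.baseChange_tmul]
      congr 1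
      simp [φ, Fintype.linearCombination_apply_single]
    rw [← hs i] at h1
    have hunit : algebraMap A κ (r i) ≠ 0 := by
      rw [Ne, Ideal.algebraMap_residueField_eq_zero]
      exact hr i
    have h2 : r i • b i = algebraMap A κ (r i) • b i := (algebraMap_smul κ (r i) (b i)).symm
    rw [h2] at h1
    have h3 := Submodule.smul_mem _ (algebraMap A κ (r i))⁻¹ h1
    rwa [smul_smul, inv_mul_cancel₀ hunit, one_smul] at h3
  have hC := subsingleton_of_baseChange_surjective κ φ hφκ
  have hfin : Module.Finite A (W ⧸ LinearMap.range φ) := inferInstance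
  have hx : x ∉ Module.support A (W ⧸ LinearMap.range φ) := by
    rw [Module.mem_support_iff_nontrivial_residueField_tensorProduct, not_nontrivial_iff_subsingleton]
    exact hC
  refine ⟨(Module.support A (W ⧸ LinearMap.range φ))ᶜ, ?_, hx, ?_⟩
  · rw [isOpen_compl_iff, Module.support_eq_zeroLocus]
    exact PrimeSpectrum.isClosed_zeroLocus _
  · intro y hy
    rw [Set.mem_compl_iff, Module.mem_support_iff_nontrivial_residueField_tensorProduct,
      not_nontrivial_iff_subsingleton] at hy
    have hsurj := baseChange_surjective_of_subsingleton y.asIdeal.ResidueField φ hy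
    have hle := LinearMap.finrank_le_finrank_of_surjective hsurj
    have hA : Nontrivial A := ⟨⟨0, 1, fun h => y.2.ne_top (by
      rw [Ideal.eq_top_iff_one, ← h]; exact zero_mem _)⟩⟩
    have h1 : finrank y.asIdeal.ResidueField (y.asIdeal.ResidueField ⊗[A] (Fin n → A)) = n := by
      rw [Module.finrank_baseChange, Module.finrank_fin_fun]
    rw [h1] at hle
    rw [← hn]
    exact hle

theorem fibDim_upperSemicontinuous (W : Type*) [AddCommGroup W] [Module A W] [Module.Finite A W] :
    UpperSemicontinuous (fibDim (A := A) W) := by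
  intro x c hc
  obtain ⟨U, hU, hxU, hle⟩ := fibDim_le_nhds W x
  exact Filter.mem_of_superset (hU.mem_nhds hxU) (fun y hy => lt_of_le_of_lt (hle y hy) hc)

end Groth.Agent.Lib.Helper7
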