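import Mathlib
set_option autoImplicit false
universe u
open TensorProduct Module

namespace Groth.Agent.Lib.Helper7

section LA
variable {k : Type*} [Field k] {V₁ V₂ V₃ : Type*} [AddCommGroup V₁] [AddCommGroup V₂]
  [AddCommGroup V₃] [Module k V₁] [Module k V₂] [Module k V₃]

/-- dimension count for the homology of `V₁ → V₂ → V₃`. -/
theorem finrank_homology_add [FiniteDimensional k V₂] (f : V₁ →ₗ[k] V₂) (g : V₂ →ₗ[k] V₃)
    (h : ∀ x, g (f x) = 0) :
    finrank k (LinearMap.ker g ⧸ LinearMap.range (f.codRestrict (LinearMap.ker g) h)) +
      finrank k (LinearMap.range f) + finrank k (LinearMap.range g) = finrank k V₂ := by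
  have h1 := Submodule.finrank_quotient_add_finrank
    (LinearMap.range (f.codRestrict (LinearMap.ker g) h))
  have h2 : finrank k (LinearMap.range (f.codRestrict (LinearMap.ker g) h)) =
      finrank k (LinearMap.range f) := by
    have e : (LinearMap.range (f.codRestrict (LinearMap.ker g) h)).map (LinearMap.ker g).subtype =
        LinearMap.range f := by
      rw [← LinearMap.range_comp, LinearMap.subtype_comp_codRestrict]
    rw [← e]
    exact (LinearEquiv.finrank_eq (Submodule.equivMapOfInjective _
      (Submodule.subtype_injective _) _))
  have h3 := LinearMap.finrank_range_add_finrank_ker g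
  omega

end LA

section CK
variable {A : Type*} [CommRing A] {M N W : Type*} [AddCommGroup M] [AddCommGroup N] [AddCommGroup W]
  [Module A M] [Module A N] [Module A W] (k : Type*) [Field k] [Algebra A k]

theorem finrank_range_baseChange_add [Module.Finite A N] (a : M →ₗ[A] N) (π : N →ₗ[A] W)
    (hex : Function.Exact a π) (hπ : Function.Surjective π) :
    finrank k (LinearMap.range (a.baseChange k)) + finrank k (k ⊗[A] W) = finrank k (k ⊗[A] N) := by
  have hex' : Function.Exact (a.baseChange k) (π.baseChange k) := lTensor_exact k hex hπ
  have hs : Function.Surjective (π.baseChange k) := LinearMap.lTensor_surjective k hπ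
  have h1 := LinearMap.finrank_range_add_finrank_ker (π.baseChange k)
  rw [LinearMap.range_eq_top.mpr hs, finrank_top] at h1
  have h2 : LinearMap.ker (π.baseChange k) = LinearMap.range (a.baseChange k) :=
    (LinearMap.exact_iff.mp hex')
  rw [h2] at h1
  omega

end CK

end Groth.Agent.Lib.Helper7
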