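import Mathlib
import Groth.Prelude.Def_ega3
import Groth.Agent.Lib.Helper7.FibLA
import Groth.Agent.Lib.Helper7.FibDim
import Groth.Agent.Lib.Helper7.OpcyclesFlat
set_option autoImplicit false
universe u
open CategoryTheory CategoryTheory.Limits TensorProduct Module

namespace Groth.Agent.Lib.Helper7

variable {A : Type u} [CommRing A] {ι : Type} {c : ComplexShape ι}

theorem finrank_homology_bcCx_bridge {B : Type u} [Field B] (φ : A →+* B) [alg : Algebra A B]
    (halg : alg = φ.toAlgebra)
    (P : HomologicalComplex (ModuleCat.{u} A) c) (p : ι) [Module.Finite A (P.X p)] :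
    finrank B ((CohIII.bcCx φ P).homology p) +
        finrank B (LinearMap.range ((P.d (c.prev p) p).hom.baseChange B)) +
        finrank B (LinearMap.range ((P.d p (c.next p)).hom.baseChange B)) =
      finrank B (B ⊗[A] P.X p) := by
  subst halg
  have e := ((CohIII.bcCx φ P).sc p).moduleCatHomologyIso.toLinearEquiv.finrank_eq
  have hfd : Module.Finite B (((CohIII.bcCx φ P).sc p).X₂) := by
    letI : Algebra A B := φ.toAlgebra
    exact inferInstanceAs (Module.Finite B (B ⊗[A] P.X p))
  have hLA := finrank_homology_add (k := B) ((CohIII.bcCx φ P).sc p).f.hom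
    ((CohIII.bcCx φ P).sc p).g.hom (fun x => ((CohIII.bcCx φ P).sc p).moduleCat_zero_apply x)
  exact Eq.trans (congrArg (fun n => n +
    finrank B (LinearMap.range ((CohIII.bcCx φ P).sc p).f.hom) +
    finrank B (LinearMap.range ((CohIII.bcCx φ P).sc p).g.hom)) e) hLA

theorem finrank_homology_bcCx {B : Type u} [Field B] (φ : A →+* B) [alg : Algebra A B]
    (halg : alg = φ.toAlgebra)
    (P : HomologicalComplex (ModuleCat.{u} A) c) (p q : ι) (hpq : c.Rel p q)
    [Module.Finite A (P.X p)] [Module.Finite A (P.X q)] :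
    finrank B ((CohIII.bcCx φ P).homology p) + finrank B (B ⊗[A] P.X q) =
      finrank B (B ⊗[A] P.opcycles p) + finrank B (B ⊗[A] P.opcycles q) := by
  obtain rfl : c.next p = q := c.next_eq' hpq
  have e' := finrank_homology_bcCx_bridge φ halg P p
  have hCK1 := finrank_range_baseChange_add B (P.d (c.prev p) p).hom (P.pOpcycles p).hom
    (exact_d_pOpcycles P p) (pOpcycles_surjective P p)
  have hCK2 := finrank_range_baseChange_add B (P.d p (c.next p)).hom (P.pOpcycles (c.next p)).hom
    (exact_d_pOpcycles' P p _ hpq) (pOpcycles_surjective P _)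
  omega


theorem dRank_add_fibDim (P : HomologicalComplex (ModuleCat.{u} A) c) (p q : ι) (hpq : c.Rel p q)
    [Module.Finite A (P.X p)] [Module.Finite A (P.X q)] (x : PrimeSpectrum A) :
    CohIII.dRank P p x + fibDim (P.X q) x =
      fibDim (P.opcycles p) x + fibDim (P.opcycles q) x := by
  unfold CohIII.dRank fibDim
  have halg : (inferInstance : Algebra A x.asIdeal.ResidueField) =
      (algebraMap A x.asIdeal.ResidueField).toAlgebra := Algebra.algebra_ext _ _ (fun r => rfl)
  exact finrank_homology_bcCx (algebraMap A x.asIdeal.ResidueField) halg P p q hpq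

lemma finite_opcycles (P : HomologicalComplex (ModuleCat.{u} A) c) (p : ι)
    [Module.Finite A (P.X p)] : Module.Finite A (P.opcycles p) :=
  Module.Finite.of_surjective (P.pOpcycles p).hom (pOpcycles_surjective P p)

lemma fibDim_eq_rankAtStalk (M : Type u) [AddCommGroup M] [Module A M] [Module.Finite A M]
    [Module.Flat A M] (x : PrimeSpectrum A) : fibDim M x = Module.rankAtStalk M x :=
  (Module.rankAtStalk_eq x).symm

theorem dRank_upperSemicontinuous [IsNoetherianRing A] (P : ChainComplex (ModuleCat.{u} A) ℤ)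
    (hP : ∀ i, Module.Finite A (P.X i) ∧ Module.Flat A (P.X i)) (p : ℤ) :
    UpperSemicontinuous (CohIII.dRank P p) := by
  have hrel : (ComplexShape.down ℤ).Rel p (p - 1) := by
    show p - 1 + 1 = p
    ring
  haveI : Module.Finite A (P.X p) := (hP p).1
  haveI : Module.Finite A (P.X (p - 1)) := (hP (p - 1)).1
  haveI : Module.Flat A (P.X (p - 1)) := (hP (p - 1)).2
  haveI := finite_opcycles P p
  haveI := finite_opcycles P (p - 1)
  haveI : Module.FinitePresentation A (P.X (p - 1)) := Module.finitePresentation_of_finite A _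
  have hlc : IsLocallyConstant (Module.rankAtStalk (R := A) (P.X (p - 1))) :=
    Module.isLocallyConstant_rankAtStalk
  intro x cc hc
  obtain ⟨U₁, hU₁, hx₁, hle₁⟩ := fibDim_le_nhds (P.opcycles p) x
  obtain ⟨U₂, hU₂, hx₂, hle₂⟩ := fibDim_le_nhds (P.opcycles (p - 1)) x
  have hU₃ : IsOpen {y | Module.rankAtStalk (R := A) (P.X (p - 1)) y =
      Module.rankAtStalk (R := A) (P.X (p - 1)) x} := hlc.isOpen_fiber _
  refine Filter.mem_of_superset ((hU₁.inter (hU₂.inter hU₃)).mem_nhds ⟨hx₁, hx₂, rfl⟩) ?_
  rintro y ⟨hy₁, hy₂, hy₃⟩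
  have ey := dRank_add_fibDim P p (p - 1) hrel y
  have ex := dRank_add_fibDim P p (p - 1) hrel x
  rw [fibDim_eq_rankAtStalk] at ey ex
  have h1 := hle₁ y hy₁
  have h2 := hle₂ y hy₂
  have h3 : Module.rankAtStalk (R := A) (P.X (p - 1)) y =
      Module.rankAtStalk (R := A) (P.X (p - 1)) x := hy₃
  show CohIII.dRank P p y < cc
  omega

end Groth.Agent.Lib.Helper7
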