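import Mathlib
import Groth.Agent.Lib.Helper7.FibDim
set_option autoImplicit false
universe u
open TensorProduct Module

namespace Groth.Agent.Lib.Helper7

variable {A : Type*} [CommRing A]

theorem exists_map_baseChange_surjective (W : Type*) [AddCommGroup W] [Module A W]
    [Module.Finite A W] (x : PrimeSpectrum A) :
    ∃ φ : (Fin (fibDim W x) → A) →ₗ[A] W,
      Function.Surjective (φ.baseChange x.asIdeal.ResidueField) := by
  classical
  obtain ⟨n, hn⟩ : ∃ n, n = fibDim W x := ⟨_, rfl⟩
  rw [← hn]
  let κ := x.asIdeal.ResidueField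
  have hn' : finrank κ (κ ⊗[A] W) = n := hn.symm
  let b : Basis (Fin n) κ (κ ⊗[A] W) := Module.finBasisOfFinrankEq κ (κ ⊗[A] W) hn'
  have hex : ∀ i, ∃ r : A, r ∉ x.asIdeal ∧ ∃ s : W, r • (b i) = (1 : κ) ⊗ₜ[A] s :=
    fun i => exists_smul_eq_one_tmul x.asIdeal (b i)
  choose r hr s hs using hex
  refine ⟨Fintype.linearCombination A s, ?_⟩
  rw [← LinearMap.range_eq_top, eq_top_iff, ← b.span_eq, Submodule.span_le]
  rintro _ ⟨i, rfl⟩
  have h1 : (1 : κ) ⊗ₜ[A] s i ∈
      LinearMap.range ((Fintype.linearCombination A s).baseChange κ) := by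
    refine ⟨(1 : κ) ⊗ₜ[A] (Pi.single i (1 : A)), ?_⟩
    rw [LinearMap.baseChange_tmul]
    congr 1
    simp [Fintype.linearCombination_apply_single]
  rw [← hs i] at h1
  have hunit : algebraMap A κ (r i) ≠ 0 := by
    rw [Ne, Ideal.algebraMap_residueField_eq_zero]
    exact hr i
  have h2 : r i • b i = algebraMap A κ (r i) • b i := (algebraMap_smul κ (r i) (b i)).symm
  rw [h2] at h1
  have h3 := Submodule.smul_mem _ (algebraMap A κ (r i))⁻¹ h1
  rwa [smul_smul, inv_mul_cancel₀ hunit, one_smul] at h3

/-- coordinates of a vector killed in the fibre lie in the prime. -/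
lemma mem_of_one_tmul_eq_zero (y : PrimeSpectrum A) {n : ℕ} (z : Fin n → A)
    (h : (1 : y.asIdeal.ResidueField) ⊗ₜ[A] z = 0) (j : Fin n) : z j ∈ y.asIdeal := by
  have h1 := congrArg (TensorProduct.piScalarRight A y.asIdeal.ResidueField
    y.asIdeal.ResidueField (Fin n)) h
  rw [map_zero, TensorProduct.piScalarRight_apply, TensorProduct.piScalarRightHom_tmul] at h1
  have h2 := congrFun h1 j
  rw [Pi.zero_apply, Algebra.smul_def, mul_one] at h2
  exact (Ideal.algebraMap_residueField_eq_zero).mp h2

theorem free_of_fibDim_eq_closedPoint [IsLocalRing A] [IsReduced A] (W : Type*) [AddCommGroup W]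
    [Module A W] [Module.Finite A W]
    (h : ∀ q : PrimeSpectrum A, q.asIdeal ∈ minimalPrimes A →
      fibDim W q = fibDim W (IsLocalRing.closedPoint A)) : Module.Free A W := by
  obtain ⟨φ, hφ⟩ := exists_map_baseChange_surjective W (IsLocalRing.closedPoint A)
  -- φ is surjective
  have hC := subsingleton_of_baseChange_surjective _ φ hφ
  have hx : IsLocalRing.closedPoint A ∉ Module.support A (W ⧸ LinearMap.range φ) := by
    rw [Module.mem_support_iff_nontrivial_residueField_tensorProduct, not_nontrivial_iff_subsingleton]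
    exact hC
  have hsupp : Module.support A (W ⧸ LinearMap.range φ) = ∅ := by
    rw [Set.eq_empty_iff_forall_notMem]
    intro y hy
    exact hx (Module.mem_support_mono (IsLocalRing.le_maximalIdeal y.2.ne_top) hy)
  have hsub : Subsingleton (W ⧸ LinearMap.range φ) := Module.support_eq_empty_iff.mp hsupp
  have hsurj : Function.Surjective φ := by
    rw [← LinearMap.range_eq_top]
    exact Submodule.Quotient.subsingleton_iff.mp hsub
  have hinj : Function.Injective φ := by
    rw [injective_iff_map_eq_zero]
    intro z hz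
    have hmem : ∀ j, z j ∈ sInf (minimalPrimes A) := by
      intro j
      rw [Ideal.mem_sInf]
      intro q hq
      have hqp : q.IsPrime := hq.1.1
      let y : PrimeSpectrum A := ⟨q, hqp⟩
      have hy := h y hq
      have hsy : Function.Surjective (φ.baseChange y.asIdeal.ResidueField) :=
        LinearMap.lTensor_surjective _ hsurj
      have hA : Nontrivial A := inferInstance
      have hdim : finrank y.asIdeal.ResidueField
          (y.asIdeal.ResidueField ⊗[A] (Fin (fibDim W (IsLocalRing.closedPoint A)) → A)) =
          finrank y.asIdeal.ResidueField (y.asIdeal.ResidueField ⊗[A] W) := by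
        rw [Module.finrank_baseChange, Module.finrank_fin_fun]
        exact hy.symm
      have hiy : Function.Injective (φ.baseChange y.asIdeal.ResidueField) :=
        (LinearMap.injective_iff_surjective_of_finrank_eq_finrank hdim).mpr hsy
      have h0 : (1 : y.asIdeal.ResidueField) ⊗ₜ[A] z = 0 := by
        apply hiy
        rw [LinearMap.baseChange_tmul, hz, TensorProduct.tmul_zero, map_zero]
      exact mem_of_one_tmul_eq_zero y z h0 j
    have hrad : sInf (minimalPrimes A) = ⊥ := by
      show sInf (⊥ : Ideal A).minimalPrimes = ⊥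
      rw [Ideal.sInf_minimalPrimes]
      exact nilradical_eq_zero A
    rw [hrad] at hmem
    funext j
    exact (hmem j)
  exact Module.Free.of_equiv (LinearEquiv.ofBijective φ ⟨hinj, hsurj⟩)

end Groth.Agent.Lib.Helper7
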