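import Mathlib
import Groth.Prelude.Def_ega3
import Groth.Agent.Lib.Helper7.FibDRank
import Groth.Agent.Lib.Helper7.FibFree
import Groth.Agent.Lib.Helper7.TFunLocal
set_option autoImplicit false
universe u
open CategoryTheory CategoryTheory.Limits TensorProduct Module

namespace Groth.Agent.Lib.Helper7

variable {A : Type u} [CommRing A]

lemma fibDim_le_closedPoint [IsLocalRing A] (W : Type u) [AddCommGroup W] [Module A W]
    [Module.Finite A W] (y : PrimeSpectrum A) :
    fibDim W y ≤ fibDim W (IsLocalRing.closedPoint A) := by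
  obtain ⟨U, hU, hx, hle⟩ := fibDim_le_nhds W (IsLocalRing.closedPoint A)
  have hUtop : (⟨U, hU⟩ : TopologicalSpace.Opens (PrimeSpectrum A)) = ⊤ :=
    (IsLocalRing.closedPoint_mem_iff (U := ⟨U, hU⟩)).mp hx
  have hy : y ∈ (⟨U, hU⟩ : TopologicalSpace.Opens (PrimeSpectrum A)) := by
    rw [hUtop]; trivial
  exact hle y hy

lemma fibDim_of_free (M : Type u) [AddCommGroup M] [Module A M] [Module.Free A M]
    (x : PrimeSpectrum A) : fibDim M x = finrank A M := by
  have hA : Nontrivial A := ⟨⟨0, 1, fun h => x.2.ne_top (by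
    rw [Ideal.eq_top_iff_one, ← h]; exact zero_mem _)⟩⟩
  unfold fibDim
  rw [Module.finrank_baseChange]

theorem TFun_exact_iff_dRank_minimal [IsNoetherianRing A] [IsLocalRing A] [IsReduced A]
    (P : ChainComplex (ModuleCat.{u} A) ℤ)
    (hP : ∀ i, Module.Finite A (P.X i) ∧ Module.Flat A (P.X i)) (p : ℤ) :
    ((CohIII.TFun P p).PreservesMonomorphisms ∧ (CohIII.TFun P p).PreservesEpimorphisms) ↔
      ∀ q : PrimeSpectrum A, q.asIdeal ∈ minimalPrimes A →
        CohIII.dRank P p q = CohIII.dRank P p (IsLocalRing.closedPoint A) := by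
  have hfl : ∀ i, Module.Flat A (P.X i) := fun i => (hP i).2
  have hrel : (ComplexShape.down ℤ).Rel p (p - 1) := by
    show p - 1 + 1 = p
    ring
  haveI : Module.Finite A (P.X p) := (hP p).1
  haveI : Module.Finite A (P.X (p - 1)) := (hP (p - 1)).1
  haveI : Module.Flat A (P.X (p - 1)) := (hP (p - 1)).2
  haveI : Module.Free A (P.X (p - 1)) := Module.free_of_flat_of_isLocalRing
  haveI := finite_opcycles P p
  haveI := finite_opcycles P (p - 1)
  have hK := fun y => dRank_add_fibDim P p (p - 1) hrel y
  constructor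
  · rintro ⟨hm, he⟩ q _
    haveI hW : Module.Flat A (P.opcycles p) := (TFun_preservesMono_iff_flat_opcycles P hfl p).mp hm
    have hm' : (CohIII.TFun P (p - 1)).PreservesMonomorphisms :=
      (TFun_preservesMono_iff_preservesEpi P hfl p (p - 1) hrel).mpr he
    haveI hW' : Module.Flat A (P.opcycles (p - 1)) :=
      (TFun_preservesMono_iff_flat_opcycles P hfl (p - 1)).mp hm'
    haveI : Module.Free A (P.opcycles p) := Module.free_of_flat_of_isLocalRing
    haveI : Module.Free A (P.opcycles (p - 1)) := Module.free_of_flat_of_isLocalRing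
    have e1 := hK q
    have e2 := hK (IsLocalRing.closedPoint A)
    rw [fibDim_of_free, fibDim_of_free, fibDim_of_free] at e1 e2
    omega
  · intro h
    have key : ∀ q : PrimeSpectrum A, q.asIdeal ∈ minimalPrimes A →
        fibDim (P.opcycles p) q = fibDim (P.opcycles p) (IsLocalRing.closedPoint A) ∧
        fibDim (P.opcycles (p - 1)) q =
          fibDim (P.opcycles (p - 1)) (IsLocalRing.closedPoint A) := by
      intro q hq
      have e1 := hK q
      have e2 := hK (IsLocalRing.closedPoint A)
      rw [fibDim_of_free (P.X (p - 1))] at e1 e2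
      have h1 := fibDim_le_closedPoint (P.opcycles p) q
      have h2 := fibDim_le_closedPoint (P.opcycles (p - 1)) q
      have h3 := h q hq
      omega
    haveI : Module.Free A (P.opcycles p) :=
      free_of_fibDim_eq_closedPoint (P.opcycles p) (fun q hq => (key q hq).1)
    haveI : Module.Free A (P.opcycles (p - 1)) :=
      free_of_fibDim_eq_closedPoint (P.opcycles (p - 1)) (fun q hq => (key q hq).2)
    have hm : (CohIII.TFun P p).PreservesMonomorphisms :=
      (TFun_preservesMono_iff_flat_opcycles P hfl p).mpr inferInstance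
    have hm' : (CohIII.TFun P (p - 1)).PreservesMonomorphisms :=
      (TFun_preservesMono_iff_flat_opcycles P hfl (p - 1)).mpr inferInstance
    exact ⟨hm, (TFun_preservesMono_iff_preservesEpi P hfl p (p - 1) hrel).mp hm'⟩

end Groth.Agent.Lib.Helper7
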