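import Mathlib
import Groth.Prelude.Def_ega3
import Groth.Agent.Lib.Helper7.BcLink
import Groth.Agent.Lib.Helper7.TFunExact
import Groth.Agent.Lib.Helper7.TFunExact2
import Groth.Agent.Lib.Helper7.FibDRank
import Groth.Agent.Lib.Helper7.FibFree
import Groth.Agent.Lib.Helper7.FibExact
set_option autoImplicit false
universe u
open CategoryTheory CategoryTheory.Limits MonoidalCategory TensorProduct Module

namespace Groth.Agent.Lib.Helper7

variable {A : Type u} [CommRing A] {ι : Type} {c : ComplexShape ι}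

/-- an additive bijection between `κ`-spaces commuting with the scalars coming from `A` is
`κ`-linear when every element of `κ` is a fraction of images of elements of `A`. -/
theorem finrank_eq_of_addEquiv_of_frac {κ : Type u} [Field κ] (φ : A →+* κ)
    (hfrac : ∀ c : κ, ∃ t a : A, φ t ≠ 0 ∧ φ t * c = φ a)
    {V W : Type*} [AddCommGroup V] [Module κ V] [AddCommGroup W] [Module κ W]
    (Ψ : V ≃+ W) (hΨ : ∀ (a : A) (v : V), Ψ (φ a • v) = φ a • Ψ v) :
    finrank κ V = finrank κ W := by
  have hlin : ∀ (c : κ) (v : V), Ψ (c • v) = c • Ψ v := by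
    intro c v
    obtain ⟨t, a, ht, hta⟩ := hfrac c
    have h1 : φ t • Ψ (c • v) = φ a • Ψ v := by
      rw [← hΨ, smul_smul, hta, hΨ]
    have h2 : φ t • (c • Ψ v) = φ a • Ψ v := by
      rw [smul_smul, hta]
    exact smul_right_injective W ht (h1.trans h2.symm)
  let e : V ≃ₗ[κ] W :=
    { toFun := Ψ, map_add' := Ψ.map_add, map_smul' := hlin, invFun := Ψ.symm,
      left_inv := Ψ.left_inv, right_inv := Ψ.right_inv }
  exact e.finrank_eq

theorem finrank_homology_bcCx_eq_tensor {κ : Type u} [Field κ] (φ : A →+* κ)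
    [alg : Algebra A κ] (halg : alg = φ.toAlgebra)
    (hfrac : ∀ c : κ, ∃ t a : A, φ t ≠ 0 ∧ φ t * c = φ a)
    (P : HomologicalComplex (ModuleCat.{u} A) c) (hP : ∀ i, Module.Flat A (P.X i)) (p : ι)
    [(CohIII.TFun P p).PreservesEpimorphisms] :
    finrank κ ((CohIII.bcCx φ P).homology p) =
      finrank κ (κ ⊗[A] (CohIII.T P p (ModuleCat.of A A))) := by
  subst halg
  letI := φ.toAlgebra
  let M : ModuleCat.{u} A := (ModuleCat.restrictScalars φ).obj (ModuleCat.of κ κ)
  have hbij := TFun_tMap_bijective_of_preservesEpi P hP p M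
  let t : TensorProduct A ((CohIII.TFun P p).obj (ModuleCat.of A A)) M ≃+
      (CohIII.TFun P p).obj M :=
    (LinearEquiv.ofBijective (tMap (CohIII.TFun P p) M) hbij).toAddEquiv
  let cm₀ : κ ⊗[A] (CohIII.T P p (ModuleCat.of A A)) ≃+
      (CohIII.T P p (ModuleCat.of A A)) ⊗[A] κ :=
    (TensorProduct.comm A κ (CohIII.T P p (ModuleCat.of A A))).toAddEquiv
  let cm : κ ⊗[A] (CohIII.T P p (ModuleCat.of A A)) ≃+
      TensorProduct A ((CohIII.TFun P p).obj (ModuleCat.of A A)) M := cm₀
  let Ψ : κ ⊗[A] (CohIII.T P p (ModuleCat.of A A)) ≃+ (CohIII.bcCx φ P).homology p :=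
    (cm.trans t).trans (linkHEquiv φ P p).symm
  refine (finrank_eq_of_addEquiv_of_frac φ hfrac Ψ ?_).symm
  intro a v
  show (linkHEquiv φ P p).symm (t (cm (φ a • v))) = φ a • (linkHEquiv φ P p).symm (t (cm v))
  rw [AddEquiv.symm_apply_eq, linkHEquiv_smul, AddEquiv.apply_symm_apply]
  have h1 : φ a • v = a • v := algebraMap_smul κ a v
  rw [h1]
  have h2 : cm (a • v) = a • cm v :=
    map_smul (TensorProduct.comm A κ (CohIII.T P p (ModuleCat.of A A))) a v
  rw [h2]
  exact map_smul (tMap (CohIII.TFun P p) M) a (cm v)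

theorem dRank_eq_fibDim_T (P : HomologicalComplex (ModuleCat.{u} A) c)
    (hP : ∀ i, Module.Flat A (P.X i)) (p : ι) [(CohIII.TFun P p).PreservesEpimorphisms]
    (x : PrimeSpectrum A) :
    CohIII.dRank P p x = fibDim (CohIII.T P p (ModuleCat.of A A)) x := by
  unfold CohIII.dRank fibDim
  have halg : (inferInstance : Algebra A x.asIdeal.ResidueField) =
      (algebraMap A x.asIdeal.ResidueField).toAlgebra := Algebra.algebra_ext _ _ (fun r => rfl)
  refine finrank_homology_bcCx_eq_tensor (algebraMap A x.asIdeal.ResidueField) halg ?_ P hP p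
  intro cc
  obtain ⟨t, ht, a, hta⟩ := exists_smul_eq_algebraMap x.asIdeal cc
  refine ⟨t, a, ?_, ?_⟩
  · rw [Ne, Ideal.algebraMap_residueField_eq_zero]
    exact ht
  · rw [← Algebra.smul_def]
    exact hta

theorem dRank_locallyConstant_of_exact_of_fp (P : ChainComplex (ModuleCat.{u} A) ℤ)
    (hP : ∀ i, Module.Flat A (P.X i)) (p : ℤ)
    (hex : (CohIII.TFun P p).PreservesMonomorphisms ∧ (CohIII.TFun P p).PreservesEpimorphisms)
    (hfp : Module.FinitePresentation A (CohIII.T P p (ModuleCat.of A A))) :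
    IsLocallyConstant (CohIII.dRank P p) := by
  obtain ⟨hm, he⟩ := hex
  haveI := hm
  haveI := he
  haveI : Module.Flat A (CohIII.T P p (ModuleCat.of A A)) := TFun_flat_of_exact P hP p
  haveI := hfp
  have hlc : IsLocallyConstant (Module.rankAtStalk (R := A) (CohIII.T P p (ModuleCat.of A A))) :=
    Module.isLocallyConstant_rankAtStalk
  have heq : CohIII.dRank P p =
      Module.rankAtStalk (R := A) (CohIII.T P p (ModuleCat.of A A)) := by
    funext x
    rw [dRank_eq_fibDim_T P hP p x, fibDim_eq_rankAtStalk]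
  rw [heq]
  exact hlc

theorem exact_upTo_iff_dRank_eq_closedPoint [IsLocalRing A]
    (P : ChainComplex (ModuleCat.{u} A) ℤ) (hP : ∀ i, Module.Flat A (P.X i)) (i₀ : ℤ)
    (hb : ∀ i < i₀, IsZero (P.X i))
    (hfp : ∀ n : ℤ, Module.FinitePresentation A (CohIII.T P n (ModuleCat.of A A))) (p : ℤ) :
    ((∀ q ≤ p, (CohIII.TFun P q).PreservesMonomorphisms ∧ (CohIII.TFun P q).PreservesEpimorphisms) →
        ∀ (x : PrimeSpectrum A), ∀ q ≤ p,
          CohIII.dRank P q x = CohIII.dRank P q (IsLocalRing.closedPoint A)) ∧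
      (IsReduced A →
        (∀ x : PrimeSpectrum A, x.asIdeal ∈ minimalPrimes A →
          ∀ q ≤ p, CohIII.dRank P q x = CohIII.dRank P q (IsLocalRing.closedPoint A)) →
        ∀ q ≤ p, (CohIII.TFun P q).PreservesMonomorphisms ∧
          (CohIII.TFun P q).PreservesEpimorphisms) := by
  constructor
  · intro h x q hq
    obtain ⟨hm, he⟩ := h q hq
    haveI := hm
    haveI := he
    haveI : Module.Flat A (CohIII.T P q (ModuleCat.of A A)) := TFun_flat_of_exact P hP q
    haveI := hfp q
    haveI : Module.Free A (CohIII.T P q (ModuleCat.of A A)) := Module.free_of_flat_of_isLocalRing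
    rw [dRank_eq_fibDim_T P hP q x, dRank_eq_fibDim_T P hP q (IsLocalRing.closedPoint A),
      fibDim_of_free, fibDim_of_free]
  · intro hred hmin
    haveI := hred
    have key : ∀ n : ℕ, ∀ q : ℤ, q < i₀ + n → q ≤ p →
        (CohIII.TFun P q).PreservesMonomorphisms ∧ (CohIII.TFun P q).PreservesEpimorphisms := by
      intro n
      induction n with
      | zero =>
        intro q hq _
        exact preservesMonoEpi_of_isZero _
          (fun M => TFun_isZero_of_isZero P q (hb q (by simpa using hq)) M)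
      | succ n ih =>
        intro q hq hqp
        obtain ⟨hm', he'⟩ := ih (q - 1) (by push_cast at hq ⊢; omega) (by omega)
        have hrel : (ComplexShape.down ℤ).Rel q (q - 1) := by
          show q - 1 + 1 = q
          ring
        haveI he : (CohIII.TFun P q).PreservesEpimorphisms :=
          (TFun_preservesMono_iff_preservesEpi P hP q (q - 1) hrel).mp hm'
        haveI := hfp q
        haveI : Module.Free A (CohIII.T P q (ModuleCat.of A A)) := by
          refine free_of_fibDim_eq_closedPoint _ (fun y hy => ?_)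
          rw [← dRank_eq_fibDim_T P hP q y, ← dRank_eq_fibDim_T P hP q (IsLocalRing.closedPoint A)]
          exact hmin y hy q hqp
        exact ⟨TFun_preservesMono_of_preservesEpi_of_flat P hP q inferInstance, he⟩
    intro q hq
    obtain ⟨n, hn⟩ : ∃ n : ℕ, q < i₀ + n := ⟨(q - i₀ + 1).toNat, by omega⟩
    exact key n q hn hq

end Groth.Agent.Lib.Helper7
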