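import Mathlib
import Groth.Prelude.Def_ega3
set_option autoImplicit false
universe u
open CategoryTheory CategoryTheory.Limits TensorProduct Module

namespace Groth.Agent.Lib.Helper7

variable {A B : Type u} [CommRing A] [CommRing B] {ι : Type} {c : ComplexShape ι}

lemma extendScalars_preservesFiniteLimits_of_flat (φ : A →+* B) [alg : Algebra A B]
    (halg : alg = φ.toAlgebra) [Module.Flat A B] :
    PreservesFiniteLimits (ModuleCat.extendScalars.{u, u, u} φ) := by
  subst halg
  letI := φ.toAlgebra
  rw [Functor.preservesFiniteLimits_iff_forall_exact_map_and_mono]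
  intro S hS
  have hcolim : PreservesFiniteColimits (ModuleCat.extendScalars.{u, u, u} φ) := inferInstance
  have h1 := (Functor.preservesFiniteColimits_iff_forall_exact_map_and_epi _).mp hcolim S hS
  refine ⟨h1.1, ?_⟩
  have hinj : Function.Injective S.f.hom := hS.moduleCat_injective_f
  rw [ModuleCat.mono_iff_injective]
  exact Module.Flat.lTensor_preserves_injective_linearMap (M := B) S.f.hom hinj

/-- flat base change commutes with homology. -/
noncomputable def homologyBcCxIso (φ : A →+* B) [alg : Algebra A B]
    (halg : alg = φ.toAlgebra) [Module.Flat A B]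
    (P : HomologicalComplex (ModuleCat.{u} A) c) (p : ι) :
    (CohIII.bcCx φ P).homology p ≅ (ModuleCat.extendScalars φ).obj (P.homology p) :=
  haveI := extendScalars_preservesFiniteLimits_of_flat φ halg
  (P.sc p).mapHomologyIso (ModuleCat.extendScalars φ)

lemma finrank_extendScalars_field {F F' : Type u} [Field F] [Field F'] (θ : F →+* F')
    (V : ModuleCat.{u} F) :
    finrank F' ((ModuleCat.extendScalars θ).obj V) = finrank F V := by
  letI := θ.toAlgebra
  exact Module.finrank_baseChange (R := F') (S := F) (M' := V)

theorem finrank_homology_bcCx_field {F F' : Type u} [Field F] [Field F'] (θ : F →+* F')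
    (C : HomologicalComplex (ModuleCat.{u} F) c) (p : ι) :
    finrank F' ((CohIII.bcCx θ C).homology p) = finrank F (C.homology p) := by
  letI := θ.toAlgebra
  have e := homologyBcCxIso θ rfl C p
  exact e.toLinearEquiv.finrank_eq.trans (finrank_extendScalars_field θ _)

noncomputable def bcCxCompIso {A₁ A₂ A₃ : Type u} [CommRing A₁] [CommRing A₂] [CommRing A₃]
    (f : A₁ →+* A₂) (g : A₂ →+* A₃) (P : HomologicalComplex (ModuleCat.{u} A₁) c) :
    CohIII.bcCx (g.comp f) P ≅ CohIII.bcCx g (CohIII.bcCx f P) :=
  (NatIso.mapHomologicalComplex (ModuleCat.extendScalarsComp f g) c).app P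

lemma finrank_homology_bcCx_comp {A₁ A₂ : Type u} [CommRing A₁] [CommRing A₂] {F : Type u}
    [Field F] (f : A₁ →+* A₂) (g : A₂ →+* F) (P : HomologicalComplex (ModuleCat.{u} A₁) c)
    (p : ι) :
    finrank F ((CohIII.bcCx (g.comp f) P).homology p) =
      finrank F ((CohIII.bcCx g (CohIII.bcCx f P)).homology p) :=
  ((HomologicalComplex.homologyFunctor _ _ p).mapIso (bcCxCompIso f g P)).toLinearEquiv.finrank_eq

/-- field extension does not change the dimension of the homology of the base change. -/
theorem finrank_homology_bcCx_comp_field {F F' : Type u} [Field F] [Field F'] (φ : A →+* F)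
    (θ : F →+* F') (P : HomologicalComplex (ModuleCat.{u} A) c) (p : ι) :
    finrank F' ((CohIII.bcCx (θ.comp φ) P).homology p) =
      finrank F ((CohIII.bcCx φ P).homology p) :=
  (finrank_homology_bcCx_comp φ θ P p).trans (finrank_homology_bcCx_field θ _ p)

theorem dRank_baseChange {A' : Type u} [CommRing A'] [Algebra A A']
    (P : HomologicalComplex (ModuleCat.{u} A) c) (p : ι) (x' : PrimeSpectrum A') :
    CohIII.dRank (CohIII.bcCx (algebraMap A A') P) p x' =
      CohIII.dRank P p (PrimeSpectrum.comap (algebraMap A A') x') := by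
  obtain ⟨x, hx⟩ : ∃ x : PrimeSpectrum A, x = PrimeSpectrum.comap (algebraMap A A') x' :=
    ⟨_, rfl⟩
  rw [← hx]
  have hI : x.asIdeal = x'.asIdeal.comap (algebraMap A A') := by rw [hx]; rfl
  let θ : x.asIdeal.ResidueField →+* x'.asIdeal.ResidueField :=
    Ideal.ResidueField.map x.asIdeal x'.asIdeal (algebraMap A A') hI
  have hcomp : (algebraMap A' x'.asIdeal.ResidueField).comp (algebraMap A A') =
      θ.comp (algebraMap A x.asIdeal.ResidueField) := by
    ext r
    exact (Ideal.ResidueField.map_algebraMap x.asIdeal x'.asIdeal (algebraMap A A') hI r).symm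
  unfold CohIII.dRank
  rw [← finrank_homology_bcCx_comp (algebraMap A A') (algebraMap A' x'.asIdeal.ResidueField) P p,
    hcomp]
  exact finrank_homology_bcCx_comp_field (algebraMap A x.asIdeal.ResidueField) θ P p

end Groth.Agent.Lib.Helper7
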