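import Mathlib
import Groth.Prelude.Def_ega3
import Groth.Agent.Lib.Helper7.BcLink
set_option autoImplicit false
universe u
open CategoryTheory CategoryTheory.Limits MonoidalCategory TensorProduct

namespace Groth.Agent.Lib.Helper7

variable {A B : Type u} [CommRing A] [CommRing B] (φ : A →+* B) {ι : Type} {c : ComplexShape ι}
  (P : HomologicalComplex (ModuleCat.{u} A) c) (p : ι)

theorem preservesEpi_bcCx_of_base (h : (CohIII.TFun P p).PreservesEpimorphisms) :
    (CohIII.TFun (CohIII.bcCx φ P) p).PreservesEpimorphisms := by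
  refine ⟨fun {N N'} g hg => ?_⟩
  rw [ModuleCat.epi_iff_surjective] at hg ⊢
  have hgA : Epi ((ModuleCat.restrictScalars φ).map g) :=
    (ModuleCat.epi_iff_surjective _).mpr hg
  have hs : Function.Surjective ((CohIII.TFun P p).map ((ModuleCat.restrictScalars φ).map g)).hom :=
    (ModuleCat.epi_iff_surjective _).mp inferInstance
  intro y
  obtain ⟨x, hx⟩ := hs (linkTEquiv φ P p N' y)
  refine ⟨(linkTEquiv φ P p N).symm x, ?_⟩
  apply (linkTEquiv φ P p N').injective
  rw [linkTEquiv_naturality, AddEquiv.apply_symm_apply, hx]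

theorem preservesMono_bcCx_of_base (h : (CohIII.TFun P p).PreservesMonomorphisms) :
    (CohIII.TFun (CohIII.bcCx φ P) p).PreservesMonomorphisms := by
  refine ⟨fun {N N'} g hg => ?_⟩
  rw [ModuleCat.mono_iff_injective] at hg ⊢
  have hgA : Mono ((ModuleCat.restrictScalars φ).map g) :=
    (ModuleCat.mono_iff_injective _).mpr hg
  have hs : Function.Injective ((CohIII.TFun P p).map ((ModuleCat.restrictScalars φ).map g)).hom :=
    (ModuleCat.mono_iff_injective _).mp inferInstance
  intro y y' hyy
  apply (linkTEquiv φ P p N).injective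
  apply hs
  rw [← linkTEquiv_naturality, ← linkTEquiv_naturality, hyy]

end Groth.Agent.Lib.Helper7
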