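import Mathlib
import Groth.Prelude.Def_ega3
import Groth.Agent.Lib.Helper7.BcExact
import Groth.Agent.Lib.Helper7.OpcyclesFlat
import Groth.Agent.Lib.Helper7.TFunLib
set_option autoImplicit false
universe u
open CategoryTheory CategoryTheory.Limits MonoidalCategory TensorProduct

namespace Groth.Agent.Lib.Helper7

variable {A B : Type u} [CommRing A] [CommRing B] {ι : Type} {c : ComplexShape ι}

/-- opcycles of the base change = base change of opcycles. -/
theorem nonempty_opcycles_bcCx_equiv (φ : A →+* B) [alg : Algebra A B] (halg : alg = φ.toAlgebra)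
    (P : HomologicalComplex (ModuleCat.{u} A) c) (i : ι) :
    Nonempty ((CohIII.bcCx φ P).opcycles i ≃ₗ[B] B ⊗[A] P.opcycles i) := by
  subst halg
  letI := φ.toAlgebra
  have e1 := (exact_d_pOpcycles (CohIII.bcCx φ P) i).linearEquivOfSurjective
    (pOpcycles_surjective (CohIII.bcCx φ P) i)
  have hex : Function.Exact ((P.d (c.prev i) i).hom.baseChange B)
      ((P.pOpcycles i).hom.baseChange B) :=
    lTensor_exact B (exact_d_pOpcycles P i) (pOpcycles_surjective P i)
  have hsurj : Function.Surjective ((P.pOpcycles i).hom.baseChange B) :=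
    LinearMap.lTensor_surjective B (pOpcycles_surjective P i)
  have e2 := hex.linearEquivOfSurjective hsurj
  exact ⟨e1.symm.trans e2⟩

theorem flat_opcycles_bcCx_iff (φ : A →+* B) [alg : Algebra A B] (halg : alg = φ.toAlgebra)
    [Module.FaithfullyFlat A B] (P : HomologicalComplex (ModuleCat.{u} A) c) (i : ι) :
    Module.Flat B ((CohIII.bcCx φ P).opcycles i) ↔ Module.Flat A (P.opcycles i) := by
  obtain ⟨e⟩ := nonempty_opcycles_bcCx_equiv φ halg P i
  rw [Module.Flat.equiv_iff e]
  exact Module.Flat.iff_flat_tensorProduct A (P.opcycles i) B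

lemma flat_bcCx_X (φ : A →+* B) [alg : Algebra A B] (halg : alg = φ.toAlgebra)
    (P : HomologicalComplex (ModuleCat.{u} A) c) (hP : ∀ i, Module.Flat A (P.X i)) (i : ι) :
    Module.Flat B ((CohIII.bcCx φ P).X i) := by
  subst halg
  letI := φ.toAlgebra
  haveI := hP i
  exact inferInstanceAs (Module.Flat B (B ⊗[A] P.X i))

theorem preservesMono_bcCx_iff_of_faithfullyFlat (φ : A →+* B) [alg : Algebra A B]
    (halg : alg = φ.toAlgebra) [Module.FaithfullyFlat A B]
    (P : HomologicalComplex (ModuleCat.{u} A) c) (hP : ∀ i, Module.Flat A (P.X i)) (p : ι) :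
    (CohIII.TFun (CohIII.bcCx φ P) p).PreservesMonomorphisms ↔
      (CohIII.TFun P p).PreservesMonomorphisms := by
  rw [TFun_preservesMono_iff_flat_opcycles (CohIII.bcCx φ P)
    (fun i => flat_bcCx_X φ halg P hP i) p, TFun_preservesMono_iff_flat_opcycles P hP p]
  exact flat_opcycles_bcCx_iff φ halg P p

theorem preservesEpi_bcCx_iff_of_faithfullyFlat (φ : A →+* B) [alg : Algebra A B]
    (halg : alg = φ.toAlgebra) [Module.FaithfullyFlat A B]
    (P : HomologicalComplex (ModuleCat.{u} A) c) (hP : ∀ i, Module.Flat A (P.X i)) (p q : ι)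
    (hpq : c.Rel p q) :
    (CohIII.TFun (CohIII.bcCx φ P) p).PreservesEpimorphisms ↔
      (CohIII.TFun P p).PreservesEpimorphisms := by
  rw [← TFun_preservesMono_iff_preservesEpi (CohIII.bcCx φ P)
    (fun i => flat_bcCx_X φ halg P hP i) p q hpq,
    ← TFun_preservesMono_iff_preservesEpi P hP p q hpq]
  exact preservesMono_bcCx_iff_of_faithfullyFlat φ halg P hP q

end Groth.Agent.Lib.Helper7
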