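import Mathlib
import Groth.Prelude.Def_ega3
import Groth.Agent.Lib.Helper7.TorBalance3
import Groth.Agent.Lib.Helper7.TorBasic
import Groth.Agent.Lib.Helper7.BcLink
import Groth.Agent.Lib.Helper7.BcFlat
import Groth.Agent.Lib.Helper7.BcOpcycles
set_option autoImplicit false
universe u
open CategoryTheory CategoryTheory.Limits MonoidalCategory TensorProduct

namespace Groth.Agent.Lib.Helper7

variable {A B : Type u} [CommRing A] [CommRing B]

/-- base change of a flat resolution, provided the base-changed complex stays exact in positive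
degrees. -/
noncomputable def FlatRes.bc (φ : A →+* B) {F : ChainComplex (ModuleCat.{u} A) ℕ}
    {M : ModuleCat.{u} A} (hF : FlatRes F M)
    (hvan : ∀ i, (CohIII.bcCx φ F).ExactAt (i + 1)) :
    FlatRes (CohIII.bcCx φ F) ((ModuleCat.extendScalars φ).obj M) where
  ε := (ModuleCat.extendScalars φ).map hF.ε
  flat i := by
    letI := φ.toAlgebra
    exact flat_bcCx_X φ rfl F hF.flat i
  exactAt := hvan
  ε_surj := by
    letI := φ.toAlgebra
    show Function.Surjective (hF.ε.hom.baseChange B)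
    exact LinearMap.lTensor_surjective B hF.ε_surj
  ε_exact := by
    letI := φ.toAlgebra
    show Function.Exact ((F.d 1 0).hom.baseChange B) (hF.ε.hom.baseChange B)
    exact lTensor_exact B hF.ε_exact hF.ε_surj

lemma exactAt_bcCx_of_flat (φ : A →+* B) [alg : Algebra A B] (halg : alg = φ.toAlgebra)
    [Module.Flat A B] {ι : Type} {c : ComplexShape ι}
    (P : HomologicalComplex (ModuleCat.{u} A) c) (i : ι) (h : P.ExactAt i) :
    (CohIII.bcCx φ P).ExactAt i := by
  rw [HomologicalComplex.exactAt_iff_isZero_homology] at h ⊢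
  exact IsZero.of_iso ((ModuleCat.extendScalars φ).map_isZero h) (homologyBcCxIso φ halg P i)

/-- base change in the first variable (resolved variable first). -/
theorem exists_Tor_bc_left (φ : A →+* B) {F : ChainComplex (ModuleCat.{u} A) ℕ}
    {M : ModuleCat.{u} A} (hF : FlatRes F M) (hvan : ∀ i, (CohIII.bcCx φ F).ExactAt (i + 1))
    (N' : ModuleCat.{u} B) (n : ℕ) :
    ∃ e : ((Tor (ModuleCat.{u} A) n).obj M).obj ((ModuleCat.restrictScalars φ).obj N') ≃+
        ((Tor (ModuleCat.{u} B) n).obj ((ModuleCat.extendScalars φ).obj M)).obj N',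
      ∀ (a : A) (x : ((Tor (ModuleCat.{u} A) n).obj M).obj ((ModuleCat.restrictScalars φ).obj N')),
        e (a • x) = φ a • e x := by
  obtain ⟨e1⟩ : Nonempty (((Tor (ModuleCat.{u} A) n).obj M).obj
      ((ModuleCat.restrictScalars φ).obj N') ≃ₗ[A]
      (CohIII.TFun F n).obj ((ModuleCat.restrictScalars φ).obj N')) :=
    nonempty_Tor_equiv_T_of_flatRes hF _ n
  obtain ⟨e2⟩ : Nonempty (((Tor (ModuleCat.{u} B) n).obj
      ((ModuleCat.extendScalars φ).obj M)).obj N' ≃ₗ[B]
      (CohIII.TFun (CohIII.bcCx φ F) n).obj N') :=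
    nonempty_Tor_equiv_T_of_flatRes (hF.bc φ hvan) N' n
  obtain ⟨e3, he3⟩ : ∃ e3 : (CohIII.TFun (CohIII.bcCx φ F) n).obj N' ≃+
      (CohIII.TFun F n).obj ((ModuleCat.restrictScalars φ).obj N'),
      ∀ (a : A) h, e3 (φ a • h) = a • e3 h :=
    ⟨linkTEquiv φ F n N', fun a h => linkTEquiv_smul φ F n N' a h⟩
  have key : ∀ (a : A) (y : (CohIII.TFun F n).obj ((ModuleCat.restrictScalars φ).obj N')),
      e3.symm (a • y) = φ a • e3.symm y := by
    intro a y
    apply e3.injective
    rw [AddEquiv.apply_symm_apply, he3, AddEquiv.apply_symm_apply]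
  refine ⟨e1.toAddEquiv.trans (e3.symm.trans e2.symm.toAddEquiv), fun a x => ?_⟩
  show e2.symm (e3.symm (e1 (a • x))) = φ a • e2.symm (e3.symm (e1 x))
  rw [e1.map_smul, key, e2.symm.map_smul]

/-- base change in the second variable. -/
theorem exists_Tor_bc_right (φ : A →+* B) {F : ChainComplex (ModuleCat.{u} A) ℕ}
    {M : ModuleCat.{u} A} (hF : FlatRes F M) (hvan : ∀ i, (CohIII.bcCx φ F).ExactAt (i + 1))
    (N' : ModuleCat.{u} B) (n : ℕ) :
    ∃ e : ((Tor (ModuleCat.{u} A) n).obj ((ModuleCat.restrictScalars φ).obj N')).obj M ≃+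
        ((Tor (ModuleCat.{u} B) n).obj N').obj ((ModuleCat.extendScalars φ).obj M),
      ∀ (a : A) (x : ((Tor (ModuleCat.{u} A) n).obj ((ModuleCat.restrictScalars φ).obj N')).obj M),
        e (a • x) = φ a • e x := by
  obtain ⟨e1⟩ : Nonempty (((Tor (ModuleCat.{u} A) n).obj
      ((ModuleCat.restrictScalars φ).obj N')).obj M ≃ₗ[A]
      (CohIII.TFun F n).obj ((ModuleCat.restrictScalars φ).obj N')) :=
    nonempty_Tor_equiv_T_of_flatRes_right hF _ n
  obtain ⟨e2⟩ : Nonempty (((Tor (ModuleCat.{u} B) n).obj N').obj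
      ((ModuleCat.extendScalars φ).obj M) ≃ₗ[B]
      (CohIII.TFun (CohIII.bcCx φ F) n).obj N') :=
    nonempty_Tor_equiv_T_of_flatRes_right (hF.bc φ hvan) N' n
  obtain ⟨e3, he3⟩ : ∃ e3 : (CohIII.TFun (CohIII.bcCx φ F) n).obj N' ≃+
      (CohIII.TFun F n).obj ((ModuleCat.restrictScalars φ).obj N'),
      ∀ (a : A) h, e3 (φ a • h) = a • e3 h :=
    ⟨linkTEquiv φ F n N', fun a h => linkTEquiv_smul φ F n N' a h⟩
  have key : ∀ (a : A) (y : (CohIII.TFun F n).obj ((ModuleCat.restrictScalars φ).obj N')),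
      e3.symm (a • y) = φ a • e3.symm y := by
    intro a y
    apply e3.injective
    rw [AddEquiv.apply_symm_apply, he3, AddEquiv.apply_symm_apply]
  refine ⟨e1.toAddEquiv.trans (e3.symm.trans e2.symm.toAddEquiv), fun a x => ?_⟩
  show e2.symm (e3.symm (e1 (a • x))) = φ a • e2.symm (e3.symm (e1 x))
  rw [e1.map_smul, key, e2.symm.map_smul]

lemma exists_semilinear_bijective {X Y : Type u} [AddCommGroup X] [Module A X] [AddCommGroup Y]
    [Module B Y] (σ : A →+* B) (e : X ≃+ Y) (h : ∀ (a : A) (x : X), e (a • x) = σ a • e x) :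
    ∃ ψ : X →ₛₗ[σ] Y, Function.Bijective ψ :=
  ⟨{ toFun := e, map_add' := e.map_add, map_smul' := h }, e.bijective⟩

lemma semilinear_comp_equiv {σ : A →+* B} {X Y Z : Type u} [AddCommGroup X] [Module A X]
    [AddCommGroup Y] [Module B Y] [AddCommGroup Z] [Module B Z]
    (h : ∃ ψ : X →ₛₗ[σ] Y, Function.Bijective ψ) (g : Y ≃ₗ[B] Z) :
    ∃ ψ' : X →ₛₗ[σ] Z, Function.Bijective ψ' := by
  obtain ⟨ψ, hψ⟩ := h
  exact ⟨g.toLinearMap.comp ψ, g.bijective.comp hψ⟩

/-- `N` as an `A`-module is the restriction of scalars of `N` as a `B`-module. -/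
noncomputable def ofRestrictScalarsIso (φ : A →+* B) [alg : Algebra A B]
    (halg : alg = φ.toAlgebra) (N : Type u) [AddCommGroup N] [Module A N] [Module B N]
    [IsScalarTower A B N] :
    ModuleCat.of A N ≅ (ModuleCat.restrictScalars φ).obj (ModuleCat.of B N) :=
  let e : N ≃ₗ[A] ((ModuleCat.restrictScalars φ).obj (ModuleCat.of B N)) :=
    { toFun := fun n => n
      invFun := fun n => n
      map_add' := fun _ _ => rfl
      map_smul' := fun a n => by
        subst halg
        letI := φ.toAlgebra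
        show a • n = φ a • n
        exact (algebraMap_smul B a n).symm
      left_inv := fun _ => rfl
      right_inv := fun _ => rfl }
  e.toModuleIso

/-- `B ⊗[A] P` is the extension of scalars of `P`. -/
noncomputable def extendScalarsOfIso (φ : A →+* B) [alg : Algebra A B]
    (halg : alg = φ.toAlgebra) (P : Type u) [AddCommGroup P] [Module A P] :
    (ModuleCat.extendScalars φ).obj (ModuleCat.of A P) ≅ ModuleCat.of B (B ⊗[A] P) := by
  subst halg
  exact Iso.refl _

theorem exists_semilinear_Tor_bc_left (φ : A →+* B) [alg : Algebra A B]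
    (halg : alg = φ.toAlgebra) (P : Type u) [AddCommGroup P] [Module A P]
    (Q' : Type u) [AddCommGroup Q'] [Module B Q'] [Module A Q'] [IsScalarTower A B Q']
    {F : ChainComplex (ModuleCat.{u} A) ℕ} (hF : FlatRes F (ModuleCat.of A P))
    (hvan : ∀ i, (CohIII.bcCx φ F).ExactAt (i + 1)) (n : ℕ) :
    ∃ ψ : ((Tor (ModuleCat.{u} A) n).obj (ModuleCat.of A P)).obj (ModuleCat.of A Q') →ₛₗ[φ]
        ((Tor (ModuleCat.{u} B) n).obj (ModuleCat.of B (B ⊗[A] P))).obj (ModuleCat.of B Q'),
      Function.Bijective ψ := by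
  obtain ⟨e, he⟩ := exists_Tor_bc_left φ hF hvan (ModuleCat.of B Q') n
  let g1 := (((Tor (ModuleCat.{u} A) n).obj (ModuleCat.of A P)).mapIso
    (ofRestrictScalarsIso φ halg Q')).toLinearEquiv
  let g2 := (((Tor (ModuleCat.{u} B) n).mapIso (extendScalarsOfIso φ halg P)).app
    (ModuleCat.of B Q')).toLinearEquiv
  refine exists_semilinear_bijective φ (g1.toAddEquiv.trans (e.trans g2.toAddEquiv))
    (fun a x => ?_)
  show g2 (e (g1 (a • x))) = φ a • g2 (e (g1 x))
  rw [g1.map_smul, he, g2.map_smul]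

theorem exists_semilinear_Tor_bc_right (φ : A →+* B) [alg : Algebra A B]
    (halg : alg = φ.toAlgebra)
    (P' : Type u) [AddCommGroup P'] [Module B P'] [Module A P'] [IsScalarTower A B P']
    (Q : Type u) [AddCommGroup Q] [Module A Q]
    {F : ChainComplex (ModuleCat.{u} A) ℕ} (hF : FlatRes F (ModuleCat.of A Q))
    (hvan : ∀ i, (CohIII.bcCx φ F).ExactAt (i + 1)) (n : ℕ) :
    ∃ ψ : ((Tor (ModuleCat.{u} A) n).obj (ModuleCat.of A P')).obj (ModuleCat.of A Q) →ₛₗ[φ]
        ((Tor (ModuleCat.{u} B) n).obj (ModuleCat.of B P')).obj (ModuleCat.of B (B ⊗[A] Q)),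
      Function.Bijective ψ := by
  obtain ⟨e, he⟩ := exists_Tor_bc_right φ hF hvan (ModuleCat.of B P') n
  let g1 := (((Tor (ModuleCat.{u} A) n).mapIso (ofRestrictScalarsIso φ halg P')).app
    (ModuleCat.of A Q)).toLinearEquiv
  let g2 := (((Tor (ModuleCat.{u} B) n).obj (ModuleCat.of B P')).mapIso
    (extendScalarsOfIso φ halg Q)).toLinearEquiv
  refine exists_semilinear_bijective φ (g1.toAddEquiv.trans (e.trans g2.toAddEquiv))
    (fun a x => ?_)
  show g2 (e (g1 (a • x))) = φ a • g2 (e (g1 x))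
  rw [g1.map_smul, he, g2.map_smul]

/-- vanishing of `Tor_q^A(M, B)` gives exactness of the base-changed resolution. -/
lemma exactAt_bcCx_of_Tor_vanish (φ : A →+* B) [alg : Algebra A B] (halg : alg = φ.toAlgebra)
    {F : ChainComplex (ModuleCat.{u} A) ℕ} {M : ModuleCat.{u} A} (hF : FlatRes F M) (q : ℕ)
    (h : Subsingleton (((Tor (ModuleCat.{u} A) q).obj M).obj (ModuleCat.of A B))) :
    (CohIII.bcCx φ F).ExactAt q := by
  rw [HomologicalComplex.exactAt_iff_isZero_homology]
  obtain ⟨e1⟩ := nonempty_Tor_equiv_T_of_flatRes hF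
    ((ModuleCat.restrictScalars φ).obj (ModuleCat.of B B)) q
  let g := (((Tor (ModuleCat.{u} A) q).obj M).mapIso
    (ofRestrictScalarsIso φ halg B)).toLinearEquiv
  let e3 := linkHEquiv φ F q
  haveI := h
  haveI : Subsingleton ((CohIII.bcCx φ F).homology q) :=
    (e3.toEquiv.trans (e1.symm.toEquiv.trans g.symm.toEquiv)).subsingleton
  exact ModuleCat.isZero_of_subsingleton _

/-- S3537-type statement. -/
theorem exists_semilinear_Tor_of_vanishing (φ : A →+* B) [alg : Algebra A B]
    (halg : alg = φ.toAlgebra) (P : Type u) [AddCommGroup P] [Module A P]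
    (Q' : Type u) [AddCommGroup Q'] [Module B Q'] [Module A Q'] [IsScalarTower A B Q']
    (hP : ∀ q : ℕ, 0 < q →
      Subsingleton (((Tor (ModuleCat.{u} A) q).obj (ModuleCat.of A P)).obj (ModuleCat.of A B)))
    (n : ℕ) :
    ∃ ψ : ((Tor (ModuleCat.{u} A) n).obj (ModuleCat.of A P)).obj (ModuleCat.of A Q') →ₛₗ[φ]
        ((Tor (ModuleCat.{u} B) n).obj (ModuleCat.of B (B ⊗[A] P))).obj (ModuleCat.of B Q'),
      Function.Bijective ψ := by
  let R := ProjectiveResolution.of (ModuleCat.of A P)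
  exact exists_semilinear_Tor_bc_left φ halg P Q' (FlatRes.ofProjectiveResolution R)
    (fun i => exactAt_bcCx_of_Tor_vanish φ halg (FlatRes.ofProjectiveResolution R) (i + 1)
      (hP (i + 1) (Nat.succ_pos i))) n

/-- S4494-type statement. -/
theorem exists_semilinear_Tor_flat (φ : A →+* B) [alg : Algebra A B]
    (halg : alg = φ.toAlgebra) [Module.Flat A B]
    (P' : Type u) [AddCommGroup P'] [Module B P'] [Module A P'] [IsScalarTower A B P']
    (Q : Type u) [AddCommGroup Q] [Module A Q] (n : ℕ) :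
    ∃ ψ : ((Tor (ModuleCat.{u} A) n).obj (ModuleCat.of A P')).obj (ModuleCat.of A Q) →ₛₗ[φ]
        ((Tor (ModuleCat.{u} B) n).obj (ModuleCat.of B P')).obj (ModuleCat.of B (B ⊗[A] Q)),
      Function.Bijective ψ := by
  let R := ProjectiveResolution.of (ModuleCat.of A Q)
  exact exists_semilinear_Tor_bc_right φ halg P' Q (FlatRes.ofProjectiveResolution R)
    (fun i => exactAt_bcCx_of_flat φ halg R.complex (i + 1)
      ((FlatRes.ofProjectiveResolution R).exactAt i)) n

/-- S3534-type statement. -/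
theorem exists_semilinear_Tor_localization [alg : Algebra A B] (S : Submonoid A) [IsLocalization S B]
    (P Q : Type u) [AddCommGroup P] [Module B P] [Module A P] [IsScalarTower A B P]
    [AddCommGroup Q] [Module B Q] [Module A Q] [IsScalarTower A B Q] (n : ℕ) :
    ∃ ψ : ((Tor (ModuleCat.{u} A) n).obj (ModuleCat.of A P)).obj (ModuleCat.of A Q)
        →ₛₗ[algebraMap A B]
        ((Tor (ModuleCat.{u} B) n).obj (ModuleCat.of B P)).obj (ModuleCat.of B Q),
      Function.Bijective ψ := by
  haveI : Module.Flat A B := IsLocalization.flat B S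
  have halg : alg = (algebraMap A B).toAlgebra := Algebra.algebra_ext _ _ (fun r => rfl)
  have h1 := exists_semilinear_Tor_flat (alg := alg) (algebraMap A B) halg P Q n
  haveI : IsLocalizedModule S (LinearMap.id : Q →ₗ[A] Q) := isLocalizedModule_id S Q B
  have hbc : IsBaseChange B (LinearMap.id : Q →ₗ[A] Q) :=
    IsLocalizedModule.isBaseChange S B _
  let g := (((Tor (ModuleCat.{u} B) n).obj (ModuleCat.of B P)).mapIso
    hbc.equiv.toModuleIso).toLinearEquiv
  exact semilinear_comp_equiv h1 g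

end Groth.Agent.Lib.Helper7
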