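import Mathlib
import Groth.Prelude.Def_ega3
import Groth.Agent.Lib.Helper7.TorBalance3
import Groth.Agent.Lib.Helper7.DedekindT
import Groth.Agent.Lib.Helper7.TFunLES
import Groth.Agent.Lib.Helper7.CxTransfer
set_option autoImplicit false
universe u
open CategoryTheory CategoryTheory.Limits MonoidalCategory TensorProduct

namespace Groth.Agent.Lib.Helper7

variable {A : Type u} [CommRing A]

/-- If `0 → X₁ → X₂ → X₃ → 0` is exact with `X₃` flat, then `M ⊗ X₁ → M ⊗ X₂` is injective. -/
theorem lTensor_injective_of_shortExact_of_flat (S : ShortComplex (ModuleCat.{u} A))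
    (hS : S.ShortExact) (hfl : Module.Flat A S.X₃) (M : ModuleCat.{u} A) :
    Function.Injective (LinearMap.lTensor M S.f.hom) := by
  let Q := ProjectiveResolution.of M
  let hQ := FlatRes.ofProjectiveResolution Q
  have hSE := tensorSC_shortExact Q.complex hQ.flat S hS
  have hrel : (ComplexShape.down ℕ).Rel 1 0 := rfl
  have hz : IsZero (CohIII.T Q.complex 1 S.X₃) :=
    TFun_isZero_of_exactAt_of_flat Q.complex 1 (hQ.exactAt 0) S.X₃ hfl
  have e1 := hSE.homology_exact₁ 1 0 hrel
  haveI : Mono ((CohIII.TFun Q.complex 0).map S.f) := e1.mono_g (hz.eq_of_src _ _)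
  have hinj : Function.Injective ((CohIII.TFun Q.complex 0).map S.f).hom :=
    (ModuleCat.mono_iff_injective _).mp inferInstance
  intro u v huv
  obtain ⟨h, rfl⟩ := (T0Equiv hQ S.X₁).surjective u
  obtain ⟨h', rfl⟩ := (T0Equiv hQ S.X₁).surjective v
  rw [← T0Equiv_naturality, ← T0Equiv_naturality] at huv
  rw [hinj ((T0Equiv hQ S.X₂).injective huv)]

lemma comm_rTensor {M X Y : Type u} [AddCommGroup M] [AddCommGroup X] [AddCommGroup Y]
    [Module A M] [Module A X] [Module A Y] (f : X →ₗ[A] Y) (w : X ⊗[A] M) :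
    TensorProduct.comm A Y M (LinearMap.rTensor M f w) =
      LinearMap.lTensor M f (TensorProduct.comm A X M w) := by
  induction w using TensorProduct.induction_on with
  | zero => simp only [map_zero]
  | tmul a b =>
    simp only [LinearMap.lTensor_tmul, TensorProduct.comm_tmul, LinearMap.rTensor_tmul]
  | add x y hx hy => simp only [map_add, hx, hy]

/-- linear-algebra form: `X₃` flat ⟹ `X₁ ⊗ M → X₂ ⊗ M` injective. -/
theorem rTensor_injective_of_exact_of_flat {X₁ X₂ X₃ : Type u} [AddCommGroup X₁] [Module A X₁]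
    [AddCommGroup X₂] [Module A X₂] [AddCommGroup X₃] [Module A X₃]
    (f : X₁ →ₗ[A] X₂) (g : X₂ →ₗ[A] X₃) (hf : Function.Injective f)
    (hfg : Function.Exact f g) (hg : Function.Surjective g) [hfl : Module.Flat A X₃]
    (M : Type u) [AddCommGroup M] [Module A M] :
    Function.Injective (f.rTensor M) := by
  let S : ShortComplex (ModuleCat.{u} A) := ModuleCat.shortComplexOfCompEqZero f g
    (LinearMap.ext (fun x => hfg.apply_apply_eq_zero x))
  have hS : S.ShortExact := ModuleCat.shortComplex_shortExact S hfg hf hg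
  have h : Function.Injective (LinearMap.lTensor M f) :=
    lTensor_injective_of_shortExact_of_flat S hS hfl (ModuleCat.of A M)
  intro u v huv
  apply (TensorProduct.comm A X₁ M).injective
  apply h
  rw [← comm_rTensor, ← comm_rTensor, huv]

/-- `Tor_1(X₃, M) = ker (X₁ ⊗ M → X₂ ⊗ M)` when `X₂` is flat. -/
theorem nonempty_Tor1_equiv_ker (S : ShortComplex (ModuleCat.{u} A)) (hS : S.ShortExact)
    (hfl : Module.Flat A S.X₂) (M : ModuleCat.{u} A) :
    Nonempty (((Tor (ModuleCat.{u} A) 1).obj S.X₃).obj M ≃ₗ[A]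
      LinearMap.ker (S.f.hom.rTensor M)) := by
  let Q := ProjectiveResolution.of M
  let hQ := FlatRes.ofProjectiveResolution Q
  obtain ⟨i1⟩ := nonempty_Tor_iso_T S.X₃ M Q 1
  obtain ⟨e2⟩ := nonempty_T1_equiv_ker Q.complex hQ.flat hQ.exactAt S hS hfl
  have e3 : LinearMap.ker ((CohIII.TFun Q.complex 0).map S.f).hom ≃ₗ[A]
      LinearMap.ker (S.f.hom.rTensor M) :=
    kerEquivOfComm _ _ ((T0Equiv hQ S.X₁).trans (TensorProduct.comm A M S.X₁))
      ((T0Equiv hQ S.X₂).trans (TensorProduct.comm A M S.X₂))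
      (fun h => by
        show TensorProduct.comm A M S.X₂
            (T0Equiv hQ S.X₂ (((CohIII.TFun Q.complex 0).map S.f).hom h)) =
          S.f.hom.rTensor M (TensorProduct.comm A M S.X₁ (T0Equiv hQ S.X₁ h))
        rw [T0Equiv_naturality, comm_lTensor])
  exact ⟨i1.toLinearEquiv.trans (e2.trans e3)⟩

theorem nonempty_Tor1_equiv_ker' {X₁ X₂ X₃ : Type u} [AddCommGroup X₁] [Module A X₁]
    [AddCommGroup X₂] [Module A X₂] [AddCommGroup X₃] [Module A X₃]
    (f : X₁ →ₗ[A] X₂) (g : X₂ →ₗ[A] X₃) (hf : Function.Injective f)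
    (hfg : Function.Exact f g) (hg : Function.Surjective g) [hfl : Module.Flat A X₂]
    (M : Type u) [AddCommGroup M] [Module A M] :
    Nonempty (((Tor (ModuleCat.{u} A) 1).obj (ModuleCat.of A X₃)).obj (ModuleCat.of A M) ≃ₗ[A]
      LinearMap.ker (f.rTensor M)) := by
  let S : ShortComplex (ModuleCat.{u} A) := ModuleCat.shortComplexOfCompEqZero f g
    (LinearMap.ext (fun x => hfg.apply_apply_eq_zero x))
  have hS : S.ShortExact := ModuleCat.shortComplex_shortExact S hfg hf hg
  exact nonempty_Tor1_equiv_ker S hS hfl (ModuleCat.of A M)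

/-- the linear-algebra core of the universal coefficient theorem. -/
theorem uct_core {C Y H : Type u} [AddCommGroup C] [Module A C] [AddCommGroup Y] [Module A Y]
    [AddCommGroup H] [Module A H] (f : C →ₗ[A] Y) (Z : Submodule A Y)
    (hfZ : LinearMap.range f ≤ Z) (π : Z →ₗ[A] H) (hπ : Function.Surjective π)
    (hker : LinearMap.ker π = (LinearMap.range f).comap Z.subtype)
    [Module.Flat A (LinearMap.range f)] [Module.Flat A Z] [Module.Flat A (Y ⧸ Z)]
    (M : Type u) [AddCommGroup M] [Module A M] :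
    ∃ S : ShortComplex (ModuleCat.{u} A), S.ShortExact ∧
      Nonempty (S.X₁ ≅ ModuleCat.of A ((LinearMap.ker f) ⊗[A] M)) ∧
      Nonempty (S.X₂ ≅ ModuleCat.of A (LinearMap.ker (f.rTensor M))) ∧
      Nonempty (S.X₃ ≅ ModuleCat.of A
        (((Tor (ModuleCat.{u} A) 1).obj (ModuleCat.of A H)).obj (ModuleCat.of A M))) := by
  classical
  let K := LinearMap.ker f
  let Bq := LinearMap.range f
  let f' : C →ₗ[A] Bq := f.rangeRestrict
  let ιB : Bq →ₗ[A] Z := Submodule.inclusion hfZ
  let ιZ : Z →ₗ[A] Y := Z.subtype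
  have hcomp : (ιZ ∘ₗ ιB) ∘ₗ f' = f := LinearMap.ext (fun c => rfl)
  have hf'surj : Function.Surjective f' := f.surjective_rangeRestrict
  have hex1 : Function.Exact K.subtype f' := by
    intro c
    constructor
    · intro hc
      exact ⟨⟨c, LinearMap.mem_ker.mpr (congrArg Subtype.val hc)⟩, rfl⟩
    · rintro ⟨k, rfl⟩
      exact Subtype.ext k.2
  have hαinj : Function.Injective (K.subtype.rTensor M) :=
    rTensor_injective_of_exact_of_flat K.subtype f' K.injective_subtype hex1 hf'surj M
  have hιZinj : Function.Injective (ιZ.rTensor M) :=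
    rTensor_injective_of_exact_of_flat ιZ Z.mkQ Z.injective_subtype
      (LinearMap.exact_subtype_mkQ Z) (Submodule.mkQ_surjective Z) M
  have hex1M : Function.Exact (K.subtype.rTensor M) (f'.rTensor M) :=
    rTensor_exact M hex1 hf'surj
  have hf'Msurj : Function.Surjective (f'.rTensor M) := LinearMap.rTensor_surjective M hf'surj
  have hfacM : ∀ c, ιZ.rTensor M (ιB.rTensor M (f'.rTensor M c)) = f.rTensor M c := by
    intro c
    rw [← LinearMap.rTensor_comp_apply, ← LinearMap.rTensor_comp_apply, hcomp]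
  let KM := LinearMap.ker (f.rTensor M)
  let TM := LinearMap.ker (ιB.rTensor M)
  have hfK : f ∘ₗ K.subtype = 0 := LinearMap.ext (fun k => k.2)
  let α : K ⊗[A] M →ₗ[A] KM := LinearMap.codRestrict KM (K.subtype.rTensor M) (fun w => by
    rw [LinearMap.mem_ker, ← LinearMap.rTensor_comp_apply, hfK, LinearMap.rTensor_zero,
      LinearMap.zero_apply])
  let β : KM →ₗ[A] TM := LinearMap.codRestrict TM ((f'.rTensor M) ∘ₗ KM.subtype) (fun c => by
    rw [LinearMap.mem_ker]
    apply hιZinj
    rw [map_zero]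
    exact (hfacM c.1).trans (LinearMap.mem_ker.mp c.2))
  have hαβ : ∀ w, β (α w) = 0 := fun w => Subtype.ext (hex1M.apply_apply_eq_zero w)
  have hβα : β ∘ₗ α = 0 := LinearMap.ext (fun w => hαβ w)
  let α' : ModuleCat.of A (K ⊗[A] M) ⟶ ModuleCat.of A KM := ModuleCat.ofHom α
  let β' : ModuleCat.of A KM ⟶ ModuleCat.of A TM := ModuleCat.ofHom β
  let S : ShortComplex (ModuleCat.{u} A) := ShortComplex.mk α' β' (ModuleCat.hom_ext hβα)
  have hS : S.ShortExact := by
    refine ModuleCat.shortComplex_shortExact S ?_ ?_ ?_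
    · show Function.Exact α β
      intro c
      constructor
      · intro hc
        have hc' : f'.rTensor M c.1 = 0 := congrArg Subtype.val hc
        obtain ⟨w, hw⟩ := (hex1M c.1).mp hc'
        exact ⟨w, Subtype.ext hw⟩
      · rintro ⟨w, rfl⟩
        exact hαβ w
    · show Function.Injective α
      intro w w' hww'
      exact hαinj (congrArg Subtype.val hww')
    · show Function.Surjective β
      intro b
      obtain ⟨c, hc⟩ := hf'Msurj b.1
      have hcK : c ∈ KM := by
        rw [LinearMap.mem_ker, ← hfacM, hc, LinearMap.mem_ker.mp b.2, map_zero]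
      exact ⟨⟨c, hcK⟩, Subtype.ext hc⟩
  have hex2 : Function.Exact ιB π := by
    intro z
    rw [← LinearMap.mem_ker, hker, Submodule.mem_comap]
    constructor
    · intro hz
      exact ⟨⟨z.1, hz⟩, Subtype.ext rfl⟩
    · rintro ⟨b, rfl⟩
      exact b.2
  obtain ⟨e3⟩ := nonempty_Tor1_equiv_ker' ιB π (Submodule.inclusion_injective hfZ) hex2 hπ M
  exact ⟨S, hS, ⟨Iso.refl _⟩, ⟨Iso.refl _⟩, ⟨e3.symm.toModuleIso⟩⟩

section complex
variable {ι : Type} {c : ComplexShape ι}

lemma cls_eq_zero_iff'' (K : HomologicalComplex (ModuleCat.{u} A) c) (i j : ι)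
    (hj : c.prev i = j) (x : K.X i) (hx : (K.d i (c.next i)).hom x = 0) :
    cls K i x hx = 0 ↔ ∃ y, (K.d j i).hom y = x := by
  subst hj
  exact cls_eq_zero_iff K i x hx

end complex

/-- **Universal coefficient theorem** over a Dedekind domain. -/
theorem uct_dedekind [IsDedekindDomain A] (P : ChainComplex (ModuleCat.{u} A) ℤ)
    (hP : ∀ i, Module.Flat A (P.X i)) (M : Type u) [AddCommGroup M] [Module A M] (p q : ℤ)
    (hpq : q + 1 = p) :
    ∃ S : ShortComplex (ModuleCat.{u} A), S.ShortExact ∧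
      Nonempty (S.X₁ ≅ ModuleCat.of A (TensorProduct A (P.homology p) M)) ∧
      Nonempty (S.X₂ ≅ CohIII.T P p (ModuleCat.of A M)) ∧
      Nonempty (S.X₃ ≅ ModuleCat.of A
        (((Tor (ModuleCat.{u} A) 1).obj (ModuleCat.of A (P.homology q))).obj
          (ModuleCat.of A M))) := by
  have hrel : (ComplexShape.down ℤ).Rel p q := hpq
  have hnext : (ComplexShape.down ℤ).next p = q := (ComplexShape.down ℤ).next_eq' hrel
  have hprev : (ComplexShape.down ℤ).prev q = p := (ComplexShape.down ℤ).prev_eq' hrel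
  let q' := (ComplexShape.down ℤ).next q
  let f : P.opcycles p →ₗ[A] P.X q := (P.fromOpcycles p q).hom
  let Z : Submodule A (P.X q) := LinearMap.ker (P.d q q').hom
  have hrange : LinearMap.range f = LinearMap.range (P.d p q).hom := by
    ext y
    constructor
    · rintro ⟨w, rfl⟩
      obtain ⟨x, rfl⟩ := pOpcycles_surjective P p w
      exact ⟨x, (hom_p_fromOpcycles P p q x).symm⟩
    · rintro ⟨x, rfl⟩
      exact ⟨(P.pOpcycles p).hom x, hom_p_fromOpcycles P p q x⟩
  have hfZ : LinearMap.range f ≤ Z := by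
    rintro y ⟨w, rfl⟩
    exact LinearMap.mem_ker.mpr (congrArg (fun g => g.hom w) (P.fromOpcycles_d p q q'))
  let π : Z →ₗ[A] P.homology q :=
    { toFun := fun z => cls P q z.1 (LinearMap.mem_ker.mp z.2)
      map_add' := fun z z' => cls_add P q z.1 z'.1 _ _
      map_smul' := fun r z => cls_smul P q r z.1 _ }
  have hπ : Function.Surjective π := by
    intro h
    obtain ⟨x, hx, rfl⟩ := cls_surjective P q h
    exact ⟨⟨x, LinearMap.mem_ker.mpr hx⟩, rfl⟩
  have hker : LinearMap.ker π = (LinearMap.range f).comap Z.subtype := by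
    ext z
    rw [LinearMap.mem_ker, Submodule.mem_comap, hrange]
    exact cls_eq_zero_iff'' P q p hprev z.1 (LinearMap.mem_ker.mp z.2)
  haveI hYtf : Module.IsTorsionFree A (P.X q) := (flat_iff_isTorsionFree _).mp (hP q)
  haveI hY'tf : Module.IsTorsionFree A (P.X q') := (flat_iff_isTorsionFree _).mp (hP q')
  haveI : Module.Flat A (LinearMap.range f) := by
    rw [flat_iff_isTorsionFree]
    exact Function.Injective.moduleIsTorsionFree (LinearMap.range f).subtype
      (LinearMap.range f).injective_subtype (fun r m => map_smul _ r m)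
  haveI : Module.Flat A Z := by
    rw [flat_iff_isTorsionFree]
    exact Function.Injective.moduleIsTorsionFree Z.subtype
      Z.injective_subtype (fun r m => map_smul _ r m)
  haveI : Module.Flat A (P.X q ⧸ Z) := by
    haveI : Module.Flat A (LinearMap.range (P.d q q').hom) := by
      rw [flat_iff_isTorsionFree]
      exact Function.Injective.moduleIsTorsionFree (LinearMap.range (P.d q q').hom).subtype
        (LinearMap.range (P.d q q').hom).injective_subtype (fun r m => map_smul _ r m)
    exact Module.Flat.of_linearEquiv (P.d q q').hom.quotKerEquivRange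
  obtain ⟨S, hS, ⟨i1⟩, ⟨i2⟩, ⟨i3⟩⟩ := uct_core f Z hfZ π hπ hker M
  obtain ⟨eH⟩ := nonempty_homology_equiv_ker P p q hnext
  obtain ⟨eT⟩ := nonempty_T_equiv_ker_fromOpcycles P (ModuleCat.of A M) p q hnext
  refine ⟨S, hS, ⟨i1 ≪≫ (TensorProduct.congr eH (LinearEquiv.refl A M)).symm.toModuleIso⟩,
    ⟨i2 ≪≫ eT.symm.toModuleIso⟩, ⟨i3⟩⟩

end Groth.Agent.Lib.Helper7
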