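import Mathlib
import Groth.Prelude.Def_ega3
import Groth.Agent.Lib.Helper7.TorBalance3
import Groth.Agent.Lib.Helper7.TorBasic
import Groth.Agent.Lib.Helper7.TorUCT
import Groth.Agent.Lib.Helper7.TFunLES
set_option autoImplicit false
universe u
open CategoryTheory CategoryTheory.Limits MonoidalCategory TensorProduct

namespace Groth.Agent.Lib.Helper7

variable {A : Type u} [CommRing A]

lemma isZero_of_linearEquiv {X Y : ModuleCat.{u} A} (e : X ≃ₗ[A] Y) (h : IsZero Y) : IsZero X :=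
  IsZero.of_iso h e.toModuleIso

/-- dimension shifting in the first variable. -/
theorem nonempty_Tor_shift (S : ShortComplex (ModuleCat.{u} A)) (hS : S.ShortExact)
    (hfl : Module.Flat A S.X₂) (M : ModuleCat.{u} A) (k : ℕ) :
    Nonempty (((Tor (ModuleCat.{u} A) (k + 2)).obj S.X₃).obj M ≃ₗ[A]
      ((Tor (ModuleCat.{u} A) (k + 1)).obj S.X₁).obj M) := by
  let Q := ProjectiveResolution.of M
  let hQ := FlatRes.ofProjectiveResolution Q
  obtain ⟨i1⟩ := nonempty_Tor_iso_T S.X₃ M Q (k + 2)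
  obtain ⟨i2⟩ := nonempty_Tor_iso_T S.X₁ M Q (k + 1)
  obtain ⟨i3⟩ := nonempty_shift_iso Q.complex hQ.flat hQ.exactAt S hS hfl k
  exact ⟨(i1 ≪≫ i3 ≪≫ i2.symm).toLinearEquiv⟩

/-- half-exactness of `Tor_n(-, M)`. -/
theorem Tor_isZero_of_shortExact_left (S : ShortComplex (ModuleCat.{u} A)) (hS : S.ShortExact)
    (M : ModuleCat.{u} A) (n : ℕ)
    (h₁ : IsZero (((Tor (ModuleCat.{u} A) n).obj S.X₁).obj M))
    (h₃ : IsZero (((Tor (ModuleCat.{u} A) n).obj S.X₃).obj M)) :
    IsZero (((Tor (ModuleCat.{u} A) n).obj S.X₂).obj M) := by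
  let Q := ProjectiveResolution.of M
  let hQ := FlatRes.ofProjectiveResolution Q
  obtain ⟨i1⟩ := nonempty_Tor_iso_T S.X₁ M Q n
  obtain ⟨i2⟩ := nonempty_Tor_iso_T S.X₂ M Q n
  obtain ⟨i3⟩ := nonempty_Tor_iso_T S.X₃ M Q n
  have hSE := tensorSC_shortExact Q.complex hQ.flat S hS
  have e2 := hSE.homology_exact₂ n
  have z1 : IsZero (CohIII.T Q.complex n S.X₁) := IsZero.of_iso h₁ i1.symm
  have z3 : IsZero (CohIII.T Q.complex n S.X₃) := IsZero.of_iso h₃ i3.symm
  have z2 : IsZero (CohIII.T Q.complex n S.X₂) :=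
    e2.isZero_X₂ (z1.eq_of_src _ _) (z3.eq_of_tgt _ _)
  exact IsZero.of_iso z2 i2

/-- half-exactness of `Tor_n(M, -)`. -/
theorem Tor_isZero_of_shortExact_right (S : ShortComplex (ModuleCat.{u} A)) (hS : S.ShortExact)
    (M : ModuleCat.{u} A) (n : ℕ)
    (h₁ : IsZero (((Tor (ModuleCat.{u} A) n).obj M).obj S.X₁))
    (h₃ : IsZero (((Tor (ModuleCat.{u} A) n).obj M).obj S.X₃)) :
    IsZero (((Tor (ModuleCat.{u} A) n).obj M).obj S.X₂) := by
  obtain ⟨e1⟩ := nonempty_Tor_equiv_flip M S.X₁ n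
  obtain ⟨e2⟩ := nonempty_Tor_equiv_flip M S.X₂ n
  obtain ⟨e3⟩ := nonempty_Tor_equiv_flip M S.X₃ n
  exact isZero_of_linearEquiv e2 (Tor_isZero_of_shortExact_left S hS M n
    (isZero_of_linearEquiv e1.symm h₁) (isZero_of_linearEquiv e3.symm h₃))

section linear
variable {X₁ X₂ X₃ : Type u} [AddCommGroup X₁] [Module A X₁]
    [AddCommGroup X₂] [Module A X₂] [AddCommGroup X₃] [Module A X₃]
    (f : X₁ →ₗ[A] X₂) (g : X₂ →ₗ[A] X₃) (hf : Function.Injective f)
    (hfg : Function.Exact f g) (hg : Function.Surjective g)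
include hf hfg hg

theorem Tor_isZero_of_exact_left (M : ModuleCat.{u} A) (n : ℕ)
    (h₁ : IsZero (((Tor (ModuleCat.{u} A) n).obj (ModuleCat.of A X₁)).obj M))
    (h₃ : IsZero (((Tor (ModuleCat.{u} A) n).obj (ModuleCat.of A X₃)).obj M)) :
    IsZero (((Tor (ModuleCat.{u} A) n).obj (ModuleCat.of A X₂)).obj M) := by
  let S : ShortComplex (ModuleCat.{u} A) := ModuleCat.shortComplexOfCompEqZero f g
    (LinearMap.ext (fun x => hfg.apply_apply_eq_zero x))
  have hS : S.ShortExact := ModuleCat.shortComplex_shortExact S hfg hf hg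
  exact Tor_isZero_of_shortExact_left S hS M n h₁ h₃

theorem Tor_isZero_of_exact_right (M : ModuleCat.{u} A) (n : ℕ)
    (h₁ : IsZero (((Tor (ModuleCat.{u} A) n).obj M).obj (ModuleCat.of A X₁)))
    (h₃ : IsZero (((Tor (ModuleCat.{u} A) n).obj M).obj (ModuleCat.of A X₃))) :
    IsZero (((Tor (ModuleCat.{u} A) n).obj M).obj (ModuleCat.of A X₂)) := by
  let S : ShortComplex (ModuleCat.{u} A) := ModuleCat.shortComplexOfCompEqZero f g
    (LinearMap.ext (fun x => hfg.apply_apply_eq_zero x))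
  have hS : S.ShortExact := ModuleCat.shortComplex_shortExact S hfg hf hg
  exact Tor_isZero_of_shortExact_right S hS M n h₁ h₃

theorem nonempty_Tor_shift' [hfl : Module.Flat A X₂] (M : ModuleCat.{u} A) (k : ℕ) :
    Nonempty (((Tor (ModuleCat.{u} A) (k + 2)).obj (ModuleCat.of A X₃)).obj M ≃ₗ[A]
      ((Tor (ModuleCat.{u} A) (k + 1)).obj (ModuleCat.of A X₁)).obj M) := by
  let S : ShortComplex (ModuleCat.{u} A) := ModuleCat.shortComplexOfCompEqZero f g
    (LinearMap.ext (fun x => hfg.apply_apply_eq_zero x))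
  have hS : S.ShortExact := ModuleCat.shortComplex_shortExact S hfg hf hg
  exact nonempty_Tor_shift S hS hfl M k

end linear

lemma Tor_isZero_of_linearEquiv_left {X Y : Type u} [AddCommGroup X] [Module A X]
    [AddCommGroup Y] [Module A Y] (e : X ≃ₗ[A] Y) (M : ModuleCat.{u} A) (n : ℕ)
    (h : IsZero (((Tor (ModuleCat.{u} A) n).obj (ModuleCat.of A Y)).obj M)) :
    IsZero (((Tor (ModuleCat.{u} A) n).obj (ModuleCat.of A X)).obj M) :=
  IsZero.of_iso h (((Tor (ModuleCat.{u} A) n).mapIso e.toModuleIso).app M)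

lemma Tor_isZero_of_linearEquiv_right {X Y : Type u} [AddCommGroup X] [Module A X]
    [AddCommGroup Y] [Module A Y] (e : X ≃ₗ[A] Y) (M : ModuleCat.{u} A) (n : ℕ)
    (h : IsZero (((Tor (ModuleCat.{u} A) n).obj M).obj (ModuleCat.of A Y))) :
    IsZero (((Tor (ModuleCat.{u} A) n).obj M).obj (ModuleCat.of A X)) :=
  IsZero.of_iso h (((Tor (ModuleCat.{u} A) n).obj M).mapIso e.toModuleIso)

/-- S14434. -/
theorem Tor_subsingleton_quot_regular (M : Type u) [AddCommGroup M] [Module A M] (x : A)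
    (hxR : IsSMulRegular A x) (hxM : IsSMulRegular M x) (i : ℕ) (hi : 1 ≤ i) :
    Subsingleton (((Tor (ModuleCat.{u} A) i).obj (ModuleCat.of A M)).obj
      (ModuleCat.of A (A ⧸ Ideal.span {x}))) := by
  obtain ⟨eflip⟩ := nonempty_Tor_equiv_flip (ModuleCat.of A M)
    (ModuleCat.of A (A ⧸ Ideal.span {x})) i
  suffices h : Subsingleton (((Tor (ModuleCat.{u} A) i).obj
      (ModuleCat.of A (A ⧸ Ideal.span {x}))).obj (ModuleCat.of A M)) from
    eflip.toEquiv.subsingleton
  let f : A →ₗ[A] A := LinearMap.lsmul A A x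
  let g : A →ₗ[A] A ⧸ Ideal.span {x} := (Ideal.Quotient.mkₐ A (Ideal.span {x})).toLinearMap
  have hf : Function.Injective f := hxR
  have hg : Function.Surjective g := Ideal.Quotient.mkₐ_surjective A _
  have hfg : Function.Exact f g := by
    intro y
    show Ideal.Quotient.mk (Ideal.span {x}) y = 0 ↔ y ∈ Set.range f
    rw [Ideal.Quotient.eq_zero_iff_mem, Ideal.mem_span_singleton']
    constructor
    · rintro ⟨a, rfl⟩
      exact ⟨a, mul_comm x a⟩
    · rintro ⟨a, rfl⟩
      exact ⟨a, mul_comm a x⟩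
  obtain ⟨k, rfl⟩ : ∃ k, i = k + 1 := Nat.exists_eq_succ_of_ne_zero (by omega)
  cases k with
  | zero =>
    obtain ⟨e⟩ := nonempty_Tor1_equiv_ker' f g hf hfg hg M
    have hinj : Function.Injective (f.rTensor M) := by
      intro w w' hww'
      have h1 : ∀ v : A ⊗[A] M, f.rTensor M v = x • v := by
        intro v
        induction v using TensorProduct.induction_on with
        | zero => simp only [map_zero, smul_zero]
        | tmul a m =>
          rw [LinearMap.rTensor_tmul, TensorProduct.smul_tmul']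
          rfl
        | add v v' hv hv' => rw [map_add, hv, hv', smul_add]
      rw [h1, h1] at hww'
      apply (TensorProduct.lid A M).injective
      apply hxM
      show x • TensorProduct.lid A M w = x • TensorProduct.lid A M w'
      rw [← map_smul, ← map_smul, hww']
    haveI : Subsingleton (LinearMap.ker (f.rTensor M)) := by
      rw [LinearMap.ker_eq_bot.mpr hinj]
      infer_instance
    exact e.toEquiv.subsingleton
  | succ k =>
    obtain ⟨e⟩ := nonempty_Tor_shift' f g hf hfg hg (ModuleCat.of A M) k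
    haveI : Subsingleton (((Tor (ModuleCat.{u} A) (k + 1)).obj (ModuleCat.of A A)).obj
        (ModuleCat.of A M)) :=
      Tor_subsingleton_of_flat_left (ModuleCat.of A A) (ModuleCat.of A M)
        (inferInstanceAs (Module.Flat A A)) (k + 1) (Nat.succ_pos k)
    exact e.toEquiv.subsingleton

theorem quot_ker_equiv_ker {T U V W : Type u} [AddCommGroup T] [Module A T] [AddCommGroup U]
    [Module A U] [AddCommGroup V] [Module A V] [AddCommGroup W] [Module A W]
    (α : T →ₗ[A] U) (δ : U →ₗ[A] V) (β : V →ₗ[A] W) (D : U →ₗ[A] W)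
    (hfac : ∀ c, β (δ c) = D c) (hδ : Function.Surjective δ) (hex : Function.Exact α δ) :
    Nonempty ((↥(LinearMap.ker D) ⧸ Submodule.comap (LinearMap.ker D).subtype (LinearMap.range α))
      ≃ₗ[A] LinearMap.ker β) := by
  have hγmem : ∀ c : LinearMap.ker D, (δ ∘ₗ (LinearMap.ker D).subtype) c ∈ LinearMap.ker β :=
    fun c => by
      rw [LinearMap.mem_ker]
      exact (hfac c.1).trans (LinearMap.mem_ker.mp c.2)
  obtain ⟨γ, hγ⟩ : ∃ γ : LinearMap.ker D →ₗ[A] LinearMap.ker β, ∀ c, (γ c).1 = δ c.1 :=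
    ⟨LinearMap.codRestrict _ (δ ∘ₗ (LinearMap.ker D).subtype) hγmem, fun c => rfl⟩
  have hγsurj : Function.Surjective γ := by
    intro b
    obtain ⟨c, hc⟩ := hδ b.1
    have hcK : c ∈ LinearMap.ker D := by
      rw [LinearMap.mem_ker, ← hfac, hc]
      exact LinearMap.mem_ker.mp b.2
    exact ⟨⟨c, hcK⟩, Subtype.ext ((hγ _).trans hc)⟩
  have hγker : Submodule.comap (LinearMap.ker D).subtype (LinearMap.range α) = LinearMap.ker γ := by
    ext c
    rw [LinearMap.mem_ker, Submodule.mem_comap]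
    constructor
    · intro hc
      exact Subtype.ext ((hγ c).trans ((hex c.1).mpr hc))
    · intro hc
      have hc' : δ c.1 = 0 := (hγ c).symm.trans (congrArg Subtype.val hc)
      exact (hex c.1).mp hc'
  exact ⟨(Submodule.quotEquivOfEq _ _ hγker).trans (γ.quotKerEquivOfSurjective hγsurj)⟩

/-- S4499. -/
theorem tor_two_term {P₁ P₀ k : Type u} [AddCommGroup P₁] [Module A P₁] [AddCommGroup P₀]
    [Module A P₀] [AddCommGroup k] [Module A k]
    [Module.Flat A P₁] [Module.Flat A P₀] (d : P₁ →ₗ[A] P₀) :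
    Nonempty (LinearMap.ker ((LinearMap.ker d).subtype.rTensor k) ≃ₗ[A]
        ((Tor (ModuleCat.{u} A) 2).obj (ModuleCat.of A (P₀ ⧸ LinearMap.range d))).obj
          (ModuleCat.of A k)) ∧
      LinearMap.range ((LinearMap.ker d).subtype.rTensor k) ≤ LinearMap.ker (d.rTensor k) ∧
      Nonempty ((↥(LinearMap.ker (d.rTensor k)) ⧸
          Submodule.comap (LinearMap.ker (d.rTensor k)).subtype
            (LinearMap.range ((LinearMap.ker d).subtype.rTensor k))) ≃ₗ[A]
        ((Tor (ModuleCat.{u} A) 1).obj (ModuleCat.of A (P₀ ⧸ LinearMap.range d))).obj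
          (ModuleCat.of A k)) := by
  let K := LinearMap.ker d
  let B := LinearMap.range d
  let d' : P₁ →ₗ[A] B := d.rangeRestrict
  have hd'surj : Function.Surjective d' := d.surjective_rangeRestrict
  have hex1 : Function.Exact K.subtype d' := by
    intro c
    constructor
    · intro hc
      exact ⟨⟨c, LinearMap.mem_ker.mpr (congrArg Subtype.val hc)⟩, rfl⟩
    · rintro ⟨k', rfl⟩
      exact Subtype.ext k'.2
  have hex2 : Function.Exact B.subtype B.mkQ := LinearMap.exact_subtype_mkQ B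
  obtain ⟨e1⟩ := nonempty_Tor1_equiv_ker' K.subtype d' K.injective_subtype hex1 hd'surj k
  obtain ⟨e2⟩ := nonempty_Tor1_equiv_ker' B.subtype B.mkQ B.injective_subtype hex2
    (Submodule.mkQ_surjective B) k
  obtain ⟨e3⟩ := nonempty_Tor_shift' B.subtype B.mkQ B.injective_subtype hex2
    (Submodule.mkQ_surjective B) (ModuleCat.of A k) 0
  have hcomp : B.subtype ∘ₗ d' = d := LinearMap.ext (fun c => rfl)
  have hdK : d ∘ₗ K.subtype = 0 := LinearMap.ext (fun c => c.2)
  have hfac : ∀ c, B.subtype.rTensor k (d'.rTensor k c) = d.rTensor k c := by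
    intro c
    rw [← LinearMap.rTensor_comp_apply, hcomp]
  have hex1k : Function.Exact (K.subtype.rTensor k) (d'.rTensor k) :=
    rTensor_exact k hex1 hd'surj
  have hd'ksurj : Function.Surjective (d'.rTensor k) := LinearMap.rTensor_surjective k hd'surj
  refine ⟨⟨e1.symm.trans e3.symm⟩, ?_, ?_⟩
  · rintro _ ⟨w, rfl⟩
    rw [LinearMap.mem_ker, ← LinearMap.rTensor_comp_apply, hdK, LinearMap.rTensor_zero,
      LinearMap.zero_apply]
  · obtain ⟨q⟩ := quot_ker_equiv_ker (K.subtype.rTensor k) (d'.rTensor k) (B.subtype.rTensor k)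
      (d.rTensor k) hfac hd'ksurj hex1k
    exact ⟨q.trans e2.symm⟩

end Groth.Agent.Lib.Helper7
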