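import Mathlib
import Groth.Prelude.Def_ega3
import Groth.Agent.Lib.Helper7.TorLES
import Groth.Agent.Lib.Helper7.TorBC
set_option autoImplicit false
universe u
open CategoryTheory CategoryTheory.Limits MonoidalCategory TensorProduct

namespace Groth.Agent.Lib.Helper7

variable {A : Type u} [CommRing A]

section quasiIso
open Category Limits ChainComplex HomologicalComplex

variable {M : ModuleCat.{u} A} (F : ChainComplex (ModuleCat.{u} A) ℕ)
  (φ : F ⟶ (ChainComplex.single₀ (ModuleCat.{u} A)).obj M) [QuasiIso φ]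

lemma qi_d_comp_f_zero : F.d 1 0 ≫ φ.f 0 = 0 := by
  rw [← φ.comm 1 0, single_obj_d, comp_zero]

/-- cokernel cofork, as for projective resolutions. -/
noncomputable def qiCokernelCofork : CokernelCofork (F.d 1 0) :=
  CokernelCofork.ofπ _ (qi_d_comp_f_zero F φ)

set_option backward.isDefEq.respectTransparency.types false in
set_option backward.defeqAttrib.useBackward true in
noncomputable def qiIsColimitCokernelCofork : IsColimit (qiCokernelCofork F φ) := by
  refine IsColimit.ofIsoColimit (F.opcyclesIsCokernel 1 0 (by simp)) ?_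
  refine Cofork.ext (F.isoHomologyι₀.symm ≪≫ isoOfQuasiIsoAt φ 0 ≪≫
    singleObjHomologySelfIso _ _ _) ?_
  rw [← cancel_mono (singleObjHomologySelfIso (ComplexShape.down ℕ) 0 _).inv,
    ← cancel_mono (isoHomologyι₀ _).hom]
  dsimp [qiCokernelCofork]
  simp only [isoHomologyι₀_inv_naturality_assoc, p_opcyclesMap_assoc, single₀_obj_zero, assoc,
    Iso.hom_inv_id, comp_id, isoHomologyι_inv_hom_id, singleObjHomologySelfIso_inv_homologyι,
    singleObjOpcyclesSelfIso_hom, single₀ObjXSelf, Iso.refl_inv, id_comp]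

lemma qi_exact₀ : (ShortComplex.mk _ _ (qi_d_comp_f_zero F φ)).Exact :=
  ShortComplex.exact_of_g_is_cokernel _ (qiIsColimitCokernelCofork F φ)

lemma qi_epi : Epi (φ.f 0) := epi_of_isColimit_cofork (qiIsColimitCokernelCofork F φ)

/-- a quasi-isomorphism from a complex of flat modules to `M[0]` is a flat resolution. -/
noncomputable def FlatRes.ofQuasiIso (hF : ∀ i, Module.Flat A (F.X i)) : FlatRes F M where
  ε := φ.f 0 ≫ (HomologicalComplex.singleObjXSelf (ComplexShape.down ℕ) 0 M).hom
  flat := hF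
  exactAt i := by
    rw [← quasiIsoAt_iff_exactAt' φ (i + 1) (exactAt_succ_single_obj _ _)]
    infer_instance
  ε_surj := by
    haveI := qi_epi F φ
    exact (ModuleCat.epi_iff_surjective _).mp inferInstance
  ε_exact := by
    have h := (ShortComplex.ShortExact.moduleCat_exact_iff_function_exact _).mp (qi_exact₀ F φ)
    intro x
    rw [← h x]
    show (HomologicalComplex.singleObjXSelf (ComplexShape.down ℕ) 0 M).hom.hom
      ((φ.f 0).hom x) = 0 ↔ (φ.f 0).hom x = 0
    constructor
    · intro hx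
      have hinj : Function.Injective
          (HomologicalComplex.singleObjXSelf (ComplexShape.down ℕ) 0 M).hom.hom :=
        (ModuleCat.mono_iff_injective _).mp inferInstance
      exact hinj (hx.trans (map_zero _).symm)
    · intro hx
      rw [hx, map_zero]

end quasiIso

/-- S17773. -/
theorem nonempty_homology_iso_Tor' (M N : Type u) [AddCommGroup M] [Module A M] [AddCommGroup N]
    [Module A N] (F : ChainComplex (ModuleCat.{u} A) ℕ) (hF : ∀ i : ℕ, Module.Flat A (F.X i))
    (φ : F ⟶ (ChainComplex.single₀ (ModuleCat.{u} A)).obj (ModuleCat.of A M)) [QuasiIso φ]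
    (i : ℕ) :
    Nonempty ((((MonoidalCategory.tensorRight (ModuleCat.of A N)).mapHomologicalComplex
      (ComplexShape.down ℕ)).obj F).homology i ≅
      ((Tor' (ModuleCat.{u} A) i).obj (ModuleCat.of A M)).obj (ModuleCat.of A N)) := by
  let hFR := FlatRes.ofQuasiIso F φ hF
  let P := ProjectiveResolution.of (ModuleCat.of A M)
  let Q := ProjectiveResolution.of (ModuleCat.of A N)
  obtain ⟨e1⟩ := balance hFR (FlatRes.ofProjectiveResolution Q) i
  obtain ⟨e2⟩ := balance (FlatRes.ofProjectiveResolution P) (FlatRes.ofProjectiveResolution Q) i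
  have e3 : ((Tor' (ModuleCat.{u} A) i).obj (ModuleCat.of A M)).obj (ModuleCat.of A N) ≅
      CohIII.T P.complex i (ModuleCat.of A N) :=
    P.isoLeftDerivedObj (MonoidalCategory.tensorRight (ModuleCat.of A N)) i
  exact ⟨(e1.trans e2.symm).toModuleIso ≪≫ e3.symm⟩

section S6378
variable [IsLocalRing A]

theorem Tor1_isZero_of_isFiniteLength (M : Type u) [AddCommGroup M] [Module A M]
    (h : IsZero (((Tor (ModuleCat.{u} A) 1).obj
      (ModuleCat.of A (IsLocalRing.ResidueField A))).obj (ModuleCat.of A M)))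
    (N : Type u) [AddCommGroup N] [Module A N] (hN : IsFiniteLength A N) :
    IsZero (((Tor (ModuleCat.{u} A) 1).obj (ModuleCat.of A N)).obj (ModuleCat.of A M)) := by
  induction hN with
  | @of_subsingleton N _ _ _ =>
    haveI : Subsingleton (((Tor (ModuleCat.{u} A) 1).obj (ModuleCat.of A N)).obj
        (ModuleCat.of A M)) :=
      Tor_subsingleton_of_flat_left (ModuleCat.of A N) (ModuleCat.of A M)
        (inferInstanceAs (Module.Flat A N)) 1 Nat.one_pos
    exact ModuleCat.isZero_of_subsingleton _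
  | @of_simple_quotient N _ _ N' _ _ ih =>
    have hs : IsSimpleModule A (N ⧸ N') := inferInstance
    obtain ⟨m, hm, ⟨e⟩⟩ := isSimpleModule_iff_quot_maximal.mp hs
    rw [IsLocalRing.eq_maximalIdeal hm] at e
    have e' : (N ⧸ N') ≃ₗ[A] IsLocalRing.ResidueField A := e
    have h3 : IsZero (((Tor (ModuleCat.{u} A) 1).obj (ModuleCat.of A (N ⧸ N'))).obj
        (ModuleCat.of A M)) :=
      Tor_isZero_of_linearEquiv_left e' (ModuleCat.of A M) 1 h
    exact Tor_isZero_of_exact_left N'.subtype N'.mkQ N'.injective_subtype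
      (LinearMap.exact_subtype_mkQ N') (Submodule.mkQ_surjective N') (ModuleCat.of A M) 1 ih h3

end S6378

/-- S11450. -/
theorem flat_iff_Tor1_quot_prime [IsNoetherianRing A] (M : Type u) [AddCommGroup M]
    [Module A M] :
    Module.Flat A M ↔ ∀ p : Ideal A, p.IsPrime →
      IsZero (((Tor (ModuleCat.{u} A) 1).obj (ModuleCat.of A M)).obj
        (ModuleCat.of A (A ⧸ p))) := by
  constructor
  · intro hM p _
    haveI := Tor_subsingleton_of_flat_left (ModuleCat.of A M) (ModuleCat.of A (A ⧸ p)) hM 1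
      Nat.one_pos
    exact ModuleCat.isZero_of_subsingleton _
  · intro h
    have key : ∀ (N : Type u) [AddCommGroup N] [Module A N] [Module.Finite A N],
        IsZero (((Tor (ModuleCat.{u} A) 1).obj (ModuleCat.of A M)).obj (ModuleCat.of A N)) := by
      intro N _ _ hfin
      induction hfin using IsNoetherianRing.induction_on_isQuotientEquivQuotientPrime A with
      | subsingleton N =>
        haveI : Subsingleton (((Tor (ModuleCat.{u} A) 1).obj (ModuleCat.of A M)).obj
            (ModuleCat.of A N)) :=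
          Tor_subsingleton_of_flat_right (ModuleCat.of A M) (ModuleCat.of A N)
            (inferInstanceAs (Module.Flat A N)) 1 Nat.one_pos
        exact ModuleCat.isZero_of_subsingleton _
      | quotient N p f => exact Tor_isZero_of_linearEquiv_right f (ModuleCat.of A M) 1 (h p.1 p.2)
      | exact N₁ N₂ N₃ f g hf hg hfg h₁ h₃ =>
        exact Tor_isZero_of_exact_right f g hf hfg hg (ModuleCat.of A M) 1 h₁ h₃
    rw [Module.Flat.iff_rTensor_injective]
    intro I _
    have hI := key (A ⧸ I)
    obtain ⟨eflip⟩ := nonempty_Tor_equiv_flip (ModuleCat.of A M) (ModuleCat.of A (A ⧸ I)) 1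
    obtain ⟨e⟩ := nonempty_Tor1_equiv_ker' I.subtype I.mkQ I.injective_subtype
      (LinearMap.exact_subtype_mkQ I) (Submodule.mkQ_surjective I) M
    haveI : Subsingleton (((Tor (ModuleCat.{u} A) 1).obj (ModuleCat.of A M)).obj
        (ModuleCat.of A (A ⧸ I))) := ModuleCat.subsingleton_of_isZero hI
    haveI : Subsingleton (LinearMap.ker (I.subtype.rTensor M)) :=
      (e.symm.toEquiv.trans eflip.symm.toEquiv).subsingleton
    exact LinearMap.ker_eq_bot.mp (Submodule.eq_bot_of_subsingleton)

/-- `P.opcycles 0 ≃ M` for a flat resolution. -/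
noncomputable def FlatRes.opcyclesZeroEquiv {P : ChainComplex (ModuleCat.{u} A) ℕ}
    {M : ModuleCat.{u} A} (hP : FlatRes P M) : P.opcycles 0 ≃ₗ[A] M :=
  have hrel10 : (ComplexShape.down ℕ).Rel 1 0 := rfl
  have hk₁ : LinearMap.ker (P.pOpcycles 0).hom = LinearMap.range (P.d 1 0).hom :=
    LinearMap.exact_iff.mp (exact_d_pOpcycles' P 1 0 hrel10)
  have hk₂ : LinearMap.ker hP.ε.hom = LinearMap.range (P.d 1 0).hom :=
    LinearMap.exact_iff.mp hP.ε_exact
  equivOfSurjOfKerEq (P.pOpcycles 0).hom hP.ε.hom (pOpcycles_surjective P 0) hP.ε_surj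
    (hk₁.trans hk₂.symm)

section S12205
variable (I : Ideal A) (M : Type u) [AddCommGroup M] [Module A M]

theorem Tor1_isZero_of_torsion [Module.Flat (A ⧸ I) ((A ⧸ I) ⊗[A] M)]
    (h : IsZero (((Tor (ModuleCat.{u} A) 1).obj (ModuleCat.of A (A ⧸ I))).obj
      (ModuleCat.of A M)))
    (N : Type u) [AddCommGroup N] [Module A N] (hN : ∀ a : A, a ∈ I → ∀ x : N, a • x = 0) :
    IsZero (((Tor (ModuleCat.{u} A) 1).obj (ModuleCat.of A N)).obj (ModuleCat.of A M)) := by
  let φ : A →+* A ⧸ I := Ideal.Quotient.mk I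
  have halg : (inferInstance : Algebra A (A ⧸ I)) = φ.toAlgebra :=
    Algebra.algebra_ext _ _ (fun r => rfl)
  let Q := ProjectiveResolution.of (ModuleCat.of A M)
  let hF := FlatRes.ofProjectiveResolution Q
  have hex1 : (CohIII.bcCx φ Q.complex).ExactAt 1 := by
    rw [HomologicalComplex.exactAt_iff_isZero_homology]
    obtain ⟨i1⟩ := nonempty_Tor_iso_T
      ((ModuleCat.restrictScalars φ).obj (ModuleCat.of (A ⧸ I) (A ⧸ I))) (ModuleCat.of A M) Q 1
    let g := ((Tor (ModuleCat.{u} A) 1).mapIso (ofRestrictScalarsIso φ halg (A ⧸ I))).app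
      (ModuleCat.of A M)
    have hz : IsZero (CohIII.T Q.complex 1
        ((ModuleCat.restrictScalars φ).obj (ModuleCat.of (A ⧸ I) (A ⧸ I)))) :=
      IsZero.of_iso (IsZero.of_iso h g.symm) i1.symm
    haveI : Subsingleton ((CohIII.TFun Q.complex 1).obj
        ((ModuleCat.restrictScalars φ).obj (ModuleCat.of (A ⧸ I) (A ⧸ I)))) :=
      ModuleCat.subsingleton_of_isZero hz
    haveI : Subsingleton ((CohIII.bcCx φ Q.complex).homology 1) :=
      (linkHEquiv φ Q.complex 1).toEquiv.subsingleton
    exact ModuleCat.isZero_of_subsingleton _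
  have hfl0 : Module.Flat (A ⧸ I) ((CohIII.bcCx φ Q.complex).opcycles 0) := by
    obtain ⟨e⟩ := nonempty_opcycles_bcCx_equiv φ halg Q.complex 0
    have e' : (CohIII.bcCx φ Q.complex).opcycles 0 ≃ₗ[A ⧸ I] (A ⧸ I) ⊗[A] M :=
      e.trans (LinearEquiv.baseChange A (A ⧸ I) _ _ hF.opcyclesZeroEquiv)
    exact Module.Flat.of_linearEquiv e'
  have hvan : ∀ N' : ModuleCat.{u} (A ⧸ I),
      IsZero (CohIII.T (CohIII.bcCx φ Q.complex) 1 N') := by
    intro N'
    obtain ⟨e⟩ := nonempty_T_equiv_ker_fromOpcycles (CohIII.bcCx φ Q.complex) N' 1 0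
      (ChainComplex.next_nat_succ 0)
    have hS := syzSC_shortExact (CohIII.bcCx φ Q.complex) 0 hex1
    have hinj : Function.Injective
        (((CohIII.bcCx φ Q.complex).fromOpcycles 1 0).hom.rTensor N') :=
      rTensor_injective_of_exact_of_flat (A := A ⧸ I)
        ((CohIII.bcCx φ Q.complex).fromOpcycles 1 0).hom
        ((CohIII.bcCx φ Q.complex).pOpcycles 0).hom hS.moduleCat_injective_f
        ((ShortComplex.ShortExact.moduleCat_exact_iff_function_exact _).mp hS.exact)
        hS.moduleCat_surjective_g (hfl := hfl0) N'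
    haveI : Subsingleton (LinearMap.ker
        (((CohIII.bcCx φ Q.complex).fromOpcycles 1 0).hom.rTensor N')) := by
      rw [LinearMap.ker_eq_bot.mpr hinj]
      infer_instance
    haveI := e.toEquiv.subsingleton
    exact ModuleCat.isZero_of_subsingleton _
  have htors : Module.IsTorsionBySet A N (I : Set A) := fun x a => hN a.1 a.2 x
  letI : Module (A ⧸ I) N := htors.module
  haveI : IsScalarTower A (A ⧸ I) N := htors.isScalarTower
  obtain ⟨i1⟩ := nonempty_Tor_iso_T (ModuleCat.of A N) (ModuleCat.of A M) Q 1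
  let g := (CohIII.TFun Q.complex 1).mapIso (ofRestrictScalarsIso φ halg N)
  have hz := hvan (ModuleCat.of (A ⧸ I) N)
  haveI : Subsingleton ((CohIII.TFun (CohIII.bcCx φ Q.complex) 1).obj
      (ModuleCat.of (A ⧸ I) N)) := ModuleCat.subsingleton_of_isZero hz
  haveI : Subsingleton ((CohIII.TFun Q.complex 1).obj
      ((ModuleCat.restrictScalars φ).obj (ModuleCat.of (A ⧸ I) N))) :=
    (linkTEquiv φ Q.complex 1 (ModuleCat.of (A ⧸ I) N)).symm.toEquiv.subsingleton
  exact IsZero.of_iso (IsZero.of_iso (ModuleCat.isZero_of_subsingleton _) g) i1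

theorem Tor1_isZero_of_pow_torsion [Module.Flat (A ⧸ I) ((A ⧸ I) ⊗[A] M)]
    (h : IsZero (((Tor (ModuleCat.{u} A) 1).obj (ModuleCat.of A (A ⧸ I))).obj
      (ModuleCat.of A M))) (m : ℕ) :
    ∀ (N : Type u) [AddCommGroup N] [Module A N],
      (∀ a : A, a ∈ I ^ m → ∀ x : N, a • x = 0) →
      IsZero (((Tor (ModuleCat.{u} A) 1).obj (ModuleCat.of A N)).obj (ModuleCat.of A M)) := by
  induction m with
  | zero =>
    intro N _ _ hN
    refine Tor1_isZero_of_torsion I M h N (fun a _ x => ?_)
    have hx : x = 0 := by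
      have h1 : (1 : A) ∈ I ^ 0 := by
        rw [pow_zero, Ideal.one_eq_top]
        exact Submodule.mem_top
      have := hN 1 h1 x
      rwa [one_smul] at this
    rw [hx, smul_zero]
  | succ m ih =>
    intro N _ _ hN
    let N₁ : Submodule A N := I • (⊤ : Submodule A N)
    have h1 : ∀ a : A, a ∈ I ^ m → ∀ x : N₁, a • x = 0 := by
      intro a ha x
      apply Subtype.ext
      show a • x.1 = 0
      refine Submodule.smul_induction_on x.2 (fun r hr n _ => ?_) (fun y z hy hz => ?_)
      · rw [smul_smul]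
        exact hN (a * r) (by rw [pow_succ]; exact Ideal.mul_mem_mul ha hr) n
      · rw [smul_add, hy, hz, add_zero]
    have h3 : ∀ a : A, a ∈ I → ∀ x : N ⧸ N₁, a • x = 0 := by
      intro a ha x
      obtain ⟨y, rfl⟩ := Submodule.mkQ_surjective N₁ x
      rw [← map_smul]
      show (Submodule.Quotient.mk (a • y) : N ⧸ N₁) = 0
      rw [Submodule.Quotient.mk_eq_zero]
      exact Submodule.smul_mem_smul ha Submodule.mem_top
    exact Tor_isZero_of_exact_left N₁.subtype N₁.mkQ N₁.injective_subtype
      (LinearMap.exact_subtype_mkQ N₁) (Submodule.mkQ_surjective N₁) (ModuleCat.of A M) 1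
      (ih N₁ h1) (Tor1_isZero_of_torsion I M h (N ⧸ N₁) h3)

end S12205

end Groth.Agent.Lib.Helper7
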