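import Mathlib
import Groth.Prelude.Def_ega3
import Groth.Agent.Lib.Helper7.CxElem
import Groth.Agent.Lib.Helper7.TorBalance3
set_option autoImplicit false
universe u
open CategoryTheory CategoryTheory.Limits MonoidalCategory TensorProduct

namespace Groth.Agent.Lib.Helper7

variable {A : Type u} [CommRing A]

section clsTcongr
variable {ι : Type} {c : ComplexShape ι} (P : HomologicalComplex (ModuleCat.{u} A) c) (p : ι)

lemma clsT_congr (M : ModuleCat.{u} A) (x x' : TensorProduct A (P.X p) M)
    (hx : LinearMap.rTensor M (P.d p (c.next p)).hom x = 0)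
    (hx' : LinearMap.rTensor M (P.d p (c.next p)).hom x' = 0) (h : x = x') :
    clsT P p M x hx = clsT P p M x' hx' := by
  subst h
  rfl

end clsTcongr

section filtered
variable {ι : Type} {c : ComplexShape ι}
variable {J : Type u} [SmallCategory J] [IsFiltered J] {K : J ⥤ ModuleCat.{u} A} {s : Cocone K}

lemma lTensor_cocone_w (X : ModuleCat.{u} A) {j k : J} (f : j ⟶ k) (y : X ⊗[A] K.obj j) :
    LinearMap.lTensor X (s.ι.app k).hom (LinearMap.lTensor X (K.map f).hom y) =
      LinearMap.lTensor X (s.ι.app j).hom y := by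
  rw [← s.w f, ModuleCat.hom_comp, LinearMap.lTensor_comp, LinearMap.comp_apply]

lemma lTensor_map_comp (X : ModuleCat.{u} A) {j k l : J} (f : j ⟶ k) (g : k ⟶ l)
    (y : X ⊗[A] K.obj j) :
    LinearMap.lTensor X (K.map (f ≫ g)).hom y =
      LinearMap.lTensor X (K.map g).hom (LinearMap.lTensor X (K.map f).hom y) := by
  rw [K.map_comp, ModuleCat.hom_comp, LinearMap.lTensor_comp, LinearMap.comp_apply]

variable (hs : IsColimit s)
include hs

lemma tensor_colimit_exists_rep (X : ModuleCat.{u} A) (x : X ⊗[A] s.pt) :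
    ∃ (j : J) (y : X ⊗[A] K.obj j), LinearMap.lTensor X (s.ι.app j).hom y = x := by
  have hD : IsColimit ((tensorLeft X).mapCocone s) := isColimitOfPreserves (tensorLeft X) hs
  obtain ⟨j, y, hy⟩ := Concrete.isColimit_exists_rep (K ⋙ tensorLeft X) hD x
  refine ⟨j, y, ?_⟩
  rw [← ModuleCat.hom_whiskerLeft]
  exact hy

lemma tensor_colimit_rep_eq (X : ModuleCat.{u} A) (j : J) (y y' : X ⊗[A] K.obj j)
    (h : LinearMap.lTensor X (s.ι.app j).hom y = LinearMap.lTensor X (s.ι.app j).hom y') :
    ∃ (k : J) (f : j ⟶ k),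
      LinearMap.lTensor X (K.map f).hom y = LinearMap.lTensor X (K.map f).hom y' := by
  have hD : IsColimit ((tensorLeft X).mapCocone s) := isColimitOfPreserves (tensorLeft X) hs
  have h' : ((tensorLeft X).mapCocone s).ι.app j y = ((tensorLeft X).mapCocone s).ι.app j y' := by
    show (X ◁ s.ι.app j).hom y = (X ◁ s.ι.app j).hom y'
    rw [ModuleCat.hom_whiskerLeft]
    exact h
  obtain ⟨k, f, g, hfg⟩ := Concrete.isColimit_exists_of_rep_eq (K ⋙ tensorLeft X) hD y y' h'
  refine ⟨IsFiltered.coeq f g, f ≫ IsFiltered.coeqHom f g, ?_⟩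
  have hfg' : LinearMap.lTensor X (K.map f).hom y = LinearMap.lTensor X (K.map g).hom y' := by
    rw [← ModuleCat.hom_whiskerLeft, ← ModuleCat.hom_whiskerLeft]
    exact hfg
  rw [lTensor_map_comp, hfg', ← lTensor_map_comp, ← IsFiltered.coeq_condition f g]

lemma TFun_colimit_surj (P : HomologicalComplex (ModuleCat.{u} A) c) (p : ι)
    (h : (CohIII.TFun P p).obj s.pt) :
    ∃ (j : J) (h' : (CohIII.TFun P p).obj (K.obj j)),
      ((CohIII.TFun P p).map (s.ι.app j)).hom h' = h := by
  obtain ⟨x, hx, rfl⟩ := clsT_surjective P p s.pt h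
  obtain ⟨j, y, rfl⟩ := tensor_colimit_exists_rep hs (P.X p) x
  have h1 : LinearMap.lTensor (P.X (c.next p)) (s.ι.app j).hom
      (LinearMap.rTensor (K.obj j) (P.d p (c.next p)).hom y) =
      LinearMap.lTensor (P.X (c.next p)) (s.ι.app j).hom 0 := by
    rw [map_zero, ← rTensor_lTensor_comm]
    exact hx
  obtain ⟨k, f, hf⟩ := tensor_colimit_rep_eq hs (P.X (c.next p)) j _ _ h1
  rw [map_zero] at hf
  have hy' : LinearMap.rTensor (K.obj k) (P.d p (c.next p)).hom
      (LinearMap.lTensor (P.X p) (K.map f).hom y) = 0 := by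
    rw [rTensor_lTensor_comm]
    exact hf
  refine ⟨k, clsT P p (K.obj k) _ hy', ?_⟩
  rw [TFun_map_clsT P p (s.ι.app k) _ hy' (lTensor_cycle P p _ _ hy')]
  exact clsT_congr P p _ _ _ _ _ (lTensor_cocone_w (P.X p) f y)

lemma TFun_colimit_inj (P : HomologicalComplex (ModuleCat.{u} A) c) (p : ι) (j : J)
    (h h' : (CohIII.TFun P p).obj (K.obj j))
    (heq : ((CohIII.TFun P p).map (s.ι.app j)).hom h =
      ((CohIII.TFun P p).map (s.ι.app j)).hom h') :
    ∃ (k : J) (f : j ⟶ k),
      ((CohIII.TFun P p).map (K.map f)).hom h = ((CohIII.TFun P p).map (K.map f)).hom h' := by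
  obtain ⟨y, hy, rfl⟩ := clsT_surjective P p (K.obj j) h
  obtain ⟨y', hy', rfl⟩ := clsT_surjective P p (K.obj j) h'
  rw [TFun_map_clsT P p (s.ι.app j) y hy (lTensor_cycle P p _ y hy),
    TFun_map_clsT P p (s.ι.app j) y' hy' (lTensor_cycle P p _ y' hy'), clsT_eq_iff] at heq
  obtain ⟨z, hz⟩ := heq
  obtain ⟨l, w, rfl⟩ := tensor_colimit_exists_rep hs (P.X (c.prev p)) z
  have h1 : LinearMap.lTensor (P.X p) (s.ι.app (IsFiltered.max j l)).hom
      (LinearMap.rTensor (K.obj (IsFiltered.max j l)) (P.d (c.prev p) p).hom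
        (LinearMap.lTensor (P.X (c.prev p)) (K.map (IsFiltered.rightToMax j l)).hom w)) =
      LinearMap.lTensor (P.X p) (s.ι.app (IsFiltered.max j l)).hom
        (LinearMap.lTensor (P.X p) (K.map (IsFiltered.leftToMax j l)).hom (y - y')) := by
    rw [← rTensor_lTensor_comm, lTensor_cocone_w, lTensor_cocone_w, map_sub]
    exact hz
  obtain ⟨k, f, hf⟩ := tensor_colimit_rep_eq hs (P.X p) (IsFiltered.max j l) _ _ h1
  refine ⟨k, IsFiltered.leftToMax j l ≫ f, ?_⟩
  rw [TFun_map_clsT P p (K.map (IsFiltered.leftToMax j l ≫ f)) y hy (lTensor_cycle P p _ y hy),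
    TFun_map_clsT P p (K.map (IsFiltered.leftToMax j l ≫ f)) y' hy' (lTensor_cycle P p _ y' hy'),
    clsT_eq_iff]
  refine ⟨LinearMap.lTensor (P.X (c.prev p)) (K.map (IsFiltered.rightToMax j l ≫ f)).hom w, ?_⟩
  rw [lTensor_map_comp, rTensor_lTensor_comm, hf, ← lTensor_map_comp, map_sub]

noncomputable def isColimit_TFun_mapCocone (P : HomologicalComplex (ModuleCat.{u} A) c) (p : ι) :
    IsColimit ((CohIII.TFun P p).mapCocone s) := by
  refine isColimitOfReflects (forget (ModuleCat.{u} A)) ?_
  refine Types.FilteredColimit.isColimitOf' _ _ ?_ ?_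
  · intro h
    obtain ⟨j, h', hh'⟩ := TFun_colimit_surj hs P p h
    exact ⟨j, h', hh'.symm⟩
  · intro j h h' heq
    exact TFun_colimit_inj hs P p j h h' heq

end filtered

theorem TFun_preservesFilteredColimitsOfShape {ι : Type} {c : ComplexShape ι}
    (P : HomologicalComplex (ModuleCat.{u} A) c) (p : ι)
    (J : Type u) [SmallCategory J] [IsFiltered J] :
    PreservesColimitsOfShape J (CohIII.TFun P p) :=
  ⟨fun {_} => ⟨fun {_} hs => ⟨isColimit_TFun_mapCocone hs P p⟩⟩⟩

section N1

lemma braid_tensorMap_comm {M M' : ModuleCat.{u} A} (f : M ⟶ M')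
    (Q : ChainComplex (ModuleCat.{u} A) ℕ) :
    (NatTrans.mapHomologicalComplex ((tensoringLeft (ModuleCat.{u} A)).map f)
        (ComplexShape.down ℕ)).app Q ≫
      (NatTrans.mapHomologicalComplex (BraidedCategory.tensorLeftIsoTensorRight M').hom
        (ComplexShape.down ℕ)).app Q =
    (NatTrans.mapHomologicalComplex (BraidedCategory.tensorLeftIsoTensorRight M).hom
        (ComplexShape.down ℕ)).app Q ≫ CohIII.tensorMap Q f := by
  ext i : 1
  exact BraidedCategory.braiding_naturality_left f (Q.X i)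

/-- components of the natural isomorphism `Tor_n(-, N) ≅ H_n(- ⊗ Q)`. -/
noncomputable def torIsoT (N : ModuleCat.{u} A) (Q : ProjectiveResolution N) (n : ℕ)
    (M : ModuleCat.{u} A) :
    ((Tor (ModuleCat.{u} A) n).obj M).obj N ≅ (CohIII.TFun Q.complex n).obj M :=
  Q.isoLeftDerivedObj ((tensoringLeft (ModuleCat.{u} A)).obj M) n ≪≫
    (HomologicalComplex.homologyFunctor (ModuleCat.{u} A) (ComplexShape.down ℕ) n).mapIso
      ((NatIso.mapHomologicalComplex (BraidedCategory.tensorLeftIsoTensorRight M)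
        (ComplexShape.down ℕ)).app Q.complex)

lemma torIsoT_naturality (N : ModuleCat.{u} A) (Q : ProjectiveResolution N) (n : ℕ)
    {M M' : ModuleCat.{u} A} (f : M ⟶ M') :
    ((Tor (ModuleCat.{u} A) n).map f).app N ≫ (torIsoT N Q n M').hom =
      (torIsoT N Q n M).hom ≫ (CohIII.TFun Q.complex n).map f := by
  have key : (HomologicalComplex.homologyFunctor (ModuleCat.{u} A) (ComplexShape.down ℕ) n).map
        ((NatTrans.mapHomologicalComplex ((tensoringLeft (ModuleCat.{u} A)).map f)
          (ComplexShape.down ℕ)).app Q.complex) ≫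
      (HomologicalComplex.homologyFunctor (ModuleCat.{u} A) (ComplexShape.down ℕ) n).map
        ((NatTrans.mapHomologicalComplex (BraidedCategory.tensorLeftIsoTensorRight M').hom
          (ComplexShape.down ℕ)).app Q.complex) =
      (HomologicalComplex.homologyFunctor (ModuleCat.{u} A) (ComplexShape.down ℕ) n).map
        ((NatTrans.mapHomologicalComplex (BraidedCategory.tensorLeftIsoTensorRight M).hom
          (ComplexShape.down ℕ)).app Q.complex) ≫
      (HomologicalComplex.homologyFunctor (ModuleCat.{u} A) (ComplexShape.down ℕ) n).map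
        (CohIII.tensorMap Q.complex f) := by
    rw [← Functor.map_comp, ← Functor.map_comp, braid_tensorMap_comm]
  have h1 : (NatTrans.leftDerived ((tensoringLeft (ModuleCat.{u} A)).map f) n).app N ≫
      (Q.isoLeftDerivedObj ((tensoringLeft (ModuleCat.{u} A)).obj M') n).hom =
      (Q.isoLeftDerivedObj ((tensoringLeft (ModuleCat.{u} A)).obj M) n).hom ≫
      (HomologicalComplex.homologyFunctor (ModuleCat.{u} A) (ComplexShape.down ℕ) n).map
        ((NatTrans.mapHomologicalComplex ((tensoringLeft (ModuleCat.{u} A)).map f)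
          (ComplexShape.down ℕ)).app Q.complex) := by
    rw [ProjectiveResolution.leftDerived_app_eq ((tensoringLeft (ModuleCat.{u} A)).map f) Q n,
      Category.assoc, Category.assoc, Iso.inv_hom_id, Category.comp_id]
  show (NatTrans.leftDerived ((tensoringLeft (ModuleCat.{u} A)).map f) n).app N ≫
      ((Q.isoLeftDerivedObj ((tensoringLeft (ModuleCat.{u} A)).obj M') n).hom ≫
        (HomologicalComplex.homologyFunctor (ModuleCat.{u} A) (ComplexShape.down ℕ) n).map
          ((NatTrans.mapHomologicalComplex (BraidedCategory.tensorLeftIsoTensorRight M').hom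
            (ComplexShape.down ℕ)).app Q.complex)) =
      ((Q.isoLeftDerivedObj ((tensoringLeft (ModuleCat.{u} A)).obj M) n).hom ≫
        (HomologicalComplex.homologyFunctor (ModuleCat.{u} A) (ComplexShape.down ℕ) n).map
          ((NatTrans.mapHomologicalComplex (BraidedCategory.tensorLeftIsoTensorRight M).hom
            (ComplexShape.down ℕ)).app Q.complex)) ≫
      (HomologicalComplex.homologyFunctor (ModuleCat.{u} A) (ComplexShape.down ℕ) n).map
        (CohIII.tensorMap Q.complex f)
  rw [← Category.assoc, h1, Category.assoc, key, Category.assoc]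

/-- (N1) natural isomorphism `Tor_n(-, N) ≅ H_n(- ⊗ Q)`. -/
noncomputable def torFlipObjIsoTFun (N : ModuleCat.{u} A) (Q : ProjectiveResolution N) (n : ℕ) :
    (Tor (ModuleCat.{u} A) n).flip.obj N ≅ CohIII.TFun Q.complex n :=
  NatIso.ofComponents (fun M => torIsoT N Q n M) (fun f => torIsoT_naturality N Q n f)

end N1

/-- S3525 / S6317. -/
theorem tor_flip_preservesFilteredColimitsOfShape (p : ℕ) (N : ModuleCat.{u} A)
    (J : Type u) [SmallCategory J] [IsFiltered J] :
    PreservesColimitsOfShape J ((Tor (ModuleCat.{u} A) p).flip.obj N) := by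
  haveI := TFun_preservesFilteredColimitsOfShape (ProjectiveResolution.of N).complex p J
  exact preservesColimitsOfShape_of_natIso
    (torFlipObjIsoTFun N (ProjectiveResolution.of N) p).symm

end Groth.Agent.Lib.Helper7
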