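import Mathlib
import Groth.Prelude.Def_ega3
import Groth.Agent.Lib.Helper7.TorNat1
import Groth.Agent.Lib.Helper7.TorLES2
set_option autoImplicit false
universe u
open CategoryTheory CategoryTheory.Limits MonoidalCategory TensorProduct

namespace Groth.Agent.Lib.Helper7

variable {A : Type u} [CommRing A]

section bimaps
variable {Q Q' : ChainComplex (ModuleCat.{u} A) ℕ}

/-- `φ ⊗ X : Q ⊗ X ⟶ Q' ⊗ X`. -/
noncomputable abbrev tensorMapC (φ : Q ⟶ Q') (X : ModuleCat.{u} A) :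
    CohIII.tensorObj Q X ⟶ CohIII.tensorObj Q' X :=
  ((tensorRight X).mapHomologicalComplex (ComplexShape.down ℕ)).map φ

lemma tensorMapC_f (φ : Q ⟶ Q') (X : ModuleCat.{u} A) (i : ℕ) :
    (tensorMapC φ X).f i = φ.f i ▷ X := rfl

lemma tensorMap_comp' (Q : ChainComplex (ModuleCat.{u} A) ℕ) {X X' X'' : ModuleCat.{u} A}
    (a : X ⟶ X') (b : X' ⟶ X'') :
    CohIII.tensorMap Q (a ≫ b) = CohIII.tensorMap Q a ≫ CohIII.tensorMap Q b := by
  ext i : 1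
  show Q.X i ◁ (a ≫ b) = Q.X i ◁ a ≫ Q.X i ◁ b
  exact MonoidalCategory.whiskerLeft_comp _ _ _

lemma tensorMap_id' (Q : ChainComplex (ModuleCat.{u} A) ℕ) (X : ModuleCat.{u} A) :
    CohIII.tensorMap Q (𝟙 X) = 𝟙 _ := by
  ext i : 1
  show Q.X i ◁ (𝟙 X) = 𝟙 _
  exact MonoidalCategory.whiskerLeft_id _ _

lemma tensorMapC_comm (φ : Q ⟶ Q') {X X' : ModuleCat.{u} A} (h : X ⟶ X') :
    CohIII.tensorMap Q h ≫ tensorMapC φ X' = tensorMapC φ X ≫ CohIII.tensorMap Q' h := by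
  ext i : 1
  show Q.X i ◁ h ≫ φ.f i ▷ X' = φ.f i ▷ X ≫ Q'.X i ◁ h
  exact whisker_exchange (φ.f i) h

/-- the bi-map `φ ⊗ h : Q ⊗ X ⟶ Q' ⊗ X'`. -/
noncomputable def tensorBi (φ : Q ⟶ Q') {X X' : ModuleCat.{u} A} (h : X ⟶ X') :
    CohIII.tensorObj Q X ⟶ CohIII.tensorObj Q' X' :=
  CohIII.tensorMap Q h ≫ tensorMapC φ X'

lemma tensorBi_f_hom (φ : Q ⟶ Q') {X X' : ModuleCat.{u} A} (h : X ⟶ X') (i : ℕ) :
    ((tensorBi φ h).f i).hom = TensorProduct.map (φ.f i).hom h.hom := by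
  show ((Q.X i ◁ h) ≫ (φ.f i ▷ X')).hom = _
  rw [ModuleCat.hom_comp, ModuleCat.hom_whiskerLeft, ModuleCat.hom_whiskerRight]
  apply TensorProduct.ext'
  intro a b
  rfl

lemma tensorBi_id_left (Q : ChainComplex (ModuleCat.{u} A) ℕ) {X X' : ModuleCat.{u} A}
    (h : X ⟶ X') : tensorBi (𝟙 Q) h = CohIII.tensorMap Q h := by
  unfold tensorBi tensorMapC
  rw [CategoryTheory.Functor.map_id, Category.comp_id]

lemma tensorBi_id_right (φ : Q ⟶ Q') (X : ModuleCat.{u} A) :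
    tensorBi φ (𝟙 X) = tensorMapC φ X := by
  unfold tensorBi
  rw [tensorMap_id', Category.id_comp]

lemma tensorBi_comm (φ : Q ⟶ Q') {X₁ X₁' X₂ X₂' : ModuleCat.{u} A} (h₁ : X₁ ⟶ X₁')
    (h₂ : X₂ ⟶ X₂') (a : X₁ ⟶ X₂) (b : X₁' ⟶ X₂') (w : a ≫ h₂ = h₁ ≫ b) :
    CohIII.tensorMap Q a ≫ tensorBi φ h₂ = tensorBi φ h₁ ≫ CohIII.tensorMap Q' b := by
  unfold tensorBi
  rw [← Category.assoc, ← tensorMap_comp', w, tensorMap_comp', Category.assoc, Category.assoc,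
    tensorMapC_comm]

/-- morphism of short complexes of complexes induced by `(φ, ψ)`. -/
noncomputable def tensorSCBi (φ : Q ⟶ Q') {S S' : ShortComplex (ModuleCat.{u} A)} (ψ : S ⟶ S') :
    tensorSC Q S ⟶ tensorSC Q' S' where
  τ₁ := tensorBi φ ψ.τ₁
  τ₂ := tensorBi φ ψ.τ₂
  τ₃ := tensorBi φ ψ.τ₃
  comm₁₂ := (tensorBi_comm φ ψ.τ₁ ψ.τ₂ S.f S'.f ψ.comm₁₂.symm).symm
  comm₂₃ := (tensorBi_comm φ ψ.τ₂ ψ.τ₃ S.g S'.g ψ.comm₂₃.symm).symm

/-- the map `H_n(φ ⊗ h)`. -/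
noncomputable def Tbi (φ : Q ⟶ Q') {X X' : ModuleCat.{u} A} (h : X ⟶ X') (n : ℕ) :
    CohIII.T Q n X ⟶ CohIII.T Q' n X' :=
  HomologicalComplex.homologyMap (tensorBi φ h) n

lemma Tbi_id_left (Q : ChainComplex (ModuleCat.{u} A) ℕ) {X X' : ModuleCat.{u} A}
    (h : X ⟶ X') (n : ℕ) : Tbi (𝟙 Q) h n = (CohIII.TFun Q n).map h := by
  unfold Tbi
  rw [tensorBi_id_left]
  rfl

lemma Tbi_id_right (φ : Q ⟶ Q') (X : ModuleCat.{u} A) (n : ℕ) :
    Tbi φ (𝟙 X) n = HomologicalComplex.homologyMap (tensorMapC φ X) n := by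
  unfold Tbi
  rw [tensorBi_id_right]

lemma δ_Tbi (φ : Q ⟶ Q') (hQ : ∀ i, Module.Flat A (Q.X i)) (hQ' : ∀ i, Module.Flat A (Q'.X i))
    {S S' : ShortComplex (ModuleCat.{u} A)} (ψ : S ⟶ S') (hS : S.ShortExact)
    (hS' : S'.ShortExact) (i j : ℕ) (hij : (ComplexShape.down ℕ).Rel i j) :
    (tensorSC_shortExact Q hQ S hS).δ i j hij ≫ Tbi φ ψ.τ₁ j =
      Tbi φ ψ.τ₃ i ≫ (tensorSC_shortExact Q' hQ' S' hS').δ i j hij :=
  HomologicalComplex.HomologySequence.δ_naturality (tensorSCBi φ ψ) _ _ i j hij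

lemma Tbi_comm (φ : Q ⟶ Q') {X₁ X₁' X₂ X₂' : ModuleCat.{u} A} (h₁ : X₁ ⟶ X₁')
    (h₂ : X₂ ⟶ X₂') (a : X₁ ⟶ X₂) (b : X₁' ⟶ X₂') (w : a ≫ h₂ = h₁ ≫ b) (n : ℕ) :
    (CohIII.TFun Q n).map a ≫ Tbi φ h₂ n = Tbi φ h₁ n ≫ (CohIII.TFun Q' n).map b := by
  show HomologicalComplex.homologyMap (CohIII.tensorMap Q a) n ≫
      HomologicalComplex.homologyMap (tensorBi φ h₂) n =
    HomologicalComplex.homologyMap (tensorBi φ h₁) n ≫
      HomologicalComplex.homologyMap (CohIII.tensorMap Q' b) n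
  rw [← HomologicalComplex.homologyMap_comp, ← HomologicalComplex.homologyMap_comp,
    tensorBi_comm φ h₁ h₂ a b w]

lemma Tbi_clsT (φ : Q ⟶ Q') {X X' : ModuleCat.{u} A} (h : X ⟶ X') (n : ℕ)
    (x : Q.X n ⊗[A] X)
    (hx : LinearMap.rTensor X (Q.d n ((ComplexShape.down ℕ).next n)).hom x = 0)
    (hx' : LinearMap.rTensor X' (Q'.d n ((ComplexShape.down ℕ).next n)).hom
      (TensorProduct.map (φ.f n).hom h.hom x) = 0) :
    (Tbi φ h n).hom (clsT Q n X x hx) =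
      clsT Q' n X' (TensorProduct.map (φ.f n).hom h.hom x) hx' := by
  unfold clsT
  have h1 := homologyMap_cls (tensorBi φ h) n x (by rw [tensorObj_d]; exact hx)
    (by rw [tensorObj_d, tensorBi_f_hom]; exact hx')
  refine h1.trans ?_
  apply cls_congr
  exact LinearMap.congr_fun (tensorBi_f_hom φ h n) x

lemma map_cycle (φ : Q ⟶ Q') {X X' : ModuleCat.{u} A} (h : X ⟶ X') (n : ℕ)
    (x : Q.X n ⊗[A] X)
    (hx : LinearMap.rTensor X (Q.d n ((ComplexShape.down ℕ).next n)).hom x = 0) :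
    LinearMap.rTensor X' (Q'.d n ((ComplexShape.down ℕ).next n)).hom
      (TensorProduct.map (φ.f n).hom h.hom x) = 0 := by
  have h1 := d_map_eq_zero (tensorBi φ h) n x (by rw [tensorObj_d]; exact hx)
  rw [tensorObj_d, tensorBi_f_hom] at h1
  exact h1

end bimaps

section syz
variable {P P' : ChainComplex (ModuleCat.{u} A) ℕ} (f : P ⟶ P')

lemma opcyclesMap_fromOpcycles (j : ℕ) :
    HomologicalComplex.opcyclesMap f (j + 1) ≫ P'.fromOpcycles (j + 1) j =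
      P.fromOpcycles (j + 1) j ≫ f.f j := by
  rw [← cancel_epi (P.pOpcycles (j + 1)), HomologicalComplex.p_opcyclesMap_assoc,
    HomologicalComplex.p_fromOpcycles, HomologicalComplex.p_fromOpcycles_assoc,
    HomologicalComplex.Hom.comm]

/-- the map of syzygy sequences induced by a chain map. -/
noncomputable def syzMap (j : ℕ) : syzSC P j ⟶ syzSC P' j where
  τ₁ := HomologicalComplex.opcyclesMap f (j + 1)
  τ₂ := f.f j
  τ₃ := HomologicalComplex.opcyclesMap f j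
  comm₁₂ := opcyclesMap_fromOpcycles f j
  comm₂₃ := (HomologicalComplex.p_opcyclesMap f j).symm

end syz

lemma relSucc (k : ℕ) : (ComplexShape.down ℕ).Rel (k + 1) k := rfl

/-- flat termwise and exact in positive degrees. -/
structure GoodCx (Q : ChainComplex (ModuleCat.{u} A) ℕ) : Prop where
  flat : ∀ i, Module.Flat A (Q.X i)
  exactAt : ∀ i, Q.ExactAt (i + 1)

lemma FlatRes.good {P : ChainComplex (ModuleCat.{u} A) ℕ} {M : ModuleCat.{u} A}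
    (hP : FlatRes P M) : GoodCx P := ⟨hP.flat, hP.exactAt⟩

lemma isIso_δ_of_flat (Q : ChainComplex (ModuleCat.{u} A) ℕ) (hQ : GoodCx Q)
    (S : ShortComplex (ModuleCat.{u} A)) (hS : S.ShortExact) (hfl : Module.Flat A S.X₂) (k : ℕ) :
    IsIso ((tensorSC_shortExact Q hQ.flat S hS).δ (k + 1 + 1) (k + 1) (relSucc (k + 1))) := by
  have hSE := tensorSC_shortExact Q hQ.flat S hS
  have hz2 : IsZero (CohIII.T Q (k + 1 + 1) S.X₂) :=
    TFun_isZero_of_exactAt_of_flat Q (k + 1 + 1) (hQ.exactAt (k + 1)) S.X₂ hfl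
  have hz1 : IsZero (CohIII.T Q (k + 1) S.X₂) :=
    TFun_isZero_of_exactAt_of_flat Q (k + 1) (hQ.exactAt k) S.X₂ hfl
  have e3 := hSE.homology_exact₃ (k + 1 + 1) (k + 1) (relSucc (k + 1))
  have e1 := hSE.homology_exact₁ (k + 1 + 1) (k + 1) (relSucc (k + 1))
  haveI : Mono (hSE.δ (k + 1 + 1) (k + 1) (relSucc (k + 1))) := e3.mono_g (hz2.eq_of_src _ _)
  haveI : Epi (hSE.δ (k + 1 + 1) (k + 1) (relSucc (k + 1))) := e1.epi_f (hz1.eq_of_tgt _ _)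
  exact isIso_of_mono_of_epi _

theorem exists_shift_natural : ∀ (k j : ℕ),
    ∃ σ : ∀ (P Q : ChainComplex (ModuleCat.{u} A) ℕ), GoodCx P → GoodCx Q →
        (CohIII.T Q (k + 1) (P.opcycles j) ≅ CohIII.T Q 1 (P.opcycles (j + k))),
      ∀ (P P' Q Q' : ChainComplex (ModuleCat.{u} A) ℕ) (hP : GoodCx P) (hP' : GoodCx P')
        (hQ : GoodCx Q) (hQ' : GoodCx Q') (f : P ⟶ P') (φ : Q ⟶ Q'),
        (σ P Q hP hQ).hom ≫ Tbi φ (HomologicalComplex.opcyclesMap f (j + k)) 1 =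
          Tbi φ (HomologicalComplex.opcyclesMap f j) (k + 1) ≫ (σ P' Q' hP' hQ').hom := by
  intro k
  induction k with
  | zero =>
    intro j
    exact ⟨fun P Q _ _ => Iso.refl _, fun P P' Q Q' _ _ _ _ f φ =>
      (Category.id_comp _).trans (Category.comp_id _).symm⟩
  | succ k ih =>
    intro j
    obtain ⟨σ', hσ'⟩ : ∃ σ : ∀ (P Q : ChainComplex (ModuleCat.{u} A) ℕ), GoodCx P → GoodCx Q →
        (CohIII.T Q (k + 1) (P.opcycles (j + 1)) ≅ CohIII.T Q 1 (P.opcycles (j + (k + 1)))),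
      ∀ (P P' Q Q' : ChainComplex (ModuleCat.{u} A) ℕ) (hP : GoodCx P) (hP' : GoodCx P')
        (hQ : GoodCx Q) (hQ' : GoodCx Q') (f : P ⟶ P') (φ : Q ⟶ Q'),
        (σ P Q hP hQ).hom ≫ Tbi φ (HomologicalComplex.opcyclesMap f (j + (k + 1))) 1 =
          Tbi φ (HomologicalComplex.opcyclesMap f (j + 1)) (k + 1) ≫ (σ P' Q' hP' hQ').hom := by
      have := ih (j + 1)
      rwa [show j + 1 + k = j + (k + 1) by omega] at this
    refine ⟨fun P Q hP hQ =>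
      (@asIso _ _ _ _ ((tensorSC_shortExact Q hQ.flat (syzSC P j)
          (syzSC_shortExact P j (hP.exactAt j))).δ (k + 1 + 1) (k + 1) (relSucc (k + 1)))
        (isIso_δ_of_flat Q hQ (syzSC P j) (syzSC_shortExact P j (hP.exactAt j)) (hP.flat j) k)) ≪≫ σ' P Q hP hQ, ?_⟩
    intro P P' Q Q' hP hP' hQ hQ' f φ
    let δ₁ : CohIII.T Q (k + 1 + 1) (P.opcycles j) ⟶ CohIII.T Q (k + 1) (P.opcycles (j + 1)) :=
      (tensorSC_shortExact Q hQ.flat (syzSC P j)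
          (syzSC_shortExact P j (hP.exactAt j))).δ (k + 1 + 1) (k + 1) (relSucc (k + 1))
    let δ₂ : CohIII.T Q' (k + 1 + 1) (P'.opcycles j) ⟶
        CohIII.T Q' (k + 1) (P'.opcycles (j + 1)) :=
      (tensorSC_shortExact Q' hQ'.flat (syzSC P' j)
          (syzSC_shortExact P' j (hP'.exactAt j))).δ (k + 1 + 1) (k + 1) (relSucc (k + 1))
    have hδ : δ₁ ≫ Tbi φ (HomologicalComplex.opcyclesMap f (j + 1)) (k + 1) =
        Tbi φ (HomologicalComplex.opcyclesMap f j) (k + 1 + 1) ≫ δ₂ :=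
      δ_Tbi φ hQ.flat hQ'.flat (syzMap f j) (syzSC_shortExact P j (hP.exactAt j))
        (syzSC_shortExact P' j (hP'.exactAt j)) (k + 1 + 1) (k + 1) (relSucc (k + 1))
    show (δ₁ ≫ (σ' P Q hP hQ).hom) ≫ Tbi φ (HomologicalComplex.opcyclesMap f (j + (k + 1))) 1 =
      Tbi φ (HomologicalComplex.opcyclesMap f j) (k + 1 + 1) ≫ (δ₂ ≫ (σ' P' Q' hP' hQ').hom)
    rw [Category.assoc, hσ' P P' Q Q' hP hP' hQ hQ' f φ, ← Category.assoc, hδ, Category.assoc]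

end Groth.Agent.Lib.Helper7
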