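import Mathlib
import Groth.Prelude.Def_ega3
import Groth.Agent.Lib.Helper7.TorNat2
set_option autoImplicit false
universe u
open CategoryTheory CategoryTheory.Limits MonoidalCategory TensorProduct

namespace Groth.Agent.Lib.Helper7

variable {A : Type u} [CommRing A]

section linalg

lemma comm_map {X X' Y Y' : Type u} [AddCommGroup X] [AddCommGroup X'] [AddCommGroup Y]
    [AddCommGroup Y'] [Module A X] [Module A X'] [Module A Y] [Module A Y']
    (g : Y →ₗ[A] Y') (h : X →ₗ[A] X') (s : Y ⊗[A] X) :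
    TensorProduct.comm A Y' X' (TensorProduct.map g h s) =
      TensorProduct.map h g (TensorProduct.comm A Y X s) := by
  induction s using TensorProduct.induction_on with
  | zero => simp only [map_zero]
  | tmul a b => rfl
  | add x y hx hy => simp only [map_add, hx, hy]

/-- two injective maps with the same range have equivalent sources. -/
noncomputable def equivOfInjOfRangeEq {U V W : Type u} [AddCommGroup U] [AddCommGroup V]
    [AddCommGroup W] [Module A U] [Module A V] [Module A W] (Ψ : U →ₗ[A] W) (θ : V →ₗ[A] W)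
    (hΨ : Function.Injective Ψ) (hθ : Function.Injective θ)
    (h : LinearMap.range Ψ = LinearMap.range θ) : U ≃ₗ[A] V :=
  (LinearEquiv.ofInjective Ψ hΨ) ≪≫ₗ LinearEquiv.ofEq _ _ h ≪≫ₗ (LinearEquiv.ofInjective θ hθ).symm

lemma equivOfInjOfRangeEq_spec {U V W : Type u} [AddCommGroup U] [AddCommGroup V]
    [AddCommGroup W] [Module A U] [Module A V] [Module A W] (Ψ : U →ₗ[A] W) (θ : V →ₗ[A] W)
    (hΨ : Function.Injective Ψ) (hθ : Function.Injective θ)
    (h : LinearMap.range Ψ = LinearMap.range θ) (u : U) :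
    θ (equivOfInjOfRangeEq Ψ θ hΨ hθ h u) = Ψ u := by
  unfold equivOfInjOfRangeEq
  rw [LinearEquiv.trans_apply, LinearEquiv.trans_apply]
  have h1 := congrArg Subtype.val ((LinearEquiv.ofInjective θ hθ).apply_symm_apply
    (LinearEquiv.ofEq _ _ h (LinearEquiv.ofInjective Ψ hΨ u)))
  exact h1

lemma iso_hom_injective {X Y : ModuleCat.{u} A} (i : X ≅ Y) : Function.Injective i.hom.hom := by
  intro a b h
  have h1 := congrArg i.inv.hom h
  have h2 : ∀ c : X, i.inv.hom (i.hom.hom c) = c := fun c => by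
    rw [← ModuleCat.comp_apply, Iso.hom_inv_id, ModuleCat.id_apply]
  rwa [h2, h2] at h1

lemma iso_hom_surjective {X Y : ModuleCat.{u} A} (i : X ≅ Y) :
    Function.Surjective i.hom.hom := by
  intro b
  refine ⟨i.inv.hom b, ?_⟩
  rw [← ModuleCat.comp_apply, Iso.inv_hom_id, ModuleCat.id_apply]

end linalg

section kappa
variable (P : ChainComplex (ModuleCat.{u} A) ℕ) (hP : GoodCx P)
  (Q : ChainComplex (ModuleCat.{u} A) ℕ) (hQ : GoodCx Q)

/-- the last connecting map `T_1(Z_m P) → T_0(Z_{m+1} P)` (complex `Q`). -/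
noncomputable def kappa (m : ℕ) :
    CohIII.T Q 1 (P.opcycles m) ⟶ CohIII.T Q 0 (P.opcycles (m + 1)) :=
  (tensorSC_shortExact Q hQ.flat (syzSC P m) (syzSC_shortExact P m (hP.exactAt m))).δ 1 0
    (relSucc 0)

lemma kappa_injective (m : ℕ) : Function.Injective (kappa P hP Q hQ m).hom := by
  have hSE := tensorSC_shortExact Q hQ.flat (syzSC P m) (syzSC_shortExact P m (hP.exactAt m))
  have hz : IsZero (CohIII.T Q 1 (syzSC P m).X₂) :=
    TFun_isZero_of_exactAt_of_flat Q 1 (hQ.exactAt 0) (syzSC P m).X₂ (hP.flat m)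
  have e3 := hSE.homology_exact₃ 1 0 (relSucc 0)
  haveI : Mono (hSE.δ 1 0 (relSucc 0)) := e3.mono_g (hz.eq_of_src _ _)
  exact (ModuleCat.mono_iff_injective (hSE.δ 1 0 (relSucc 0))).mp inferInstance

lemma kappa_range (m : ℕ) : LinearMap.range (kappa P hP Q hQ m).hom =
    LinearMap.ker ((CohIII.TFun Q 0).map (P.fromOpcycles (m + 1) m)).hom := by
  have hSE := tensorSC_shortExact Q hQ.flat (syzSC P m) (syzSC_shortExact P m (hP.exactAt m))
  have e1 := hSE.homology_exact₁ 1 0 (relSucc 0)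
  have hfe := (ShortComplex.ShortExact.moduleCat_exact_iff_function_exact _).mp e1
  exact (LinearMap.exact_iff.mp hfe).symm

end kappa

lemma kappa_nat {P P' Q Q' : ChainComplex (ModuleCat.{u} A) ℕ} (hP : GoodCx P) (hP' : GoodCx P')
    (hQ : GoodCx Q) (hQ' : GoodCx Q') (f : P ⟶ P') (φ : Q ⟶ Q') (m : ℕ) :
    kappa P hP Q hQ m ≫ Tbi φ (HomologicalComplex.opcyclesMap f (m + 1)) 0 =
      Tbi φ (HomologicalComplex.opcyclesMap f m) 1 ≫ kappa P' hP' Q' hQ' m :=
  δ_Tbi φ hQ.flat hQ'.flat (syzMap f m) (syzSC_shortExact P m (hP.exactAt m))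
    (syzSC_shortExact P' m (hP'.exactAt m)) 1 0 (relSucc 0)

section T0
variable {Q Q' : ChainComplex (ModuleCat.{u} A) ℕ} {Y Y' : ModuleCat.{u} A}

lemma T0Equiv_naturalityC (hQ : FlatRes Q Y) (hQ' : FlatRes Q' Y') (g : Y ⟶ Y') (φ : Q ⟶ Q')
    (hφ : φ.f 0 ≫ hQ'.ε = hQ.ε ≫ g) {X X' : ModuleCat.{u} A} (h : X ⟶ X')
    (t : (CohIII.TFun Q 0).obj X) :
    T0Equiv hQ' X' ((Tbi φ h 0).hom t) = TensorProduct.map g.hom h.hom (T0Equiv hQ X t) := by
  obtain ⟨u, rfl⟩ := clsT0_surjective Q X t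
  have hL : (Tbi φ h 0).hom (clsT0 Q X u) =
      clsT0 Q' X' (TensorProduct.map (φ.f 0).hom h.hom u) :=
    Tbi_clsT φ h 0 u (d_zero_next Q X u) (d_zero_next Q' X' _)
  rw [hL, T0Equiv_clsT0, T0Equiv_clsT0]
  clear hL
  induction u using TensorProduct.induction_on with
  | zero => simp only [map_zero]
  | tmul a b =>
    show (hQ'.ε.hom ((φ.f 0).hom a)) ⊗ₜ[A] (h.hom b) = (g.hom (hQ.ε.hom a)) ⊗ₜ[A] (h.hom b)
    have := congrArg (fun F => F.hom a) hφ
    exact congrArg (fun z => z ⊗ₜ[A] (h.hom b)) this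
  | add x y hx hy => simp only [map_add, hx, hy]

end T0

section theta
variable (P : ChainComplex (ModuleCat.{u} A) ℕ)

theorem exists_theta (i j : ℕ) (hj : (ComplexShape.down ℕ).next i = j) (Y : ModuleCat.{u} A) :
    ∃ θ : CohIII.T P i Y →ₗ[A] (P.opcycles i ⊗[A] Y), Function.Injective θ ∧
      LinearMap.range θ = LinearMap.ker ((P.fromOpcycles i j).hom.rTensor Y) ∧
      ∀ (x : P.X i ⊗[A] Y)
        (hx : LinearMap.rTensor Y (P.d i ((ComplexShape.down ℕ).next i)).hom x = 0),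
        θ (clsT P i Y x hx) = (P.pOpcycles i).hom.rTensor Y x := by
  obtain ⟨e, he⟩ := exists_opcycles_tensor_equiv P Y i
  have hcomm : ∀ w : (CohIII.tensorObj P Y).opcycles i,
      ((CohIII.tensorObj P Y).fromOpcycles i j).hom w =
        (P.fromOpcycles i j).hom.rTensor Y (e w) := by
    intro w
    obtain ⟨x, rfl⟩ := pOpcycles_surjective (CohIII.tensorObj P Y) i w
    rw [he, hom_p_fromOpcycles, ← LinearMap.comp_apply, ← LinearMap.rTensor_comp,
      ← ModuleCat.hom_comp, P.p_fromOpcycles]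
    exact LinearMap.congr_fun (tensorObj_d P Y i j) x
  refine ⟨e.toLinearMap ∘ₗ ((CohIII.tensorObj P Y).homologyι i).hom, ?_, ?_, ?_⟩
  · exact e.injective.comp (homologyι_injective (CohIII.tensorObj P Y) i)
  · ext w
    constructor
    · rintro ⟨h, rfl⟩
      rw [LinearMap.mem_ker]
      show (P.fromOpcycles i j).hom.rTensor Y (e (((CohIII.tensorObj P Y).homologyι i).hom h)) = 0
      rw [← hcomm]
      exact congrArg (fun F => F.hom h) ((CohIII.tensorObj P Y).homologyι_comp_fromOpcycles i j)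
    · intro hw
      rw [LinearMap.mem_ker] at hw
      have h0 : ((CohIII.tensorObj P Y).fromOpcycles i j).hom (e.symm w) = 0 := by
        rw [hcomm, e.apply_symm_apply]; exact hw
      obtain ⟨h, hh⟩ := (fromOpcycles_eq_zero_iff' (CohIII.tensorObj P Y) i j hj (e.symm w)).mp h0
      refine ⟨h, ?_⟩
      show e (((CohIII.tensorObj P Y).homologyι i).hom h) = w
      rw [hh, e.apply_symm_apply]
  · intro x hx
    have hx' : ((CohIII.tensorObj P Y).d i ((ComplexShape.down ℕ).next i)).hom x = 0 := by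
      rw [tensorObj_d]; exact hx
    have h1 : ((CohIII.tensorObj P Y).homologyι i).hom
        (((CohIII.tensorObj P Y).homologyπ i).hom (cyc (CohIII.tensorObj P Y) i x hx')) =
        ((CohIII.tensorObj P Y).pOpcycles i).hom
          (((CohIII.tensorObj P Y).iCycles i).hom (cyc (CohIII.tensorObj P Y) i x hx')) :=
      congrArg (fun F => F.hom (cyc (CohIII.tensorObj P Y) i x hx'))
        ((CohIII.tensorObj P Y).homology_π_ι i)
    rw [iCycles_cyc] at h1
    show e (((CohIII.tensorObj P Y).homologyι i).hom (cls (CohIII.tensorObj P Y) i x hx')) = _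
    unfold cls
    rw [h1, he]

/-- `θ : H_{m+1}(P ⊗ Y) ↪ Z_{m+1}(P) ⊗ Y`. -/
noncomputable def thetaMap (m : ℕ) (Y : ModuleCat.{u} A) :
    CohIII.T P (m + 1) Y →ₗ[A] (P.opcycles (m + 1) ⊗[A] Y) :=
  (exists_theta P (m + 1) m (ChainComplex.next_nat_succ m) Y).choose

lemma thetaMap_injective (m : ℕ) (Y : ModuleCat.{u} A) : Function.Injective (thetaMap P m Y) :=
  (exists_theta P (m + 1) m (ChainComplex.next_nat_succ m) Y).choose_spec.1

lemma thetaMap_range (m : ℕ) (Y : ModuleCat.{u} A) : LinearMap.range (thetaMap P m Y) =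
    LinearMap.ker ((P.fromOpcycles (m + 1) m).hom.rTensor Y) :=
  (exists_theta P (m + 1) m (ChainComplex.next_nat_succ m) Y).choose_spec.2.1

lemma thetaMap_clsT (m : ℕ) (Y : ModuleCat.{u} A) (x : P.X (m + 1) ⊗[A] Y)
    (hx : LinearMap.rTensor Y (P.d (m + 1) ((ComplexShape.down ℕ).next (m + 1))).hom x = 0) :
    thetaMap P m Y (clsT P (m + 1) Y x hx) = (P.pOpcycles (m + 1)).hom.rTensor Y x :=
  (exists_theta P (m + 1) m (ChainComplex.next_nat_succ m) Y).choose_spec.2.2 x hx

end theta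

lemma thetaMap_natural {P P' : ChainComplex (ModuleCat.{u} A) ℕ} (ft : P ⟶ P')
    {Y Y' : ModuleCat.{u} A} (g : Y ⟶ Y') (m : ℕ) (h : CohIII.T P (m + 1) Y) :
    thetaMap P' m Y' ((Tbi ft g (m + 1)).hom h) =
      TensorProduct.map (HomologicalComplex.opcyclesMap ft (m + 1)).hom g.hom
        (thetaMap P m Y h) := by
  obtain ⟨x, hx, rfl⟩ := clsT_surjective P (m + 1) Y h
  rw [Tbi_clsT ft g (m + 1) x hx (map_cycle ft g (m + 1) x hx), thetaMap_clsT, thetaMap_clsT]
  have key : (LinearMap.rTensor Y' (P'.pOpcycles (m + 1)).hom) ∘ₗ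
      (TensorProduct.map (ft.f (m + 1)).hom g.hom) =
      (TensorProduct.map (HomologicalComplex.opcyclesMap ft (m + 1)).hom g.hom) ∘ₗ
        (LinearMap.rTensor Y (P.pOpcycles (m + 1)).hom) := by
    apply TensorProduct.ext'
    intro a b
    show ((P'.pOpcycles (m + 1)).hom ((ft.f (m + 1)).hom a)) ⊗ₜ[A] (g.hom b) =
      ((HomologicalComplex.opcyclesMap ft (m + 1)).hom ((P.pOpcycles (m + 1)).hom a)) ⊗ₜ[A]
        (g.hom b)
    have := congrArg (fun F => F.hom a) (HomologicalComplex.p_opcyclesMap ft (m + 1))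
    exact congrArg (fun z => z ⊗ₜ[A] (g.hom b)) this.symm
  exact LinearMap.congr_fun key x

end Groth.Agent.Lib.Helper7
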