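import Mathlib
import Groth.Prelude.Def_ega3
import Groth.Agent.Lib.Helper7.TorNat3
set_option autoImplicit false
universe u
open CategoryTheory CategoryTheory.Limits MonoidalCategory TensorProduct

namespace Groth.Agent.Lib.Helper7

variable {A : Type u} [CommRing A]

theorem exists_shift_natural_zero (m : ℕ) :
    ∃ σ : ∀ (P Q : ChainComplex (ModuleCat.{u} A) ℕ), GoodCx P → GoodCx Q →
        (CohIII.T Q (m + 1) (P.opcycles 0) ≅ CohIII.T Q 1 (P.opcycles m)),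
      ∀ (P P' Q Q' : ChainComplex (ModuleCat.{u} A) ℕ) (hP : GoodCx P) (hP' : GoodCx P')
        (hQ : GoodCx Q) (hQ' : GoodCx Q') (f : P ⟶ P') (φ : Q ⟶ Q'),
        (σ P Q hP hQ).hom ≫ Tbi φ (HomologicalComplex.opcyclesMap f m) 1 =
          Tbi φ (HomologicalComplex.opcyclesMap f 0) (m + 1) ≫ (σ P' Q' hP' hQ').hom := by
  have := exists_shift_natural (A := A) m 0
  rwa [Nat.zero_add] at this

/-- the natural dimension shift `T_{m+1}^Q(Z_0 P) ≅ T_1^Q(Z_m P)`. -/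
noncomputable def sigma0 (m : ℕ) (P Q : ChainComplex (ModuleCat.{u} A) ℕ) (hP : GoodCx P)
    (hQ : GoodCx Q) : CohIII.T Q (m + 1) (P.opcycles 0) ≅ CohIII.T Q 1 (P.opcycles m) :=
  (exists_shift_natural_zero (A := A) m).choose P Q hP hQ

lemma sigma0_nat (m : ℕ) {P P' Q Q' : ChainComplex (ModuleCat.{u} A) ℕ} (hP : GoodCx P)
    (hP' : GoodCx P') (hQ : GoodCx Q) (hQ' : GoodCx Q') (f : P ⟶ P') (φ : Q ⟶ Q') :
    (sigma0 m P Q hP hQ).hom ≫ Tbi φ (HomologicalComplex.opcyclesMap f m) 1 =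
      Tbi φ (HomologicalComplex.opcyclesMap f 0) (m + 1) ≫ (sigma0 m P' Q' hP' hQ').hom :=
  (exists_shift_natural_zero (A := A) m).choose_spec P P' Q Q' hP hP' hQ hQ' f φ

section isoZero
variable {P P' : ChainComplex (ModuleCat.{u} A) ℕ} {M M' : ModuleCat.{u} A}

lemma opcyclesZeroEquiv_pOpcycles (hP : FlatRes P M) (x : P.X 0) :
    hP.opcyclesZeroEquiv ((P.pOpcycles 0).hom x) = hP.ε.hom x :=
  equivOfSurjOfKerEq_apply _ _ _ _ _ x

/-- `M ≅ coker (P₁ → P₀)`. -/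
noncomputable def isoZero (hP : FlatRes P M) : M ≅ P.opcycles 0 :=
  (hP.opcyclesZeroEquiv.toModuleIso).symm

lemma isoZero_inv_nat (hP : FlatRes P M) (hP' : FlatRes P' M') (f : M ⟶ M') (ft : P ⟶ P')
    (hft : ft.f 0 ≫ hP'.ε = hP.ε ≫ f) :
    HomologicalComplex.opcyclesMap ft 0 ≫ (isoZero hP').inv = (isoZero hP).inv ≫ f := by
  ext z
  obtain ⟨x, rfl⟩ := pOpcycles_surjective P 0 z
  show hP'.opcyclesZeroEquiv ((HomologicalComplex.opcyclesMap ft 0).hom ((P.pOpcycles 0).hom x)) =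
    f.hom (hP.opcyclesZeroEquiv ((P.pOpcycles 0).hom x))
  have h1 : (HomologicalComplex.opcyclesMap ft 0).hom ((P.pOpcycles 0).hom x) =
      (P'.pOpcycles 0).hom ((ft.f 0).hom x) :=
    congrArg (fun F => F.hom x) (HomologicalComplex.p_opcyclesMap ft 0)
  rw [h1, opcyclesZeroEquiv_pOpcycles, opcyclesZeroEquiv_pOpcycles]
  exact congrArg (fun F => F.hom x) hft

lemma isoZero_nat (hP : FlatRes P M) (hP' : FlatRes P' M') (f : M ⟶ M') (ft : P ⟶ P')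
    (hft : ft.f 0 ≫ hP'.ε = hP.ε ≫ f) :
    (isoZero hP).hom ≫ HomologicalComplex.opcyclesMap ft 0 = f ≫ (isoZero hP').hom := by
  rw [← Iso.comp_inv_eq, Category.assoc, isoZero_inv_nat hP hP' f ft hft, Iso.hom_inv_id_assoc]

end isoZero

section Psi
variable {P P' Q Q' : ChainComplex (ModuleCat.{u} A) ℕ} {M M' Y Y' : ModuleCat.{u} A}

/-- the iso part `T_{m+1}^Q(M) ≅ T_1^Q(Z_m P)`. -/
noncomputable def preIso (hP : FlatRes P M) (hQ : FlatRes Q Y) (m : ℕ) :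
    CohIII.T Q (m + 1) M ≅ CohIII.T Q 1 (P.opcycles m) :=
  (CohIII.TFun Q (m + 1)).mapIso (isoZero hP) ≪≫ sigma0 m P Q hP.good hQ.good

lemma preIso_nat (hP : FlatRes P M) (hP' : FlatRes P' M') (hQ : FlatRes Q Y)
    (hQ' : FlatRes Q' Y') (f : M ⟶ M') (ft : P ⟶ P') (hft : ft.f 0 ≫ hP'.ε = hP.ε ≫ f)
    (φ : Q ⟶ Q') (m : ℕ) :
    (preIso hP hQ m).hom ≫ Tbi φ (HomologicalComplex.opcyclesMap ft m) 1 =
      Tbi φ f (m + 1) ≫ (preIso hP' hQ' m).hom := by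
  have e3 := Tbi_comm φ f (HomologicalComplex.opcyclesMap ft 0) (isoZero hP).hom
    (isoZero hP').hom (isoZero_nat hP hP' f ft hft) (m + 1)
  have e4 := sigma0_nat m hP.good hP'.good hQ.good hQ'.good ft φ
  show ((CohIII.TFun Q (m + 1)).map (isoZero hP).hom ≫ (sigma0 m P Q hP.good hQ.good).hom) ≫
      Tbi φ (HomologicalComplex.opcyclesMap ft m) 1 =
    Tbi φ f (m + 1) ≫ ((CohIII.TFun Q' (m + 1)).map (isoZero hP').hom ≫
      (sigma0 m P' Q' hP'.good hQ'.good).hom)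
  exact (Category.assoc _ _ _).trans
    ((congrArg (fun z => (CohIII.TFun Q (m + 1)).map (isoZero hP).hom ≫ z) e4).trans
      ((Category.assoc _ _ _).symm.trans
        ((congrArg (fun z => z ≫ (sigma0 m P' Q' hP'.good hQ'.good).hom) e3).trans
          (Category.assoc _ _ _))))

lemma preIso_nat_apply (hP : FlatRes P M) (hP' : FlatRes P' M') (hQ : FlatRes Q Y)
    (hQ' : FlatRes Q' Y') (f : M ⟶ M') (ft : P ⟶ P') (hft : ft.f 0 ≫ hP'.ε = hP.ε ≫ f)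
    (φ : Q ⟶ Q') (m : ℕ) (x : CohIII.T Q (m + 1) M) :
    (preIso hP' hQ' m).hom.hom ((Tbi φ f (m + 1)).hom x) =
      (Tbi φ (HomologicalComplex.opcyclesMap ft m) 1).hom ((preIso hP hQ m).hom.hom x) :=
  (congrArg (fun F => F.hom x) (preIso_nat hP hP' hQ hQ' f ft hft φ m)).symm

lemma kappa_nat_apply (hP : GoodCx P) (hP' : GoodCx P') (hQ : GoodCx Q) (hQ' : GoodCx Q')
    (ft : P ⟶ P') (φ : Q ⟶ Q') (m : ℕ) (s : CohIII.T Q 1 (P.opcycles m)) :
    (kappa P' hP' Q' hQ' m).hom ((Tbi φ (HomologicalComplex.opcyclesMap ft m) 1).hom s) =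
      (Tbi φ (HomologicalComplex.opcyclesMap ft (m + 1)) 0).hom ((kappa P hP Q hQ m).hom s) :=
  (congrArg (fun F => F.hom s) (kappa_nat hP hP' hQ hQ' ft φ m)).symm

/-- `T_0^Q(X) ≃ X ⊗ Y`. -/
noncomputable def LEquiv (hQ : FlatRes Q Y) (X : ModuleCat.{u} A) :
    (CohIII.TFun Q 0).obj X ≃ₗ[A] (X ⊗[A] Y) :=
  (T0Equiv hQ X) ≪≫ₗ TensorProduct.comm A Y X

lemma LEquiv_apply (hQ : FlatRes Q Y) (X : ModuleCat.{u} A) (t : (CohIII.TFun Q 0).obj X) :
    LEquiv hQ X t = TensorProduct.comm A Y X (T0Equiv hQ X t) := rfl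

lemma LEquiv_map (hQ : FlatRes Q Y) {X X' : ModuleCat.{u} A} (g : X ⟶ X')
    (t : (CohIII.TFun Q 0).obj X) :
    LEquiv hQ X' (((CohIII.TFun Q 0).map g).hom t) =
      LinearMap.rTensor Y g.hom (LEquiv hQ X t) := by
  rw [LEquiv_apply, LEquiv_apply, T0Equiv_naturality, comm_lTensor]

lemma LEquiv_Tbi (hQ : FlatRes Q Y) (hQ' : FlatRes Q' Y') (g : Y ⟶ Y') (φ : Q ⟶ Q')
    (hφ : φ.f 0 ≫ hQ'.ε = hQ.ε ≫ g) {X X' : ModuleCat.{u} A} (h : X ⟶ X')
    (t : (CohIII.TFun Q 0).obj X) :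
    LEquiv hQ' X' ((Tbi φ h 0).hom t) = TensorProduct.map h.hom g.hom (LEquiv hQ X t) := by
  have h1 : LEquiv hQ' X' ((Tbi φ h 0).hom t) =
      TensorProduct.comm A Y' X' (T0Equiv hQ' X' ((Tbi φ h 0).hom t)) := rfl
  rw [h1, LEquiv_apply, T0Equiv_naturalityC hQ hQ' g φ hφ h t, comm_map]

/-- `Ψ : T_{m+1}^Q(M) ↪ Z_{m+1}(P) ⊗ Y`. -/
noncomputable def PsiMap (hP : FlatRes P M) (hQ : FlatRes Q Y) (m : ℕ) :
    CohIII.T Q (m + 1) M →ₗ[A] (P.opcycles (m + 1) ⊗[A] Y) :=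
  (LEquiv hQ (P.opcycles (m + 1))).toLinearMap ∘ₗ (kappa P hP.good Q hQ.good m).hom ∘ₗ
    (preIso hP hQ m).hom.hom

lemma PsiMap_apply (hP : FlatRes P M) (hQ : FlatRes Q Y) (m : ℕ) (x : CohIII.T Q (m + 1) M) :
    PsiMap hP hQ m x = LEquiv hQ (P.opcycles (m + 1))
      ((kappa P hP.good Q hQ.good m).hom ((preIso hP hQ m).hom.hom x)) := rfl

lemma PsiMap_injective (hP : FlatRes P M) (hQ : FlatRes Q Y) (m : ℕ) :
    Function.Injective (PsiMap hP hQ m) := by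
  intro a b hab
  rw [PsiMap_apply, PsiMap_apply] at hab
  exact iso_hom_injective (preIso hP hQ m)
    (kappa_injective P hP.good Q hQ.good m ((LEquiv hQ _).injective hab))

lemma PsiMap_range (hP : FlatRes P M) (hQ : FlatRes Q Y) (m : ℕ) :
    LinearMap.range (PsiMap hP hQ m) =
      LinearMap.ker ((P.fromOpcycles (m + 1) m).hom.rTensor Y) := by
  ext w
  constructor
  · rintro ⟨x, rfl⟩
    have hk : ((CohIII.TFun Q 0).map (P.fromOpcycles (m + 1) m)).hom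
        ((kappa P hP.good Q hQ.good m).hom ((preIso hP hQ m).hom.hom x)) = 0 := by
      have hmem : (kappa P hP.good Q hQ.good m).hom ((preIso hP hQ m).hom.hom x) ∈
          LinearMap.range (kappa P hP.good Q hQ.good m).hom := ⟨_, rfl⟩
      rw [kappa_range P hP.good Q hQ.good m] at hmem
      exact LinearMap.mem_ker.mp hmem
    have h2 := LEquiv_map hQ (P.fromOpcycles (m + 1) m)
      ((kappa P hP.good Q hQ.good m).hom ((preIso hP hQ m).hom.hom x))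
    exact h2.symm.trans ((congrArg (LEquiv hQ (P.X m)) hk).trans (map_zero _))
  · intro hw
    have hw' : (P.fromOpcycles (m + 1) m).hom.rTensor Y w = 0 := hw
    have h1 : ((CohIII.TFun Q 0).map (P.fromOpcycles (m + 1) m)).hom
        ((LEquiv hQ (P.opcycles (m + 1))).symm w) = 0 := by
      apply (LEquiv hQ (P.X m)).injective
      have h3 := LEquiv_map hQ (P.fromOpcycles (m + 1) m)
        ((LEquiv hQ (P.opcycles (m + 1))).symm w)
      rw [LinearEquiv.apply_symm_apply] at h3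
      exact h3.trans (hw'.trans (map_zero _).symm)
    have h2 : (LEquiv hQ (P.opcycles (m + 1))).symm w ∈
        LinearMap.range (kappa P hP.good Q hQ.good m).hom := by
      rw [kappa_range P hP.good Q hQ.good m]
      exact LinearMap.mem_ker.mpr h1
    obtain ⟨s, hs⟩ := h2
    obtain ⟨x, hx⟩ := iso_hom_surjective (preIso hP hQ m) s
    refine ⟨x, ?_⟩
    have h4 : PsiMap hP hQ m x = LEquiv hQ (P.opcycles (m + 1))
        ((kappa P hP.good Q hQ.good m).hom s) :=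
      congrArg (fun z => LEquiv hQ (P.opcycles (m + 1))
        ((kappa P hP.good Q hQ.good m).hom z)) hx
    exact h4.trans ((congrArg (LEquiv hQ (P.opcycles (m + 1))) hs).trans
      (LinearEquiv.apply_symm_apply _ w))

lemma PsiMap_natural (hP : FlatRes P M) (hP' : FlatRes P' M') (hQ : FlatRes Q Y)
    (hQ' : FlatRes Q' Y') (f : M ⟶ M') (ft : P ⟶ P') (hft : ft.f 0 ≫ hP'.ε = hP.ε ≫ f)
    (g : Y ⟶ Y') (φ : Q ⟶ Q') (hφ : φ.f 0 ≫ hQ'.ε = hQ.ε ≫ g) (m : ℕ)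
    (x : CohIII.T Q (m + 1) M) :
    PsiMap hP' hQ' m ((Tbi φ f (m + 1)).hom x) =
      TensorProduct.map (HomologicalComplex.opcyclesMap ft (m + 1)).hom g.hom
        (PsiMap hP hQ m x) := by
  have h1 := preIso_nat_apply hP hP' hQ hQ' f ft hft φ m x
  have h2 := kappa_nat_apply hP.good hP'.good hQ.good hQ'.good ft φ m
    ((preIso hP hQ m).hom.hom x)
  have h3 := LEquiv_Tbi hQ hQ' g φ hφ (HomologicalComplex.opcyclesMap ft (m + 1))
    ((kappa P hP.good Q hQ.good m).hom ((preIso hP hQ m).hom.hom x))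
  have h4 : PsiMap hP' hQ' m ((Tbi φ f (m + 1)).hom x) =
      LEquiv hQ' (P'.opcycles (m + 1)) ((kappa P' hP'.good Q' hQ'.good m).hom
        ((Tbi φ (HomologicalComplex.opcyclesMap ft m) 1).hom ((preIso hP hQ m).hom.hom x))) :=
    congrArg (fun z => LEquiv hQ' (P'.opcycles (m + 1))
      ((kappa P' hP'.good Q' hQ'.good m).hom z)) h1
  exact h4.trans ((congrArg (LEquiv hQ' (P'.opcycles (m + 1))) h2).trans h3)

/-- the balancing equivalence in positive degrees. -/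
noncomputable def betaS (hP : FlatRes P M) (hQ : FlatRes Q Y) (m : ℕ) :
    CohIII.T Q (m + 1) M ≃ₗ[A] CohIII.T P (m + 1) Y :=
  equivOfInjOfRangeEq (PsiMap hP hQ m) (thetaMap P m Y) (PsiMap_injective hP hQ m)
    (thetaMap_injective P m Y) ((PsiMap_range hP hQ m).trans (thetaMap_range P m Y).symm)

lemma thetaMap_betaS (hP : FlatRes P M) (hQ : FlatRes Q Y) (m : ℕ) (x : CohIII.T Q (m + 1) M) :
    thetaMap P m Y (betaS hP hQ m x) = PsiMap hP hQ m x :=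
  equivOfInjOfRangeEq_spec _ _ _ _ _ x

lemma betaS_natural (hP : FlatRes P M) (hP' : FlatRes P' M') (hQ : FlatRes Q Y)
    (hQ' : FlatRes Q' Y') (f : M ⟶ M') (ft : P ⟶ P') (hft : ft.f 0 ≫ hP'.ε = hP.ε ≫ f)
    (g : Y ⟶ Y') (φ : Q ⟶ Q') (hφ : φ.f 0 ≫ hQ'.ε = hQ.ε ≫ g) (m : ℕ)
    (x : CohIII.T Q (m + 1) M) :
    betaS hP' hQ' m ((Tbi φ f (m + 1)).hom x) = (Tbi ft g (m + 1)).hom (betaS hP hQ m x) := by
  apply thetaMap_injective P' m Y'
  rw [thetaMap_betaS, thetaMap_natural, thetaMap_betaS,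
    PsiMap_natural hP hP' hQ hQ' f ft hft g φ hφ m x]

/-- the balancing equivalence in degree zero. -/
noncomputable def beta0 (hP : FlatRes P M) (hQ : FlatRes Q Y) :
    (CohIII.TFun Q 0).obj M ≃ₗ[A] (CohIII.TFun P 0).obj Y :=
  LEquiv hQ M ≪≫ₗ (T0Equiv hP Y).symm

lemma beta0_natural (hP : FlatRes P M) (hP' : FlatRes P' M') (hQ : FlatRes Q Y)
    (hQ' : FlatRes Q' Y') (f : M ⟶ M') (ft : P ⟶ P') (hft : ft.f 0 ≫ hP'.ε = hP.ε ≫ f)
    (g : Y ⟶ Y') (φ : Q ⟶ Q') (hφ : φ.f 0 ≫ hQ'.ε = hQ.ε ≫ g)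
    (x : (CohIII.TFun Q 0).obj M) :
    beta0 hP' hQ' ((Tbi φ f 0).hom x) = (Tbi ft g 0).hom (beta0 hP hQ x) := by
  apply (T0Equiv hP' Y').injective
  have h1 := T0Equiv_naturalityC hP hP' f ft hft g (beta0 hP hQ x)
  have h2 : T0Equiv hP Y (beta0 hP hQ x) = LEquiv hQ M x :=
    LinearEquiv.apply_symm_apply (T0Equiv hP Y) (LEquiv hQ M x)
  have h3 : T0Equiv hP' Y' (beta0 hP' hQ' ((Tbi φ f 0).hom x)) =
      LEquiv hQ' M' ((Tbi φ f 0).hom x) :=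
    LinearEquiv.apply_symm_apply (T0Equiv hP' Y') (LEquiv hQ' M' ((Tbi φ f 0).hom x))
  have h4 := LEquiv_Tbi hQ hQ' g φ hφ f x
  exact h3.trans (h4.trans ((congrArg (TensorProduct.map f.hom g.hom) h2).symm.trans h1.symm))

end Psi

/-- natural balancing of `T`: for flat resolutions `P → M`, `Q → Y`,
`H_n(Q ⊗ M) ≃ H_n(P ⊗ Y)`, compatibly with maps of resolutions. -/
theorem exists_beta_natural (n : ℕ) :
    ∃ β : ∀ (P Q : ChainComplex (ModuleCat.{u} A) ℕ) (M Y : ModuleCat.{u} A),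
        FlatRes P M → FlatRes Q Y → (CohIII.T Q n M ≃ₗ[A] CohIII.T P n Y),
      ∀ (P P' Q Q' : ChainComplex (ModuleCat.{u} A) ℕ) (M M' Y Y' : ModuleCat.{u} A)
        (hP : FlatRes P M) (hP' : FlatRes P' M') (hQ : FlatRes Q Y) (hQ' : FlatRes Q' Y')
        (f : M ⟶ M') (ft : P ⟶ P') (_ : ft.f 0 ≫ hP'.ε = hP.ε ≫ f)
        (g : Y ⟶ Y') (φ : Q ⟶ Q') (_ : φ.f 0 ≫ hQ'.ε = hQ.ε ≫ g) (x : CohIII.T Q n M),
        β P' Q' M' Y' hP' hQ' ((Tbi φ f n).hom x) =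
          (Tbi ft g n).hom (β P Q M Y hP hQ x) := by
  cases n with
  | zero =>
    exact ⟨fun P Q M Y hP hQ => beta0 hP hQ,
      fun P P' Q Q' M M' Y Y' hP hP' hQ hQ' f ft hft g φ hφ x =>
        beta0_natural hP hP' hQ hQ' f ft hft g φ hφ x⟩
  | succ m =>
    exact ⟨fun P Q M Y hP hQ => betaS hP hQ m,
      fun P P' Q Q' M M' Y Y' hP hP' hQ hQ' f ft hft g φ hφ x =>
        betaS_natural hP hP' hQ hQ' f ft hft g φ hφ m x⟩

/-- the chosen natural balancing equivalence. -/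
noncomputable def betaN (n : ℕ) {P Q : ChainComplex (ModuleCat.{u} A) ℕ} {M Y : ModuleCat.{u} A}
    (hP : FlatRes P M) (hQ : FlatRes Q Y) : CohIII.T Q n M ≃ₗ[A] CohIII.T P n Y :=
  (exists_beta_natural (A := A) n).choose P Q M Y hP hQ

lemma betaN_natural (n : ℕ) {P P' Q Q' : ChainComplex (ModuleCat.{u} A) ℕ}
    {M M' Y Y' : ModuleCat.{u} A}
    (hP : FlatRes P M) (hP' : FlatRes P' M') (hQ : FlatRes Q Y) (hQ' : FlatRes Q' Y')
    (f : M ⟶ M') (ft : P ⟶ P') (hft : ft.f 0 ≫ hP'.ε = hP.ε ≫ f)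
    (g : Y ⟶ Y') (φ : Q ⟶ Q') (hφ : φ.f 0 ≫ hQ'.ε = hQ.ε ≫ g) (x : CohIII.T Q n M) :
    betaN n hP' hQ' ((Tbi φ f n).hom x) = (Tbi ft g n).hom (betaN n hP hQ x) :=
  (exists_beta_natural (A := A) n).choose_spec P P' Q Q' M M' Y Y' hP hP' hQ hQ' f ft hft g φ hφ x

end Groth.Agent.Lib.Helper7
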