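import Mathlib
import Groth.Prelude.Def_ega3
import Groth.Agent.Lib.Helper7.TorNat4
set_option autoImplicit false
universe u
open CategoryTheory CategoryTheory.Limits MonoidalCategory TensorProduct

namespace Groth.Agent.Lib.Helper7

section generic
universe v w
variable {C : Type w} [Category.{v} C]

lemma comp_three_squares {X1 X2 X3 X4 Y1 Y2 Y3 Y4 : C}
    (a1 : X1 ⟶ X2) (a2 : X2 ⟶ X3) (a3 : X3 ⟶ X4) (b1 : Y1 ⟶ Y2) (b2 : Y2 ⟶ Y3) (b3 : Y3 ⟶ Y4)
    (v1 : X1 ⟶ Y1) (v2 : X2 ⟶ Y2) (v3 : X3 ⟶ Y3) (v4 : X4 ⟶ Y4)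
    (h1 : v1 ≫ b1 = a1 ≫ v2) (h2 : v2 ≫ b2 = a2 ≫ v3) (h3 : v3 ≫ b3 = a3 ≫ v4) :
    v1 ≫ (b1 ≫ b2 ≫ b3) = (a1 ≫ a2 ≫ a3) ≫ v4 := by
  rw [reassoc_of% h1, reassoc_of% h2, h3]
  simp only [Category.assoc]

lemma comp_two_squares {X1 X2 X3 Y1 Y2 Y3 : C}
    (a1 : X1 ⟶ X2) (a2 : X2 ⟶ X3) (b1 : Y1 ⟶ Y2) (b2 : Y2 ⟶ Y3)
    (v1 : X1 ⟶ Y1) (v2 : X2 ⟶ Y2) (v3 : X3 ⟶ Y3)
    (h1 : v1 ≫ b1 = a1 ≫ v2) (h2 : v2 ≫ b2 = a2 ≫ v3) :
    v1 ≫ (b1 ≫ b2) = (a1 ≫ a2) ≫ v3 := by
  rw [reassoc_of% h1, h2]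
  simp only [Category.assoc]

lemma inv_square {X X' Z Z' : C} (t : X ≅ Z) (t' : X' ≅ Z') (a : X ⟶ X') (c : Z ⟶ Z')
    (h : a ≫ t'.hom = t.hom ≫ c) : c ≫ t'.inv = t.inv ≫ a := by
  rw [Iso.comp_inv_eq, Category.assoc, h, Iso.inv_hom_id_assoc]

end generic

variable {A : Type u} [CommRing A]

lemma torIsoT_naturality₂ {Y Y' : ModuleCat.{u} A} (g : Y ⟶ Y') (Q : ProjectiveResolution Y)
    (Q' : ProjectiveResolution Y') (φ : Q.complex ⟶ Q'.complex)
    (comm : φ.f 0 ≫ Q'.π.f 0 = Q.π.f 0 ≫ g) (n : ℕ) (M : ModuleCat.{u} A) :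
    ((Tor (ModuleCat.{u} A) n).obj M).map g ≫ (torIsoT Y' Q' n M).hom =
      (torIsoT Y Q n M).hom ≫ HomologicalComplex.homologyMap (tensorMapC φ M) n := by
  have h1 : (((tensoringLeft (ModuleCat.{u} A)).obj M).leftDerived n).map g ≫
      (Q'.isoLeftDerivedObj ((tensoringLeft (ModuleCat.{u} A)).obj M) n).hom =
      (Q.isoLeftDerivedObj ((tensoringLeft (ModuleCat.{u} A)).obj M) n).hom ≫
      (HomologicalComplex.homologyFunctor (ModuleCat.{u} A) (ComplexShape.down ℕ) n).map
        ((((tensoringLeft (ModuleCat.{u} A)).obj M).mapHomologicalComplex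
          (ComplexShape.down ℕ)).map φ) :=
    ProjectiveResolution.isoLeftDerivedObj_hom_naturality g Q Q' φ comm
      ((tensoringLeft (ModuleCat.{u} A)).obj M) n
  have key : (HomologicalComplex.homologyFunctor (ModuleCat.{u} A) (ComplexShape.down ℕ) n).map
        ((((tensoringLeft (ModuleCat.{u} A)).obj M).mapHomologicalComplex
          (ComplexShape.down ℕ)).map φ) ≫
      (HomologicalComplex.homologyFunctor (ModuleCat.{u} A) (ComplexShape.down ℕ) n).map
        ((NatTrans.mapHomologicalComplex (BraidedCategory.tensorLeftIsoTensorRight M).hom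
          (ComplexShape.down ℕ)).app Q'.complex) =
      (HomologicalComplex.homologyFunctor (ModuleCat.{u} A) (ComplexShape.down ℕ) n).map
        ((NatTrans.mapHomologicalComplex (BraidedCategory.tensorLeftIsoTensorRight M).hom
          (ComplexShape.down ℕ)).app Q.complex) ≫
      (HomologicalComplex.homologyFunctor (ModuleCat.{u} A) (ComplexShape.down ℕ) n).map
        (tensorMapC φ M) := by
    rw [← Functor.map_comp, ← Functor.map_comp]
    exact congrArg (fun z =>
      (HomologicalComplex.homologyFunctor (ModuleCat.{u} A) (ComplexShape.down ℕ) n).map z)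
      ((NatTrans.mapHomologicalComplex (BraidedCategory.tensorLeftIsoTensorRight M).hom
          (ComplexShape.down ℕ)).naturality φ)
  show (((tensoringLeft (ModuleCat.{u} A)).obj M).leftDerived n).map g ≫
      ((Q'.isoLeftDerivedObj ((tensoringLeft (ModuleCat.{u} A)).obj M) n).hom ≫
        (HomologicalComplex.homologyFunctor (ModuleCat.{u} A) (ComplexShape.down ℕ) n).map
          ((NatTrans.mapHomologicalComplex (BraidedCategory.tensorLeftIsoTensorRight M).hom
            (ComplexShape.down ℕ)).app Q'.complex)) =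
      ((Q.isoLeftDerivedObj ((tensoringLeft (ModuleCat.{u} A)).obj M) n).hom ≫
        (HomologicalComplex.homologyFunctor (ModuleCat.{u} A) (ComplexShape.down ℕ) n).map
          ((NatTrans.mapHomologicalComplex (BraidedCategory.tensorLeftIsoTensorRight M).hom
            (ComplexShape.down ℕ)).app Q.complex)) ≫
      (HomologicalComplex.homologyFunctor (ModuleCat.{u} A) (ComplexShape.down ℕ) n).map
        (tensorMapC φ M)
  rw [← Category.assoc, h1, Category.assoc, key, Category.assoc]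

section beta
variable {P P' Q Q' : ChainComplex (ModuleCat.{u} A) ℕ} {M M' Y Y' : ModuleCat.{u} A}

/-- the balancing isomorphism as an iso in `ModuleCat`. -/
noncomputable def betaIso (n : ℕ) (hP : FlatRes P M) (hQ : FlatRes Q Y) :
    CohIII.T Q n M ≅ CohIII.T P n Y :=
  (betaN n hP hQ).toModuleIso

lemma betaIso_natural (n : ℕ) (hP : FlatRes P M) (hP' : FlatRes P' M') (hQ : FlatRes Q Y)
    (hQ' : FlatRes Q' Y') (f : M ⟶ M') (ft : P ⟶ P') (hft : ft.f 0 ≫ hP'.ε = hP.ε ≫ f)
    (g : Y ⟶ Y') (φ : Q ⟶ Q') (hφ : φ.f 0 ≫ hQ'.ε = hQ.ε ≫ g) :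
    Tbi φ f n ≫ (betaIso n hP' hQ').hom = (betaIso n hP hQ).hom ≫ Tbi ft g n := by
  ext x
  exact betaN_natural n hP hP' hQ hQ' f ft hft g φ hφ x

end beta

lemma lift_comm {M M' : ModuleCat.{u} A} (f : M ⟶ M') (PM : ProjectiveResolution M)
    (PM' : ProjectiveResolution M') :
    (ProjectiveResolution.lift f PM PM').f 0 ≫ (FlatRes.ofProjectiveResolution PM').ε =
      (FlatRes.ofProjectiveResolution PM).ε ≫ f := by
  have h := ProjectiveResolution.lift_commutes_zero f PM PM'
  ext x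
  exact congrArg (fun F => F.hom x) h

lemma id_comm {M : ModuleCat.{u} A} {P : ChainComplex (ModuleCat.{u} A) ℕ} (hP : FlatRes P M) :
    (𝟙 P : P ⟶ P).f 0 ≫ hP.ε = hP.ε ≫ 𝟙 M := by
  rw [HomologicalComplex.id_f, Category.id_comp, Category.comp_id]

/-- the chosen projective resolution as a flat resolution. -/
noncomputable abbrev frOf (M : ModuleCat.{u} A) :
    FlatRes (ProjectiveResolution.of M).complex M :=
  FlatRes.ofProjectiveResolution (ProjectiveResolution.of M)

/-- the symmetry isomorphism `Tor_n(M, Y) ≅ Tor_n(Y, M)`. -/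
noncomputable def torFlipIso (n : ℕ) (M Y : ModuleCat.{u} A) :
    ((Tor (ModuleCat.{u} A) n).obj M).obj Y ≅ ((Tor (ModuleCat.{u} A) n).obj Y).obj M :=
  torIsoT Y (ProjectiveResolution.of Y) n M ≪≫ betaIso n (frOf M) (frOf Y) ≪≫
    (torIsoT M (ProjectiveResolution.of M) n Y).symm

lemma torFlipIso_natural_right (n : ℕ) (M : ModuleCat.{u} A) {Y Y' : ModuleCat.{u} A}
    (g : Y ⟶ Y') :
    ((Tor (ModuleCat.{u} A) n).obj M).map g ≫ (torFlipIso n M Y').hom =
      (torFlipIso n M Y).hom ≫ ((Tor (ModuleCat.{u} A) n).map g).app M := by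
  have h1 : ((Tor (ModuleCat.{u} A) n).obj M).map g ≫
      (torIsoT Y' (ProjectiveResolution.of Y') n M).hom =
      (torIsoT Y (ProjectiveResolution.of Y) n M).hom ≫
        Tbi (ProjectiveResolution.lift g (ProjectiveResolution.of Y)
          (ProjectiveResolution.of Y')) (𝟙 M) n :=
    (torIsoT_naturality₂ g _ _ _ (ProjectiveResolution.lift_commutes_zero g _ _) n M).trans
      (congrArg (fun z => (torIsoT Y (ProjectiveResolution.of Y) n M).hom ≫ z)
        (Tbi_id_right _ M n).symm)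
  have h2 := betaIso_natural n (frOf M) (frOf M) (frOf Y) (frOf Y') (𝟙 M) (𝟙 _)
    (id_comm (frOf M)) g (ProjectiveResolution.lift g (ProjectiveResolution.of Y)
      (ProjectiveResolution.of Y')) (lift_comm g _ _)
  have h3 : Tbi (𝟙 (ProjectiveResolution.of M).complex) g n ≫
      (torIsoT M (ProjectiveResolution.of M) n Y').inv =
      (torIsoT M (ProjectiveResolution.of M) n Y).inv ≫
        ((Tor (ModuleCat.{u} A) n).map g).app M :=
    inv_square (torIsoT M (ProjectiveResolution.of M) n Y)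
      (torIsoT M (ProjectiveResolution.of M) n Y') _ _
      ((torIsoT_naturality M (ProjectiveResolution.of M) n g).trans
        (congrArg (fun z => (torIsoT M (ProjectiveResolution.of M) n Y).hom ≫ z)
          (Tbi_id_left _ g n).symm))
  exact comp_three_squares _ _ _ _ _ _ _ _ _ _ h1 h2 h3

lemma torFlipIso_natural_left (n : ℕ) {M M' : ModuleCat.{u} A} (f : M ⟶ M')
    (Y : ModuleCat.{u} A) :
    ((Tor (ModuleCat.{u} A) n).map f).app Y ≫ (torFlipIso n M' Y).hom =
      (torFlipIso n M Y).hom ≫ ((Tor (ModuleCat.{u} A) n).obj Y).map f := by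
  have h1 : ((Tor (ModuleCat.{u} A) n).map f).app Y ≫
      (torIsoT Y (ProjectiveResolution.of Y) n M').hom =
      (torIsoT Y (ProjectiveResolution.of Y) n M).hom ≫
        Tbi (𝟙 (ProjectiveResolution.of Y).complex) f n :=
    (torIsoT_naturality Y (ProjectiveResolution.of Y) n f).trans
      (congrArg (fun z => (torIsoT Y (ProjectiveResolution.of Y) n M).hom ≫ z)
        (Tbi_id_left _ f n).symm)
  have h2 := betaIso_natural n (frOf M) (frOf M') (frOf Y) (frOf Y) f
    (ProjectiveResolution.lift f (ProjectiveResolution.of M) (ProjectiveResolution.of M'))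
    (lift_comm f _ _) (𝟙 Y) (𝟙 _) (id_comm (frOf Y))
  have h3 : Tbi (ProjectiveResolution.lift f (ProjectiveResolution.of M)
        (ProjectiveResolution.of M')) (𝟙 Y) n ≫
      (torIsoT M' (ProjectiveResolution.of M') n Y).inv =
      (torIsoT M (ProjectiveResolution.of M) n Y).inv ≫
        ((Tor (ModuleCat.{u} A) n).obj Y).map f :=
    inv_square (torIsoT M (ProjectiveResolution.of M) n Y)
      (torIsoT M' (ProjectiveResolution.of M') n Y) _ _
      ((torIsoT_naturality₂ f _ _ _ (ProjectiveResolution.lift_commutes_zero f _ _) n Y).trans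
        (congrArg (fun z => (torIsoT M (ProjectiveResolution.of M) n Y).hom ≫ z)
          (Tbi_id_right _ Y n).symm))
  exact comp_three_squares _ _ _ _ _ _ _ _ _ _ h1 h2 h3

/-- S6316: `Tor_n` is a symmetric bifunctor. -/
noncomputable def torIsoFlip (n : ℕ) :
    Tor (ModuleCat.{u} A) n ≅ (Tor (ModuleCat.{u} A) n).flip :=
  NatIso.ofComponents
    (fun M => NatIso.ofComponents (fun Y => torFlipIso n M Y)
      (fun g => torFlipIso_natural_right n M g))
    (fun f => NatTrans.ext (funext fun Y => torFlipIso_natural_left n f Y))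

/-- natural balancing: `Tor_n(M, -) ≅ H_n(P_M ⊗ -)`. -/
noncomputable def torObjNatIso (n : ℕ) (M : ModuleCat.{u} A) :
    (Tor (ModuleCat.{u} A) n).obj M ≅ CohIII.TFun (ProjectiveResolution.of M).complex n :=
  (torIsoFlip n).app M ≪≫ torFlipObjIsoTFun M (ProjectiveResolution.of M) n

/-- S3526: Tor commutes with filtered colimits in the second variable. -/
theorem tor_preservesFilteredColimitsOfShape (p : ℕ) (M : ModuleCat.{u} A)
    (J : Type u) [SmallCategory J] [IsFiltered J] :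
    PreservesColimitsOfShape J ((Tor (ModuleCat.{u} A) p).obj M) := by
  haveI := TFun_preservesFilteredColimitsOfShape (ProjectiveResolution.of M).complex p J
  exact preservesColimitsOfShape_of_natIso (torObjNatIso p M).symm

end Groth.Agent.Lib.Helper7
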