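import Mathlib
import Groth.Prelude.Def_ega3
import Groth.Agent.Lib.Helper7.TorNat5
set_option autoImplicit false
universe u
open CategoryTheory CategoryTheory.Limits MonoidalCategory TensorProduct

namespace Groth.Agent.Lib.Helper7

section generic
universe v w
variable {D : Type w} [Category.{v} D] [HasZeroMorphisms D]

lemma exact_of_iso_squares {X₁ X₂ X₃ Y₁ Y₂ Y₃ : D}
    (f : X₁ ⟶ X₂) (g : X₂ ⟶ X₃) (f' : Y₁ ⟶ Y₂) (g' : Y₂ ⟶ Y₃)
    (e₁ : X₁ ≅ Y₁) (e₂ : X₂ ≅ Y₂) (e₃ : X₃ ≅ Y₃)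
    (c₁ : f ≫ e₂.hom = e₁.hom ≫ f') (c₂ : g ≫ e₃.hom = e₂.hom ≫ g') (w' : f' ≫ g' = 0)
    (h : (ShortComplex.mk f' g' w').Exact) :
    ∃ w : f ≫ g = 0, (ShortComplex.mk f g w).Exact := by
  have w : f ≫ g = 0 := by
    rw [← cancel_mono e₃.hom, Category.assoc, c₂, reassoc_of% c₁, w', comp_zero, zero_comp]
  exact ⟨w, (ShortComplex.exact_iff_of_iso
    (ShortComplex.isoMk e₁ e₂ e₃ c₁.symm c₂.symm :
      ShortComplex.mk f g w ≅ ShortComplex.mk f' g' w')).mpr h⟩

end generic

variable {A : Type u} [CommRing A]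

theorem TFun_zero_map_epi (P : ChainComplex (ModuleCat.{u} A) ℕ) {X X' : ModuleCat.{u} A}
    (g : X ⟶ X') [Epi g] : Epi ((CohIII.TFun P 0).map g) := by
  rw [ModuleCat.epi_iff_surjective]
  intro h
  obtain ⟨u, rfl⟩ := clsT0_surjective P X' h
  have hg : Function.Surjective g.hom := (ModuleCat.epi_iff_surjective g).mp inferInstance
  obtain ⟨v, rfl⟩ := LinearMap.lTensor_surjective (P.X 0) hg u
  exact ⟨clsT0 P X v, clsT0_naturality P g v⟩

/-- S14422: the long exact Tor sequence in the second variable. -/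
theorem tor_longExact (M : ModuleCat.{u} A)
    (S : ShortComplex (ModuleCat.{u} A)) (hS : S.ShortExact) (i : ℕ) :
    (∃ w₀ : ((Tor (ModuleCat.{u} A) i).obj M).map S.f ≫ ((Tor (ModuleCat.{u} A) i).obj M).map S.g = 0,
        (ShortComplex.mk (((Tor (ModuleCat.{u} A) i).obj M).map S.f) (((Tor (ModuleCat.{u} A) i).obj M).map S.g) w₀).Exact) ∧
      Epi (((Tor (ModuleCat.{u} A) 0).obj M).map S.g) ∧
      ∃ (δ : ((Tor (ModuleCat.{u} A) (i + 1)).obj M).obj S.X₃ ⟶ ((Tor (ModuleCat.{u} A) i).obj M).obj S.X₁)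
        (w₁ : ((Tor (ModuleCat.{u} A) (i + 1)).obj M).map S.g ≫ δ = 0)
        (w₂ : δ ≫ ((Tor (ModuleCat.{u} A) i).obj M).map S.f = 0),
        (ShortComplex.mk (((Tor (ModuleCat.{u} A) (i + 1)).obj M).map S.g) δ w₁).Exact ∧
          (ShortComplex.mk δ (((Tor (ModuleCat.{u} A) i).obj M).map S.f) w₂).Exact := by
  have hfl : ∀ j, Module.Flat A ((ProjectiveResolution.of M).complex.X j) := (frOf M).flat
  have hSE := tensorSC_shortExact (ProjectiveResolution.of M).complex hfl S hS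
  have e2 := hSE.homology_exact₂ i
  have e1 := hSE.homology_exact₁ (i + 1) i (relSucc i)
  have e3 := hSE.homology_exact₃ (i + 1) i (relSucc i)
  refine ⟨?_, ?_, ?_⟩
  · exact exact_of_iso_squares _ _
      ((CohIII.TFun (ProjectiveResolution.of M).complex i).map S.f)
      ((CohIII.TFun (ProjectiveResolution.of M).complex i).map S.g)
      ((torObjNatIso i M).app S.X₁) ((torObjNatIso i M).app S.X₂) ((torObjNatIso i M).app S.X₃)
      ((torObjNatIso i M).hom.naturality S.f) ((torObjNatIso i M).hom.naturality S.g) _ e2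
  · haveI : Epi S.g := hS.epi_g
    haveI := TFun_zero_map_epi (ProjectiveResolution.of M).complex S.g
    have h : ((Tor (ModuleCat.{u} A) 0).obj M).map S.g =
        (torObjNatIso 0 M).hom.app S.X₂ ≫
          (CohIII.TFun (ProjectiveResolution.of M).complex 0).map S.g ≫
            (torObjNatIso 0 M).inv.app S.X₃ := by
      rw [← Category.assoc, ← (torObjNatIso 0 M).hom.naturality S.g, Category.assoc,
        Iso.hom_inv_id_app, Category.comp_id]
    rw [h]
    infer_instance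
  · let δ' : (CohIII.TFun (ProjectiveResolution.of M).complex (i + 1)).obj S.X₃ ⟶
        (CohIII.TFun (ProjectiveResolution.of M).complex i).obj S.X₁ :=
      hSE.δ (i + 1) i (relSucc i)
    have c : ((torObjNatIso (i + 1) M).hom.app S.X₃ ≫ δ' ≫ (torObjNatIso i M).inv.app S.X₁) ≫
        (torObjNatIso i M).hom.app S.X₁ = (torObjNatIso (i + 1) M).hom.app S.X₃ ≫ δ' := by
      rw [Category.assoc, Category.assoc, Iso.inv_hom_id_app, Category.comp_id]
    obtain ⟨w₁, h₁⟩ := exact_of_iso_squares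
      (((Tor (ModuleCat.{u} A) (i + 1)).obj M).map S.g)
      ((torObjNatIso (i + 1) M).hom.app S.X₃ ≫ δ' ≫ (torObjNatIso i M).inv.app S.X₁)
      ((CohIII.TFun (ProjectiveResolution.of M).complex (i + 1)).map S.g) δ'
      ((torObjNatIso (i + 1) M).app S.X₂) ((torObjNatIso (i + 1) M).app S.X₃)
      ((torObjNatIso i M).app S.X₁)
      ((torObjNatIso (i + 1) M).hom.naturality S.g) c _ e3
    obtain ⟨w₂, h₂⟩ := exact_of_iso_squares
      ((torObjNatIso (i + 1) M).hom.app S.X₃ ≫ δ' ≫ (torObjNatIso i M).inv.app S.X₁)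
      (((Tor (ModuleCat.{u} A) i).obj M).map S.f)
      δ' ((CohIII.TFun (ProjectiveResolution.of M).complex i).map S.f)
      ((torObjNatIso (i + 1) M).app S.X₃) ((torObjNatIso i M).app S.X₁)
      ((torObjNatIso i M).app S.X₂)
      c ((torObjNatIso i M).hom.naturality S.f) _ e1
    exact ⟨_, w₁, w₂, h₁, h₂⟩

end Groth.Agent.Lib.Helper7
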