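import Mathlib
import Groth.Prelude.Def_ega3
import Groth.Agent.Lib.Helper7.TorNat6
set_option autoImplicit false
universe u
open CategoryTheory CategoryTheory.Limits MonoidalCategory TensorProduct

namespace Groth.Agent.Lib.Helper7

variable {A : Type u} [CommRing A]

section zero

/-- `H_0(P ⊗ -) ≅ M ⊗ -` for a flat resolution `P → M`. -/
noncomputable def TFunZeroIsoTensorLeft {P : ChainComplex (ModuleCat.{u} A) ℕ}
    {M : ModuleCat.{u} A} (hP : FlatRes P M) : CohIII.TFun P 0 ≅ tensorLeft M :=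
  NatIso.ofComponents (fun X => (T0Equiv hP X).toModuleIso) (by
    intro X X' g
    ext t
    show T0Equiv hP X' (((CohIII.TFun P 0).map g).hom t) = (M ◁ g).hom (T0Equiv hP X t)
    rw [ModuleCat.hom_whiskerLeft]
    exact T0Equiv_naturality hP g t)

/-- `Tor_0(M, -) ≅ M ⊗ -`. -/
noncomputable def tor0NatIso (M : ModuleCat.{u} A) :
    (Tor (ModuleCat.{u} A) 0).obj M ≅ tensorLeft M :=
  torObjNatIso 0 M ≪≫ TFunZeroIsoTensorLeft (frOf M)

/-- `Tor_0(M, X) ≃ M ⊗ X`. -/
noncomputable def tor0Equiv (M X : ModuleCat.{u} A) :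
    ((Tor (ModuleCat.{u} A) 0).obj M).obj X ≃ₗ[A] (M ⊗[A] X) :=
  ((tor0NatIso M).app X).toLinearEquiv

lemma tor0Equiv_naturality (M : ModuleCat.{u} A) {X X' : ModuleCat.{u} A} (g : X ⟶ X')
    (t : ((Tor (ModuleCat.{u} A) 0).obj M).obj X) :
    tor0Equiv M X' ((((Tor (ModuleCat.{u} A) 0).obj M).map g).hom t) =
      LinearMap.lTensor M g.hom (tor0Equiv M X t) := by
  have h := congrArg (fun F => F.hom t) ((tor0NatIso M).hom.naturality g)
  have h2 : ((tensorLeft M).map g).hom = LinearMap.lTensor M g.hom :=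
    ModuleCat.hom_whiskerLeft M g
  exact h.trans (LinearMap.congr_fun h2 _)

end zero

section delta
variable (M : ModuleCat.{u} A) (S : ShortComplex (ModuleCat.{u} A)) (hS : S.ShortExact)

/-- the connecting map of `H_*(P_M ⊗ -)`. -/
noncomputable def Tδ (i : ℕ) :
    (CohIII.TFun (ProjectiveResolution.of M).complex (i + 1)).obj S.X₃ ⟶
      (CohIII.TFun (ProjectiveResolution.of M).complex i).obj S.X₁ :=
  (tensorSC_shortExact (ProjectiveResolution.of M).complex (frOf M).flat S hS).δ (i + 1) i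
    (relSucc i)

/-- the connecting map `Tor_{i+1}(M, S.X₃) ⟶ Tor_i(M, S.X₁)`. -/
noncomputable def torδ (i : ℕ) :
    ((Tor (ModuleCat.{u} A) (i + 1)).obj M).obj S.X₃ ⟶ ((Tor (ModuleCat.{u} A) i).obj M).obj S.X₁ :=
  (torObjNatIso (i + 1) M).hom.app S.X₃ ≫ Tδ M S hS i ≫ (torObjNatIso i M).inv.app S.X₁

lemma torδ_comp_hom (i : ℕ) :
    torδ M S hS i ≫ (torObjNatIso i M).hom.app S.X₁ =
      (torObjNatIso (i + 1) M).hom.app S.X₃ ≫ Tδ M S hS i := by
  unfold torδ
  rw [Category.assoc, Category.assoc, Iso.inv_hom_id_app, Category.comp_id]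

theorem torδ_exact₃ (i : ℕ) :
    ∃ w : ((Tor (ModuleCat.{u} A) (i + 1)).obj M).map S.g ≫ torδ M S hS i = 0,
      (ShortComplex.mk (((Tor (ModuleCat.{u} A) (i + 1)).obj M).map S.g) (torδ M S hS i) w).Exact :=
  exact_of_iso_squares
    (((Tor (ModuleCat.{u} A) (i + 1)).obj M).map S.g) (torδ M S hS i)
    ((CohIII.TFun (ProjectiveResolution.of M).complex (i + 1)).map S.g) (Tδ M S hS i)
    ((torObjNatIso (i + 1) M).app S.X₂) ((torObjNatIso (i + 1) M).app S.X₃)
    ((torObjNatIso i M).app S.X₁)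
    ((torObjNatIso (i + 1) M).hom.naturality S.g) (torδ_comp_hom M S hS i) _
    ((tensorSC_shortExact (ProjectiveResolution.of M).complex (frOf M).flat S
      hS).homology_exact₃ (i + 1) i (relSucc i))

theorem torδ_exact₁ (i : ℕ) :
    ∃ w : torδ M S hS i ≫ ((Tor (ModuleCat.{u} A) i).obj M).map S.f = 0,
      (ShortComplex.mk (torδ M S hS i) (((Tor (ModuleCat.{u} A) i).obj M).map S.f) w).Exact :=
  exact_of_iso_squares
    (torδ M S hS i) (((Tor (ModuleCat.{u} A) i).obj M).map S.f)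
    (Tδ M S hS i) ((CohIII.TFun (ProjectiveResolution.of M).complex i).map S.f)
    ((torObjNatIso (i + 1) M).app S.X₃) ((torObjNatIso i M).app S.X₁)
    ((torObjNatIso i M).app S.X₂)
    (torδ_comp_hom M S hS i) ((torObjNatIso i M).hom.naturality S.f) _
    ((tensorSC_shortExact (ProjectiveResolution.of M).complex (frOf M).flat S
      hS).homology_exact₁ (i + 1) i (relSucc i))

include hS in
theorem tor_exact₂ (i : ℕ) :
    ∃ w : ((Tor (ModuleCat.{u} A) i).obj M).map S.f ≫ ((Tor (ModuleCat.{u} A) i).obj M).map S.g = 0,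
      (ShortComplex.mk (((Tor (ModuleCat.{u} A) i).obj M).map S.f)
        (((Tor (ModuleCat.{u} A) i).obj M).map S.g) w).Exact :=
  (tor_longExact M S hS i).1

include hS in
theorem tor_zero_map_epi : Epi (((Tor (ModuleCat.{u} A) 0).obj M).map S.g) :=
  (tor_longExact M S hS 0).2.1

variable {S} in
theorem torδ_naturality {S' : ShortComplex (ModuleCat.{u} A)} (hS' : S'.ShortExact)
    (ψ : S ⟶ S') (i : ℕ) :
    torδ M S hS i ≫ ((Tor (ModuleCat.{u} A) i).obj M).map ψ.τ₁ =
      ((Tor (ModuleCat.{u} A) (i + 1)).obj M).map ψ.τ₃ ≫ torδ M S' hS' i := by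
  have h2 : (CohIII.TFun (ProjectiveResolution.of M).complex (i + 1)).map ψ.τ₃ ≫ Tδ M S' hS' i =
      Tδ M S hS i ≫ (CohIII.TFun (ProjectiveResolution.of M).complex i).map ψ.τ₁ := by
    have h := δ_Tbi (𝟙 (ProjectiveResolution.of M).complex) (frOf M).flat (frOf M).flat ψ hS hS'
      (i + 1) i (relSucc i)
    rw [Tbi_id_left, Tbi_id_left] at h
    exact h.symm
  exact (comp_three_squares _ _ _ _ _ _ _ _ _ _
    ((torObjNatIso (i + 1) M).hom.naturality ψ.τ₃) h2
    ((torObjNatIso i M).inv.naturality ψ.τ₁)).symm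

end delta

section additive

/-- `Tor_i(M, -)` is an additive functor. -/
lemma tor_obj_additive (i : ℕ) (M : ModuleCat.{u} A) :
    ((Tor (ModuleCat.{u} A) i).obj M).Additive :=
  Functor.additive_of_iso (torObjNatIso i M).symm

end additive

end Groth.Agent.Lib.Helper7
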