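import Mathlib
import Groth.Prelude.Def_ega3
import Groth.Agent.Lib.Helper7.TorNat7
set_option autoImplicit false
universe u
open CategoryTheory CategoryTheory.Limits MonoidalCategory TensorProduct

namespace Groth.Agent.Lib.Helper7

variable {A : Type u} [CommRing A]

lemma TFun_map_smul_id {ι : Type} {c : ComplexShape ι}
    (P : HomologicalComplex (ModuleCat.{u} A) c) (n : ι) (N : ModuleCat.{u} A) (t : A) :
    (CohIII.TFun P n).map (t • 𝟙 N) = t • 𝟙 ((CohIII.TFun P n).obj N) := by
  show HomologicalComplex.homologyMap (CohIII.tensorMap P (t • 𝟙 N)) n = _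
  rw [tensorMap_smul_id, homologyMap_smul', HomologicalComplex.homologyMap_id]
  rfl

/-- `Tor_n(M, -)` sends scalar multiplication to scalar multiplication. -/
lemma tor_obj_map_smul_id (n : ℕ) (M N : ModuleCat.{u} A) (t : A) :
    ((Tor (ModuleCat.{u} A) n).obj M).map (t • 𝟙 N) =
      t • 𝟙 (((Tor (ModuleCat.{u} A) n).obj M).obj N) := by
  have nat := (torObjNatIso n M).hom.naturality (t • 𝟙 N)
  rw [TFun_map_smul_id] at nat
  apply ModuleCat.hom_ext
  apply LinearMap.ext
  intro z
  apply ((torObjNatIso n M).app N).toLinearEquiv.injective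
  have h := congrArg (fun F => F.hom z) nat
  show ((torObjNatIso n M).hom.app N).hom
      ((((Tor (ModuleCat.{u} A) n).obj M).map (t • 𝟙 N)).hom z) =
    ((torObjNatIso n M).hom.app N).hom (t • z)
  rw [map_smul]
  exact h

/-- `Tor_n(-, N)` sends scalar multiplication to scalar multiplication. -/
lemma tor_map_smul_id_app (n : ℕ) (M N : ModuleCat.{u} A) (t : A) :
    ((Tor (ModuleCat.{u} A) n).map (t • 𝟙 M)).app N =
      t • 𝟙 (((Tor (ModuleCat.{u} A) n).obj M).obj N) := by
  have nat := torFlipIso_natural_left n (t • 𝟙 M) N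
  rw [tor_obj_map_smul_id] at nat
  apply ModuleCat.hom_ext
  apply LinearMap.ext
  intro z
  apply (torFlipIso n M N).toLinearEquiv.injective
  have h := congrArg (fun F => F.hom z) nat
  show (torFlipIso n M N).hom.hom
      ((((Tor (ModuleCat.{u} A) n).map (t • 𝟙 M)).app N).hom z) =
    (torFlipIso n M N).hom.hom (t • z)
  rw [map_smul]
  exact h

/-- an element killing `N` kills `Tor_n(M, N)`. -/
lemma tor_smul_eq_zero_of_smul_eq_zero (n : ℕ) (M N : ModuleCat.{u} A) (t : A)
    (hN : ∀ x : N, t • x = 0) (z : ((Tor (ModuleCat.{u} A) n).obj M).obj N) : t • z = 0 := by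
  have h0 : t • 𝟙 N = 0 := by
    apply ModuleCat.hom_ext
    apply LinearMap.ext
    intro x
    exact hN x
  have h1 := tor_obj_map_smul_id n M N t
  haveI := tor_obj_additive n M
  rw [h0, Functor.map_zero] at h1
  have h2 := congrArg (fun F => F.hom z) h1
  exact h2.symm

/-- an element killing `M` kills `Tor_n(M, N)`. -/
lemma tor_smul_eq_zero_of_smul_eq_zero_left (n : ℕ) (M N : ModuleCat.{u} A) (t : A)
    (hM : ∀ x : M, t • x = 0) (z : ((Tor (ModuleCat.{u} A) n).obj M).obj N) : t • z = 0 := by
  have h1 := tor_smul_eq_zero_of_smul_eq_zero n N M t hM ((torFlipIso n M N).hom.hom z)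
  rw [← map_smul] at h1
  apply (torFlipIso n M N).toLinearEquiv.injective
  show (torFlipIso n M N).hom.hom (t • z) = (torFlipIso n M N).hom.hom 0
  rw [h1, map_zero]

end Groth.Agent.Lib.Helper7
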