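import Mathlib
import Groth.Agent.Lib.Helper7.FibDim
set_option autoImplicit false
universe u
open TensorProduct Module

namespace Groth.Agent.Lib.Helper7

variable {A : Type u} [CommRing A]

/-- the fibre dimension does not depend on the field through which it is computed. -/
lemma finrank_tensor_of_tower {F F' : Type u} [Field F] [Field F'] [Algebra A F] [Algebra A F']
    [Algebra F F'] [IsScalarTower A F F'] (W : Type u) [AddCommGroup W] [Module A W] :
    finrank F' (F' ⊗[A] W) = finrank F (F ⊗[A] W) := by
  have e : F' ⊗[F] (F ⊗[A] W) ≃ₗ[F'] F' ⊗[A] W :=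
    TensorProduct.AlgebraTensorModule.cancelBaseChange A F F' F' W
  rw [← e.finrank_eq]
  exact Module.finrank_baseChange

lemma fibDim_baseChange {B : Type u} [CommRing B] [Algebra A B] (W : Type u) [AddCommGroup W]
    [Module A W] (z : PrimeSpectrum B) :
    fibDim (B ⊗[A] W) z = fibDim W (PrimeSpectrum.comap (algebraMap A B) z) := by
  obtain ⟨x, hx⟩ : ∃ x : PrimeSpectrum A, x = PrimeSpectrum.comap (algebraMap A B) z := ⟨_, rfl⟩
  rw [← hx]
  have hI : x.asIdeal = z.asIdeal.comap (algebraMap A B) := by rw [hx]; rfl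
  let θ : x.asIdeal.ResidueField →+* z.asIdeal.ResidueField :=
    Ideal.ResidueField.map x.asIdeal z.asIdeal (algebraMap A B) hI
  letI : Algebra x.asIdeal.ResidueField z.asIdeal.ResidueField := θ.toAlgebra
  haveI : IsScalarTower A x.asIdeal.ResidueField z.asIdeal.ResidueField := by
    refine IsScalarTower.of_algebraMap_eq (fun a => ?_)
    show algebraMap A z.asIdeal.ResidueField a = θ (algebraMap A x.asIdeal.ResidueField a)
    rw [Ideal.ResidueField.map_algebraMap x.asIdeal z.asIdeal (algebraMap A B) hI a,
      ← IsScalarTower.algebraMap_apply]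
  unfold fibDim
  have e : z.asIdeal.ResidueField ⊗[B] (B ⊗[A] W) ≃ₗ[z.asIdeal.ResidueField]
      z.asIdeal.ResidueField ⊗[A] W :=
    TensorProduct.AlgebraTensorModule.cancelBaseChange A B z.asIdeal.ResidueField
      z.asIdeal.ResidueField W
  rw [e.finrank_eq]
  exact finrank_tensor_of_tower W

end Groth.Agent.Lib.Helper7
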