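import Mathlib
import Groth.Agent.Lib.Helper7.FibBC
import Groth.Agent.Lib.Helper7.FibExact
import Groth.Agent.Lib.Helper7.FibFree
set_option autoImplicit false
universe u
open TensorProduct Module

namespace Groth.Agent.Lib.Helper7

section local_domain
variable {A : Type u} [CommRing A] [IsLocalRing A] [IsDomain A]

lemma fibDim_generic_eq (M : Type u) [AddCommGroup M] [Module A M] :
    fibDim M (⟨⊥, Ideal.isPrime_bot⟩ : PrimeSpectrum A) =
      finrank (FractionRing A) (FractionRing A ⊗[A] M) := by
  unfold fibDim
  show finrank (⊥ : Ideal A).ResidueField ((⊥ : Ideal A).ResidueField ⊗[A] M) = _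
  let e : FractionRing A ≃ₐ[A] (⊥ : Ideal A).ResidueField :=
    IsLocalization.algEquiv (nonZeroDivisors A) (FractionRing A) (⊥ : Ideal A).ResidueField
  letI : Algebra (FractionRing A) (⊥ : Ideal A).ResidueField := e.toAlgHom.toRingHom.toAlgebra
  haveI : IsScalarTower A (FractionRing A) (⊥ : Ideal A).ResidueField :=
    IsScalarTower.of_algebraMap_eq (fun a => (e.commutes a).symm)
  exact finrank_tensor_of_tower M

lemma fibDim_closed_eq (M : Type u) [AddCommGroup M] [Module A M] :
    fibDim M (IsLocalRing.closedPoint A) =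
      finrank (IsLocalRing.ResidueField A) (IsLocalRing.ResidueField A ⊗[A] M) := by
  unfold fibDim
  show finrank (IsLocalRing.maximalIdeal A).ResidueField
    ((IsLocalRing.maximalIdeal A).ResidueField ⊗[A] M) = _
  letI : Algebra (IsLocalRing.ResidueField A) (IsLocalRing.maximalIdeal A).ResidueField :=
    (inferInstance : Algebra (A ⧸ IsLocalRing.maximalIdeal A)
      (IsLocalRing.maximalIdeal A).ResidueField)
  haveI : IsScalarTower A (IsLocalRing.ResidueField A)
      (IsLocalRing.maximalIdeal A).ResidueField :=
    (inferInstance : IsScalarTower A (A ⧸ IsLocalRing.maximalIdeal A)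
      (IsLocalRing.maximalIdeal A).ResidueField)
  exact finrank_tensor_of_tower M

theorem finrank_frac_le_residue (M : Type u) [AddCommGroup M] [Module A M] [Module.Finite A M] :
    finrank (FractionRing A) (FractionRing A ⊗[A] M) ≤
      finrank (IsLocalRing.ResidueField A) (IsLocalRing.ResidueField A ⊗[A] M) := by
  rw [← fibDim_generic_eq, ← fibDim_closed_eq]
  exact fibDim_le_closedPoint M _

theorem finrank_frac_eq_residue_iff (M : Type u) [AddCommGroup M] [Module A M]
    [Module.Finite A M] :
    finrank (FractionRing A) (FractionRing A ⊗[A] M) =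
      finrank (IsLocalRing.ResidueField A) (IsLocalRing.ResidueField A ⊗[A] M) ↔
    Module.Free A M := by
  rw [← fibDim_generic_eq, ← fibDim_closed_eq]
  constructor
  · intro h
    refine free_of_fibDim_eq_closedPoint M (fun q hq => ?_)
    rw [IsDomain.minimalPrimes_eq_singleton_bot, Set.mem_singleton_iff] at hq
    have hq' : q = (⟨⊥, Ideal.isPrime_bot⟩ : PrimeSpectrum A) := PrimeSpectrum.ext hq
    rw [hq']
    exact h
  · intro h
    rw [fibDim_of_free, fibDim_of_free]

end local_domain

section dvr
variable {A : Type u} [CommRing A] [IsDomain A] [IsDiscreteValuationRing A]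

lemma free_iff_uniformizer_torsionFree (ϖ : A) (hϖ : Irreducible ϖ) (M : Type u)
    [AddCommGroup M] [Module A M] [Module.Finite A M] :
    Module.Free A M ↔ ∀ u : M, ϖ • u = 0 → u = 0 := by
  constructor
  · intro hfree u hu
    exact (smul_eq_zero.mp hu).resolve_left hϖ.ne_zero
  · intro h
    have hpow : ∀ (n : ℕ) (m : M), ϖ ^ n • m = 0 → m = 0 := by
      intro n
      induction n with
      | zero =>
        intro m hm
        rwa [pow_zero, one_smul] at hm
      | succ n ih =>
        intro m hm
        apply ih
        apply h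
        rw [smul_smul, ← pow_succ']
        exact hm
    haveI : Module.IsTorsionFree A M := by
      rw [Module.isTorsionFree_iff_smul_eq_zero]
      intro a m ham
      by_cases ha : a = 0
      · exact Or.inl ha
      · right
        obtain ⟨n, u, rfl⟩ := IsDiscreteValuationRing.eq_unit_mul_pow_irreducible ha hϖ
        apply hpow n
        have h1 : (↑u⁻¹ : A) • ((↑u * ϖ ^ n) • m) = 0 := by rw [ham, smul_zero]
        rwa [smul_smul, ← mul_assoc, Units.inv_mul, one_mul] at h1
    exact Module.free_of_finite_type_torsion_free'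

end dvr

section abstract_les
variable {A : Type u} [CommRing A] [IsLocalRing A] [IsNoetherianRing A]

theorem length_middle_of_exact (ϖ : A) (hm : IsLocalRing.maximalIdeal A = Ideal.span {ϖ})
    {Tp Tk Tq : Type u} [AddCommGroup Tp] [AddCommGroup Tk] [AddCommGroup Tq]
    [Module A Tp] [Module A Tk] [Module A Tq] [Module.Finite A Tp] [Module.Finite A Tq]
    (g₁ : Tp →ₗ[A] Tk) (δ : Tk →ₗ[A] Tq)
    (h2 : ∀ y, g₁ y = 0 ↔ ∃ x, ϖ • x = y) (h3 : ∀ t, δ t = 0 ↔ t ∈ Set.range g₁)
    (h1 : ∀ u, ϖ • u = 0 ↔ u ∈ Set.range δ) :
    Module.Finite A Tk ∧ ∃ ℓ : ℕ∞,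
      Module.length A Tk =
        (finrank (IsLocalRing.ResidueField A) (IsLocalRing.ResidueField A ⊗[A] Tp) : ℕ∞) + ℓ ∧
      (ℓ = 0 ↔ ∀ u : Tq, ϖ • u = 0 → u = 0) := by
  have hker : LinearMap.ker δ = LinearMap.range g₁ := by
    ext t
    exact h3 t
  have hfinTk : Module.Finite A Tk := by
    haveI : Module.Finite A (LinearMap.range g₁) := Module.Finite.range g₁
    haveI : IsNoetherian A Tq := isNoetherian_of_isNoetherianRing_of_finite A Tq
    haveI : Module.Finite A (LinearMap.range δ) := Module.IsNoetherian.finite A _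
    haveI : Module.Finite A (Tk ⧸ LinearMap.ker δ) := Module.Finite.equiv δ.quotKerEquivRange.symm
    haveI : Module.Finite A (Tk ⧸ LinearMap.range g₁) := hker ▸ this
    exact Module.Finite.of_submodule_quotient (LinearMap.range g₁)
  refine ⟨hfinTk, Module.length A (LinearMap.range δ), ?_, ?_⟩
  · have hex : Function.Exact (LinearMap.range g₁).subtype δ.rangeRestrict := by
      intro t
      constructor
      · intro h
        have h' : δ t = 0 := congrArg Subtype.val h
        exact ⟨⟨t, (h3 t).mp h'⟩, rfl⟩
      · rintro ⟨⟨t', ht'⟩, rfl⟩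
        apply Subtype.ext
        exact (h3 t').mpr ht'
    rw [Module.length_eq_add_of_exact (LinearMap.range g₁).subtype δ.rangeRestrict
      (Submodule.subtype_injective _) (LinearMap.surjective_rangeRestrict δ) hex]
    congr 1
    have hk : LinearMap.ker g₁ = IsLocalRing.maximalIdeal A • (⊤ : Submodule A Tp) := by
      ext y
      rw [LinearMap.mem_ker, h2 y, hm, Submodule.ideal_span_singleton_smul,
        Submodule.mem_smul_pointwise_iff_exists]
      constructor
      · rintro ⟨x, hx⟩
        exact ⟨x, Submodule.mem_top, hx⟩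
      · rintro ⟨x, _, hx⟩
        exact ⟨x, hx⟩
    have e₁ : (Tp ⧸ LinearMap.ker g₁) ≃ₗ[A] LinearMap.range g₁ := g₁.quotKerEquivRange
    have e₂ : ((A ⧸ IsLocalRing.maximalIdeal A) ⊗[A] Tp) ≃ₗ[A]
        Tp ⧸ (IsLocalRing.maximalIdeal A • (⊤ : Submodule A Tp)) :=
      TensorProduct.quotTensorEquivQuotSMul Tp (IsLocalRing.maximalIdeal A)
    have e₃ : (Tp ⧸ LinearMap.ker g₁) ≃ₗ[A]
        Tp ⧸ (IsLocalRing.maximalIdeal A • (⊤ : Submodule A Tp)) :=
      Submodule.quotEquivOfEq _ _ hk
    have hl : Module.length A (LinearMap.range g₁) =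
        Module.length A (IsLocalRing.ResidueField A ⊗[A] Tp) :=
      (e₁.symm.trans (e₃.trans e₂.symm)).length_eq
    rw [hl, Module.length_eq_of_surjective (S := A) (R := IsLocalRing.ResidueField A)
      (M := IsLocalRing.ResidueField A ⊗[A] Tp) IsLocalRing.residue_surjective,
      Module.length_eq_finrank]
  · rw [Module.length_eq_zero_iff]
    constructor
    · intro hsub u hu
      have hmem : u ∈ LinearMap.range δ := (h1 u).mp hu
      have := hsub.elim (⟨u, hmem⟩ : LinearMap.range δ) 0
      exact congrArg Subtype.val this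
    · intro h
      refine ⟨fun a b => ?_⟩
      have ha : (a : Tq) = 0 := h _ ((h1 _).mpr a.2)
      have hb : (b : Tq) = 0 := h _ ((h1 _).mpr b.2)
      exact Subtype.ext (ha.trans hb.symm)

end abstract_les

section semilinear
variable {A k : Type u} [CommRing A] [Field k] [Algebra A k]

theorem length_eq_of_semilinear_addEquiv (hsurj : Function.Surjective (algebraMap A k))
    {V : Type u} [AddCommGroup V] [Module k V] {T : Type u} [AddCommGroup T] [Module A T]
    (E : V ≃+ T) (hE : ∀ (a : A) (v : V), E (algebraMap A k a • v) = a • E v) :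
    Module.length k V = Module.length A T ∧ (Module.Finite A T → Module.Finite k V) := by
  letI : Module A V := Module.compHom V (algebraMap A k)
  haveI : IsScalarTower A k V := IsScalarTower.of_algebraMap_smul (fun a v => rfl)
  let e : V ≃ₗ[A] T :=
    { toFun := E, map_add' := E.map_add, map_smul' := fun a v => hE a v, invFun := E.symm,
      left_inv := E.left_inv, right_inv := E.right_inv }
  constructor
  · rw [← Module.length_eq_of_surjective (S := A) (R := k) (M := V) hsurj]
    exact e.length_eq
  · intro hfin
    haveI : Module.Finite A V := Module.Finite.equiv e.symm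
    exact Module.Finite.of_restrictScalars_finite A k V

end semilinear

end Groth.Agent.Lib.Helper7
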