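import Mathlib
import Groth.Prelude.Def_ega3
import Groth.Agent.Lib.Helper7.BcLink
import Groth.Agent.Lib.Helper7.BcFlat
import Groth.Agent.Lib.Helper7.TFunLES
import Groth.Agent.Lib.Helper7.DvrRankA
set_option autoImplicit false
universe u
open CategoryTheory CategoryTheory.Limits MonoidalCategory TensorProduct Module

namespace Groth.Agent.Lib.Helper7

section unit
variable {A : Type u} [CommRing A] {ι : Type} {c : ComplexShape ι}
  (P : HomologicalComplex (ModuleCat.{u} A) c)

lemma rid_rTensor {X Y : Type u} [AddCommGroup X] [AddCommGroup Y] [Module A X] [Module A Y]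
    (d : X →ₗ[A] Y) (z : X ⊗[A] A) :
    TensorProduct.rid A Y (LinearMap.rTensor A d z) = d (TensorProduct.rid A X z) := by
  induction z using TensorProduct.induction_on with
  | zero => simp only [map_zero]
  | add z₁ z₂ h₁ h₂ => simp only [map_add, h₁, h₂]
  | tmul x a =>
    rw [LinearMap.rTensor_tmul, TensorProduct.rid_tmul, TensorProduct.rid_tmul, map_smul]

/-- `P ⊗ A ≃ P`. -/
noncomputable def unitCx : CxAddEquiv (CohIII.tensorObj P (ModuleCat.of A A)) P where
  e i := (TensorProduct.rid A (P.X i)).toAddEquiv
  comm i j z := by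
    rw [tensorObj_d]
    exact rid_rTensor (P.d i j).hom z

/-- `T_p(A) ≃ H_p(P)`. -/
noncomputable def unitHomologyEquiv (p : ι) :
    CohIII.T P p (ModuleCat.of A A) ≃ₗ[A] P.homology p where
  toFun := (unitCx P).homologyEquiv p
  map_add' := ((unitCx P).homologyEquiv p).map_add
  map_smul' a h := CxAddHom.homologyMap_smul (unitCx P).toHom p a a
    (fun z => map_smul (TensorProduct.rid A (P.X p)) a z) h
  invFun := ((unitCx P).homologyEquiv p).symm
  left_inv := ((unitCx P).homologyEquiv p).left_inv
  right_inv := ((unitCx P).homologyEquiv p).right_inv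

end unit

section flat
variable {A B : Type u} [CommRing A] [CommRing B] {ι : Type} {c : ComplexShape ι}

lemma finrank_homology_bcCx_of_flat (φ : A →+* B) [alg : Algebra A B]
    (halg : alg = φ.toAlgebra) [Module.Flat A B]
    (P : HomologicalComplex (ModuleCat.{u} A) c) (p : ι) :
    finrank B ((CohIII.bcCx φ P).homology p) = finrank B (B ⊗[A] P.homology p) := by
  subst halg
  letI := φ.toAlgebra
  exact (homologyBcCxIso φ rfl P p).toLinearEquiv.finrank_eq

end flat

section dvr
variable {A : Type u} [CommRing A] [IsDomain A] [IsDiscreteValuationRing A]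

theorem uct_residue (P : ChainComplex (ModuleCat.{u} A) ℤ) (hP : ∀ i, Module.Flat A (P.X i))
    (hfin : ∀ i, Module.Finite A (P.homology i)) (p q : ℤ) (hpq : q + 1 = p) :
    Module.Finite (IsLocalRing.ResidueField A)
        ((CohIII.bcCx (algebraMap A (IsLocalRing.ResidueField A)) P).homology p) ∧
    ∃ ℓ : ℕ∞, Module.length (IsLocalRing.ResidueField A)
        ((CohIII.bcCx (algebraMap A (IsLocalRing.ResidueField A)) P).homology p) =
        (finrank (IsLocalRing.ResidueField A)
          (IsLocalRing.ResidueField A ⊗[A] P.homology p) : ℕ∞) + ℓ ∧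
      (ℓ = 0 ↔ Module.Free A (P.homology q)) := by
  classical
  obtain ⟨ϖ, hϖ⟩ := IsDiscreteValuationRing.exists_irreducible A
  have hm : IsLocalRing.maximalIdeal A = Ideal.span {ϖ} := hϖ.maximalIdeal_eq
  let φ : A →+* IsLocalRing.ResidueField A := algebraMap A (IsLocalRing.ResidueField A)
  let kA : ModuleCat.{u} A := (ModuleCat.restrictScalars φ).obj
    (ModuleCat.of (IsLocalRing.ResidueField A) (IsLocalRing.ResidueField A))
  have h0 : ∀ a : A, φ a = 0 ↔ a ∈ IsLocalRing.maximalIdeal A :=
    fun a => IsLocalRing.residue_eq_zero_iff a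
  have hφϖ : φ ϖ = 0 := by
    rw [h0, hm]
    exact Ideal.mem_span_singleton_self ϖ
  let res : ModuleCat.of A A ⟶ kA := ModuleCat.ofHom
    { toFun := fun a => φ a, map_add' := map_add φ, map_smul' := fun a b => map_mul φ a b }
  let S : ShortComplex (ModuleCat.{u} A) := ShortComplex.mk (ϖ • 𝟙 (ModuleCat.of A A)) res
    (ModuleCat.hom_ext (LinearMap.ext (fun a => by
      show φ (ϖ * a) = 0
      rw [map_mul, hφϖ, zero_mul])))
  have hS : S.ShortExact := by
    refine ModuleCat.shortComplex_shortExact S ?_ ?_ ?_
    · intro a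
      show φ a = 0 ↔ a ∈ Set.range (fun b : A => ϖ * b)
      rw [h0, hm, Ideal.mem_span_singleton']
      constructor
      · rintro ⟨b, rfl⟩
        exact ⟨b, mul_comm ϖ b⟩
      · rintro ⟨b, rfl⟩
        exact ⟨b, mul_comm b ϖ⟩
    · intro a b hab
      exact mul_left_cancel₀ hϖ.ne_zero hab
    · exact IsLocalRing.residue_surjective
  have hSS := tensorSC_shortExact P hP S hS
  have hrel : (ComplexShape.down ℤ).Rel p q := hpq
  have E2 := (ShortComplex.ShortExact.moduleCat_exact_iff_function_exact _).mp
    (hSS.homology_exact₂ p)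
  have E3 := (ShortComplex.ShortExact.moduleCat_exact_iff_function_exact _).mp
    (hSS.homology_exact₃ p q hrel)
  have E1 := (ShortComplex.ShortExact.moduleCat_exact_iff_function_exact _).mp
    (hSS.homology_exact₁ p q hrel)
  have heqf : ∀ r : ℤ, HomologicalComplex.homologyMap (tensorSC P S).f r =
      ϖ • 𝟙 (CohIII.T P r (ModuleCat.of A A)) := by
    intro r
    show HomologicalComplex.homologyMap (CohIII.tensorMap P (ϖ • 𝟙 (ModuleCat.of A A))) r = _
    rw [tensorMap_smul_id, homologyMap_smul', HomologicalComplex.homologyMap_id]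
  have hfx : ∀ (r : ℤ) (x : CohIII.T P r (ModuleCat.of A A)),
      (HomologicalComplex.homologyMap (tensorSC P S).f r).hom x = ϖ • x := by
    intro r x
    rw [heqf r]
    rfl
  let g₁ : CohIII.T P p (ModuleCat.of A A) →ₗ[A] CohIII.T P p kA :=
    (HomologicalComplex.homologyMap (tensorSC P S).g p).hom
  let δ : CohIII.T P p kA →ₗ[A] CohIII.T P q (ModuleCat.of A A) := (hSS.δ p q hrel).hom
  have hE2 : ∀ y : CohIII.T P p (ModuleCat.of A A), g₁ y = 0 ↔ ∃ x, ϖ • x = y := by
    intro y
    refine (E2 y).trans ?_
    constructor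
    · rintro ⟨x, hx⟩
      exact ⟨x, (hfx p x).symm.trans hx⟩
    · rintro ⟨x, hx⟩
      exact ⟨x, (hfx p x).trans hx⟩
  have hE3 : ∀ t : CohIII.T P p kA, δ t = 0 ↔ t ∈ Set.range g₁ := fun t => E3 t
  have hE1 : ∀ u : CohIII.T P q (ModuleCat.of A A), ϖ • u = 0 ↔ u ∈ Set.range δ := by
    intro u
    rw [← hfx q u]
    exact E1 u
  haveI : Module.Finite A (CohIII.T P p (ModuleCat.of A A)) :=
    haveI := hfin p
    Module.Finite.equiv (unitHomologyEquiv P p).symm
  haveI : Module.Finite A (CohIII.T P q (ModuleCat.of A A)) :=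
    haveI := hfin q
    Module.Finite.equiv (unitHomologyEquiv P q).symm
  obtain ⟨hfinTk, ℓ, hlen, hℓ⟩ := length_middle_of_exact ϖ hm g₁ δ hE2 hE3 hE1
  obtain ⟨hlenV, hfinV⟩ := length_eq_of_semilinear_addEquiv (A := A)
    (k := IsLocalRing.ResidueField A) IsLocalRing.residue_surjective (linkHEquiv φ P p)
    (fun a v => linkHEquiv_smul φ P p a v)
  refine ⟨hfinV hfinTk, ℓ, ?_, ?_⟩
  · rw [hlenV]
    refine Eq.trans hlen ?_
    congr 2
    exact (TensorProduct.AlgebraTensorModule.congr
      (LinearEquiv.refl (IsLocalRing.ResidueField A) (IsLocalRing.ResidueField A))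
      (unitHomologyEquiv P p)).finrank_eq
  · haveI := hfin q
    rw [hℓ, ← free_iff_uniformizer_torsionFree ϖ hϖ]
    exact ⟨fun h => Module.Free.of_equiv (unitHomologyEquiv P q),
      fun h => Module.Free.of_equiv (unitHomologyEquiv P q).symm⟩

theorem rank_inequalities_dvr (P : ChainComplex (ModuleCat.{u} A) ℤ)
    (hP : ∀ i, Module.Flat A (P.X i)) (hfin : ∀ i, Module.Finite A (P.homology i)) (p : ℤ) :
    finrank (FractionRing A) ((CohIII.bcCx (algebraMap A (FractionRing A)) P).homology p) ≤
        finrank (IsLocalRing.ResidueField A)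
          (TensorProduct A (IsLocalRing.ResidueField A) (P.homology p)) ∧
      finrank (IsLocalRing.ResidueField A)
          (TensorProduct A (IsLocalRing.ResidueField A) (P.homology p)) ≤
        finrank (IsLocalRing.ResidueField A)
          ((CohIII.bcCx (algebraMap A (IsLocalRing.ResidueField A)) P).homology p) := by
  have halgK : (inferInstance : Algebra A (FractionRing A)) =
      (algebraMap A (FractionRing A)).toAlgebra := Algebra.algebra_ext _ _ (fun r => rfl)
  haveI : Module.Flat A (FractionRing A) := IsLocalization.flat (FractionRing A) (nonZeroDivisors A)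
  have hK := finrank_homology_bcCx_of_flat (algebraMap A (FractionRing A)) halgK P p
  haveI := hfin p
  obtain ⟨hfinV, ℓ, hlen, hℓ⟩ := uct_residue P hP hfin p (p - 1) (by ring)
  constructor
  · rw [hK]
    exact finrank_frac_le_residue (P.homology p)
  · haveI := hfinV
    rw [Module.length_eq_finrank] at hlen
    have h : ((finrank (IsLocalRing.ResidueField A)
        (IsLocalRing.ResidueField A ⊗[A] P.homology p) : ℕ) : ℕ∞) ≤
        ((finrank (IsLocalRing.ResidueField A)
          ((CohIII.bcCx (algebraMap A (IsLocalRing.ResidueField A)) P).homology p) : ℕ) : ℕ∞) := by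
      rw [hlen]
      exact le_self_add
    exact_mod_cast h

theorem rank_ineq_dvr (P : ChainComplex (ModuleCat.{u} A) ℤ)
    (hP : ∀ i, Module.Flat A (P.X i)) (hfin : ∀ i, Module.Finite A (P.homology i)) (p q : ℤ)
    (hpq : q + 1 = p) :
    finrank (FractionRing A) ((CohIII.bcCx (algebraMap A (FractionRing A)) P).homology p) ≤
        finrank (IsLocalRing.ResidueField A)
          ((CohIII.bcCx (algebraMap A (IsLocalRing.ResidueField A)) P).homology p) ∧
      (finrank (FractionRing A) ((CohIII.bcCx (algebraMap A (FractionRing A)) P).homology p) =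
          finrank (IsLocalRing.ResidueField A)
            ((CohIII.bcCx (algebraMap A (IsLocalRing.ResidueField A)) P).homology p) ↔
        Module.Free A (P.homology p) ∧ Module.Free A (P.homology q)) := by
  have halgK : (inferInstance : Algebra A (FractionRing A)) =
      (algebraMap A (FractionRing A)).toAlgebra := Algebra.algebra_ext _ _ (fun r => rfl)
  haveI : Module.Flat A (FractionRing A) := IsLocalization.flat (FractionRing A) (nonZeroDivisors A)
  have hK := finrank_homology_bcCx_of_flat (algebraMap A (FractionRing A)) halgK P p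
  haveI := hfin p
  obtain ⟨hfinV, ℓ, hlen, hℓ⟩ := uct_residue P hP hfin p q hpq
  haveI := hfinV
  rw [Module.length_eq_finrank] at hlen
  have hle := finrank_frac_le_residue (A := A) (P.homology p)
  have hiff := finrank_frac_eq_residue_iff (A := A) (P.homology p)
  rw [hK]
  induction ℓ using ENat.recTopCoe with
  | top =>
    exfalso
    rw [add_top] at hlen
    exact ENat.coe_ne_top _ hlen
  | coe n =>
    have hv : finrank (IsLocalRing.ResidueField A)
        ((CohIII.bcCx (algebraMap A (IsLocalRing.ResidueField A)) P).homology p) =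
        finrank (IsLocalRing.ResidueField A) (IsLocalRing.ResidueField A ⊗[A] P.homology p) + n := by
      exact_mod_cast hlen
    have hn : n = 0 ↔ Module.Free A (P.homology q) := by
      rw [← hℓ]
      exact Nat.cast_eq_zero.symm
    constructor
    · omega
    · constructor
      · intro h
        have h1 : finrank (FractionRing A) (FractionRing A ⊗[A] P.homology p) =
            finrank (IsLocalRing.ResidueField A)
              (IsLocalRing.ResidueField A ⊗[A] P.homology p) := by omega
        have h2 : n = 0 := by omega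
        exact ⟨hiff.mp h1, hn.mp h2⟩
      · rintro ⟨h1, h2⟩
        have h3 := hiff.mpr h1
        have h4 := hn.mpr h2
        omega

end dvr

end Groth.Agent.Lib.Helper7
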