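import Mathlib
import Groth.Prelude
import Groth.Agent.Lib.Helper13.SerreCrit1
import Groth.Agent.Lib.Helper13.ExtShift
import Groth.Agent.Lib.Helper13.FTApprox
import Groth.Agent.Lib.Helper3.QCLim
import Groth.Agent.Lib.Helper3.QCProps
import Groth.Agent.Lib.Helper3.InvCoh
import Groth.Agent.Lib.Helper3.VACore
import Groth.Agent.Lib.Helper3.GrTildeSelf
import Groth.Agent.Lib.Helper7.LerayNat

/-!
# Linear long exact sequence of coherent cohomology; finiteness tools

* `HmapL`, `deltaL`: the maps of the long exact cohomology sequence of a short exact sequence of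
  `O_X`-modules, as `A`-linear maps (`X` over `Spec A`); `exact_mid`, `exact_right`.
* `finite_of_exact`: the middle term of an exact sequence with finite outer terms is finite
  (Noetherian base).
* `powSum L k = L^{k+1}` (iterated biproduct), `powDesc`, `epi_powDesc`, `finite_HH_powSum`,
  `isCoh_powSum`.
-/
set_option autoImplicit false
universe u
open CategoryTheory CategoryTheory.Limits Opposite TopologicalSpace AlgebraicGeometry
  CategoryTheory.Abelian

noncomputable section

namespace Groth.Agent.Lib.Helper7.CohFinite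

open Groth.Agent.Lib.Helper13 Groth.Agent.Lib.Helper13.SerreCrit1 Groth.Agent.Lib.Helper3

section Algebra

lemma finite_of_exact {R A B C : Type*} [CommRing R] [IsNoetherianRing R] [AddCommGroup A]
    [Module R A] [AddCommGroup B] [Module R B] [AddCommGroup C] [Module R C]
    [Module.Finite R A] [Module.Finite R C] (f : A →ₗ[R] B) (g : B →ₗ[R] C)
    (h : ∀ b, g b = 0 → ∃ a, f a = b) : Module.Finite R B := by
  haveI : IsNoetherian R A := isNoetherian_of_isNoetherianRing_of_finite R A
  haveI : IsNoetherian R C := isNoetherian_of_isNoetherianRing_of_finite R C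
  rw [Module.finite_def]
  have hker : (LinearMap.ker g).FG := by
    have hle : LinearMap.ker g ≤ LinearMap.range f := fun b hb => by
      obtain ⟨a, ha⟩ := h b hb
      exact ⟨a, ha⟩
    have e : LinearMap.ker g = ((LinearMap.ker g).comap f).map f :=
      (Submodule.map_comap_eq_of_le hle).symm
    rw [e]
    exact (IsNoetherian.noetherian _).map f
  refine Submodule.fg_of_fg_map_of_fg_inf_ker g ?_ ?_
  · exact IsNoetherian.noetherian _
  · rw [top_inf_eq]
    exact hker

lemma finite_of_subsingleton {R M : Type*} [Semiring R] [AddCommMonoid M] [Module R M]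
    [Subsingleton M] : Module.Finite R M := by
  haveI : Finite M := Finite.of_subsingleton
  exact Module.Finite.of_finite

end Algebra

section Linear

variable {X : Scheme.{u}}

lemma smulAb_comm {M N : X.Modules} (φ : M ⟶ N) (r : Coh.Γtop X) :
    Coh.smulAb M r ≫ (TT X).map φ = (TT X).map φ ≫ Coh.smulAb N r := by
  ext U m
  change ((TT X).map φ).hom.app U ((Coh.smulAb M r).hom.app U m) =
    (Coh.smulAb N r).hom.app U (((TT X).map φ).hom.app U m)
  rw [Coh.smulAb_app, Coh.smulAb_app]
  exact (φ.val.app U).hom.map_smul _ m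

variable (A : Type u) [CommRing A] [X.Over (Spec (CommRingCat.of A))]

/-- `H^n(φ)` as an `A`-linear map. -/
def HmapL {M N : X.Modules} (φ : M ⟶ N) (n : ℕ) : Coh.HH X M n →ₗ[A] Coh.HH X N n where
  toFun := Sheaf.H.map ((TT X).map φ) n
  map_add' := map_add _
  map_smul' r x := by
    change Sheaf.H.map ((TT X).map φ) n (Sheaf.H.map (Coh.smulAb M _) n x) =
      Sheaf.H.map (Coh.smulAb N _) n (Sheaf.H.map ((TT X).map φ) n x)
    rw [← Sheaf.H.map_comp_apply, ← Sheaf.H.map_comp_apply, smulAb_comm]
    rfl

lemma HmapL_apply {M N : X.Modules} (φ : M ⟶ N) (n : ℕ) (x : Coh.HH X M n) :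
    HmapL A φ n x = Sheaf.H.map ((TT X).map φ) n x := rfl

/-- multiplication by a global function as an endomorphism of a short complex of sheaves. -/
def smulSC (S : ShortComplex X.Modules) (r : Coh.Γtop X) : S.map (TT X) ⟶ S.map (TT X) where
  τ₁ := Coh.smulAb S.X₁ r
  τ₂ := Coh.smulAb S.X₂ r
  τ₃ := Coh.smulAb S.X₃ r
  comm₁₂ := smulAb_comm S.f r
  comm₂₃ := smulAb_comm S.g r

/-- the connecting homomorphism as an `A`-linear map. -/
def deltaL (S : ShortComplex X.Modules) (hS : S.ShortExact) (n : ℕ) :
    Coh.HH X S.X₃ n →ₗ[A] Coh.HH X S.X₁ (n + 1) where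
  toFun := ExtShift.δ (shortExact_map_toSheaf S hS) _ n (n + 1) rfl
  map_add' := map_add _
  map_smul' r x :=
    (Groth.Agent.Lib.Helper7.LerayNat.extδ_naturality (shortExact_map_toSheaf S hS)
      (shortExact_map_toSheaf S hS)
      (smulSC S (Coh.toGlobal (X ↘ Spec (CommRingCat.of A)) r)) _ n (n + 1) rfl x).symm

lemma exact_mid (S : ShortComplex X.Modules) (hS : S.ShortExact) (n : ℕ)
    (x : Coh.HH X S.X₂ n) (hx : HmapL A S.g n x = 0) : ∃ y, HmapL A S.f n y = x :=
  Abelian.Ext.covariant_sequence_exact₂ _ (shortExact_map_toSheaf S hS) x hx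

lemma exact_right (S : ShortComplex X.Modules) (hS : S.ShortExact) (n : ℕ)
    (x : Coh.HH X S.X₃ n) (hx : deltaL A S hS n x = 0) : ∃ y, HmapL A S.g n y = x :=
  Abelian.Ext.covariant_sequence_exact₃ _ (shortExact_map_toSheaf S hS) x rfl hx

end Linear

section PowSum

variable {C : Type*} [Category C] [Abelian C]

/-- `L^{k+1}` as an iterated binary biproduct. -/
def powSum (L : C) : ℕ → C
  | 0 => L
  | k + 1 => powSum L k ⊞ L

/-- the morphism `L^{k+1} ⟶ M` with components `p 0, …, p k`. -/
def powDesc {L M : C} (p : ℕ → (L ⟶ M)) : (k : ℕ) → (powSum L k ⟶ M)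
  | 0 => p 0
  | k + 1 => biprod.desc (powDesc p k) (p (k + 1))

lemma powDesc_comp_eq_zero {L M Z : C} (p : ℕ → (L ⟶ M)) (t : M ⟶ Z) :
    ∀ k, powDesc p k ≫ t = 0 → ∀ j, j ≤ k → p j ≫ t = 0
  | 0, h, j, hj => by
      obtain rfl : j = 0 := by omega
      exact h
  | k + 1, h, j, hj => by
      have h0 : biprod.desc (powDesc p k) (p (k + 1)) ≫ t = 0 := h
      have h1 : powDesc p k ≫ t = 0 := by
        rw [← biprod.inl_desc_assoc (powDesc p k) (p (k + 1)) t, h0, comp_zero]
      have h2 : p (k + 1) ≫ t = 0 := by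
        rw [← biprod.inr_desc_assoc (powDesc p k) (p (k + 1)) t, h0, comp_zero]
      rcases Nat.lt_or_ge j (k + 1) with hlt | hge
      · exact powDesc_comp_eq_zero p t k h1 j (by omega)
      · obtain rfl : j = k + 1 := by omega
        exact h2

lemma epi_powDesc {L M : C} {k : ℕ} (q : (∐ fun _ : Fin k => L) ⟶ M) [Epi q] :
    Epi (powDesc (fun j => if h : j < k then Sigma.ι (fun _ : Fin k => L) ⟨j, h⟩ ≫ q else 0) k) := by
  apply Preadditive.epi_of_cancel_zero
  intro Z t ht
  have h := powDesc_comp_eq_zero _ t k ht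
  have hq : q ≫ t = 0 := by
    apply Sigma.hom_ext
    rintro ⟨j, hj⟩
    have h' := h j hj.le
    simp only [dif_pos hj] at h'
    rw [comp_zero, ← Category.assoc]
    exact h'
  exact zero_of_epi_comp q hq

end PowSum

section PowSumMod

variable {X : Scheme.{u}}

lemma isCoh_powSum (L : X.Modules) (hL : Coh.IsCoh L) : ∀ k, Coh.IsCoh (powSum L k)
  | 0 => hL
  | k + 1 => by
      have h := isCoh_powSum L hL k
      haveI : (powSum L k).IsQuasicoherent := h.1
      haveI : (powSum L k).IsFiniteType := h.2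
      haveI : L.IsQuasicoherent := hL.1
      haveI : L.IsFiniteType := hL.2
      exact ⟨QCLim.isQuasicoherent_biprod _ _, FTApprox.isFiniteType_biprod _ _⟩

variable (A : Type u) [CommRing A] [IsNoetherianRing A] [X.Over (Spec (CommRingCat.of A))]

lemma finite_HH_powSum (L : X.Modules) (i : ℕ) (hL : Module.Finite A (Coh.HH X L i)) :
    ∀ k, Module.Finite A (Coh.HH X (powSum L k) i)
  | 0 => hL
  | k + 1 => by
      haveI := finite_HH_powSum L i hL k
      haveI := hL
      have hS : (ShortComplex.mk (biprod.inl : powSum L k ⟶ powSum L k ⊞ L) biprod.snd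
          (by simp)).ShortExact :=
        (ShortComplex.Splitting.ofHasBinaryBiproduct (powSum L k) L).shortExact
      exact finite_of_exact (HmapL A (biprod.inl : powSum L k ⟶ powSum L k ⊞ L) i)
        (HmapL A (biprod.snd : powSum L k ⊞ L ⟶ L) i) (exact_mid A _ hS i)

end PowSumMod

end Groth.Agent.Lib.Helper7.CohFinite
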