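import Mathlib
import Groth.Prelude.Def_ega3
import Groth.Agent.Lib.Helper7.TorBC
import Groth.Agent.Lib.Helper7.CxTransfer
set_option autoImplicit false
universe u
open CategoryTheory CategoryTheory.Limits MonoidalCategory TensorProduct

namespace Groth.Agent.Lib.Helper7

variable {A B : Type u} [CommRing A] [CommRing B]

section distrib
variable {ι : Type} {c : ComplexShape ι} (φ : A →+* B)
  (P : HomologicalComplex (ModuleCat.{u} A) c) (X : ModuleCat.{u} A)

/-- degreewise `B ⊗ (P_i ⊗ X) ≃ (B ⊗ P_i) ⊗_B (B ⊗ X)`. -/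
noncomputable def distribE (i : ι) :
    (CohIII.bcCx φ (CohIII.tensorObj P X)).X i ≃+
      (CohIII.tensorObj (CohIII.bcCx φ P) ((ModuleCat.extendScalars φ).obj X)).X i :=
  letI := φ.toAlgebra
  let e : B ⊗[A] (P.X i ⊗[A] X) ≃+ (B ⊗[A] P.X i) ⊗[B] (B ⊗[A] X) :=
    (TensorProduct.AlgebraTensorModule.distribBaseChange A B (P.X i) X).toAddEquiv
  e

lemma distribE_smul (i : ι) (b : B) (z : (CohIII.bcCx φ (CohIII.tensorObj P X)).X i) :
    distribE φ P X i (b • z) = b • distribE φ P X i z := by
  letI := φ.toAlgebra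
  let z' : B ⊗[A] (P.X i ⊗[A] X) := z
  exact (TensorProduct.AlgebraTensorModule.distribBaseChange A B (P.X i) X).map_smul b z'

lemma distribE_comm (i j : ι) (z : (CohIII.bcCx φ (CohIII.tensorObj P X)).X i) :
    distribE φ P X j (((CohIII.bcCx φ (CohIII.tensorObj P X)).d i j).hom z) =
      ((CohIII.tensorObj (CohIII.bcCx φ P) ((ModuleCat.extendScalars φ).obj X)).d i j).hom
        (distribE φ P X i z) := by
  rw [tensorObj_d]
  letI := φ.toAlgebra
  let z' : B ⊗[A] (P.X i ⊗[A] X) := z
  have h : TensorProduct.AlgebraTensorModule.distribBaseChange A B (P.X j) X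
      ((LinearMap.rTensor X (P.d i j).hom).baseChange B z') =
      LinearMap.rTensor (B ⊗[A] X) ((P.d i j).hom.baseChange B)
        (TensorProduct.AlgebraTensorModule.distribBaseChange A B (P.X i) X z') := by
    induction z' using TensorProduct.induction_on with
    | zero => simp only [map_zero]
    | tmul b w =>
      induction w using TensorProduct.induction_on with
      | zero => simp only [tmul_zero, map_zero]
      | tmul x p =>
        simp only [LinearMap.baseChange_tmul, LinearMap.rTensor_tmul,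
          TensorProduct.AlgebraTensorModule.distribBaseChange_tmul]
      | add w w' hw hw' => simp only [tmul_add, map_add, hw, hw']
    | add z z' hz hz' => simp only [map_add, hz, hz']
  exact h

noncomputable def distribCx :
    CxAddEquiv (CohIII.bcCx φ (CohIII.tensorObj P X))
      (CohIII.tensorObj (CohIII.bcCx φ P) ((ModuleCat.extendScalars φ).obj X)) where
  e i := distribE φ P X i
  comm i j z := distribE_comm φ P X i j z

/-- `H_p(B ⊗ (P ⊗ X)) ≃ₗ[B] T^{B ⊗ P}_p(B ⊗ X)`. -/
noncomputable def distribHEquiv (p : ι) :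
    (CohIII.bcCx φ (CohIII.tensorObj P X)).homology p ≃ₗ[B]
      (CohIII.TFun (CohIII.bcCx φ P) p).obj ((ModuleCat.extendScalars φ).obj X) :=
  { toFun := (distribCx φ P X).homologyEquiv p
    invFun := ((distribCx φ P X).homologyEquiv p).symm
    map_add' := ((distribCx φ P X).homologyEquiv p).map_add
    map_smul' := fun b h =>
      CxAddHom.homologyMap_smul (distribCx φ P X).toHom p b b
        (fun z => distribE_smul φ P X p b z) h
    left_inv := ((distribCx φ P X).homologyEquiv p).left_inv
    right_inv := ((distribCx φ P X).homologyEquiv p).right_inv }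

end distrib

/-- S2428: flat base change of Tor. -/
theorem nonempty_Tor_flat_bc (φ : A →+* B) [alg : Algebra A B] (halg : alg = φ.toAlgebra)
    [Module.Flat A B] (P Q : Type u) [AddCommGroup P] [Module A P] [AddCommGroup Q] [Module A Q]
    (n : ℕ) :
    Nonempty (B ⊗[A] (((Tor (ModuleCat.{u} A) n).obj (ModuleCat.of A P)).obj (ModuleCat.of A Q))
      ≃ₗ[B] ((Tor (ModuleCat.{u} B) n).obj (ModuleCat.of B (B ⊗[A] P))).obj
        (ModuleCat.of B (B ⊗[A] Q))) := by
  let R := ProjectiveResolution.of (ModuleCat.of A Q)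
  have hvan : ∀ i, (CohIII.bcCx φ R.complex).ExactAt (i + 1) := fun i =>
    exactAt_bcCx_of_flat φ halg R.complex (i + 1)
      ((FlatRes.ofProjectiveResolution R).exactAt i)
  obtain ⟨i1⟩ := nonempty_Tor_iso_T (ModuleCat.of A P) (ModuleCat.of A Q) R n
  have e1 : B ⊗[A] (((Tor (ModuleCat.{u} A) n).obj (ModuleCat.of A P)).obj (ModuleCat.of A Q))
      ≃ₗ[B] B ⊗[A] (CohIII.T R.complex n (ModuleCat.of A P)) :=
    LinearEquiv.baseChange A B _ _ i1.toLinearEquiv
  have e2 : B ⊗[A] (CohIII.T R.complex n (ModuleCat.of A P)) ≃ₗ[B]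
      (CohIII.bcCx φ (CohIII.tensorObj R.complex (ModuleCat.of A P))).homology n := by
    have i2 := (homologyBcCxIso φ halg (CohIII.tensorObj R.complex (ModuleCat.of A P)) n).symm
    subst halg
    exact i2.toLinearEquiv
  have e3 := distribHEquiv φ R.complex (ModuleCat.of A P) n
  obtain ⟨e4⟩ : Nonempty (((Tor (ModuleCat.{u} B) n).obj
      ((ModuleCat.extendScalars φ).obj (ModuleCat.of A P))).obj
      ((ModuleCat.extendScalars φ).obj (ModuleCat.of A Q)) ≃ₗ[B]
      (CohIII.TFun (CohIII.bcCx φ R.complex) n).obj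
        ((ModuleCat.extendScalars φ).obj (ModuleCat.of A P))) :=
    nonempty_Tor_equiv_T_of_flatRes_right ((FlatRes.ofProjectiveResolution R).bc φ hvan) _ n
  let g1 := (((Tor (ModuleCat.{u} B) n).mapIso (extendScalarsOfIso φ halg P)).app
    ((ModuleCat.extendScalars φ).obj (ModuleCat.of A Q))).toLinearEquiv
  let g2 := (((Tor (ModuleCat.{u} B) n).obj (ModuleCat.of B (B ⊗[A] P))).mapIso
    (extendScalarsOfIso φ halg Q)).toLinearEquiv
  exact ⟨e1.trans (e2.trans (e3.trans (e4.symm.trans (g1.trans g2))))⟩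

end Groth.Agent.Lib.Helper7
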