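import Mathlib
import Groth.Prelude.Def_ega3
import Groth.Agent.Lib.Helper7.TorLES
set_option autoImplicit false
universe u
open CategoryTheory CategoryTheory.Limits MonoidalCategory TensorProduct

namespace Groth.Agent.Lib.Helper7

variable {A : Type u} [CommRing A]

/-- `Tor_{n+1}(X₃) = 0` and `Tor_n(X₂) = 0` imply `Tor_n(X₁) = 0`. -/
theorem Tor_isZero_X₁_of_shortExact (S : ShortComplex (ModuleCat.{u} A)) (hS : S.ShortExact)
    (M : ModuleCat.{u} A) (n : ℕ)
    (h₂ : IsZero (((Tor (ModuleCat.{u} A) n).obj S.X₂).obj M))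
    (h₃ : IsZero (((Tor (ModuleCat.{u} A) (n + 1)).obj S.X₃).obj M)) :
    IsZero (((Tor (ModuleCat.{u} A) n).obj S.X₁).obj M) := by
  let Q := ProjectiveResolution.of M
  let hQ := FlatRes.ofProjectiveResolution Q
  obtain ⟨i1⟩ := nonempty_Tor_iso_T S.X₁ M Q n
  obtain ⟨i2⟩ := nonempty_Tor_iso_T S.X₂ M Q n
  obtain ⟨i3⟩ := nonempty_Tor_iso_T S.X₃ M Q (n + 1)
  have hSE := tensorSC_shortExact Q.complex hQ.flat S hS
  have hrel : (ComplexShape.down ℕ).Rel (n + 1) n := rfl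
  have e1 := hSE.homology_exact₁ (n + 1) n hrel
  have z2 : IsZero (CohIII.T Q.complex n S.X₂) := IsZero.of_iso h₂ i2.symm
  have z3 : IsZero (CohIII.T Q.complex (n + 1) S.X₃) := IsZero.of_iso h₃ i3.symm
  have z1 : IsZero (CohIII.T Q.complex n S.X₁) :=
    e1.isZero_X₂ (z3.eq_of_src _ _) (z2.eq_of_tgt _ _)
  exact IsZero.of_iso z1 i1

/-- `Tor_{n+1}(X₂) = 0` and `Tor_n(X₁) = 0` imply `Tor_{n+1}(X₃) = 0`. -/
theorem Tor_isZero_X₃_of_shortExact (S : ShortComplex (ModuleCat.{u} A)) (hS : S.ShortExact)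
    (M : ModuleCat.{u} A) (n : ℕ)
    (h₂ : IsZero (((Tor (ModuleCat.{u} A) (n + 1)).obj S.X₂).obj M))
    (h₁ : IsZero (((Tor (ModuleCat.{u} A) n).obj S.X₁).obj M)) :
    IsZero (((Tor (ModuleCat.{u} A) (n + 1)).obj S.X₃).obj M) := by
  let Q := ProjectiveResolution.of M
  let hQ := FlatRes.ofProjectiveResolution Q
  obtain ⟨i1⟩ := nonempty_Tor_iso_T S.X₁ M Q n
  obtain ⟨i2⟩ := nonempty_Tor_iso_T S.X₂ M Q (n + 1)
  obtain ⟨i3⟩ := nonempty_Tor_iso_T S.X₃ M Q (n + 1)
  have hSE := tensorSC_shortExact Q.complex hQ.flat S hS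
  have hrel : (ComplexShape.down ℕ).Rel (n + 1) n := rfl
  have e3 := hSE.homology_exact₃ (n + 1) n hrel
  have z2 : IsZero (CohIII.T Q.complex (n + 1) S.X₂) := IsZero.of_iso h₂ i2.symm
  have z1 : IsZero (CohIII.T Q.complex n S.X₁) := IsZero.of_iso h₁ i1.symm
  have z3 : IsZero (CohIII.T Q.complex (n + 1) S.X₃) :=
    e3.isZero_X₂ (z2.eq_of_src _ _) (z1.eq_of_tgt _ _)
  exact IsZero.of_iso z3 i3

section linear
variable {X₁ X₂ X₃ : Type u} [AddCommGroup X₁] [Module A X₁]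
    [AddCommGroup X₂] [Module A X₂] [AddCommGroup X₃] [Module A X₃]
    (f : X₁ →ₗ[A] X₂) (g : X₂ →ₗ[A] X₃) (hf : Function.Injective f)
    (hfg : Function.Exact f g) (hg : Function.Surjective g)
include hf hfg hg

theorem Tor_isZero_X₁_of_exact (M : ModuleCat.{u} A) (n : ℕ)
    (h₂ : IsZero (((Tor (ModuleCat.{u} A) n).obj (ModuleCat.of A X₂)).obj M))
    (h₃ : IsZero (((Tor (ModuleCat.{u} A) (n + 1)).obj (ModuleCat.of A X₃)).obj M)) :
    IsZero (((Tor (ModuleCat.{u} A) n).obj (ModuleCat.of A X₁)).obj M) := by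
  let S : ShortComplex (ModuleCat.{u} A) := ModuleCat.shortComplexOfCompEqZero f g
    (LinearMap.ext (fun x => hfg.apply_apply_eq_zero x))
  have hS : S.ShortExact := ModuleCat.shortComplex_shortExact S hfg hf hg
  exact Tor_isZero_X₁_of_shortExact S hS M n h₂ h₃

theorem Tor_isZero_X₃_of_exact (M : ModuleCat.{u} A) (n : ℕ)
    (h₂ : IsZero (((Tor (ModuleCat.{u} A) (n + 1)).obj (ModuleCat.of A X₂)).obj M))
    (h₁ : IsZero (((Tor (ModuleCat.{u} A) n).obj (ModuleCat.of A X₁)).obj M)) :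
    IsZero (((Tor (ModuleCat.{u} A) (n + 1)).obj (ModuleCat.of A X₃)).obj M) := by
  let S : ShortComplex (ModuleCat.{u} A) := ModuleCat.shortComplexOfCompEqZero f g
    (LinearMap.ext (fun x => hfg.apply_apply_eq_zero x))
  have hS : S.ShortExact := ModuleCat.shortComplex_shortExact S hfg hf hg
  exact Tor_isZero_X₃_of_shortExact S hS M n h₂ h₁

end linear

/-- S8710. -/
theorem tor_fibreProduct_vanishing (R B' B C S : Type u) [CommRing R] [CommRing B'] [CommRing B]
    [CommRing C] [CommRing S] [Algebra R B'] [Algebra R B] [Algebra R C] [Algebra R S]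
    (f : B' →ₐ[R] B) (hf : Function.Surjective f) (g : C →ₐ[R] B) [Module.Flat R B'] (n : ℕ)
    (hC : ∀ i : ℕ, 0 < i → i < n →
      IsZero (((Tor (ModuleCat.{u} R) i).obj (ModuleCat.of R C)).obj (ModuleCat.of R S)))
    (hB : ∀ i : ℕ, 0 < i → i ≤ n →
      IsZero (((Tor (ModuleCat.{u} R) i).obj (ModuleCat.of R B)).obj (ModuleCat.of R S))) :
    ∀ i : ℕ, 0 < i → i < n →
      IsZero (((Tor (ModuleCat.{u} R) i).obj (ModuleCat.of R
        ↥(AlgHom.equalizer (f.comp (AlgHom.fst R B' C)) (g.comp (AlgHom.snd R B' C))))).obj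
        (ModuleCat.of R S)) := by
  intro i hi hin
  -- Tor_i(B' × C, S) = 0
  have hprod : IsZero (((Tor (ModuleCat.{u} R) i).obj (ModuleCat.of R (B' × C))).obj
      (ModuleCat.of R S)) := by
    have hB' : IsZero (((Tor (ModuleCat.{u} R) i).obj (ModuleCat.of R B')).obj
        (ModuleCat.of R S)) := by
      haveI := Tor_subsingleton_of_flat_left (ModuleCat.of R B') (ModuleCat.of R S)
        (inferInstanceAs (Module.Flat R B')) i hi
      exact ModuleCat.isZero_of_subsingleton _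
    refine Tor_isZero_of_exact_left (LinearMap.inl R B' C) (LinearMap.snd R B' C)
      LinearMap.inl_injective ?_ LinearMap.snd_surjective (ModuleCat.of R S) i hB' (hC i hi hin)
    intro x
    constructor
    · intro hx
      exact ⟨x.1, Prod.ext rfl (by simpa using hx.symm)⟩
    · rintro ⟨b, rfl⟩
      rfl
  let P := AlgHom.equalizer (f.comp (AlgHom.fst R B' C)) (g.comp (AlgHom.snd R B' C))
  let ι : P →ₗ[R] B' × C := P.val.toLinearMap
  let h : B' × C →ₗ[R] B :=
    f.toLinearMap ∘ₗ LinearMap.fst R B' C - g.toLinearMap ∘ₗ LinearMap.snd R B' C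
  have hι : Function.Injective ι := Subtype.val_injective
  have hh : Function.Surjective h := by
    intro b
    obtain ⟨b', rfl⟩ := hf b
    refine ⟨(b', 0), ?_⟩
    show f b' - g 0 = f b'
    rw [map_zero, sub_zero]
  have hex : Function.Exact ι h := by
    intro x
    show f x.1 - g x.2 = 0 ↔ x ∈ Set.range ι
    rw [sub_eq_zero]
    constructor
    · intro hx
      exact ⟨⟨x, hx⟩, rfl⟩
    · rintro ⟨y, rfl⟩
      exact y.2
  exact Tor_isZero_X₁_of_exact ι h hι hex hh (ModuleCat.of R S) i hprod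
    (hB (i + 1) (Nat.succ_pos i) hin)

end Groth.Agent.Lib.Helper7
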