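import Mathlib
import Groth.Prelude.Def_ega3
import Groth.Agent.Lib.Helper7.TorLES3
import Groth.Agent.Lib.Helper7.TorLES2
import Groth.Agent.Lib.Helper7.TorBC
import Groth.Agent.Lib.Helper7.TorBC2
set_option autoImplicit false
universe u
open CategoryTheory CategoryTheory.Limits MonoidalCategory TensorProduct

namespace Groth.Agent.Lib.Helper7

variable {A : Type u} [CommRing A]

/-- If `Tor_q^A(M, A/I) = 0` for `q > 0` and `M/IM` is flat over `A/I`, then `Tor_n^A(M, N) = 0`
for all `n > 0` and all `N` killed by `I`. -/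
theorem Tor_subsingleton_of_torsion_of_vanishing (I : Ideal A) (M : Type u) [AddCommGroup M]
    [Module A M] [Module.Flat (A ⧸ I) ((A ⧸ I) ⊗[A] M)]
    (hvan : ∀ q : ℕ, 0 < q → Subsingleton
      (((Tor (ModuleCat.{u} A) q).obj (ModuleCat.of A M)).obj (ModuleCat.of A (A ⧸ I))))
    (N : Type u) [AddCommGroup N] [Module A N] (hN : ∀ a : A, a ∈ I → ∀ x : N, a • x = 0)
    (n : ℕ) (hn : 0 < n) :
    Subsingleton (((Tor (ModuleCat.{u} A) n).obj (ModuleCat.of A M)).obj (ModuleCat.of A N)) := by
  let φ : A →+* A ⧸ I := Ideal.Quotient.mk I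
  have halg : (inferInstance : Algebra A (A ⧸ I)) = φ.toAlgebra :=
    Algebra.algebra_ext _ _ (fun r => rfl)
  have htors : Module.IsTorsionBySet A N (I : Set A) := fun x a => hN a.1 a.2 x
  letI : Module (A ⧸ I) N := htors.module
  haveI : IsScalarTower A (A ⧸ I) N := htors.isScalarTower
  obtain ⟨ψ, hψ⟩ := exists_semilinear_Tor_of_vanishing φ (alg := inferInstance) halg M N hvan n
  haveI := Tor_subsingleton_of_flat_left (ModuleCat.of (A ⧸ I) ((A ⧸ I) ⊗[A] M))
    (ModuleCat.of (A ⧸ I) N) inferInstance n hn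
  exact hψ.1.subsingleton

/-- multiplication by `t` is injective on `H_n(P ⊗ N)` as soon as `H_n(P ⊗ X)` and
`H_{n+1}(P ⊗ X)` vanish for all `X` killed by `t` (`P` degreewise flat). -/
theorem smul_injective_T_of_torsion_vanish (P : ChainComplex (ModuleCat.{u} A) ℕ)
    (hP : ∀ i, Module.Flat A (P.X i)) (t : A) (n : ℕ)
    (h₁ : ∀ (X : Type u) [AddCommGroup X] [Module A X], (∀ x : X, t • x = 0) →
      IsZero (CohIII.T P n (ModuleCat.of A X)))
    (h₂ : ∀ (X : Type u) [AddCommGroup X] [Module A X], (∀ x : X, t • x = 0) →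
      IsZero (CohIII.T P (n + 1) (ModuleCat.of A X)))
    (N : Type u) [AddCommGroup N] [Module A N] :
    Function.Injective (fun y : CohIII.T P n (ModuleCat.of A N) => t • y) := by
  let φ : N →ₗ[A] N := t • LinearMap.id
  have hφ : ∀ x : N, φ x = t • x := fun x => rfl
  let S₁ : ShortComplex (ModuleCat.{u} A) :=
    ModuleCat.shortComplexOfCompEqZero (LinearMap.ker φ).subtype φ.rangeRestrict (by
      ext x
      exact x.2)
  have hS₁ : S₁.ShortExact := ModuleCat.shortComplex_shortExact S₁
    (show Function.Exact (LinearMap.ker φ).subtype φ.rangeRestrict from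
      LinearMap.exact_iff.mpr (by rw [LinearMap.ker_rangeRestrict, Submodule.range_subtype]))
    (Submodule.injective_subtype _) (LinearMap.surjective_rangeRestrict φ)
  let S₂ : ShortComplex (ModuleCat.{u} A) :=
    ModuleCat.shortComplexOfCompEqZero (LinearMap.range φ).subtype (LinearMap.range φ).mkQ
      (LinearMap.ext (fun x => (LinearMap.exact_subtype_mkQ _).apply_apply_eq_zero x))
  have hS₂ : S₂.ShortExact := ModuleCat.shortComplex_shortExact S₂
    (LinearMap.exact_subtype_mkQ _) (Submodule.injective_subtype _) (Submodule.mkQ_surjective _)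
  have hz₁ : IsZero (CohIII.T P n S₁.X₁) := h₁ (LinearMap.ker φ) (fun x => by
    apply Subtype.ext
    exact x.2)
  have hz₂ : IsZero (CohIII.T P (n + 1) S₂.X₃) := h₂ (N ⧸ LinearMap.range φ) (fun x => by
    obtain ⟨y, rfl⟩ := Submodule.mkQ_surjective _ x
    rw [← map_smul]
    exact (Submodule.Quotient.mk_eq_zero _).mpr ⟨y, rfl⟩)
  have e2 := (tensorSC_shortExact P hP S₁ hS₁).homology_exact₂ n
  have e1 := (tensorSC_shortExact P hP S₂ hS₂).homology_exact₁ (n + 1) n rfl
  have m1 : Mono ((CohIII.TFun P n).map S₁.g) := e2.mono_g (hz₁.eq_of_src _ _)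
  have m2 : Mono ((CohIII.TFun P n).map S₂.f) := e1.mono_g (hz₂.eq_of_src _ _)
  have hcomp : S₁.g ≫ S₂.f = t • 𝟙 (ModuleCat.of A N) := by
    ext x
    rfl
  have m3 : Mono ((CohIII.TFun P n).map (t • 𝟙 (ModuleCat.of A N))) := by
    rw [← hcomp, Functor.map_comp]
    exact mono_comp _ _
  have heq : (CohIII.TFun P n).map (t • 𝟙 (ModuleCat.of A N)) =
      t • 𝟙 (CohIII.T P n (ModuleCat.of A N)) := by
    show HomologicalComplex.homologyMap (CohIII.tensorMap P (t • 𝟙 (ModuleCat.of A N))) n = _
    rw [tensorMap_smul_id, homologyMap_smul', HomologicalComplex.homologyMap_id]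
  rw [heq] at m3
  have hinj := (ModuleCat.mono_iff_injective _).mp m3
  intro y y' h
  exact hinj h

/-- Flatness can be checked modulo a regular element and after inverting it. -/
theorem flat_of_regular_of_flat_quot_of_flat_away (t : A) (M : Type u) [AddCommGroup M]
    [Module A M] (htA : IsSMulRegular A t) (htM : IsSMulRegular M t)
    (h1 : Module.Flat (A ⧸ Ideal.span {t}) ((A ⧸ Ideal.span {t}) ⊗[A] M))
    (h2 : Module.Flat (Localization.Away t) (Localization.Away t ⊗[A] M)) :
    Module.Flat A M := by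
  have hvanI : ∀ q : ℕ, 0 < q → Subsingleton
      (((Tor (ModuleCat.{u} A) q).obj (ModuleCat.of A M)).obj
        (ModuleCat.of A (A ⧸ Ideal.span {t}))) :=
    fun q hq => Tor_subsingleton_quot_regular M t htA htM q hq
  have hα : ∀ (X : Type u) [AddCommGroup X] [Module A X], (∀ x : X, t • x = 0) →
      ∀ n : ℕ, 0 < n →
      IsZero (((Tor (ModuleCat.{u} A) n).obj (ModuleCat.of A X)).obj (ModuleCat.of A M)) := by
    intro X _ _ hX n hn
    have hX' : ∀ a : A, a ∈ Ideal.span {t} → ∀ x : X, a • x = 0 := by
      intro a ha x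
      obtain ⟨b, rfl⟩ := Ideal.mem_span_singleton'.mp ha
      rw [mul_smul, hX, smul_zero]
    haveI := Tor_subsingleton_of_torsion_of_vanishing (Ideal.span {t}) M hvanI X hX' n hn
    obtain ⟨e⟩ := nonempty_Tor_equiv_flip (ModuleCat.of A X) (ModuleCat.of A M) n
    haveI := e.toEquiv.subsingleton
    exact ModuleCat.isZero_of_subsingleton _
  have key : ∀ (N : Type u) [AddCommGroup N] [Module A N], Subsingleton
      (((Tor (ModuleCat.{u} A) 1).obj (ModuleCat.of A N)).obj (ModuleCat.of A M)) := by
    intro N _ _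
    let Q := ProjectiveResolution.of (ModuleCat.of A M)
    let hQ := FlatRes.ofProjectiveResolution Q
    have hT : ∀ (X : Type u) [AddCommGroup X] [Module A X], (∀ x : X, t • x = 0) →
        ∀ n : ℕ, 0 < n → IsZero (CohIII.T Q.complex n (ModuleCat.of A X)) := by
      intro X _ _ hX n hn
      obtain ⟨i⟩ := nonempty_Tor_iso_T (ModuleCat.of A X) (ModuleCat.of A M) Q n
      exact IsZero.of_iso (hα X hX n hn) i.symm
    have hinj := smul_injective_T_of_torsion_vanish Q.complex hQ.flat t 1
      (fun X _ _ hX => hT X hX 1 one_pos) (fun X _ _ hX => hT X hX 2 two_pos) N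
    obtain ⟨i1⟩ := nonempty_Tor_iso_T (ModuleCat.of A N) (ModuleCat.of A M) Q 1
    have hinjT : Function.Injective (fun y : ((Tor (ModuleCat.{u} A) 1).obj
        (ModuleCat.of A N)).obj (ModuleCat.of A M) => t • y) := by
      intro y y' h
      have h' : t • i1.hom y = t • i1.hom y' := by
        rw [← map_smul, ← map_smul]
        exact congrArg _ h
      exact i1.toLinearEquiv.injective (hinj h')
    have halgB : (inferInstance : Algebra A (Localization.Away t)) =
        (algebraMap A (Localization.Away t)).toAlgebra := Algebra.algebra_ext _ _ (fun r => rfl)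
    haveI : Module.Flat A (Localization.Away t) := IsLocalization.flat _ (Submonoid.powers t)
    obtain ⟨eB⟩ := nonempty_Tor_flat_bc (algebraMap A (Localization.Away t))
      (alg := inferInstance) halgB N M 1
    haveI := Tor_subsingleton_of_flat_right
      (ModuleCat.of (Localization.Away t) (Localization.Away t ⊗[A] N))
      (ModuleCat.of (Localization.Away t) (Localization.Away t ⊗[A] M)) h2 1 one_pos
    haveI := eB.toEquiv.subsingleton
    have hloc : IsLocalizedModule (Submonoid.powers t)
        (TensorProduct.mk A (Localization.Away t) (((Tor (ModuleCat.{u} A) 1).obj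
          (ModuleCat.of A N)).obj (ModuleCat.of A M)) 1) :=
      (isLocalizedModule_iff_isBaseChange (Submonoid.powers t) (Localization.Away t) _).mpr
        (TensorProduct.isBaseChange A _ (Localization.Away t))
    have hpow : ∀ (k : ℕ) (x : ((Tor (ModuleCat.{u} A) 1).obj
        (ModuleCat.of A N)).obj (ModuleCat.of A M)), t ^ k • x = 0 → x = 0 := by
      intro k
      induction k with
      | zero => intro x hx; rwa [pow_zero, one_smul] at hx
      | succ k ih =>
        intro x hx
        apply ih
        apply hinjT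
        show t • (t ^ k • x) = t • 0
        rw [smul_zero, smul_smul, ← pow_succ']
        exact hx
    refine ⟨fun x y => ?_⟩
    have hz : ∀ x : ((Tor (ModuleCat.{u} A) 1).obj
        (ModuleCat.of A N)).obj (ModuleCat.of A M), x = 0 := by
      intro x
      have h0 : TensorProduct.mk A (Localization.Away t) _ 1 x = 0 := Subsingleton.elim _ _
      obtain ⟨⟨c, k, rfl⟩, hc⟩ := (IsLocalizedModule.eq_zero_iff (Submonoid.powers t) _).mp h0
      exact hpow k x hc
    rw [hz x, hz y]
  rw [Module.Flat.iff_rTensor_injective']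
  intro J
  obtain ⟨e⟩ := nonempty_Tor1_equiv_ker' J.subtype J.mkQ J.injective_subtype
    (LinearMap.exact_subtype_mkQ J) (Submodule.mkQ_surjective J) M
  haveI := key (A ⧸ J)
  haveI := e.symm.toEquiv.subsingleton
  rw [← LinearMap.ker_eq_bot]
  exact Submodule.eq_bot_of_subsingleton

end Groth.Agent.Lib.Helper7
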