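import Mathlib
import Groth.Prelude.Def_ega3
import Groth.Agent.Lib.Helper7.TorTors
import Groth.Agent.Lib.Helper7.BcOpcycles
set_option autoImplicit false
universe u
open CategoryTheory CategoryTheory.Limits MonoidalCategory TensorProduct

namespace Groth.Agent.Lib.Helper7

variable {A : Type u} [CommRing A]

/-- `M` is flat as soon as `Tor_1(A/J, M) = 0` for all ideals `J`. -/
theorem flat_of_forall_Tor1_quot (M : Type u) [AddCommGroup M] [Module A M]
    (h : ∀ J : Ideal A, Subsingleton (((Tor (ModuleCat.{u} A) 1).obj (ModuleCat.of A (A ⧸ J))).obj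
      (ModuleCat.of A M))) : Module.Flat A M := by
  rw [Module.Flat.iff_rTensor_injective']
  intro J
  obtain ⟨e⟩ := nonempty_Tor1_equiv_ker' J.subtype J.mkQ J.injective_subtype
    (LinearMap.exact_subtype_mkQ J) (Submodule.mkQ_surjective J) M
  haveI := h J
  haveI := e.symm.toEquiv.subsingleton
  rw [← LinearMap.ker_eq_bot]
  exact Submodule.eq_bot_of_subsingleton

/-- the kernel of a surjection of flat modules is flat. -/
theorem flat_of_exact_of_flat {X₁ X₂ X₃ : Type u} [AddCommGroup X₁] [Module A X₁]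
    [AddCommGroup X₂] [Module A X₂] [AddCommGroup X₃] [Module A X₃]
    (f : X₁ →ₗ[A] X₂) (g : X₂ →ₗ[A] X₃) (hf : Function.Injective f)
    (hfg : Function.Exact f g) (hg : Function.Surjective g)
    [h₂ : Module.Flat A X₂] [h₃ : Module.Flat A X₃] : Module.Flat A X₁ := by
  apply flat_of_forall_Tor1_quot
  intro J
  haveI := Tor_subsingleton_of_flat_left (ModuleCat.of A X₂) (ModuleCat.of A (A ⧸ J)) h₂ 1 one_pos
  haveI := Tor_subsingleton_of_flat_left (ModuleCat.of A X₃) (ModuleCat.of A (A ⧸ J)) h₃ 2 two_pos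
  have hz := Tor_isZero_X₁_of_exact f g hf hfg hg (ModuleCat.of A (A ⧸ J)) 1
    (ModuleCat.isZero_of_subsingleton _) (ModuleCat.isZero_of_subsingleton _)
  obtain ⟨e⟩ := nonempty_Tor_equiv_flip (ModuleCat.of A (A ⧸ J)) (ModuleCat.of A X₁) 1
  haveI := ModuleCat.subsingleton_of_isZero hz
  exact e.toEquiv.subsingleton

/-- A complex of flat modules, exact in degrees `1..n+1`, with flat `H_0`, stays exact in degree
`n+1` after any tensor product. -/
theorem T_isZero_of_exactAt_of_flat_opcycles (G : ChainComplex (ModuleCat.{u} A) ℕ)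
    (hG : ∀ i, Module.Flat A (G.X i)) (h0 : Module.Flat A (G.opcycles 0)) (n : ℕ)
    (hex : ∀ k, 1 ≤ k → k ≤ n + 1 → G.ExactAt k) (N : ModuleCat.{u} A) :
    IsZero (CohIII.T G (n + 1) N) := by
  have hfl : ∀ k, k ≤ n → Module.Flat A (G.opcycles k) := by
    intro k
    induction k with
    | zero => intro _; exact h0
    | succ k ih =>
      intro hk
      have hS := syzSC_shortExact G k (hex (k + 1) (by omega) (by omega))
      haveI := ih (by omega)
      haveI := hG k
      exact flat_of_exact_of_flat (G.fromOpcycles (k + 1) k).hom (G.pOpcycles k).hom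
        hS.moduleCat_injective_f
        ((ShortComplex.ShortExact.moduleCat_exact_iff_function_exact _).mp hS.exact)
        hS.moduleCat_surjective_g
  obtain ⟨e⟩ := nonempty_T_equiv_ker_fromOpcycles G N (n + 1) n (ChainComplex.next_nat_succ n)
  have hS := syzSC_shortExact G n (hex (n + 1) (by omega) le_rfl)
  have hinj : Function.Injective ((G.fromOpcycles (n + 1) n).hom.rTensor N) :=
    rTensor_injective_of_exact_of_flat (G.fromOpcycles (n + 1) n).hom (G.pOpcycles n).hom
      hS.moduleCat_injective_f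
      ((ShortComplex.ShortExact.moduleCat_exact_iff_function_exact _).mp hS.exact)
      hS.moduleCat_surjective_g (hfl := hfl n le_rfl) N
  haveI : Subsingleton (LinearMap.ker ((G.fromOpcycles (n + 1) n).hom.rTensor N)) := by
    rw [LinearMap.ker_eq_bot.mpr hinj]
    infer_instance
  haveI := e.toEquiv.subsingleton
  exact ModuleCat.isZero_of_subsingleton _

section partialVan
variable (I : Ideal A) (M : Type u) [AddCommGroup M] [Module A M]

theorem Tor_isZero_of_torsion_of_partial_vanishing [Module.Flat (A ⧸ I) ((A ⧸ I) ⊗[A] M)] (n : ℕ)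
    (h : ∀ q : ℕ, 1 ≤ q → q ≤ n + 1 →
      IsZero (((Tor (ModuleCat.{u} A) q).obj (ModuleCat.of A (A ⧸ I))).obj (ModuleCat.of A M)))
    (N : Type u) [AddCommGroup N] [Module A N] (hN : ∀ a : A, a ∈ I → ∀ x : N, a • x = 0) :
    IsZero (((Tor (ModuleCat.{u} A) (n + 1)).obj (ModuleCat.of A N)).obj (ModuleCat.of A M)) := by
  let φ : A →+* A ⧸ I := Ideal.Quotient.mk I
  have halg : (inferInstance : Algebra A (A ⧸ I)) = φ.toAlgebra :=
    Algebra.algebra_ext _ _ (fun r => rfl)
  let Q := ProjectiveResolution.of (ModuleCat.of A M)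
  let hF := FlatRes.ofProjectiveResolution Q
  have hex : ∀ q, 1 ≤ q → q ≤ n + 1 → (CohIII.bcCx φ Q.complex).ExactAt q := by
    intro q hq1 hq2
    rw [HomologicalComplex.exactAt_iff_isZero_homology]
    obtain ⟨i1⟩ := nonempty_Tor_iso_T
      ((ModuleCat.restrictScalars φ).obj (ModuleCat.of (A ⧸ I) (A ⧸ I))) (ModuleCat.of A M) Q q
    let g := ((Tor (ModuleCat.{u} A) q).mapIso (ofRestrictScalarsIso φ halg (A ⧸ I))).app
      (ModuleCat.of A M)
    have hz : IsZero (CohIII.T Q.complex q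
        ((ModuleCat.restrictScalars φ).obj (ModuleCat.of (A ⧸ I) (A ⧸ I)))) :=
      IsZero.of_iso (IsZero.of_iso (h q hq1 hq2) g.symm) i1.symm
    haveI : Subsingleton ((CohIII.TFun Q.complex q).obj
        ((ModuleCat.restrictScalars φ).obj (ModuleCat.of (A ⧸ I) (A ⧸ I)))) :=
      ModuleCat.subsingleton_of_isZero hz
    haveI : Subsingleton ((CohIII.bcCx φ Q.complex).homology q) :=
      (linkHEquiv φ Q.complex q).toEquiv.subsingleton
    exact ModuleCat.isZero_of_subsingleton _
  have hfl0 : Module.Flat (A ⧸ I) ((CohIII.bcCx φ Q.complex).opcycles 0) := by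
    obtain ⟨e⟩ := nonempty_opcycles_bcCx_equiv φ halg Q.complex 0
    have e' : (CohIII.bcCx φ Q.complex).opcycles 0 ≃ₗ[A ⧸ I] (A ⧸ I) ⊗[A] M :=
      e.trans (LinearEquiv.baseChange A (A ⧸ I) _ _ hF.opcyclesZeroEquiv)
    exact Module.Flat.of_linearEquiv e'
  have hvan : ∀ N' : ModuleCat.{u} (A ⧸ I),
      IsZero (CohIII.T (CohIII.bcCx φ Q.complex) (n + 1) N') := fun N' =>
    T_isZero_of_exactAt_of_flat_opcycles (CohIII.bcCx φ Q.complex)
      (fun i => flat_bcCx_X φ halg Q.complex hF.flat i) hfl0 n hex N'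
  have htors : Module.IsTorsionBySet A N (I : Set A) := fun x a => hN a.1 a.2 x
  letI : Module (A ⧸ I) N := htors.module
  haveI : IsScalarTower A (A ⧸ I) N := htors.isScalarTower
  obtain ⟨i1⟩ := nonempty_Tor_iso_T (ModuleCat.of A N) (ModuleCat.of A M) Q (n + 1)
  let g := (CohIII.TFun Q.complex (n + 1)).mapIso (ofRestrictScalarsIso φ halg N)
  have hz := hvan (ModuleCat.of (A ⧸ I) N)
  haveI : Subsingleton ((CohIII.TFun (CohIII.bcCx φ Q.complex) (n + 1)).obj
      (ModuleCat.of (A ⧸ I) N)) := ModuleCat.subsingleton_of_isZero hz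
  haveI : Subsingleton ((CohIII.TFun Q.complex (n + 1)).obj
      ((ModuleCat.restrictScalars φ).obj (ModuleCat.of (A ⧸ I) N))) :=
    (linkTEquiv φ Q.complex (n + 1) (ModuleCat.of (A ⧸ I) N)).symm.toEquiv.subsingleton
  exact IsZero.of_iso (IsZero.of_iso (ModuleCat.isZero_of_subsingleton _) g) i1

theorem Tor_isZero_of_pow_torsion_of_partial_vanishing [Module.Flat (A ⧸ I) ((A ⧸ I) ⊗[A] M)]
    (n : ℕ)
    (h : ∀ q : ℕ, 1 ≤ q → q ≤ n + 1 →
      IsZero (((Tor (ModuleCat.{u} A) q).obj (ModuleCat.of A (A ⧸ I))).obj (ModuleCat.of A M)))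
    (m : ℕ) :
    ∀ (N : Type u) [AddCommGroup N] [Module A N],
      (∀ a : A, a ∈ I ^ m → ∀ x : N, a • x = 0) →
      IsZero (((Tor (ModuleCat.{u} A) (n + 1)).obj (ModuleCat.of A N)).obj
        (ModuleCat.of A M)) := by
  induction m with
  | zero =>
    intro N _ _ hN
    refine Tor_isZero_of_torsion_of_partial_vanishing I M n h N (fun a _ x => ?_)
    have hx : x = 0 := by
      have h1 : (1 : A) ∈ I ^ 0 := by
        rw [pow_zero, Ideal.one_eq_top]
        exact Submodule.mem_top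
      have := hN 1 h1 x
      rwa [one_smul] at this
    rw [hx, smul_zero]
  | succ m ih =>
    intro N _ _ hN
    let N₁ : Submodule A N := I • (⊤ : Submodule A N)
    have h1 : ∀ a : A, a ∈ I ^ m → ∀ x : N₁, a • x = 0 := by
      intro a ha x
      apply Subtype.ext
      show a • x.1 = 0
      refine Submodule.smul_induction_on x.2 (fun r hr n _ => ?_) (fun y z hy hz => ?_)
      · rw [smul_smul]
        exact hN (a * r) (by rw [pow_succ]; exact Ideal.mul_mem_mul ha hr) n
      · rw [smul_add, hy, hz, add_zero]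
    have h3 : ∀ a : A, a ∈ I → ∀ x : N ⧸ N₁, a • x = 0 := by
      intro a ha x
      obtain ⟨y, rfl⟩ := Submodule.mkQ_surjective N₁ x
      rw [← map_smul]
      show (Submodule.Quotient.mk (a • y) : N ⧸ N₁) = 0
      rw [Submodule.Quotient.mk_eq_zero]
      exact Submodule.smul_mem_smul ha Submodule.mem_top
    exact Tor_isZero_of_exact_left N₁.subtype N₁.mkQ N₁.injective_subtype
      (LinearMap.exact_subtype_mkQ N₁) (Submodule.mkQ_surjective N₁) (ModuleCat.of A M) (n + 1)
      (ih N₁ h1) (Tor_isZero_of_torsion_of_partial_vanishing I M n h (N ⧸ N₁) h3)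

end partialVan

/-- multiplication by `t` is injective on `H_n(P ⊗ N)` as soon as `H_n(P ⊗ N[t])` and
`H_{n+1}(P ⊗ N/tN)` vanish (`P` degreewise flat). -/
theorem smul_injective_T_of_ker_coker (P : ChainComplex (ModuleCat.{u} A) ℕ)
    (hP : ∀ i, Module.Flat A (P.X i)) (t : A) (n : ℕ)
    (N : Type u) [AddCommGroup N] [Module A N]
    (h₁ : IsZero (CohIII.T P n
      (ModuleCat.of A (LinearMap.ker (t • (LinearMap.id : N →ₗ[A] N))))))
    (h₂ : IsZero (CohIII.T P (n + 1)
      (ModuleCat.of A (N ⧸ LinearMap.range (t • (LinearMap.id : N →ₗ[A] N)))))) :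
    Function.Injective (fun y : CohIII.T P n (ModuleCat.of A N) => t • y) := by
  let φ : N →ₗ[A] N := t • LinearMap.id
  let S₁ : ShortComplex (ModuleCat.{u} A) :=
    ModuleCat.shortComplexOfCompEqZero (LinearMap.ker φ).subtype φ.rangeRestrict (by
      ext x
      exact x.2)
  have hS₁ : S₁.ShortExact := ModuleCat.shortComplex_shortExact S₁
    (show Function.Exact (LinearMap.ker φ).subtype φ.rangeRestrict from
      LinearMap.exact_iff.mpr (by rw [LinearMap.ker_rangeRestrict, Submodule.range_subtype]))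
    (Submodule.injective_subtype _) (LinearMap.surjective_rangeRestrict φ)
  let S₂ : ShortComplex (ModuleCat.{u} A) :=
    ModuleCat.shortComplexOfCompEqZero (LinearMap.range φ).subtype (LinearMap.range φ).mkQ
      (LinearMap.ext (fun x => (LinearMap.exact_subtype_mkQ _).apply_apply_eq_zero x))
  have hS₂ : S₂.ShortExact := ModuleCat.shortComplex_shortExact S₂
    (LinearMap.exact_subtype_mkQ _) (Submodule.injective_subtype _) (Submodule.mkQ_surjective _)
  have hz₁ : IsZero (CohIII.T P n S₁.X₁) := h₁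
  have hz₂ : IsZero (CohIII.T P (n + 1) S₂.X₃) := h₂
  have e2 := (tensorSC_shortExact P hP S₁ hS₁).homology_exact₂ n
  have e1 := (tensorSC_shortExact P hP S₂ hS₂).homology_exact₁ (n + 1) n rfl
  have m1 : Mono ((CohIII.TFun P n).map S₁.g) := e2.mono_g (hz₁.eq_of_src _ _)
  have m2 : Mono ((CohIII.TFun P n).map S₂.f) := e1.mono_g (hz₂.eq_of_src _ _)
  have hcomp : S₁.g ≫ S₂.f = t • 𝟙 (ModuleCat.of A N) := by
    ext x
    rfl
  have m3 : Mono ((CohIII.TFun P n).map (t • 𝟙 (ModuleCat.of A N))) := by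
    rw [← hcomp, Functor.map_comp]
    exact mono_comp _ _
  have heq : (CohIII.TFun P n).map (t • 𝟙 (ModuleCat.of A N)) =
      t • 𝟙 (CohIII.T P n (ModuleCat.of A N)) := by
    show HomologicalComplex.homologyMap (CohIII.tensorMap P (t • 𝟙 (ModuleCat.of A N))) n = _
    rw [tensorMap_smul_id, homologyMap_smul', HomologicalComplex.homologyMap_id]
  rw [heq] at m3
  have hinj := (ModuleCat.mono_iff_injective _).mp m3
  intro y y' h
  exact hinj h

/-- if `M[1/t]` is flat over `A[1/t]` then the higher `Tor_n(N, M)` are `t`-power torsion. -/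
theorem exists_pow_smul_eq_zero_of_flat_away (t : A) (M N : Type u) [AddCommGroup M] [Module A M]
    [AddCommGroup N] [Module A N]
    (h2 : Module.Flat (Localization.Away t) (Localization.Away t ⊗[A] M)) (n : ℕ) (hn : 0 < n)
    (x : ((Tor (ModuleCat.{u} A) n).obj (ModuleCat.of A N)).obj (ModuleCat.of A M)) :
    ∃ a : ℕ, t ^ a • x = 0 := by
  have halgB : (inferInstance : Algebra A (Localization.Away t)) =
      (algebraMap A (Localization.Away t)).toAlgebra := Algebra.algebra_ext _ _ (fun r => rfl)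
  haveI : Module.Flat A (Localization.Away t) := IsLocalization.flat _ (Submonoid.powers t)
  obtain ⟨eB⟩ := nonempty_Tor_flat_bc (algebraMap A (Localization.Away t))
    (alg := inferInstance) halgB N M n
  haveI := Tor_subsingleton_of_flat_right
    (ModuleCat.of (Localization.Away t) (Localization.Away t ⊗[A] N))
    (ModuleCat.of (Localization.Away t) (Localization.Away t ⊗[A] M)) h2 n hn
  haveI := eB.toEquiv.subsingleton
  have hloc : IsLocalizedModule (Submonoid.powers t)
      (TensorProduct.mk A (Localization.Away t) (((Tor (ModuleCat.{u} A) n).obj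
        (ModuleCat.of A N)).obj (ModuleCat.of A M)) 1) :=
    (isLocalizedModule_iff_isBaseChange (Submonoid.powers t) (Localization.Away t) _).mpr
      (TensorProduct.isBaseChange A _ (Localization.Away t))
  have h0 : TensorProduct.mk A (Localization.Away t) _ 1 x = 0 := Subsingleton.elim _ _
  obtain ⟨⟨c, k, rfl⟩, hc⟩ := (IsLocalizedModule.eq_zero_iff (Submonoid.powers t) _).mp h0
  exact ⟨k, hc⟩

section induction
variable (P : ChainComplex (ModuleCat.{u} A) ℕ) (hP : ∀ i, Module.Flat A (P.X i))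
include hP

theorem T_isZero_step (J : Ideal A) (t : A) (n : ℕ)
    (hi : ∀ (X : Type u) [AddCommGroup X] [Module A X],
      (∃ m : ℕ, ∀ a : A, a ∈ (Ideal.span {t} ⊔ J) ^ m → ∀ x : X, a • x = 0) →
        IsZero (CohIII.T P n (ModuleCat.of A X)) ∧ IsZero (CohIII.T P (n + 1) (ModuleCat.of A X)))
    (hii : ∀ (N : Type u) [AddCommGroup N] [Module A N] (x : CohIII.T P n (ModuleCat.of A N)),
      ∃ a : ℕ, t ^ a • x = 0)
    (N : Type u) [AddCommGroup N] [Module A N]
    (hN : ∃ m : ℕ, ∀ a : A, a ∈ J ^ m → ∀ x : N, a • x = 0) :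
    IsZero (CohIII.T P n (ModuleCat.of A N)) := by
  obtain ⟨m, hm⟩ := hN
  have hz : ∀ x : CohIII.T P n (ModuleCat.of A N), x = 0 := by
    intro x
    obtain ⟨a, ha⟩ := hii N x
    have hdec : ∀ b : A, b ∈ (Ideal.span {t} ⊔ J) ^ (a + m) →
        ∃ c b1 : A, b1 ∈ J ^ m ∧ b = c * t ^ a + b1 := by
      intro b hb
      have hb' := Ideal.sup_pow_add_le_pow_sup_pow hb
      rw [Ideal.span_singleton_pow] at hb'
      obtain ⟨b2, hb2, b1, hb1, rfl⟩ := Submodule.mem_sup.mp hb'
      obtain ⟨c, rfl⟩ := Ideal.mem_span_singleton'.mp hb2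
      exact ⟨c, b1, hb1, rfl⟩
    have hker : ∃ m' : ℕ, ∀ b : A, b ∈ (Ideal.span {t} ⊔ J) ^ m' →
        ∀ y : LinearMap.ker ((t ^ a) • (LinearMap.id : N →ₗ[A] N)), b • y = 0 := by
      refine ⟨a + m, fun b hb y => ?_⟩
      obtain ⟨c, b1, hb1, rfl⟩ := hdec b hb
      apply Subtype.ext
      show (c * t ^ a + b1) • y.1 = 0
      have hy : t ^ a • y.1 = 0 := y.2
      rw [add_smul, mul_smul, hy, smul_zero, hm b1 hb1, add_zero]
    have hcoker : ∃ m' : ℕ, ∀ b : A, b ∈ (Ideal.span {t} ⊔ J) ^ m' →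
        ∀ y : N ⧸ LinearMap.range ((t ^ a) • (LinearMap.id : N →ₗ[A] N)), b • y = 0 := by
      refine ⟨a + m, fun b hb y => ?_⟩
      obtain ⟨c, b1, hb1, rfl⟩ := hdec b hb
      obtain ⟨z, rfl⟩ := Submodule.mkQ_surjective _ y
      rw [← map_smul]
      refine (Submodule.Quotient.mk_eq_zero _).mpr ⟨c • z, ?_⟩
      show t ^ a • (c • z) = (c * t ^ a + b1) • z
      rw [add_smul, hm b1 hb1, add_zero, mul_smul, smul_comm]
    have hinj := smul_injective_T_of_ker_coker P hP (t ^ a) n N (hi _ hker).1 (hi _ hcoker).2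
    apply hinj
    show t ^ a • x = t ^ a • 0
    rw [ha, smul_zero]
  haveI : Subsingleton (CohIII.T P n (ModuleCat.of A N)) := ⟨fun x y => by rw [hz x, hz y]⟩
  exact ModuleCat.isZero_of_subsingleton _

theorem T_isZero_of_list (l : List A) :
    ∀ (c : ℕ),
    (∀ t ∈ l, ∀ n : ℕ, 1 ≤ n → ∀ (N : Type u) [AddCommGroup N] [Module A N]
      (x : CohIII.T P n (ModuleCat.of A N)), ∃ a : ℕ, t ^ a • x = 0) →
    (∀ n : ℕ, 1 ≤ n → n ≤ c + l.length → ∀ (N : Type u) [AddCommGroup N] [Module A N],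
      (∃ m : ℕ, ∀ a : A, a ∈ (Ideal.ofList l) ^ m → ∀ x : N, a • x = 0) →
        IsZero (CohIII.T P n (ModuleCat.of A N))) →
    ∀ n : ℕ, 1 ≤ n → n ≤ c → ∀ (N : Type u) [AddCommGroup N] [Module A N],
      IsZero (CohIII.T P n (ModuleCat.of A N)) := by
  induction l with
  | nil =>
    intro c _ h n hn hnc N _ _
    refine h n hn (by simpa using hnc) N ⟨1, fun a ha x => ?_⟩
    rw [Ideal.ofList_nil, pow_one] at ha
    rw [Ideal.mem_bot.mp ha, zero_smul]
  | cons t l ih =>
    intro c hii h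
    refine ih c (fun t' ht' => hii t' (List.mem_cons_of_mem _ ht')) ?_
    intro n hn hnc N _ _ hN
    refine T_isZero_step P hP (Ideal.ofList l) t n (fun X _ _ hX => ⟨?_, ?_⟩)
      (fun N' _ _ x => hii t List.mem_cons_self n hn N' x) N hN
    · refine h n hn ?_ X ?_
      · rw [List.length_cons]; omega
      · rwa [Ideal.ofList_cons]
    · refine h (n + 1) (by omega) ?_ X ?_
      · rw [List.length_cons]; omega
      · rwa [Ideal.ofList_cons]

end induction

/-- S6377: local flatness criterion with partial Tor vanishing. -/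
theorem flat_of_flat_away_of_partial_Tor (M : Type u) [AddCommGroup M] [Module A M] {r : ℕ}
    (f : Fin r → A)
    (h1 : ∀ i, Module.Flat (Localization.Away (f i)) (Localization.Away (f i) ⊗[A] M))
    (h2 : Module.Flat (A ⧸ Ideal.span (Set.range f)) ((A ⧸ Ideal.span (Set.range f)) ⊗[A] M))
    (h3 : ∀ i : ℕ, 1 ≤ i → i ≤ r + 1 →
      IsZero (((Tor (ModuleCat.{u} A) i).obj (ModuleCat.of A M)).obj
        (ModuleCat.of A (A ⧸ Ideal.span (Set.range f))))) :
    Module.Flat A M := by
  apply flat_of_forall_Tor1_quot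
  intro J
  let Q := ProjectiveResolution.of (ModuleCat.of A M)
  let hQ := FlatRes.ofProjectiveResolution Q
  have hI : Ideal.ofList (List.ofFn f) = Ideal.span (Set.range f) :=
    congrArg Ideal.span (Set.ext fun x => by
      simp only [Set.mem_setOf_eq, List.mem_ofFn, Set.mem_range])
  have h3' : ∀ q : ℕ, 1 ≤ q → q ≤ r + 1 →
      IsZero (((Tor (ModuleCat.{u} A) q).obj (ModuleCat.of A (A ⧸ Ideal.span (Set.range f)))).obj
        (ModuleCat.of A M)) := by
    intro q hq1 hq2
    obtain ⟨e⟩ := nonempty_Tor_equiv_flip (ModuleCat.of A (A ⧸ Ideal.span (Set.range f)))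
      (ModuleCat.of A M) q
    exact isZero_of_linearEquiv e (h3 q hq1 hq2)
  have hii : ∀ t ∈ List.ofFn f, ∀ n : ℕ, 1 ≤ n → ∀ (N : Type u) [AddCommGroup N] [Module A N]
      (x : CohIII.T Q.complex n (ModuleCat.of A N)), ∃ a : ℕ, t ^ a • x = 0 := by
    intro t ht n hn N _ _ x
    obtain ⟨i, rfl⟩ := (List.mem_ofFn' f t).mp ht
    obtain ⟨e⟩ := nonempty_Tor_iso_T (ModuleCat.of A N) (ModuleCat.of A M) Q n
    obtain ⟨a, ha⟩ := exists_pow_smul_eq_zero_of_flat_away (f i) M N (h1 i) n hn (e.inv x)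
    refine ⟨a, ?_⟩
    have : e.hom (f i ^ a • e.inv x) = 0 := by rw [ha, map_zero]
    rw [map_smul] at this
    have h' : e.hom (e.inv x) = x := by
      rw [← ModuleCat.comp_apply, Iso.inv_hom_id, ModuleCat.id_apply]
    rwa [h'] at this
  have hbase : ∀ n : ℕ, 1 ≤ n → n ≤ 1 + (List.ofFn f).length → ∀ (N : Type u) [AddCommGroup N]
      [Module A N], (∃ m : ℕ, ∀ a : A, a ∈ (Ideal.ofList (List.ofFn f)) ^ m → ∀ x : N, a • x = 0) →
        IsZero (CohIII.T Q.complex n (ModuleCat.of A N)) := by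
    intro n hn hn2 N _ _ hN
    obtain ⟨m, hm⟩ := hN
    rw [hI] at hm
    rw [List.length_ofFn] at hn2
    obtain ⟨k, rfl⟩ : ∃ k, n = k + 1 := Nat.exists_eq_succ_of_ne_zero (by omega)
    obtain ⟨e⟩ := nonempty_Tor_iso_T (ModuleCat.of A N) (ModuleCat.of A M) Q (k + 1)
    exact IsZero.of_iso (Tor_isZero_of_pow_torsion_of_partial_vanishing
      (Ideal.span (Set.range f)) M k (fun q hq1 hq2 => h3' q hq1 (by omega)) m N hm) e.symm
  have hfin := T_isZero_of_list Q.complex hQ.flat (List.ofFn f) 1 hii hbase 1 le_rfl le_rfl (A ⧸ J)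
  obtain ⟨e⟩ := nonempty_Tor_iso_T (ModuleCat.of A (A ⧸ J)) (ModuleCat.of A M) Q 1
  haveI := ModuleCat.subsingleton_of_isZero (IsZero.of_iso hfin e)
  infer_instance

end Groth.Agent.Lib.Helper7
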