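import Mathlib
import Groth.Prelude.Def_ega3
import Groth.Agent.Lib.Helper7.TorTors2
import Groth.Agent.S6315
set_option autoImplicit false
universe u
open CategoryTheory CategoryTheory.Limits MonoidalCategory TensorProduct

namespace Groth.Agent.Lib.Helper7

variable {A : Type u} [CommRing A]

/-- one step of the regular-sequence/Tor criterion: for `r ∈ 𝔪` regular on the finite module `X`,
`Tor_i(X/rX, N) = 0 ∀ i ≥ 1` iff `Tor_i(X, N) = 0 ∀ i ≥ 1` and `r` is regular on `X ⊗ N`. -/
theorem Tor_regular_step [IsNoetherianRing A] [IsLocalRing A] (X N : Type u) [AddCommGroup X]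
    [Module A X] [Module.Finite A X] [AddCommGroup N] [Module A N] [Module.Finite A N]
    (r : A) (hr : r ∈ IsLocalRing.maximalIdeal A) (hrX : IsSMulRegular X r) :
    (∀ i : ℕ, 1 ≤ i → IsZero (((Tor (ModuleCat.{u} A) i).obj (ModuleCat.of A
        (X ⧸ LinearMap.range (r • (LinearMap.id : X →ₗ[A] X))))).obj (ModuleCat.of A N))) ↔
    ((∀ i : ℕ, 1 ≤ i → IsZero (((Tor (ModuleCat.{u} A) i).obj (ModuleCat.of A X)).obj
        (ModuleCat.of A N))) ∧ IsSMulRegular (X ⊗[A] N) r) := by
  let φ : X →ₗ[A] X := r • LinearMap.id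
  let S : ShortComplex (ModuleCat.{u} A) :=
    ModuleCat.shortComplexOfCompEqZero φ (LinearMap.range φ).mkQ
      (LinearMap.ext (fun x => (LinearMap.exact_map_mkQ_range φ).apply_apply_eq_zero x))
  have hS : S.ShortExact := ModuleCat.shortComplex_shortExact S
    (LinearMap.exact_map_mkQ_range φ) hrX (Submodule.mkQ_surjective _)
  let Q := ProjectiveResolution.of (ModuleCat.of A N)
  let hQ := FlatRes.ofProjectiveResolution Q
  have hSE := tensorSC_shortExact Q.complex hQ.flat S hS
  have hTor : ∀ (Y : ModuleCat.{u} A) (i : ℕ),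
      IsZero (((Tor (ModuleCat.{u} A) i).obj Y).obj (ModuleCat.of A N)) ↔
        IsZero (CohIII.T Q.complex i Y) := by
    intro Y i
    obtain ⟨e⟩ := nonempty_Tor_iso_T Y (ModuleCat.of A N) Q i
    exact ⟨fun h => IsZero.of_iso h e.symm, fun h => IsZero.of_iso h e⟩
  have hSf : S.f = r • 𝟙 (ModuleCat.of A X) := by
    ext x
    rfl
  have hmapf : ∀ i, HomologicalComplex.homologyMap (tensorSC Q.complex S).f i =
      r • 𝟙 (CohIII.T Q.complex i (ModuleCat.of A X)) := by
    intro i
    show HomologicalComplex.homologyMap (CohIII.tensorMap Q.complex S.f) i = _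
    rw [hSf, tensorMap_smul_id, homologyMap_smul', HomologicalComplex.homologyMap_id]
  have hreg0 : IsSMulRegular (X ⊗[A] N) r ↔
      Function.Injective (fun y : CohIII.T Q.complex 0 (ModuleCat.of A X) => r • y) := by
    let e : CohIII.T Q.complex 0 (ModuleCat.of A X) ≃ₗ[A] X ⊗[A] N :=
      (T0Equiv hQ (ModuleCat.of A X)).trans (TensorProduct.comm A N X)
    constructor
    · intro h y y' hyy'
      apply e.injective
      apply h
      show r • e y = r • e y'
      rw [← map_smul, ← map_smul]
      exact congrArg e hyy'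
    · intro h y y' hyy'
      apply e.symm.injective
      apply h
      show r • e.symm y = r • e.symm y'
      rw [← map_smul, ← map_smul]
      exact congrArg e.symm hyy'
  constructor
  · intro h
    have hT3 : ∀ i, 1 ≤ i → IsZero (CohIII.T Q.complex i S.X₃) :=
      fun i hi => (hTor _ i).mp (h i hi)
    refine ⟨fun i hi => ?_, ?_⟩
    · have e2 := hSE.homology_exact₂ i
      have hepi : Epi (HomologicalComplex.homologyMap (tensorSC Q.complex S).f i) :=
        e2.epi_f ((hT3 i hi).eq_of_tgt _ _)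
      rw [hmapf i] at hepi
      have hsurj := (ModuleCat.epi_iff_surjective _).mp hepi
      haveI : Module.Finite A (((Tor (ModuleCat.{u} A) i).obj (ModuleCat.of A X)).obj
          (ModuleCat.of A N)) := Groth.Agent.S6315.result A X N i
      obtain ⟨e⟩ := nonempty_Tor_iso_T (ModuleCat.of A X) (ModuleCat.of A N) Q i
      haveI : Module.Finite A (CohIII.T Q.complex i (ModuleCat.of A X)) :=
        Module.Finite.equiv e.toLinearEquiv
      have htop : (⊤ : Submodule A (CohIII.T Q.complex i (ModuleCat.of A X))) = ⊥ :=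
        Submodule.eq_bot_of_le_smul_of_le_jacobson_bot (Ideal.span {r}) ⊤ Module.Finite.fg_top
          (fun y _ => by
            obtain ⟨z, rfl⟩ := hsurj y
            exact Submodule.smul_mem_smul (Ideal.mem_span_singleton_self r) Submodule.mem_top)
          (by
            rw [IsLocalRing.jacobson_eq_maximalIdeal ⊥ bot_ne_top]
            exact (Ideal.span_singleton_le_iff_mem _).mpr hr)
      haveI : Subsingleton (CohIII.T Q.complex i (ModuleCat.of A X)) :=
        (Submodule.subsingleton_iff A).mp (subsingleton_of_bot_eq_top htop.symm)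
      exact (hTor _ i).mpr (ModuleCat.isZero_of_subsingleton _)
    · rw [hreg0]
      have e1 := hSE.homology_exact₁ 1 0 rfl
      have hmono : Mono (HomologicalComplex.homologyMap (tensorSC Q.complex S).f 0) :=
        e1.mono_g ((hT3 1 le_rfl).eq_of_src _ _)
      rw [hmapf 0] at hmono
      have hinj := (ModuleCat.mono_iff_injective _).mp hmono
      intro y y' hyy'
      exact hinj hyy'
  · rintro ⟨h1, h2⟩ i hi
    rw [hTor]
    have hT : ∀ i, 1 ≤ i → IsZero (CohIII.T Q.complex i (ModuleCat.of A X)) :=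
      fun i hi => (hTor _ i).mp (h1 i hi)
    obtain ⟨k, rfl⟩ : ∃ k, i = k + 1 := ⟨i - 1, by omega⟩
    have e3 := hSE.homology_exact₃ (k + 1) k rfl
    have e1 := hSE.homology_exact₁ (k + 1) k rfl
    haveI hδmono : Mono (hSE.δ (k + 1) k rfl) :=
      e3.mono_g ((hT (k + 1) (by omega)).eq_of_src _ _)
    have hδzero : hSE.δ (k + 1) k rfl = 0 := by
      cases k with
      | zero =>
        have hm : Mono (HomologicalComplex.homologyMap (tensorSC Q.complex S).f 0) := by
          rw [hmapf 0]
          exact (ModuleCat.mono_iff_injective _).mpr (fun y y' h => (hreg0.mp h2) h)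
        exact e1.mono_g_iff.mp hm
      | succ k => exact (hT (k + 1) (by omega)).eq_of_tgt _ _
    exact @IsZero.of_mono_eq_zero _ _ _ _ _ (hSE.δ (k + 1) k rfl) hδmono hδzero

/-- `(A/I')/r(A/I') ≃ A/(I' + (r))`. -/
noncomputable def quotQuotSpanEquiv (I' : Ideal A) (r : A) :
    ((A ⧸ I') ⧸ LinearMap.range (r • (LinearMap.id : (A ⧸ I') →ₗ[A] (A ⧸ I')))) ≃ₗ[A]
      A ⧸ (I' ⊔ Ideal.span {r}) :=
  (Submodule.quotEquivOfEq _ (Submodule.map I'.mkQ (I' ⊔ Ideal.span {r})) (by
    ext y
    constructor
    · rintro ⟨z, rfl⟩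
      obtain ⟨a, rfl⟩ := I'.mkQ_surjective z
      refine ⟨r * a, Ideal.mem_sup_right (Ideal.mul_mem_right _ _
        (Ideal.mem_span_singleton_self r)), ?_⟩
      show I'.mkQ (r * a) = r • I'.mkQ a
      rw [← smul_eq_mul, map_smul]
    · rintro ⟨b, hb, rfl⟩
      obtain ⟨b1, hb1, b2, hb2, rfl⟩ := Submodule.mem_sup.mp hb
      obtain ⟨c, rfl⟩ := Ideal.mem_span_singleton'.mp hb2
      refine ⟨I'.mkQ c, ?_⟩
      show r • I'.mkQ c = I'.mkQ (b1 + c * r)
      have h0 : I'.mkQ b1 = 0 := (Submodule.Quotient.mk_eq_zero I').mpr hb1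
      rw [map_add, h0, zero_add, ← map_smul, smul_eq_mul, mul_comm])).trans
    (Submodule.quotientQuotientEquivQuotient I' (I' ⊔ Ideal.span {r}) le_sup_left)

/-- S16238 in module form: for a weakly regular sequence `rs ⊆ 𝔪` on a Noetherian local ring `A`
and a finite module `N`: `rs` is weakly regular on `N` iff `Tor_i(A/(rs), N) = 0` for `i ≥ 1`. -/
theorem isWeaklyRegular_iff_Tor_vanishing [IsNoetherianRing A] [IsLocalRing A] (N : Type u)
    [AddCommGroup N] [Module A N] [Module.Finite A N] :
    ∀ (rs : List A), (∀ r ∈ rs, r ∈ IsLocalRing.maximalIdeal A) →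
      RingTheory.Sequence.IsWeaklyRegular A rs →
      (RingTheory.Sequence.IsWeaklyRegular N rs ↔ ∀ i : ℕ, 1 ≤ i →
        IsZero (((Tor (ModuleCat.{u} A) i).obj (ModuleCat.of A (A ⧸ Ideal.ofList rs))).obj
          (ModuleCat.of A N))) := by
  intro rs
  induction rs using List.reverseRecOn with
  | nil =>
    intro _ _
    refine ⟨fun _ i hi => ?_, fun _ => RingTheory.Sequence.IsWeaklyRegular.nil A N⟩
    have hfl : Module.Flat A (A ⧸ Ideal.ofList ([] : List A)) :=
      Module.Flat.of_linearEquiv (Submodule.quotEquivOfEqBot _ Ideal.ofList_nil)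
    haveI := Tor_subsingleton_of_flat_left (ModuleCat.of A (A ⧸ Ideal.ofList ([] : List A)))
      (ModuleCat.of A N) hfl i (by omega)
    exact ModuleCat.isZero_of_subsingleton _
  | append_singleton rs' r ih =>
    intro hmem hA
    rw [RingTheory.Sequence.isWeaklyRegular_append_iff,
      RingTheory.Sequence.isWeaklyRegular_singleton_iff] at hA ⊢
    have hr : r ∈ IsLocalRing.maximalIdeal A := hmem r (by simp)
    have ih' := ih (fun r' hr' => hmem r' (List.mem_append_left _ hr')) hA.1
    have hrX : IsSMulRegular (A ⧸ Ideal.ofList rs') r := by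
      have e : (A ⧸ (Ideal.ofList rs' • ⊤ : Submodule A A)) ≃ₗ[A] A ⧸ Ideal.ofList rs' :=
        Submodule.quotEquivOfEq _ _ (by rw [smul_eq_mul, Ideal.mul_top])
      exact (e.isSMulRegular_congr r).mp hA.2
    have step := Tor_regular_step (A ⧸ Ideal.ofList rs') N r hr hrX
    have hI : Ideal.ofList (rs' ++ [r]) = Ideal.ofList rs' ⊔ Ideal.span {r} := by
      rw [Ideal.ofList_append, Ideal.ofList_singleton]
    have hE : (∀ i : ℕ, 1 ≤ i → IsZero (((Tor (ModuleCat.{u} A) i).obj
        (ModuleCat.of A (A ⧸ Ideal.ofList (rs' ++ [r])))).obj (ModuleCat.of A N))) ↔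
        (∀ i : ℕ, 1 ≤ i → IsZero (((Tor (ModuleCat.{u} A) i).obj (ModuleCat.of A
          ((A ⧸ Ideal.ofList rs') ⧸ LinearMap.range
            (r • (LinearMap.id : (A ⧸ Ideal.ofList rs') →ₗ[A] (A ⧸ Ideal.ofList rs')))))).obj
          (ModuleCat.of A N))) := by
      rw [hI]
      constructor
      · intro h i hi
        exact Tor_isZero_of_linearEquiv_left (quotQuotSpanEquiv (Ideal.ofList rs') r)
          (ModuleCat.of A N) i (h i hi)
      · intro h i hi
        exact Tor_isZero_of_linearEquiv_left (quotQuotSpanEquiv (Ideal.ofList rs') r).symm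
          (ModuleCat.of A N) i (h i hi)
    have hN : IsSMulRegular ((A ⧸ Ideal.ofList rs') ⊗[A] N) r ↔
        IsSMulRegular (N ⧸ (Ideal.ofList rs' • ⊤ : Submodule A N)) r :=
      (TensorProduct.quotTensorEquivQuotSMul N (Ideal.ofList rs')).isSMulRegular_congr r
    rw [hE, step, ← ih', hN]

end Groth.Agent.Lib.Helper7
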