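import Mathlib
import Groth.Prelude.Def_ega3
import Groth.Agent.Lib.Helper7.TorReg
import Groth.Agent.Lib.Helper7.TorUCT
import Groth.Agent.Lib.Helper8.LocalCriterion3

/-!
# Tor vanishing along regular sequences without finiteness (Helper7)

* `Tor_regular_step_mpr`: for `r` regular on `X` and on `X ⊗ N`, `Tor_i(X,N)=0 ∀ i≥1` implies
  `Tor_i(X/rX,N)=0 ∀ i≥1` (no finiteness or local hypotheses).
* `Tor_vanishing_of_isWeaklyRegular`: `rs` weakly regular on `A` and on `N` implies
  `Tor_i(A/(rs), N) = 0` for `i ≥ 1`.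
* `rTensor_subtype_injective_of_isWeaklyRegular`: in that situation `(rs) ⊗ N → N` is injective.
* `flat_of_isWeaklyRegular_of_maximalIdeal`: local criterion: `A` Noetherian local whose maximal ideal is generated by an
  `A`-regular sequence which is weakly regular on a finite module `M` over a Noetherian local
  `A`-algebra `B` (local hom): then `M` is flat over `A`.
-/
set_option autoImplicit false
universe u
open CategoryTheory CategoryTheory.Limits MonoidalCategory TensorProduct

namespace Groth.Agent.Lib.Helper7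

variable {A : Type u} [CommRing A]

theorem Tor_regular_step_mpr (X N : Type u) [AddCommGroup X]
    [Module A X] [AddCommGroup N] [Module A N]
    (r : A) (hrX : IsSMulRegular X r)
    (h1 : ∀ i : ℕ, 1 ≤ i → IsZero (((Tor (ModuleCat.{u} A) i).obj (ModuleCat.of A X)).obj
        (ModuleCat.of A N)))
    (h2 : IsSMulRegular (X ⊗[A] N) r) :
    ∀ i : ℕ, 1 ≤ i → IsZero (((Tor (ModuleCat.{u} A) i).obj (ModuleCat.of A
        (X ⧸ LinearMap.range (r • (LinearMap.id : X →ₗ[A] X))))).obj (ModuleCat.of A N)) := by
  let φ : X →ₗ[A] X := r • LinearMap.id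
  let S : ShortComplex (ModuleCat.{u} A) :=
    ModuleCat.shortComplexOfCompEqZero φ (LinearMap.range φ).mkQ
      (LinearMap.ext (fun x => (LinearMap.exact_map_mkQ_range φ).apply_apply_eq_zero x))
  have hS : S.ShortExact := ModuleCat.shortComplex_shortExact S
    (LinearMap.exact_map_mkQ_range φ) hrX (Submodule.mkQ_surjective _)
  let Q := ProjectiveResolution.of (ModuleCat.of A N)
  let hQ := FlatRes.ofProjectiveResolution Q
  have hSE := tensorSC_shortExact Q.complex hQ.flat S hS
  have hTor : ∀ (Y : ModuleCat.{u} A) (i : ℕ),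
      IsZero (((Tor (ModuleCat.{u} A) i).obj Y).obj (ModuleCat.of A N)) ↔
        IsZero (CohIII.T Q.complex i Y) := by
    intro Y i
    obtain ⟨e⟩ := nonempty_Tor_iso_T Y (ModuleCat.of A N) Q i
    exact ⟨fun h => IsZero.of_iso h e.symm, fun h => IsZero.of_iso h e⟩
  have hSf : S.f = r • 𝟙 (ModuleCat.of A X) := by
    ext x
    rfl
  have hmapf : ∀ i, HomologicalComplex.homologyMap (tensorSC Q.complex S).f i =
      r • 𝟙 (CohIII.T Q.complex i (ModuleCat.of A X)) := by
    intro i
    show HomologicalComplex.homologyMap (CohIII.tensorMap Q.complex S.f) i = _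
    rw [hSf, tensorMap_smul_id, homologyMap_smul', HomologicalComplex.homologyMap_id]
  have hreg0 : IsSMulRegular (X ⊗[A] N) r ↔
      Function.Injective (fun y : CohIII.T Q.complex 0 (ModuleCat.of A X) => r • y) := by
    let e : CohIII.T Q.complex 0 (ModuleCat.of A X) ≃ₗ[A] X ⊗[A] N :=
      (T0Equiv hQ (ModuleCat.of A X)).trans (TensorProduct.comm A N X)
    constructor
    · intro h y y' hyy'
      apply e.injective
      apply h
      show r • e y = r • e y'
      rw [← map_smul, ← map_smul]
      exact congrArg e hyy'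
    · intro h y y' hyy'
      apply e.symm.injective
      apply h
      show r • e.symm y = r • e.symm y'
      rw [← map_smul, ← map_smul]
      exact congrArg e.symm hyy'
  intro i hi
  rw [hTor]
  have hT : ∀ i, 1 ≤ i → IsZero (CohIII.T Q.complex i (ModuleCat.of A X)) :=
    fun i hi => (hTor _ i).mp (h1 i hi)
  obtain ⟨k, rfl⟩ : ∃ k, i = k + 1 := ⟨i - 1, by omega⟩
  have e3 := hSE.homology_exact₃ (k + 1) k rfl
  have e1 := hSE.homology_exact₁ (k + 1) k rfl
  haveI hδmono : Mono (hSE.δ (k + 1) k rfl) :=
    e3.mono_g ((hT (k + 1) (by omega)).eq_of_src _ _)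
  have hδzero : hSE.δ (k + 1) k rfl = 0 := by
    cases k with
    | zero =>
      have hm : Mono (HomologicalComplex.homologyMap (tensorSC Q.complex S).f 0) := by
        rw [hmapf 0]
        exact (ModuleCat.mono_iff_injective _).mpr (fun y y' h => (hreg0.mp h2) h)
      exact e1.mono_g_iff.mp hm
    | succ k => exact (hT (k + 1) (by omega)).eq_of_tgt _ _
  exact @IsZero.of_mono_eq_zero _ _ _ _ _ (hSE.δ (k + 1) k rfl) hδmono hδzero


theorem Tor_vanishing_of_isWeaklyRegular (N : Type u) [AddCommGroup N] [Module A N] :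
    ∀ (rs : List A), RingTheory.Sequence.IsWeaklyRegular A rs →
      RingTheory.Sequence.IsWeaklyRegular N rs → ∀ i : ℕ, 1 ≤ i →
        IsZero (((Tor (ModuleCat.{u} A) i).obj (ModuleCat.of A (A ⧸ Ideal.ofList rs))).obj
          (ModuleCat.of A N)) := by
  intro rs
  induction rs using List.reverseRecOn with
  | nil =>
    intro _ _ i hi
    have hfl : Module.Flat A (A ⧸ Ideal.ofList ([] : List A)) :=
      Module.Flat.of_linearEquiv (Submodule.quotEquivOfEqBot _ Ideal.ofList_nil)
    haveI := Tor_subsingleton_of_flat_left (ModuleCat.of A (A ⧸ Ideal.ofList ([] : List A)))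
      (ModuleCat.of A N) hfl i (by omega)
    exact ModuleCat.isZero_of_subsingleton _
  | append_singleton rs' r ih =>
    intro hA hN
    rw [RingTheory.Sequence.isWeaklyRegular_append_iff,
      RingTheory.Sequence.isWeaklyRegular_singleton_iff] at hA hN
    have ih' := ih hA.1 hN.1
    have hrX : IsSMulRegular (A ⧸ Ideal.ofList rs') r := by
      have e : (A ⧸ (Ideal.ofList rs' • ⊤ : Submodule A A)) ≃ₗ[A] A ⧸ Ideal.ofList rs' :=
        Submodule.quotEquivOfEq _ _ (by rw [smul_eq_mul, Ideal.mul_top])
      exact (e.isSMulRegular_congr r).mp hA.2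
    have hN2 : IsSMulRegular ((A ⧸ Ideal.ofList rs') ⊗[A] N) r :=
      ((TensorProduct.quotTensorEquivQuotSMul N (Ideal.ofList rs')).isSMulRegular_congr r).mpr hN.2
    have step := Tor_regular_step_mpr (A ⧸ Ideal.ofList rs') N r hrX ih' hN2
    have hI : Ideal.ofList (rs' ++ [r]) = Ideal.ofList rs' ⊔ Ideal.span {r} := by
      rw [Ideal.ofList_append, Ideal.ofList_singleton]
    intro i hi
    rw [hI]
    exact Tor_isZero_of_linearEquiv_left (quotQuotSpanEquiv (Ideal.ofList rs') r).symm
      (ModuleCat.of A N) i (step i hi)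

theorem rTensor_subtype_injective_of_isWeaklyRegular (N : Type u) [AddCommGroup N] [Module A N]
    (rs : List A) (hA : RingTheory.Sequence.IsWeaklyRegular A rs)
    (hN : RingTheory.Sequence.IsWeaklyRegular N rs) :
    Function.Injective ((Ideal.ofList rs).subtype.rTensor N) := by
  have h := Tor_vanishing_of_isWeaklyRegular N rs hA hN 1 le_rfl
  obtain ⟨e⟩ := nonempty_Tor1_equiv_ker' (Ideal.ofList rs).subtype (Ideal.ofList rs).mkQ
    (Submodule.subtype_injective _) (LinearMap.exact_subtype_mkQ _) (Submodule.mkQ_surjective _) N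
  haveI := ModuleCat.subsingleton_of_isZero h
  haveI : Subsingleton (LinearMap.ker ((Ideal.ofList rs).subtype.rTensor N)) :=
    e.symm.toEquiv.subsingleton
  rw [← LinearMap.ker_eq_bot]
  exact Submodule.eq_bot_of_subsingleton

theorem flat_of_isWeaklyRegular_of_maximalIdeal {B : Type u} [CommRing B] [Algebra A B]
    [IsNoetherianRing A] [IsLocalRing A] [IsNoetherianRing B] [IsLocalRing B]
    [IsLocalHom (algebraMap A B)]
    (M : Type u) [AddCommGroup M] [Module A M] [Module B M] [IsScalarTower A B M]
    [Module.Finite B M] (rs : List A) (hrs : Ideal.ofList rs = IsLocalRing.maximalIdeal A)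
    (hA : RingTheory.Sequence.IsWeaklyRegular A rs)
    (hM : RingTheory.Sequence.IsWeaklyRegular M rs) : Module.Flat A M := by
  have hI : (IsLocalRing.maximalIdeal A).map (algebraMap A B) ≤ Ideal.jacobson ⊥ := by
    rw [IsLocalRing.jacobson_eq_maximalIdeal ⊥ bot_ne_top]
    exact ((IsLocalRing.local_hom_TFAE (algebraMap A B)).out 0 2).1 ‹IsLocalHom (algebraMap A B)›
  have H2 : Function.Injective ((IsLocalRing.maximalIdeal A).subtype.rTensor M) := by
    rw [← hrs]
    exact rTensor_subtype_injective_of_isWeaklyRegular M rs hA hM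
  letI := Ideal.Quotient.field (IsLocalRing.maximalIdeal A)
  have H1 : Module.Flat (A ⧸ IsLocalRing.maximalIdeal A)
      ((A ⧸ IsLocalRing.maximalIdeal A) ⊗[A] M) := inferInstance
  exact Groth.Agent.Lib.Helper8.flat_of_local_criterion_of_finite (IsLocalRing.maximalIdeal A) hI M
    H1 H2

end Groth.Agent.Lib.Helper7
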