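import Groth.Agent.Lib.Helper7.PnH0
import Groth.Agent.Lib.Helper6.ProjSpaceGamma

/-!
# `Γ(P^n_R, O(d))` is the module of homogeneous polynomials of degree `d`
-/

set_option autoImplicit false
universe u
open CategoryTheory CategoryTheory.Limits AlgebraicGeometry TopologicalSpace Opposite
open Scheme.Modules MvPolynomial

noncomputable section

namespace Groth.Agent.Lib.Helper7.PnGamma

open PnLaurent PnSections Groth.Agent.Lib.Helper3 Groth.Agent.Lib.Helper3.TwistBasic
  Groth.Agent.Lib.Helper3.QCSec Groth.Agent.Lib.Helper13 Groth.Agent.Lib.Helper6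

section General

variable {R A : Type u} [CommRing R] [CommRing A] [Algebra R A] (𝒜 : ℕ → Submodule R A)
  [GradedAlgebra 𝒜]

set_option backward.isDefEq.respectTransparency false in
theorem awayι_appTop_awayToSection (f : A) {m : ℕ} (f_deg : f ∈ 𝒜 m) (hm : 0 < m) :
    (Proj.awayι 𝒜 f f_deg hm).appTop ≫ (Scheme.ΓSpecIso _).hom ≫ Proj.awayToSection 𝒜 f =
      (Proj 𝒜).presheaf.map (homOfLE (le_top : Proj.basicOpen 𝒜 f ≤ ⊤)).op := by
  have h1 : (Scheme.ΓSpecIso _).hom ≫ Proj.awayToSection 𝒜 f =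
      (Proj.basicOpenToSpec 𝒜 f).appTop ≫ (Proj.basicOpen 𝒜 f).topIso.hom := by
    have := Proj.basicOpenToSpec_app_top 𝒜 f
    change _ = (Proj.basicOpenToSpec 𝒜 f).app ⊤ ≫ _
    rw [this, Category.assoc, Category.assoc, Iso.inv_hom_id, Category.comp_id]
  have h2 : (Proj.basicOpenIsoSpec 𝒜 f f_deg hm).inv.appTop ≫
      (Proj.basicOpenToSpec 𝒜 f).appTop = 𝟙 _ := by
    rw [← Proj.basicOpenIsoSpec_hom 𝒜 f f_deg hm, ← Scheme.Hom.comp_appTop, Iso.hom_inv_id,
      Scheme.Hom.id_appTop]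
  have h3 : (Proj.awayι 𝒜 f f_deg hm).appTop =
      (Proj.basicOpen 𝒜 f).ι.appTop ≫ (Proj.basicOpenIsoSpec 𝒜 f f_deg hm).inv.appTop :=
    Scheme.Hom.comp_appTop _ _
  have h4 : ∀ {U V W : (Proj 𝒜).Opens} (a : U ⟶ V) (b : V ⟶ W) (c : U ⟶ W),
      (Proj 𝒜).presheaf.map b.op ≫ (Proj 𝒜).presheaf.map a.op = (Proj 𝒜).presheaf.map c.op := by
    intro U V W a b c
    rw [← Functor.map_comp, ← op_comp]
    congr 1
  rw [h1, h3, Category.assoc, ← Category.assoc _ _ (Scheme.Opens.topIso _).hom, h2,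
    Category.id_comp, Scheme.Opens.ι_appTop, Scheme.Opens.topIso_hom]
  exact h4 _ _ _

end General

variable (n : ℕ) (R : Type u) [CommRing R]

/-- the global function on `P^n_R` attached to `r : R` by the structure morphism -/
def rhoR (r : R) : Γ(Proj (CohB1.polyGrading n R), ⊤) :=
  (ProjSpaceGamma.toSpec' n R).appTop.hom ((Scheme.ΓSpecIso (CommRingCat.of R)).inv.hom r)

theorem res_rhoR (i : Fin (n + 1)) (r : R) :
    rres (Proj (CohB1.polyGrading n R)) (le_top : V n R i ≤ ⊤) (rhoR n R r) =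
      (Proj.awayToSection (CohB1.polyGrading n R) (X i)).hom
        (ProjSpaceGamma.psi n R (X i) r) := by
  have h1 := awayι_appTop_awayToSection (CohB1.polyGrading n R) (X i)
    (ProjSpaceGamma.hX n R i) one_pos
  have h3 : ProjSpaceGamma.rho n R i ≫ Proj.awayToSection (CohB1.polyGrading n R) (X i) =
      (Proj (CohB1.polyGrading n R)).presheaf.map
        (homOfLE (le_top : Proj.basicOpen (CohB1.polyGrading n R) (X i) ≤ ⊤)).op := by
    unfold ProjSpaceGamma.rho
    rw [Category.assoc]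
    exact h1
  have h4 := congrArg (fun φ => φ.hom (rhoR n R r)) h3
  have h5 : (ProjSpaceGamma.rho n R i).hom (rhoR n R r) = ProjSpaceGamma.psi n R (X i) r :=
    congrArg (fun φ => φ.hom r) (ProjSpaceGamma.rho_T n R i)
  have h6 : (Proj.awayToSection (CohB1.polyGrading n R) (X i)).hom
      ((ProjSpaceGamma.rho n R i).hom (rhoR n R r)) =
      ((Proj (CohB1.polyGrading n R)).presheaf.map
        (homOfLE (le_top : Proj.basicOpen (CohB1.polyGrading n R) (X i) ≤ ⊤)).op).hom
          (rhoR n R r) := h4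
  rw [h5] at h6
  exact h6.symm

theorem fval_rhoR (r : R) (x : (⊤ : (Proj (CohB1.polyGrading n R)).Opens)) :
    fval (rhoR n R r) x = Localization.mk (C r) 1 := by
  obtain ⟨i, hi⟩ : ∃ i, x.1 ∈ V n R i := by
    have h1 : x.1 ∈ ⨆ j : Fin (n + 1), V n R j := by rw [iSup_V]; trivial
    exact Opens.mem_iSup.mp h1
  have h2 : fval (rres (Proj (CohB1.polyGrading n R)) (le_top : V n R i ≤ ⊤) (rhoR n R r))
      ⟨x.1, hi⟩ = fval (rhoR n R r) x := rfl
  rw [← h2, res_rhoR]
  rfl

theorem monomial_mul_eq_zero {c : Fin (n + 1) →₀ ℕ} {w : MvPolynomial (Fin (n + 1)) R}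
    (h : monomial c (1 : R) * w = 0) : w = 0 := by
  ext m
  have h1 := coeff_monomial_mul m c (1 : R) w
  rw [one_mul, h, coeff_zero] at h1
  rw [← h1, coeff_zero]

theorem one_notMem (x : Proj (CohB1.polyGrading n R)) :
    (1 : MvPolynomial (Fin (n + 1)) R) ∉ x.asHomogeneousIdeal :=
  fun h => x.isPrime.ne_top ((Ideal.eq_top_iff_one _).mpr h)

/-- homogeneous polynomials of degree `d` as global sections of `O(d)` -/
def PhiHom (d : ℕ) : MvPolynomial.homogeneousSubmodule (Fin (n + 1)) R d →+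
    Γ(Twist.twist (CohB1.polyGrading n R) (d : ℤ), (⊤ : (Proj (CohB1.polyGrading n R)).Opens)) where
  toFun p := frac ⊤ (⟨p.1, p.2⟩ : CohB1.polyGrading n R d)
    (⟨1, SetLike.GradedOne.one_mem⟩ : CohB1.polyGrading n R 0)
    (fun x => one_notMem n R x.1) d (by simp)
  map_zero' := val_ext fun x => by
    rw [val_frac, val_zero]
    exact Localization.mk_zero _
  map_add' p q := val_ext fun x => by
    rw [val_add, val_frac, val_frac, val_frac, Localization.add_mk_self]
    rfl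

theorem val_PhiHom (d : ℕ) (p : MvPolynomial.homogeneousSubmodule (Fin (n + 1)) R d)
    (x : (⊤ : (Proj (CohB1.polyGrading n R)).Opens)) :
    val (PhiHom n R d p) x = Localization.mk p.1 ⟨1, one_notMem n R x.1⟩ := rfl

theorem PhiHom_injective (d : ℕ) : Function.Injective (PhiHom n R d) := by
  rw [injective_iff_map_eq_zero]
  intro p hp
  have hc : (Finsupp.single (0 : Fin (n + 1)) 1 : Fin (n + 1) →₀ ℕ) ≠ 0 := by simp
  obtain ⟨K, hK⟩ := exists_pow_smul_eq_zero_of_locally_killed (CohB1.polyGrading n R)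
    (CohB1.polyGrading n R) (monomial_mem_irrelevant (R := R) hc) p.2 (by
      intro x _
      have h1 := val_PhiHom n R d p ⟨x, trivial⟩
      rw [hp, val_zero, Localization.mk_eq_mk'] at h1
      obtain ⟨m, hm⟩ := (IsLocalization.mk'_eq_zero_iff _ _).mp h1.symm
      exact ⟨m.1, m.2, hm⟩)
  have h2 : (monomial (Finsupp.single (0 : Fin (n + 1)) 1) (1 : R) :
      MvPolynomial (Fin (n + 1)) R) ^ K = monomial (K • Finsupp.single (0 : Fin (n + 1)) 1) 1 := by
    rw [monomial_pow, one_pow]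
  have h3 : (monomial (K • Finsupp.single (0 : Fin (n + 1)) 1) (1 : R)) * p.1 = 0 := by
    rw [← h2]
    exact hK
  exact Subtype.ext (monomial_mul_eq_zero n R h3)

theorem PhiHom_surjective (d : ℕ) : Function.Surjective (PhiHom n R d) := by
  classical
  intro t
  obtain ⟨F, hF, hFt⟩ := exists_lau_of_global (d : ℤ) (Or.inr (Int.natCast_nonneg d)) t
  have hdeg : ∀ e ∈ F.support, Finsupp.degree (pp e) = d := by
    intro e he
    have h1 : ((Finsupp.degree (pp e) : ℕ) : ℤ) = d := by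
      rw [Finsupp.degree_eq_sum]
      push_cast
      rw [← (hF e he).1]
      refine Finset.sum_congr rfl fun l _ => ?_
      rw [pp_apply]
      exact Int.toNat_of_nonneg ((hF e he).2 l)
    exact_mod_cast h1
  have hp : (∑ e ∈ F.support, monomial (pp e) (F e) : MvPolynomial (Fin (n + 1)) R) ∈
      MvPolynomial.homogeneousSubmodule (Fin (n + 1)) R d :=
    Submodule.sum_mem _ fun e he => hdeg e he ▸ monomial_mem n R (pp e) (F e)
  refine ⟨⟨_, hp⟩, ?_⟩
  apply val_ext
  intro x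
  obtain ⟨i, hi⟩ : ∃ i, x.1 ∈ V n R i := by
    have h1 : x.1 ∈ ⨆ j : Fin (n + 1), V n R j := by rw [iSup_V]; trivial
    exact Opens.mem_iSup.mp h1
  have hb0 : (monomial (0 : Fin (n + 1) →₀ ℕ) (1 : R) : MvPolynomial (Fin (n + 1)) R) ∉
      x.1.asHomogeneousIdeal := by
    rw [← C_apply, C_1]
    exact one_notMem n R x.1
  have hcond : ∀ e ∈ F.support, Cond n R (d : ℤ) (V n R i) e := fun e he =>
    ⟨(hF e he).1, fun l hl => absurd ((hF e he).2 l) (not_le.mpr hl)⟩
  have h1 := val_alpha hcond ⟨x.1, hi⟩ 0 pp (fun e he l => by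
    rw [pp_apply, Finsupp.zero_apply, Nat.cast_zero, add_zero]
    exact Int.toNat_of_nonneg ((hF e he).2 l)) hb0
  have h2 : val t x = val (res (Twist.twist (CohB1.polyGrading n R) (d : ℤ))
      (le_top : V n R i ≤ ⊤) t) ⟨x.1, hi⟩ := rfl
  rw [h2, hFt i, h1, val_PhiHom, Localization.mk_eq_mk_iff]
  apply Localization.r_of_eq
  have h01 : (monomial (0 : Fin (n + 1) →₀ ℕ) (1 : R) : MvPolynomial (Fin (n + 1)) R) = 1 := by
    rw [← C_apply, C_1]
  change (monomial (0 : Fin (n + 1) →₀ ℕ) (1 : R)) * (∑ e ∈ F.support, monomial (pp e) (F e)) =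
    (1 : MvPolynomial (Fin (n + 1)) R) * (∑ e ∈ F.support, monomial (pp e) (F e))
  rw [h01]

theorem PhiHom_smul (d : ℕ) (r : R)
    (p : MvPolynomial.homogeneousSubmodule (Fin (n + 1)) R d) :
    PhiHom n R d (r • p) = rhoR n R r • PhiHom n R d p := by
  apply val_ext
  intro x
  rw [val_smul, fval_rhoR, val_PhiHom, val_PhiHom, Localization.mk_mul, one_mul]
  change Localization.mk (r • p.1) _ = _
  rw [MvPolynomial.smul_eq_C_mul]

end Groth.Agent.Lib.Helper7.PnGamma
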