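import Groth.Agent.Lib.Helper7.PnVanish

/-!
# Global sections of `O(d)` on projective space
-/

set_option autoImplicit false
universe u
open CategoryTheory CategoryTheory.Limits AlgebraicGeometry TopologicalSpace Opposite
open Scheme.Modules MvPolynomial

noncomputable section

namespace Groth.Agent.Lib.Helper7.PnSections

open PnLaurent Groth.Agent.Lib.Helper3 Groth.Agent.Lib.Helper3.TwistBasic
  Groth.Agent.Lib.Helper3.QCSec Groth.Agent.Lib.Helper13

variable {n : ℕ} {R : Type u} [CommRing R]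

theorem V_eq_basicOpen_single (i : Fin (n + 1)) :
    V n R i = Proj.basicOpen (CohB1.polyGrading n R) (monomial (Finsupp.single i 1) (1 : R)) :=
  rfl

theorem iSup_V : ⨆ j : Fin (n + 1), V n R j = ⊤ :=
  Proj.iSup_basicOpen_eq_top' (CohB1.polyGrading n R) _
    (fun j => ⟨1, MvPolynomial.isHomogeneous_X R j⟩) (ProjCover.adjoin_X_eq_top n R)

theorem exists_lau_local (d : ℤ) (i : Fin (n + 1))
    (t : Γ(Twist.twist (CohB1.polyGrading n R) d, V n R i)) :
    ∃ F : Lau n R, (∀ e ∈ F.support, (∑ l, e l = d) ∧ ∀ l, e l < 0 → l = i) ∧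
      alpha d (V n R i) F = t := by
  obtain ⟨F, hF, hFt⟩ := alpha_surjective (c := Finsupp.single i 1) (by simp)
    (V_eq_basicOpen_single i) t
  refine ⟨F, fun e he => ⟨(hF e he).1, fun l hl => ?_⟩, hFt⟩
  have h1 := (hF e he).2 l hl
  by_contra hne
  exact h1 (Finsupp.single_eq_of_ne' (Ne.symm hne))

theorem lau_eq_of_res_eq {d : ℤ} {i j : Fin (n + 1)} {Fi Fj : Lau n R}
    (hi : ∀ e ∈ Fi.support, Cond n R d (V n R i) e)
    (hj : ∀ e ∈ Fj.support, Cond n R d (V n R j) e)
    (h : res (Twist.twist (CohB1.polyGrading n R) d) (inf_le_left : V n R i ⊓ V n R j ≤ V n R i)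
        (alpha d (V n R i) Fi) =
      res (Twist.twist (CohB1.polyGrading n R) d) (inf_le_right : V n R i ⊓ V n R j ≤ V n R j)
        (alpha d (V n R j) Fj)) : Fi = Fj := by
  classical
  rw [res_alpha _ hi, res_alpha _ hj] at h
  have h0 : alpha d (V n R i ⊓ V n R j) (Fi - Fj) = 0 := by rw [map_sub, h, sub_self]
  have hc : (Finsupp.single i 1 + Finsupp.single j 1 : Fin (n + 1) →₀ ℕ) ≠ 0 := by
    intro hc
    have := DFunLike.congr_fun hc i
    simp at this
  have hci : (Finsupp.single i 1 + Finsupp.single j 1 : Fin (n + 1) →₀ ℕ) i ≠ 0 := by simp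
  have hcj : (Finsupp.single i 1 + Finsupp.single j 1 : Fin (n + 1) →₀ ℕ) j ≠ 0 := by simp
  have := alpha_injective (d := d) (W := V n R i ⊓ V n R j) hc
    (fun x hx => ⟨(mem_V n R).mpr (X_notMem_of_monomial_notMem hci hx),
      (mem_V n R).mpr (X_notMem_of_monomial_notMem hcj hx)⟩)
    (F := Fi - Fj) (fun e he => by
      rcases Finset.mem_union.mp (Finsupp.support_sub he) with h1 | h1
      · exact (hi e h1).mono inf_le_left
      · exact (hj e h1).mono inf_le_right) h0
  exact sub_eq_zero.mp this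

theorem exists_lau_of_global (d : ℤ) (hnd : 1 ≤ n ∨ 0 ≤ d)
    (t : Γ(Twist.twist (CohB1.polyGrading n R) d, (⊤ : (Proj (CohB1.polyGrading n R)).Opens))) :
    ∃ F : Lau n R, (∀ e ∈ F.support, (∑ l, e l = d) ∧ ∀ l, 0 ≤ e l) ∧
      ∀ i, res (Twist.twist (CohB1.polyGrading n R) d) (le_top : V n R i ≤ ⊤) t =
        alpha d (V n R i) F := by
  choose F hF hFt using fun i => exists_lau_local d i
    (res (Twist.twist (CohB1.polyGrading n R) d) (le_top : V n R i ≤ ⊤) t)
  have hcond : ∀ i, ∀ e ∈ (F i).support, Cond n R d (V n R i) e := fun i e he =>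
    ⟨(hF i e he).1, fun l hl => by rw [(hF i e he).2 l hl]⟩
  have heq : ∀ i j, F i = F j := by
    intro i j
    apply lau_eq_of_res_eq (hcond i) (hcond j)
    rw [hFt i, hFt j, res_res, res_res]
  refine ⟨F 0, fun e he => ⟨(hF 0 e he).1, fun l => ?_⟩, fun i => by
    rw [heq 0 i]; exact (hFt i).symm⟩
  by_contra hneg
  push Not at hneg
  have hl0 : l = 0 := (hF 0 e he).2 l hneg
  rcases Nat.eq_zero_or_pos n with hn | hn
  · subst hn
    have hd : 0 ≤ d := by
      rcases hnd with h | h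
      · omega
      · exact h
    haveI : Subsingleton (Fin (0 + 1)) := inferInstanceAs (Subsingleton (Fin 1))
    have hsum : ∑ i, e i = e l :=
      Fintype.sum_eq_single l (fun i hi => absurd (Subsingleton.elim i l) hi)
    have := (hF 0 e he).1
    omega
  · have he1 : e ∈ (F (⟨1, by omega⟩ : Fin (n + 1))).support := by
      rw [← heq 0]
      exact he
    have hl1 := (hF _ e he1).2 l hneg
    rw [hl0] at hl1
    exact absurd (congrArg Fin.val hl1) (by simp)

theorem global_eq_zero_of_neg (d : ℤ) (hn : 1 ≤ n) (hd : d < 0)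
    (t : Γ(Twist.twist (CohB1.polyGrading n R) d, (⊤ : (Proj (CohB1.polyGrading n R)).Opens))) :
    t = 0 := by
  obtain ⟨F, hF, hFt⟩ := exists_lau_of_global d (Or.inl hn) t
  have hF0 : F = 0 := by
    by_contra hne
    obtain ⟨e, he⟩ := Finsupp.support_nonempty_iff.mpr hne
    have h1 := hF e he
    have h2 : 0 ≤ ∑ l, e l := Finset.sum_nonneg fun l _ => h1.2 l
    have h3 := h1.1
    omega
  apply val_ext
  intro x
  obtain ⟨i, hi⟩ : ∃ i, x.1 ∈ V n R i := by
    have h1 : x.1 ∈ ⨆ j : Fin (n + 1), V n R j := by rw [iSup_V]; trivial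
    exact Opens.mem_iSup.mp h1
  have h1 := hFt i
  rw [hF0, map_zero] at h1
  have h2 := congrArg (fun s => val s ⟨x.1, hi⟩) h1
  exact h2

theorem subsingleton_HH_zero_of_neg (d : ℤ) (hn : 1 ≤ n) (hd : d < 0) :
    Subsingleton (Coh.HH (Proj (CohB1.polyGrading n R))
      (Twist.twist (CohB1.polyGrading n R) d) 0) := by
  have hT : IsTerminal (⊤ : (Proj (CohB1.polyGrading n R)).Opens) := isTerminalTop
  have e := Sheaf.H.equiv₀ (Coh.toAb (Twist.twist (CohB1.polyGrading n R) d)) hT
  haveI : Subsingleton ((Coh.toAb (Twist.twist (CohB1.polyGrading n R) d)).obj.obj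
      (op (⊤ : (Proj (CohB1.polyGrading n R)).Opens))) :=
    ⟨fun a b => (global_eq_zero_of_neg d hn hd a).trans (global_eq_zero_of_neg d hn hd b).symm⟩
  exact e.toEquiv.subsingleton

theorem subsingleton_HH_of_iso {X : Scheme.{u}} {M N : X.Modules} (e : M ≅ N) (q : ℕ)
    [Subsingleton (Coh.HH X N q)] : Subsingleton (Coh.HH X M q) := by
  refine ⟨fun x y => ?_⟩
  have key : ∀ z : Coh.HH X M q,
      Sheaf.H.map ((SheafOfModules.toSheaf X.ringCatSheaf).map e.inv) q
        (Sheaf.H.map ((SheafOfModules.toSheaf X.ringCatSheaf).map e.hom) q z) = z := by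
    intro z
    have hcomp : (SheafOfModules.toSheaf X.ringCatSheaf).map e.hom ≫
        (SheafOfModules.toSheaf X.ringCatSheaf).map e.inv = 𝟙 _ :=
      ((SheafOfModules.toSheaf X.ringCatSheaf).mapIso e).hom_inv_id
    exact ((Sheaf.H.map_comp_apply _ _ z).symm.trans
      (congrArg (fun h => Sheaf.H.map h q z) hcomp)).trans (Sheaf.H.map_id_apply z)
  rw [← key x, ← key y,
    Subsingleton.elim (Sheaf.H.map ((SheafOfModules.toSheaf X.ringCatSheaf).map e.hom) q x)
      (Sheaf.H.map ((SheafOfModules.toSheaf X.ringCatSheaf).map e.hom) q y)]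

end Groth.Agent.Lib.Helper7.PnSections
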