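import Groth.Agent.Lib.Helper7.PnTopC

/-!
# Laurent polynomials with negative exponents versus homogeneous polynomials
-/

set_option autoImplicit false
universe u
open MvPolynomial

noncomputable section

namespace Groth.Agent.Lib.Helper7.PnTop

open PnLaurent

variable (n k : ℕ)

theorem sum_neg_one_sub (e : Fin (n + 1) → ℤ) :
    ∑ l, (-1 - e l) = -((n : ℤ) + 1) - ∑ l, e l := by
  rw [Finset.sum_sub_distrib, Finset.sum_const, Finset.card_univ, Fintype.card_fin]
  simp

/-- the exponents of degree `-(n+1+k)` with all entries negative correspond to the monomials of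
degree `k` -/
def exEquiv : {e : Ex n | NegEx n (-((n : ℤ) + 1 + k)) e} ≃
    {a : Fin (n + 1) →₀ ℕ | a.degree = k} where
  toFun e := ⟨Finsupp.equivFunOnFinite.symm (fun l => (-1 - e.1 l).toNat), by
    have h1 := e.2.1
    have h2 := e.2.2
    have h3 : ((Finsupp.degree (Finsupp.equivFunOnFinite.symm
        (fun l => (-1 - e.1 l).toNat)) : ℕ) : ℤ) = k := by
      rw [Finsupp.degree_eq_sum]
      push_cast
      have h4 : ∀ l, (((Finsupp.equivFunOnFinite.symm (fun l => (-1 - e.1 l).toNat) :
          Fin (n + 1) →₀ ℕ) l : ℕ) : ℤ) = -1 - e.1 l := by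
        intro l
        have := h2 l
        simp only [Finsupp.equivFunOnFinite_symm_apply_apply]
        omega
      rw [Finset.sum_congr rfl (fun l _ => h4 l), sum_neg_one_sub, h1]
      ring
    exact_mod_cast h3⟩
  invFun a := ⟨fun l => -1 - (a.1 l : ℤ), by
    have h1 : ((Finsupp.degree a.1 : ℕ) : ℤ) = k := by exact_mod_cast a.2
    rw [Finsupp.degree_eq_sum] at h1
    push_cast at h1
    refine ⟨?_, fun l => ?_⟩
    · rw [sum_neg_one_sub, h1]
      ring
    · have : (0 : ℤ) ≤ (a.1 l : ℤ) := Int.natCast_nonneg _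
      show -1 - (a.1 l : ℤ) < 0
      omega⟩
  left_inv e := by
    apply Subtype.ext
    funext l
    have := e.2.2 l
    simp only [Finsupp.equivFunOnFinite_symm_apply_apply]
    omega
  right_inv a := by
    apply Subtype.ext
    ext l
    simp only [Finsupp.equivFunOnFinite_symm_apply_apply]
    omega

/-- Laurent polynomials of degree `-(n+1+k)` with negative exponents are the homogeneous
polynomials of degree `k` -/
theorem nonempty_ND_linearEquiv (R : Type u) [CommRing R] :
    Nonempty (ND n R (-((n : ℤ) + 1 + k)) ≃ₗ[R]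
      ↥(MvPolynomial.homogeneousSubmodule (Fin (n + 1)) R k)) := by
  refine ⟨(Finsupp.supportedEquivFinsupp _).trans ((Finsupp.domLCongr (exEquiv n k)).trans
    ((AddMonoidAlgebra.supportedEquivFinsupp _).symm.trans (LinearEquiv.ofEq _ _
      (MvPolynomial.homogeneousSubmodule_eq_finsupp_supported (Fin (n + 1)) R k).symm)))⟩

end Groth.Agent.Lib.Helper7.PnTop
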