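import Mathlib
import Groth.Prelude
import Groth.Agent.Lib.Helper7.CohFinite
import Groth.Agent.Lib.Helper7.CechCard
import Groth.Agent.S0843
import Groth.Agent.S0844
import Groth.Agent.S0845
import Groth.Agent.S0022
import Groth.Agent.S0046
import Groth.Agent.S4402
import Groth.Agent.S2357

/-!
# Finiteness of the cohomology of coherent modules on `P^n_R`, `R` Noetherian
-/
set_option autoImplicit false
universe u
open CategoryTheory CategoryTheory.Limits Opposite TopologicalSpace AlgebraicGeometry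

noncomputable section

namespace Groth.Agent.Lib.Helper7.PnFinite

open Groth.Agent.Lib.Helper13 Groth.Agent.Lib.Helper3 Groth.Agent.Lib.Helper7.CohFinite
  Groth.Agent.Lib.Helper3.TwistBasic

variable (n : ℕ) (R : Type u) [CommRing R]

lemma proj_zero (p : MvPolynomial (Fin (n + 1)) R) :
    GradedRing.proj (CohB1.polyGrading n R) 0 p = MvPolynomial.C (MvPolynomial.coeff 0 p) := by
  rw [GradedRing.proj_apply]
  exact (MvPolynomial.decomposition.decompose'_apply p 0).trans
    (MvPolynomial.homogeneousComponent_zero p)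

open scoped Classical in
lemma irrelevant_eq_span :
    (HomogeneousIdeal.irrelevant (CohB1.polyGrading n R)).toIdeal =
      Ideal.span ((Finset.univ.image
        (MvPolynomial.X : Fin (n + 1) → MvPolynomial (Fin (n + 1)) R) : Finset _) : Set _) := by
  ext p
  rw [Finset.coe_image, Finset.coe_univ, MvPolynomial.mem_ideal_span_X_image]
  change p ∈ HomogeneousIdeal.irrelevant (CohB1.polyGrading n R) ↔ _
  rw [HomogeneousIdeal.mem_irrelevant_iff, proj_zero]
  constructor
  · intro h m hm
    have hc : MvPolynomial.coeff 0 p = 0 := MvPolynomial.C_injective _ _ (h.trans (map_zero _).symm)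
    by_contra hcon
    push Not at hcon
    have hm0 : m = 0 := by
      ext i
      exact hcon i (Set.mem_univ i)
    subst hm0
    exact (MvPolynomial.mem_support_iff.mp hm) hc
  · intro h
    have hc : MvPolynomial.coeff 0 p = 0 := by
      by_contra hne
      obtain ⟨i, _, hi⟩ := h 0 (MvPolynomial.mem_support_iff.mpr hne)
      exact hi rfl
    rw [hc, map_zero]

lemma hunit (d : ℤ) (x : Proj (CohB1.polyGrading n R)) :
    ∃ U : (Proj (CohB1.polyGrading n R)).Opens, x ∈ U ∧ HasUnitFrac d U := by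
  obtain ⟨U, hxU, hU⟩ := VACore.hasUnitFrac_projSpace R n x
  refine ⟨U, hxU, ?_⟩
  have := hU.zsmul d
  simpa using this

lemma isCoh_twist (d : ℤ) : Coh.IsCoh (Twist.twist (CohB1.polyGrading n R) d) :=
  ⟨GrTildeSelf.isQuasicoherent_twist d,
    InvCoh.isFiniteType_of_isInvertible (isInvertible_twist_of_cover d (hunit n R d))⟩

lemma finite_HH_twist (d : ℤ) (q : ℕ) :
    Module.Finite R (Coh.HH (CohB1.ProjSpace n R) (Twist.twistProjSpace n R d) q) := by
  haveI : ∀ k : ℕ, Module.Finite R (MvPolynomial.homogeneousSubmodule (Fin (n + 1)) R k) :=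
    fun k => Module.Finite.iff_fg.2 (MvPolynomial.homogeneousSubmodule_fg _ R k)
  by_cases h0 : q = 0 ∧ 0 ≤ d
  · obtain ⟨rfl, hd⟩ := h0
    obtain ⟨k, rfl⟩ := Int.eq_ofNat_of_zero_le hd
    obtain ⟨e⟩ := Groth.Agent.S0843.result R n k
    exact Module.Finite.equiv e.symm
  · by_cases hn : q = n ∧ d ≤ -((n : ℤ) + 1)
    · obtain ⟨rfl, hd⟩ := hn
      obtain ⟨k, rfl⟩ : ∃ k : ℕ, d = -((q : ℤ) + 1 + k) := ⟨(-((q : ℤ) + 1) - d).toNat, by omega⟩
      obtain ⟨e⟩ := Groth.Agent.S0845.result R q k
      exact Module.Finite.equiv e.symm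
    · haveI := Groth.Agent.S0844.result R n d q h0 hn
      exact finite_of_subsingleton

lemma exists_epi (M : (CohB1.ProjSpace n R).Modules) (hM : Coh.IsCoh M) :
    ∃ (m : ℕ) (k : ℕ) (p : (∐ fun _ : Fin k => Twist.twistProjSpace n R (-(m : ℤ))) ⟶ M),
      Epi p := by
  classical
  obtain ⟨n₀, hn₀⟩ := Groth.Agent.S4402.result (CohB1.polyGrading n R)
    (Finset.univ.image (MvPolynomial.X : Fin (n + 1) → MvPolynomial (Fin (n + 1)) R))
    (fun f hf => by
      obtain ⟨a, _, rfl⟩ := Finset.mem_image.mp hf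
      exact MvPolynomial.isHomogeneous_X R a)
    (irrelevant_eq_span n R) M hM.1 hM.2
  obtain ⟨k, p, hp⟩ := hn₀ n₀ le_rfl
  exact ⟨n₀, k, p, hp⟩

variable [IsNoetherianRing R]

theorem finite_HH :
    ∀ (j i : ℕ), i + j = n + 1 → ∀ (M : (CohB1.ProjSpace n R).Modules), Coh.IsCoh M →
      Module.Finite R (Coh.HH (CohB1.ProjSpace n R) M i) := by
  intro j
  induction j with
  | zero =>
    intro i hi M hM
    haveI : Coh.IsQCoh M := hM.1
    haveI := Groth.Agent.S0022.result n R M i (by omega)
    exact finite_of_subsingleton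
  | succ j ih =>
    intro i hi M hM
    haveI : IsNoetherian (CohB1.ProjSpace n R) :=
      Groth.Agent.S2357.result (CohB1.polyGrading n R)
    obtain ⟨n₀, k, p, hp⟩ := exists_epi n R M hM
    let L : (CohB1.ProjSpace n R).Modules := Twist.twistProjSpace n R (-(n₀ : ℤ))
    have hL : Coh.IsCoh L := isCoh_twist n R (-(n₀ : ℤ))
    let pj : ℕ → (L ⟶ M) := fun j =>
      if h : j < k then Sigma.ι (fun _ : Fin k => L) ⟨j, h⟩ ≫ p else 0
    haveI : Epi (powDesc pj k) := epi_powDesc (L := L) p
    have hE : Coh.IsCoh (powSum L k) := isCoh_powSum L hL k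
    haveI : (powSum L k).IsQuasicoherent := hE.1
    haveI : M.IsQuasicoherent := hM.1
    have hKq : Coh.IsQCoh (kernel (powDesc pj k)) := QCProps.isQuasicoherent_kernel (powDesc pj k)
    have hK : Coh.IsCoh (kernel (powDesc pj k)) :=
      Groth.Agent.S0046.result _ (powSum L k) (kernel (powDesc pj k)) (kernel.ι _) hE hKq
    have hS := Groth.Agent.Lib.Helper7.CechCard.shortExact_kernel (powDesc pj k)
    haveI : Module.Finite R (Coh.HH (CohB1.ProjSpace n R) (powSum L k) i) :=
      finite_HH_powSum R L i (finite_HH_twist n R _ i) k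
    haveI : Module.Finite R (Coh.HH (CohB1.ProjSpace n R) (kernel (powDesc pj k)) (i + 1)) :=
      ih (i + 1) (by omega) _ hK
    exact finite_of_exact (HmapL R (powDesc pj k) i) (deltaL R _ hS i) (exact_right R _ hS i)

end Groth.Agent.Lib.Helper7.PnFinite
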