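import Groth.Agent.Lib.Helper3.SubIdeal
import Groth.Agent.Lib.Helper3.TwistMul
import Groth.Agent.Lib.Helper3.ModGlue
import Groth.Agent.Lib.Helper3.GrModComap
import Groth.Agent.Lib.Helper17.EffCartMod
import Groth.Agent.Lib.Helper7.PnFinite
import Groth.Agent.Lib.Helper7.PnH0
import Groth.Prelude

/-!
# The ideal sheaf of a hypersurface `V_+(G) ⊆ P^r_k` is `O(-d)` (helper7)

* `psi G : O(-d) ⟶ O`, multiplication by the form `G` of degree `d`.
* `idealMod_hypIdeal_iso G hG : Nonempty (ClSub.idealMod (LefPen.hypIdeal G) ≅ O(-d))` for `G ≠ 0`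
  over a field.
* `isZero_idealMod_hypIdeal_zero`: for `G = 0` the ideal module is zero.
-/

set_option autoImplicit false
universe u
open CategoryTheory CategoryTheory.Limits AlgebraicGeometry TopologicalSpace Opposite
open Scheme.Modules MvPolynomial

noncomputable section

namespace Groth.Agent.Lib.Helper7.HypIdeal

open Groth.Agent.Lib.Helper3 Groth.Agent.Lib.Helper3.QCSec Groth.Agent.Lib.Helper3.InvGen
  Groth.Agent.Lib.Helper3.HomMk Groth.Agent.Lib.Helper3.TwistBasic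
  Groth.Agent.Lib.Helper3.SubIdeal

variable (r : ℕ) (k : Type u) [Field k]

local notation "𝒜" => CohB1.polyGrading r k
local notation "PP" => Proj (CohB1.polyGrading r k)
local notation "PO" => Scheme.Opens (Proj (CohB1.polyGrading r k))
local notation "PA" => Scheme.affineOpens (Proj (CohB1.polyGrading r k))

instance isQuasicoherent_twist (n : ℤ) :
    SheafOfModules.IsQuasicoherent (R := (Proj (CohB1.polyGrading r k)).ringCatSheaf)
      (Twist.twist (CohB1.polyGrading r k) n) :=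
  (PnFinite.isCoh_twist r k n).1

/-- the chart `D_+(X_i)`. -/
def chartP (i : Fin (r + 1)) : PO := Proj.basicOpen 𝒜 (X i)

lemma one_notMem (U : PO) (x : U) :
    ((⟨1, SetLike.GradedOne.one_mem⟩ : 𝒜 0) : MvPolynomial (Fin (r + 1)) k) ∉
      x.1.asHomogeneousIdeal :=
  fun h => x.1.isPrime.ne_top ((Ideal.eq_top_iff_one _).mpr h)

lemma Xpow_mem (i : Fin (r + 1)) (d : ℕ) :
    (X i ^ d : MvPolynomial (Fin (r + 1)) k) ∈ 𝒜 d := by
  rw [CohB1.polyGrading, mem_homogeneousSubmodule]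
  simpa using (isHomogeneous_X k i).pow d

lemma Xpow_notMem (i : Fin (r + 1)) (d : ℕ) {W : PO} (hW : W ≤ chartP r k i) (x : W) :
    ((⟨X i ^ d, Xpow_mem r k i d⟩ : 𝒜 d) : MvPolynomial (Fin (r + 1)) k) ∉
      x.1.asHomogeneousIdeal := by
  intro h
  have hx : (X i : MvPolynomial (Fin (r + 1)) k) ∉ x.1.asHomogeneousIdeal :=
    (Proj.mem_basicOpen _ _ _).mp (hW x.2)
  exact hx (x.1.isPrime.mem_of_pow_mem d h)

lemma exists_chart (x : PP) : ∃ i, x ∈ chartP r k i := by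
  have h1 : x ∈ ⨆ j : Fin (r + 1), PnSections.V r k j := by rw [PnSections.iSup_V]; trivial
  exact Opens.mem_iSup.mp h1

variable {r k} {d : ℕ} (G : LefPen.Form r k d)

/-- the hypersurface ideal, typed on `Proj`. -/
def hyp : (Proj 𝒜).IdealSheafData := LefPen.hypIdeal G

/-- the family of ideals defining it. -/
def hypFam (U : PA) : Ideal Γ(PP, U.1) := LefPen.hypFamily G U

/-- `G / X_i^d`. -/
def dehomP (i : Fin (r + 1)) : Γ(PP, chartP r k i) := LefPen.dehom G i

lemma hyp_ideal_le (U : PA) : (hyp G).ideal U ≤ hypFam G U :=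
  Scheme.IdealSheafData.ideal_ofIdeals_le (LefPen.hypFamily G) U

lemma le_hyp (J : (Proj 𝒜).IdealSheafData) (h : ∀ U : PA, J.ideal U ≤ hypFam G U) : J ≤ hyp G :=
  Scheme.IdealSheafData.le_ofIdeals_iff.mpr h

lemma mem_hypFam_iff (U : PA) (g : Γ(PP, U.1)) :
    g ∈ hypFam G U ↔ ∀ i, ∃ a : Γ(PP, U.1 ⊓ chartP r k i),
      a * rres PP (inf_le_right : U.1 ⊓ chartP r k i ≤ chartP r k i) (dehomP G i) =
        rres PP (inf_le_left : U.1 ⊓ chartP r k i ≤ U.1) g := by
  unfold hypFam LefPen.hypFamily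
  exact Ideal.mem_iInf.trans
    (forall_congr' fun i => Ideal.mem_comap.trans Ideal.mem_span_singleton')

lemma fval_dehomP (i : Fin (r + 1)) (y : chartP r k i) :
    fval (dehomP G i) y =
      Localization.mk G.1 ⟨X i ^ d, Xpow_notMem r k i d le_rfl y⟩ := rfl

/-- `G / 1` as a section of `O(d)`. -/
def gsec (U : PO) : Γ(Twist.twist 𝒜 (d : ℤ), U) :=
  frac U G (⟨1, SetLike.GradedOne.one_mem⟩ : 𝒜 0) (one_notMem r k U) (d : ℤ) (by simp)

lemma isLocFrac_mulG {U : PO} (t : Γ(Twist.twist 𝒜 (-(d : ℤ)), U)) :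
    IsLocFrac 0 (fun x : U => val t x * val (gsec G U) x) :=
  ((isLocFrac_val t).mul (isLocFrac_val (gsec G U))).cast (by omega)

/-- the function `G · t` for a section `t` of `O(-d)`. -/
def psiFun (U : PO) (t : Γ(Twist.twist 𝒜 (-(d : ℤ)), U)) : Γ(PP, U) :=
  mkFun U _ (isLocFrac_mulG G t)

lemma fval_psiFun (U : PO) (t : Γ(Twist.twist 𝒜 (-(d : ℤ)), U)) (x : U) :
    fval (psiFun G U t) x = val t x * val (gsec G U) x :=
  fval_mkFun U _ (isLocFrac_mulG G t) x

lemma psiFun_add (U : PO) (t t' : Γ(Twist.twist 𝒜 (-(d : ℤ)), U)) :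
    psiFun G U (t + t') = psiFun G U t + psiFun G U t' := by
  apply fval_ext
  intro x
  rw [fval_add, fval_psiFun, fval_psiFun, fval_psiFun, val_add, add_mul]

lemma psiFun_smul (U : PO) (a : Γ(PP, U)) (t : Γ(Twist.twist 𝒜 (-(d : ℤ)), U)) :
    psiFun G U (a • t) = a * psiFun G U t := by
  apply fval_ext
  intro x
  rw [fval_mul, fval_psiFun, fval_psiFun, val_smul, mul_assoc]

lemma psiFun_res {U V : PO} (h : V ≤ U) (t : Γ(Twist.twist 𝒜 (-(d : ℤ)), U)) :
    rres PP h (psiFun G U t) = psiFun G V (res _ h t) := by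
  apply fval_ext
  intro x
  rw [fval_res, fval_psiFun, fval_psiFun, val_res]
  rfl

/-- multiplication by `G`, as a morphism `O(-d) ⟶ O`. -/
def psi : Twist.twist 𝒜 (-(d : ℤ)) ⟶ Coh.structureModule PP :=
  homMk (fun U t => ofFun U (psiFun G U t))
    (fun U s s' => by rw [psiFun_add]; rfl)
    (fun U a s => by rw [psiFun_smul]; rfl)
    (fun {U V} h s => by rw [res_ofFun, psiFun_res])

lemma valOf_psi (U : PO) (t : Γ(Twist.twist 𝒜 (-(d : ℤ)), U)) :
    IdealMod.valOf (psi G) t = psiFun G U t := rfl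

lemma gval_ne_zero (hG : G ≠ 0) (U : PO) (x : U) : val (gsec G U) x ≠ 0 := by
  intro h
  haveI : (x.1.asHomogeneousIdeal.toIdeal).IsPrime := x.1.isPrime
  have h1 : val (gsec G U) x =
      algebraMap (MvPolynomial (Fin (r + 1)) k) (Twist.Loc 𝒜 x.1) G.1 :=
    (Localization.mk_one_eq_algebraMap (M := x.1.asHomogeneousIdeal.toIdeal.primeCompl) G.1)
  have hinj : Function.Injective
      (algebraMap (MvPolynomial (Fin (r + 1)) k) (Twist.Loc 𝒜 x.1)) :=
    IsLocalization.injective (Twist.Loc 𝒜 x.1)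
      (x.1.asHomogeneousIdeal.toIdeal.primeCompl_le_nonZeroDivisors)
  have h2 : G.1 = 0 := hinj (by rw [← h1, h, map_zero])
  exact hG (Subtype.ext h2)

lemma psiFun_injective (hG : G ≠ 0) (U : PO) : Function.Injective (psiFun G U) := by
  intro t t' h
  apply val_ext
  intro x
  haveI : (x.1.asHomogeneousIdeal.toIdeal).IsPrime := x.1.isPrime
  haveI : IsDomain (Twist.Loc 𝒜 x.1) :=
    IsLocalization.isDomain_of_atPrime _ x.1.asHomogeneousIdeal.toIdeal
  have h1 : fval (psiFun G U t) x = fval (psiFun G U t') x := by rw [h]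
  have h2 := (fval_psiFun G U t x).symm.trans (h1.trans (fval_psiFun G U t' x))
  exact mul_right_cancel₀ (gval_ne_zero G hG U x) h2

/-- `1 / X_i^d`, a generator of `O(-d)` on the chart `D_+(X_i)`. -/
def esec (i : Fin (r + 1)) (W : PO) (hW : W ≤ chartP r k i) :
    Γ(Twist.twist 𝒜 (-(d : ℤ)), W) :=
  frac W (⟨1, SetLike.GradedOne.one_mem⟩ : 𝒜 0) (⟨X i ^ d, Xpow_mem r k i d⟩ : 𝒜 d)
    (Xpow_notMem r k i d hW) (-(d : ℤ)) (by simp)

lemma isGen_esec (i : Fin (r + 1)) (W : PO) (hW : W ≤ chartP r k i) :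
    IsGen (Twist.twist 𝒜 (-(d : ℤ))) W (esec (d := d) i W hW) :=
  isGen_frac W _ _ (one_notMem r k W) (Xpow_notMem r k i d hW) _ _

lemma psiFun_esec (i : Fin (r + 1)) (W : PO) (hW : W ≤ chartP r k i) :
    psiFun G W (esec i W hW) = rres PP hW (dehomP G i) := by
  apply fval_ext
  intro x
  have h1 := fval_psiFun G W (esec i W hW) x
  have h2 : fval (rres PP hW (dehomP G i)) x = fval (dehomP G i) ⟨x.1, hW x.2⟩ :=
    fval_res hW _ x
  refine h1.trans (Eq.trans ?_ h2.symm)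
  rw [fval_dehomP]
  change Localization.mk _ _ * Localization.mk _ _ = Localization.mk G.1 _
  rw [Localization.mk_mul]
  congr 1
  · exact one_mul _
  · exact Subtype.ext (mul_one _)

lemma psiFun_mem_hypFam (U : PA) (t : Γ(Twist.twist 𝒜 (-(d : ℤ)), U.1)) :
    psiFun G U.1 t ∈ hypFam G U := by
  rw [mem_hypFam_iff]
  intro i
  have hWU : U.1 ⊓ chartP r k i ≤ U.1 := inf_le_left
  have hWc : U.1 ⊓ chartP r k i ≤ chartP r k i := inf_le_right
  obtain ⟨a, ha⟩ := ((isGen_esec (d := d) i _ hWc) _ le_rfl).2 (res _ hWU t)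
  have ha' : a • esec i _ hWc = res _ hWU t := by
    have := ha
    rw [res_self] at this
    exact this
  refine ⟨a, ?_⟩
  have h1 := psiFun_res G hWU t
  rw [← ha', psiFun_smul, psiFun_esec] at h1
  exact h1.symm

lemma idealOfSub_le : idealOfSub (psi G) ≤ hyp G := by
  apply le_hyp
  intro U g hg
  obtain ⟨t, rfl⟩ := (mem_ideal_idealOfSub (psi G) U g).mp hg
  exact psiFun_mem_hypFam G U t

lemma subschemeι_app_psiFun {V : PO} (hV : IsAffineOpen V)
    (t : Γ(Twist.twist 𝒜 (-(d : ℤ)), V)) :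
    (hyp G).subschemeι.app V (psiFun G V t) = 0 := by
  have hmem : psiFun G V t ∈ (hyp G).ideal ⟨V, hV⟩ :=
    (idealOfSub_le G) ⟨V, hV⟩ ((mem_ideal_idealOfSub (psi G) ⟨V, hV⟩ _).mpr ⟨t, rfl⟩)
  have h2 := (Scheme.IdealSheafData.ker_subschemeι_app (hyp G) ⟨V, hV⟩).ge hmem
  exact RingHom.mem_ker.mp h2

lemma psi_comp_toSubscheme : psi G ≫ ClSub.toSubscheme (hyp G) = 0 := by
  apply ModGlue.hom_ext_of_small (fun V => IsAffineOpen V)
  · intro W x hx
    obtain ⟨V, hV, hxV, hVW⟩ :=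
      Opens.isBasis_iff_nbhd.mp (Scheme.isBasis_affineOpens PP) hx
    exact ⟨V, hV, hxV, hVW⟩
  · intro V hV t
    change ofFun _ ((hyp G).subschemeι.app V (psiFun G V t)) = 0
    rw [subschemeι_app_psiFun G hV t]
    rfl

/-- `O(-d) ⟶ I_{V(G)}`. -/
def psiLift : Twist.twist 𝒜 (-(d : ℤ)) ⟶ ClSub.idealMod (hyp G) :=
  kernel.lift (ClSub.toSubscheme (hyp G)) (psi G) (psi_comp_toSubscheme G)

lemma psiLift_ι : psiLift G ≫ ClSub.idealModι (hyp G) = psi G :=
  kernel.lift_ι _ _ _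

lemma val_psiLift (V : PO) (t : Γ(Twist.twist 𝒜 (-(d : ℤ)), V)) :
    IdealMod.val (hyp G) ((psiLift G).app V t) = psiFun G V t :=
  congrArg (fun φ => toFun V (Scheme.Modules.Hom.app φ V t)) (psiLift_ι G)

theorem isIso_psiLift (hG : G ≠ 0) : IsIso (psiLift G) := by
  apply GrModComap.isIso_of_bijective_on_basis
  intro W x hx
  obtain ⟨i, hi⟩ := exists_chart r k x
  obtain ⟨V, hV, hxV, hVW⟩ := Opens.isBasis_iff_nbhd.mp (Scheme.isBasis_affineOpens PP)
    (show x ∈ W ⊓ chartP r k i from ⟨hx, hi⟩)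
  have hVc : V ≤ chartP r k i := hVW.trans inf_le_right
  refine ⟨V, hxV, hVW.trans inf_le_left, ?_, ?_⟩
  · intro t t' h
    apply psiFun_injective G hG V
    have h1 := val_psiLift G V t
    have h2 := val_psiLift G V t'
    rw [← h1, ← h2]
    exact congrArg _ h
  · intro s
    have hg : IdealMod.val (hyp G) s ∈ (hyp G).ideal ⟨V, hV⟩ :=
      (Groth.Agent.Lib.Helper17.EffCartMod.mem_ideal_iff _ ⟨V, hV⟩ _).mpr ⟨s, rfl⟩
    obtain ⟨a, ha⟩ := (mem_hypFam_iff G ⟨V, hV⟩ _).mp (hyp_ideal_le G ⟨V, hV⟩ hg) i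
    have hVinf : V ≤ V ⊓ chartP r k i := le_inf le_rfl hVc
    refine ⟨rres PP hVinf a • esec i V hVc, ?_⟩
    apply IdealMod.val_injective
    refine (val_psiLift G V _).trans ?_
    rw [psiFun_smul, psiFun_esec]
    have h2 := congrArg (rres PP hVinf) ha
    rw [rres_mul, rres_rres, rres_rres, rres_self] at h2
    exact h2

/-- **The ideal sheaf of the hypersurface `V_+(G)` is `O(-d)`.** -/
theorem idealMod_hypIdeal_iso (hG : G ≠ 0) :
    Nonempty (ClSub.idealMod (LefPen.hypIdeal G) ≅ Twist.twistProjSpace r k (-(d : ℤ))) := by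
  haveI := isIso_psiLift G hG
  exact ⟨(asIso (psiLift G)).symm⟩

end Groth.Agent.Lib.Helper7.HypIdeal
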