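import Mathlib
import Groth.Prelude
import Groth.Agent.Lib.Helper3.InvMonoidal
import Groth.Agent.Lib.Helper3.QCExact
import Groth.Agent.Lib.Helper13.SerreCrit1

/-!
# Tensoring with an invertible module as an exact auto-equivalence of `X.Modules`

* `tensor_hom_ext`, `tensor_hom_ext₂`: morphisms out of `M ⊗ N`, `(F ⊗ L) ⊗ L'` are determined by
  their values on pure tensors.
* `twR L : X.Modules ⥤ X.Modules`, `F ↦ F ⊗ L`, additive.
* `cancelIso`, `cancelNat`: `(F ⊗ L) ⊗ L' ≅ F` naturally in `F`, given `e : L ⊗ L' ≅ O_X`.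
* `twEquiv`, `shortExact_twR`: `twR L` is an equivalence, hence preserves short exact sequences.
* `sub_mid`, `sub_right`, `sub_left`: vanishing in the long exact cohomology sequence.
* `subsingleton_HH_of_iso`.
-/
set_option autoImplicit false
universe u
open CategoryTheory CategoryTheory.Limits AlgebraicGeometry TopologicalSpace Opposite
open Scheme.Modules TensorProduct MonoidalCategory

noncomputable section

namespace Groth.Agent.Lib.Helper7.TwFun

open Groth.Agent.Lib.Helper3 Groth.Agent.Lib.Helper3.QCSec Groth.Agent.Lib.Helper3.InvGen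
  Groth.Agent.Lib.Helper3.InvTensor Groth.Agent.Lib.Helper3.InvMonoidal
  Groth.Agent.Lib.Helper13 Groth.Agent.Lib.Helper13.SerreCrit1

variable {X : Scheme.{u}}

/-- two additive maps on the sections of `M ⊗ N` agreeing on pure tensors agree on the image of the
sectionwise tensor product. -/
theorem toTensor_induction {M N : X.Modules} (V : X.Opens) {Q : Type*} [AddCommGroup Q]
    (a b : Γ(CohB1.tensorMod M N, V) →+ Q)
    (h : ∀ (m : Γ(M, V)) (n : Γ(N, V)), a (tm M N V m n) = b (tm M N V m n))
    (y : ↑((CohB1.tensorPre M N).obj (op V))) :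
    a (((SecTwist.toTensor M N).app (op V)).hom y) =
      b (((SecTwist.toTensor M N).app (op V)).hom y) := by
  refine TensorProduct.induction_on (R := Rg X V) (M := (CohB1.toPMod M).obj (op V))
    (N := (CohB1.toPMod N).obj (op V))
    (motive := fun y => a (((SecTwist.toTensor M N).app (op V)).hom y) =
      b (((SecTwist.toTensor M N).app (op V)).hom y)) y ?_ ?_ ?_
  · have hz : ((SecTwist.toTensor M N).app (op V)).hom 0 = 0 := map_zero _
    exact (congrArg a hz).trans ((map_zero a).trans ((map_zero b).symm.trans (congrArg b hz).symm))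
  · intro m n
    exact h m n
  · intro y y' hy hy'
    have hadd : ((SecTwist.toTensor M N).app (op V)).hom (y + y') =
        ((SecTwist.toTensor M N).app (op V)).hom y +
          ((SecTwist.toTensor M N).app (op V)).hom y' := map_add _ _ _
    exact (congrArg a hadd).trans ((map_add a _ _).trans ((congrArg₂ (· + ·) hy hy').trans
      ((map_add b _ _).symm.trans (congrArg b hadd).symm)))

/-- morphisms out of a tensor product are determined by their values on pure tensors. -/
theorem tensor_hom_ext {M N P : X.Modules} {f g : CohB1.tensorMod M N ⟶ P}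
    (h : ∀ (U : X.Opens) (m : Γ(M, U)) (n : Γ(N, U)),
      f.app U (tm M N U m n) = g.app U (tm M N U m n)) : f = g := by
  apply Scheme.Modules.hom_ext
  intro U
  ext σ
  have key : ∀ x : {x : X // x ∈ U}, ∃ (V : X.Opens) (hVU : V ≤ U), x.1 ∈ V ∧
      res P hVU (f.app U σ) = res P hVU (g.app U σ) := by
    intro x
    obtain ⟨V, hVU, hxV, y, hy⟩ := exists_local_rep M N U σ x.1 x.2
    refine ⟨V, hVU, hxV, ?_⟩
    rw [← QCExact.app_res', ← QCExact.app_res', ← hy]
    exact toTensor_induction V (AddMonoidHom.mk' (fun t => f.app V t) (QCExact.app_add f V))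
      (AddMonoidHom.mk' (fun t => g.app V t) (QCExact.app_add g V)) (h V) y
  choose W hWU hxW hW using key
  exact sec_eq_of_locally_eq P W U hWU
    (fun x hx => Opens.mem_iSup.mpr ⟨⟨x, hx⟩, hxW ⟨x, hx⟩⟩) _ _ hW

/-- morphisms out of a double tensor product are determined by their values on pure tensors. -/
theorem tensor_hom_ext₂ {F L L' P : X.Modules}
    {f g : CohB1.tensorMod (CohB1.tensorMod F L) L' ⟶ P}
    (h : ∀ (U : X.Opens) (m : Γ(F, U)) (l : Γ(L, U)) (l' : Γ(L', U)),
      f.app U (tm _ L' U (tm F L U m l) l') = g.app U (tm _ L' U (tm F L U m l) l')) : f = g := by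
  apply tensor_hom_ext
  intro U t l'
  have key : ∀ x : {x : X // x ∈ U}, ∃ (V : X.Opens) (hVU : V ≤ U), x.1 ∈ V ∧
      res P hVU (f.app U (tm _ L' U t l')) = res P hVU (g.app U (tm _ L' U t l')) := by
    intro x
    obtain ⟨V, hVU, hxV, y, hy⟩ := exists_local_rep F L U t x.1 x.2
    refine ⟨V, hVU, hxV, ?_⟩
    rw [← QCExact.app_res', ← QCExact.app_res', tm_res, ← hy]
    exact toTensor_induction V
      (AddMonoidHom.mk' (fun s => f.app V (tm _ L' V s (res L' hVU l')))
        (fun s s' => by rw [tm_add_left, QCExact.app_add]))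
      (AddMonoidHom.mk' (fun s => g.app V (tm _ L' V s (res L' hVU l')))
        (fun s s' => by rw [tm_add_left, QCExact.app_add]))
      (fun m l => h V m l _) y
  choose W hWU hxW hW using key
  exact sec_eq_of_locally_eq P W U hWU
    (fun x hx => Opens.mem_iSup.mpr ⟨⟨x, hx⟩, hxW ⟨x, hx⟩⟩) _ _ hW

/-- tensoring on the right with `L`, as a functor. -/
def twR (L : X.Modules) : X.Modules ⥤ X.Modules where
  obj F := CohB1.tensorMod F L
  map φ := tensorMap φ (𝟙 L)
  map_id F := tensorMap_id F L
  map_comp φ ψ := by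
    have h := tensorMap_comp φ ψ (𝟙 L) (𝟙 L)
    rwa [Category.comp_id] at h

@[simp] lemma twR_obj (L F : X.Modules) : (twR L).obj F = CohB1.tensorMod F L := rfl

lemma twR_map (L : X.Modules) {F F' : X.Modules} (φ : F ⟶ F') :
    (twR L).map φ = tensorMap φ (𝟙 L) := rfl

instance (L : X.Modules) : (twR L).Additive where
  map_add {F F' φ ψ} := by
    change tensorMap (φ + ψ) (𝟙 L) = tensorMap φ (𝟙 L) + tensorMap ψ (𝟙 L)
    apply tensor_hom_ext
    intro U m n
    rw [tensorMap_tm, Scheme.Modules.Hom.add_app, Scheme.Modules.Hom.add_app]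
    change tm F' L U (φ.app U m + ψ.app U m) _ =
      (tensorMap φ (𝟙 L)).app U (tm F L U m n) + (tensorMap ψ (𝟙 L)).app U (tm F L U m n)
    rw [tensorMap_tm, tensorMap_tm, tm_add_left]

/-- `(F ⊗ L) ⊗ L' ≅ F` when `L ⊗ L' ≅ O_X`. -/
def cancelIso (L L' : X.Modules) (e : CohB1.tensorMod L L' ≅ Coh.structureModule X)
    (F : X.Modules) : CohB1.tensorMod (CohB1.tensorMod F L) L' ≅ F :=
  assoc F L L' ≪≫ tensorMapIso (Iso.refl F) e ≪≫ SecTwist.unitorR F

lemma cancelIso_hom_tm (L L' : X.Modules) (e : CohB1.tensorMod L L' ≅ Coh.structureModule X)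
    (F : X.Modules) (U : X.Opens) (m : Γ(F, U)) (l : Γ(L, U)) (l' : Γ(L', U)) :
    (cancelIso L L' e F).hom.app U (tm _ L' U (tm F L U m l) l') =
      toFun U (e.hom.app U (tm L L' U l l')) • m := by
  change (SecTwist.unitorR F).hom.app U ((tensorMapIso (Iso.refl F) e).hom.app U
    ((assoc F L L').hom.app U (tm _ L' U (tm F L U m l) l'))) = _
  rw [assoc_hom_tm, tensorMapIso_hom_tm]
  exact unitorR_hom_tm F U m (toFun U (e.hom.app U (tm L L' U l l')))

/-- naturality of `cancelIso`. -/
def cancelNat (L L' : X.Modules) (e : CohB1.tensorMod L L' ≅ Coh.structureModule X) :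
    twR L ⋙ twR L' ≅ 𝟭 X.Modules :=
  NatIso.ofComponents (fun F => cancelIso L L' e F) (by
    intro F F' φ
    apply tensor_hom_ext₂
    intro U m l l'
    change (cancelIso L L' e F').hom.app U ((tensorMap (tensorMap φ (𝟙 L)) (𝟙 L')).app U
      (tm _ L' U (tm F L U m l) l')) = φ.app U ((cancelIso L L' e F).hom.app U
        (tm _ L' U (tm F L U m l) l'))
    rw [tensorMap_tm, tensorMap_tm, cancelIso_hom_tm, cancelIso_hom_tm,
      Scheme.Modules.Hom.app_smul]
    rfl)

/-- tensoring with an invertible module is an equivalence. -/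
def twEquiv (L L' : X.Modules) (e : CohB1.tensorMod L L' ≅ Coh.structureModule X) :
    X.Modules ≌ X.Modules :=
  CategoryTheory.Equivalence.mk (twR L) (twR L') (cancelNat L L' e).symm
    (cancelNat L' L (braid L' L ≪≫ e))

theorem isEquivalence_twR (L L' : X.Modules) (e : CohB1.tensorMod L L' ≅ Coh.structureModule X) :
    (twR L).IsEquivalence :=
  (twEquiv L L' e).isEquivalence_functor

/-- tensoring with an invertible module preserves short exact sequences. -/
theorem shortExact_twR (L L' : X.Modules) (e : CohB1.tensorMod L L' ≅ Coh.structureModule X)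
    (S : ShortComplex X.Modules) (hS : S.ShortExact) : (S.map (twR L)).ShortExact := by
  haveI := isEquivalence_twR L L' e
  exact hS.map_of_exact (twR L)

/-! ### vanishing in the long exact sequence -/

lemma sub_mid (S : ShortComplex X.Modules) (hS : S.ShortExact) (j : ℕ)
    (h1 : Subsingleton (Coh.HH X S.X₁ j)) (h3 : Subsingleton (Coh.HH X S.X₃ j)) :
    Subsingleton (Coh.HH X S.X₂ j) :=
  subsingleton_H1_middle S hS j h1 h3

lemma sub_right (S : ShortComplex X.Modules) (hS : S.ShortExact) (j : ℕ)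
    (h2 : Subsingleton (Coh.HH X S.X₂ j)) (h1 : Subsingleton (Coh.HH X S.X₁ (j + 1))) :
    Subsingleton (Coh.HH X S.X₃ j) := by
  have hS' := shortExact_map_toSheaf S hS
  refine subsingleton_of_forall_eq 0 fun x => ?_
  have hx : x.comp hS'.extClass rfl = 0 := @Subsingleton.elim _ h1 _ _
  obtain ⟨x₂, hx₂⟩ := Abelian.Ext.covariant_sequence_exact₃ _ hS' x rfl hx
  have hx0 : x₂ = 0 := @Subsingleton.elim _ h2 _ _
  rw [← hx₂, hx0, Abelian.Ext.zero_comp]
  rfl

lemma sub_left (S : ShortComplex X.Modules) (hS : S.ShortExact) (j : ℕ)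
    (h3 : Subsingleton (Coh.HH X S.X₃ j)) (h2 : Subsingleton (Coh.HH X S.X₂ (j + 1))) :
    Subsingleton (Coh.HH X S.X₁ (j + 1)) := by
  have hS' := shortExact_map_toSheaf S hS
  refine subsingleton_of_forall_eq 0 fun x => ?_
  have hx : x.comp (Abelian.Ext.mk₀ (S.map (TT X)).f) (add_zero (j + 1)) = 0 :=
    @Subsingleton.elim _ h2 _ _
  obtain ⟨x₃, hx₃⟩ := Abelian.Ext.covariant_sequence_exact₁ _ hS' x hx rfl
  have hx0 : x₃ = 0 := @Subsingleton.elim _ h3 _ _
  rw [← hx₃, hx0, Abelian.Ext.zero_comp]
  rfl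

/-- cohomology vanishing is invariant under isomorphism. -/
lemma subsingleton_HH_of_iso {G G' : X.Modules} (e : G ≅ G') (j : ℕ)
    (h : Subsingleton (Coh.HH X G' j)) : Subsingleton (Coh.HH X G j) := by
  refine subsingleton_of_forall_eq 0 fun x => ?_
  have h1 : Sheaf.H.map ((TT X).map e.inv) j (Sheaf.H.map ((TT X).map e.hom) j x) = x := by
    have h0 : (TT X).map e.hom ≫ (TT X).map e.inv = 𝟙 _ := by
      rw [← (TT X).map_comp, e.hom_inv_id, (TT X).map_id]
    rw [← Sheaf.H.map_comp_apply, h0]
    exact Sheaf.H.map_id_apply _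
  have h2 : Sheaf.H.map ((TT X).map e.hom) j x = 0 := @Subsingleton.elim _ h _ _
  rw [← h1, h2, map_zero]

end Groth.Agent.Lib.Helper7.TwFun
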