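import Mathlib
import Groth.Agent.S0563

/-!
# k-th syzygies over a regular local ring of dimension ≤ k are free (helper7)
-/

set_option autoImplicit false
universe u

namespace Groth.Agent.Lib.Helper7.SyzFree

open CategoryTheory

/-- A finite module of projective dimension `< 1` over a local ring is free. -/
theorem free_of_hasProjectiveDimensionLT_one (B : Type u) [CommRing B] [IsLocalRing B]
    (L : Type u) [AddCommGroup L] [Module B L] [Module.Finite B L]
    (h : HasProjectiveDimensionLT (ModuleCat.of B L) 1) : Module.Free B L := by
  have hp : Projective (ModuleCat.of B L) := projective_iff_hasProjectiveDimensionLT_one.2 h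
  haveI : Module.Projective B L := (IsProjective.iff_projective (R := B) L).2 hp
  exact Module.free_of_flat_of_isLocalRing

theorem free_of_syzygy (B : Type u) [CommRing B] [IsRegularLocalRing B] (h : ℕ)
    (hh : ringKrullDim B = h) (k : ℕ) (hk : h ≤ k) (L : ℕ → Type u) [∀ i, AddCommGroup (L i)]
    [∀ i, Module B (L i)] [Module.Finite B (L 0)]
    (hfree : ∀ i, 1 ≤ i → i ≤ k → Module.Free B (L i))
    (d : ∀ i, L i →ₗ[B] L (i + 1)) (hinj : Function.Injective (d 0))
    (hex : ∀ i, i + 1 < k → LinearMap.range (d i) = LinearMap.ker (d (i + 1))) :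
    Module.Free B (L 0) := by
  haveI : IsLocalRing B := inferInstance
  rcases Nat.eq_zero_or_pos k with rfl | hkpos
  · have h0 : h = 0 := by omega
    subst h0
    exact free_of_hasProjectiveDimensionLT_one B (L 0) (Groth.Agent.S0563.result B 0 hh (L 0))
  -- main claim by induction
  have hproj : ∀ i, 1 ≤ i → i ≤ k → ∀ n, 1 ≤ n →
      HasProjectiveDimensionLT (ModuleCat.of B (L i)) n := by
    intro i h1 h2 n hn
    haveI := hfree i h1 h2
    haveI : Module.Projective B (L i) := inferInstance
    haveI : Projective (ModuleCat.of B (L i)) :=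
      (IsProjective.iff_projective (R := B) (L i)).1 inferInstance
    exact hasProjectiveDimensionLT_of_ge (ModuleCat.of B (L i)) 1 n hn
  have claim : ∀ (i j : ℕ), j + i + 1 = k →
      HasProjectiveDimensionLT (ModuleCat.of B (LinearMap.range (d j))) ((h - (i + 1)) + 1) := by
    intro i
    induction i with
    | zero =>
      intro j hj
      let S : ShortComplex (ModuleCat.{u} B) :=
        ModuleCat.shortComplexOfCompEqZero (LinearMap.range (d j)).subtype
          (LinearMap.range (d j)).mkQ
          (LinearMap.exact_subtype_mkQ (LinearMap.range (d j))).linearMap_comp_eq_zero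
      have hS : S.ShortExact := ModuleCat.shortComplex_shortExact S
        (LinearMap.exact_subtype_mkQ (LinearMap.range (d j)))
        (LinearMap.range (d j)).injective_subtype (Submodule.mkQ_surjective _)
      have h3 : HasProjectiveDimensionLT S.X₃ ((h - (0 + 1)) + 1 + 1) := by
        haveI := Groth.Agent.S0563.result B h hh (L (j + 1) ⧸ LinearMap.range (d j))
        exact hasProjectiveDimensionLT_of_ge
          (ModuleCat.of B (L (j + 1) ⧸ LinearMap.range (d j))) (h + 1) _ (by omega)
      have h2 : HasProjectiveDimensionLT S.X₂ ((h - (0 + 1)) + 1) :=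
        hproj (j + 1) (by omega) (by omega) _ (by omega)
      exact hS.hasProjectiveDimensionLT_X₁ _ h2 h3
    | succ i ih =>
      intro j hj
      have hIH := ih (j + 1) (by omega)
      have hker : LinearMap.range (d j) = LinearMap.ker (d (j + 1)) := hex j (by omega)
      have hex' : Function.Exact (LinearMap.ker (d (j + 1))).subtype
          (LinearMap.rangeRestrict (d (j + 1))) := by
        rw [LinearMap.exact_iff, LinearMap.ker_rangeRestrict, Submodule.range_subtype]
      let S : ShortComplex (ModuleCat.{u} B) :=
        ModuleCat.shortComplexOfCompEqZero (LinearMap.ker (d (j + 1))).subtype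
          (LinearMap.rangeRestrict (d (j + 1))) hex'.linearMap_comp_eq_zero
      have hS : S.ShortExact := ModuleCat.shortComplex_shortExact S hex'
        (LinearMap.ker (d (j + 1))).injective_subtype
        (LinearMap.surjective_rangeRestrict (d (j + 1)))
      have h3 : HasProjectiveDimensionLT S.X₃ ((h - (i + 1 + 1)) + 1 + 1) := by
        haveI := hIH
        exact hasProjectiveDimensionLT_of_ge
          (ModuleCat.of B (LinearMap.range (d (j + 1)))) ((h - (i + 1)) + 1) _ (by omega)
      have h2 : HasProjectiveDimensionLT S.X₂ ((h - (i + 1 + 1)) + 1) :=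
        hproj (j + 1) (by omega) (by omega) _ (by omega)
      have h1 : HasProjectiveDimensionLT S.X₁ ((h - (i + 1 + 1)) + 1) :=
        hS.hasProjectiveDimensionLT_X₁ _ h2 h3
      haveI := h1
      exact hasProjectiveDimensionLT_of_iso
        (X := ModuleCat.of B (LinearMap.ker (d (j + 1))))
        (LinearEquiv.ofEq _ _ hker).toModuleIso.symm _
  have hfin := claim (k - 1) 0 (by omega)
  have hz : h - (k - 1 + 1) + 1 = 1 := by omega
  rw [hz] at hfin
  have h0 : HasProjectiveDimensionLT (ModuleCat.of B (L 0)) 1 := by
    haveI := hfin
    exact hasProjectiveDimensionLT_of_iso (X := ModuleCat.of B (LinearMap.range (d 0)))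
      (LinearEquiv.ofInjective (d 0) hinj).toModuleIso.symm 1
  exact free_of_hasProjectiveDimensionLT_one B (L 0) h0

end Groth.Agent.Lib.Helper7.SyzFree
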