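import Mathlib
import Groth.Agent.Lib.Helper4.Depth
import Groth.Agent.Lib.Helper4.Depth2
import Groth.Agent.Lib.Helper7.SyzFree

/-!
# The Auslander–Buchsbaum formula over a Noetherian local ring (helper7)

`depth_eq_add`: for a nonzero finite module `M` of projective dimension exactly `e`,
`depth R = e + depth M`.
-/

set_option autoImplicit false
universe u

namespace Groth.Agent.Lib.Helper7.AusBuch

open CategoryTheory Abelian IsLocalRing Groth.Agent.Lib.Helper4

section kills

variable {R : Type u} [CommRing R]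

/-- post-composition with `g` kills `Ext^i(N, -)`. -/
def Kills (N : ModuleCat.{u} R) (i : ℕ) {A B : ModuleCat.{u} R} (g : A ⟶ B) : Prop :=
  ∀ z : Ext N A i, z.comp (Ext.mk₀ g) (add_zero i) = 0

lemma kills_zero (N : ModuleCat.{u} R) (i : ℕ) (A B : ModuleCat.{u} R) :
    Kills N i (0 : A ⟶ B) := by
  intro z; rw [Ext.mk₀_zero, Ext.comp_zero]

lemma kills_add {N : ModuleCat.{u} R} {i : ℕ} {A B : ModuleCat.{u} R} {g₁ g₂ : A ⟶ B}
    (h₁ : Kills N i g₁) (h₂ : Kills N i g₂) : Kills N i (g₁ + g₂) := by
  intro z; rw [Ext.mk₀_add, Ext.comp_add, h₁ z, h₂ z, add_zero]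

lemma kills_sum {N : ModuleCat.{u} R} {i : ℕ} {A B : ModuleCat.{u} R} {ι : Type*}
    (s : Finset ι) (g : ι → (A ⟶ B)) (h : ∀ j ∈ s, Kills N i (g j)) :
    Kills N i (∑ j ∈ s, g j) := by
  classical
  induction s using Finset.induction_on with
  | empty => simpa using kills_zero N i A B
  | insert a s ha ih =>
    rw [Finset.sum_insert ha]
    exact kills_add (h a (Finset.mem_insert_self a s))
      (ih (fun j hj => h j (Finset.mem_insert_of_mem hj)))

lemma kills_comp_of_subsingleton {N : ModuleCat.{u} R} {i : ℕ} {A B C : ModuleCat.{u} R}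
    (g : A ⟶ B) (h : B ⟶ C) (hB : Subsingleton (Ext N B i)) : Kills N i (g ≫ h) := by
  intro z
  have h1 : z.comp (Ext.mk₀ (g ≫ h)) (add_zero i) =
      (z.comp (Ext.mk₀ g) (add_zero i)).comp (Ext.mk₀ h) (add_zero i) := by
    rw [Ext.comp_assoc_of_third_deg_zero, Ext.mk₀_comp_mk₀]
  rw [h1, Subsingleton.elim (z.comp (Ext.mk₀ g) (add_zero i)) 0, Ext.zero_comp]

lemma kills_smul {N : ModuleCat.{u} R} {i : ℕ} {A B : ModuleCat.{u} R} (a : R)
    (ha : a ∈ Module.annihilator R N) (g : A ⟶ B) : Kills N i (a • g) := by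
  intro z
  rw [Ext.mk₀_smul, Ext.comp_smul]
  exact ext_smul_eq_zero_of_mem_annihilator_left ha _

lemma subsingleton_of_kills_id {N : ModuleCat.{u} R} {i : ℕ} {A : ModuleCat.{u} R}
    (h : Kills N i (𝟙 A)) : Subsingleton (Ext N A i) := by
  refine ⟨fun a b => ?_⟩
  have key : ∀ z : Ext N A i, z = 0 := fun z => by
    have := h z
    rwa [Ext.comp_mk₀_id] at this
  rw [key a, key b]

lemma kills_of_mem_smul_top (N : ModuleCat.{u} R) (i : ℕ) (I : Ideal R)
    (hI : I ≤ Module.annihilator R N) {A B : Type u} [AddCommGroup A] [Module R A]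
    [AddCommGroup B] [Module R B] (g : A →ₗ[R] B)
    (hg : g ∈ I • (⊤ : Submodule R (A →ₗ[R] B))) : Kills N i (ModuleCat.ofHom g) := by
  refine Submodule.smul_induction_on hg ?_ ?_
  · intro a ha g' _
    have : ModuleCat.ofHom (a • g') = a • ModuleCat.ofHom g' := rfl
    rw [this]
    exact kills_smul a (hI ha) _
  · intro g₁ g₂ h₁ h₂
    rw [ModuleCat.ofHom_add]
    exact kills_add h₁ h₂

/-- a linear map out of a finite free module with image in `I • ⊤` lies in `I • Hom`. -/
lemma mem_smul_top_hom {K F : Type u} [AddCommGroup K] [Module R K] [AddCommGroup F] [Module R F]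
    [Module.Free R K] [Module.Finite R K] (I : Ideal R) (ι : K →ₗ[R] F)
    (h : ∀ x, ι x ∈ I • (⊤ : Submodule R F)) : ι ∈ I • (⊤ : Submodule R (K →ₗ[R] F)) := by
  classical
  let κ := Module.Free.chooseBasis R K
  have h1 : ι = ∑ l, (LinearMap.toSpanSingleton R F (ι (κ l))).comp (κ.coord l) := by
    apply LinearMap.ext
    intro x
    simp only [LinearMap.sum_apply, LinearMap.comp_apply, LinearMap.toSpanSingleton_apply,
      Module.Basis.coord_apply]
    conv_lhs => rw [← κ.sum_repr x]
    rw [map_sum]
    simp only [map_smul]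
  have sub : ∀ y ∈ I • (⊤ : Submodule R F), ∀ c : K →ₗ[R] R,
      (LinearMap.toSpanSingleton R F y).comp c ∈ I • (⊤ : Submodule R (K →ₗ[R] F)) := by
    intro y hy c
    refine Submodule.smul_induction_on hy ?_ ?_
    · intro a ha y' _
      have : (LinearMap.toSpanSingleton R F (a • y')).comp c =
          a • ((LinearMap.toSpanSingleton R F y').comp c) := by
        apply LinearMap.ext
        intro x
        simp only [LinearMap.comp_apply, LinearMap.toSpanSingleton_apply, LinearMap.smul_apply]
        rw [smul_comm]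
      rw [this]
      exact Submodule.smul_mem_smul ha Submodule.mem_top
    · intro y₁ y₂ h₁ h₂
      have : (LinearMap.toSpanSingleton R F (y₁ + y₂)).comp c =
          (LinearMap.toSpanSingleton R F y₁).comp c +
            (LinearMap.toSpanSingleton R F y₂).comp c := by
        apply LinearMap.ext
        intro x
        simp only [LinearMap.comp_apply, LinearMap.toSpanSingleton_apply, LinearMap.add_apply,
          smul_add]
      rw [this]; exact Submodule.add_mem _ h₁ h₂
  rw [h1]
  exact Submodule.sum_mem _ (fun l _ => sub _ (h _) _)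

/-- `Ext^i(N, X) = 0` for finite free `X` as soon as `Ext^i(N, R) = 0`. -/
lemma subsingleton_ext_free_of_self (N : ModuleCat.{u} R) (i : ℕ)
    (hR : Subsingleton (Ext N (ModuleCat.of R R) i))
    (X : Type u) [AddCommGroup X] [Module R X] [Module.Free R X] [Module.Finite R X] :
    Subsingleton (Ext N (ModuleCat.of R X) i) := by
  classical
  let κ := Module.Free.chooseBasis R X
  apply subsingleton_of_kills_id
  have hid : (𝟙 (ModuleCat.of R X)) = ∑ l, ModuleCat.ofHom (κ.coord l) ≫
      ModuleCat.ofHom (LinearMap.toSpanSingleton R X (κ l)) := by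
    apply ModuleCat.hom_ext
    rw [ModuleCat.hom_id, ModuleCat.hom_sum]
    apply LinearMap.ext
    intro x
    simp only [LinearMap.id_apply, LinearMap.sum_apply, ModuleCat.hom_comp, ModuleCat.hom_ofHom,
      LinearMap.comp_apply, LinearMap.toSpanSingleton_apply, Module.Basis.coord_apply]
    exact (κ.sum_repr x).symm
  rw [hid]
  exact kills_sum _ _ (fun l _ => kills_comp_of_subsingleton _ _ hR)

/-- `Ext^i(N, R) = 0` as soon as `Ext^i(N, X) = 0` for a nontrivial free `X`. -/
lemma subsingleton_ext_self_of_free (N : ModuleCat.{u} R) (i : ℕ)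
    (X : Type u) [AddCommGroup X] [Module R X] [Module.Free R X] [Nontrivial X]
    (hX : Subsingleton (Ext N (ModuleCat.of R X) i)) :
    Subsingleton (Ext N (ModuleCat.of R R) i) := by
  classical
  let κ := Module.Free.chooseBasis R X
  haveI : Nonempty (Module.Free.ChooseBasisIndex R X) := κ.index_nonempty
  let l₀ : Module.Free.ChooseBasisIndex R X := Classical.arbitrary _
  apply subsingleton_of_kills_id
  have hid : (𝟙 (ModuleCat.of R R)) =
      ModuleCat.ofHom (LinearMap.toSpanSingleton R X (κ l₀)) ≫ ModuleCat.ofHom (κ.coord l₀) := by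
    apply ModuleCat.hom_ext
    rw [ModuleCat.hom_id]
    apply LinearMap.ext
    intro x
    simp only [LinearMap.id_apply, ModuleCat.hom_comp, ModuleCat.hom_ofHom,
      LinearMap.comp_apply, LinearMap.toSpanSingleton_apply, map_smul, Module.Basis.coord_apply,
      Module.Basis.repr_self, Finsupp.single_eq_same, smul_eq_mul, mul_one]
  rw [hid]
  exact kills_comp_of_subsingleton _ _ hX

theorem ext_iff_of_kills {S : ShortComplex (ModuleCat.{u} R)} (hS : S.ShortExact)
    (N : ModuleCat.{u} R) (hf : ∀ i, Kills N i S.f) (i : ℕ) :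
    Subsingleton (Ext N S.X₃ i) ↔
      Subsingleton (Ext N S.X₂ i) ∧ Subsingleton (Ext N S.X₁ (i + 1)) := by
  constructor
  · intro h3
    constructor
    · refine ⟨fun a b => ?_⟩
      have key : ∀ x : Ext N S.X₂ i, x = 0 := by
        intro x
        obtain ⟨x₁, rfl⟩ := Ext.covariant_sequence_exact₂ N hS x (Subsingleton.elim _ _)
        exact hf i x₁
      rw [key a, key b]
    · refine ⟨fun a b => ?_⟩
      have key : ∀ x : Ext N S.X₁ (i + 1), x = 0 := by
        intro x
        obtain ⟨x₃, rfl⟩ := Ext.covariant_sequence_exact₁ N hS x (hf (i + 1) x) rfl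
        rw [Subsingleton.elim x₃ 0, Ext.zero_comp]
      rw [key a, key b]
  · rintro ⟨h2, h1⟩
    exact subsingleton_ext_X₃ hS N i h2 h1

theorem ext_zero_of_kills {S : ShortComplex (ModuleCat.{u} R)} (hS : S.ShortExact)
    (N : ModuleCat.{u} R) (hf : Kills N 0 S.f) : Subsingleton (Ext N S.X₁ 0) := by
  haveI := hS.mono_f
  have hinj := Ext.postcomp_mk₀_injective_of_mono N S.f
  refine ⟨fun a b => ?_⟩
  have key : ∀ x : Ext N S.X₁ 0, x = 0 := by
    intro x
    apply hinj
    show x.comp (Ext.mk₀ S.f) (add_zero 0) = (0 : Ext N S.X₁ 0).comp (Ext.mk₀ S.f) (add_zero 0)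
    rw [hf x, Ext.zero_comp]
  rw [key a, key b]

end kills

section presentation

theorem exists_minimal_presentation (R : Type u) [CommRing R] [IsLocalRing R] (M : Type u)
    [AddCommGroup M] [Module R M] [Module.Finite R M] :
    ∃ (b : ℕ) (p : (Fin b → R) →ₗ[R] M), Function.Surjective p ∧
      LinearMap.ker p ≤ maximalIdeal R • (⊤ : Submodule R (Fin b → R)) := by
  classical
  have hex : ∃ n : ℕ, ∃ g : Fin n → M, Submodule.span R (Set.range g) = ⊤ :=
    Module.Finite.exists_fin (R := R) (M := M)
  obtain ⟨b, hb_spec, hb_min⟩ : ∃ b, (∃ g : Fin b → M, Submodule.span R (Set.range g) = ⊤) ∧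
      ∀ n < b, ¬ ∃ g : Fin n → M, Submodule.span R (Set.range g) = ⊤ :=
    ⟨Nat.find hex, Nat.find_spec hex, fun n hn => Nat.find_min hex hn⟩
  obtain ⟨g, hg⟩ := hb_spec
  refine ⟨b, Fintype.linearCombination R g, ?_, ?_⟩
  · rw [← LinearMap.range_eq_top, Fintype.range_linearCombination, hg]
  · intro v hv
    rw [LinearMap.mem_ker, Fintype.linearCombination_apply] at hv
    have hcoord : ∀ j, v j ∈ maximalIdeal R := by
      intro j₀
      by_contra hj
      have hu : IsUnit (v j₀) := by
        rw [mem_maximalIdeal, mem_nonunits_iff, not_not] at hj; exact hj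
      obtain ⟨b', rfl⟩ : ∃ b', b = b' + 1 := ⟨b - 1, by have := j₀.pos; omega⟩
      let g' : Fin b' → M := fun i => g (j₀.succAbove i)
      apply hb_min b' (Nat.lt_succ_self b')
      refine ⟨g', ?_⟩
      rw [eq_top_iff, ← hg, Submodule.span_le]
      rintro _ ⟨j, rfl⟩
      by_cases hjj : j = j₀
      · subst hjj
        have hsum : v j • g j + ∑ i, v (j.succAbove i) • g (j.succAbove i) = 0 := by
          rw [← Fin.sum_univ_succAbove (fun j => v j • g j) j]; exact hv
        have hmem : v j • g j ∈ Submodule.span R (Set.range g') := by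
          have : v j • g j = - ∑ i, v (j.succAbove i) • g (j.succAbove i) :=
            eq_neg_of_add_eq_zero_left hsum
          rw [this]
          exact Submodule.neg_mem _ (Submodule.sum_mem _ (fun i _ =>
            Submodule.smul_mem _ _ (Submodule.subset_span ⟨i, rfl⟩)))
        obtain ⟨u, hu'⟩ := hu
        have : g j = ((u⁻¹ : Rˣ) : R) • (v j • g j) := by
          rw [← hu', smul_smul, Units.inv_mul, one_smul]
        rw [SetLike.mem_coe, this]
        exact Submodule.smul_mem _ _ hmem
      · obtain ⟨i, hi⟩ := Fin.exists_succAbove_eq hjj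
        exact Submodule.subset_span ⟨i, by rw [← hi]⟩
    have hv' : v = ∑ j, v j • (Pi.single j (1 : R) : Fin b → R) := by
      funext j'
      simp [Finset.sum_apply, Pi.single_apply]
    rw [hv']
    exact Submodule.sum_mem _ (fun j _ => Submodule.smul_mem_smul (hcoord j) Submodule.mem_top)

end presentation

section main

variable (R : Type u) [CommRing R] [IsLocalRing R] [IsNoetherianRing R]

/-- the residue field as an object of `ModuleCat.{u} R`. -/
noncomputable abbrev kk : ModuleCat.{u} R :=
  ModuleCat.of R (Shrink.{u} (R ⧸ maximalIdeal R))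

lemma maximalIdeal_le_annihilator_kk : maximalIdeal R ≤ Module.annihilator R (kk R) := by
  show maximalIdeal R ≤ Module.annihilator R (Shrink.{u} (R ⧸ maximalIdeal R))
  rw [(Shrink.linearEquiv R (R ⧸ maximalIdeal R)).annihilator_eq, Ideal.annihilator_quotient]

lemma le_depth_iff (X : Type u) [AddCommGroup X] [Module R X] [Module.Finite R X] (n : ℕ) :
    (n : ℕ∞) ≤ LocCoh.depth R X ↔
      ∀ i < n, Subsingleton (Ext (kk R) (ModuleCat.of R X) i) := by
  haveI : Module.Finite R (ModuleCat.of R X) := ‹Module.Finite R X›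
  exact le_idealDepth_iff_ext_shrink (maximalIdeal R) (ModuleCat.of R X) n

lemma ext_free_iff (X : Type u) [AddCommGroup X] [Module R X] [Module.Free R X]
    [Module.Finite R X] [Nontrivial X] (i : ℕ) :
    Subsingleton (Ext (kk R) (ModuleCat.of R X) i) ↔
      Subsingleton (Ext (kk R) (ModuleCat.of R R) i) :=
  ⟨subsingleton_ext_self_of_free (kk R) i X, fun h => subsingleton_ext_free_of_self (kk R) i h X⟩

lemma depth_free (X : Type u) [AddCommGroup X] [Module R X] [Module.Free R X]
    [Module.Finite R X] [Nontrivial X] : LocCoh.depth R X = LocCoh.depth R R := by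
  apply ENat.eq_of_forall_natCast_le_iff
  intro n
  rw [le_depth_iff, le_depth_iff]
  exact ⟨fun h i hi => (ext_free_iff R X i).1 (h i hi),
    fun h i hi => (ext_free_iff R X i).2 (h i hi)⟩

lemma enat_eq_add_of_iff (a b : ℕ∞) (c : ℕ) (ha : a ≠ ⊤) (hb : b ≠ ⊤)
    (h : ∀ n : ℕ, (n : ℕ∞) ≤ b ↔ ((n + c : ℕ) : ℕ∞) ≤ a) : a = c + b := by
  obtain ⟨r, rfl⟩ := ENat.ne_top_iff_exists.1 ha
  obtain ⟨m, rfl⟩ := ENat.ne_top_iff_exists.1 hb
  have h1 := (h m).1 le_rfl
  have h2 : ¬ (((m + 1 + c : ℕ) : ℕ∞) ≤ (r : ℕ∞)) := by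
    intro hle
    have := (h (m + 1)).2 hle
    have : m + 1 ≤ m := by exact_mod_cast this
    omega
  have h1' : m + c ≤ r := by exact_mod_cast h1
  have h2' : ¬ (m + 1 + c ≤ r) := by
    intro hle
    exact h2 (by exact_mod_cast hle)
  have : r = c + m := by omega
  exact_mod_cast this

lemma depth_ne_top (X : Type u) [AddCommGroup X] [Module R X] [Module.Finite R X]
    [Nontrivial X] : LocCoh.depth R X ≠ ⊤ :=
  idealDepth_ne_top (maximalIdeal R) maximalIdeal_smul_top_ne_top

/-- **Auslander–Buchsbaum formula.** -/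
theorem depth_eq_add : ∀ (e : ℕ) (M : Type u) [AddCommGroup M] [Module R M] [Module.Finite R M]
    [Nontrivial M], HasProjectiveDimensionLT (ModuleCat.of R M) (e + 1) →
    ¬ HasProjectiveDimensionLT (ModuleCat.of R M) e →
    LocCoh.depth R R = (e : ℕ∞) + LocCoh.depth R M := by
  intro e
  induction e with
  | zero =>
    intro M _ _ _ _ h1 _
    haveI : Module.Free R M := SyzFree.free_of_hasProjectiveDimensionLT_one R M h1
    rw [depth_free R M]; simp
  | succ e ih =>
    intro M _ _ _ _ h1 h2
    obtain ⟨b, p, hp, hker⟩ := exists_minimal_presentation R M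
    let K := LinearMap.ker p
    let S : ShortComplex (ModuleCat.{u} R) :=
      ModuleCat.shortComplexOfCompEqZero K.subtype p
        (LinearMap.exact_subtype_ker_map p).linearMap_comp_eq_zero
    have hS : S.ShortExact := ModuleCat.shortComplex_shortExact S
      (LinearMap.exact_subtype_ker_map p) K.injective_subtype hp
    haveI : Projective (ModuleCat.of R (Fin b → R)) :=
      (IsProjective.iff_projective (R := R) (Fin b → R)).1 inferInstance
    have hF : ∀ n, 1 ≤ n → HasProjectiveDimensionLT S.X₂ n := fun n hn =>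
      hasProjectiveDimensionLT_of_ge (ModuleCat.of R (Fin b → R)) 1 n hn
    have hK1 : HasProjectiveDimensionLT (ModuleCat.of R K) (e + 1) :=
      hS.hasProjectiveDimensionLT_X₁ (e + 1) (hF _ (by omega)) h1
    have hK2 : ¬ HasProjectiveDimensionLT (ModuleCat.of R K) e := by
      intro hK
      exact h2 (hS.hasProjectiveDimensionLT_X₃ e hK (hF _ (by omega)))
    haveI : Nontrivial (Fin b → R) := by
      by_contra hne
      rw [not_nontrivial_iff_subsingleton] at hne
      haveI := hne
      exact not_subsingleton M hp.subsingleton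
    haveI : Nontrivial K := by
      by_contra hne
      rw [not_nontrivial_iff_subsingleton] at hne
      apply hK2
      have hz : Limits.IsZero (ModuleCat.of R K) := ModuleCat.isZero_of_subsingleton _
      haveI := hz.hasProjectiveDimensionLT_zero
      exact hasProjectiveDimensionLT_of_ge (ModuleCat.of R K) 0 e (Nat.zero_le e)
    have hdF : LocCoh.depth R (Fin b → R) = LocCoh.depth R R := depth_free R _
    have hRtop : LocCoh.depth R R ≠ ⊤ := depth_ne_top R R
    have hMtop : LocCoh.depth R M ≠ ⊤ := depth_ne_top R M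
    have hKtop : LocCoh.depth R K ≠ ⊤ := depth_ne_top R K
    rcases Nat.eq_zero_or_pos e with rfl | hepos
    · -- `K` is free
      haveI : Module.Free R K := SyzFree.free_of_hasProjectiveDimensionLT_one R K hK1
      have hmem : K.subtype ∈ maximalIdeal R • (⊤ : Submodule R (K →ₗ[R] (Fin b → R))) :=
        mem_smul_top_hom (maximalIdeal R) K.subtype (fun x => hker x.2)
      have hkill : ∀ i, Kills (kk R) i S.f := fun i =>
        kills_of_mem_smul_top (kk R) i (maximalIdeal R) (maximalIdeal_le_annihilator_kk R)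
          K.subtype hmem
      have h0 : Subsingleton (Ext (kk R) (ModuleCat.of R R) 0) :=
        (ext_free_iff R K 0).1 (ext_zero_of_kills hS (kk R) (hkill 0))
      have hiff : ∀ n : ℕ, (n : ℕ∞) ≤ LocCoh.depth R M ↔
          ((n + 1 : ℕ) : ℕ∞) ≤ LocCoh.depth R R := by
        intro n
        rw [le_depth_iff, le_depth_iff]
        constructor
        · intro h i hi
          rcases Nat.eq_zero_or_pos i with rfl | hi0
          · exact h0
          · obtain ⟨j, rfl⟩ : ∃ j, i = j + 1 := ⟨i - 1, by omega⟩
            exact (ext_free_iff R K (j + 1)).1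
              ((ext_iff_of_kills hS (kk R) hkill j).1 (h j (by omega))).2
        · intro h i hi
          exact (ext_iff_of_kills hS (kk R) hkill i).2
            ⟨(ext_free_iff R (Fin b → R) i).2 (h i (by omega)),
              (ext_free_iff R K (i + 1)).2 (h (i + 1) (by omega))⟩
      exact enat_eq_add_of_iff _ _ 1 hRtop hMtop hiff
    · have hIH := ih K hK1 hK2
      have hdl := idealDepth_shortExact (maximalIdeal R) K.subtype p K.injective_subtype hp
        (LinearMap.exact_subtype_ker_map p)
      obtain ⟨-, hdl2, hdl3⟩ := hdl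
      change min (LocCoh.depth R (Fin b → R)) (LocCoh.depth R K - 1) ≤ LocCoh.depth R M at hdl2
      change min (LocCoh.depth R (Fin b → R)) (LocCoh.depth R M + 1) ≤ LocCoh.depth R K at hdl3
      rw [hdF] at hdl2 hdl3
      obtain ⟨r, hr⟩ := ENat.ne_top_iff_exists.1 hRtop
      obtain ⟨m, hm⟩ := ENat.ne_top_iff_exists.1 hMtop
      obtain ⟨κ, hκ⟩ := ENat.ne_top_iff_exists.1 hKtop
      rw [← hr, ← hκ] at hIH
      rw [← hr, ← hκ, ← hm] at hdl2 hdl3
      rw [← hr, ← hm]
      have e1 : r = e + κ := by exact_mod_cast hIH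
      have e2 : min r (κ - 1) ≤ m := by
        rcases min_le_iff.1 hdl2 with h | h
        · exact min_le_iff.2 (Or.inl (by exact_mod_cast h))
        · exact min_le_iff.2 (Or.inr (by exact_mod_cast h))
      have e3 : min r (m + 1) ≤ κ := by
        rcases min_le_iff.1 hdl3 with h | h
        · exact min_le_iff.2 (Or.inl (by exact_mod_cast h))
        · exact min_le_iff.2 (Or.inr (by exact_mod_cast h))
      have : r = (e + 1) + m := by omega
      exact_mod_cast this

end main

end Groth.Agent.Lib.Helper7.AusBuch
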