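import Mathlib
import Groth.Prelude
import Groth.Agent.Lib.Helper7.TwFun
import Groth.Agent.Lib.Helper7.CohFinite
import Groth.Agent.Lib.Helper7.CechCard
import Groth.Agent.Lib.Helper3.TwistMul
import Groth.Agent.Lib.Helper3.InvCoh
import Groth.Agent.Lib.Helper3.HomMk
import Groth.Agent.Lib.Helper3.QCProps
import Groth.Agent.Lib.Helper3.QCLim

/-!
# Twisting on `Proj`: exactness, shifts, multiplication by degree-one elements, and the
Castelnuovo–Mumford induction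

Throughout `HU 𝒜` is the hypothesis that every `O(d)` is locally generated by a unit fraction
(true on projective space).

* `pairIso`, `twAdd`, `shortExact_tw`, `isQCoh_tw`, `sub_shift`.
* `mulBy f c : O(c) ⟶ O(c+1)` for `f ∈ 𝒜 1`, bijective on sections over opens inside `D₊(f)`.
* `sig`, `eps`, `epi_eps`: the epimorphism `(G(c))^{N+1} ⟶ G(c+1)` given by `f_0, …, f_N`.
* `claim`: the key induction for Mumford's theorem.
* `regular_succ`.
-/
set_option autoImplicit false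
universe u
open CategoryTheory CategoryTheory.Limits AlgebraicGeometry TopologicalSpace Opposite
open Scheme.Modules

noncomputable section

namespace Groth.Agent.Lib.Helper7.TwProj

open Groth.Agent.Lib.Helper3 Groth.Agent.Lib.Helper3.QCSec Groth.Agent.Lib.Helper3.InvGen
  Groth.Agent.Lib.Helper3.InvTensor Groth.Agent.Lib.Helper3.InvMonoidal
  Groth.Agent.Lib.Helper3.TensorDesc Groth.Agent.Lib.Helper3.TwistBasic
  Groth.Agent.Lib.Helper3.TwistMul Groth.Agent.Lib.Helper7.TwFun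
  Groth.Agent.Lib.Helper7.CohFinite

variable {R A : Type u} [CommRing R] [CommRing A] [Algebra R A] (𝒜 : ℕ → Submodule R A)
  [GradedAlgebra 𝒜]

/-- every twisting sheaf is locally generated by a unit fraction. -/
def HU : Prop := ∀ (d : ℤ) (x : Proj 𝒜), ∃ U : (Proj 𝒜).Opens, x ∈ U ∧ HasUnitFrac d U

variable {𝒜}

/-- `O(c) ⊗ O(-c) ≅ O`. -/
def pairIso (hU : HU 𝒜) (c : ℤ) :
    CohB1.tensorMod (Twist.twist 𝒜 c) (Twist.twist 𝒜 (-c)) ≅ Coh.structureModule (Proj 𝒜) :=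
  mulIsoRight c (-c) (hU (-c)) ≪≫ twistCast (add_neg_cancel c) ≪≫ (unitIso (𝒜 := 𝒜)).symm

/-- `(G ⊗ O(a)) ⊗ O(b) ≅ G ⊗ O(a+b)`. -/
def twAdd (hU : HU 𝒜) (G : (Proj 𝒜).Modules) (a b : ℤ) :
    CohB1.tensorMod (CohB1.tensorMod G (Twist.twist 𝒜 a)) (Twist.twist 𝒜 b) ≅
      CohB1.tensorMod G (Twist.twist 𝒜 (a + b)) :=
  assoc G _ _ ≪≫ tensorMapIso (Iso.refl G) (mulIsoRight a b (hU b))

/-- twisting preserves short exact sequences. -/
theorem shortExact_tw (hU : HU 𝒜) (c : ℤ) (S : ShortComplex (Proj 𝒜).Modules)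
    (hS : S.ShortExact) : (S.map (twR (Twist.twist 𝒜 c))).ShortExact :=
  shortExact_twR _ _ (pairIso hU c) S hS

lemma isInvertible_twist (hU : HU 𝒜) (c : ℤ) : PicF.IsInvertible (Twist.twist 𝒜 c) :=
  isInvertible_twist_of_cover c (hU c)

lemma isQCoh_tw (hU : HU 𝒜) (G : (Proj 𝒜).Modules) [G.IsQuasicoherent] (c : ℤ) :
    (CohB1.tensorMod G (Twist.twist 𝒜 c)).IsQuasicoherent :=
  InvCoh.isQuasicoherent_tensorMod G _ (isInvertible_twist hU c)

lemma isQCoh_tw' (hU : HU 𝒜) (G : (Proj 𝒜).Modules) (hG : G.IsQuasicoherent) (c : ℤ) :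
    (CohB1.tensorMod G (Twist.twist 𝒜 c)).IsQuasicoherent :=
  haveI := hG
  isQCoh_tw hU G c

lemma sub_shift (hU : HU 𝒜) (G : (Proj 𝒜).Modules) (a b e : ℤ) (h : a + b = e) (j : ℕ) :
    Subsingleton (Coh.HH (Proj 𝒜)
      (CohB1.tensorMod (CohB1.tensorMod G (Twist.twist 𝒜 a)) (Twist.twist 𝒜 b)) j) ↔
    Subsingleton (Coh.HH (Proj 𝒜) (CohB1.tensorMod G (Twist.twist 𝒜 e)) j) := by
  subst h
  exact ⟨subsingleton_HH_of_iso (twAdd hU G a b).symm j, subsingleton_HH_of_iso (twAdd hU G a b) j⟩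

lemma isQCoh_powSum (L : (Proj 𝒜).Modules) [L.IsQuasicoherent] :
    ∀ k, (powSum L k).IsQuasicoherent
  | 0 => inferInstanceAs L.IsQuasicoherent
  | k + 1 => by
      haveI := isQCoh_powSum L k
      exact QCLim.isQuasicoherent_biprod _ _

lemma sub_tw_powSum (hU : HU 𝒜) (L : (Proj 𝒜).Modules) (b : ℤ) (j : ℕ)
    (h : Subsingleton (Coh.HH (Proj 𝒜) (CohB1.tensorMod L (Twist.twist 𝒜 b)) j)) :
    ∀ k, Subsingleton (Coh.HH (Proj 𝒜) (CohB1.tensorMod (powSum L k) (Twist.twist 𝒜 b)) j)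
  | 0 => h
  | k + 1 => by
      have ih := sub_tw_powSum hU L b j h k
      have hS : (ShortComplex.mk (biprod.inl : powSum L k ⟶ powSum L k ⊞ L) biprod.snd
          (by simp)).ShortExact :=
        (ShortComplex.Splitting.ofHasBinaryBiproduct (powSum L k) L).shortExact
      exact sub_mid _ (shortExact_tw hU b _ hS) j ih h

/-! ### multiplication by a degree-one element -/

lemma one_notMem (U : (Proj 𝒜).Opens) (x : U) :
    ((⟨1, SetLike.GradedOne.one_mem⟩ : 𝒜 0) : A) ∉ x.1.asHomogeneousIdeal :=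
  fun h => x.1.isPrime.ne_top ((Ideal.eq_top_iff_one _).mpr h)

/-- the section `f / 1` of `O(1)`. -/
def fsec (f : 𝒜 1) (U : (Proj 𝒜).Opens) : Γ(Twist.twist 𝒜 1, U) :=
  frac U f (⟨1, SetLike.GradedOne.one_mem⟩ : 𝒜 0) (one_notMem U) 1 (by simp)

lemma res_fsec (f : 𝒜 1) {U V : (Proj 𝒜).Opens} (h : V ≤ U) :
    res (Twist.twist 𝒜 1) h (fsec f U) = fsec f V :=
  res_frac h _ _ _ _ _

/-- multiplication by `f ∈ 𝒜 1` as a morphism `O(c) ⟶ O(c+1)`. -/
def mulBy (f : 𝒜 1) (c : ℤ) : Twist.twist 𝒜 c ⟶ Twist.twist 𝒜 (c + 1) :=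
  HomMk.homMk (fun U e => mulSec e (fsec f U))
    (fun U s s' => (mulPairing c 1).add_left U s s' (fsec f U))
    (fun U a s => (mulPairing c 1).smul_left U a s (fsec f U))
    (fun {U V} h s => by
      have h1 := (mulPairing (𝒜 := 𝒜) c 1).map_res h s (fsec f U)
      rw [res_fsec] at h1
      exact h1)

lemma mulBy_app (f : 𝒜 1) (c : ℤ) (U : (Proj 𝒜).Opens) (e : Γ(Twist.twist 𝒜 c, U)) :
    (mulBy f c).app U e = mulSec e (fsec f U) := rfl

lemma mulBy_bijective (f : 𝒜 1) (c : ℤ) (U : (Proj 𝒜).Opens)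
    (hU : U ≤ Proj.basicOpen 𝒜 (f : A)) :
    Function.Bijective (fun e : Γ(Twist.twist 𝒜 c, U) => (mulBy f c).app U e) :=
  mulSec_frac_bijective c U f (⟨1, SetLike.GradedOne.one_mem⟩ : 𝒜 0)
    (fun x => (Proj.mem_basicOpen 𝒜 (f : A) x.1).mp (hU x.2)) (one_notMem U) (by simp)

/-- `G(c) ⟶ G(c+1)`, multiplication by `f`. -/
def sig (f : 𝒜 1) (c : ℤ) (G : (Proj 𝒜).Modules) :
    CohB1.tensorMod G (Twist.twist 𝒜 c) ⟶ CohB1.tensorMod G (Twist.twist 𝒜 (c + 1)) :=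
  tensorMap (𝟙 G) (mulBy f c)

lemma sig_tm (f : 𝒜 1) (c : ℤ) (G : (Proj 𝒜).Modules) (U : (Proj 𝒜).Opens) (g : Γ(G, U))
    (e : Γ(Twist.twist 𝒜 c, U)) :
    (sig f c G).app U (tm G _ U g e) = tm G _ U g ((mulBy f c).app U e) :=
  tensorMap_tm (𝟙 G) (mulBy f c) U g e

/-- `(G(c))^{N+1} ⟶ G(c+1)` given by `f_0, …, f_N`. -/
def eps (fs : ℕ → 𝒜 1) (N : ℕ) (c : ℤ) (G : (Proj 𝒜).Modules) :
    powSum (CohB1.tensorMod G (Twist.twist 𝒜 c)) N ⟶ CohB1.tensorMod G (Twist.twist 𝒜 (c + 1)) :=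
  powDesc (fun j => sig (fs j) c G) N

lemma epi_eps (fs : ℕ → 𝒜 1) (N : ℕ)
    (hcov : ∀ x : Proj 𝒜, ∃ j, j ≤ N ∧ x ∈ Proj.basicOpen 𝒜 ((fs j : 𝒜 1) : A))
    (c : ℤ) (G : (Proj 𝒜).Modules) : Epi (eps fs N c G) := by
  apply Preadditive.epi_of_cancel_zero
  intro Z t ht
  have h := powDesc_comp_eq_zero (fun j => sig (fs j) c G) t N ht
  apply tensor_hom_ext
  intro U g s
  have key : ∀ x : {x : Proj 𝒜 // x ∈ U}, ∃ (V : (Proj 𝒜).Opens) (hVU : V ≤ U), x.1 ∈ V ∧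
      res Z hVU (t.app U (tm G _ U g s)) =
        res Z hVU ((0 : CohB1.tensorMod G (Twist.twist 𝒜 (c + 1)) ⟶ Z).app U (tm G _ U g s)) := by
    intro x
    obtain ⟨j, hj, hxj⟩ := hcov x.1
    refine ⟨U ⊓ Proj.basicOpen 𝒜 ((fs j : 𝒜 1) : A), inf_le_left, ⟨x.2, hxj⟩, ?_⟩
    rw [← QCExact.app_res', ← QCExact.app_res', tm_res]
    obtain ⟨s', hs'⟩ := (mulBy_bijective (fs j) c (U ⊓ Proj.basicOpen 𝒜 ((fs j : 𝒜 1) : A))
      inf_le_right).2 (res _ inf_le_left s)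
    dsimp only at hs'
    rw [← hs', ← sig_tm]
    have h0 := h j hj
    have h1 := congrArg (fun φ => φ.app (U ⊓ Proj.basicOpen 𝒜 ((fs j : 𝒜 1) : A))
      (tm G _ _ (res G inf_le_left g) s')) h0
    exact h1
  choose W hWU hxW hW using key
  exact sec_eq_of_locally_eq Z W U hWU
    (fun x hx => Opens.mem_iSup.mpr ⟨⟨x, hx⟩, hxW ⟨x, hx⟩⟩) _ _ hW

/-! ### the Castelnuovo–Mumford induction -/

/-- Key induction: if `H^{i+k}(G(c-1-k)) = 0` for all `k ≥ 0` then `H^i(G(c)) = 0`. Here `D₊(f_j)`,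
`j ≤ N`, cover `Proj 𝒜` and quasi-coherent cohomology vanishes above degree `N`. -/
theorem claim (hU : HU 𝒜) (fs : ℕ → 𝒜 1) (N : ℕ)
    (hcov : ∀ x : Proj 𝒜, ∃ j, j ≤ N ∧ x ∈ Proj.basicOpen 𝒜 ((fs j : 𝒜 1) : A))
    (hvan : ∀ (M : (Proj 𝒜).Modules) [M.IsQuasicoherent] (i : ℕ), N < i →
      Subsingleton (Coh.HH (Proj 𝒜) M i)) :
    ∀ (d i : ℕ), i + d = N + 1 → ∀ (G : (Proj 𝒜).Modules) [G.IsQuasicoherent] (c : ℤ),
      (∀ (k : ℕ) (c' : ℤ) (j : ℕ), c' = c - 1 - k → j = i + k →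
        Subsingleton (Coh.HH (Proj 𝒜) (CohB1.tensorMod G (Twist.twist 𝒜 c')) j)) →
      Subsingleton (Coh.HH (Proj 𝒜) (CohB1.tensorMod G (Twist.twist 𝒜 c)) i) := by
  intro d
  induction d with
  | zero =>
    intro i hi G _ c _
    haveI := isQCoh_tw hU G c
    exact hvan _ i (by omega)
  | succ d ih =>
    intro i hi G _ c hyp
    haveI hq1 := isQCoh_tw hU G (-1)
    haveI hq2 := isQCoh_tw hU G (-1 + 1)
    haveI hq3 := isQCoh_powSum (CohB1.tensorMod G (Twist.twist 𝒜 (-1))) N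
    haveI : Epi (eps fs N (-1) G) := epi_eps fs N hcov (-1) G
    haveI hE : (kernel (eps fs N (-1) G)).IsQuasicoherent :=
      QCProps.isQuasicoherent_kernel (eps fs N (-1) G)
    have hS := Groth.Agent.Lib.Helper7.CechCard.shortExact_kernel (eps fs N (-1) G)
    have hT := fun b : ℤ => shortExact_tw hU b _ hS
    have hmid : ∀ (b b' : ℤ) (j : ℕ), -1 + b = b' →
        Subsingleton (Coh.HH (Proj 𝒜) (CohB1.tensorMod G (Twist.twist 𝒜 b')) j) →
        Subsingleton (Coh.HH (Proj 𝒜) (CohB1.tensorMod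
          (powSum (CohB1.tensorMod G (Twist.twist 𝒜 (-1))) N) (Twist.twist 𝒜 b)) j) :=
      fun b b' j hb h => sub_tw_powSum hU _ b j ((sub_shift hU G (-1) b b' hb j).mpr h) N
    have hright : ∀ (b : ℤ) (j : ℕ),
        Subsingleton (Coh.HH (Proj 𝒜) (CohB1.tensorMod G (Twist.twist 𝒜 b)) j) ↔
        Subsingleton (Coh.HH (Proj 𝒜) (CohB1.tensorMod
          (CohB1.tensorMod G (Twist.twist 𝒜 (-1 + 1))) (Twist.twist 𝒜 b)) j) :=
      fun b j => (sub_shift hU G (-1 + 1) b b (by ring) j).symm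
    have hypE : ∀ (k : ℕ) (c' : ℤ) (j : ℕ), c' = c - 1 - k → j = i + 1 + k →
        Subsingleton (Coh.HH (Proj 𝒜)
          (CohB1.tensorMod (kernel (eps fs N (-1) G)) (Twist.twist 𝒜 c')) j) := by
      intro k c' j hc' hj
      obtain rfl : j = (i + k) + 1 := by omega
      have h3 := (hright c' (i + k)).mp (hyp k c' (i + k) hc' rfl)
      have h2 := hmid c' (-1 + c') (i + k + 1) rfl
        (hyp (k + 1) (-1 + c') (i + k + 1) (by subst hc'; push_cast; ring) (by omega))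
      exact sub_left _ (hT c') (i + k) h3 h2
    have h1 := ih (i + 1) (by omega) (kernel (eps fs N (-1) G)) c hypE
    have h2 := hmid c (-1 + c) i rfl (hyp 0 (-1 + c) i (by push_cast; ring) (by omega))
    exact (hright c i).mpr (sub_right _ (hT c) i h2 h1)

/-- Mumford: an `m`-regular quasi-coherent module is `(m+1)`-regular. -/
theorem regular_succ (hU : HU 𝒜) (fs : ℕ → 𝒜 1) (N : ℕ)
    (hcov : ∀ x : Proj 𝒜, ∃ j, j ≤ N ∧ x ∈ Proj.basicOpen 𝒜 ((fs j : 𝒜 1) : A))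
    (hvan : ∀ (M : (Proj 𝒜).Modules) [M.IsQuasicoherent] (i : ℕ), N < i →
      Subsingleton (Coh.HH (Proj 𝒜) M i))
    (G : (Proj 𝒜).Modules) (hG : G.IsQuasicoherent) (m : ℤ)
    (h : ∀ (i : ℕ) (c' : ℤ), 1 ≤ i → c' = m - i →
      Subsingleton (Coh.HH (Proj 𝒜) (CohB1.tensorMod G (Twist.twist 𝒜 c')) i))
    (i : ℕ) (c : ℤ) (hi : 1 ≤ i) (hc : c = m + 1 - i) :
    Subsingleton (Coh.HH (Proj 𝒜) (CohB1.tensorMod G (Twist.twist 𝒜 c)) i) := by
  haveI := hG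
  by_cases hiN : N < i
  · haveI := isQCoh_tw hU G c
    exact hvan _ i hiN
  · refine claim hU fs N hcov hvan (N + 1 - i) i (by omega) G c ?_
    intro k c' j hc' hj
    exact h j c' (by omega) (by subst hc hc' hj; push_cast; ring)

end Groth.Agent.Lib.Helper7.TwProj
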