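import Mathlib
import Groth.Prelude
import Groth.Agent.Lib.Helper7.TwProj
import Groth.Agent.Lib.Helper7.PnFinite
import Groth.Agent.Lib.Helper7.PnH0
import Groth.Agent.S0022

/-!
# Castelnuovo–Mumford regularity on `P^n_R`: twisting is exact, `m`-regular ⇒ `(m+1)`-regular

All statements are in `CohB1.ProjSpace` / `Twist.twistProjSpace` form.
-/
set_option autoImplicit false
universe u
open CategoryTheory CategoryTheory.Limits AlgebraicGeometry TopologicalSpace Opposite
open Scheme.Modules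

noncomputable section

namespace Groth.Agent.Lib.Helper7.Mumford

open Groth.Agent.Lib.Helper3 Groth.Agent.Lib.Helper7.TwFun Groth.Agent.Lib.Helper7.TwProj

variable (n : ℕ) (R : Type u) [CommRing R]

lemma hU : HU (CohB1.polyGrading n R) := fun d x => PnFinite.hunit n R d x

/-- the coordinates, indexed by `ℕ`. -/
def fs (j : ℕ) : (CohB1.polyGrading n R) 1 :=
  if h : j < n + 1 then ⟨MvPolynomial.X ⟨j, h⟩, MvPolynomial.isHomogeneous_X R _⟩ else 0

lemma hcov (x : Proj (CohB1.polyGrading n R)) :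
    ∃ j, j ≤ n ∧ x ∈ Proj.basicOpen (CohB1.polyGrading n R)
      ((fs n R j : (CohB1.polyGrading n R) 1) : MvPolynomial (Fin (n + 1)) R) := by
  have h1 : x ∈ ⨆ j : Fin (n + 1), PnSections.V n R j := by
    rw [PnSections.iSup_V]; trivial
  obtain ⟨j, hj⟩ := Opens.mem_iSup.mp h1
  refine ⟨j.1, Nat.lt_succ_iff.mp j.2, ?_⟩
  have e : fs n R j.1 = ⟨MvPolynomial.X j, MvPolynomial.isHomogeneous_X R _⟩ := by
    unfold fs
    rw [dif_pos j.2]
  rw [e]
  exact hj

lemma hvan (M : (Proj (CohB1.polyGrading n R)).Modules) [hM : M.IsQuasicoherent] (i : ℕ)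
    (hi : n < i) : Subsingleton (Coh.HH (Proj (CohB1.polyGrading n R)) M i) :=
  @Groth.Agent.S0022.result n R _ M hM i hi

/-- twisting preserves short exact sequences on `P^n_R`. -/
theorem shortExact_tw (c : ℤ) (S : ShortComplex (CohB1.ProjSpace n R).Modules)
    (hS : S.ShortExact) : (S.map (twR (Twist.twistProjSpace n R c))).ShortExact :=
  TwProj.shortExact_tw (hU n R) c S hS

theorem isQCoh_tw (G : (CohB1.ProjSpace n R).Modules) (hG : Coh.IsQCoh G) (c : ℤ) :
    Coh.IsQCoh (CohB1.tensorMod G (Twist.twistProjSpace n R c)) :=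
  TwProj.isQCoh_tw' (hU n R) G hG c

theorem sub_shift (G : (CohB1.ProjSpace n R).Modules) (a b e : ℤ) (h : a + b = e) (j : ℕ) :
    Subsingleton (Coh.HH (CohB1.ProjSpace n R) (CohB1.tensorMod
      (CohB1.tensorMod G (Twist.twistProjSpace n R a)) (Twist.twistProjSpace n R b)) j) ↔
    Subsingleton (Coh.HH (CohB1.ProjSpace n R)
      (CohB1.tensorMod G (Twist.twistProjSpace n R e)) j) :=
  TwProj.sub_shift (hU n R) G a b e h j

/-- Mumford: `m`-regular ⇒ `(m+1)`-regular, for quasi-coherent modules on `P^n_R`. -/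
theorem regular_succ (G : (CohB1.ProjSpace n R).Modules) (hG : Coh.IsQCoh G) (m : ℤ)
    (h : ∀ i : ℕ, 1 ≤ i → Subsingleton (Coh.HH (CohB1.ProjSpace n R)
      (CohB1.tensorMod G (Twist.twistProjSpace n R (m - i))) i))
    (i : ℕ) (hi : 1 ≤ i) :
    Subsingleton (Coh.HH (CohB1.ProjSpace n R)
      (CohB1.tensorMod G (Twist.twistProjSpace n R (m + 1 - i))) i) :=
  TwProj.regular_succ (hU n R) (fs n R) n (hcov n R) (hvan n R) G hG m
    (fun i _ hi hc' => hc' ▸ h i hi) i _ hi rfl

/-- an `m`-regular quasi-coherent module on `P^n_R` has `H^i(G(r)) = 0` for `i ≥ 1`,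
`r ≥ m - i`. -/
theorem regular_ge (G : (CohB1.ProjSpace n R).Modules) (hG : Coh.IsQCoh G) (m : ℤ)
    (h : ∀ i : ℕ, 1 ≤ i → Subsingleton (Coh.HH (CohB1.ProjSpace n R)
      (CohB1.tensorMod G (Twist.twistProjSpace n R (m - i))) i))
    (i : ℕ) (r : ℤ) (hi : 1 ≤ i) (hr : m - i ≤ r) :
    Subsingleton (Coh.HH (CohB1.ProjSpace n R)
      (CohB1.tensorMod G (Twist.twistProjSpace n R r)) i) := by
  have key : ∀ (t : ℕ) (i : ℕ), 1 ≤ i → Subsingleton (Coh.HH (CohB1.ProjSpace n R)
      (CohB1.tensorMod G (Twist.twistProjSpace n R (m + t - i))) i) := by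
    intro t
    induction t with
    | zero =>
      intro i hi
      have := h i hi
      simpa using this
    | succ t ih =>
      intro i hi
      have := regular_succ n R G hG (m + t) ih i hi
      have e : m + (t : ℤ) + 1 - (i : ℤ) = m + ((t + 1 : ℕ) : ℤ) - (i : ℤ) := by push_cast; ring
      rw [e] at this
      exact this
  obtain ⟨t, ht⟩ : ∃ t : ℕ, r = m + t - i := ⟨(r - (m - i)).toNat, by omega⟩
  rw [ht]
  exact key t i hi

end Groth.Agent.Lib.Helper7.Mumford
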