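import Mathlib
import Groth.Prelude
import Groth.Agent.Lib.Helper13.SerreCrit2
import Groth.Agent.Lib.Helper3.InvAmple
import Groth.Agent.Lib.Helper23.Twist

/-!
# Ampleness from vanishing of `H^1` of twisted ideals

* `exists_section`: for an invertible `N` trivialised over `U ∋ x` (`x` a closed point) and a closed
  subscheme `Y` with underlying set `(X ∖ U) ∪ {x}`, if `H^1(X, I_Y ⊗ N) = 0` then there is a
  global section `s` of `N` with `x ∈ X_s ⊆ U`.
* `isAmple_of_H1`: Serre-type criterion for ampleness.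
-/
set_option autoImplicit false
set_option linter.style.haveILetI false
universe u
open CategoryTheory CategoryTheory.Limits Opposite TopologicalSpace AlgebraicGeometry
open Groth.Agent.Lib.Helper13 Groth.Agent.Lib.Helper3
open Groth.Agent.Lib.Helper3.QCSec Groth.Agent.Lib.Helper3.InvGen Groth.Agent.Lib.Helper3.InvTensor
  Groth.Agent.Lib.Helper3.InvMonoidal Groth.Agent.Lib.Helper3.InvAmple Groth.Agent.Lib.Helper3.InvCoh
open Groth.Agent.Lib.Helper7.TwFun Groth.Agent.Lib.Helper23.Twist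

noncomputable section

namespace Groth.Agent.Lib.Helper7.AmpleH1

variable {X : Scheme.{u}}

/-- local coordinates of a global section of `O ⊗ N`. -/
lemma local_coord {N : X.Modules} (t : Γ(CohB1.tensorMod (Coh.structureModule X) N, ⊤))
    {V : X.Opens} {ℓ : Γ(N, V)} (hg : IsGen N V ℓ) :
    ∃ f : Γ(X, V), res _ le_top t = tm (Coh.structureModule X) N V (ofFun V f) ℓ ∧
      sec (globalHom N ((unitorL N).hom.app ⊤ t)) V = f • ℓ := by
  obtain ⟨f', hf'⟩ := tm_gen_surjective_self (Coh.structureModule X) N hg (res _ le_top t)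
  have hf'' : tm (Coh.structureModule X) N V (ofFun V (toFun V f')) ℓ = res _ le_top t := hf'
  refine ⟨toFun V f', hf''.symm, ?_⟩
  rw [sec_globalHom, ← QCExact.app_res', ← hf'']
  exact unitorL_hom_tm N V ℓ _

/-- the short exact sequence `0 → I_Y → O_X → i_* O_Y → 0`. -/
def idealSeq {Y : Scheme.{u}} (i : Y ⟶ X) : ShortComplex X.Modules :=
  ShortComplex.mk (kernel.ι (SerreCrit2.toPush i)) (SerreCrit2.toPush i) (kernel.condition _)

lemma shortExact_idealSeq {Y : Scheme.{u}} (i : Y ⟶ X) [IsClosedImmersion i] :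
    (idealSeq i).ShortExact := by
  haveI : Epi (SerreCrit2.toPush i) := SerreCrit2.epi_toPush i
  exact
    { exact := ShortComplex.exact_kernel _
      mono_f := inferInstanceAs (Mono (kernel.ι (SerreCrit2.toPush i)))
      epi_g := inferInstanceAs (Epi (SerreCrit2.toPush i)) }

lemma shortExact_tw {N : X.Modules} (hN : PicF.IsInvertible N) (S : ShortComplex X.Modules)
    (hS : S.ShortExact) : (S.map (twR N)).ShortExact := by
  haveI := hS.mono_f
  haveI := hS.epi_g
  haveI : Mono (S.map (twR N)).f := mono_tw hN S.f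
  haveI : Epi (S.map (twR N)).g := epi_tw hN S.g
  exact ShortComplex.ShortExact.mk (exact_tw hN S hS.exact)

/-- sections of `i_* O_Y` over an open not meeting `Y` vanish. -/
lemma push_sec_eq_zero {Y : Scheme.{u}} (i : Y ⟶ X) (V : X.Opens) (hV : i ⁻¹ᵁ V = ⊥)
    (p : Γ((Scheme.Modules.pushforward i).obj (Coh.structureModule Y), V)) : p = 0 := by
  have h0 : Subsingleton Γ(Y, i ⁻¹ᵁ V) := by
    rw [hV]
    infer_instance
  exact @Subsingleton.elim Γ(Y, i ⁻¹ᵁ V) h0 p 0

theorem exists_section {N : X.Modules} (hN : PicF.IsInvertible N) {U : X.Opens} {ℓ : Γ(N, U)}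
    (hg : IsGen N U ℓ) (x : X) (hx : IsClosed ({x} : Set X)) (hxU : x ∈ U)
    {Y : Scheme.{u}} (i : Y ⟶ X) [IsClosedImmersion i]
    (hrange : Set.range i = (U : Set X)ᶜ ∪ {x})
    (hH1 : Subsingleton (Coh.HH X (CohB1.tensorMod (kernel (SerreCrit2.toPush i)) N) 1)) :
    ∃ s : Coh.structureModule X ⟶ N, x ∈ CohB1.genLocus N s ∧ CohB1.genLocus N s ≤ U := by
  let P : X.Modules := (Scheme.Modules.pushforward i).obj (Coh.structureModule Y)
  let M : X.Modules := CohB1.tensorMod P N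
  let U₂ : X.Opens := ⟨{x}ᶜ, hx.isOpen_compl⟩
  have hiy : ∀ y : Y, i y ∈ (U : Set X)ᶜ ∪ {x} := fun y => hrange ▸ Set.mem_range_self y
  have hbot : ∀ V : X.Opens, V ≤ U → V ≤ U₂ → i ⁻¹ᵁ V = ⊥ := by
    intro V h1 h2
    refine le_bot_iff.1 fun y hy => ?_
    rcases hiy y with h | h
    · exact h (h1 hy)
    · exact h2 hy h
  -- the exact sequence
  have hS' := shortExact_tw hN _ (shortExact_idealSeq i)
  have hsurj : Function.Surjective (((idealSeq i).map (twR N)).g.app ⊤) :=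
    SerreCrit1.surjective_app_top_of_H1 _ hS' hH1
  -- the glued section
  let Uf : ULift.{u} Bool → X.Opens := fun b => bif b.down then U else U₂
  let sf : ∀ b, Γ(M, Uf b) := fun b =>
    match b with
    | ⟨true⟩ => tm P N U ((SerreCrit2.toPush i).app U (ofFun U 1)) ℓ
    | ⟨false⟩ => (0 : Γ(M, U₂))
  have hcov : (⊤ : X.Opens) ≤ ⨆ b, Uf b := by
    intro y _
    by_cases hy : y = x
    · exact Opens.mem_iSup.2 ⟨⟨true⟩, hy ▸ hxU⟩
    · exact Opens.mem_iSup.2 ⟨⟨false⟩, hy⟩
  have hzero : ∀ (V : X.Opens) (h1 : V ≤ U) (_ : V ≤ U₂),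
      res M h1 (tm P N U ((SerreCrit2.toPush i).app U (ofFun U 1)) ℓ) = 0 := by
    intro V h1 h2
    rw [tm_res, push_sec_eq_zero i V (hbot V h1 h2) (res P h1 _)]
    exact tm_zero_left _ _ _ _
  have hcompat : ∀ b b', res M (inf_le_left : Uf b ⊓ Uf b' ≤ Uf b) (sf b) =
      res M (inf_le_right : Uf b ⊓ Uf b' ≤ Uf b') (sf b') := by
    rintro ⟨b⟩ ⟨b'⟩
    cases b <;> cases b'
    · rfl
    · exact (map_zero _).trans (hzero _ _ inf_le_left).symm
    · exact (hzero _ _ inf_le_right).trans (map_zero _).symm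
    · rfl
  obtain ⟨σ, hσ⟩ := sec_glue M Uf ⊤ (fun _ => le_top) hcov sf hcompat
  have hσ1 : res M (le_top : U ≤ ⊤) σ = tm P N U ((SerreCrit2.toPush i).app U (ofFun U 1)) ℓ :=
    hσ ⟨true⟩
  have hσ2 : res M (le_top : U₂ ≤ ⊤) σ = 0 := hσ ⟨false⟩
  obtain ⟨t, ht'⟩ : ∃ t : Γ(CohB1.tensorMod (Coh.structureModule X) N, ⊤),
      ((twR N).map (SerreCrit2.toPush i)).app ⊤ t = σ := hsurj σ
  have hres : ∀ (V : X.Opens) (f : Γ(X, V)) (ℓ' : Γ(N, V)),
      res (CohB1.tensorMod (Coh.structureModule X) N) le_top t =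
        tm (Coh.structureModule X) N V (ofFun V f) ℓ' →
      tm P N V ((SerreCrit2.toPush i).app V (ofFun V f)) ℓ' = res M le_top σ := by
    intro V f ℓ' hf
    have e1 : ((twR N).map (SerreCrit2.toPush i)).app V
        (res (CohB1.tensorMod (Coh.structureModule X) N) le_top t) =
        res M le_top (((twR N).map (SerreCrit2.toPush i)).app ⊤ t) :=
      QCExact.app_res' ((twR N).map (SerreCrit2.toPush i)) (le_top : V ≤ ⊤) t
    rw [ht', hf, tw_app_tm] at e1
    exact e1
  refine ⟨globalHom N ((unitorL N).hom.app ⊤ t), ?_, ?_⟩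
  · -- x ∈ X_s
    obtain ⟨f, hf1, hf2⟩ := local_coord t hg
    have h1 : tm P N U ((SerreCrit2.toPush i).app U (ofFun U f)) ℓ =
        tm P N U ((SerreCrit2.toPush i).app U (ofFun U 1)) ℓ := by
      rw [hres U f ℓ hf1, hσ1]
    have h2 : (SerreCrit2.toPush i).app U (ofFun U f) = (SerreCrit2.toPush i).app U (ofFun U 1) :=
      tm_gen_injective_self P N hg h1
    have h3 : i.app U f = 1 := h2.trans (map_one (i.app U).hom)
    have h4 : i ⁻¹ᵁ X.basicOpen f = i ⁻¹ᵁ U := by
      rw [Scheme.preimage_basicOpen, h3, Scheme.basicOpen_one]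
    have hxr : x ∈ Set.range i := hrange ▸ Or.inr rfl
    obtain ⟨y, hy⟩ := hxr
    have h5 : y ∈ i ⁻¹ᵁ X.basicOpen f := h4 ▸ (show i y ∈ U from hy ▸ hxU)
    have h6 : x ∈ X.basicOpen f := hy ▸ h5
    rw [← genLocus_inf_eq_basicOpen _ hg f hf2] at h6
    exact h6.1
  · -- X_s ≤ U
    intro z hz
    by_contra hzU
    have hzr : z ∈ Set.range i := hrange ▸ Or.inl hzU
    obtain ⟨y, rfl⟩ := hzr
    have hzx : i y ≠ x := fun h => hzU (h ▸ hxU)
    obtain ⟨V₀, ℓ₀, hzV₀, hg₀⟩ := exists_isGen hN (i y)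
    let V : X.Opens := V₀ ⊓ U₂
    have hgV : IsGen N V (res N inf_le_left ℓ₀) := hg₀.mono inf_le_left
    obtain ⟨f, hf1, hf2⟩ := local_coord t hgV
    have h1 : tm P N V ((SerreCrit2.toPush i).app V (ofFun V f)) (res N inf_le_left ℓ₀) =
        tm P N V 0 (res N inf_le_left ℓ₀) := by
      rw [tm_zero_left, hres V f _ hf1, ← res_res M (inf_le_right : V ≤ U₂) le_top, hσ2]
      exact map_zero _
    have h2 : (SerreCrit2.toPush i).app V (ofFun V f) = 0 :=
      tm_gen_injective_self P N hgV h1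
    have h3 : i.app V f = 0 := h2
    have h4 : i ⁻¹ᵁ X.basicOpen f = ⊥ := by
      rw [Scheme.preimage_basicOpen, h3, Scheme.basicOpen_zero]
    have h5 : i y ∈ X.basicOpen f := by
      rw [← genLocus_inf_eq_basicOpen _ hgV f hf2]
      exact ⟨hz, hzV₀, hzx⟩
    have h6 : y ∈ (⊥ : Y.Opens) := h4 ▸ h5
    exact h6

theorem isAmple_of_H1 [CompactSpace X] {L : X.Modules} (hL : PicF.IsInvertible L)
    (h : ∀ (I : X.Modules) (i : I ⟶ Coh.structureModule X), Mono i → Coh.IsQCoh I →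
      ∃ n : ℕ, Subsingleton (Coh.HH X (CohB1.tensorMod I (CohB1.tensorPow L (n + 1))) 1)) :
    CohB1.IsAmple L := by
  apply isAmple_of_secLocus hL
  intro x₀
  have hC : IsClosed (closure ({x₀} : Set X)) := isClosed_closure
  have hne : (closure ({x₀} : Set X)).Nonempty := ⟨x₀, subset_closure rfl⟩
  obtain ⟨x, hxC, hxcl⟩ := hC.exists_closed_singleton hne
  obtain ⟨U, e, hU, hxU, hg⟩ := exists_affine_isGen hL x
  let Z' : Closeds X := ⟨(U : Set X)ᶜ ∪ {x}, U.isOpen.isClosed_compl.union hxcl⟩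
  let 𝓘 := Scheme.IdealSheafData.vanishingIdeal Z'
  let Y : Scheme.{u} := 𝓘.subscheme
  let i : Y ⟶ X := 𝓘.subschemeι
  have hrange : Set.range i = (U : Set X)ᶜ ∪ {x} := by
    rw [Scheme.IdealSheafData.range_subschemeι]
    exact Scheme.IdealSheafData.coe_support_vanishingIdeal Z'
  haveI hq : ((Scheme.Modules.pushforward i).obj (Coh.structureModule Y)).IsQuasicoherent :=
    QCSec.isQuasicoherent_pushforward i _
  have hK : (kernel (SerreCrit2.toPush i) : X.Modules).IsQuasicoherent :=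
    QCProps.isQuasicoherent_kernel _
  obtain ⟨n, hn⟩ := h (kernel (SerreCrit2.toPush i)) (kernel.ι _) inferInstance hK
  obtain ⟨s, hxs, hsU⟩ := exists_section (isInvertible_tensorPow hL (n + 1))
    (isGen_lpow hg (n + 1)) x hxcl hxU i hrange hn
  refine ⟨_, ⟨n, s, rfl⟩, ?_, ?_⟩
  · exact (specializes_iff_mem_closure.mpr hxC).mem_open (CohB1.genLocus _ s).isOpen hxs
  · have h1 := isAffineOpen_genLocus_inf_of_isGen s hU (isGen_lpow hg (n + 1))
    rwa [inf_eq_left.mpr hsU] at h1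

end Groth.Agent.Lib.Helper7.AmpleH1
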