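import Groth.Agent.Lib.Helper13.ClosedEmbPush
import Groth.Prelude

/-!
# Cohomology along a closed immersion, linearly (helper7)

For a closed immersion `h : X ⟶ S` and an `O_X`-module `M`, the comparison
`H^p(X, M) ≃ H^p(S, h_* M)` is natural in the abelian sheaf, hence linear over the global functions
of `S` and over any base ring.
-/

set_option autoImplicit false
universe u
open CategoryTheory CategoryTheory.Limits AlgebraicGeometry TopologicalSpace Opposite
open CategoryTheory.Abelian

noncomputable section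

namespace Groth.Agent.Lib.Helper7.PushLinear

open Groth.Agent.Lib.Helper13.ExtAdj Groth.Agent.Lib.Helper13.ClosedEmbPush
  Groth.Agent.Lib.Helper13.SiteCohLocal

section Top

variable {X Y : TopCat.{u}} {f : X ⟶ Y} (hf : Topology.IsClosedEmbedding f)

/-- naturality of `HEquivPush` in the sheaf. -/
lemma HEquivPush_naturality {F F' : CohTop.Ab X} (φ : F ⟶ F') (p : ℕ) (x : CohTop.H F p) :
    HEquivPush hf F' p (Sheaf.H.map φ p x) =
      Sheaf.H.map ((CohTop.push f).map φ) p (HEquivPush hf F p x) := by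
  haveI := push_preservesFiniteColimits hf
  change extAdjMap (adj f) _ F' p ((Ext.mk₀ (pullConstIso f).hom).comp
      (x.comp (Ext.mk₀ φ) (add_zero p)) (zero_add p)) =
    (extAdjMap (adj f) _ F p ((Ext.mk₀ (pullConstIso f).hom).comp x (zero_add p))).comp
      (Ext.mk₀ ((CohTop.push f).map φ)) (add_zero p)
  rw [← Ext.mapExactFunctor_mk₀, ← extAdjMap_comp]
  congr 1
  exact (Ext.comp_assoc _ _ _ (zero_add p) (add_zero p) (by omega)).symm

end Top

section Sch

variable {X S : Scheme.{u}} (h : X ⟶ S) (M : X.Modules)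

lemma smulAb_push (a : Coh.Γtop S) :
    Coh.smulAb ((Scheme.Modules.pushforward h).obj M) a =
      (CohTop.push h.base).map (Coh.smulAb M (h.appTop.hom a)) := by
  ext U m
  have e1 : h.app U.unop (Coh.resTop S U a) =
      Coh.resTop X (op (h ⁻¹ᵁ U.unop)) (h.appTop.hom a) :=
    congr($(h.naturality (homOfLE (le_top : U.unop ≤ ⊤)).op) a)
  have e2 : (Coh.smulAb M (h.appTop.hom a)).hom.app (op (h ⁻¹ᵁ U.unop)) m =
      @HSMul.hSMul (X.ringCatSheaf.obj.obj (op (h ⁻¹ᵁ U.unop)))
        (M.val.obj (op (h ⁻¹ᵁ U.unop))) (M.val.obj (op (h ⁻¹ᵁ U.unop))) _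
        (h.app U.unop (Coh.resTop S U a)) m := by
    rw [e1]
    rfl
  exact e2.symm

variable [IsClosedImmersion h]

/-- `H^p(X, M) ≃ H^p(S, h_* M)` for a closed immersion `h`. -/
def pushEquiv (p : ℕ) :
    Coh.HH X M p ≃+ Coh.HH S ((Scheme.Modules.pushforward h).obj M) p :=
  HEquivPush h.isClosedEmbedding (Coh.toAb M) p

lemma pushEquiv_smulAb (p : ℕ) (a : Coh.Γtop S) (x : Coh.HH X M p) :
    pushEquiv h M p (Sheaf.H.map (Coh.smulAb M (h.appTop.hom a)) p x) =
      Sheaf.H.map (Coh.smulAb ((Scheme.Modules.pushforward h).obj M) a) p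
        (pushEquiv h M p x) := by
  rw [smulAb_push]
  exact HEquivPush_naturality h.isClosedEmbedding (Coh.smulAb M (h.appTop.hom a)) p x

variable (A : Type u) [CommRing A] [X.Over (Spec (CommRingCat.of A))]
  [S.Over (Spec (CommRingCat.of A))]

lemma toGlobal_comp (hXS : X ↘ Spec (CommRingCat.of A) = h ≫ (S ↘ Spec (CommRingCat.of A)))
    (c : A) :
    Coh.toGlobal (X ↘ Spec (CommRingCat.of A)) c =
      h.appTop.hom (Coh.toGlobal (S ↘ Spec (CommRingCat.of A)) c) := by
  unfold Coh.toGlobal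
  rw [hXS, Scheme.Hom.comp_appTop]
  rfl

/-- the `A`-linear comparison `H^p(X, M) ≃ H^p(S, h_* M)`. -/
def pushLinearEquiv (hXS : X ↘ Spec (CommRingCat.of A) = h ≫ (S ↘ Spec (CommRingCat.of A)))
    (p : ℕ) :
    Coh.HH X M p ≃ₗ[A] Coh.HH S ((Scheme.Modules.pushforward h).obj M) p :=
  { pushEquiv h M p with
    map_smul' := fun c x => by
      change pushEquiv h M p (Sheaf.H.map
          (Coh.smulAb M (Coh.toGlobal (X ↘ Spec (CommRingCat.of A)) c)) p x) =
        Sheaf.H.map (Coh.smulAb ((Scheme.Modules.pushforward h).obj M)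
          (Coh.toGlobal (S ↘ Spec (CommRingCat.of A)) c)) p (pushEquiv h M p x)
      rw [toGlobal_comp h A hXS c]
      exact pushEquiv_smulAb h M p _ x }

theorem finrank_push (hXS : X ↘ Spec (CommRingCat.of A) = h ≫ (S ↘ Spec (CommRingCat.of A)))
    (p : ℕ) :
    Module.finrank A (Coh.HH X M p) =
      Module.finrank A (Coh.HH S ((Scheme.Modules.pushforward h).obj M) p) :=
  (pushLinearEquiv h M A hXS p).finrank_eq

end Sch

end Groth.Agent.Lib.Helper7.PushLinear
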