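import Mathlib
import Groth.Prelude
import Groth.Agent.Lib.Helper7.Mumford

/-!
# Serre vanishing on `P^n_R`, `R` Noetherian

`serre_vanishing`: for a coherent module `M` on `P^n_R` there is `d₀` with `H^i(M(d)) = 0` for all
`i ≥ 1` and `d ≥ d₀`.
-/
set_option autoImplicit false
universe u
open CategoryTheory CategoryTheory.Limits AlgebraicGeometry TopologicalSpace Opposite
open Scheme.Modules

noncomputable section

namespace Groth.Agent.Lib.Helper7.SerreVan

open Groth.Agent.Lib.Helper3 Groth.Agent.Lib.Helper7.TwFun Groth.Agent.Lib.Helper7.TwProj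
  Groth.Agent.Lib.Helper7.CohFinite Groth.Agent.Lib.Helper3.TwistMul

variable (n : ℕ) (R : Type u) [CommRing R]

/-- `H^q(O(a) ⊗ O(d)) = 0` for `q ≥ 1` and `a + d ≥ 0`. -/
lemma sub_twist_twist (a d : ℤ) (q : ℕ) (hq : 1 ≤ q) (had : 0 ≤ a + d) :
    Subsingleton (Coh.HH (CohB1.ProjSpace n R)
      (CohB1.tensorMod (Twist.twistProjSpace n R a) (Twist.twistProjSpace n R d)) q) := by
  have e : CohB1.tensorMod (Twist.twist (CohB1.polyGrading n R) a)
      (Twist.twist (CohB1.polyGrading n R) d) ≅ Twist.twist (CohB1.polyGrading n R) (a + d) :=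
    mulIsoRight a d (Mumford.hU n R d)
  refine subsingleton_HH_of_iso e q ?_
  exact Groth.Agent.S0844.result R n (a + d) q (fun h => by omega) (fun h => by omega)

variable [IsNoetherianRing R]

theorem serre_vanishing_aux :
    ∀ (j i : ℕ), i + j = n + 1 → 1 ≤ i → ∀ (M : (CohB1.ProjSpace n R).Modules), Coh.IsCoh M →
      ∃ d₀ : ℤ, ∀ d : ℤ, d₀ ≤ d → ∀ i' : ℕ, i ≤ i' →
        Subsingleton (Coh.HH (CohB1.ProjSpace n R)
          (CohB1.tensorMod M (Twist.twistProjSpace n R d)) i') := by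
  intro j
  induction j with
  | zero =>
    intro i hi _ M hM
    refine ⟨0, fun d _ i' hi' => ?_⟩
    haveI : Coh.IsQCoh (CohB1.tensorMod M (Twist.twistProjSpace n R d)) :=
      Mumford.isQCoh_tw n R M hM.1 d
    exact Groth.Agent.S0022.result n R _ i' (by omega)
  | succ j ih =>
    intro i hi hi1 M hM
    haveI : IsNoetherian (CohB1.ProjSpace n R) :=
      Groth.Agent.S2357.result (CohB1.polyGrading n R)
    obtain ⟨n₀, k, p, hp⟩ := PnFinite.exists_epi n R M hM
    let L : (CohB1.ProjSpace n R).Modules := Twist.twistProjSpace n R (-(n₀ : ℤ))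
    have hL : Coh.IsCoh L := PnFinite.isCoh_twist n R (-(n₀ : ℤ))
    let pj : ℕ → (L ⟶ M) := fun j =>
      if h : j < k then Sigma.ι (fun _ : Fin k => L) ⟨j, h⟩ ≫ p else 0
    haveI : Epi (powDesc pj k) := epi_powDesc (L := L) p
    have hE : Coh.IsCoh (powSum L k) := isCoh_powSum L hL k
    haveI : (powSum L k).IsQuasicoherent := hE.1
    haveI : M.IsQuasicoherent := hM.1
    have hKq : Coh.IsQCoh (kernel (powDesc pj k)) := QCProps.isQuasicoherent_kernel (powDesc pj k)
    have hK : Coh.IsCoh (kernel (powDesc pj k)) :=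
      Groth.Agent.S0046.result _ (powSum L k) (kernel (powDesc pj k)) (kernel.ι _) hE hKq
    have hS := Groth.Agent.Lib.Helper7.CechCard.shortExact_kernel (powDesc pj k)
    obtain ⟨d₁, hd₁⟩ := ih (i + 1) (by omega) (by omega) _ hK
    refine ⟨max d₁ n₀, fun d hd i' hi' => ?_⟩
    have hT := Mumford.shortExact_tw n R d _ hS
    have h2 : Subsingleton (Coh.HH (CohB1.ProjSpace n R)
        (CohB1.tensorMod (powSum L k) (Twist.twistProjSpace n R d)) i') :=
      TwProj.sub_tw_powSum (Mumford.hU n R) L d i'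
        (sub_twist_twist n R (-(n₀ : ℤ)) d i' (by omega) (by
          have := le_max_right d₁ (n₀ : ℤ)
          omega)) k
    have h1 := hd₁ d ((le_max_left _ _).trans hd) (i' + 1) (by omega)
    exact sub_right _ hT i' h2 h1

/-- Serre vanishing on `P^n_R`. -/
theorem serre_vanishing (M : (CohB1.ProjSpace n R).Modules) (hM : Coh.IsCoh M) :
    ∃ d₀ : ℤ, ∀ d : ℤ, d₀ ≤ d → ∀ i : ℕ, 1 ≤ i →
      Subsingleton (Coh.HH (CohB1.ProjSpace n R)
        (CohB1.tensorMod M (Twist.twistProjSpace n R d)) i) :=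
  serre_vanishing_aux n R n 1 (by omega) le_rfl M hM

end Groth.Agent.Lib.Helper7.SerreVan
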