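import Groth.Agent.Lib.Helper2.Mon.ProjClosed
import Groth.Agent.Lib.Helper7.PushLinear
import Groth.Agent.Lib.Helper7.SerreVan
import Groth.Agent.S0019
import Groth.Agent.S2357

/-!
# Transfer between a closed subscheme `i : X ⟶ P^n_R` and `P^n_R`, over a ring (helper7)

* `subR_iff`: vanishing of the cohomology of `F ⊗ i^*O(d)` on `X` and of `i_*F ⊗ O(d)` on `P^n_R`.
* `serre_vanishing_closed`: Serre vanishing on a closed subscheme of `P^n_R`, `R` Noetherian.
-/

set_option autoImplicit false
universe u
open CategoryTheory CategoryTheory.Limits AlgebraicGeometry TopologicalSpace Opposite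
open Scheme.Modules

noncomputable section

namespace Groth.Agent.Lib.Helper7.ClTransferR

variable {n : ℕ} (R : Type u) [CommRing R] {X : Scheme.{u}} (i : X ⟶ CohB1.ProjSpace n R)
  [IsClosedImmersion i]

/-- projection formula: `i_*F ⊗ O(d) ≅ i_*(F ⊗ i^*O(d))`. -/
def pushTwR (F : X.Modules) (d : ℤ) :
    CohB1.tensorMod ((Scheme.Modules.pushforward i).obj F) (Twist.twistProjSpace n R d) ≅
      (Scheme.Modules.pushforward i).obj
        (CohB1.tensorMod F ((Scheme.Modules.pullback i).obj (Twist.twistProjSpace n R d))) :=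
  Groth.Agent.Lib.Helper2.Mon.projIso i F (Twist.twistProjSpace n R d)

lemma isCoh_pushR [IsNoetherianRing R] (F : X.Modules) (hF : Coh.IsCoh F) :
    Coh.IsCoh ((Scheme.Modules.pushforward i).obj F) := by
  haveI : IsNoetherian (CohB1.ProjSpace n R) :=
    Groth.Agent.S2357.result (CohB1.polyGrading n R)
  exact Groth.Agent.S0019.result i F hF

lemma subR_iff (F : X.Modules) (d : ℤ) (q : ℕ) :
    Subsingleton (Coh.HH X
        (CohB1.tensorMod F ((Scheme.Modules.pullback i).obj (Twist.twistProjSpace n R d))) q) ↔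
      Subsingleton (Coh.HH (CohB1.ProjSpace n R)
        (CohB1.tensorMod ((Scheme.Modules.pushforward i).obj F)
          (Twist.twistProjSpace n R d)) q) := by
  have e := PushLinear.pushEquiv i
    (CohB1.tensorMod F ((Scheme.Modules.pullback i).obj (Twist.twistProjSpace n R d))) q
  constructor
  · intro h
    have h2 : Subsingleton (Coh.HH (CohB1.ProjSpace n R)
        ((Scheme.Modules.pushforward i).obj
          (CohB1.tensorMod F ((Scheme.Modules.pullback i).obj (Twist.twistProjSpace n R d)))) q) :=
      e.symm.toEquiv.subsingleton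
    exact TwFun.subsingleton_HH_of_iso (pushTwR R i F d) q h2
  · intro h
    have h2 : Subsingleton (Coh.HH (CohB1.ProjSpace n R)
        ((Scheme.Modules.pushforward i).obj
          (CohB1.tensorMod F ((Scheme.Modules.pullback i).obj (Twist.twistProjSpace n R d)))) q) :=
      TwFun.subsingleton_HH_of_iso (pushTwR R i F d).symm q h
    exact e.toEquiv.subsingleton

/-- Serre vanishing on a closed subscheme of `P^n_R`. -/
theorem serre_vanishing_closed [IsNoetherianRing R] (F : X.Modules) (hF : Coh.IsCoh F) :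
    ∃ d₀ : ℤ, ∀ d : ℤ, d₀ ≤ d → ∀ q : ℕ, 1 ≤ q →
      Subsingleton (Coh.HH X
        (CohB1.tensorMod F ((Scheme.Modules.pullback i).obj (Twist.twistProjSpace n R d))) q) := by
  obtain ⟨d₀, hd₀⟩ := SerreVan.serre_vanishing n R _ (isCoh_pushR R i F hF)
  exact ⟨d₀, fun d hd q hq => (subR_iff R i F d q).mpr (hd₀ d hd q hq)⟩

end Groth.Agent.Lib.Helper7.ClTransferR
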