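import Groth.Agent.Lib.Helper7.GmapTwist
import Groth.Agent.Lib.Helper7.AmpleH1
import Groth.Agent.Lib.Helper7.ClTransferR
import Groth.Agent.Lib.Helper3.VAMain
import Groth.Agent.Lib.Helper3.QProj
import Groth.Agent.Lib.Helper3.TwistMul
import Groth.Agent.Lib.Helper3.PbTensor
import Groth.Agent.Lib.Helper3.InvCoh

/-!
# Serre vanishing for an ample invertible module on a scheme proper over a Noetherian ring
-/

set_option autoImplicit false
set_option linter.unusedSectionVars false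
set_option linter.style.haveILetI false
universe u
open CategoryTheory CategoryTheory.Limits AlgebraicGeometry TopologicalSpace Opposite
open Scheme.Modules

noncomputable section

namespace Groth.Agent.Lib.Helper7.AmpleSerre

open Groth.Agent.Lib.Helper3
open QCSec InvGen InvTensor InvMonoidal TwistBasic TwistMul PbTensor PbBasic PEmb2

variable (R : Type u) [CommRing R] {X : Scheme.{u}} (f : X ⟶ Spec (CommRingCat.of R))

/-- a proper `R`-scheme with an ample invertible module `L` embeds in a projective space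
so that a positive power of `L` is the pullback of `O(1)`. -/
theorem exists_closedImmersion_iso [IsProper f] {L : X.Modules} (hA : CohB1.IsAmple L) :
    ∃ (m N : ℕ) (ι : X ⟶ CohB1.ProjSpace N R), 0 < m ∧ IsClosedImmersion ι ∧
      ι ≫ CohB1.ProjSpace.toSpec N R = f ∧
      Nonempty (CohB1.tensorPow L m ≅
        (Scheme.Modules.pullback ι).obj (Twist.twistProjSpace N R 1)) := by
  obtain ⟨n₀, h⟩ := VAMain.eventually_isRelVeryAmplePn_pow f hA
  obtain ⟨N, i, hi, hcomp, ⟨τ⟩⟩ := h (n₀ + 1) (Nat.le_succ n₀)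
  have hP := IsPullback.of_hasPullback (CohB1.ProjSpace.toSpec N (ULift.{u} ℤ))
    (specULiftZIsTerminal.from (Spec (CommRingCat.of R)))
  haveI hiso := PIso.isIso_lift N (R := R) _ _ hP
  let c : CohB1.ProjSpace N R ⟶ CohB1.ProjSpaceOver N (Spec (CommRingCat.of R)) :=
    hP.lift (gmap N R) (CohB1.ProjSpace.toSpec N R) (specULiftZIsTerminal.hom_ext _ _)
  haveI : IsIso c := hiso
  let S : Scheme.{u} := Spec (CommRingCat.of R)
  let pfst : CohB1.ProjSpaceOver N S ⟶ CohB1.ProjSpace N (ULift.{u} ℤ) :=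
    pullback.fst (CohB1.ProjSpace.toSpec N (ULift.{u} ℤ)) (specULiftZIsTerminal.from S)
  let psnd : CohB1.ProjSpaceOver N S ⟶ S :=
    pullback.snd (CohB1.ProjSpace.toSpec N (ULift.{u} ℤ)) (specULiftZIsTerminal.from S)
  let g' : CohB1.ProjSpace N R ⟶ CohB1.ProjSpace N (ULift.{u} ℤ) := gmap N R
  let tS : CohB1.ProjSpace N R ⟶ S := CohB1.ProjSpace.toSpec N R
  have hc1 : c ≫ pfst = g' := hP.lift_fst _ _ _
  have hc2 : c ≫ psnd = tS := hP.lift_snd _ _ _
  have hcomp' : i ≫ psnd = f := hcomp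
  have h1 : inv c ≫ g' = pfst := (IsIso.inv_comp_eq c).2 hc1.symm
  have h2 : inv c ≫ tS = psnd := (IsIso.inv_comp_eq c).2 hc2.symm
  have hι : (i ≫ inv c) ≫ tS = f :=
    ((Category.assoc i (inv c) tS).trans (congrArg (fun t => i ≫ t) h2)).trans hcomp'
  haveI : IsProper psnd := by
    have h0 : IsProper (CohB1.ProjSpace.toSpec N (ULift.{u} ℤ)) :=
      QProj.isProper_toSpec (ULift.{u} ℤ) N
    exact IsProper.isStableUnderBaseChange.of_isPullback hP h0
  haveI : IsProper (i ≫ psnd) := by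
    rw [hcomp']; infer_instance
  haveI : IsProper i := IsProper.of_comp i psnd
  haveI : IsImmersion i := hi
  haveI : IsClosedImmersion i :=
    IsClosedImmersion.of_isPreimmersion i i.isClosedMap.isClosed_range
  refine ⟨n₀ + 1, N, i ≫ inv c, Nat.succ_pos _, inferInstance, hι, ?_⟩
  have hfst : i ≫ pfst = (i ≫ inv c) ≫ g' :=
    ((Category.assoc i (inv c) g').trans (congrArg (fun t => i ≫ t) h1)).symm
  obtain ⟨e0⟩ := GmapTwist.nonempty_iso N R
  let T := Twist.twistProjSpace N (ULift.{u} ℤ) 1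
  let e1 : (Scheme.Modules.pullback i).obj (Twist.twistOver N S 1) ≅
      (Scheme.Modules.pullback (i ≫ pfst)).obj T :=
    (Scheme.Modules.pullbackComp i pfst).app T
  let e2 : (Scheme.Modules.pullback (i ≫ pfst)).obj T ≅
      (Scheme.Modules.pullback ((i ≫ inv c) ≫ g')).obj T :=
    (Scheme.Modules.pullbackCongr hfst).app T
  let e3 : (Scheme.Modules.pullback ((i ≫ inv c) ≫ g')).obj T ≅
      (Scheme.Modules.pullback (i ≫ inv c)).obj ((Scheme.Modules.pullback g').obj T) :=
    ((Scheme.Modules.pullbackComp (i ≫ inv c) g').app T).symm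
  exact ⟨τ ≪≫ e1 ≪≫ e2 ≪≫ e3 ≪≫ (Scheme.Modules.pullback (i ≫ inv c)).mapIso e0⟩

/-- `ι^* O(d) ≅ L^{m d}` when `L^m ≅ ι^* O(1)`. -/
theorem nonempty_pow_iso {L : X.Modules} {m N : ℕ} (ι : X ⟶ CohB1.ProjSpace N R)
    (e : CohB1.tensorPow L m ≅ (Scheme.Modules.pullback ι).obj (Twist.twistProjSpace N R 1))
    (d : ℕ) :
    Nonempty (CohB1.tensorPow L (m * d) ≅
      (Scheme.Modules.pullback ι).obj (Twist.twistProjSpace N R (d : ℤ))) := by
  have hUF : ∀ x : Proj (CohB1.polyGrading N R), ∃ U : (Proj (CohB1.polyGrading N R)).Opens,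
      x ∈ U ∧ HasUnitFrac (1 : ℤ) U := VACore.hasUnitFrac_projSpace R N
  have hT1 : PicF.IsInvertible (Twist.twist (CohB1.polyGrading N R) 1) :=
    isInvertible_twist_of_cover 1 hUF
  let T1 : (CohB1.ProjSpace N R).Modules := Twist.twist (CohB1.polyGrading N R) 1
  let e' : CohB1.tensorPow L m ≅ (Scheme.Modules.pullback ι).obj T1 := e
  let a1 : CohB1.tensorPow (CohB1.tensorPow L m) d ≅ CohB1.tensorPow L (m * d) := powMul L m d
  let a2 : CohB1.tensorPow (CohB1.tensorPow L m) d ≅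
      CohB1.tensorPow ((Scheme.Modules.pullback ι).obj T1) d := tensorPowIso e' d
  let a3 : (Scheme.Modules.pullback ι).obj (CohB1.tensorPow T1 d) ≅
      CohB1.tensorPow ((Scheme.Modules.pullback ι).obj T1) d := pbPowIso ι T1 hT1 d
  let a4 : (Twist.twist (CohB1.polyGrading N R) (d : ℤ) : (CohB1.ProjSpace N R).Modules) ≅
      CohB1.tensorPow T1 d := powIso hUF d
  exact ⟨a1.symm ≪≫ a2 ≪≫ a3.symm ≪≫ (Scheme.Modules.pullback ι).mapIso a4.symm⟩

/-- **Serre vanishing** for an ample invertible module on a scheme proper over a Noetherian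
ring. -/
theorem serre_vanishing_of_isAmple [IsNoetherianRing R] [IsProper f] {L : X.Modules}
    (hA : CohB1.IsAmple L) (M : X.Modules) (hM : Coh.IsCoh M) :
    ∃ n₀ : ℕ, ∀ n : ℕ, n₀ ≤ n → ∀ p : ℕ, 0 < p →
      Subsingleton (Coh.HH X (CohB1.tensorMod M (CohB1.tensorPow L n)) p) := by
  obtain ⟨m, N, ι, hm, hι, -, ⟨e⟩⟩ := exists_closedImmersion_iso R f hA
  haveI := hι
  have hL := hA.1
  haveI : M.IsQuasicoherent := hM.1
  haveI : M.IsFiniteType := hM.2
  have hF : ∀ r : ℕ, Coh.IsCoh (CohB1.tensorMod M (CohB1.tensorPow L r)) := fun r =>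
    ⟨InvCoh.isQuasicoherent_tensorMod M _ (isInvertible_tensorPow hL r),
      InvCoh.isFiniteType_tensorMod M _ (isInvertible_tensorPow hL r)⟩
  choose d₀ hd₀ using fun r : ℕ =>
    ClTransferR.serre_vanishing_closed R ι (CohB1.tensorMod M (CohB1.tensorPow L r)) (hF r)
  let D : ℕ := (Finset.range m).sup (fun r => (d₀ r).toNat)
  refine ⟨m * D, fun n hn p hp => ?_⟩
  have hr : n % m < m := Nat.mod_lt n hm
  have hD : D ≤ n / m := (Nat.le_div_iff_mul_le hm).2 (by rw [mul_comm]; exact hn)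
  have hd : d₀ (n % m) ≤ ((n / m : ℕ) : ℤ) := by
    have h1 : (d₀ (n % m)).toNat ≤ D :=
      Finset.le_sup (f := fun r => (d₀ r).toNat) (Finset.mem_range.2 hr)
    have h2 : d₀ (n % m) ≤ ((d₀ (n % m)).toNat : ℤ) := Int.self_le_toNat _
    have h3 : ((d₀ (n % m)).toNat : ℤ) ≤ ((n / m : ℕ) : ℤ) := by exact_mod_cast h1.trans hD
    exact h2.trans h3
  have hvan := hd₀ (n % m) ((n / m : ℕ) : ℤ) hd p hp
  obtain ⟨ed⟩ := nonempty_pow_iso R ι e (n / m)
  have hn' : n = n % m + m * (n / m) := (Nat.mod_add_div n m).symm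
  let K := (Scheme.Modules.pullback ι).obj (Twist.twistProjSpace N R ((n / m : ℕ) : ℤ))
  let b1 : CohB1.tensorPow L n ≅ CohB1.tensorMod (CohB1.tensorPow L (n % m)) K :=
    powCast L hn' ≪≫ (powAdd L (n % m) (m * (n / m))).symm ≪≫ tensorMapIso (Iso.refl _) ed
  let b2 : CohB1.tensorMod M (CohB1.tensorPow L n) ≅
      CohB1.tensorMod (CohB1.tensorMod M (CohB1.tensorPow L (n % m))) K :=
    tensorMapIso (Iso.refl M) b1 ≪≫ (assoc M (CohB1.tensorPow L (n % m)) K).symm
  exact TwFun.subsingleton_HH_of_iso b2 p hvan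

/-- **Serre's cohomological criterion of ampleness** on a scheme proper over a Noetherian ring. -/
theorem isAmple_iff_serre_vanishing [IsNoetherianRing R] [IsProper f] {L : X.Modules}
    (hL : PicF.IsInvertible L) :
    CohB1.IsAmple L ↔ ∀ (M : X.Modules), Coh.IsCoh M → ∃ n₀ : ℕ, ∀ n : ℕ, n₀ ≤ n →
      ∀ p : ℕ, 0 < p → Subsingleton (Coh.HH X (CohB1.tensorMod M (CohB1.tensorPow L n)) p) := by
  constructor
  · intro hA M hM
    exact serre_vanishing_of_isAmple R f hA M hM
  · intro hv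
    haveI : CompactSpace X := QuasiCompact.compactSpace_of_compactSpace f
    haveI : IsLocallyNoetherian X := LocallyOfFiniteType.isLocallyNoetherian f
    apply AmpleH1.isAmple_of_H1 hL
    intro I i hi hI
    haveI := hi
    haveI : I.IsQuasicoherent := hI
    haveI : (Coh.structureModule X).IsQuasicoherent :=
      InvCoh.isQuasicoherent_of_isInvertible (isInvertible_structureModule X)
    haveI : (Coh.structureModule X).IsFiniteType :=
      InvCoh.isFiniteType_of_isInvertible (isInvertible_structureModule X)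
    have hIc : Coh.IsCoh I := ⟨hI, QCProps.isFiniteType_of_mono i⟩
    obtain ⟨n₀, hn₀⟩ := hv I hIc
    exact ⟨n₀, hn₀ (n₀ + 1) (Nat.le_succ _) 1 Nat.one_pos⟩

end Groth.Agent.Lib.Helper7.AmpleSerre
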