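import Mathlib
import Groth.Prelude
import Groth.Agent.Lib.Helper7.TwProj

/-!
# Surjectivity of the multiplication maps `H^0(F(d)) ⊗ H^0(O(e)) → H^0(F(d+e))` for regular `F`

General `Proj 𝒜` with `HU 𝒜`, degree-one elements `f_0, …, f_N` whose basic opens cover, and
vanishing of quasi-coherent cohomology above degree `N`.

* `Hm φ j`: the map `H^j(φ)`; additivity, `Hz` (vanishing) calculus, `Hz_powDesc`, `Hm_surj`.
* `powInj`, `powInj_desc`.
* `twAdd'`, `sigc`, compatibilities `D1`, `D2`.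
* `exists_factor`: multiplication by `f_l` on `E(K)(c)` factors through `P(K)(c)` (Koszul homotopy).
* `sigma`: the key vanishing `H^q(E(K)(r-q+2)) = 0`.
* `ms`: every global section of `G(c+1)` is a sum of `f_j · s_j`.
* `core`: every global section of `G(d) ⊗ O(e)` is a sum of pure tensors of global sections.
-/
set_option autoImplicit false
universe u
open CategoryTheory CategoryTheory.Limits AlgebraicGeometry TopologicalSpace Opposite
open Scheme.Modules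

noncomputable section

namespace Groth.Agent.Lib.Helper7.MulSurj

open Groth.Agent.Lib.Helper3 Groth.Agent.Lib.Helper3.QCSec Groth.Agent.Lib.Helper3.InvGen
  Groth.Agent.Lib.Helper3.InvTensor Groth.Agent.Lib.Helper3.InvMonoidal
  Groth.Agent.Lib.Helper3.TensorDesc Groth.Agent.Lib.Helper3.TwistBasic
  Groth.Agent.Lib.Helper3.TwistMul Groth.Agent.Lib.Helper7.TwFun
  Groth.Agent.Lib.Helper7.CohFinite Groth.Agent.Lib.Helper7.TwProj
  Groth.Agent.Lib.Helper13 Groth.Agent.Lib.Helper13.SerreCrit1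

section General

variable {X : Scheme.{u}}

/-- `H^j(φ)`. -/
def Hm {M N : X.Modules} (φ : M ⟶ N) (j : ℕ) : Coh.HH X M j →+ Coh.HH X N j :=
  Sheaf.H.map ((TT X).map φ) j

lemma Hm_comp {M N P : X.Modules} (φ : M ⟶ N) (ψ : N ⟶ P) (j : ℕ) (x : Coh.HH X M j) :
    Hm (φ ≫ ψ) j x = Hm ψ j (Hm φ j x) := by
  unfold Hm
  rw [(TT X).map_comp]
  exact Sheaf.H.map_comp_apply _ _ x

lemma Hm_add {M N : X.Modules} (φ ψ : M ⟶ N) (j : ℕ) (x : Coh.HH X M j) :
    Hm (φ + ψ) j x = Hm φ j x + Hm ψ j x := by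
  unfold Hm
  rw [(TT X).map_add]
  exact Sheaf.H.map_add_apply _ _ x

lemma Hm_sub {M N : X.Modules} (φ ψ : M ⟶ N) (j : ℕ) (x : Coh.HH X M j) :
    Hm (φ - ψ) j x = Hm φ j x - Hm ψ j x := by
  have h := Hm_add (φ - ψ) ψ j x
  rw [sub_add_cancel] at h
  exact eq_sub_of_add_eq h.symm

/-- `H^j(φ) = 0`. -/
def Hz {M N : X.Modules} (φ : M ⟶ N) (j : ℕ) : Prop := ∀ x, Hm φ j x = 0

lemma Hz_comp_left {M N P : X.Modules} (φ : M ⟶ N) (ψ : N ⟶ P) (j : ℕ) (h : Hz φ j) :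
    Hz (φ ≫ ψ) j := fun x => by rw [Hm_comp, h x, map_zero]

lemma Hz_comp_right {M N P : X.Modules} (φ : M ⟶ N) (ψ : N ⟶ P) (j : ℕ) (h : Hz ψ j) :
    Hz (φ ≫ ψ) j := fun x => by rw [Hm_comp]; exact h _

lemma Hz_add {M N : X.Modules} (φ ψ : M ⟶ N) (j : ℕ) (h : Hz φ j) (h' : Hz ψ j) :
    Hz (φ + ψ) j := fun x => by rw [Hm_add, h x, h' x, add_zero]

lemma Hz_of_sub_target {M N : X.Modules} (φ : M ⟶ N) (j : ℕ)
    (h : Subsingleton (Coh.HH X N j)) : Hz φ j := fun _ => @Subsingleton.elim _ h _ _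

lemma Hz_of_sub_source {M N : X.Modules} (φ : M ⟶ N) (j : ℕ)
    (h : Subsingleton (Coh.HH X M j)) : Hz φ j := fun x => by
  rw [@Subsingleton.elim _ h x 0, map_zero]

lemma Hz_desc (T : X.Modules ⥤ X.Modules) [T.Additive] {A B M : X.Modules}
    (u : A ⟶ M) (v : B ⟶ M) (j : ℕ) (hu : Hz (T.map u) j) (hv : Hz (T.map v) j) :
    Hz (T.map (biprod.desc u v)) j := by
  rw [biprod.desc_eq, T.map_add, T.map_comp, T.map_comp]
  exact Hz_add _ _ j (Hz_comp_right _ _ j hu) (Hz_comp_right _ _ j hv)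

lemma Hz_powDesc (T : X.Modules ⥤ X.Modules) [T.Additive] {L M : X.Modules}
    (p : ℕ → (L ⟶ M)) (j : ℕ) :
    ∀ k, (∀ l, l ≤ k → Hz (T.map (p l)) j) → Hz (T.map (powDesc p k)) j
  | 0, h => h 0 le_rfl
  | k + 1, h =>
      Hz_desc T (powDesc p k) (p (k + 1)) j
        (Hz_powDesc T p j k (fun l hl => h l (by omega))) (h (k + 1) le_rfl)

/-- surjectivity of `H^j(g)` when `H^{j+1}` of the kernel vanishes. -/
lemma Hm_surj (S : ShortComplex X.Modules) (hS : S.ShortExact) (j : ℕ)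
    (h1 : Subsingleton (Coh.HH X S.X₁ (j + 1))) (x : Coh.HH X S.X₃ j) :
    ∃ y, Hm S.g j y = x := by
  have hS' := shortExact_map_toSheaf S hS
  have hx : x.comp hS'.extClass rfl = 0 := @Subsingleton.elim _ h1 _ _
  obtain ⟨x₂, hx₂⟩ := Abelian.Ext.covariant_sequence_exact₃ _ hS' x rfl hx
  exact ⟨x₂, hx₂⟩

/-- the additive map on sections induced by a morphism. -/
def appHom {M N : X.Modules} (φ : M ⟶ N) (U : X.Opens) : Γ(M, U) →+ Γ(N, U) :=
  AddMonoidHom.mk' (fun t => φ.app U t) (QCExact.app_add φ U)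

lemma appHom_apply {M N : X.Modules} (φ : M ⟶ N) (U : X.Opens) (t : Γ(M, U)) :
    appHom φ U t = φ.app U t := rfl

lemma closure_map_mem {A B : Type*} [AddCommGroup A] [AddCommGroup B] (f : A →+ B) (S : Set A)
    (H : AddSubgroup B) (h : ∀ s ∈ S, f s ∈ H) : ∀ a ∈ AddSubgroup.closure S, f a ∈ H := by
  intro a ha
  have hle : AddSubgroup.closure S ≤ H.comap f := (AddSubgroup.closure_le _).mpr h
  exact hle ha

/-- sums of pure tensors of global sections. -/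
def pureSpan (M N : X.Modules) : AddSubgroup Γ(CohB1.tensorMod M N, (⊤ : X.Opens)) :=
  AddSubgroup.closure {z | ∃ (m : Γ(M, (⊤ : X.Opens))) (n : Γ(N, (⊤ : X.Opens))),
    z = tm M N ⊤ m n}

lemma exists_toTensor_eq (M N : X.Modules) (z : Γ(CohB1.tensorMod M N, (⊤ : X.Opens)))
    (hz : z ∈ pureSpan M N) :
    ∃ y : ↑((CohB1.tensorPre M N).obj (op (⊤ : X.Opens))),
      ((SecTwist.toTensor M N).app (op (⊤ : X.Opens))).hom y = z := by
  induction hz using AddSubgroup.closure_induction with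
  | mem z hz =>
    obtain ⟨m, n, rfl⟩ := hz
    exact ⟨_, rfl⟩
  | zero => exact ⟨0, map_zero _⟩
  | add a b _ _ ha hb =>
    obtain ⟨ya, rfl⟩ := ha
    obtain ⟨yb, rfl⟩ := hb
    exact ⟨ya + yb, map_add _ _ _⟩
  | neg a _ ha =>
    obtain ⟨ya, rfl⟩ := ha
    exact ⟨-ya, map_neg _ _⟩

theorem surj_of_pureSpan (M N : X.Modules)
    (h : ∀ z : Γ(CohB1.tensorMod M N, (⊤ : X.Opens)), z ∈ pureSpan M N) :
    Function.Surjective ((toSheafify (Opens.grothendieckTopology X)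
      (CohB1.tensorPre M N).presheaf).app (op (⊤ : X.Opens))) := by
  intro z
  obtain ⟨y, hy⟩ := exists_toTensor_eq M N z (h z)
  exact ⟨y, hy⟩

lemma app_desc (T : X.Modules ⥤ X.Modules) [T.Additive] {A B M : X.Modules}
    (u : A ⟶ M) (v : B ⟶ M) (y : Γ(T.obj (A ⊞ B), (⊤ : X.Opens))) :
    (T.map (biprod.desc u v)).app ⊤ y =
      (T.map u).app ⊤ ((T.map biprod.fst).app ⊤ y) +
        (T.map v).app ⊤ ((T.map biprod.snd).app ⊤ y) := by
  rw [biprod.desc_eq, T.map_add, T.map_comp, T.map_comp]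
  rfl

/-- global sections of `T(L^{k+1}) → T(M)` are sums of the components. -/
lemma app_powDesc_mem (T : X.Modules ⥤ X.Modules) [T.Additive] {L M : X.Modules}
    (p : ℕ → (L ⟶ M)) :
    ∀ (k : ℕ) (y : Γ(T.obj (powSum L k), (⊤ : X.Opens))),
      (T.map (powDesc p k)).app ⊤ y ∈ AddSubgroup.closure
        {z | ∃ (j : ℕ) (s : Γ(T.obj L, (⊤ : X.Opens))), z = (T.map (p j)).app ⊤ s}
  | 0, y => AddSubgroup.subset_closure ⟨0, y, rfl⟩
  | k + 1, y => by
      have e2 := app_desc T (powDesc p k) (p (k + 1)) y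
      have h3 : (T.map (powDesc p k)).app ⊤ ((T.map biprod.fst).app ⊤ y) +
          (T.map (p (k + 1))).app ⊤ ((T.map biprod.snd).app ⊤ y) ∈ AddSubgroup.closure
        {z | ∃ (j : ℕ) (s : Γ(T.obj L, (⊤ : X.Opens))), z = (T.map (p j)).app ⊤ s} :=
        AddSubgroup.add_mem _ (app_powDesc_mem T p k _)
          (AddSubgroup.subset_closure ⟨k + 1, _, rfl⟩)
      exact e2 ▸ h3

end General

section PowInj

variable {C : Type*} [Category C] [Abelian C]

/-- the `l`-th inclusion `L ⟶ L^{k+1}` (for `l ≤ k`). -/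
def powInj (L : C) (l : ℕ) : (k : ℕ) → (L ⟶ powSum L k)
  | 0 => 𝟙 L
  | k + 1 => if l = k + 1 then biprod.inr else powInj L l k ≫ biprod.inl

lemma inl_desc_aux {A B L M : C} (a : L ⟶ A) (u : A ⟶ M) (v : B ⟶ M) :
    (a ≫ (biprod.inl : A ⟶ A ⊞ B)) ≫ biprod.desc u v = a ≫ u := by
  rw [Category.assoc, biprod.inl_desc]

lemma powInj_desc {L M : C} (p : ℕ → (L ⟶ M)) (l : ℕ) :
    ∀ k, l ≤ k → powInj L l k ≫ powDesc p k = p l
  | 0, h => by
      obtain rfl : l = 0 := by omega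
      exact Category.id_comp _
  | k + 1, h => by
      by_cases hl : l = k + 1
      · subst hl
        have e : powInj L (k + 1) (k + 1) = biprod.inr := if_pos rfl
        rw [e]
        exact biprod.inr_desc _ _
      · have e : powInj L l (k + 1) = powInj L l k ≫ biprod.inl := if_neg hl
        rw [e]
        exact (inl_desc_aux (powInj L l k) (powDesc p k) (p (k + 1))).trans
          (powInj_desc p l k (by omega))

end PowInj



section ProjSec

variable {R A : Type u} [CommRing R] [CommRing A] [Algebra R A] {𝒜 : ℕ → Submodule R A}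
  [GradedAlgebra 𝒜]

lemma comp_app {X : Scheme.{u}} {M1 M2 M3 : X.Modules} (f : M1 ⟶ M2) (g : M2 ⟶ M3)
    (V : X.Opens) (z : Γ(M1, V)) : (f ≫ g).app V z = g.app V (f.app V z) := rfl

lemma id_app' {X : Scheme.{u}} (G : X.Modules) (U : X.Opens) (g : Γ(G, U)) :
    (𝟙 G : G ⟶ G).app U g = g := rfl

lemma app_congr {X : Scheme.{u}} {M N : X.Modules} {φ ψ : M ⟶ N} (h : φ = ψ) (U : X.Opens)
    (z : Γ(M, U)) : φ.app U z = ψ.app U z := by rw [h]

lemma val_twistCast {m n : ℤ} (h : m = n) (U : (Proj 𝒜).Opens)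
    (s : Γ(Twist.twist 𝒜 m, U)) (x : U) :
    val ((twistCast (𝒜 := 𝒜) h).hom.app U s) x = val s x := by
  subst h
  rfl

/-- `G(s) ≅ G(t)` for `s = t`. -/
def tcastIso (G : (Proj 𝒜).Modules) {s t : ℤ} (h : s = t) :
    CohB1.tensorMod G (Twist.twist 𝒜 s) ≅ CohB1.tensorMod G (Twist.twist 𝒜 t) :=
  tensorMapIso (Iso.refl G) (twistCast h)

lemma tcastIso_hom (G : (Proj 𝒜).Modules) {s t : ℤ} (h : s = t) :
    (tcastIso G h).hom = tensorMap (𝟙 G) (twistCast h).hom := rfl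

lemma tcastIso_hom_tm (G : (Proj 𝒜).Modules) {s t : ℤ} (h : s = t) (U : (Proj 𝒜).Opens)
    (g : Γ(G, U)) (e : Γ(Twist.twist 𝒜 s, U)) :
    (tcastIso G h).hom.app U (tm G _ U g e) = tm G _ U g ((twistCast h).hom.app U e) := by
  rw [tcastIso_hom, tensorMap_tm, id_app']

lemma twAdd_hom (hU : HU 𝒜) (G : (Proj 𝒜).Modules) (a b : ℤ) :
    (twAdd hU G a b).hom = (assoc G _ _).hom ≫ tensorMap (𝟙 G) (mulHom a b) := rfl

lemma twAdd_hom_tm (hU : HU 𝒜) (G : (Proj 𝒜).Modules) (a b : ℤ) (U : (Proj 𝒜).Opens)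
    (g : Γ(G, U)) (e : Γ(Twist.twist 𝒜 a, U)) (l : Γ(Twist.twist 𝒜 b, U)) :
    (twAdd hU G a b).hom.app U (tm _ _ U (tm G _ U g e) l) = tm G _ U g (mulSec e l) := by
  rw [twAdd_hom, comp_app, assoc_hom_tm, tensorMap_tm, id_app', mulHom_tm]

/-- `(G(a))(b) ≅ G(s)` for `a + b = s`. -/
def twAdd' (hU : HU 𝒜) (G : (Proj 𝒜).Modules) (a b s : ℤ) (h : a + b = s) :
    CohB1.tensorMod (CohB1.tensorMod G (Twist.twist 𝒜 a)) (Twist.twist 𝒜 b) ≅
      CohB1.tensorMod G (Twist.twist 𝒜 s) :=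
  twAdd hU G a b ≪≫ tcastIso G h

lemma twAdd'_hom (hU : HU 𝒜) (G : (Proj 𝒜).Modules) (a b s : ℤ) (h : a + b = s) :
    (twAdd' hU G a b s h).hom = (twAdd hU G a b).hom ≫ (tcastIso G h).hom := rfl

lemma twAdd'_hom_tm (hU : HU 𝒜) (G : (Proj 𝒜).Modules) (a b s : ℤ) (h : a + b = s)
    (U : (Proj 𝒜).Opens) (g : Γ(G, U)) (e : Γ(Twist.twist 𝒜 a, U)) (l : Γ(Twist.twist 𝒜 b, U)) :
    (twAdd' hU G a b s h).hom.app U (tm _ _ U (tm G _ U g e) l) =
      tm G _ U g ((twistCast h).hom.app U (mulSec e l)) := by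
  rw [twAdd'_hom, comp_app, twAdd_hom_tm, tcastIso_hom_tm]

/-- multiplication by `f`, `G(s) ⟶ G(t)` with `s + 1 = t`. -/
def sigc (f : 𝒜 1) (s t : ℤ) (h : s + 1 = t) (G : (Proj 𝒜).Modules) :
    CohB1.tensorMod G (Twist.twist 𝒜 s) ⟶ CohB1.tensorMod G (Twist.twist 𝒜 t) :=
  sig f s G ≫ (tcastIso G h).hom

lemma sigc_tm (f : 𝒜 1) (s t : ℤ) (h : s + 1 = t) (G : (Proj 𝒜).Modules) (U : (Proj 𝒜).Opens)
    (g : Γ(G, U)) (e : Γ(Twist.twist 𝒜 s, U)) :
    (sigc f s t h G).app U (tm G _ U g e) =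
      tm G _ U g ((twistCast h).hom.app U (mulSec e (fsec f U))) := by
  rw [sigc, comp_app, sig_tm, tcastIso_hom_tm, mulBy_app]

lemma D1 (hU : HU 𝒜) (f : 𝒜 1) (M : (Proj 𝒜).Modules) (a b s t : ℤ) (h1 : a + b = s)
    (h2 : a + (b + 1) = t) (h3 : s + 1 = t) :
    sig f b (CohB1.tensorMod M (Twist.twist 𝒜 a)) ≫ (twAdd' hU M a (b + 1) t h2).hom =
      (twAdd' hU M a b s h1).hom ≫ sigc f s t h3 M := by
  apply tensor_hom_ext₂
  intro U m e l
  rw [comp_app, comp_app, sig_tm, twAdd'_hom_tm, twAdd'_hom_tm, sigc_tm, mulBy_app]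
  refine congrArg (tm M _ U m) ?_
  apply val_ext
  intro x
  rw [val_twistCast, val_twistCast, val_mulSec, val_mulSec, val_mulSec, val_twistCast, val_mulSec]
  exact (mul_assoc _ _ _).symm

lemma D2 (hU : HU 𝒜) (f : 𝒜 1) (M : (Proj 𝒜).Modules) (a b s t : ℤ) (h1 : a + b = s)
    (h2 : a + 1 + b = t) (h3 : s + 1 = t) :
    tensorMap (sig f a M) (𝟙 (Twist.twist 𝒜 b)) ≫ (twAdd' hU M (a + 1) b t h2).hom =
      (twAdd' hU M a b s h1).hom ≫ sigc f s t h3 M := by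
  apply tensor_hom_ext₂
  intro U m e l
  rw [comp_app, comp_app, tensorMap_tm, sig_tm, mulBy_app, id_app', twAdd'_hom_tm,
    twAdd'_hom_tm, sigc_tm]
  refine congrArg (tm M _ U m) ?_
  apply val_ext
  intro x
  rw [val_twistCast, val_twistCast, val_mulSec, val_mulSec, val_mulSec, val_twistCast, val_mulSec]
  exact mul_right_comm _ _ _

lemma sig_natural (f : 𝒜 1) (c : ℤ) {M M' : (Proj 𝒜).Modules} (φ : M ⟶ M') :
    tensorMap φ (𝟙 (Twist.twist 𝒜 c)) ≫ sig f c M' =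
      sig f c M ≫ tensorMap φ (𝟙 (Twist.twist 𝒜 (c + 1))) := by
  unfold sig
  rw [← tensorMap_comp, ← tensorMap_comp]
  simp only [Category.comp_id, Category.id_comp]

lemma tensorMap_zero_left {M M' : (Proj 𝒜).Modules} (L : (Proj 𝒜).Modules) :
    tensorMap (0 : M ⟶ M') (𝟙 L) = 0 :=
  (twR L).map_zero M M'

end ProjSec


section Abstract

variable {C : Type*} [Category C] [Abelian C]

/-- Koszul-type homotopy: if `σ : T ⟶ T'` is natural, `T'(S)` is short exact and `σ_{X₃}` lifts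
through `T'(g)`, then `σ_{X₁}` factors through `T(f)`. -/
lemma abstract_factor₀ (T T' : C ⥤ C) [T.Additive] [T'.Additive] (σ : T ⟶ T')
    (S : ShortComplex C) (hS' : (S.map T').ShortExact) (θ : T.obj S.X₃ ⟶ T'.obj S.X₂)
    (hθ : θ ≫ T'.map S.g = σ.app S.X₃) :
    ∃ ψ' : T.obj S.X₂ ⟶ T'.obj S.X₁, T.map S.f ≫ ψ' = σ.app S.X₁ := by
  haveI hm : Mono (S.map T').f := hS'.mono_f
  haveI : Mono (T'.map S.f) := hm
  have hψ : (σ.app S.X₂ - T.map S.g ≫ θ) ≫ (S.map T').g = 0 := by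
    change (σ.app S.X₂ - T.map S.g ≫ θ) ≫ T'.map S.g = 0
    rw [Preadditive.sub_comp, Category.assoc, hθ, σ.naturality, sub_self]
  obtain ⟨ψ', hl⟩ : ∃ ψ' : T.obj S.X₂ ⟶ T'.obj S.X₁,
      ψ' ≫ T'.map S.f = σ.app S.X₂ - T.map S.g ≫ θ :=
    ⟨hS'.exact.lift _ hψ, hS'.exact.lift_f _ hψ⟩
  refine ⟨ψ', ?_⟩
  rw [← cancel_mono (T'.map S.f), Category.assoc, hl,
    Preadditive.comp_sub, ← Category.assoc (T.map S.f) (T.map S.g) θ, ← T.map_comp, S.zero,
    T.map_zero, zero_comp, sub_zero]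
  exact σ.naturality S.f

lemma abstract_factor (T T' : C ⥤ C) [T.Additive] [T'.Additive] (σ : T ⟶ T')
    {A B D : C} (f : A ⟶ B) (g : B ⟶ D) (w : f ≫ g = 0)
    (hS' : ((ShortComplex.mk f g w).map T').ShortExact) (θ : T.obj D ⟶ T'.obj B)
    (hθ : θ ≫ T'.map g = σ.app D) :
    ∃ ψ' : T.obj B ⟶ T'.obj A, T.map f ≫ ψ' = σ.app A :=
  abstract_factor₀ T T' σ (ShortComplex.mk f g w) hS' θ hθ

end Abstract

section General2

variable {X : Scheme.{u}}

lemma Hm_surj' {A B C : X.Modules} (f : A ⟶ B) (g : B ⟶ C) (w : f ≫ g = 0)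
    (T : X.Modules ⥤ X.Modules) [T.PreservesZeroMorphisms]
    (hS : ((ShortComplex.mk f g w).map T).ShortExact) (j : ℕ)
    (h1 : Subsingleton (Coh.HH X (T.obj A) (j + 1))) (x : Coh.HH X (T.obj C) j) :
    ∃ y, Hm (T.map g) j y = x :=
  Hm_surj _ hS j h1 x

lemma surj_top {A B C : X.Modules} (f : A ⟶ B) (g : B ⟶ C) (w : f ≫ g = 0)
    (T : X.Modules ⥤ X.Modules) [T.PreservesZeroMorphisms]
    (hS : ((ShortComplex.mk f g w).map T).ShortExact) (h1 : Subsingleton (Coh.HH X (T.obj A) 1))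
    (z : Γ(T.obj C, (⊤ : X.Opens))) : ∃ y : Γ(T.obj B, (⊤ : X.Opens)), (T.map g).app ⊤ y = z :=
  surjective_app_top_of_H1 _ hS h1 z

lemma sub_left' {A B C : X.Modules} (f : A ⟶ B) (g : B ⟶ C) (w : f ≫ g = 0)
    (T : X.Modules ⥤ X.Modules) [T.PreservesZeroMorphisms]
    (hS : ((ShortComplex.mk f g w).map T).ShortExact) (j : ℕ)
    (h3 : Subsingleton (Coh.HH X (T.obj C) j)) (h2 : Subsingleton (Coh.HH X (T.obj B) (j + 1))) :
    Subsingleton (Coh.HH X (T.obj A) (j + 1)) :=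
  sub_left _ hS j h3 h2

lemma Hz_powDesc' (T : X.Modules ⥤ X.Modules) [T.Additive] {L M : X.Modules}
    (p : ℕ → (L ⟶ M)) (j k : ℕ) (q : powSum L k ⟶ M) (hq : q = powDesc p k)
    (h : ∀ l, l ≤ k → Hz (T.map (p l)) j) : Hz (T.map q) j := by
  subst hq
  exact Hz_powDesc T p j k h

lemma app_powDesc_mem' (T : X.Modules ⥤ X.Modules) [T.Additive] {L M : X.Modules}
    (p : ℕ → (L ⟶ M)) (k : ℕ) (q : powSum L k ⟶ M) (hq : q = powDesc p k)
    (y : Γ(T.obj (powSum L k), (⊤ : X.Opens))) :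
    (T.map q).app ⊤ y ∈ AddSubgroup.closure
      {z | ∃ (j : ℕ) (s : Γ(T.obj L, (⊤ : X.Opens))), z = (T.map (p j)).app ⊤ s} := by
  subst hq
  exact app_powDesc_mem T p k y

lemma tensorMap_add_left {M M' : X.Modules} (φ ψ : M ⟶ M') (L : X.Modules) :
    tensorMap (φ + ψ) (𝟙 L) = tensorMap φ (𝟙 L) + tensorMap ψ (𝟙 L) :=
  (twR L).map_add

lemma tensorMap_comp_left {M M' M'' : X.Modules} (φ : M ⟶ M') (ψ : M' ⟶ M'') (L : X.Modules) :
    tensorMap (φ ≫ ψ) (𝟙 L) = tensorMap φ (𝟙 L) ≫ tensorMap ψ (𝟙 L) :=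
  (twR L).map_comp φ ψ

lemma add_comp_app {M1 M2 M2' M3 : X.Modules} (a : M1 ⟶ M2) (b : M2 ⟶ M3) (c : M1 ⟶ M2')
    (d : M2' ⟶ M3) (U : X.Opens) (y : Γ(M1, U)) :
    (a ≫ b + c ≫ d).app U y = b.app U (a.app U y) + d.app U (c.app U y) := rfl

lemma app_desc_tw (L : X.Modules) {A B M : X.Modules} (u : A ⟶ M) (v : B ⟶ M)
    (y : Γ(CohB1.tensorMod (A ⊞ B) L, (⊤ : X.Opens))) :
    (tensorMap (biprod.desc u v) (𝟙 L)).app ⊤ y =
      (tensorMap u (𝟙 L)).app ⊤ ((tensorMap biprod.fst (𝟙 L)).app ⊤ y) +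
        (tensorMap v (𝟙 L)).app ⊤ ((tensorMap biprod.snd (𝟙 L)).app ⊤ y) := by
  have e : tensorMap (biprod.desc u v) (𝟙 L) =
      tensorMap biprod.fst (𝟙 L) ≫ tensorMap u (𝟙 L) +
        tensorMap biprod.snd (𝟙 L) ≫ tensorMap v (𝟙 L) := by
    rw [biprod.desc_eq, tensorMap_add_left, tensorMap_comp_left, tensorMap_comp_left]
  rw [e]
  exact add_comp_app _ _ _ _ ⊤ y

/-- global sections of `L^{k+1} ⊗ L' → M ⊗ L'` are sums of the components. -/
lemma app_powDesc_mem_tw (L' : X.Modules) {L M : X.Modules} (p : ℕ → (L ⟶ M)) :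
    ∀ (k : ℕ) (q : powSum L k ⟶ M) (_ : q = powDesc p k)
      (y : Γ(CohB1.tensorMod (powSum L k) L', (⊤ : X.Opens))),
      (tensorMap q (𝟙 L')).app ⊤ y ∈ AddSubgroup.closure
        {z | ∃ (j : ℕ) (s : Γ(CohB1.tensorMod L L', (⊤ : X.Opens))),
          z = (tensorMap (p j) (𝟙 L')).app ⊤ s}
  | 0, q, hq, y => by
      subst hq
      exact AddSubgroup.subset_closure ⟨0, y, rfl⟩
  | k + 1, q, hq, y => by
      subst hq
      have e2 := app_desc_tw L' (powDesc p k) (p (k + 1)) y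
      have h3 : (tensorMap (powDesc p k) (𝟙 L')).app ⊤ ((tensorMap biprod.fst (𝟙 L')).app ⊤ y) +
          (tensorMap (p (k + 1)) (𝟙 L')).app ⊤ ((tensorMap biprod.snd (𝟙 L')).app ⊤ y) ∈
          AddSubgroup.closure
        {z | ∃ (j : ℕ) (s : Γ(CohB1.tensorMod L L', (⊤ : X.Opens))),
          z = (tensorMap (p j) (𝟙 L')).app ⊤ s} :=
        AddSubgroup.add_mem _ (app_powDesc_mem_tw L' p k _ rfl _)
          (AddSubgroup.subset_closure ⟨k + 1, _, rfl⟩)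
      exact e2 ▸ h3

lemma shortExact_tw_mk {A B C : X.Modules} (f : A ⟶ B) (g : B ⟶ C) (w : f ≫ g = 0)
    (L : X.Modules) (hS : ((ShortComplex.mk f g w).map (twR L)).ShortExact)
    (w' : tensorMap f (𝟙 L) ≫ tensorMap g (𝟙 L) = 0) :
    (ShortComplex.mk (tensorMap f (𝟙 L)) (tensorMap g (𝟙 L)) w').ShortExact := hS

lemma tensorMap_comp_zero {A B C : X.Modules} (f : A ⟶ B) (g : B ⟶ C) (w : f ≫ g = 0)
    (L : X.Modules) : tensorMap f (𝟙 L) ≫ tensorMap g (𝟙 L) = 0 := by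
  rw [← tensorMap_comp_left, w]
  exact (twR L).map_zero A C

lemma surj_top_mk {A B C : X.Modules} (f : A ⟶ B) (g : B ⟶ C) (w : f ≫ g = 0)
    (hS : (ShortComplex.mk f g w).ShortExact) (h1 : Subsingleton (Coh.HH X A 1))
    (z : Γ(C, (⊤ : X.Opens))) : ∃ y : Γ(B, (⊤ : X.Opens)), g.app ⊤ y = z :=
  surjective_app_top_of_H1 _ hS h1 z

end General2

section Main

variable {R A : Type u} [CommRing R] [CommRing A] [Algebra R A] {𝒜 : ℕ → Submodule R A}
  [GradedAlgebra 𝒜]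

/-- multiplication by `f` as a natural transformation. -/
def sigNat (f : 𝒜 1) (c : ℤ) : twR (Twist.twist 𝒜 c) ⟶ twR (Twist.twist 𝒜 (c + 1)) where
  app M := sig f c M
  naturality _ _ φ := sig_natural f c φ

lemma sigNat_app (f : 𝒜 1) (c : ℤ) (M : (Proj 𝒜).Modules) : (sigNat f c).app M = sig f c M := rfl

variable (hU : HU 𝒜) (fs : ℕ → 𝒜 1) (N : ℕ)

lemma eps_def (c : ℤ) (G : (Proj 𝒜).Modules) :
    eps fs N c G = powDesc (fun j => sig (fs j) c G) N := rfl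

include hU in
lemma isQCoh_EE (K : (Proj 𝒜).Modules) [K.IsQuasicoherent] :
    (kernel (eps fs N (-1) K)).IsQuasicoherent := by
  haveI hq1 := isQCoh_tw hU K (-1)
  haveI hq2 := isQCoh_tw hU K (-1 + 1)
  haveI hq3 := isQCoh_powSum (CohB1.tensorMod K (Twist.twist 𝒜 (-1))) N
  exact QCProps.isQuasicoherent_kernel (eps fs N (-1) K)

variable (hcov : ∀ x : Proj 𝒜, ∃ j, j ≤ N ∧ x ∈ Proj.basicOpen 𝒜 ((fs j : 𝒜 1) : A))

include hU hcov in
lemma shortExact_tw_SK (K : (Proj 𝒜).Modules) (b : ℤ) :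
    ((ShortComplex.mk (kernel.ι (eps fs N (-1) K)) (eps fs N (-1) K)
      (kernel.condition (eps fs N (-1) K))).map (twR (Twist.twist 𝒜 b))).ShortExact := by
  haveI : Epi (eps fs N (-1) K) := epi_eps fs N hcov (-1) K
  exact shortExact_tw hU b _
    (Groth.Agent.Lib.Helper7.CechCard.shortExact_kernel (eps fs N (-1) K))

include hU hcov in
/-- multiplication by `f_l` on `E(K)(c)` factors through `K(-1)^{N+1}(c)`. -/
theorem exists_factor (K : (Proj 𝒜).Modules) (c : ℤ) (l : ℕ) (hl : l ≤ N) :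
    ∃ ψ' : (twR (Twist.twist 𝒜 c)).obj (powSum (CohB1.tensorMod K (Twist.twist 𝒜 (-1))) N) ⟶
        (twR (Twist.twist 𝒜 (c + 1))).obj (kernel (eps fs N (-1) K)),
      (twR (Twist.twist 𝒜 c)).map (kernel.ι (eps fs N (-1) K)) ≫ ψ' =
        (sigNat (fs l) c).app (kernel (eps fs N (-1) K)) := by
  have hT1 := shortExact_tw_SK hU fs N hcov K (c + 1)
  have h' : (-1 : ℤ) + (c + 1) = -1 + 1 + c := by ring
  have h3 : (-1 : ℤ) + 1 + c + 1 = -1 + 1 + (c + 1) := by ring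
  have d2 := D2 hU (fs l) K (-1) (c + 1) (-1 + 1 + c) (-1 + 1 + (c + 1)) h' rfl h3
  have d1 := D1 hU (fs l) K (-1 + 1) c (-1 + 1 + c) (-1 + 1 + (c + 1)) rfl rfl h3
  have hω : ((twAdd' hU K (-1 + 1) c (-1 + 1 + c) rfl).hom ≫
      (twAdd' hU K (-1) (c + 1) (-1 + 1 + c) h').inv) ≫
      tensorMap (sig (fs l) (-1) K) (𝟙 (Twist.twist 𝒜 (c + 1))) =
      sig (fs l) c (CohB1.tensorMod K (Twist.twist 𝒜 (-1 + 1))) := by
    rw [← cancel_mono (twAdd' hU K (-1 + 1) (c + 1) (-1 + 1 + (c + 1)) rfl).hom, d1,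
      Category.assoc, Category.assoc, d2, Iso.inv_hom_id_assoc]
  have hpe : powInj (CohB1.tensorMod K (Twist.twist 𝒜 (-1))) l N ≫ eps fs N (-1) K =
      sig (fs l) (-1) K :=
    powInj_desc (fun j => sig (fs j) (-1) K) l N hl
  have hθ : (((twAdd' hU K (-1 + 1) c (-1 + 1 + c) rfl).hom ≫
      (twAdd' hU K (-1) (c + 1) (-1 + 1 + c) h').inv) ≫
      tensorMap (powInj (CohB1.tensorMod K (Twist.twist 𝒜 (-1))) l N)
        (𝟙 (Twist.twist 𝒜 (c + 1)))) ≫
      tensorMap (eps fs N (-1) K) (𝟙 (Twist.twist 𝒜 (c + 1))) =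
      sig (fs l) c (CohB1.tensorMod K (Twist.twist 𝒜 (-1 + 1))) := by
    rw [Category.assoc, ← tensorMap_comp, hpe, Category.comp_id, hω]
  exact abstract_factor (twR (Twist.twist 𝒜 c)) (twR (Twist.twist 𝒜 (c + 1)))
    (sigNat (fs l) c) _ _ _ hT1 _ hθ

variable (hvan : ∀ (M : (Proj 𝒜).Modules) [M.IsQuasicoherent] (i : ℕ), N < i →
      Subsingleton (Coh.HH (Proj 𝒜) M i))

include hU hcov hvan in
/-- the key vanishing: if `H^j(K(r-j)) = 0` for all `j ≥ q` then `H^q(E(K)(r-q+2)) = 0`. -/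
theorem sigma :
    ∀ (d q : ℕ), 1 ≤ q → q + d = N + 1 → ∀ (K : (Proj 𝒜).Modules) [K.IsQuasicoherent] (r : ℤ),
      (∀ (j : ℕ) (c' : ℤ), q ≤ j → c' = r - j →
        Subsingleton (Coh.HH (Proj 𝒜) (CohB1.tensorMod K (Twist.twist 𝒜 c')) j)) →
      ∀ b : ℤ, b = r - q + 2 →
        Subsingleton (Coh.HH (Proj 𝒜)
          (CohB1.tensorMod (kernel (eps fs N (-1) K)) (Twist.twist 𝒜 b)) q) := by
  intro d
  induction d with
  | zero =>
    intro q hq hqd K _ r hyp b hb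
    haveI := isQCoh_EE hU fs N K
    haveI := isQCoh_tw hU (kernel (eps fs N (-1) K)) b
    exact hvan _ q (by omega)
  | succ d ih =>
    intro q hq hqd K _ r hyp b hb
    haveI hE := isQCoh_EE hU fs N K
    have hypE : ∀ (j : ℕ) (c' : ℤ), q + 1 ≤ j → c' = (r + 1) - j →
        Subsingleton (Coh.HH (Proj 𝒜)
          (CohB1.tensorMod (kernel (eps fs N (-1) K)) (Twist.twist 𝒜 c')) j) := by
      intro j c' hj hc'
      obtain ⟨j0, rfl⟩ : ∃ j0, j = j0 + 1 := ⟨j - 1, by omega⟩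
      have h3 : Subsingleton (Coh.HH (Proj 𝒜) (CohB1.tensorMod
          (CohB1.tensorMod K (Twist.twist 𝒜 (-1 + 1))) (Twist.twist 𝒜 c')) j0) :=
        (sub_shift hU K (-1 + 1) c' c' (by ring) j0).mpr
          (hyp j0 c' (by omega) (by rw [hc']; push_cast; ring))
      have h2 : Subsingleton (Coh.HH (Proj 𝒜) (CohB1.tensorMod
          (powSum (CohB1.tensorMod K (Twist.twist 𝒜 (-1))) N) (Twist.twist 𝒜 c')) (j0 + 1)) :=
        sub_tw_powSum hU _ c' (j0 + 1)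
          ((sub_shift hU K (-1) c' (-1 + c') rfl (j0 + 1)).mpr
            (hyp (j0 + 1) (-1 + c') (by omega) (by rw [hc']; push_cast; ring))) N
      exact sub_left' _ _ _ _ (shortExact_tw_SK hU fs N hcov K c') j0 h3 h2
    have hb1 := ih (q + 1) (by omega) (by omega) (kernel (eps fs N (-1) K)) (r + 1) hypE b
      (by rw [hb]; push_cast; ring)
    have hsurj := Hm_surj' _ _ _ _
      (shortExact_tw_SK hU fs N hcov (kernel (eps fs N (-1) K)) b) q hb1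
    have hz : Hz ((twR (Twist.twist 𝒜 b)).map (eps fs N (-1) (kernel (eps fs N (-1) K)))) q := by
      refine Hz_powDesc' (twR (Twist.twist 𝒜 b))
        (fun j => sig (fs j) (-1) (kernel (eps fs N (-1) K))) q N _ rfl (fun l hl => ?_)
      have h1' : (-1 : ℤ) + b + 1 = -1 + 1 + b := by ring
      have d2 := D2 hU (fs l) (kernel (eps fs N (-1) K)) (-1) b (-1 + b) (-1 + 1 + b) rfl rfl h1'
      have e : (twR (Twist.twist 𝒜 b)).map (sig (fs l) (-1) (kernel (eps fs N (-1) K))) =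
          ((twAdd' hU (kernel (eps fs N (-1) K)) (-1) b (-1 + b) rfl).hom ≫
            sigc (fs l) (-1 + b) (-1 + 1 + b) h1' (kernel (eps fs N (-1) K))) ≫
            (twAdd' hU (kernel (eps fs N (-1) K)) (-1 + 1) b (-1 + 1 + b) rfl).inv := by
        rw [← d2, Category.assoc, Iso.hom_inv_id, Category.comp_id]
        exact twR_map _ _
      rw [e]
      apply Hz_comp_left
      apply Hz_comp_right
      rw [sigc]
      apply Hz_comp_left
      obtain ⟨ψ', hψ'⟩ := exists_factor hU fs N hcov K (-1 + b) l hl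
      rw [← sigNat_app, ← hψ']
      apply Hz_comp_left
      apply Hz_of_sub_target
      exact sub_tw_powSum hU _ (-1 + b) q
        ((sub_shift hU K (-1) (-1 + b) (-1 + (-1 + b)) rfl q).mpr
          (hyp q (-1 + (-1 + b)) le_rfl (by rw [hb]; ring))) N
    have hfin : Subsingleton (Coh.HH (Proj 𝒜) (CohB1.tensorMod
        (CohB1.tensorMod (kernel (eps fs N (-1) K)) (Twist.twist 𝒜 (-1 + 1)))
        (Twist.twist 𝒜 b)) q) := by
      refine subsingleton_of_forall_eq 0 fun x => ?_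
      obtain ⟨y, hy⟩ := hsurj x
      rw [← hy]
      exact hz y
    exact (sub_shift hU (kernel (eps fs N (-1) K)) (-1 + 1) b b (by ring) q).mp hfin

include hU hcov hvan in
/-- every global section of `G(c+1)` is a sum of products `f_j · s_j`, for `c`-regular `G`. -/
theorem ms (G : (Proj 𝒜).Modules) [G.IsQuasicoherent] (c c1 : ℤ) (hc : c + 1 = c1)
    (hreg : ∀ (j : ℕ) (c' : ℤ), 1 ≤ j → c' = c - j →
      Subsingleton (Coh.HH (Proj 𝒜) (CohB1.tensorMod G (Twist.twist 𝒜 c')) j))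
    (w : Γ(CohB1.tensorMod G (Twist.twist 𝒜 c1), (⊤ : (Proj 𝒜).Opens))) :
    w ∈ AddSubgroup.closure {z | ∃ (j : ℕ)
      (s : Γ(CohB1.tensorMod G (Twist.twist 𝒜 c), (⊤ : (Proj 𝒜).Opens))),
      z = (sigc (fs j) c c1 hc G).app ⊤ s} := by
  have h1 : Subsingleton (Coh.HH (Proj 𝒜)
      (CohB1.tensorMod (kernel (eps fs N (-1) G)) (Twist.twist 𝒜 c1)) 1) :=
    sigma hU fs N hcov hvan N 1 le_rfl (by omega) G c hreg c1 (by rw [← hc]; push_cast; ring)
  have hA : (-1 : ℤ) + 1 + c1 = c1 := by ring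
  have hB : (-1 : ℤ) + c1 = c := by rw [← hc]; ring
  have hT := shortExact_tw_mk _ _ _ _ (shortExact_tw_SK hU fs N hcov G c1)
    (tensorMap_comp_zero _ _ (kernel.condition (eps fs N (-1) G)) _)
  obtain ⟨y, hy⟩ := surj_top_mk _ _ _ hT h1 ((twAdd' hU G (-1 + 1) c1 c1 hA).inv.app ⊤ w)
  have hmem := app_powDesc_mem_tw (Twist.twist 𝒜 c1) (fun j => sig (fs j) (-1) G) N
    (eps fs N (-1) G) rfl y
  have key : ∀ a ∈ AddSubgroup.closure {z | ∃ (j : ℕ)
      (s : Γ(CohB1.tensorMod (CohB1.tensorMod G (Twist.twist 𝒜 (-1))) (Twist.twist 𝒜 c1),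
        (⊤ : (Proj 𝒜).Opens))),
      z = (tensorMap (sig (fs j) (-1) G) (𝟙 (Twist.twist 𝒜 c1))).app ⊤ s},
      appHom (twAdd' hU G (-1 + 1) c1 c1 hA).hom ⊤ a ∈ AddSubgroup.closure {z | ∃ (j : ℕ)
        (s : Γ(CohB1.tensorMod G (Twist.twist 𝒜 c), (⊤ : (Proj 𝒜).Opens))),
        z = (sigc (fs j) c c1 hc G).app ⊤ s} := by
    apply closure_map_mem
    rintro _ ⟨j, s, rfl⟩
    apply AddSubgroup.subset_closure
    refine ⟨j, (twAdd' hU G (-1) c1 c hB).hom.app ⊤ s, ?_⟩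
    have d2 := D2 hU (fs j) G (-1) c1 c c1 hB hA hc
    have h5 := app_congr d2 ⊤ s
    rw [comp_app, comp_app] at h5
    rw [appHom_apply]
    exact h5
  have h6 := key _ hmem
  rw [appHom_apply, hy, iso_hom_inv_app] at h6
  exact h6

include hU hcov hvan in
/-- every global section of `G(d) ⊗ O(e)` is a sum of pure tensors of global sections, for
`m`-regular `G`, `d ≥ m`, `e ≥ 0`. -/
theorem core (G : (Proj 𝒜).Modules) [G.IsQuasicoherent] (m : ℤ)
    (hreg : ∀ (i : ℕ) (r : ℤ), 1 ≤ i → m - i ≤ r →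
      Subsingleton (Coh.HH (Proj 𝒜) (CohB1.tensorMod G (Twist.twist 𝒜 r)) i)) :
    ∀ (e : ℕ) (d : ℤ), m ≤ d → ∀ (e' : ℤ), e' = e →
      ∀ z : Γ(CohB1.tensorMod (CohB1.tensorMod G (Twist.twist 𝒜 d)) (Twist.twist 𝒜 e'),
        (⊤ : (Proj 𝒜).Opens)),
        z ∈ pureSpan (CohB1.tensorMod G (Twist.twist 𝒜 d)) (Twist.twist 𝒜 e') := by
  intro e
  induction e with
  | zero =>
    intro d hd e' he z
    obtain rfl : e' = 0 := by simpa using he
    obtain ⟨t, ht⟩ := (tm_gen_bijective (CohB1.tensorMod G (Twist.twist 𝒜 d)) (Twist.twist 𝒜 0)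
      (isGen_oneSec (⊤ : (Proj 𝒜).Opens)) ⊤ le_rfl).2 z
    have ht' : tm (CohB1.tensorMod G (Twist.twist 𝒜 d)) (Twist.twist 𝒜 0) ⊤ t
        (res (Twist.twist 𝒜 0) le_rfl (oneSec (⊤ : (Proj 𝒜).Opens))) = z := ht
    rw [← ht']
    exact AddSubgroup.subset_closure ⟨t, _, rfl⟩
  | succ e ih =>
    intro d hd e' he z
    obtain rfl : e' = (e : ℤ) + 1 := by rw [he]; push_cast; ring
    have hc : d + (e : ℤ) + 1 = d + ((e : ℤ) + 1) := by ring
    have hms := ms hU fs N hcov hvan G (d + (e : ℤ)) (d + ((e : ℤ) + 1)) hc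
      (fun j c' hj hc' => hreg j c' hj (by rw [hc']; omega))
      ((twAdd' hU G d ((e : ℤ) + 1) (d + ((e : ℤ) + 1)) rfl).hom.app ⊤ z)
    have key : ∀ a ∈ AddSubgroup.closure {z | ∃ (j : ℕ)
        (s : Γ(CohB1.tensorMod G (Twist.twist 𝒜 (d + (e : ℤ))), (⊤ : (Proj 𝒜).Opens))),
        z = (sigc (fs j) (d + (e : ℤ)) (d + ((e : ℤ) + 1)) hc G).app ⊤ s},
        appHom (twAdd' hU G d ((e : ℤ) + 1) (d + ((e : ℤ) + 1)) rfl).inv ⊤ a ∈
          pureSpan (CohB1.tensorMod G (Twist.twist 𝒜 d)) (Twist.twist 𝒜 ((e : ℤ) + 1)) := by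
      apply closure_map_mem
      rintro _ ⟨j, s, rfl⟩
      have hs := ih d hd (e : ℤ) rfl ((twAdd' hU G d (e : ℤ) (d + (e : ℤ)) rfl).inv.app ⊤ s)
      have d1 := D1 hU (fs j) G d (e : ℤ) (d + (e : ℤ)) (d + ((e : ℤ) + 1)) rfl rfl hc
      have key2 : ∀ t ∈ pureSpan (CohB1.tensorMod G (Twist.twist 𝒜 d)) (Twist.twist 𝒜 (e : ℤ)),
          appHom (sig (fs j) (e : ℤ) (CohB1.tensorMod G (Twist.twist 𝒜 d))) ⊤ t ∈
            pureSpan (CohB1.tensorMod G (Twist.twist 𝒜 d)) (Twist.twist 𝒜 ((e : ℤ) + 1)) := by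
        apply closure_map_mem
        rintro _ ⟨a, t, rfl⟩
        apply AddSubgroup.subset_closure
        refine ⟨a, (mulBy (fs j) (e : ℤ)).app ⊤ t, ?_⟩
        rw [appHom_apply]
        exact sig_tm (fs j) (e : ℤ) _ ⊤ a t
      have h7 := key2 _ hs
      have h8 := app_congr d1 ⊤ ((twAdd' hU G d (e : ℤ) (d + (e : ℤ)) rfl).inv.app ⊤ s)
      rw [comp_app, comp_app, iso_hom_inv_app] at h8
      rw [appHom_apply, ← h8, iso_inv_hom_app]
      rw [appHom_apply] at h7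
      exact h7
    have h9 := key _ hms
    rw [appHom_apply, iso_inv_hom_app] at h9
    exact h9

end Main

end Groth.Agent.Lib.Helper7.MulSurj
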