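import Mathlib
import Groth.Prelude
import Groth.Agent.Lib.Helper7.MulSurj
import Groth.Agent.Lib.Helper7.Mumford

/-!
# Multiplication maps on `P^n_R`: `H^0(F(d)) ⊗ H^0(O(e)) → H^0(F(d) ⊗ O(e))` is surjective for
`m`-regular quasi-coherent `F`, `d ≥ m`, `e ≥ 0`.
-/
set_option autoImplicit false
universe u
open CategoryTheory CategoryTheory.Limits AlgebraicGeometry TopologicalSpace Opposite
open Scheme.Modules

noncomputable section

namespace Groth.Agent.Lib.Helper7.MulSurjPn

open Groth.Agent.Lib.Helper3 Groth.Agent.Lib.Helper3.InvTensor Groth.Agent.Lib.Helper7.TwFun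
  Groth.Agent.Lib.Helper7.TwProj Groth.Agent.Lib.Helper7.MulSurj

variable (n : ℕ) (R : Type u) [CommRing R]

/-- regularity hypothesis in all degrees `i ≥ 1` from the one in degrees `1 ≤ i ≤ n`. -/
lemma regular_all (G : (CohB1.ProjSpace n R).Modules) (hG : Coh.IsQCoh G) (m : ℤ)
    (h : ∀ i : ℕ, 1 ≤ i → i ≤ n → Subsingleton (Coh.HH (CohB1.ProjSpace n R)
      (CohB1.tensorMod G (Twist.twistProjSpace n R (m - i))) i))
    (i : ℕ) (hi : 1 ≤ i) : Subsingleton (Coh.HH (CohB1.ProjSpace n R)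
      (CohB1.tensorMod G (Twist.twistProjSpace n R (m - i))) i) := by
  by_cases hin : i ≤ n
  · exact h i hi hin
  · exact @Mumford.hvan n R _ _ (Mumford.isQCoh_tw n R G hG _) i (by omega)

/-- every global section of `G(d) ⊗ O(e)` is a sum of pure tensors of global sections. -/
theorem mem_pureSpan (G : (CohB1.ProjSpace n R).Modules) (hG : Coh.IsQCoh G) (m : ℤ)
    (h : ∀ i : ℕ, 1 ≤ i → Subsingleton (Coh.HH (CohB1.ProjSpace n R)
      (CohB1.tensorMod G (Twist.twistProjSpace n R (m - i))) i))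
    (d : ℤ) (hd : m ≤ d) (e : ℕ) (e' : ℤ) (he : e' = e)
    (z : Γ(CohB1.tensorMod (CohB1.tensorMod G (Twist.twistProjSpace n R d))
      (Twist.twistProjSpace n R e'), (⊤ : (CohB1.ProjSpace n R).Opens))) :
    z ∈ pureSpan (CohB1.tensorMod G (Twist.twistProjSpace n R d)) (Twist.twistProjSpace n R e') :=
  @core R _ _ _ _ (CohB1.polyGrading n R) _ (Mumford.hU n R) (Mumford.fs n R) n (Mumford.hcov n R)
    (Mumford.hvan n R) G hG m
    (fun i r hi hr => Mumford.regular_ge n R G hG m h i r hi hr) e d hd e' he z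

/-- the multiplication map `H^0(G(d)) ⊗ H^0(O(e)) → H^0(G(d) ⊗ O(e))` is surjective. -/
theorem surjective (G : (CohB1.ProjSpace n R).Modules) (hG : Coh.IsQCoh G) (m : ℤ)
    (h : ∀ i : ℕ, 1 ≤ i → Subsingleton (Coh.HH (CohB1.ProjSpace n R)
      (CohB1.tensorMod G (Twist.twistProjSpace n R (m - i))) i))
    (d : ℤ) (hd : m ≤ d) (e : ℕ) (e' : ℤ) (he : e' = e) :
    Function.Surjective ((toSheafify (Opens.grothendieckTopology (CohB1.ProjSpace n R))
      (CohB1.tensorPre (CohB1.tensorMod G (Twist.twistProjSpace n R d))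
        (Twist.twistProjSpace n R e')).presheaf).app (op (⊤ : (CohB1.ProjSpace n R).Opens))) :=
  surj_of_pureSpan _ _ (fun z => mem_pureSpan n R G hG m h d hd e e' he z)

end Groth.Agent.Lib.Helper7.MulSurjPn
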