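import Mathlib
import Groth.Prelude
import Groth.Agent.Lib.Helper7.MulSurjPn
import Groth.Agent.Lib.Helper3.GlobGen
import Groth.Agent.Lib.Helper3.FreeSec
import Groth.Agent.S3584

/-!
# An `m`-regular coherent module on `P^n_R` has `F(m)` globally generated

* `isGloballyGenerated_of_pureSpan`: if `M ⊗ L` is globally generated (`L` invertible) and every
  global section of `M ⊗ L` is a sum of pure tensors of global sections, then `M` is globally
  generated.
* `exists_isSpanned`: Serre's theorem in `IsSpanned` form on `P^n_R`.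
* `isGloballyGenerated_twist`.
-/
set_option autoImplicit false
universe u
open CategoryTheory CategoryTheory.Limits AlgebraicGeometry TopologicalSpace Opposite
open Scheme.Modules

noncomputable section

namespace Groth.Agent.Lib.Helper7.GGTwist

open Groth.Agent.Lib.Helper3 Groth.Agent.Lib.Helper3.InvTensor Groth.Agent.Lib.Helper3.InvMonoidal
  Groth.Agent.Lib.Helper3.TwistMul
  Groth.Agent.Lib.Helper7.TwFun Groth.Agent.Lib.Helper7.TwProj Groth.Agent.Lib.Helper7.MulSurj

section General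

variable {X : Scheme.{u}}

lemma zero_app' {M N : X.Modules} (U : X.Opens) (x : Γ(M, U)) : (0 : M ⟶ N).app U x = 0 := rfl

/-- if `M ⊗ L` is globally generated, `L` invertible, and all global sections of `M ⊗ L` are sums
of pure tensors of global sections, then `M` is globally generated. -/
theorem isGloballyGenerated_of_pureSpan (M L L' : X.Modules)
    (e : CohB1.tensorMod L L' ≅ Coh.structureModule X)
    (hgg : Curv2.IsGloballyGenerated (CohB1.tensorMod M L))
    (hps : ∀ z : Γ(CohB1.tensorMod M L, (⊤ : X.Opens)), z ∈ pureSpan M L) :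
    Curv2.IsGloballyGenerated M := by
  obtain ⟨I, q₀, hq₀⟩ := hgg
  obtain ⟨q, hq⟩ : ∃ q : QCExtend.freeMod X I ⟶ CohB1.tensorMod M L, Epi q := ⟨q₀, hq₀⟩
  refine ⟨Γ(M, (⊤ : X.Opens)), GlobGen.freeHom M (fun s => s), ?_⟩
  apply Abelian.epi_of_cokernel_π_eq_zero
  have hkill : ∀ z ∈ pureSpan M L,
      appHom (tensorMap (cokernel.π (GlobGen.freeHom M (fun s : Γ(M, (⊤ : X.Opens)) => s)))
        (𝟙 L)) ⊤ z = 0 := by
    intro z hz
    have hle : pureSpan M L ≤ AddMonoidHom.ker
        (appHom (tensorMap (cokernel.π (GlobGen.freeHom M (fun s : Γ(M, (⊤ : X.Opens)) => s)))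
          (𝟙 L)) ⊤) := by
      refine (AddSubgroup.closure_le _).mpr ?_
      rintro _ ⟨a, t, rfl⟩
      have ha : (cokernel.π (GlobGen.freeHom M (fun s : Γ(M, (⊤ : X.Opens)) => s))).app ⊤ a =
          0 := by
        have h1 : (GlobGen.freeHom M (fun s : Γ(M, (⊤ : X.Opens)) => s)).app ⊤
            (FreeSec.fs _ a ⊤) = a := FreeSec.freeHom_fs M (fun s => s) a
        rw [← h1, ← comp_app, cokernel.condition, zero_app']
      have h2 : appHom (tensorMap (cokernel.π (GlobGen.freeHom M
          (fun s : Γ(M, (⊤ : X.Opens)) => s))) (𝟙 L)) ⊤ (tm M L ⊤ a t) = 0 := by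
        rw [appHom_apply, tensorMap_tm, ha, tm_zero_left]
      exact h2
    exact hle hz
  have key : tensorMap (cokernel.π (GlobGen.freeHom M (fun s : Γ(M, (⊤ : X.Opens)) => s)))
      (𝟙 L) = 0 := by
    haveI := hq
    have h4 : q ≫ tensorMap (cokernel.π (GlobGen.freeHom M
        (fun s : Γ(M, (⊤ : X.Opens)) => s))) (𝟙 L) = q ≫ 0 := by
      apply FreeSec.free_hom_ext
      intro i
      have h3 := hkill _ (hps (q.app ⊤ (FreeSec.fs I i ⊤)))
      rw [appHom_apply] at h3
      rw [comp_app, h3, comp_zero, zero_app']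
    exact (cancel_epi q).mp h4
  haveI := isEquivalence_twR L L' e
  apply (twR L).map_injective
  exact key.trans ((twR L).map_zero _ _).symm

end General

section Pn

variable (n : ℕ) (R : Type u) [CommRing R]

/-- Serre: `F(d)` is spanned by global sections for `d ≫ 0`. -/
lemma exists_isSpanned (F : (Proj (CohB1.polyGrading n R)).Modules) [F.IsQuasicoherent]
    [F.IsFiniteType] :
    ∃ n₀ : ℕ, ∀ d : ℕ, n₀ ≤ d →
      GlobGen.IsSpanned (CohB1.tensorMod F (Twist.twist (CohB1.polyGrading n R) (d : ℤ))) := by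
  classical
  have hA : CohB1.IsAmple (Twist.twist (CohB1.polyGrading n R) 1) :=
    Groth.Agent.S3584.result (CohB1.polyGrading n R)
      (Finset.univ.image (MvPolynomial.X : Fin (n + 1) → MvPolynomial (Fin (n + 1)) R))
      (fun f hf => by
        obtain ⟨a, _, rfl⟩ := Finset.mem_image.mp hf
        exact MvPolynomial.isHomogeneous_X R a)
      (PnFinite.irrelevant_eq_span n R)
  haveI : CompactSpace (Proj (CohB1.polyGrading n R)) := hA.2.1
  obtain ⟨n₀, hn₀⟩ := GlobGen.exists_isSpanned_twist hA F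
  refine ⟨n₀, fun d hd => ?_⟩
  exact (hn₀ d hd).of_iso (tensorMapIso (Iso.refl F) (powIso (PnFinite.hunit n R 1) d).symm)

/-- an `m`-regular coherent module on `P^n_R` has `F(m)` globally generated. -/
theorem isGloballyGenerated_twist (F : (CohB1.ProjSpace n R).Modules) (hF : Coh.IsCoh F) (m : ℤ)
    (h : ∀ i : ℕ, 1 ≤ i → Subsingleton (Coh.HH (CohB1.ProjSpace n R)
      (CohB1.tensorMod F (Twist.twistProjSpace n R (m - i))) i)) :
    Curv2.IsGloballyGenerated (CohB1.tensorMod F (Twist.twistProjSpace n R m)) := by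
  obtain ⟨n₀, hn₀⟩ := @exists_isSpanned n R _ F hF.1 hF.2
  obtain ⟨d, hd1, hd2⟩ : ∃ d : ℕ, n₀ ≤ d ∧ m ≤ (d : ℤ) := ⟨max n₀ m.toNat, le_max_left _ _, by omega⟩
  obtain ⟨e, he⟩ : ∃ e : ℕ, (d : ℤ) - m = e :=
    ⟨((d : ℤ) - m).toNat, (Int.toNat_of_nonneg (by omega)).symm⟩
  have hde : m + (e : ℤ) = (d : ℤ) := by omega
  have hsp := (hn₀ d hd1).of_iso (twAdd' (Mumford.hU n R) F m (e : ℤ) (d : ℤ) hde).symm
  have hq : (CohB1.tensorMod (CohB1.tensorMod F (Twist.twistProjSpace n R m))
      (Twist.twistProjSpace n R (e : ℤ))).IsQuasicoherent :=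
    Mumford.isQCoh_tw n R _ (Mumford.isQCoh_tw n R F hF.1 m) (e : ℤ)
  have hgg := @GlobGen.IsSpanned.isGloballyGenerated _ _ hq hsp
  exact isGloballyGenerated_of_pureSpan _ _ _ (pairIso (Mumford.hU n R) (e : ℤ)) hgg
    (fun z => MulSurjPn.mem_pureSpan n R F hF.1 m h m le_rfl e (e : ℤ) rfl z)

end Pn

end Groth.Agent.Lib.Helper7.GGTwist
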