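import Mathlib
import Groth.Prelude
import Groth.Agent.Lib.Helper7.GGTwist
import Groth.Agent.Lib.Helper7.PnFinite
import Groth.Agent.Lib.Helper7.CechCard
import Groth.Agent.Lib.Helper3.QCLim
import Groth.Agent.S0844

/-!
# One step of a linear resolution of an `m`-regular coherent module on `P^n_R`

* `sub_coprod`: vanishing of cohomology of a finite coproduct.
* `sub_H1_left`: `H^1` of the kernel vanishes if `Γ`-surjective and `H^1` of the middle vanishes.
* `exists_fin_span`: finitely many global sections spanning `Γ(M, ⊤)` over `Γ(X, ⊤)`.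
* `epi_of_surj_top`: a `Γ`-surjective map onto a globally generated module is an epimorphism.
* `exists_epi_of_regular`, `regular_of_epi`: the two directions of the one-step resolution
  criterion for `m`-regularity.
-/
set_option autoImplicit false
universe u
open CategoryTheory CategoryTheory.Limits AlgebraicGeometry TopologicalSpace Opposite
open Scheme.Modules

noncomputable section

namespace Groth.Agent.Lib.Helper7.RegRes

open Groth.Agent.Lib.Helper3 Groth.Agent.Lib.Helper3.QCSec Groth.Agent.Lib.Helper3.InvGen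
  Groth.Agent.Lib.Helper3.InvTensor Groth.Agent.Lib.Helper3.InvMonoidal
  Groth.Agent.Lib.Helper3.TwistBasic Groth.Agent.Lib.Helper3.TwistMul
  Groth.Agent.Lib.Helper7.TwFun Groth.Agent.Lib.Helper7.TwProj Groth.Agent.Lib.Helper7.MulSurj
  Groth.Agent.Lib.Helper13 Groth.Agent.Lib.Helper13.SerreCrit1

section General

variable {X : Scheme.{u}}

lemma Hm_zero {M N : X.Modules} (j : ℕ) (x : Coh.HH X M j) : Hm (0 : M ⟶ N) j x = 0 := by
  have h := Hm_add (0 : M ⟶ N) 0 j x
  rw [add_zero] at h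
  exact add_eq_left.mp h.symm

lemma Hm_id (M : X.Modules) (j : ℕ) (x : Coh.HH X M j) : Hm (𝟙 M) j x = x := by
  unfold Hm
  rw [(TT X).map_id]
  exact Sheaf.H.map_id_apply x

lemma Hm_sum {M N : X.Modules} {ι : Type*} (s : Finset ι) (φ : ι → (M ⟶ N)) (j : ℕ)
    (x : Coh.HH X M j) : Hm (∑ a ∈ s, φ a) j x = ∑ a ∈ s, Hm (φ a) j x := by
  classical
  induction s using Finset.induction_on with
  | empty =>
    rw [Finset.sum_empty, Finset.sum_empty]
    exact Hm_zero j x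
  | insert a s ha ih =>
    rw [Finset.sum_insert ha, Finset.sum_insert ha, Hm_add, ih]

/-- cohomology vanishing for a finite biproduct. -/
lemma sub_biproduct (T : X.Modules ⥤ X.Modules) [T.Additive] {b : ℕ} (f : Fin b → X.Modules)
    (i : ℕ) (h : ∀ j, Subsingleton (Coh.HH X (T.obj (f j)) i)) :
    Subsingleton (Coh.HH X (T.obj (⨁ f)) i) := by
  refine subsingleton_of_forall_eq 0 fun x => ?_
  have h1 : Hm (T.map (∑ j : Fin b, biproduct.π f j ≫ biproduct.ι f j)) i x = x := by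
    rw [biproduct.total, T.map_id]
    exact Hm_id _ i x
  rw [← h1, T.map_sum, Hm_sum]
  apply Finset.sum_eq_zero
  intro j _
  rw [T.map_comp, Hm_comp, @Subsingleton.elim _ (h j) (Hm (T.map (biproduct.π f j)) i x) 0,
    map_zero]

/-- cohomology vanishing for a finite coproduct. -/
lemma sub_coprod (T : X.Modules ⥤ X.Modules) [T.Additive] {b : ℕ} (f : Fin b → X.Modules)
    (i : ℕ) (h : ∀ j, Subsingleton (Coh.HH X (T.obj (f j)) i)) :
    Subsingleton (Coh.HH X (T.obj (∐ f)) i) :=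
  subsingleton_HH_of_iso (T.mapIso (biproduct.isoCoproduct f).symm) i (sub_biproduct T f i h)

/-- `H^1` of the kernel vanishes when the map on global sections is surjective and `H^1` of the
middle term vanishes. -/
lemma sub_H1_left (S : ShortComplex X.Modules) (hS : S.ShortExact)
    (hsurj : Function.Surjective (S.g.app ⊤))
    (h2 : Subsingleton (Coh.HH X S.X₂ 1)) : Subsingleton (Coh.HH X S.X₁ 1) := by
  have hS' := shortExact_map_toSheaf S hS
  have hT : IsTerminal (⊤ : X.Opens) := isTerminalTop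
  refine subsingleton_of_forall_eq 0 fun x => ?_
  have hx : x.comp (Abelian.Ext.mk₀ (S.map (TT X)).f) (add_zero 1) = 0 :=
    @Subsingleton.elim _ h2 _ _
  obtain ⟨x₃, hx₃⟩ := Abelian.Ext.covariant_sequence_exact₁ _ hS' x hx (zero_add 1)
  obtain ⟨y, hy⟩ : ∃ y : (Coh.toAb S.X₂).obj.obj (op (⊤ : X.Opens)),
      ((TT X).map S.g).hom.app (op ⊤) y = Sheaf.H.equiv₀ (Coh.toAb S.X₃) hT x₃ :=
    hsurj (Sheaf.H.equiv₀ (Coh.toAb S.X₃) hT x₃)
  have h3 : Sheaf.H.map ((TT X).map S.g) 0 ((Sheaf.H.equiv₀ (Coh.toAb S.X₂) hT).symm y) = x₃ := by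
    rw [Sheaf.H.equiv₀_symm_naturality, hy]
    exact AddEquiv.symm_apply_apply _ _
  rw [← hx₃, ← h3, Sheaf.H.map_apply]
  have h4 := Abelian.Ext.comp_assoc_of_second_deg_zero
    ((Sheaf.H.equiv₀ (Coh.toAb S.X₂) hT).symm y) (Abelian.Ext.mk₀ ((TT X).map S.g))
    hS'.extClass (zero_add 1)
  refine h4.trans ?_
  have h5 : (Abelian.Ext.mk₀ ((TT X).map S.g)).comp hS'.extClass (zero_add 1) = 0 :=
    hS'.comp_extClass
  rw [h5, Abelian.Ext.comp_zero]
  rfl

lemma sub_H1_left' {A B C : X.Modules} (f : A ⟶ B) (g : B ⟶ C) (w : f ≫ g = 0)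
    (T : X.Modules ⥤ X.Modules) [T.PreservesZeroMorphisms]
    (hS : ((ShortComplex.mk f g w).map T).ShortExact)
    (hsurj : Function.Surjective ((T.map g).app ⊤))
    (h2 : Subsingleton (Coh.HH X (T.obj B) 1)) : Subsingleton (Coh.HH X (T.obj A) 1) :=
  sub_H1_left _ hS hsurj h2

lemma sub_right' {A B C : X.Modules} (f : A ⟶ B) (g : B ⟶ C) (w : f ≫ g = 0)
    (T : X.Modules ⥤ X.Modules) [T.PreservesZeroMorphisms]
    (hS : ((ShortComplex.mk f g w).map T).ShortExact) (j : ℕ)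
    (h2 : Subsingleton (Coh.HH X (T.obj B) j)) (h1 : Subsingleton (Coh.HH X (T.obj A) (j + 1))) :
    Subsingleton (Coh.HH X (T.obj C) j) :=
  sub_right _ hS j h2 h1

/-- a map hitting a spanning family of global sections is surjective on global sections. -/
lemma surj_of_span {A B : X.Modules} (g : A ⟶ B) {b : ℕ} (σ : Fin b → Γ(B, (⊤ : X.Opens)))
    (hσ : ∀ x : Γ(B, (⊤ : X.Opens)), ∃ r : Fin b → Γ(X, (⊤ : X.Opens)), x = ∑ j, r j • σ j)
    (hy : ∀ j, ∃ y : Γ(A, (⊤ : X.Opens)), g.app ⊤ y = σ j) :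
    Function.Surjective (g.app ⊤) := by
  intro x
  obtain ⟨r, rfl⟩ := hσ x
  choose y hy using hy
  refine ⟨∑ j, r j • y j, ?_⟩
  have h1 := map_sum (appHom g ⊤) (fun j => r j • y j) Finset.univ
  rw [appHom_apply] at h1
  rw [h1]
  apply Finset.sum_congr rfl
  intro j _
  rw [appHom_apply, Scheme.Modules.Hom.app_smul, hy j]

/-- a map onto a globally generated module which is surjective on global sections is an
epimorphism. -/
lemma epi_of_surj_top {A B : X.Modules} (g : A ⟶ B) (hB : Curv2.IsGloballyGenerated B)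
    (hg : Function.Surjective (g.app ⊤)) : Epi g := by
  obtain ⟨I, p₀, hp₀⟩ := hB
  obtain ⟨p, hp⟩ : ∃ p : QCExtend.freeMod X I ⟶ B, Epi p := ⟨p₀, hp₀⟩
  apply Preadditive.epi_of_cancel_zero
  intro Z t ht
  haveI := hp
  have h4 : p ≫ t = p ≫ 0 := by
    apply FreeSec.free_hom_ext
    intro i
    obtain ⟨y, hy⟩ := hg (p.app ⊤ (FreeSec.fs I i ⊤))
    rw [comp_app, ← hy, ← comp_app, ht, GGTwist.zero_app', comp_zero, GGTwist.zero_app']
  exact (cancel_epi p).mp h4

lemma isQCoh_coprod {b : ℕ} (f : Fin b → X.Modules) (h : ∀ j, (f j).IsQuasicoherent) :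
    SheafOfModules.IsQuasicoherent (R := X.ringCatSheaf) (∐ f : X.Modules) := by
  apply QCLim.isQuasicoherent_finite_colimit
  rintro ⟨j⟩
  exact h j

lemma exists_equiv₀_smul (M : X.Modules) (a : Coh.Γtop X) (y : Coh.HH X M 0) :
    ∃ r : Γ(X, (⊤ : X.Opens)),
      @Eq Γ(M, (⊤ : X.Opens))
        (Sheaf.H.equiv₀ (Coh.toAb M) (isTerminalTop : IsTerminal (⊤ : X.Opens)) (a • y))
        (@HSMul.hSMul Γ(X, (⊤ : X.Opens)) Γ(M, (⊤ : X.Opens)) Γ(M, (⊤ : X.Opens)) _ r
          (Sheaf.H.equiv₀ (Coh.toAb M) (isTerminalTop : IsTerminal (⊤ : X.Opens)) y)) :=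
  ⟨Coh.resTop X (op ⊤) a, (Sheaf.H.equiv₀_naturality isTerminalTop (Coh.smulAb M a) y).symm⟩

/-- if `H^0(X, M)` is a finite `A`-module, finitely many global sections span `Γ(M, ⊤)` over
`Γ(X, ⊤)`. -/
lemma exists_fin_span (A : Type u) [CommRing A] (X : Scheme.{u}) [X.Over (Spec (CommRingCat.of A))]
    (M : X.Modules) [Module.Finite A (Coh.HH X M 0)] :
    ∃ (b : ℕ) (σ : Fin b → Γ(M, (⊤ : X.Opens))),
      ∀ x : Γ(M, (⊤ : X.Opens)), ∃ r : Fin b → Γ(X, (⊤ : X.Opens)), x = ∑ j, r j • σ j := by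
  obtain ⟨b, s, hs⟩ := Module.Finite.exists_fin (R := A) (M := Coh.HH X M 0)
  have hT : IsTerminal (⊤ : X.Opens) := isTerminalTop
  refine ⟨b, fun j => Sheaf.H.equiv₀ (Coh.toAb M) hT (s j), fun x => ?_⟩
  obtain ⟨z, hz⟩ := (Sheaf.H.equiv₀ (Coh.toAb M) hT).surjective x
  have hx : z ∈ Submodule.span A (Set.range s) := by
    rw [hs]; trivial
  obtain ⟨c, hc⟩ := (Submodule.mem_span_range_iff_exists_fun A).mp hx
  have hr : ∀ j, ∃ r : Γ(X, (⊤ : X.Opens)),
      @Eq Γ(M, (⊤ : X.Opens)) (Sheaf.H.equiv₀ (Coh.toAb M) hT (c j • s j))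
        (@HSMul.hSMul Γ(X, (⊤ : X.Opens)) Γ(M, (⊤ : X.Opens)) Γ(M, (⊤ : X.Opens)) _ r
          (Sheaf.H.equiv₀ (Coh.toAb M) hT (s j))) := fun j =>
    exists_equiv₀_smul M (Coh.toGlobal (X ↘ Spec (CommRingCat.of A)) (c j)) (s j)
  choose r hr using hr
  refine ⟨r, ?_⟩
  have h1 := congrArg (Sheaf.H.equiv₀ (Coh.toAb M) hT) hc
  rw [map_sum] at h1
  exact (hz.symm.trans h1.symm).trans (Finset.sum_congr rfl (fun j _ => hr j))

/-- from spanning sections of `F ⊗ L` to a map `L'^b → F`. -/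
lemma exists_desc (L L' : X.Modules) (e : CohB1.tensorMod L L' ≅ Coh.structureModule X)
    (pair : (twR L).obj L' ≅ Coh.structureModule X) (F : X.Modules) {b : ℕ}
    (σ : Fin b → Γ((twR L).obj F, (⊤ : X.Opens))) :
    ∃ φ : (∐ fun _ : Fin b => L') ⟶ F,
      ∀ j, ∃ y : Γ((twR L).obj (∐ fun _ : Fin b => L'), (⊤ : X.Opens)),
        ((twR L).map φ).app ⊤ y = σ j := by
  haveI := isEquivalence_twR L L' e
  obtain ⟨φj, hφj⟩ : ∃ φj : Fin b → (L' ⟶ F), ∀ j, (twR L).map (φj j) =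
      pair.hom ≫ InvAmple.globalHom ((twR L).obj F) (σ j) :=
    ⟨fun j => (twR L).preimage (X := L') (Y := F)
        (pair.hom ≫ InvAmple.globalHom ((twR L).obj F) (σ j)),
      fun j => (twR L).map_preimage _⟩
  refine ⟨Sigma.desc φj, fun j => ?_⟩
  refine ⟨((twR L).map (Sigma.ι (fun _ : Fin b => L') j)).app ⊤
    (pair.inv.app ⊤ (ofFun ⊤ 1)), ?_⟩
  have h1 : (twR L).map (Sigma.ι (fun _ : Fin b => L') j) ≫ (twR L).map (Sigma.desc φj) =
      pair.hom ≫ InvAmple.globalHom ((twR L).obj F) (σ j) := by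
    rw [← (twR L).map_comp, Sigma.ι_desc, hφj j]
  have h2 := app_congr h1 ⊤ (pair.inv.app ⊤ (ofFun ⊤ 1))
  rw [comp_app, comp_app, iso_hom_inv_app] at h2
  rw [h2]
  have h3 := InvAmple.sec_globalHom ((twR L).obj F) (σ j) ⊤
  rw [res_self] at h3
  exact h3

end General

section Proj

variable {R A : Type u} [CommRing R] [CommRing A] [Algebra R A] {𝒜 : ℕ → Submodule R A}
  [GradedAlgebra 𝒜]

/-- `O(a) ⊗ O(b) ≅ O(s)` for `a + b = s`. -/
def mulIso' (hU : HU 𝒜) (a b s : ℤ) (h : a + b = s) :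
    CohB1.tensorMod (Twist.twist 𝒜 a) (Twist.twist 𝒜 b) ≅ Twist.twist 𝒜 s :=
  mulIsoRight a b (hU b) ≪≫ twistCast h

/-- `O(a) ⊗ O(b) ≅ O` for `a + b = 0`. -/
def pairIso' (hU : HU 𝒜) (a b : ℤ) (h : a + b = 0) :
    CohB1.tensorMod (Twist.twist 𝒜 a) (Twist.twist 𝒜 b) ≅ Coh.structureModule (Proj 𝒜) :=
  mulIso' hU a b 0 h ≪≫ (unitIso (𝒜 := 𝒜)).symm

end Proj

section Pn

variable (n : ℕ) (R : Type u) [CommRing R]

/-- vanishing of the cohomology of twists of `O(-m)^b`. -/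
lemma sub_P (b : ℕ) (m c s : ℤ) (hs : -m + c = s) (q : ℕ) (h₀ : ¬ (q = 0 ∧ 0 ≤ s))
    (hn : ¬ (q = n ∧ s ≤ -((n : ℤ) + 1))) :
    Subsingleton (Coh.HH (CohB1.ProjSpace n R)
      (CohB1.tensorMod (∐ fun _ : Fin b => Twist.twistProjSpace n R (-m))
        (Twist.twistProjSpace n R c)) q) := by
  have h1 : Subsingleton (Coh.HH (CohB1.ProjSpace n R)
      (CohB1.tensorMod (Twist.twistProjSpace n R (-m)) (Twist.twistProjSpace n R c)) q) :=
    subsingleton_HH_of_iso (mulIso' (Mumford.hU n R) (-m) c s hs) q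
      (Groth.Agent.S0844.result R n s q h₀ hn)
  exact sub_coprod (twR (Twist.twistProjSpace n R c))
    (fun _ : Fin b => Twist.twistProjSpace n R (-m)) q (fun _ => h1)

/-- (⇐): if `O(-m)^b → F` is an epimorphism with `(m+1)`-regular kernel, then `F` is
`m`-regular. -/
theorem regular_of_epi (F : (CohB1.ProjSpace n R).Modules) (hF : Coh.IsQCoh F) (m : ℤ) (b : ℕ)
    (φ : (∐ fun _ : Fin b => Twist.twistProjSpace n R (-m)) ⟶ F) [Epi φ]
    (hK : ∀ i : ℕ, 1 ≤ i → i ≤ n → Subsingleton (Coh.HH (CohB1.ProjSpace n R)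
      (CohB1.tensorMod (kernel φ) (Twist.twistProjSpace n R (m + 1 - i))) i)) :
    ∀ i : ℕ, 1 ≤ i → i ≤ n → Subsingleton (Coh.HH (CohB1.ProjSpace n R)
      (CohB1.tensorMod F (Twist.twistProjSpace n R (m - i))) i) := by
  intro i hi1 hin
  have hS := CechCard.shortExact_kernel φ
  have hSc := Mumford.shortExact_tw n R (m - (i : ℤ)) _ hS
  have hP := sub_P n R b m (m - (i : ℤ)) (-(i : ℤ)) (by ring) i (by rintro ⟨h1, -⟩; omega)
    (by rintro ⟨h1, h2⟩; omega)
  have hK1 : Subsingleton (Coh.HH (CohB1.ProjSpace n R)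
      (CohB1.tensorMod (kernel φ) (Twist.twistProjSpace n R (m - (i : ℤ)))) (i + 1)) := by
    by_cases hlt : i + 1 ≤ n
    · have h1 := hK (i + 1) (by omega) hlt
      have ec : m + 1 - ((i + 1 : ℕ) : ℤ) = m - (i : ℤ) := by push_cast; ring
      rw [ec] at h1
      exact h1
    · haveI hPq : Coh.IsQCoh (∐ fun _ : Fin b => Twist.twistProjSpace n R (-m)) :=
        isQCoh_coprod _ (fun _ => (PnFinite.isCoh_twist n R (-m)).1)
      haveI := hF
      have hKq : Coh.IsQCoh (kernel φ) := QCProps.isQuasicoherent_kernel φ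
      have hq := Mumford.isQCoh_tw n R (kernel φ) hKq (m - (i : ℤ))
      exact @Mumford.hvan n R _ _ hq (i + 1) (by omega)
  exact sub_right' (kernel.ι φ) φ (kernel.condition φ) (twR (Twist.twistProjSpace n R (m - (i : ℤ))))
    hSc i hP hK1

/-- (⇒): an `m`-regular coherent module is a quotient of some `O(-m)^b` with `(m+1)`-regular
kernel. -/
theorem exists_epi_of_regular [IsNoetherianRing R] (F : (CohB1.ProjSpace n R).Modules)
    (hF : Coh.IsCoh F) (m : ℤ)
    (h : ∀ i : ℕ, 1 ≤ i → i ≤ n → Subsingleton (Coh.HH (CohB1.ProjSpace n R)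
      (CohB1.tensorMod F (Twist.twistProjSpace n R (m - i))) i)) :
    ∃ (b : ℕ) (φ : (∐ fun _ : Fin b => Twist.twistProjSpace n R (-m)) ⟶ F), Epi φ ∧
      ∀ i : ℕ, 1 ≤ i → i ≤ n → Subsingleton (Coh.HH (CohB1.ProjSpace n R)
        (CohB1.tensorMod (kernel φ) (Twist.twistProjSpace n R (m + 1 - i))) i) := by
  have hall := MulSurjPn.regular_all n R F hF.1 m h
  have hgg : Curv2.IsGloballyGenerated (CohB1.tensorMod F (Twist.twistProjSpace n R m)) :=
    GGTwist.isGloballyGenerated_twist n R F hF m hall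
  have hMcoh : Coh.IsCoh (CohB1.tensorMod F (Twist.twistProjSpace n R m)) := by
    haveI := hF.1
    haveI := hF.2
    exact ⟨Mumford.isQCoh_tw n R F hF.1 m,
      InvCoh.isFiniteType_tensorMod F _ (isInvertible_twist (Mumford.hU n R) m)⟩
  haveI hfin : Module.Finite R (Coh.HH (CohB1.ProjSpace n R)
      (CohB1.tensorMod F (Twist.twistProjSpace n R m)) 0) :=
    PnFinite.finite_HH n R (n + 1) 0 (zero_add _) _ hMcoh
  obtain ⟨b, σ, hσ⟩ := exists_fin_span R (CohB1.ProjSpace n R)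
    (CohB1.tensorMod F (Twist.twistProjSpace n R m))
  obtain ⟨φ, hφ⟩ := exists_desc (Twist.twistProjSpace n R m) (Twist.twistProjSpace n R (-m))
    (pairIso (Mumford.hU n R) m) (pairIso' (Mumford.hU n R) (-m) m (neg_add_cancel m)) F σ
  have hsurj : Function.Surjective (((twR (Twist.twistProjSpace n R m)).map φ).app ⊤) :=
    surj_of_span _ σ hσ hφ
  have hepiT : Epi ((twR (Twist.twistProjSpace n R m)).map φ) := epi_of_surj_top _ hgg hsurj
  haveI := isEquivalence_twR (Twist.twistProjSpace n R m) (Twist.twistProjSpace n R (-m))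
    (pairIso (Mumford.hU n R) m)
  have hepi : Epi φ := (twR (Twist.twistProjSpace n R m)).epi_of_epi_map hepiT
  refine ⟨b, φ, hepi, ?_⟩
  haveI := hepi
  have hS := CechCard.shortExact_kernel φ
  intro i hi1 hin
  rcases Nat.lt_or_ge 1 i with h2 | h2
  · obtain ⟨i', rfl⟩ : ∃ i', i = i' + 1 := ⟨i - 1, by omega⟩
    have ec : m + 1 - ((i' + 1 : ℕ) : ℤ) = m - (i' : ℤ) := by push_cast; ring
    rw [ec]
    exact sub_left' (kernel.ι φ) φ (kernel.condition φ)
      (twR (Twist.twistProjSpace n R (m - (i' : ℤ))))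
      (Mumford.shortExact_tw n R (m - (i' : ℤ)) _ hS) i' (h i' (by omega) (by omega))
      (sub_P n R b m (m - (i' : ℤ)) (-(i' : ℤ)) (by ring) (i' + 1) (by rintro ⟨h1, -⟩; omega)
        (by rintro ⟨h1, h2⟩; omega))
  · obtain rfl : i = 1 := by omega
    have ec : m + 1 - ((1 : ℕ) : ℤ) = m := by push_cast; ring
    rw [ec]
    exact sub_H1_left' (kernel.ι φ) φ (kernel.condition φ) (twR (Twist.twistProjSpace n R m))
      (Mumford.shortExact_tw n R m _ hS) hsurj
      (sub_P n R b m m 0 (by ring) 1 (by rintro ⟨h1, -⟩; omega) (by rintro ⟨-, h2⟩; omega))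

end Pn

end Groth.Agent.Lib.Helper7.RegRes
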