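import Mathlib
import Groth.Prelude
import Groth.Agent.Lib.Helper7.RegRes
import Groth.Agent.Lib.Helper7.SerreVan

/-!
# Mumford's lemma: regularity of `F` from regularity of a hyperplane section

For `ι : F(-1) ↪ F` on `P^n_k` with `m`-regular cokernel `G`:
`H^i(F(j)) = 0` for `i ≥ 2`, `j ≥ m - i`; `h^1(F(j))` is non-increasing for `j ≥ m - 1` and
vanishes for `j ≥ m - 1 + h^1(F(m-1))`.
-/
set_option autoImplicit false
universe u
open CategoryTheory CategoryTheory.Limits AlgebraicGeometry TopologicalSpace Opposite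
open Scheme.Modules

noncomputable section

namespace Groth.Agent.Lib.Helper7.MumLemA

open Groth.Agent.Lib.Helper3 Groth.Agent.Lib.Helper3.QCSec Groth.Agent.Lib.Helper3.InvGen
  Groth.Agent.Lib.Helper3.InvTensor Groth.Agent.Lib.Helper3.InvMonoidal
  Groth.Agent.Lib.Helper3.TwistBasic Groth.Agent.Lib.Helper3.TwistMul
  Groth.Agent.Lib.Helper7.TwFun Groth.Agent.Lib.Helper7.TwProj Groth.Agent.Lib.Helper7.MulSurj
  Groth.Agent.Lib.Helper7.RegRes Groth.Agent.Lib.Helper7.CohFinite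
  Groth.Agent.Lib.Helper13 Groth.Agent.Lib.Helper13.SerreCrit1

section Abelian

variable {𝒞 : Type*} [Category 𝒞] [Abelian 𝒞]

lemma shortExact_cokernel {A B : 𝒞} (f : A ⟶ B) [Mono f] :
    (ShortComplex.mk f (cokernel.π f) (cokernel.condition f)).ShortExact := by
  have h1 : Mono (ShortComplex.mk f (cokernel.π f) (cokernel.condition f)).f :=
    inferInstanceAs (Mono f)
  have h2 : Epi (ShortComplex.mk f (cokernel.π f) (cokernel.condition f)).g :=
    inferInstanceAs (Epi (cokernel.π f))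
  exact ShortComplex.ShortExact.mk'
    (ShortComplex.exact_of_g_is_cokernel _ (cokernelIsCokernel f)) h1 h2

end Abelian

section Seq

lemma seq_nat (b : ℕ → ℕ) (hA : ∀ t, b (t + 1) ≤ b t)
    (hB : ∀ t, b (t + 1) = b t → b (t + 2) = b (t + 1))
    (hC : ∃ T, ∀ t, T ≤ t → b t = 0) : ∀ t, b 0 ≤ t → b t = 0 := by
  obtain ⟨T, hT⟩ := hC
  have hstep : ∀ s, b (s + 1) = b s → ∀ r, b (s + r + 1) = b (s + r) := by
    intro s hs r
    induction r with
    | zero => exact hs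
    | succ r ih => exact hB (s + r) ih
  have hconst : ∀ s, b (s + 1) = b s → ∀ r, b (s + r) = b s := by
    intro s hs r
    induction r with
    | zero => rfl
    | succ r ih => exact (hstep s hs r).trans ih
  have hzero : ∀ s, b (s + 1) = b s → b s = 0 := by
    intro s hs
    rw [← hconst s hs T]
    exact hT _ (by omega)
  have hdec : ∀ s, b s ≠ 0 → b s + s ≤ b 0 := by
    intro s
    induction s with
    | zero => intro _; omega
    | succ s ih =>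
      intro hne
      have h1 := hA s
      have h2 : b s ≠ 0 := by omega
      have h3 := ih h2
      have h4 : b (s + 1) ≠ b s := fun h => h2 (hzero s h)
      omega
  intro t ht
  by_contra hne
  have := hdec t hne
  omega

lemma seq_int (a : ℤ → ℕ) (m : ℤ)
    (hA : ∀ j, m - 1 ≤ j → a j ≤ a (j - 1))
    (hB : ∀ j, m ≤ j → a j = a (j - 1) → a (j + 1) = a j)
    (hC : ∃ d₀ : ℤ, ∀ j, d₀ ≤ j → a j = 0) :
    ∀ j, m - 1 + (a (m - 1) : ℤ) ≤ j → a j = 0 := by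
  obtain ⟨d₀, hd₀⟩ := hC
  have key := seq_nat (fun t => a (m - 1 + (t : ℤ)))
    (fun t => by
      have h := hA (m - 1 + ((t + 1 : ℕ) : ℤ)) (by omega)
      have e : m - 1 + ((t + 1 : ℕ) : ℤ) - 1 = m - 1 + (t : ℤ) := by push_cast; ring
      rw [e] at h
      exact h)
    (fun t ht => by
      have e : m - 1 + ((t + 1 : ℕ) : ℤ) - 1 = m - 1 + (t : ℤ) := by push_cast; ring
      have e2 : m - 1 + ((t + 1 : ℕ) : ℤ) + 1 = m - 1 + ((t + 2 : ℕ) : ℤ) := by push_cast; ring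
      have h := hB (m - 1 + ((t + 1 : ℕ) : ℤ)) (by push_cast; omega)
      rw [e, e2] at h
      exact h ht)
    ⟨(d₀ - (m - 1)).toNat, fun t ht => hd₀ _ (by omega)⟩
  intro j hj
  obtain ⟨t, rfl⟩ : ∃ t : ℕ, j = m - 1 + (t : ℤ) := ⟨(j - (m - 1)).toNat, by omega⟩
  have h0 : a (m - 1 + ((0 : ℕ) : ℤ)) = a (m - 1) := by
    rw [Nat.cast_zero, add_zero]
  exact key t (by
    show a (m - 1 + ((0 : ℕ) : ℤ)) ≤ t
    rw [h0]
    omega)

end Seq

section General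

variable {X : Scheme.{u}}

lemma Hm_iso_inv_hom {M N : X.Modules} (e : M ≅ N) (j : ℕ) (x : Coh.HH X M j) :
    Hm e.inv j (Hm e.hom j x) = x := by
  rw [← Hm_comp, e.hom_inv_id]
  exact Hm_id M j x

lemma Hm_iso_hom_inv {M N : X.Modules} (e : M ≅ N) (j : ℕ) (x : Coh.HH X N j) :
    Hm e.hom j (Hm e.inv j x) = x := by
  rw [← Hm_comp, e.inv_hom_id]
  exact Hm_id N j x

lemma surj_comp_iso {A A' B : X.Modules} (e : A' ≅ A) (f : A' ⟶ B) (j : ℕ)
    (hf : ∀ z, ∃ y, Hm f j y = z) (z : Coh.HH X B j) : ∃ x, Hm (e.inv ≫ f) j x = z := by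
  obtain ⟨y, hy⟩ := hf z
  exact ⟨Hm e.hom j y, by rw [Hm_comp, Hm_iso_inv_hom, hy]⟩

lemma inj_of_comp_iso {A A' B : X.Modules} (e : A' ≅ A) (f : A' ⟶ B) (j : ℕ)
    (h : ∀ x, Hm (e.inv ≫ f) j x = 0 → x = 0) (y : Coh.HH X A' j) (hy : Hm f j y = 0) :
    y = 0 := by
  have h1 : Hm (e.inv ≫ f) j (Hm e.hom j y) = 0 := by
    rw [Hm_comp, Hm_iso_inv_hom, hy]
  have h2 := h _ h1
  rw [← Hm_iso_inv_hom e j y, h2, map_zero]

lemma inj_comp_iso {A A' B : X.Modules} (e : A' ≅ A) (f : A' ⟶ B) (j : ℕ)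
    (h : ∀ y, Hm f j y = 0 → y = 0) (x : Coh.HH X A j) (hx : Hm (e.inv ≫ f) j x = 0) :
    x = 0 := by
  rw [Hm_comp] at hx
  have h2 := h _ hx
  rw [← Hm_iso_hom_inv e j x, h2, map_zero]

/-- exactness in the middle: `H^j(f)` is surjective if `H^j` of the cokernel vanishes. -/
lemma Hm_surj_mid (S : ShortComplex X.Modules) (hS : S.ShortExact) (j : ℕ)
    (h3 : Subsingleton (Coh.HH X S.X₃ j)) (x : Coh.HH X S.X₂ j) : ∃ y, Hm S.f j y = x := by
  have hS' := shortExact_map_toSheaf S hS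
  have hx : x.comp (Abelian.Ext.mk₀ (S.map (TT X)).g) (add_zero j) = 0 :=
    @Subsingleton.elim _ h3 _ _
  obtain ⟨y, hy⟩ := Abelian.Ext.covariant_sequence_exact₂ _ hS' x hx
  exact ⟨y, hy⟩

lemma Hm_surj_mid' {A B C : X.Modules} (f : A ⟶ B) (g : B ⟶ C) (w : f ≫ g = 0)
    (T : X.Modules ⥤ X.Modules) [T.PreservesZeroMorphisms]
    (hS : ((ShortComplex.mk f g w).map T).ShortExact) (j : ℕ)
    (h3 : Subsingleton (Coh.HH X (T.obj C) j)) (x : Coh.HH X (T.obj B) j) :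
    ∃ y, Hm (T.map f) j y = x :=
  Hm_surj_mid _ hS j h3 x

/-- if `H^1(f)` is injective then `Γ(g)` is surjective. -/
lemma surj_top_of_H1_inj (S : ShortComplex X.Modules) (hS : S.ShortExact)
    (hinj : ∀ x : Coh.HH X S.X₁ 1, Hm S.f 1 x = 0 → x = 0) :
    Function.Surjective (S.g.app ⊤) := by
  have hS' := shortExact_map_toSheaf S hS
  have hT : IsTerminal (⊤ : X.Opens) := isTerminalTop
  intro y
  obtain ⟨x₃, hx₃⟩ : ∃ x₃ : Sheaf.H (S.map (TT X)).X₃ 0,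
      Sheaf.H.equiv₀ (S.map (TT X)).X₃ hT x₃ = y :=
    ⟨(Sheaf.H.equiv₀ (S.map (TT X)).X₃ hT).symm y, AddEquiv.apply_symm_apply _ _⟩
  have hx : x₃.comp hS'.extClass (zero_add 1) = 0 := by
    apply hinj
    have h6 : Hm S.f 1 (x₃.comp hS'.extClass (zero_add 1)) =
        (x₃.comp hS'.extClass (zero_add 1)).comp (Abelian.Ext.mk₀ ((TT X).map S.f))
          (add_zero 1) := rfl
    have h4 := Abelian.Ext.comp_assoc_of_third_deg_zero x₃ hS'.extClass
      (Abelian.Ext.mk₀ ((TT X).map S.f)) (zero_add 1)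
    refine h6.trans (h4.trans ?_)
    have h5 : hS'.extClass.comp (Abelian.Ext.mk₀ ((TT X).map S.f)) (add_zero 1) = 0 :=
      hS'.extClass_comp
    rw [h5, Abelian.Ext.comp_zero]
  obtain ⟨x₂, hx₂⟩ := Abelian.Ext.covariant_sequence_exact₃ _ hS' x₃ (zero_add 1) hx
  refine ⟨Sheaf.H.equiv₀ (Coh.toAb S.X₂) hT x₂, ?_⟩
  have h2 := Sheaf.H.equiv₀_naturality hT ((TT X).map S.g) x₂
  have h3 : Sheaf.H.map ((TT X).map S.g) 0 x₂ = x₃ := hx₂
  rw [h3] at h2
  exact h2.trans hx₃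

lemma surj_top_of_H1_inj' {A B C : X.Modules} (f : A ⟶ B) (g : B ⟶ C) (w : f ≫ g = 0)
    (T : X.Modules ⥤ X.Modules) [T.PreservesZeroMorphisms]
    (hS : ((ShortComplex.mk f g w).map T).ShortExact)
    (hinj : ∀ x : Coh.HH X (T.obj A) 1, Hm (T.map f) 1 x = 0 → x = 0) :
    Function.Surjective ((T.map g).app ⊤) :=
  surj_top_of_H1_inj _ hS hinj

/-- if `Γ(g)` is surjective then `H^1(f)` is injective. -/
lemma H1_inj_of_surj_top (S : ShortComplex X.Modules) (hS : S.ShortExact)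
    (hsurj : Function.Surjective (S.g.app ⊤)) (x : Coh.HH X S.X₁ 1) (hx : Hm S.f 1 x = 0) :
    x = 0 := by
  have hS' := shortExact_map_toSheaf S hS
  have hT : IsTerminal (⊤ : X.Opens) := isTerminalTop
  have hx' : x.comp (Abelian.Ext.mk₀ (S.map (TT X)).f) (add_zero 1) = 0 := hx
  obtain ⟨x₃, hx₃⟩ := Abelian.Ext.covariant_sequence_exact₁ _ hS' x hx' (zero_add 1)
  obtain ⟨y, hy⟩ : ∃ y : (Coh.toAb S.X₂).obj.obj (op (⊤ : X.Opens)),
      ((TT X).map S.g).hom.app (op ⊤) y = Sheaf.H.equiv₀ (Coh.toAb S.X₃) hT x₃ :=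
    hsurj (Sheaf.H.equiv₀ (Coh.toAb S.X₃) hT x₃)
  have h3 : Sheaf.H.map ((TT X).map S.g) 0 ((Sheaf.H.equiv₀ (Coh.toAb S.X₂) hT).symm y) = x₃ := by
    rw [Sheaf.H.equiv₀_symm_naturality, hy]
    exact AddEquiv.symm_apply_apply _ _
  rw [← hx₃, ← h3, Sheaf.H.map_apply]
  have h4 := Abelian.Ext.comp_assoc_of_second_deg_zero
    ((Sheaf.H.equiv₀ (Coh.toAb S.X₂) hT).symm y) (Abelian.Ext.mk₀ ((TT X).map S.g))
    hS'.extClass (zero_add 1)
  refine h4.trans ?_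
  have h5 : (Abelian.Ext.mk₀ ((TT X).map S.g)).comp hS'.extClass (zero_add 1) = 0 :=
    hS'.comp_extClass
  rw [h5, Abelian.Ext.comp_zero]
  rfl

lemma H1_inj_of_surj_top' {A B C : X.Modules} (f : A ⟶ B) (g : B ⟶ C) (w : f ≫ g = 0)
    (T : X.Modules ⥤ X.Modules) [T.PreservesZeroMorphisms]
    (hS : ((ShortComplex.mk f g w).map T).ShortExact)
    (hsurj : Function.Surjective ((T.map g).app ⊤)) (x : Coh.HH X (T.obj A) 1)
    (hx : Hm (T.map f) 1 x = 0) : x = 0 :=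
  H1_inj_of_surj_top _ hS hsurj x hx

lemma surj_twR_iff {L A B : X.Modules} (g : A ⟶ B) :
    Function.Surjective (((twR L).map g).app ⊤) ↔
      Function.Surjective ((tensorMap g (𝟙 L)).app ⊤) := Iff.rfl

end General

section Proj

variable {R A : Type u} [CommRing R] [CommRing A] [Algebra R A] {𝒜 : ℕ → Submodule R A}
  [GradedAlgebra 𝒜]

lemma twAdd'_natural (hU : HU 𝒜) {G G' : (Proj 𝒜).Modules} (φ : G ⟶ G') (a b s : ℤ)
    (h : a + b = s) :
    tensorMap (tensorMap φ (𝟙 (Twist.twist 𝒜 a))) (𝟙 (Twist.twist 𝒜 b)) ≫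
        (twAdd' hU G' a b s h).hom =
      (twAdd' hU G a b s h).hom ≫ tensorMap φ (𝟙 (Twist.twist 𝒜 s)) := by
  apply tensor_hom_ext₂
  intro U g e l
  have hL : (tensorMap (tensorMap φ (𝟙 (Twist.twist 𝒜 a))) (𝟙 (Twist.twist 𝒜 b)) ≫
      (twAdd' hU G' a b s h).hom).app U (tm _ _ U (tm G _ U g e) l) =
      tm G' _ U (φ.app U g) ((twistCast h).hom.app U (mulSec e l)) := by
    rw [comp_app, tensorMap_tm, tensorMap_tm, id_app', id_app', twAdd'_hom_tm]
  have hR : ((twAdd' hU G a b s h).hom ≫ tensorMap φ (𝟙 (Twist.twist 𝒜 s))).app U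
      (tm _ _ U (tm G _ U g e) l) =
      tm G' _ U (φ.app U g) ((twistCast h).hom.app U (mulSec e l)) := by
    rw [comp_app, twAdd'_hom_tm, tensorMap_tm, id_app']
  exact hL.trans hR.symm

/-- if `Γ(F(j)) → Γ(G(j))` is surjective and `Γ(G(j) ⊗ O(b))` is spanned by pure tensors of global
sections, then `Γ(F(s)) → Γ(G(s))` is surjective for `s = j + b`. -/
lemma surj_succ (hU : HU 𝒜) {F G : (Proj 𝒜).Modules} (π : F ⟶ G) (j b s : ℤ) (h : j + b = s)
    (hs : Function.Surjective ((tensorMap π (𝟙 (Twist.twist 𝒜 j))).app ⊤))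
    (hps : ∀ z : Γ(CohB1.tensorMod (CohB1.tensorMod G (Twist.twist 𝒜 j)) (Twist.twist 𝒜 b),
      (⊤ : (Proj 𝒜).Opens)),
      z ∈ pureSpan (CohB1.tensorMod G (Twist.twist 𝒜 j)) (Twist.twist 𝒜 b)) :
    Function.Surjective ((tensorMap π (𝟙 (Twist.twist 𝒜 s))).app ⊤) := by
  have h1 : ∀ z' : Γ(CohB1.tensorMod (CohB1.tensorMod G (Twist.twist 𝒜 j)) (Twist.twist 𝒜 b),
      (⊤ : (Proj 𝒜).Opens)),
      ∃ y', (tensorMap (tensorMap π (𝟙 (Twist.twist 𝒜 j))) (𝟙 (Twist.twist 𝒜 b))).app ⊤ y' =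
        z' := by
    intro z'
    have hle : pureSpan (CohB1.tensorMod G (Twist.twist 𝒜 j)) (Twist.twist 𝒜 b) ≤
        AddMonoidHom.range (appHom
          (tensorMap (tensorMap π (𝟙 (Twist.twist 𝒜 j))) (𝟙 (Twist.twist 𝒜 b))) ⊤) := by
      refine (AddSubgroup.closure_le _).mpr ?_
      rintro _ ⟨g, l, rfl⟩
      obtain ⟨y, hy⟩ := hs g
      refine ⟨tm _ _ ⊤ y l, ?_⟩
      rw [appHom_apply, tensorMap_tm, hy, id_app']
    obtain ⟨y', hy'⟩ := hle (hps z')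
    exact ⟨y', hy'⟩
  intro z
  obtain ⟨y', hy'⟩ := h1 ((twAdd' hU G j b s h).inv.app ⊤ z)
  refine ⟨(twAdd' hU F j b s h).hom.app ⊤ y', ?_⟩
  have h2 := app_congr (twAdd'_natural hU π j b s h) ⊤ y'
  rw [comp_app, comp_app, hy', iso_hom_inv_app] at h2
  exact h2.symm

end Proj

end Groth.Agent.Lib.Helper7.MumLemA
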