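import Mathlib
import Groth.Prelude
import Groth.Agent.Lib.Helper7.MumLemA

/-!
# Mumford's lemma on `P^n_k`: regularity of `F` from regularity of a hyperplane section

For `ι : F(-1) ↪ F` on `P^n_k` with `m`-regular cokernel `G`:
`H^i(F(j)) = 0` for `i ≥ 2`, `j ≥ m - i`; `h^1(F(j))` is non-increasing for `j ≥ m - 1` and
vanishes for `j ≥ m - 1 + h^1(F(m-1))`.
-/
set_option autoImplicit false
universe u
open CategoryTheory CategoryTheory.Limits AlgebraicGeometry TopologicalSpace Opposite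
open Scheme.Modules

noncomputable section

namespace Groth.Agent.Lib.Helper7.MumLem

open Groth.Agent.Lib.Helper3 Groth.Agent.Lib.Helper3.QCSec Groth.Agent.Lib.Helper3.InvGen
  Groth.Agent.Lib.Helper3.InvTensor Groth.Agent.Lib.Helper3.InvMonoidal
  Groth.Agent.Lib.Helper3.TwistBasic Groth.Agent.Lib.Helper3.TwistMul
  Groth.Agent.Lib.Helper7.TwFun Groth.Agent.Lib.Helper7.TwProj Groth.Agent.Lib.Helper7.MulSurj
  Groth.Agent.Lib.Helper7.RegRes Groth.Agent.Lib.Helper7.CohFinite Groth.Agent.Lib.Helper7.MumLemA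
  Groth.Agent.Lib.Helper13 Groth.Agent.Lib.Helper13.SerreCrit1

variable (n : ℕ) (k : Type u) [Field k]

lemma isCoh_tw (F : (CohB1.ProjSpace n k).Modules) (hF : Coh.IsCoh F) (j : ℤ) :
    Coh.IsCoh (CohB1.tensorMod F (Twist.twistProjSpace n k j)) := by
  haveI := hF.1
  haveI := hF.2
  exact ⟨Mumford.isQCoh_tw n k F hF.1 j,
    InvCoh.isFiniteType_tensorMod F _ (isInvertible_twist (Mumford.hU n k) j)⟩

lemma finite_H1 (F : (CohB1.ProjSpace n k).Modules) (hF : Coh.IsCoh F) (j : ℤ) :
    Module.Finite k (Coh.HH (CohB1.ProjSpace n k)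
      (CohB1.tensorMod F (Twist.twistProjSpace n k j)) 1) :=
  PnFinite.finite_HH n k n 1 (Nat.add_comm 1 n) _ (isCoh_tw n k F hF j)

variable (F : (CohB1.ProjSpace n k).Modules)
  (ι : CohB1.tensorMod F (Twist.twistProjSpace n k (-1)) ⟶ F)

/-- the iso `F(-1)(b) ≅ F(a)`, `a + 1 = b`. -/
def al (a b : ℤ) (h : a + 1 = b) :
    (twR (Twist.twistProjSpace n k b)).obj (CohB1.tensorMod F (Twist.twistProjSpace n k (-1))) ≅
      CohB1.tensorMod F (Twist.twistProjSpace n k a) :=
  twAdd' (Mumford.hU n k) F (-1) b a (by omega)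

/-- the map `F(a) → F(b)`, `a + 1 = b`, induced by `ι`. -/
def tw1 (a b : ℤ) (h : a + 1 = b) :
    CohB1.tensorMod F (Twist.twistProjSpace n k a) ⟶
      (twR (Twist.twistProjSpace n k b)).obj F :=
  (al n k F a b h).inv ≫ (twR (Twist.twistProjSpace n k b)).map ι

lemma tw1_def (a b : ℤ) (h : a + 1 = b) :
    tw1 n k F ι a b h = (al n k F a b h).inv ≫ (twR (Twist.twistProjSpace n k b)).map ι := rfl

/-- the `k`-linear map `H^1(F(a)) → H^1(F(b))`, `a + 1 = b`, induced by `ι`. -/
def Lmap (a b : ℤ) (h : a + 1 = b) :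
    Coh.HH (CohB1.ProjSpace n k) (CohB1.tensorMod F (Twist.twistProjSpace n k a)) 1 →ₗ[k]
      Coh.HH (CohB1.ProjSpace n k) (CohB1.tensorMod F (Twist.twistProjSpace n k b)) 1 :=
  HmapL k (tw1 n k F ι a b h) 1

lemma Lmap_apply (a b : ℤ) (h : a + 1 = b)
    (x : Coh.HH (CohB1.ProjSpace n k) (CohB1.tensorMod F (Twist.twistProjSpace n k a)) 1) :
    Lmap n k F ι a b h x = Hm (tw1 n k F ι a b h) 1 x := rfl

lemma isQCoh_G (hF : Coh.IsQCoh F) : Coh.IsQCoh (cokernel ι) := by
  haveI := hF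
  haveI : Coh.IsQCoh (CohB1.tensorMod F (Twist.twistProjSpace n k (-1))) :=
    Mumford.isQCoh_tw n k F hF (-1)
  exact QCProps.isQuasicoherent_cokernel ι

variable [Mono ι]

lemma hSj (j : ℤ) : ((ShortComplex.mk ι (cokernel.π ι) (cokernel.condition ι)).map
    (twR (Twist.twistProjSpace n k j))).ShortExact :=
  Mumford.shortExact_tw n k j _ (shortExact_cokernel ι)

lemma surj_top_of_L_inj (a b : ℤ) (h : a + 1 = b)
    (hinj : Function.Injective (Lmap n k F ι a b h)) :
    Function.Surjective ((tensorMap (cokernel.π ι) (𝟙 (Twist.twistProjSpace n k b))).app ⊤) := by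
  have h1 : ∀ x, Hm ((al n k F a b h).inv ≫ (twR (Twist.twistProjSpace n k b)).map ι) 1 x = 0 →
      x = 0 := fun x hx =>
    hinj (((Lmap_apply n k F ι a b h x).trans hx).trans (map_zero (Lmap n k F ι a b h)).symm)
  have h2 := inj_of_comp_iso (al n k F a b h)
    ((twR (Twist.twistProjSpace n k b)).map ι) 1 h1
  exact (surj_twR_iff _).mp (surj_top_of_H1_inj' ι (cokernel.π ι) (cokernel.condition ι)
    (twR (Twist.twistProjSpace n k b)) (hSj n k F ι b) h2)

lemma L_inj_of_surj_top (a b : ℤ) (h : a + 1 = b)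
    (hs : Function.Surjective
      ((tensorMap (cokernel.π ι) (𝟙 (Twist.twistProjSpace n k b))).app ⊤)) :
    Function.Injective (Lmap n k F ι a b h) := by
  have h2 : ∀ y, Hm ((twR (Twist.twistProjSpace n k b)).map ι) 1 y = 0 → y = 0 :=
    H1_inj_of_surj_top' ι (cokernel.π ι) (cokernel.condition ι)
      (twR (Twist.twistProjSpace n k b)) (hSj n k F ι b) ((surj_twR_iff _).mpr hs)
  have h1 := inj_comp_iso (al n k F a b h)
    ((twR (Twist.twistProjSpace n k b)).map ι) 1 h2
  refine (injective_iff_map_eq_zero (Lmap n k F ι a b h)).mpr ?_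
  intro x hx
  exact h1 x ((Lmap_apply n k F ι a b h x).symm.trans hx)

variable (hF : Coh.IsCoh F) (m : ℤ)
  (hG : ∀ i : ℕ, 1 ≤ i → Subsingleton (Coh.HH (CohB1.ProjSpace n k)
    (CohB1.tensorMod (cokernel ι) (Twist.twistProjSpace n k (m - i))) i))

include hF hG in
lemma L_surj (a b : ℤ) (h : a + 1 = b) (hb : m - 1 ≤ b) :
    Function.Surjective (Lmap n k F ι a b h) := by
  intro z
  have h3 : Subsingleton (Coh.HH (CohB1.ProjSpace n k)
      ((twR (Twist.twistProjSpace n k b)).obj (cokernel ι)) 1) :=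
    Mumford.regular_ge n k _ (isQCoh_G n k F ι hF.1) m hG 1 b le_rfl (by push_cast; omega)
  obtain ⟨x, hx⟩ := surj_comp_iso (al n k F a b h)
    ((twR (Twist.twistProjSpace n k b)).map ι) 1
    (fun z => Hm_surj_mid' ι (cokernel.π ι) (cokernel.condition ι)
      (twR (Twist.twistProjSpace n k b)) (hSj n k F ι b) 1 h3 z) z
  exact ⟨x, (Lmap_apply n k F ι a b h x).trans hx⟩

include hF hG in
lemma key_B (j : ℤ) (hj : m ≤ j)
    (heq : Module.finrank k (Coh.HH (CohB1.ProjSpace n k)
        (CohB1.tensorMod F (Twist.twistProjSpace n k j)) 1) =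
      Module.finrank k (Coh.HH (CohB1.ProjSpace n k)
        (CohB1.tensorMod F (Twist.twistProjSpace n k (j - 1))) 1)) :
    Module.finrank k (Coh.HH (CohB1.ProjSpace n k)
        (CohB1.tensorMod F (Twist.twistProjSpace n k (j + 1))) 1) =
      Module.finrank k (Coh.HH (CohB1.ProjSpace n k)
        (CohB1.tensorMod F (Twist.twistProjSpace n k j)) 1) := by
  haveI := finite_H1 n k F hF j
  haveI := finite_H1 n k F hF (j - 1)
  haveI := finite_H1 n k F hF (j + 1)
  have hsurj1 := L_surj n k F ι hF m hG (j - 1) j (by ring) (by omega)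
  have hinj1 : Function.Injective (Lmap n k F ι (j - 1) j (by ring)) :=
    (LinearMap.injective_iff_surjective_of_finrank_eq_finrank heq.symm).mpr hsurj1
  have hΓ := surj_top_of_L_inj n k F ι (j - 1) j (by ring) hinj1
  have hΓ' := surj_succ (Mumford.hU n k) (cokernel.π ι) j 1 (j + 1) rfl hΓ
    (fun z => MulSurjPn.mem_pureSpan n k _ (isQCoh_G n k F ι hF.1) m hG j hj 1 1 (by norm_num) z)
  have hinj2 := L_inj_of_surj_top n k F ι j (j + 1) rfl hΓ'
  have hsurj2 := L_surj n k F ι hF m hG j (j + 1) rfl (by omega)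
  exact (LinearEquiv.ofBijective (Lmap n k F ι j (j + 1) rfl) ⟨hinj2, hsurj2⟩).finrank_eq.symm

include hF hG in
theorem mumford_lemma :
    (∀ (i : ℕ) (j : ℤ), 2 ≤ i → m - i ≤ j → Subsingleton (Coh.HH (CohB1.ProjSpace n k)
      (CohB1.tensorMod F (Twist.twistProjSpace n k j)) i)) ∧
    (∀ j : ℤ, m - 1 ≤ j →
      Module.finrank k (Coh.HH (CohB1.ProjSpace n k)
        (CohB1.tensorMod F (Twist.twistProjSpace n k j)) 1) ≤
      Module.finrank k (Coh.HH (CohB1.ProjSpace n k)
        (CohB1.tensorMod F (Twist.twistProjSpace n k (j - 1))) 1)) ∧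
    (∀ j : ℤ, m - 1 + (Module.finrank k (Coh.HH (CohB1.ProjSpace n k)
        (CohB1.tensorMod F (Twist.twistProjSpace n k (m - 1))) 1) : ℤ) ≤ j →
      Subsingleton (Coh.HH (CohB1.ProjSpace n k)
        (CohB1.tensorMod F (Twist.twistProjSpace n k j)) 1)) := by
  obtain ⟨d₀, hd₀⟩ := SerreVan.serre_vanishing n k F hF
  have hGq := isQCoh_G n k F ι hF.1
  have hii : ∀ j : ℤ, m - 1 ≤ j →
      Module.finrank k (Coh.HH (CohB1.ProjSpace n k)
        (CohB1.tensorMod F (Twist.twistProjSpace n k j)) 1) ≤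
      Module.finrank k (Coh.HH (CohB1.ProjSpace n k)
        (CohB1.tensorMod F (Twist.twistProjSpace n k (j - 1))) 1) := by
    intro j hj
    haveI := finite_H1 n k F hF (j - 1)
    exact LinearMap.finrank_le_finrank_of_surjective
      (L_surj n k F ι hF m hG (j - 1) j (by ring) hj)
  refine ⟨?_, hii, ?_⟩
  · intro i j hi hj
    obtain ⟨i', rfl⟩ : ∃ i', i = i' + 1 := ⟨i - 1, by omega⟩
    have step : ∀ j : ℤ, m - ((i' + 1 : ℕ) : ℤ) ≤ j →
        Subsingleton (Coh.HH (CohB1.ProjSpace n k)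
          (CohB1.tensorMod F (Twist.twistProjSpace n k (j + 1))) (i' + 1)) →
        Subsingleton (Coh.HH (CohB1.ProjSpace n k)
          (CohB1.tensorMod F (Twist.twistProjSpace n k j)) (i' + 1)) := by
      intro j hj hnext
      have h3 : Subsingleton (Coh.HH (CohB1.ProjSpace n k)
          (CohB1.tensorMod (cokernel ι) (Twist.twistProjSpace n k (j + 1))) i') :=
        Mumford.regular_ge n k _ hGq m hG i' (j + 1) (by omega) (by push_cast at hj ⊢; omega)
      have hA := sub_left' ι (cokernel.π ι) (cokernel.condition ι)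
        (twR (Twist.twistProjSpace n k (j + 1))) (hSj n k F ι (j + 1)) i' h3 hnext
      exact subsingleton_HH_of_iso (al n k F j (j + 1) rfl).symm (i' + 1) hA
    have key : ∀ (t : ℕ) (j : ℤ), m - ((i' + 1 : ℕ) : ℤ) ≤ j → d₀ ≤ j + t →
        Subsingleton (Coh.HH (CohB1.ProjSpace n k)
          (CohB1.tensorMod F (Twist.twistProjSpace n k j)) (i' + 1)) := by
      intro t
      induction t with
      | zero =>
        intro j _ hd
        exact hd₀ j (by push_cast at hd; omega) (i' + 1) (by omega)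
      | succ t ih =>
        intro j hj hd
        exact step j hj (ih (j + 1) (by omega) (by push_cast at hd ⊢; omega))
    exact key (d₀ - j).toNat j hj (by omega)
  · intro j hj
    have hz := seq_int (fun j => Module.finrank k (Coh.HH (CohB1.ProjSpace n k)
        (CohB1.tensorMod F (Twist.twistProjSpace n k j)) 1)) m hii
      (fun j hj heq => key_B n k F ι hF m hG j hj heq)
      ⟨d₀, fun j hj => by
        haveI := hd₀ j hj 1 le_rfl
        exact Module.finrank_eq_zero_of_subsingleton k _⟩ j hj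
    haveI := finite_H1 n k F hF j
    exact (Module.finrank_eq_zero_iff_of_free k _).mp hz

end Groth.Agent.Lib.Helper7.MumLem
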