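import Mathlib
import Groth.Prelude
import Groth.Agent.Lib.Helper7.MulSurj

/-!
# Multiplication by a global section of `O(e)` on `Proj 𝒜`

`mulG g c s h : O(c) ⟶ O(s)` for `g ∈ Γ(O(e), ⊤)` and `c + e = s`.
-/
set_option autoImplicit false
universe u
open CategoryTheory CategoryTheory.Limits AlgebraicGeometry TopologicalSpace Opposite
open Scheme.Modules

noncomputable section

namespace Groth.Agent.Lib.Helper7.MulG

open Groth.Agent.Lib.Helper3 Groth.Agent.Lib.Helper3.QCSec Groth.Agent.Lib.Helper3.InvGen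
  Groth.Agent.Lib.Helper3.InvTensor Groth.Agent.Lib.Helper3.InvMonoidal
  Groth.Agent.Lib.Helper3.TensorDesc Groth.Agent.Lib.Helper3.TwistBasic
  Groth.Agent.Lib.Helper3.TwistMul Groth.Agent.Lib.Helper7.TwFun
  Groth.Agent.Lib.Helper7.TwProj Groth.Agent.Lib.Helper7.MulSurj

variable {R A : Type u} [CommRing R] [CommRing A] [Algebra R A] {𝒜 : ℕ → Submodule R A}
  [GradedAlgebra 𝒜]

/-- the restriction of a global section -/
def gres {e : ℤ} (g : Γ(Twist.twist 𝒜 e, (⊤ : (Proj 𝒜).Opens))) (U : (Proj 𝒜).Opens) :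
    Γ(Twist.twist 𝒜 e, U) :=
  res (Twist.twist 𝒜 e) (le_top : U ≤ ⊤) g

lemma res_gres {e : ℤ} (g : Γ(Twist.twist 𝒜 e, (⊤ : (Proj 𝒜).Opens))) {U V : (Proj 𝒜).Opens}
    (h : V ≤ U) : res (Twist.twist 𝒜 e) h (gres g U) = gres g V :=
  res_res _ h le_top g

lemma val_gres {e : ℤ} (g : Γ(Twist.twist 𝒜 e, (⊤ : (Proj 𝒜).Opens))) (U : (Proj 𝒜).Opens)
    (x : U) : val (gres g U) x = val g ⟨x.1, trivial⟩ := rfl

/-- the product of two sections, in `O(s)` for `c + e = s` -/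
def mulSecC {c e s : ℤ} (h : c + e = s) {U : (Proj 𝒜).Opens} (x : Γ(Twist.twist 𝒜 c, U))
    (t : Γ(Twist.twist 𝒜 e, U)) : Γ(Twist.twist 𝒜 s, U) :=
  mkSec s U (fun y => val x y * val t y) (h ▸ (isLocFrac_val x).mul (isLocFrac_val t))

lemma val_mulSecC {c e s : ℤ} (h : c + e = s) {U : (Proj 𝒜).Opens} (x : Γ(Twist.twist 𝒜 c, U))
    (t : Γ(Twist.twist 𝒜 e, U)) (y : U) : val (mulSecC h x t) y = val x y * val t y := rfl

/-- multiplication by a global section of `O(e)`, as a morphism `O(c) ⟶ O(s)`, `c + e = s` -/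
def mulG {e : ℤ} (g : Γ(Twist.twist 𝒜 e, (⊤ : (Proj 𝒜).Opens))) (c s : ℤ) (h : c + e = s) :
    Twist.twist 𝒜 c ⟶ Twist.twist 𝒜 s :=
  HomMk.homMk (fun U x => mulSecC h x (gres g U))
    (fun U a b => val_ext fun y => by
      rw [val_mulSecC, val_add, val_add, val_mulSecC, val_mulSecC, add_mul])
    (fun U r a => val_ext fun y => by
      rw [val_mulSecC, val_smul, val_smul, val_mulSecC, mul_assoc])
    (fun {U V} hUV a => val_ext fun y => rfl)

lemma mulG_app {e : ℤ} (g : Γ(Twist.twist 𝒜 e, (⊤ : (Proj 𝒜).Opens))) (c s : ℤ) (h : c + e = s)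
    (U : (Proj 𝒜).Opens) (x : Γ(Twist.twist 𝒜 c, U)) :
    (mulG g c s h).app U x = mulSecC h x (gres g U) := rfl

lemma val_mulG {e : ℤ} (g : Γ(Twist.twist 𝒜 e, (⊤ : (Proj 𝒜).Opens))) (c s : ℤ) (h : c + e = s)
    (U : (Proj 𝒜).Opens) (x : Γ(Twist.twist 𝒜 c, U)) (y : U) :
    val ((mulG g c s h).app U x) y = val x y * val g ⟨y.1, trivial⟩ := by
  rw [mulG_app, val_mulSecC, val_gres]

end Groth.Agent.Lib.Helper7.MulG
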