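import Mathlib
import Groth.Prelude
import Groth.Agent.Lib.Helper7.MulG
import Groth.Agent.Lib.Helper7.RegRes
import Groth.Agent.Lib.Helper3.ProjUniq

/-!
# Morphisms between twisting sheaves on `Proj 𝒜` are multiplications by global sections
-/
set_option autoImplicit false
universe u
open CategoryTheory CategoryTheory.Limits AlgebraicGeometry TopologicalSpace Opposite
open Scheme.Modules

noncomputable section

namespace Groth.Agent.Lib.Helper7.HomTw

open Groth.Agent.Lib.Helper3 Groth.Agent.Lib.Helper3.QCSec Groth.Agent.Lib.Helper3.InvGen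
  Groth.Agent.Lib.Helper3.InvTensor Groth.Agent.Lib.Helper3.InvMonoidal
  Groth.Agent.Lib.Helper3.TensorDesc Groth.Agent.Lib.Helper3.TwistBasic
  Groth.Agent.Lib.Helper3.TwistMul Groth.Agent.Lib.Helper7.TwFun
  Groth.Agent.Lib.Helper7.TwProj Groth.Agent.Lib.Helper7.MulSurj Groth.Agent.Lib.Helper7.MulG
  Groth.Agent.Lib.Helper7.RegRes

section General

variable {X : Scheme.{u}}

/-- a section of the structure module, as a function -/
def asFun {U : X.Opens} (f : Γ(Coh.structureModule X, U)) : Γ(X, U) := f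

lemma app_eq_smul {L : X.Modules} (s : Coh.structureModule X ⟶ L) (U : X.Opens)
    (f : Γ(Coh.structureModule X, U)) : s.app U f = asFun f • sec s U :=
  app_eq_smul_sec s U (asFun f)

end General

variable {R A : Type u} [CommRing R] [CommRing A] [Algebra R A] {𝒜 : ℕ → Submodule R A}
  [GradedAlgebra 𝒜]

lemma val_oneSec (U : (Proj 𝒜).Opens) (y : U) : val (oneSec (𝒜 := 𝒜) U) y = 1 := by
  unfold oneSec
  rw [val_frac]
  exact Localization.mk_one

lemma val_unitIso_hom (U : (Proj 𝒜).Opens) (f : Γ(Coh.structureModule (Proj 𝒜), U)) (y : U) :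
    val ((unitIso (𝒜 := 𝒜)).hom.app U f) y = fval (asFun f) y := by
  have h1 : (unitIso (𝒜 := 𝒜)).hom = InvAmple.globalHom (Twist.twist 𝒜 0) (oneSec ⊤) := rfl
  rw [h1, app_eq_smul, InvAmple.sec_globalHom, val_smul, val_res, val_oneSec, mul_one]

lemma fval_unitIso_inv (U : (Proj 𝒜).Opens) (t : Γ(Twist.twist 𝒜 0, U)) (y : U) :
    fval (asFun ((unitIso (𝒜 := 𝒜)).inv.app U t)) y = val t y := by
  rw [← val_unitIso_hom, iso_hom_inv_app]

lemma mulIsoRight_hom (a b : ℤ)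
    (hb : ∀ x : Proj 𝒜, ∃ U : (Proj 𝒜).Opens, x ∈ U ∧ HasUnitFrac b U) :
    (mulIsoRight (𝒜 := 𝒜) a b hb).hom = mulHom a b := rfl

lemma mulIso'_hom (hU : HU 𝒜) (a b s : ℤ) (h : a + b = s) :
    (mulIso' hU a b s h).hom = mulHom a b ≫ (twistCast h).hom := by
  unfold mulIso'
  rw [Iso.trans_hom, mulIsoRight_hom]

lemma pairIso'_hom (hU : HU 𝒜) (a b : ℤ) (h : a + b = 0) :
    (pairIso' hU a b h).hom = (mulIso' hU a b 0 h).hom ≫ (unitIso (𝒜 := 𝒜)).inv := by
  unfold pairIso'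
  rw [Iso.trans_hom, Iso.symm_hom]

lemma mulIso'_hom_tm (hU : HU 𝒜) (a b s : ℤ) (h : a + b = s) (U : (Proj 𝒜).Opens)
    (x : Γ(Twist.twist 𝒜 a, U)) (y : Γ(Twist.twist 𝒜 b, U)) :
    (mulIso' hU a b s h).hom.app U (tm _ _ U x y) = (twistCast h).hom.app U (mulSec x y) := by
  rw [mulIso'_hom, comp_app, mulHom_tm]

lemma pairIso'_hom_tm (hU : HU 𝒜) (a b : ℤ) (h : a + b = 0) (U : (Proj 𝒜).Opens)
    (x : Γ(Twist.twist 𝒜 a, U)) (y : Γ(Twist.twist 𝒜 b, U)) :
    (pairIso' hU a b h).hom.app U (tm _ _ U x y) =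
      (unitIso (𝒜 := 𝒜)).inv.app U ((twistCast h).hom.app U (mulSec x y)) := by
  rw [pairIso'_hom, comp_app, mulIso'_hom_tm]

theorem tensorMap_mulG (hU : HU 𝒜) (c e s : ℤ) (h : c + e = s) (hse : s + -c = e)
    (hc0 : c + -c = 0) (g : Γ(Twist.twist 𝒜 e, (⊤ : (Proj 𝒜).Opens))) :
    tensorMap (mulG g c s h) (𝟙 (Twist.twist 𝒜 (-c))) ≫ (mulIso' hU s (-c) e hse).hom =
      (pairIso' hU c (-c) hc0).hom ≫ InvAmple.globalHom (Twist.twist 𝒜 e) g := by
  apply tensor_hom_ext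
  intro U a l
  apply val_ext
  intro y
  have hL : (tensorMap (mulG g c s h) (𝟙 (Twist.twist 𝒜 (-c))) ≫
      (mulIso' hU s (-c) e hse).hom).app U (tm _ _ U a l) =
      (twistCast hse).hom.app U (mulSec ((mulG g c s h).app U a) l) := by
    rw [comp_app, tensorMap_tm, id_app', mulIso'_hom_tm]
  have hR : ((pairIso' hU c (-c) hc0).hom ≫
      InvAmple.globalHom (Twist.twist 𝒜 e) g).app U (tm _ _ U a l) =
      asFun ((unitIso (𝒜 := 𝒜)).inv.app U
        ((twistCast hc0).hom.app U (mulSec a l))) •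
        res (Twist.twist 𝒜 e) le_top g := by
    rw [comp_app, pairIso'_hom_tm, app_eq_smul, InvAmple.sec_globalHom]
  rw [hL, hR, val_twistCast, val_mulSec, val_mulG, val_smul, fval_unitIso_inv, val_twistCast,
    val_mulSec, val_res]
  exact mul_right_comm _ _ _

/-- every morphism `O(c) ⟶ O(s)` is the multiplication by a global section of `O(s - c)` -/
theorem exists_mulG (hU : HU 𝒜) (c e s : ℤ) (h : c + e = s)
    (φ : Twist.twist 𝒜 c ⟶ Twist.twist 𝒜 s) :
    ∃ g : Γ(Twist.twist 𝒜 e, (⊤ : (Proj 𝒜).Opens)), φ = mulG g c s h := by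
  have hc0 : c + -c = 0 := by omega
  have hc0' : -c + c = 0 := by omega
  haveI := isEquivalence_twR (Twist.twist 𝒜 (-c)) (Twist.twist 𝒜 c) (pairIso' hU (-c) c hc0')
  have hse : s + -c = e := by omega
  let u : CohB1.tensorMod (Twist.twist 𝒜 c) (Twist.twist 𝒜 (-c)) ≅
      Coh.structureModule (Proj 𝒜) := pairIso' hU c (-c) hc0
  let v : CohB1.tensorMod (Twist.twist 𝒜 s) (Twist.twist 𝒜 (-c)) ≅ Twist.twist 𝒜 e :=
    mulIso' hU s (-c) e hse
  let φ' : Coh.structureModule (Proj 𝒜) ⟶ Twist.twist 𝒜 e :=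
    u.inv ≫ tensorMap φ (𝟙 (Twist.twist 𝒜 (-c))) ≫ v.hom
  let g : Γ(Twist.twist 𝒜 e, (⊤ : (Proj 𝒜).Opens)) := sec φ' ⊤
  have H1 : φ' = InvAmple.globalHom (Twist.twist 𝒜 e) g := by
    apply ProjUniq.unit_hom_ext
    rw [InvAmple.sec_globalHom, res_self]
  have H2 : tensorMap (mulG g c s h) (𝟙 (Twist.twist 𝒜 (-c))) ≫ v.hom =
      u.hom ≫ InvAmple.globalHom (Twist.twist 𝒜 e) g := tensorMap_mulG hU c e s h hse hc0 g
  refine ⟨g, ?_⟩
  apply (twR (Twist.twist 𝒜 (-c))).map_injective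
  rw [twR_map, twR_map]
  have h3 : tensorMap φ (𝟙 (Twist.twist 𝒜 (-c))) = u.hom ≫ φ' ≫ v.inv := by
    simp only [φ', Category.assoc, Iso.hom_inv_id, Category.comp_id, Iso.hom_inv_id_assoc]
  have h4 : tensorMap (mulG g c s h) (𝟙 (Twist.twist 𝒜 (-c))) =
      u.hom ≫ InvAmple.globalHom (Twist.twist 𝒜 e) g ≫ v.inv := by
    rw [← Category.assoc, ← H2, Category.assoc, Iso.hom_inv_id, Category.comp_id]
  rw [h3, h4, H1]

end Groth.Agent.Lib.Helper7.HomTw
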