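import Groth.Agent.Lib.Helper7.PnTopB
import Groth.Agent.Lib.Helper7.LerayNatSch

/-!
# The top cohomology of `O(-(n+1+k))` on projective space
-/

set_option autoImplicit false
universe u
open CategoryTheory CategoryTheory.Limits AlgebraicGeometry TopologicalSpace Opposite
open Scheme.Modules MvPolynomial

noncomputable section

namespace Groth.Agent.Lib.Helper7.PnTop

open PnLaurent PnSections PnCech PnGamma Groth.Agent.Lib.Helper3
  Groth.Agent.Lib.Helper3.TwistBasic Groth.Agent.Lib.Helper3.QCSec Groth.Agent.Lib.Helper13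
  Groth.Agent.Lib.Helper13.CechBasic Groth.Agent.Lib.Helper13.CechLocal
  Groth.Agent.Lib.Helper13.CechLES

variable {n : ℕ} {R : Type u} [CommRing R]

theorem isIso_cechMap {P P' : TopCat.Presheaf AddCommGrpCat.{u} (Proj (CohB1.polyGrading n R))}
    (τ : P ⟶ P') (h : ∀ (m : ℕ) (i : Fin (m + 1) → Idx.{u} n),
      Function.Bijective (τ.app (op (∏ᶜ (Vu n R ∘ i)))).hom) :
    IsIso ((cechComplexFunctor (Vu n R)).map τ) := by
  have : ∀ m, IsIso (((cechComplexFunctor (Vu n R)).map τ).f m) := by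
    intro m
    rw [ConcreteCategory.isIso_iff_bijective]
    constructor
    · intro x y hxy
      apply ext_elem
      intro i
      apply (h m i).1
      have hx := map_proj_apply (Vu n R) τ m i x
      have hy := map_proj_apply (Vu n R) τ m i y
      exact hx.symm.trans ((congrArg _ hxy).trans hy)
    · intro z
      choose x hx using fun i => (h m i).2 ((proj (Vu n R) P' m i).hom z)
      refine ⟨mk (Vu n R) P x, ?_⟩
      apply ext_elem
      intro i
      exact (map_proj_apply (Vu n R) τ m i _).trans (by rw [proj_mk, hx])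
  exact HomologicalComplex.Hom.isIso_of_components _

theorem alphaA_bijective (d : ℤ) {m : ℕ} (i : Fin (m + 1) → Idx.{u} n) :
    Function.Bijective ((alphaA (n := n) (R := R) d).app (op (∏ᶜ (Vu n R ∘ i)))).hom := by
  have hW := prod_Vu_eq n R i
  constructor
  · rw [injective_iff_map_eq_zero]
    intro x hx
    have h0 : alpha d (∏ᶜ (Vu n R ∘ i)) x.1 = 0 := hx
    exact Subtype.ext (alpha_injective (cvec_ne_zero _)
      (fun y hy => by rw [hW]; exact (Proj.mem_basicOpen _ _ _).mpr hy)
      (fun e he => x.2 e he) h0)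
  · intro t
    obtain ⟨F, hF, hFt⟩ := alpha_surjective (cvec_ne_zero _) hW t
    refine ⟨⟨F, fun e he => ⟨(hF e he).1, fun l hl => ?_⟩⟩, hFt⟩
    obtain ⟨k, hk⟩ := (cvec_apply_ne_zero _ l).mp ((hF e he).2 l hl)
    change ∏ᶜ (Vu n R ∘ i) ≤ V n R l
    rw [prod_eq_iInf, ← hk]
    exact iInf_le (fun k => Vu n R (i k)) k

set_option maxHeartbeats 1600000 in
/-- the top-degree Čech cohomology of `O(-(n+1+k))` for the standard cover -/
theorem exists_cechQ_equiv (n : ℕ) (R : Type u) [CommRing R] (k : ℕ) :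
    ∃ E : (cx (Vu n R)
        (Twist.twist (CohB1.polyGrading n R) (-((n : ℤ) + 1 + k))).presheaf).homology n ≃+
        ND n R (-((n : ℤ) + 1 + k)),
      ∀ (r : R) (y : (cx (Vu n R)
        (Twist.twist (CohB1.polyGrading n R) (-((n : ℤ) + 1 + k))).presheaf).homology n),
        E ((HomologicalComplex.homologyMap ((cechComplexFunctor (Vu n R)).map
          (sigmaNat (-((n : ℤ) + 1 + k)) r)) n).hom y) = r • E y := by
  obtain ⟨E, hE⟩ := exists_cechPA_equiv n R k
  haveI := isIso_cechMap (alphaA (n := n) (R := R) (-((n : ℤ) + 1 + k)))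
    (fun m i => alphaA_bijective _ i)
  haveI : IsIso (HomologicalComplex.homologyMap ((cechComplexFunctor (Vu n R)).map
      (alphaA (n := n) (R := R) (-((n : ℤ) + 1 + k)))) n) :=
    (HomologicalComplex.homologyFunctor AddCommGrpCat.{u} (ComplexShape.up ℕ) n).map_isIso _
  let Te := (asIso (HomologicalComplex.homologyMap ((cechComplexFunctor (Vu n R)).map
      (alphaA (n := n) (R := R) (-((n : ℤ) + 1 + k)))) n)).addCommGroupIsoToAddEquiv
  refine ⟨Te.symm.trans E, fun r y => ?_⟩
  obtain ⟨h, rfl⟩ := Te.surjective y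
  have h2 : (cechComplexFunctor (Vu n R)).map (alphaA (n := n) (R := R) (-((n : ℤ) + 1 + k))) ≫
      (cechComplexFunctor (Vu n R)).map (sigmaNat (-((n : ℤ) + 1 + k)) r) =
      (cechComplexFunctor (Vu n R)).map (muNat (-((n : ℤ) + 1 + k)) r) ≫
        (cechComplexFunctor (Vu n R)).map (alphaA (n := n) (R := R) (-((n : ℤ) + 1 + k))) := by
    rw [← Functor.map_comp, ← Functor.map_comp, alphaA_sigma]
  have h3 := congrArg (fun f => HomologicalComplex.homologyMap f n) h2
  simp only [HomologicalComplex.homologyMap_comp] at h3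
  have h1 : (HomologicalComplex.homologyMap ((cechComplexFunctor (Vu n R)).map
      (sigmaNat (-((n : ℤ) + 1 + k)) r)) n).hom (Te h) =
      Te ((HomologicalComplex.homologyMap ((cechComplexFunctor (Vu n R)).map
        (muNat (-((n : ℤ) + 1 + k)) r)) n).hom h) := ConcreteCategory.congr_hom h3 h
  rw [h1, AddEquiv.trans_apply, AddEquiv.symm_apply_apply, AddEquiv.trans_apply,
    AddEquiv.symm_apply_apply]
  exact hE r h

/-- **The top cohomology of `O(-(n+1+k))` on `P^n_R`**, as the module of Laurent polynomials of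
degree `-(n+1+k)` with all exponents negative. -/
theorem nonempty_HH_linearEquiv_ND (n : ℕ) (R : Type u) [CommRing R] (k : ℕ) :
    Nonempty (Coh.HH (CohB1.ProjSpace n R)
      (Twist.twistProjSpace n R (-((n : ℤ) + 1 + k))) n ≃ₗ[R] ND n R (-((n : ℤ) + 1 + k))) := by
  haveI hM : Coh.IsQCoh (Twist.twist (CohB1.polyGrading n R) (-((n : ℤ) + 1 + k))) :=
    GrTildeSelf.isQuasicoherent_twist _
  obtain ⟨e, he⟩ := LerayNat.cech_nat (Proj (CohB1.polyGrading n R)) (Vu n R) (iSup_Vu n R)
    (isAffineOpen_biInf n R) n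
  obtain ⟨E, hE⟩ := exists_cechQ_equiv n R k
  let e₀ : (cx (Vu n R)
      (Twist.twist (CohB1.polyGrading n R) (-((n : ℤ) + 1 + k))).presheaf).homology n ≃+
      Coh.HH (CohB1.ProjSpace n R) (Twist.twistProjSpace n R (-((n : ℤ) + 1 + k))) n :=
    e (Twist.twist (CohB1.polyGrading n R) (-((n : ℤ) + 1 + k))) hM
  refine ⟨(e₀.symm.trans E).toLinearEquiv (fun r x => ?_)⟩
  obtain ⟨y, rfl⟩ := e₀.surjective x
  have h1 : r • e₀ y = e₀ ((HomologicalComplex.homologyMap ((cechComplexFunctor (Vu n R)).map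
      (sigmaNat (-((n : ℤ) + 1 + k)) r)) n).hom y) :=
    (he _ _ hM hM (Coh.smulAb (Twist.twist (CohB1.polyGrading n R) (-((n : ℤ) + 1 + k)))
      (Coh.toGlobal (CohB1.ProjSpace.toSpec n R) r)) y).symm
  rw [h1, AddEquiv.trans_apply, AddEquiv.symm_apply_apply, AddEquiv.trans_apply,
    AddEquiv.symm_apply_apply]
  exact hE r y

end Groth.Agent.Lib.Helper7.PnTop
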