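import Mathlib
import Groth.Prelude
import Groth.Agent.Lib.Helper7.MulG
import Groth.Agent.Lib.Helper7.PnTopC

/-!
# Multiplication of Laurent polynomials and of sections of `O(d)` on projective space
-/
set_option autoImplicit false
universe u
open CategoryTheory CategoryTheory.Limits AlgebraicGeometry TopologicalSpace Opposite
open Scheme.Modules MvPolynomial

noncomputable section

namespace Groth.Agent.Lib.Helper7.PnDual

open PnLaurent PnSections PnCech PnGamma PnTop Groth.Agent.Lib.Helper3
  Groth.Agent.Lib.Helper3.TwistBasic Groth.Agent.Lib.Helper3.QCSec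
  Groth.Agent.Lib.Helper3.TwistMul Groth.Agent.Lib.Helper7.MulG

variable {n : ℕ} {R : Type u} [CommRing R]

/-- the product of Laurent polynomials -/
def mulL (G F : Lau n R) : Lau n R :=
  F.sum fun ε f => G.sum fun b g => Finsupp.single (ε + b) (f * g)

theorem mulL_add (G F F' : Lau n R) : mulL G (F + F') = mulL G F + mulL G F' := by
  unfold mulL
  refine Finsupp.sum_add_index' (fun ε => ?_) (fun ε f f' => ?_)
  · simp only [zero_mul, Finsupp.single_zero, Finsupp.sum, Finset.sum_const_zero]
  · simp only [add_mul, Finsupp.single_add, Finsupp.sum_add]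

/-- multiplication by a Laurent polynomial, as an additive map -/
def mulLHom (G : Lau n R) : Lau n R →+ Lau n R := AddMonoidHom.mk' (mulL G) (mulL_add G)

theorem mulLHom_apply (G F : Lau n R) : mulLHom G F = mulL G F := rfl

theorem mulL_single (G : Lau n R) (ε : Ex n) (f : R) :
    mulL G (Finsupp.single ε f) = G.sum fun b g => Finsupp.single (ε + b) (f * g) := by
  unfold mulL
  rw [Finsupp.sum_single_index]
  simp only [zero_mul, Finsupp.single_zero, Finsupp.sum, Finset.sum_const_zero]

theorem mem_support_mulL {G F : Lau n R} {ε' : Ex n} (h : ε' ∈ (mulL G F).support) :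
    ∃ ε ∈ F.support, ∃ b ∈ G.support, ε' = ε + b := by
  classical
  unfold mulL at h
  obtain ⟨ε, hε, h2⟩ := Finset.mem_biUnion.mp (Finsupp.support_sum h)
  obtain ⟨b, hb, h4⟩ := Finset.mem_biUnion.mp (Finsupp.support_sum h2)
  exact ⟨ε, hε, b, hb, Finset.mem_singleton.mp (Finsupp.support_single_subset h4)⟩

/-- `G` is a homogeneous polynomial of degree `e` -/
def Pol (e : ℤ) (G : Lau n R) : Prop := ∀ b ∈ G.support, (∑ l, b l = e) ∧ ∀ l, 0 ≤ b l

theorem Pol.cond {e : ℤ} {G : Lau n R} (hG : Pol e G) (W : (Proj (CohB1.polyGrading n R)).Opens)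
    {b : Ex n} (hb : b ∈ G.support) : Cond n R e W b :=
  ⟨(hG b hb).1, fun i hi => absurd ((hG b hb).2 i) (not_le.mpr hi)⟩

theorem cond_add {c e : ℤ} {W : (Proj (CohB1.polyGrading n R)).Opens} {ε b : Ex n}
    (hε : Cond n R c W ε) (hb1 : ∑ l, b l = e) (hb2 : ∀ l, 0 ≤ b l) :
    Cond n R (c + e) W (ε + b) := by
  refine ⟨?_, fun i hi => hε.2 i ?_⟩
  · simp only [Pi.add_apply, Finset.sum_add_distrib, hε.1, hb1]
  · have := hb2 i
    simp only [Pi.add_apply] at hi
    omega

theorem val_secT_mul {c e s : ℤ} (hs : c + e = s) {W : (Proj (CohB1.polyGrading n R)).Opens}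
    {ε b : Ex n} (hε : Cond n R c W ε) (hb1 : ∑ l, b l = e) (hb2 : ∀ l, 0 ≤ b l) (f g : R)
    (x : W) :
    val (secT c W ε f) x * val (secT e W b g) x = val (secT s W (ε + b) (f * g)) x := by
  have hbc : Cond n R e W b := ⟨hb1, fun i hi => absurd (hb2 i) (not_le.mpr hi)⟩
  have hsc : Cond n R s W (ε + b) := hs ▸ cond_add hε hb1 hb2
  have h1 := hε.hb x
  have h2 := hbc.hb x
  have hm : (monomial (np ε + np b) (1 : R) : MvPolynomial (Fin (n + 1)) R) =
      monomial (np ε) 1 * monomial (np b) 1 := by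
    rw [monomial_mul, one_mul]
  have h3 : (monomial (np ε + np b) (1 : R) : MvPolynomial (Fin (n + 1)) R) ∉
      x.1.asHomogeneousIdeal := by
    rw [hm]
    intro hmem
    have hp : x.1.asHomogeneousIdeal.toIdeal.IsPrime := x.1.isPrime
    rcases hp.mem_or_mem hmem with h | h
    · exact h1 h
    · exact h2 h
  have h4 := val_secT hsc (f * g) x (s := pp ε + pp b) (b := np ε + np b)
    (fun i => by
      simp only [Finsupp.add_apply, pp_apply, np_apply, Pi.add_apply]
      push_cast
      omega) h3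
  rw [h4, secT_pos hε, secT_pos hbc, val_monSec, val_monSec, Localization.mk_mul, monomial_mul]
  exact congrArg (Localization.mk _) (Subtype.ext hm.symm)

theorem alpha_mulG {c e s : ℤ} (hs : c + e = s) {W : (Proj (CohB1.polyGrading n R)).Opens}
    {G : Lau n R} (hG : Pol e G) {F : Lau n R} (hF : ∀ ε ∈ F.support, Cond n R c W ε) :
    (mulG (alpha e ⊤ G) c s hs).app W (alpha c W F) = alpha s W (mulL G F) := by
  apply val_ext
  intro x
  rw [val_mulG]
  have hg : val (alpha e ⊤ G) ⟨x.1, trivial⟩ = val (alpha e W G) x := by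
    rw [← res_alpha (le_top : W ≤ ⊤) (fun b hb => hG.cond ⊤ hb)]
    rfl
  have hR : alpha s W (mulL G F) =
      ∑ ε ∈ F.support, ∑ b ∈ G.support, secT s W (ε + b) (F ε * G b) := by
    unfold mulL
    simp only [Finsupp.sum, map_sum, alpha_single]
  rw [hg, alpha_apply c W F, alpha_apply e W G, val_sum, val_sum, Finset.sum_mul_sum, hR, val_sum]
  refine Finset.sum_congr rfl fun ε hε => ?_
  rw [val_sum]
  refine Finset.sum_congr rfl fun b hb => ?_
  exact val_secT_mul hs (hF ε hε) (hG b hb).1 (hG b hb).2 (F ε) (G b) x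

theorem filt_mulL {e : ℤ} {G : Lau n R} (hG : Pol e G) (F : Lau n R) :
    filt (mulL G F) = filt (mulL G (filt F)) := by
  classical
  obtain ⟨F', hF, hF'⟩ : ∃ F' : Lau n R, F = filt F + F' ∧ ∀ ε ∈ F'.support, ¬ AllNeg ε := by
    refine ⟨F.filter (¬ AllNeg ·), ?_, ?_⟩
    · rw [filt_apply]
      exact (Finsupp.filter_add_filter_not F AllNeg).symm
    · intro ε hε
      rw [Finsupp.support_filter, Finset.mem_filter] at hε
      exact hε.2
  have h0 : filt (mulL G F') = 0 := by
    rw [filt_apply, Finsupp.filter_eq_zero_iff]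
    intro ε' hε'
    by_contra hne
    obtain ⟨ε, hε, b, hb, rfl⟩ := mem_support_mulL (Finsupp.mem_support_iff.mpr hne)
    apply hF' ε hε
    intro l
    have h1 := hε' l
    have h2 := (hG b hb).2 l
    simp only [Pi.add_apply] at h1
    omega
  conv_lhs => rw [hF]
  rw [mulL_add, map_add, h0, add_zero]

end Groth.Agent.Lib.Helper7.PnDual
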