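import Mathlib
import Groth.Prelude
import Groth.Agent.Lib.Helper7.PnMulL

/-!
# The top cohomology of `O(d)` on projective space, naturally in multiplication by polynomials
-/
set_option autoImplicit false
universe u
open CategoryTheory CategoryTheory.Limits AlgebraicGeometry TopologicalSpace Opposite
open Scheme.Modules MvPolynomial

noncomputable section

namespace Groth.Agent.Lib.Helper7.PnDual

open PnLaurent PnSections PnCech PnGamma PnTop Groth.Agent.Lib.Helper3
  Groth.Agent.Lib.Helper3.TwistBasic Groth.Agent.Lib.Helper3.QCSec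
  Groth.Agent.Lib.Helper3.TwistMul Groth.Agent.Lib.Helper7.MulG
  Groth.Agent.Lib.Helper13 Groth.Agent.Lib.Helper13.CechBasic Groth.Agent.Lib.Helper13.CechLocal
  Groth.Agent.Lib.Helper13.CechLES

variable {n : ℕ} {R : Type u} [CommRing R]

/-- multiplication by a polynomial on the presheaf of Laurent sections -/
def mulPA (c e s : ℤ) (hs : c + e = s) (G : Lau n R) (hG : Pol e G) : PA n R c ⟶ PA n R s where
  app W := AddCommGrpCat.ofHom (AddMonoidHom.codRestrict
    ((mulLHom G).comp (suppSub R (Cond n R c W.unop)).subtype) (suppSub R (Cond n R s W.unop))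
    (fun F ε' hε' => by
      obtain ⟨ε, hε, b, hb, rfl⟩ := mem_support_mulL (G := G) (F := F.1) hε'
      subst hs
      exact cond_add (F.2 ε hε) (hG b hb).1 (hG b hb).2))
  naturality W W' f := by ext x; rfl

/-- the underlying morphism of presheaves of abelian groups of a morphism of abelian sheaves -/
def abP {c s : ℤ} (ψ : Coh.toAb (Twist.twist (CohB1.polyGrading n R) c) ⟶
      Coh.toAb (Twist.twist (CohB1.polyGrading n R) s)) :
    (Twist.twist (CohB1.polyGrading n R) c).presheaf ⟶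
      (Twist.twist (CohB1.polyGrading n R) s).presheaf := ψ.hom

/-- the morphism of abelian sheaves of a morphism of modules -/
def abS {c s : ℤ} (φ : Twist.twist (CohB1.polyGrading n R) c ⟶
      Twist.twist (CohB1.polyGrading n R) s) :
    Coh.toAb (Twist.twist (CohB1.polyGrading n R) c) ⟶
      Coh.toAb (Twist.twist (CohB1.polyGrading n R) s) :=
  (SheafOfModules.toSheaf (Proj (CohB1.polyGrading n R)).ringCatSheaf).map φ

theorem alphaA_mulG (c e s : ℤ) (hs : c + e = s) (G : Lau n R) (hG : Pol e G) :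
    alphaA (n := n) (R := R) c ≫ abP (abS (mulG (alpha e ⊤ G) c s hs)) =
      mulPA c e s hs G hG ≫ alphaA s := by
  ext W x
  exact alpha_mulG hs hG (fun ε hε => x.2 ε hε)

section Cochains

variable {c e s : ℤ} {m : ℕ}

theorem cmp_map_mulPA (hs : c + e = s) (G : Lau n R) (hG : Pol e G)
    (x : (cx (Vu n R) (PA n R c)).X m) (i : Fin (m + 1) → Idx.{u} n) :
    cmp ((((cechComplexFunctor (Vu n R)).map (mulPA c e s hs G hG)).f m).hom x) i =
      mulL G (cmp x i) := by
  unfold PnTop.cmp
  rw [map_proj_apply]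
  rfl

/-- multiplication by a polynomial followed by the projection to the all-negative part -/
def TG (c e s : ℤ) (hs : c + e = s) (G : Lau n R) (hG : Pol e G) (y : ND n R c) : ND n R s :=
  ⟨filt (mulL G y.1), by
    rw [Finsupp.mem_supported]
    intro ε' hε'
    have h1 := mem_supp_filt.mp (Finset.mem_coe.mp hε')
    obtain ⟨ε, hε, b, hb, rfl⟩ := mem_support_mulL h1.1
    have hN : NegEx n c ε := (Finsupp.mem_supported R y.1).mp y.2 (Finset.mem_coe.mpr hε)
    refine ⟨?_, h1.2⟩
    rw [← hs, ← hN.1, ← (hG b hb).1]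
    simp only [Pi.add_apply, Finset.sum_add_distrib]⟩

theorem TG_val (hs : c + e = s) (G : Lau n R) (hG : Pol e G) (y : ND n R c) :
    (TG c e s hs G hG y).1 = filt (mulL G y.1) := rfl

theorem psi_mulPA (hs : c + e = s) (G : Lau n R) (hG : Pol e G)
    (x : (cx (Vu n R) (PA n R c)).X n) :
    psi n R s ((((cechComplexFunctor (Vu n R)).map (mulPA c e s hs G hG)).f n).hom x) =
      TG c e s hs G hG (psi n R c x) := by
  apply Subtype.ext
  rw [psi_val, cmp_map_mulPA, TG_val, psi_val]
  exact filt_mulL hG _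

end Cochains

variable (n R)

theorem exists_EPA (d : ℤ) (hd : d ≤ -((n : ℤ) + 1)) :
    ∃ E : (cx (Vu n R) (PA n R d)).homology n ≃+ ND n R d,
      ∀ z : (cx (Vu n R) (PA n R d)).cycles n,
        E (((cx (Vu n R) (PA n R d)).homologyπ n).hom z) =
          psi n R d (((cx (Vu n R) (PA n R d)).iCycles n).hom z) := by
  obtain ⟨k, rfl⟩ : ∃ k : ℕ, d = -((n : ℤ) + 1 + k) := ⟨(-d - ((n : ℤ) + 1)).toNat, by omega⟩
  exact HomologyElem.exists_homologyEquiv
    (cx (Vu n R) (PA n R (-((n : ℤ) + 1 + k)))) n (psi n R (-((n : ℤ) + 1 + k)))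
    (fun i b hi => by subst hi; exact psi_d _ i b)
    (fun y => ⟨altC _ y, d_altC _ y, psi_altC _ y⟩)
    (fun x hx hψ => exists_boundary n k x hx hψ)

/-- the top Čech cohomology of the presheaf of Laurent sections -/
def EPA (d : ℤ) (hd : d ≤ -((n : ℤ) + 1)) :
    (cx (Vu n R) (PA n R d)).homology n ≃+ ND n R d :=
  Classical.choose (exists_EPA n R d hd)

theorem EPA_spec (d : ℤ) (hd : d ≤ -((n : ℤ) + 1)) (z : (cx (Vu n R) (PA n R d)).cycles n) :
    EPA n R d hd (((cx (Vu n R) (PA n R d)).homologyπ n).hom z) =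
      psi n R d (((cx (Vu n R) (PA n R d)).iCycles n).hom z) :=
  Classical.choose_spec (exists_EPA n R d hd) z

variable {n R}

theorem EPA_natural {c s : ℤ} (hc : c ≤ -((n : ℤ) + 1)) (hs' : s ≤ -((n : ℤ) + 1))
    (τ : PA n R c ⟶ PA n R s) (θ : ND n R c → ND n R s)
    (hθ : ∀ x, psi n R s ((((cechComplexFunctor (Vu n R)).map τ).f n).hom x) = θ (psi n R c x))
    (h : (cx (Vu n R) (PA n R c)).homology n) :
    EPA n R s hs' ((HomologicalComplex.homologyMap ((cechComplexFunctor (Vu n R)).map τ) n).hom h) =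
      θ (EPA n R c hc h) :=
  HomologyElem.homologyEquiv_natural ((cechComplexFunctor (Vu n R)).map τ) n
    (psi n R c) (psi n R s) (EPA n R c hc) (EPA n R s hs') (EPA_spec n R c hc) (EPA_spec n R s hs')
    θ hθ h

variable (n R)

/-- Čech cohomology of the Laurent presheaf versus that of `O(d)` -/
def Te (d : ℤ) : (cx (Vu n R) (PA n R d)).homology n ≃+
    (cx (Vu n R) (Twist.twist (CohB1.polyGrading n R) d).presheaf).homology n :=
  haveI := isIso_cechMap (alphaA (n := n) (R := R) d) (fun m i => alphaA_bijective d i)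
  haveI : IsIso (HomologicalComplex.homologyMap ((cechComplexFunctor (Vu n R)).map
      (alphaA (n := n) (R := R) d)) n) :=
    (HomologicalComplex.homologyFunctor AddCommGrpCat.{u} (ComplexShape.up ℕ) n).map_isIso _
  (asIso (HomologicalComplex.homologyMap ((cechComplexFunctor (Vu n R)).map
      (alphaA (n := n) (R := R) d)) n)).addCommGroupIsoToAddEquiv

theorem Te_apply (d : ℤ) (h : (cx (Vu n R) (PA n R d)).homology n) :
    Te n R d h = (HomologicalComplex.homologyMap ((cechComplexFunctor (Vu n R)).map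
      (alphaA (n := n) (R := R) d)) n).hom h := rfl

variable {n R}

theorem Te_natural {c s : ℤ} (τ : PA n R c ⟶ PA n R s)
    (ξ : (Twist.twist (CohB1.polyGrading n R) c).presheaf ⟶
      (Twist.twist (CohB1.polyGrading n R) s).presheaf)
    (hcomm : alphaA (n := n) (R := R) c ≫ ξ = τ ≫ alphaA s)
    (h : (cx (Vu n R) (PA n R c)).homology n) :
    (HomologicalComplex.homologyMap ((cechComplexFunctor (Vu n R)).map ξ) n).hom (Te n R c h) =
      Te n R s ((HomologicalComplex.homologyMap ((cechComplexFunctor (Vu n R)).map τ) n).hom h) := by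
  have h2 : (cechComplexFunctor (Vu n R)).map (alphaA (n := n) (R := R) c) ≫
      (cechComplexFunctor (Vu n R)).map ξ =
      (cechComplexFunctor (Vu n R)).map τ ≫
        (cechComplexFunctor (Vu n R)).map (alphaA (n := n) (R := R) s) := by
    rw [← Functor.map_comp, ← Functor.map_comp, hcomm]
  have h3 := congrArg (fun f => HomologicalComplex.homologyMap f n) h2
  simp only [HomologicalComplex.homologyMap_comp] at h3
  exact ConcreteCategory.congr_hom h3 h

variable (n R)

theorem exists_eL :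
    ∃ e : ∀ M : (Proj (CohB1.polyGrading n R)).Modules, Coh.IsQCoh M →
        (↑(CohB1.cechH (Vu n R) M n) ≃+ Coh.HH (Proj (CohB1.polyGrading n R)) M n),
      ∀ (M M' : (Proj (CohB1.polyGrading n R)).Modules) (hM : Coh.IsQCoh M) (hM' : Coh.IsQCoh M')
        (ψ : Coh.toAb M ⟶ Coh.toAb M') (y : ↑(CohB1.cechH (Vu n R) M n)),
        e M' hM' ((HomologicalComplex.homologyMap
          ((cechComplexFunctor (Vu n R)).map ψ.hom) n).hom y) = Sheaf.H.map ψ n (e M hM y) :=
  LerayNat.cech_nat (Proj (CohB1.polyGrading n R)) (Vu n R) (iSup_Vu n R)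
    (isAffineOpen_biInf n R) n

/-- the Leray isomorphism for the standard cover -/
def eL (d : ℤ) : (cx (Vu n R) (Twist.twist (CohB1.polyGrading n R) d).presheaf).homology n ≃+
    Coh.HH (CohB1.ProjSpace n R) (Twist.twistProjSpace n R d) n :=
  Classical.choose (exists_eL n R) (Twist.twist (CohB1.polyGrading n R) d)
    (GrTildeSelf.isQuasicoherent_twist d)

variable {n R}

theorem eL_natural {c s : ℤ} (ψ : Coh.toAb (Twist.twist (CohB1.polyGrading n R) c) ⟶
      Coh.toAb (Twist.twist (CohB1.polyGrading n R) s))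
    (y : (cx (Vu n R) (Twist.twist (CohB1.polyGrading n R) c).presheaf).homology n) :
    eL n R s ((HomologicalComplex.homologyMap
      ((cechComplexFunctor (Vu n R)).map (abP ψ)) n).hom y) = Sheaf.H.map ψ n (eL n R c y) :=
  Classical.choose_spec (exists_eL n R) _ _ (GrTildeSelf.isQuasicoherent_twist c)
    (GrTildeSelf.isQuasicoherent_twist s) ψ y

variable (n R)

/-- the top cohomology of `O(d)`, `d ≤ -(n+1)`, as Laurent polynomials with negative exponents -/
def rho (d : ℤ) (hd : d ≤ -((n : ℤ) + 1)) :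
    Coh.HH (CohB1.ProjSpace n R) (Twist.twistProjSpace n R d) n ≃+ ND n R d :=
  ((eL n R d).symm.trans (Te n R d).symm).trans (EPA n R d hd)

theorem rho_eL_Te (d : ℤ) (hd : d ≤ -((n : ℤ) + 1)) (z : (cx (Vu n R) (PA n R d)).homology n) :
    rho n R d hd (eL n R d (Te n R d z)) = EPA n R d hd z := by
  unfold rho
  rw [AddEquiv.trans_apply, AddEquiv.trans_apply, AddEquiv.symm_apply_apply,
    AddEquiv.symm_apply_apply]

variable {n R}

set_option maxHeartbeats 1600000 in
theorem rho_natural {c s : ℤ} (hc : c ≤ -((n : ℤ) + 1)) (hs' : s ≤ -((n : ℤ) + 1))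
    (ψ : Coh.toAb (Twist.twist (CohB1.polyGrading n R) c) ⟶
      Coh.toAb (Twist.twist (CohB1.polyGrading n R) s))
    (τ : PA n R c ⟶ PA n R s) (θ : ND n R c → ND n R s)
    (hcomm : alphaA (n := n) (R := R) c ≫ abP ψ = τ ≫ alphaA s)
    (hθ : ∀ x, psi n R s ((((cechComplexFunctor (Vu n R)).map τ).f n).hom x) = θ (psi n R c x))
    (ξ : Coh.HH (CohB1.ProjSpace n R) (Twist.twistProjSpace n R c) n) :
    rho n R s hs' (Sheaf.H.map ψ n ξ) = θ (rho n R c hc ξ) := by
  have key : ∀ h : (cx (Vu n R) (PA n R c)).homology n,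
      rho n R s hs' (Sheaf.H.map ψ n (eL n R c (Te n R c h))) =
        θ (rho n R c hc (eL n R c (Te n R c h))) := by
    intro h
    rw [← eL_natural ψ (Te n R c h), Te_natural τ (abP ψ) hcomm h, rho_eL_Te, rho_eL_Te]
    exact EPA_natural hc hs' τ θ hθ h
  obtain ⟨y, hy⟩ := (eL n R c).surjective ξ
  obtain ⟨h, hh⟩ := (Te n R c).surjective y
  have h1 := key h
  rw [hh, hy] at h1
  exact h1

theorem alphaA_smulAb (d : ℤ) (r : R) :
    alphaA (n := n) (R := R) d ≫ abP (Coh.smulAb (Twist.twist (CohB1.polyGrading n R) d)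
      (Coh.toGlobal (CohB1.ProjSpace.toSpec n R) r)) = muNat d r ≫ alphaA d :=
  alphaA_sigma d r

theorem smul_eq_map (d : ℤ) (r : R)
    (ξ : Coh.HH (CohB1.ProjSpace n R) (Twist.twistProjSpace n R d) n) :
    r • ξ = Sheaf.H.map (Coh.smulAb (Twist.twist (CohB1.polyGrading n R) d)
      (Coh.toGlobal (CohB1.ProjSpace.toSpec n R) r)) n ξ := rfl

theorem rho_smul (d : ℤ) (hd : d ≤ -((n : ℤ) + 1)) (r : R)
    (ξ : Coh.HH (CohB1.ProjSpace n R) (Twist.twistProjSpace n R d) n) :
    rho n R d hd (r • ξ) = r • rho n R d hd ξ := by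
  rw [smul_eq_map]
  exact rho_natural hd hd (Coh.smulAb (Twist.twist (CohB1.polyGrading n R) d)
      (Coh.toGlobal (CohB1.ProjSpace.toSpec n R) r)) (muNat d r) (fun y => r • y)
    (alphaA_smulAb d r) (fun x => psi_mu d r x) ξ

variable (n R)

/-- the top cohomology of `O(d)`, `d ≤ -(n+1)`, linearly -/
def rhoL (d : ℤ) (hd : d ≤ -((n : ℤ) + 1)) :
    Coh.HH (CohB1.ProjSpace n R) (Twist.twistProjSpace n R d) n ≃ₗ[R] ND n R d :=
  (rho n R d hd).toLinearEquiv (fun r ξ => rho_smul d hd r ξ)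

theorem rhoL_apply (d : ℤ) (hd : d ≤ -((n : ℤ) + 1))
    (ξ : Coh.HH (CohB1.ProjSpace n R) (Twist.twistProjSpace n R d) n) :
    rhoL n R d hd ξ = rho n R d hd ξ := rfl

variable {n R}

/-- the top cohomology of multiplication by a polynomial -/
theorem rho_mulG {c e s : ℤ} (hs : c + e = s) (hc : c ≤ -((n : ℤ) + 1))
    (hs' : s ≤ -((n : ℤ) + 1)) (G : Lau n R) (hG : Pol e G)
    (ξ : Coh.HH (CohB1.ProjSpace n R) (Twist.twistProjSpace n R c) n) :
    rho n R s hs' (Sheaf.H.map (abS (mulG (alpha e ⊤ G) c s hs)) n ξ) =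
      TG c e s hs G hG (rho n R c hc ξ) :=
  rho_natural hc hs' (abS (mulG (alpha e ⊤ G) c s hs)) (mulPA c e s hs G hG)
    (TG c e s hs G hG) (alphaA_mulG c e s hs G hG) (fun x => psi_mulPA hs G hG x) ξ

end Groth.Agent.Lib.Helper7.PnDual
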