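import Mathlib
import Groth.Prelude
import Groth.Agent.Lib.Helper7.PnDualA

/-!
# The residue pairing on Laurent polynomials
-/
set_option autoImplicit false
universe u
open CategoryTheory CategoryTheory.Limits AlgebraicGeometry TopologicalSpace Opposite
open Scheme.Modules MvPolynomial

noncomputable section

namespace Groth.Agent.Lib.Helper7.PnDual

open PnLaurent PnSections PnCech PnGamma PnTop Groth.Agent.Lib.Helper3
  Groth.Agent.Lib.Helper3.TwistBasic Groth.Agent.Lib.Helper3.QCSec
  Groth.Agent.Lib.Helper3.TwistMul Groth.Agent.Lib.Helper7.MulG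

variable {n : ℕ} {R : Type u} [CommRing R]

/-- the exponent vector `(-1, …, -1)` -/
def negOne (n : ℕ) : Ex n := fun _ => -1

theorem sum_negOne : ∑ l, negOne n l = -((n : ℤ) + 1) := by
  simp [negOne]

theorem allNeg_negOne : AllNeg (negOne n) := fun _ => by simp [negOne]

theorem negEx_negOne : NegEx n (-((n : ℤ) + 1)) (negOne n) := ⟨sum_negOne, allNeg_negOne⟩

theorem eq_negOne_of_negEx {ε : Ex n} (h : NegEx n (-((n : ℤ) + 1)) ε) : ε = negOne n := by
  have hle : ∀ l, ε l ≤ -1 := fun l => by have := h.2 l; omega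
  funext l
  by_contra hne
  have hlt : ε l < negOne n l := lt_of_le_of_ne (hle l) hne
  have h1 : ∑ l, ε l < ∑ l, negOne n l :=
    Finset.sum_lt_sum (fun i _ => hle i) ⟨l, Finset.mem_univ l, hlt⟩
  rw [h.1, sum_negOne] at h1
  exact lt_irrefl _ h1

variable (n R) in
/-- the residue: the coefficient of `T^{(-1,…,-1)}` -/
def t0 : ND n R (-((n : ℤ) + 1)) →ₗ[R] R where
  toFun y := y.1 (negOne n)
  map_add' _ _ := Finsupp.add_apply _ _ _
  map_smul' _ _ := Finsupp.smul_apply _ _ _

theorem t0_apply (y : ND n R (-((n : ℤ) + 1))) : t0 n R y = y.1 (negOne n) := rfl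

theorem t0_injective : Function.Injective (t0 n R) := by
  intro y y' h
  apply Subtype.ext
  ext ε
  by_cases hε : ε = negOne n
  · rw [hε]
    exact h
  · have h1 : ∀ z : ND n R (-((n : ℤ) + 1)), z.1 ε = 0 := fun z => by
      by_contra hne
      exact hε (eq_negOne_of_negEx ((Finsupp.mem_supported R z.1).mp z.2
        (Finset.mem_coe.mpr (Finsupp.mem_support_iff.mpr hne))))
    rw [h1 y, h1 y']

theorem t0_surjective : Function.Surjective (t0 n R) := fun r =>
  ⟨⟨Finsupp.single (negOne n) r, Finsupp.single_mem_supported R r negEx_negOne⟩,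
    Finsupp.single_eq_same⟩

variable (n R) in
/-- the residue isomorphism -/
def tE : ND n R (-((n : ℤ) + 1)) ≃ₗ[R] R :=
  LinearEquiv.ofBijective (t0 n R) ⟨t0_injective, t0_surjective⟩

theorem tE_apply (y : ND n R (-((n : ℤ) + 1))) : tE n R y = t0 n R y := rfl

/-- the pairing functional: the coefficient of `T^{(-1,…,-1)}` in `G · F` -/
def Lam (G : Lau n R) : Lau n R →+ R := (Finsupp.applyAddHom (negOne n)).comp (mulLHom G)

theorem Lam_apply (G F : Lau n R) : Lam G F = (mulL G F) (negOne n) := rfl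

theorem mulL_single_apply (G : Lau n R) (ε : Ex n) (r : R) (a : Ex n) :
    (mulL G (Finsupp.single ε r)) a = r * G (a - ε) := by
  classical
  rw [mulL_single, Finsupp.sum, Finsupp.finsetSum_apply]
  by_cases hb : (a - ε) ∈ G.support
  · rw [Finset.sum_eq_single (a - ε)]
    · rw [Finsupp.single_apply, if_pos (by abel)]
    · intro b _ hne
      rw [Finsupp.single_apply, if_neg]
      intro h
      apply hne
      rw [← h]
      abel
    · intro h
      exact absurd hb h
  · rw [Finsupp.notMem_support_iff.mp hb, mul_zero]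
    apply Finset.sum_eq_zero
    intro b hb'
    rw [Finsupp.single_apply, if_neg]
    intro h
    apply hb
    have h1 : a - ε = b := by
      rw [← h]
      abel
    rw [h1]
    exact hb'

theorem t0_TG {c e : ℤ} (hs : c + e = -((n : ℤ) + 1)) (G : Lau n R) (hG : Pol e G)
    (y : ND n R c) : t0 n R (TG c e _ hs G hG y) = Lam G y.1 := by
  change (filt (mulL G y.1)) (negOne n) = (mulL G y.1) (negOne n)
  rw [filt_apply, Finsupp.filter_apply, if_pos allNeg_negOne]

theorem exists_pol_of_functional {c e : ℤ} (hs : c + e = -((n : ℤ) + 1))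
    (ψ : ND n R c →ₗ[R] R) :
    ∃ G : Lau n R, Pol e G ∧ ∀ y : ND n R c, Lam G y.1 = ψ y := by
  classical
  let P : Ex n → Prop := fun b => (∑ l, b l = e) ∧ ∀ l, 0 ≤ b l
  have hfin : {b : Ex n | P b}.Finite := by
    refine Set.Finite.subset (Set.finite_Icc (0 : Ex n) (fun _ => e)) ?_
    intro b hb
    refine ⟨fun l => hb.2 l, fun l => ?_⟩
    have := Finset.single_le_sum (f := b) (fun i _ => hb.2 i) (Finset.mem_univ l)
    rw [hb.1] at this
    exact this
  let ψ' : Lau n R →ₗ[R] R := ψ.comp (Finsupp.restrictDom R R {ε : Ex n | NegEx n c ε})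
  let gf : Ex n → R := fun b => if P b then ψ' (Finsupp.single (negOne n - b) 1) else 0
  let G : Lau n R := Finsupp.onFinset hfin.toFinset gf (fun b hb => by
    rw [Set.Finite.mem_toFinset]
    by_contra hP
    exact hb (if_neg hP))
  have hGapp : ∀ b, G b = gf b := fun b => rfl
  have hPol : Pol e G := by
    intro b hb
    by_contra hP
    exact (Finsupp.mem_support_iff.mp hb) ((hGapp b).trans (if_neg hP))
  refine ⟨G, hPol, ?_⟩
  have hsingle : ∀ (ε : Ex n) (r : R),
      Lam G (Finsupp.single ε r) = ψ'.toAddMonoidHom (Finsupp.single ε r) := by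
    intro ε r
    rw [Lam_apply, mulL_single_apply, hGapp]
    have hiff : P (negOne n - ε) ↔ NegEx n c ε := by
      constructor
      · rintro ⟨h1, h2⟩
        refine ⟨?_, fun l => ?_⟩
        · simp only [Pi.sub_apply, Finset.sum_sub_distrib, sum_negOne] at h1
          omega
        · have := h2 l
          simp only [Pi.sub_apply, negOne] at this
          omega
      · rintro ⟨h1, h2⟩
        refine ⟨?_, fun l => ?_⟩
        · simp only [Pi.sub_apply, Finset.sum_sub_distrib, sum_negOne, h1]
          omega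
        · have := h2 l
          simp only [Pi.sub_apply, negOne]
          omega
    change r * (if P (negOne n - ε) then
      ψ' (Finsupp.single (negOne n - (negOne n - ε)) 1) else 0) = ψ' (Finsupp.single ε r)
    by_cases hN : NegEx n c ε
    · rw [if_pos (hiff.mpr hN), sub_sub_cancel]
      calc r * ψ' (Finsupp.single ε 1) = r • ψ' (Finsupp.single ε 1) := (smul_eq_mul _ _).symm
        _ = ψ' (r • Finsupp.single ε 1) := (map_smul ψ' r _).symm
        _ = ψ' (Finsupp.single ε r) := by rw [Finsupp.smul_single, smul_eq_mul, mul_one]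
    · rw [if_neg (fun h => hN (hiff.mp h)), mul_zero]
      symm
      change ψ (Finsupp.restrictDom R R {ε : Ex n | NegEx n c ε} (Finsupp.single ε r)) = 0
      have h0 : Finsupp.restrictDom R R {ε : Ex n | NegEx n c ε} (Finsupp.single ε r) = 0 := by
        apply Subtype.ext
        rw [Finsupp.restrictDom_apply]
        exact Finsupp.filter_single_of_neg _ hN
      rw [h0, map_zero]
  have hadd : Lam G = ψ'.toAddMonoidHom := Finsupp.addHom_ext hsingle
  intro y
  have h1 : Lam G y.1 = ψ' y.1 := DFunLike.congr_fun hadd y.1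
  rw [h1]
  change ψ (Finsupp.restrictDom R R {ε : Ex n | NegEx n c ε} y.1) = ψ y
  have h2 := LinearMap.congr_fun
    (Finsupp.restrictDom_comp_subtype (R := R) (M := R) {ε : Ex n | NegEx n c ε}) y
  exact congrArg ψ h2

theorem pol_ext {c e : ℤ} (hs : c + e = -((n : ℤ) + 1)) {G G' : Lau n R} (hG : Pol e G)
    (hG' : Pol e G') (h : ∀ y : ND n R c, Lam G y.1 = Lam G' y.1) : G = G' := by
  ext b
  by_cases hP : (∑ l, b l = e) ∧ ∀ l, 0 ≤ b l
  · have hN : NegEx n c (negOne n - b) := by
      refine ⟨?_, fun l => ?_⟩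
      · simp only [Pi.sub_apply, Finset.sum_sub_distrib, sum_negOne, hP.1]
        omega
      · have := hP.2 l
        simp only [Pi.sub_apply, negOne]
        omega
    have h1 : Lam G (Finsupp.single (negOne n - b) 1) = Lam G' (Finsupp.single (negOne n - b) 1) :=
      h ⟨Finsupp.single (negOne n - b) 1, Finsupp.single_mem_supported R 1 hN⟩
    rw [Lam_apply, Lam_apply, mulL_single_apply, mulL_single_apply, sub_sub_cancel, one_mul,
      one_mul] at h1
    exact h1
  · have h0 : ∀ {G'' : Lau n R}, Pol e G'' → G'' b = 0 := fun {G''} hG'' => by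
      by_contra hne
      exact hP (hG'' b (Finsupp.mem_support_iff.mpr hne))
    rw [h0 hG, h0 hG']

theorem pol_eq_zero_of_neg {e : ℤ} (he : e < 0) {G : Lau n R} (hG : Pol e G) : G = 0 := by
  by_contra hne
  obtain ⟨b, hb⟩ := Finsupp.support_nonempty_iff.mpr hne
  have h1 := hG b hb
  have h2 : 0 ≤ ∑ l, b l := Finset.sum_nonneg fun l _ => h1.2 l
  omega

theorem exists_pol_of_global {e : ℤ} (hnd : 1 ≤ n ∨ 0 ≤ e)
    (g : Γ(Twist.twist (CohB1.polyGrading n R) e, (⊤ : (Proj (CohB1.polyGrading n R)).Opens))) :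
    ∃ G : Lau n R, Pol e G ∧ g = alpha e ⊤ G := by
  obtain ⟨G, hG, hGt⟩ := exists_lau_of_global e hnd g
  refine ⟨G, hG, ?_⟩
  apply val_ext
  intro x
  obtain ⟨i, hi⟩ : ∃ i, x.1 ∈ V n R i := by
    have h1 : x.1 ∈ ⨆ j : Fin (n + 1), V n R j := by rw [iSup_V]; trivial
    exact Opens.mem_iSup.mp h1
  have h1 := congrArg (fun s => val s ⟨x.1, hi⟩) (hGt i)
  have h2 := congrArg (fun s => val s ⟨x.1, hi⟩)
    (res_alpha (le_top : V n R i ≤ ⊤) (fun b hb => Pol.cond hG ⊤ hb))
  exact h1.trans h2.symm

end Groth.Agent.Lib.Helper7.PnDual
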