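import Mathlib
import Groth.Prelude
import Groth.Agent.Lib.Helper7.PnDualB
import Groth.Agent.Lib.Helper7.HomTw

/-!
# Serre duality for the twisting sheaves on projective space
-/
set_option autoImplicit false
universe u
open CategoryTheory CategoryTheory.Limits AlgebraicGeometry TopologicalSpace Opposite
open Scheme.Modules MvPolynomial

noncomputable section

namespace Groth.Agent.Lib.Helper7.PnDual

open PnLaurent PnSections PnCech PnGamma PnTop Groth.Agent.Lib.Helper3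
  Groth.Agent.Lib.Helper3.TwistBasic Groth.Agent.Lib.Helper3.QCSec
  Groth.Agent.Lib.Helper3.TwistMul Groth.Agent.Lib.Helper7.MulG

variable (n : ℕ) (R : Type u) [CommRing R]

/-- the trace isomorphism `H^n(P^n_R, O(-n-1)) ≃ R` -/
def tL : Coh.HH (CohB1.ProjSpace n R) (Twist.twistProjSpace n R (-((n : ℤ) + 1))) n ≃ₗ[R] R :=
  (rhoL n R (-((n : ℤ) + 1)) le_rfl).trans (tE n R)

theorem tL_apply (ξ : Coh.HH (CohB1.ProjSpace n R) (Twist.twistProjSpace n R (-((n : ℤ) + 1))) n) :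
    tL n R ξ = t0 n R (rho n R (-((n : ℤ) + 1)) le_rfl ξ) := rfl

variable {n R}

/-- every morphism between twisting sheaves on `P^n_R` is the multiplication by a polynomial -/
theorem exists_pol_mulG {c e s : ℤ} (hs : c + e = s) (hnd : 1 ≤ n ∨ 0 ≤ e)
    (φ : Twist.twist (CohB1.polyGrading n R) c ⟶ Twist.twist (CohB1.polyGrading n R) s) :
    ∃ G : Lau n R, Pol e G ∧ φ = mulG (alpha e ⊤ G) c s hs := by
  obtain ⟨g, rfl⟩ := HomTw.exists_mulG (Mumford.hU n R) c e s hs φ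
  obtain ⟨G, hG, rfl⟩ := exists_pol_of_global hnd g
  exact ⟨G, hG, rfl⟩

/-- there are no nonzero morphisms `O(c) ⟶ O(s)` for `s < c` on `P^n_R`, `n ≥ 1` -/
theorem hom_subsingleton {c s : ℤ} (hn : 1 ≤ n) (hcs : s < c)
    (φ φ' : Twist.twist (CohB1.polyGrading n R) c ⟶ Twist.twist (CohB1.polyGrading n R) s) :
    φ = φ' := by
  obtain ⟨e, hs⟩ : ∃ e : ℤ, c + e = s := ⟨s - c, by omega⟩
  have he : e < 0 := by omega
  obtain ⟨G, hG, rfl⟩ := exists_pol_mulG hs (Or.inl hn) φ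
  obtain ⟨G', hG', rfl⟩ := exists_pol_mulG hs (Or.inl hn) φ'
  rw [pol_eq_zero_of_neg he hG, pol_eq_zero_of_neg he hG']

variable (n R)

/-- the map on top cohomology induced by a morphism of twisting sheaves -/
def HmT {c s : ℤ}
    (φ : Twist.twist (CohB1.polyGrading n R) c ⟶ Twist.twist (CohB1.polyGrading n R) s) :
    Coh.HH (CohB1.ProjSpace n R) (Twist.twistProjSpace n R c) n →+
      Coh.HH (CohB1.ProjSpace n R) (Twist.twistProjSpace n R s) n :=
  Sheaf.H.map (abS φ) n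

variable {n R}

theorem rho_HmT_mulG {c e s : ℤ} (hs : c + e = s) (hc : c ≤ -((n : ℤ) + 1))
    (hs' : s ≤ -((n : ℤ) + 1)) (G : Lau n R) (hG : Pol e G)
    (ξ : Coh.HH (CohB1.ProjSpace n R) (Twist.twistProjSpace n R c) n) :
    rho n R s hs' (HmT n R (mulG (alpha e ⊤ G) c s hs) ξ) =
      TG c e s hs G hG (rho n R c hc ξ) :=
  rho_mulG hs hc hs' G hG ξ

theorem tL_HmT_mulG {c e : ℤ} (hs : c + e = -((n : ℤ) + 1)) (hc : c ≤ -((n : ℤ) + 1))
    (G : Lau n R) (hG : Pol e G)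
    (x : Coh.HH (CohB1.ProjSpace n R) (Twist.twistProjSpace n R c) n) :
    tL n R (HmT n R (mulG (alpha e ⊤ G) c _ hs) x) = Lam G (rho n R c hc x).1 := by
  rw [tL_apply, rho_HmT_mulG hs hc le_rfl G hG x, t0_TG]

theorem twist_duality_aux (c e : ℤ) (hs : c + e = -((n : ℤ) + 1)) (hc : c ≤ -((n : ℤ) + 1))
    (he0 : 0 ≤ e)
    (ψ : Coh.HH (CohB1.ProjSpace n R) (Twist.twistProjSpace n R c) n →ₗ[R] R) :
    ∃! φ : Twist.twist (CohB1.polyGrading n R) c ⟶
        Twist.twist (CohB1.polyGrading n R) (-((n : ℤ) + 1)),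
      ∀ x, ψ x = tL n R (HmT n R φ x) := by
  obtain ⟨G, hG, hGψ⟩ := exists_pol_of_functional hs
    (ψ.comp (rhoL n R c hc).symm.toLinearMap)
  have hψ : ∀ x, Lam G (rho n R c hc x).1 = ψ x := by
    intro x
    rw [hGψ]
    change ψ ((rhoL n R c hc).symm (rhoL n R c hc x)) = ψ x
    rw [LinearEquiv.symm_apply_apply]
  refine ⟨mulG (alpha e ⊤ G) c _ hs, fun x => ?_, fun φ hφ => ?_⟩
  · rw [tL_HmT_mulG hs hc G hG x, hψ]
  · obtain ⟨G', hG', rfl⟩ := exists_pol_mulG hs (Or.inr he0) φ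
    have hGG : G' = G := pol_ext hs hG' hG (fun y => by
      obtain ⟨x, rfl⟩ := (rho n R c hc).surjective y
      rw [← tL_HmT_mulG hs hc G' hG' x, ← hφ x, hψ])
    rw [hGG]

variable (n R)

/-- **Serre duality for twisting sheaves**: every linear form on `H^n(O(c))`, `c ≤ -n-1`, is
`t ∘ H^n(φ)` for a unique `φ : O(c) ⟶ O(-n-1)`. -/
theorem twist_duality (c : ℤ) (hc : c ≤ -((n : ℤ) + 1))
    (ψ : Coh.HH (CohB1.ProjSpace n R) (Twist.twistProjSpace n R c) n →ₗ[R] R) :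
    ∃! φ : Twist.twist (CohB1.polyGrading n R) c ⟶
        Twist.twist (CohB1.polyGrading n R) (-((n : ℤ) + 1)),
      ∀ x, ψ x = tL n R (HmT n R φ x) :=
  twist_duality_aux c (-((n : ℤ) + 1) - c) (by omega) hc (by omega) ψ

end Groth.Agent.Lib.Helper7.PnDual
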