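import Mathlib
import Groth.Prelude
import Groth.Agent.Lib.Helper7.PnDualC
import Groth.Agent.Lib.Helper7.RegRes

/-!
# Serre duality on projective space: `Hom(F, ω) ≃ H^n(F)^∨` for coherent `F`
-/
set_option autoImplicit false
universe u
open CategoryTheory CategoryTheory.Limits AlgebraicGeometry TopologicalSpace Opposite
open Scheme.Modules

noncomputable section

namespace Groth.Agent.Lib.Helper7.PnDual

open Groth.Agent.Lib.Helper3 Groth.Agent.Lib.Helper7.MulSurj Groth.Agent.Lib.Helper7.RegRes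
  Groth.Agent.Lib.Helper7.CohFinite Groth.Agent.Lib.Helper7.MulG

variable (n : ℕ) (R : Type u) [CommRing R]

/-- the dualizing sheaf of `P^n_R` -/
abbrev omega : (CohB1.ProjSpace n R).Modules := Twist.twistProjSpace n R (-((n : ℤ) + 1))

/-- the trace -/
def tr : Coh.HH (CohB1.ProjSpace n R) (omega n R) n →ₗ[R] R := (tL n R).toLinearMap

theorem tr_apply (ξ : Coh.HH (CohB1.ProjSpace n R) (omega n R) n) : tr n R ξ = tL n R ξ := rfl

/-- `E` satisfies duality: `Hom(E, ω) → H^n(E)^∨` is bijective -/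
def IsDual (E : (CohB1.ProjSpace n R).Modules) : Prop :=
  (∀ ψ : Coh.HH (CohB1.ProjSpace n R) E n →ₗ[R] R,
    ∃ φ : E ⟶ omega n R, ∀ x, ψ x = tr n R (Hm φ n x)) ∧
  (∀ φ : E ⟶ omega n R, (∀ x, tr n R (Hm φ n x) = 0) → φ = 0)

theorem HmT_eq_Hm {c s : ℤ}
    (φ : Twist.twist (CohB1.polyGrading n R) c ⟶ Twist.twist (CohB1.polyGrading n R) s)
    (x : Coh.HH (CohB1.ProjSpace n R) (Twist.twistProjSpace n R c) n) :
    HmT n R φ x = Hm (X := CohB1.ProjSpace n R) (M := Twist.twistProjSpace n R c)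
      (N := Twist.twistProjSpace n R s) φ n x := rfl

theorem HmT_zero {c s : ℤ}
    (x : Coh.HH (CohB1.ProjSpace n R) (Twist.twistProjSpace n R c) n) :
    HmT n R (0 : Twist.twist (CohB1.polyGrading n R) c ⟶
      Twist.twist (CohB1.polyGrading n R) s) x = 0 :=
  Hm_zero (X := CohB1.ProjSpace n R) (M := Twist.twistProjSpace n R c)
    (N := Twist.twistProjSpace n R s) n x

theorem isDual_twist (c : ℤ) (hc : c ≤ -((n : ℤ) + 1)) :
    IsDual n R (Twist.twistProjSpace n R c) := by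
  constructor
  · intro ψ
    obtain ⟨φ, hφ, -⟩ := twist_duality n R c hc ψ
    exact ⟨φ, hφ⟩
  · intro φ hφ
    obtain ⟨φ₀, -, huniq⟩ := twist_duality n R c hc 0
    have h1 : φ = φ₀ := huniq φ (fun x => by
      rw [LinearMap.zero_apply]
      exact (hφ x).symm)
    have h2 : (0 : Twist.twist (CohB1.polyGrading n R) c ⟶
        Twist.twist (CohB1.polyGrading n R) (-((n : ℤ) + 1))) = φ₀ := huniq 0 (fun x => by
      rw [LinearMap.zero_apply, HmT_zero, map_zero])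
    exact h1.trans h2.symm

variable {n R}

theorem isDual_biprod (A B : (CohB1.ProjSpace n R).Modules) (hA : IsDual n R A)
    (hB : IsDual n R B) : IsDual n R (A ⊞ B) := by
  constructor
  · intro ψ
    obtain ⟨φA, hφA⟩ := hA.1 (ψ.comp (HmapL R (biprod.inl : A ⟶ A ⊞ B) n))
    obtain ⟨φB, hφB⟩ := hB.1 (ψ.comp (HmapL R (biprod.inr : B ⟶ A ⊞ B) n))
    refine ⟨biprod.desc φA φB, fun x => ?_⟩
    have hx : Hm (biprod.inl : A ⟶ A ⊞ B) n (Hm (biprod.fst : A ⊞ B ⟶ A) n x) +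
        Hm (biprod.inr : B ⟶ A ⊞ B) n (Hm (biprod.snd : A ⊞ B ⟶ B) n x) = x := by
      rw [← Hm_comp, ← Hm_comp, ← Hm_add, biprod.total, Hm_id]
    have hA' := hφA (Hm (biprod.fst : A ⊞ B ⟶ A) n x)
    have hB' := hφB (Hm (biprod.snd : A ⊞ B ⟶ B) n x)
    have h1 : Hm (biprod.desc φA φB) n x =
        Hm φA n (Hm (biprod.fst : A ⊞ B ⟶ A) n x) +
          Hm φB n (Hm (biprod.snd : A ⊞ B ⟶ B) n x) := by
      have e1 := Hm_comp (biprod.inl : A ⟶ A ⊞ B) (biprod.desc φA φB) n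
        (Hm (biprod.fst : A ⊞ B ⟶ A) n x)
      have e2 := Hm_comp (biprod.inr : B ⟶ A ⊞ B) (biprod.desc φA φB) n
        (Hm (biprod.snd : A ⊞ B ⟶ B) n x)
      rw [biprod.inl_desc] at e1
      rw [biprod.inr_desc] at e2
      rw [e1, e2, ← map_add, hx]
    have h2 : ψ x = ψ (Hm (biprod.inl : A ⟶ A ⊞ B) n (Hm (biprod.fst : A ⊞ B ⟶ A) n x)) +
        ψ (Hm (biprod.inr : B ⟶ A ⊞ B) n (Hm (biprod.snd : A ⊞ B ⟶ B) n x)) := by
      rw [← map_add, hx]
    rw [h1, map_add, ← hA', ← hB', h2]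
    rfl
  · intro φ hφ
    apply biprod.hom_ext'
    · rw [comp_zero]
      exact hA.2 _ (fun x => by rw [Hm_comp]; exact hφ _)
    · rw [comp_zero]
      exact hB.2 _ (fun x => by rw [Hm_comp]; exact hφ _)

theorem isDual_powSum (L : (CohB1.ProjSpace n R).Modules) (hL : IsDual n R L) :
    ∀ j, IsDual n R (powSum L j)
  | 0 => hL
  | j + 1 => isDual_biprod _ _ (isDual_powSum L hL j) hL

/-- duality passes to the cokernel of a morphism between modules satisfying duality -/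
theorem isDual_of_presentation {E₀ E₁ F : (CohB1.ProjSpace n R).Modules} (π : E₀ ⟶ F) [Epi π]
    (β : E₁ ⟶ E₀) (hβπ : β ≫ π = 0)
    (hex : ∀ g : E₀ ⟶ omega n R, β ≫ g = 0 → kernel.ι π ≫ g = 0)
    (hsurj : ∀ x : Coh.HH (CohB1.ProjSpace n R) F n, ∃ y, Hm π n y = x)
    (h0 : IsDual n R E₀) (h1 : IsDual n R E₁) : IsDual n R F := by
  constructor
  · intro ψ
    obtain ⟨φ₀, hφ₀⟩ := h0.1 (ψ.comp (HmapL R π n))
    have hβφ : β ≫ φ₀ = 0 := h1.2 _ (fun y => by
      rw [Hm_comp, ← hφ₀ (Hm β n y)]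
      change ψ (Hm π n (Hm β n y)) = 0
      rw [← Hm_comp, hβπ, Hm_zero, map_zero])
    refine ⟨Abelian.epiDesc π φ₀ (hex φ₀ hβφ), fun x => ?_⟩
    obtain ⟨y, rfl⟩ := hsurj x
    rw [← Hm_comp, Abelian.comp_epiDesc, ← hφ₀ y]
    rfl
  · intro φ hφ
    have h2 : π ≫ φ = 0 := h0.2 _ (fun y => by rw [Hm_comp]; exact hφ _)
    exact (cancel_epi π).mp (h2.trans comp_zero.symm)

variable (n R)

/-- a coherent module on `P^n_R` is a quotient of a finite direct sum of copies of `O(-m)`,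
`m ≥ n + 1` -/
theorem exists_epi_powSum (M : (CohB1.ProjSpace n R).Modules) (hM : Coh.IsCoh M) :
    ∃ (m : ℕ) (_ : n + 1 ≤ m) (j : ℕ)
      (π : powSum (Twist.twistProjSpace n R (-(m : ℤ))) j ⟶ M), Epi π := by
  classical
  obtain ⟨n₀, hn₀⟩ := Groth.Agent.S4402.result (CohB1.polyGrading n R)
    (Finset.univ.image (MvPolynomial.X : Fin (n + 1) → MvPolynomial (Fin (n + 1)) R))
    (fun f hf => by
      obtain ⟨a, _, rfl⟩ := Finset.mem_image.mp hf
      exact MvPolynomial.isHomogeneous_X R a)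
    (PnFinite.irrelevant_eq_span n R) M hM.1 hM.2
  obtain ⟨k, p, hp⟩ := hn₀ (max n₀ (n + 1)) (le_max_left _ _)
  haveI := hp
  exact ⟨max n₀ (n + 1), le_max_right _ _, k, _, epi_powDesc p⟩

theorem isDual_of_isCoh [IsNoetherianRing R] (F : (CohB1.ProjSpace n R).Modules)
    (hF : Coh.IsCoh F) : IsDual n R F := by
  haveI : IsNoetherian (CohB1.ProjSpace n R) :=
    Groth.Agent.S2357.result (CohB1.polyGrading n R)
  obtain ⟨m₀, hm₀, j₀, π, hπ⟩ := exists_epi_powSum n R F hF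
  haveI := hπ
  have hE₀ : Coh.IsCoh (powSum (Twist.twistProjSpace n R (-(m₀ : ℤ))) j₀) :=
    isCoh_powSum _ (PnFinite.isCoh_twist n R (-(m₀ : ℤ))) j₀
  haveI : (powSum (Twist.twistProjSpace n R (-(m₀ : ℤ))) j₀).IsQuasicoherent := hE₀.1
  haveI : F.IsQuasicoherent := hF.1
  have hKq : Coh.IsQCoh (kernel π) := QCProps.isQuasicoherent_kernel π
  have hK : Coh.IsCoh (kernel π) := Groth.Agent.S0046.result _ _ (kernel π) (kernel.ι π) hE₀ hKq
  obtain ⟨m₁, hm₁, j₁, π₁, hπ₁⟩ := exists_epi_powSum n R (kernel π) hK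
  haveI := hπ₁
  have hd₀ : IsDual n R (powSum (Twist.twistProjSpace n R (-(m₀ : ℤ))) j₀) :=
    isDual_powSum _ (isDual_twist n R _ (by omega)) j₀
  have hd₁ : IsDual n R (powSum (Twist.twistProjSpace n R (-(m₁ : ℤ))) j₁) :=
    isDual_powSum _ (isDual_twist n R _ (by omega)) j₁
  refine isDual_of_presentation π (π₁ ≫ kernel.ι π) ?_ ?_ ?_ hd₀ hd₁
  · rw [Category.assoc, kernel.condition, comp_zero]
  · intro g hg
    rw [Category.assoc] at hg
    exact (cancel_epi π₁).mp (hg.trans comp_zero.symm)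
  · intro x
    have hS := CechCard.shortExact_kernel π
    exact Hm_surj _ hS n (@Mumford.hvan n R _ _ hKq (n + 1) (by omega)) x

end Groth.Agent.Lib.Helper7.PnDual
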