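import Mathlib
import Groth.Prelude
import Groth.Agent.Lib.Helper7.RegRes
import Groth.Agent.Lib.Helper3.ProjUniq

/-!
# Splitting of extensions of twists on `P^n`, `n ≥ 2`

* `splitting_of_H1`: a short exact sequence `0 → A → B → C → 0` with `C ⊗ L ≅ O` (`L` invertible)
  and `H^1(A ⊗ L) = 0` splits.
* `splitting_twists`: on `P^n_R`, `n ≥ 2`, extensions of `O(b)` by `O(a)` split.
-/
set_option autoImplicit false
universe u
open CategoryTheory CategoryTheory.Limits AlgebraicGeometry TopologicalSpace Opposite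
open Scheme.Modules

noncomputable section

namespace Groth.Agent.Lib.Helper7.SplitTw

open Groth.Agent.Lib.Helper3 Groth.Agent.Lib.Helper3.QCSec Groth.Agent.Lib.Helper3.InvGen
  Groth.Agent.Lib.Helper3.InvTensor Groth.Agent.Lib.Helper3.InvMonoidal
  Groth.Agent.Lib.Helper3.TwistBasic Groth.Agent.Lib.Helper3.TwistMul
  Groth.Agent.Lib.Helper7.TwFun Groth.Agent.Lib.Helper7.TwProj Groth.Agent.Lib.Helper7.MulSurj
  Groth.Agent.Lib.Helper7.RegRes
  Groth.Agent.Lib.Helper13 Groth.Agent.Lib.Helper13.SerreCrit1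

section General

variable {X : Scheme.{u}}

lemma globalHom_one :
    InvAmple.globalHom (Coh.structureModule X) (ofFun ⊤ 1) = 𝟙 (Coh.structureModule X) := by
  apply ProjUniq.unit_hom_ext
  rw [InvAmple.sec_globalHom, res_self]
  rfl

/-- a short exact sequence `0 → A → B → C → 0` with `C ⊗ L ≅ O` and `H^1(A ⊗ L) = 0` splits. -/
theorem splitting_of_H1 (S : ShortComplex X.Modules) (hS : S.ShortExact) (L L' : X.Modules)
    (e : CohB1.tensorMod L L' ≅ Coh.structureModule X)
    (u : (twR L).obj S.X₃ ≅ Coh.structureModule X)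
    (h1 : Subsingleton (Coh.HH X ((twR L).obj S.X₁) 1)) : Nonempty S.Splitting := by
  haveI := isEquivalence_twR L L' e
  have hSL : (S.map (twR L)).ShortExact := shortExact_twR L L' e S hS
  obtain ⟨y, hy⟩ : ∃ y : Γ((twR L).obj S.X₂, (⊤ : X.Opens)),
      ((twR L).map S.g).app ⊤ y = u.inv.app ⊤ (ofFun ⊤ 1) :=
    surjective_app_top_of_H1 (S.map (twR L)) hSL h1 (u.inv.app ⊤ (ofFun ⊤ 1))
  have hs' : (u.hom ≫ InvAmple.globalHom ((twR L).obj S.X₂) y) ≫ (twR L).map S.g = 𝟙 _ := by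
    rw [Category.assoc, ProjUniq.globalHom_comp, hy, ← ProjUniq.globalHom_comp, globalHom_one,
      Category.id_comp, u.hom_inv_id]
  obtain ⟨σ, hσ⟩ : ∃ σ : S.X₃ ⟶ S.X₂,
      (twR L).map σ = u.hom ≫ InvAmple.globalHom ((twR L).obj S.X₂) y :=
    ⟨(twR L).preimage _, (twR L).map_preimage _⟩
  have hσg : σ ≫ S.g = 𝟙 _ := by
    apply (twR L).map_injective
    rw [(twR L).map_comp, hσ, hs', (twR L).map_id]
  haveI := hS.mono_f
  exact ⟨ShortComplex.Splitting.ofExactOfSection S hS.exact σ hσg inferInstance⟩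

end General

section Pn

variable (n : ℕ) (R : Type u) [CommRing R]

/-- on `P^n_R`, `n ≥ 2`, every extension of `O(b)` by `O(a)` splits. -/
theorem splitting_twists (hn : 2 ≤ n) (a b : ℤ)
    (S : ShortComplex (CohB1.ProjSpace n R).Modules) (hS : S.ShortExact)
    (ha : Nonempty (S.X₁ ≅ Twist.twistProjSpace n R a))
    (hb : Nonempty (S.X₃ ≅ Twist.twistProjSpace n R b)) : Nonempty S.Splitting := by
  obtain ⟨ea⟩ := ha
  obtain ⟨eb⟩ := hb
  refine splitting_of_H1 S hS (Twist.twistProjSpace n R (-b)) (Twist.twistProjSpace n R b)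
    (pairIso' (Mumford.hU n R) (-b) b (neg_add_cancel b))
    (tensorMapIso eb (Iso.refl _) ≪≫ pairIso (Mumford.hU n R) b) ?_
  have h0 : Subsingleton (Coh.HH (CohB1.ProjSpace n R) (Twist.twistProjSpace n R (a + -b)) 1) :=
    Groth.Agent.S0844.result R n (a + -b) 1 (by rintro ⟨h, -⟩; omega) (by rintro ⟨h, -⟩; omega)
  exact subsingleton_HH_of_iso
    (tensorMapIso ea (Iso.refl _) ≪≫ mulIso' (Mumford.hU n R) a (-b) (a + -b) rfl) 1 h0

end Pn

end Groth.Agent.Lib.Helper7.SplitTw
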