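import Mathlib
import Groth.Prelude
import Groth.Agent.Lib.Helper7.PnDualD
import Groth.Agent.Lib.Helper7.SplitTw
import Groth.Agent.Lib.Helper7.SerreVan
import Groth.Agent.Lib.Helper7.MumLem
import Groth.Agent.S0024
import Groth.Agent.S0046
import Groth.Agent.S0843
import Groth.Agent.S0844

/-!
# Horrocks' splitting criterion on `P^n_K`

A coherent module `F` on `P^n_K` (`K` a field, `n ≥ 1`) is a finite direct sum of twisting sheaves
iff `H^0(F(m)) = 0` for `m ≪ 0` and `H^i(F(m)) = 0` for `0 < i < n` and all `m`.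

The proof of the hard direction follows the Castelnuovo–Mumford regularity argument: take the
least `m₀` with `F` `m₀`-regular; then `H^n(F(m₀ - 1 - n)) ≠ 0`, which by Serre duality gives a
nonzero map `F ⟶ O(-m₀)`; since `F(m₀)` is globally generated, this map is a split epimorphism.
-/
set_option autoImplicit false
universe u
open CategoryTheory CategoryTheory.Limits AlgebraicGeometry TopologicalSpace Opposite
open Scheme.Modules

noncomputable section

namespace Groth.Agent.Lib.Helper7.Horrocks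

open Groth.Agent.Lib.Helper3 Groth.Agent.Lib.Helper3.QCSec Groth.Agent.Lib.Helper3.InvGen
  Groth.Agent.Lib.Helper3.InvTensor Groth.Agent.Lib.Helper3.InvMonoidal
  Groth.Agent.Lib.Helper3.TwistBasic Groth.Agent.Lib.Helper3.TwistMul
  Groth.Agent.Lib.Helper7.TwFun Groth.Agent.Lib.Helper7.TwProj Groth.Agent.Lib.Helper7.MulSurj
  Groth.Agent.Lib.Helper7.RegRes Groth.Agent.Lib.Helper7.CohFinite
  Groth.Agent.Lib.Helper7.PnDual
  Groth.Agent.Lib.Helper13 Groth.Agent.Lib.Helper13.SerreCrit1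

section LinAlg

lemma finrank_lt_of_split {K V' V W : Type*} [Field K] [AddCommGroup V'] [Module K V']
    [AddCommGroup V] [Module K V] [AddCommGroup W] [Module K W] [Module.Finite K V]
    [Nontrivial W] (α : V' →ₗ[K] V) (β : V →ₗ[K] W) (hα : Function.Injective α)
    (hβ : Function.Surjective β) (hβα : ∀ x, β (α x) = 0) :
    Module.finrank K V' < Module.finrank K V := by
  haveI : Module.Finite K W := Module.Finite.of_surjective β hβ
  have h1 : Module.finrank K (LinearMap.range α) = Module.finrank K V' :=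
    LinearMap.finrank_range_of_inj hα
  have h2 : LinearMap.range α ≤ LinearMap.ker β := by
    rintro _ ⟨x, rfl⟩
    exact hβα x
  have h3 := Submodule.finrank_mono h2
  have h4 := LinearMap.finrank_range_add_finrank_ker β
  have h5 : Module.finrank K (LinearMap.range β) = Module.finrank K W := by
    rw [LinearMap.range_eq_top.mpr hβ, finrank_top]
  have h6 : 0 < Module.finrank K W := Module.finrank_pos
  omega

end LinAlg

section General

variable {X : Scheme.{u}}

/-- cohomology vanishing passes to retracts. -/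
lemma sub_retract {A B : X.Modules} (ι : A ⟶ B) (q : B ⟶ A) (h : ι ≫ q = 𝟙 A)
    (T : X.Modules ⥤ X.Modules) (j : ℕ) (hB : Subsingleton (Coh.HH X (T.obj B) j)) :
    Subsingleton (Coh.HH X (T.obj A) j) := by
  refine subsingleton_of_forall_eq 0 fun x => ?_
  have h1 : Hm (T.map ι ≫ T.map q) j x = x := by
    rw [← T.map_comp, h, T.map_id]
    exact Hm_id _ j x
  rw [← h1, Hm_comp, @Subsingleton.elim _ hB (Hm (T.map ι) j x) 0, map_zero]

lemma globalHom_zero (N : X.Modules) :
    InvAmple.globalHom N (0 : Γ(N, (⊤ : X.Opens))) = 0 := by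
  apply ProjUniq.unit_hom_ext
  rw [InvAmple.sec_globalHom, res_self]
  exact (GGTwist.zero_app' (M := Coh.structureModule X) (N := N) ⊤ (ofFun ⊤ 1)).symm

/-- a morphism out of a globally generated module vanishing on global sections is zero. -/
lemma eq_zero_of_gg {M N : X.Modules} (hM : Curv2.IsGloballyGenerated M) (φ : M ⟶ N)
    (h : ∀ s : Γ(M, (⊤ : X.Opens)), φ.app ⊤ s = 0) : φ = 0 := by
  have hsurj : Function.Surjective ((kernel.ι φ).app ⊤) := by
    intro s
    have h0 : InvAmple.globalHom M s ≫ φ = 0 := by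
      rw [ProjUniq.globalHom_comp, h s]
      exact globalHom_zero N
    refine ⟨(kernel.lift φ (InvAmple.globalHom M s) h0).app ⊤ (ofFun ⊤ 1), ?_⟩
    rw [← comp_app, kernel.lift_ι]
    have h3 := InvAmple.sec_globalHom M s ⊤
    rw [res_self] at h3
    exact h3
  haveI : Epi (kernel.ι φ) := epi_of_surj_top _ hM hsurj
  exact (cancel_epi (kernel.ι φ)).mp ((kernel.condition φ).trans comp_zero.symm)

lemma isZero_of_gg {M : X.Modules} (hM : Curv2.IsGloballyGenerated M)
    (h : ∀ s : Γ(M, (⊤ : X.Opens)), s = 0) : IsZero M := by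
  rw [IsZero.iff_id_eq_zero]
  apply eq_zero_of_gg hM
  intro s
  rw [id_app']
  exact h s

lemma sections_eq_zero (M : X.Modules) (h : Subsingleton (Coh.HH X M 0))
    (s : Γ(M, (⊤ : X.Opens))) : s = 0 := by
  have hT : IsTerminal (⊤ : X.Opens) := isTerminalTop
  have h1 : (Sheaf.H.equiv₀ (Coh.toAb M) hT).symm s = 0 := @Subsingleton.elim _ h _ _
  have h2 := congrArg (Sheaf.H.equiv₀ (Coh.toAb M) hT) h1
  have h3 : (Sheaf.H.equiv₀ (Coh.toAb M) hT) ((Sheaf.H.equiv₀ (Coh.toAb M) hT).symm s) = s :=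
    AddEquiv.apply_symm_apply _ _
  exact h3.symm.trans (h2.trans (map_zero _))

lemma isZero_of_twR (L L' : X.Modules) (e : CohB1.tensorMod L L' ≅ Coh.structureModule X)
    (F : X.Modules) (h : IsZero ((twR L).obj F)) : IsZero F := by
  haveI := isEquivalence_twR L L' e
  rw [IsZero.iff_id_eq_zero]
  apply (twR L).map_injective
  rw [(twR L).map_id, (twR L).map_zero]
  exact (IsZero.iff_id_eq_zero _).mp h

end General

section Pn

variable (n : ℕ) (K : Type u) [Field K]

/-- `F` is `m`-regular. -/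
def Reg (F : (CohB1.ProjSpace n K).Modules) (m : ℤ) : Prop :=
  ∀ i : ℕ, 1 ≤ i → Subsingleton (Coh.HH (CohB1.ProjSpace n K)
    (CohB1.tensorMod F (Twist.twistProjSpace n K (m - i))) i)

def CondI (F : (CohB1.ProjSpace n K).Modules) : Prop :=
  ∃ n₀ : ℤ, ∀ m : ℤ, m ≤ n₀ → Subsingleton (Coh.HH (CohB1.ProjSpace n K)
    (CohB1.tensorMod F (Twist.twistProjSpace n K m)) 0)

def CondII (F : (CohB1.ProjSpace n K).Modules) : Prop :=
  ∀ (m : ℤ) (i : ℕ), 1 ≤ i → i < n → Subsingleton (Coh.HH (CohB1.ProjSpace n K)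
    (CohB1.tensorMod F (Twist.twistProjSpace n K m)) i)

def IsSplit (F : (CohB1.ProjSpace n K).Modules) : Prop :=
  ∃ (r : ℕ) (a : Fin r → ℤ), Nonempty (F ≅ ∐ fun j => Twist.twistProjSpace n K (a j))

variable {n K} in
lemma isSplit_of_iso {F G : (CohB1.ProjSpace n K).Modules} (e : F ≅ G) (h : IsSplit n K G) :
    IsSplit n K F := by
  obtain ⟨r, a, ⟨e'⟩⟩ := h
  exact ⟨r, a, ⟨e ≪≫ e'⟩⟩

lemma isSplit_of_isZero (F : (CohB1.ProjSpace n K).Modules) (h : IsZero F) : IsSplit n K F := by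
  refine ⟨0, Fin.elim0, ⟨h.iso ?_⟩⟩
  rw [IsZero.iff_id_eq_zero]
  apply Sigma.hom_ext
  intro j
  exact j.elim0

lemma isSplit_biprod (A : (CohB1.ProjSpace n K).Modules) (b : ℤ) (h : IsSplit n K A) :
    IsSplit n K (Twist.twistProjSpace n K b ⊞ A) := by
  obtain ⟨r, a, ⟨e⟩⟩ := h
  let a' : Fin (r + 1) → ℤ := Fin.cons b a
  let f : Fin (r + 1) → (CohB1.ProjSpace n K).Modules :=
    fun j => Twist.twistProjSpace n K (a' j)
  refine ⟨r + 1, a', ⟨?_⟩⟩
  have t₁ := colimit.isColimit (Discrete.functor fun i : Fin r => f i.succ)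
  have t₂ := BinaryBiproduct.isColimit (f 0) (∐ fun i : Fin r => f i.succ)
  have t := extendCofanIsColimit f t₁ t₂
  have e1 : (f 0 ⊞ ∐ fun i : Fin r => f i.succ) ≅ ∐ f :=
    t.coconePointUniqueUpToIso (colimit.isColimit (Discrete.functor f))
  have e0 : Twist.twistProjSpace n K b ≅ f 0 := eqToIso (by simp only [f, a', Fin.cons_zero])
  have e2 : A ≅ ∐ fun i : Fin r => f i.succ :=
    e ≪≫ Sigma.mapIso (fun i => eqToIso (by simp only [f, a', Fin.cons_succ]))
  exact biprod.mapIso e0 e2 ≪≫ e1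

lemma isZero_of_reg (F : (CohB1.ProjSpace n K).Modules) (hF : Coh.IsCoh F) (m : ℤ)
    (hreg : Reg n K F m)
    (h0 : Subsingleton (Coh.HH (CohB1.ProjSpace n K)
      (CohB1.tensorMod F (Twist.twistProjSpace n K m)) 0)) : IsZero F := by
  have hgg := GGTwist.isGloballyGenerated_twist n K F hF m hreg
  have hz : IsZero (CohB1.tensorMod F (Twist.twistProjSpace n K m)) :=
    isZero_of_gg hgg (fun s => sections_eq_zero _ h0 s)
  exact isZero_of_twR (Twist.twistProjSpace n K m) (Twist.twistProjSpace n K (-m))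
    (pairIso (Mumford.hU n K) m) F hz

lemma exists_reg (F : (CohB1.ProjSpace n K).Modules) (hF : Coh.IsCoh F) :
    ∃ c : ℤ, Reg n K F c := by
  obtain ⟨d₀, hd₀⟩ := SerreVan.serre_vanishing n K F hF
  refine ⟨d₀ + n, fun i hi => ?_⟩
  by_cases hin : i ≤ n
  · exact hd₀ _ (by omega) i hi
  · exact @Mumford.hvan n K _ _ (Mumford.isQCoh_tw n K F hF.1 _) i (by omega)

/-- Serre duality: nonvanishing top cohomology gives a nonzero map to `ω`. -/
lemma exists_hom_ne_zero (G : (CohB1.ProjSpace n K).Modules) (hG : Coh.IsCoh G)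
    (h : ¬ Subsingleton (Coh.HH (CohB1.ProjSpace n K) G n)) :
    ∃ φ : G ⟶ omega n K, φ ≠ 0 := by
  rw [not_subsingleton_iff_nontrivial] at h
  haveI := h
  obtain ⟨x, hx⟩ := exists_ne (0 : Coh.HH (CohB1.ProjSpace n K) G n)
  obtain ⟨ψ, hψ⟩ := Module.Projective.exists_dual_ne_zero K hx
  obtain ⟨φ, hφ⟩ := (isDual_of_isCoh n K G hG).1 ψ
  refine ⟨φ, fun h0 => hψ ?_⟩
  rw [hφ x, h0, Hm_zero, map_zero]

/-- global functions on `P^n_K` form a field. -/
theorem isUnit_of_ne_zero (f : Γ(CohB1.ProjSpace n K, ⊤)) (hf : f ≠ 0) : IsUnit f := by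
  haveI := Groth.Agent.S0024.result n K
  let e1 : Γ(Spec (CommRingCat.of K), ⊤) ≃+* Γ(CohB1.ProjSpace n K, ⊤) :=
    (asIso (CohB1.ProjSpace.toSpec n K).appTop).commRingCatIsoToRingEquiv
  let e2 : Γ(Spec (CommRingCat.of K), ⊤) ≃+* K :=
    (Scheme.ΓSpecIso (CommRingCat.of K)).commRingCatIsoToRingEquiv
  let e : Γ(CohB1.ProjSpace n K, ⊤) ≃+* K := e1.symm.trans e2
  have h1 : e f ≠ 0 := fun h => hf (e.injective (h.trans (map_zero e).symm))
  exact (MulEquiv.isUnit_map e).mp (IsUnit.mk0 _ h1)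

/-- a nonzero map from a globally generated module to the structure sheaf of `P^n_K` is a split
epimorphism. -/
lemma exists_section_of_gg (M : (CohB1.ProjSpace n K).Modules) (hM : Curv2.IsGloballyGenerated M)
    (φ : M ⟶ Coh.structureModule (CohB1.ProjSpace n K)) (hφ : φ ≠ 0) :
    ∃ σ : Coh.structureModule (CohB1.ProjSpace n K) ⟶ M, σ ≫ φ = 𝟙 _ := by
  have h1 : ∃ s : Γ(M, (⊤ : (CohB1.ProjSpace n K).Opens)), φ.app ⊤ s ≠ 0 := by
    by_contra hcon
    push Not at hcon
    exact hφ (eq_zero_of_gg hM φ hcon)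
  obtain ⟨s, hs⟩ := h1
  have hu : IsUnit (HomTw.asFun (φ.app ⊤ s)) := isUnit_of_ne_zero n K _ (fun h => hs h)
  obtain ⟨f', hf'⟩ := hu.exists_left_inv
  refine ⟨InvAmple.globalHom M (f' • s), ?_⟩
  rw [ProjUniq.globalHom_comp, Scheme.Modules.Hom.app_smul]
  have h2 : f' • φ.app ⊤ s = ofFun ⊤ 1 := by
    change f' • ofFun ⊤ (HomTw.asFun (φ.app ⊤ s)) = ofFun ⊤ 1
    rw [smul_ofFun, hf']
  rw [h2]
  exact SplitTw.globalHom_one

/-- the key step: a nonzero coherent module satisfying Horrocks' conditions has a twisting sheaf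
`O(-m₀)` as a direct summand, `m₀` being its regularity. -/
theorem step (hn : 1 ≤ n) (F : (CohB1.ProjSpace n K).Modules) (hF : Coh.IsCoh F)
    (hF0 : ¬ IsZero F) (hI : CondI n K F) (hII : CondII n K F) (c : ℤ) (hc : Reg n K F c) :
    ∃ (m₀ : ℤ) (_ : m₀ ≤ c) (p : F ⟶ Twist.twistProjSpace n K (-m₀))
      (i : Twist.twistProjSpace n K (-m₀) ⟶ F), i ≫ p = 𝟙 _ := by
  classical
  obtain ⟨n₀, hn₀⟩ := hI
  have hb : ∀ z : ℤ, Reg n K F z → n₀ + 1 ≤ z := by
    intro z hz
    by_contra hlt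
    exact hF0 (isZero_of_reg n K F hF z hz (hn₀ z (by omega)))
  obtain ⟨m₀, hm₀, hleast⟩ := Int.exists_least_of_bdd (P := Reg n K F) ⟨n₀ + 1, hb⟩ ⟨c, hc⟩
  have hnot : ¬ Reg n K F (m₀ - 1) := fun h => by
    have := hleast _ h
    omega
  have hne : ¬ Subsingleton (Coh.HH (CohB1.ProjSpace n K)
      (CohB1.tensorMod F (Twist.twistProjSpace n K (m₀ - 1 - (n : ℤ)))) n) := by
    intro hsub
    apply hnot
    intro i hi
    rcases lt_trichotomy i n with hlt | heq | hgt
    · exact hII _ i hi hlt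
    · rw [heq]
      exact hsub
    · exact @Mumford.hvan n K _ _ (Mumford.isQCoh_tw n K F hF.1 _) i hgt
  obtain ⟨a, ha⟩ : ∃ a : ℤ, a = m₀ - 1 - (n : ℤ) := ⟨_, rfl⟩
  rw [← ha] at hne
  have hG : Coh.IsCoh (CohB1.tensorMod F (Twist.twistProjSpace n K a)) :=
    MumLem.isCoh_tw n K F hF a
  obtain ⟨φ, hφ⟩ := exists_hom_ne_zero n K _ hG hne
  have hU := Mumford.hU n K
  haveI hE1 := isEquivalence_twR (Twist.twistProjSpace n K a) (Twist.twistProjSpace n K (-a))
    (pairIso hU a)
  have h1 : -m₀ + a = -((n : ℤ) + 1) := by omega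
  let ι₁ : CohB1.tensorMod (Twist.twistProjSpace n K (-m₀)) (Twist.twistProjSpace n K a) ≅
      omega n K := mulIso' hU (-m₀) a (-((n : ℤ) + 1)) h1
  obtain ⟨p, hp⟩ : ∃ p : F ⟶ Twist.twistProjSpace n K (-m₀),
      (twR (Twist.twistProjSpace n K a)).map p = φ ≫ ι₁.inv :=
    ⟨(twR (Twist.twistProjSpace n K a)).preimage (φ ≫ ι₁.inv),
      (twR (Twist.twistProjSpace n K a)).map_preimage _⟩
  have hp0 : p ≠ 0 := by
    intro h0
    apply hφ
    have h2 : φ = (φ ≫ ι₁.inv) ≫ ι₁.hom :=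
      ((Category.assoc _ _ _).trans ((congrArg (fun t => φ ≫ t) ι₁.inv_hom_id).trans
        (Category.comp_id φ))).symm
    rw [← hp, h0, (twR (Twist.twistProjSpace n K a)).map_zero] at h2
    exact h2.trans zero_comp
  haveI hE2 := isEquivalence_twR (Twist.twistProjSpace n K m₀) (Twist.twistProjSpace n K (-m₀))
    (pairIso hU m₀)
  have h0 : -m₀ + m₀ = 0 := by omega
  let a₂ : CohB1.tensorMod (Twist.twistProjSpace n K (-m₀)) (Twist.twistProjSpace n K m₀) ≅
      Coh.structureModule (CohB1.ProjSpace n K) := pairIso' hU (-m₀) m₀ h0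
  have hφ' : (twR (Twist.twistProjSpace n K m₀)).map p ≫ a₂.hom ≠ 0 := by
    intro h
    apply hp0
    apply (twR (Twist.twistProjSpace n K m₀)).map_injective
    rw [(twR (Twist.twistProjSpace n K m₀)).map_zero]
    have h2 : (twR (Twist.twistProjSpace n K m₀)).map p =
        ((twR (Twist.twistProjSpace n K m₀)).map p ≫ a₂.hom) ≫ a₂.inv :=
      ((Category.assoc _ _ _).trans ((congrArg
        (fun t => (twR (Twist.twistProjSpace n K m₀)).map p ≫ t) a₂.hom_inv_id).trans
        (Category.comp_id _))).symm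
    rw [h] at h2
    exact h2.trans zero_comp
  have hgg := GGTwist.isGloballyGenerated_twist n K F hF m₀ hm₀
  obtain ⟨σ, hσ⟩ := exists_section_of_gg n K _ hgg _ hφ'
  obtain ⟨i, hi⟩ : ∃ i : Twist.twistProjSpace n K (-m₀) ⟶ F,
      (twR (Twist.twistProjSpace n K m₀)).map i = a₂.hom ≫ σ :=
    ⟨(twR (Twist.twistProjSpace n K m₀)).preimage (a₂.hom ≫ σ),
      (twR (Twist.twistProjSpace n K m₀)).map_preimage _⟩
  refine ⟨m₀, hleast c hc, p, i, ?_⟩
  have h3 : (σ ≫ (twR (Twist.twistProjSpace n K m₀)).map p) ≫ a₂.hom = 𝟙 _ :=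
    (Category.assoc _ _ _).trans hσ
  have h2 : σ ≫ (twR (Twist.twistProjSpace n K m₀)).map p = a₂.inv :=
    ((Iso.eq_comp_inv a₂).mpr h3).trans (Category.id_comp _)
  have h5 : (twR (Twist.twistProjSpace n K m₀)).map (i ≫ p) =
      (twR (Twist.twistProjSpace n K m₀)).map (𝟙 _) := by
    rw [(twR (Twist.twistProjSpace n K m₀)).map_comp, hi,
      (twR (Twist.twistProjSpace n K m₀)).map_id]
    exact (Category.assoc _ _ _).trans ((congrArg (fun t => a₂.hom ≫ t) h2).trans a₂.hom_inv_id)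
  exact (twR (Twist.twistProjSpace n K m₀)).map_injective h5

/-- splitting off the summand. -/
theorem split_step (F : (CohB1.ProjSpace n K).Modules) (hF : Coh.IsCoh F) (b : ℤ)
    (p : F ⟶ Twist.twistProjSpace n K b) (i : Twist.twistProjSpace n K b ⟶ F)
    (hip : i ≫ p = 𝟙 _) :
    ∃ (F' : (CohB1.ProjSpace n K).Modules) (ι : F' ⟶ F) (q : F ⟶ F'),
      ι ≫ q = 𝟙 F' ∧ ι ≫ p = 0 ∧ Coh.IsCoh F' ∧
        Nonempty (F ≅ Twist.twistProjSpace n K b ⊞ F') := by
  haveI : Epi p := epi_of_epi_fac hip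
  have hS := CechCard.shortExact_kernel p
  haveI : Mono (ShortComplex.mk (kernel.ι p) p (kernel.condition p)).f := hS.mono_f
  let sp : (ShortComplex.mk (kernel.ι p) p (kernel.condition p)).Splitting :=
    ShortComplex.Splitting.ofExactOfSection _ hS.exact i hip inferInstance
  refine ⟨kernel p, kernel.ι p, sp.r, sp.f_r, kernel.condition p, ?_,
    ⟨sp.isoBinaryBiproduct ≪≫ biprod.braiding _ _⟩⟩
  haveI : IsNoetherian (CohB1.ProjSpace n K) :=
    Groth.Agent.S2357.result (CohB1.polyGrading n K)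
  haveI := hF.1
  haveI : (Twist.twistProjSpace n K b).IsQuasicoherent := (PnFinite.isCoh_twist n K b).1
  have hKq : Coh.IsQCoh (kernel p) := QCProps.isQuasicoherent_kernel p
  exact Groth.Agent.S0046.result _ F (kernel p) (kernel.ι p) hF hKq

lemma nontrivial_H0 (b c : ℤ) (hbc : 0 ≤ b + c) :
    Nontrivial (Coh.HH (CohB1.ProjSpace n K)
      (CohB1.tensorMod (Twist.twistProjSpace n K b) (Twist.twistProjSpace n K c)) 0) := by
  obtain ⟨d, hd⟩ : ∃ d : ℕ, b + c = (d : ℤ) := ⟨(b + c).toNat, by omega⟩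
  rw [← not_subsingleton_iff_nontrivial]
  intro hsub
  have h1 : Subsingleton (Coh.HH (CohB1.ProjSpace n K) (Twist.twistProjSpace n K (d : ℤ)) 0) :=
    subsingleton_HH_of_iso (mulIso' (Mumford.hU n K) b c (d : ℤ) hd).symm 0 hsub
  obtain ⟨e⟩ := Groth.Agent.S0843.result K n d
  haveI := h1
  haveI : Subsingleton (MvPolynomial.homogeneousSubmodule (Fin (n + 1)) K d) :=
    e.symm.toEquiv.subsingleton
  have hX : (MvPolynomial.X (0 : Fin (n + 1)) ^ d : MvPolynomial (Fin (n + 1)) K) ∈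
      MvPolynomial.homogeneousSubmodule (Fin (n + 1)) K d := by
    have := (MvPolynomial.isHomogeneous_X K (0 : Fin (n + 1))).pow d
    rw [one_mul] at this
    exact this
  have h2 : (⟨_, hX⟩ : MvPolynomial.homogeneousSubmodule (Fin (n + 1)) K d) = 0 :=
    Subsingleton.elim _ _
  have h3 := congrArg Subtype.val h2
  exact pow_ne_zero d (MvPolynomial.X_ne_zero (0 : Fin (n + 1))) h3

theorem finrank_lt (F F' : (CohB1.ProjSpace n K).Modules) (b c : ℤ) (hbc : 0 ≤ b + c)
    (hF : Coh.IsCoh F) (ι : F' ⟶ F) (q : F ⟶ F')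
    (p : F ⟶ Twist.twistProjSpace n K b) (i : Twist.twistProjSpace n K b ⟶ F)
    (hιq : ι ≫ q = 𝟙 _) (hip : i ≫ p = 𝟙 _) (hιp : ι ≫ p = 0) :
    Module.finrank K (Coh.HH (CohB1.ProjSpace n K)
        (CohB1.tensorMod F' (Twist.twistProjSpace n K c)) 0) <
      Module.finrank K (Coh.HH (CohB1.ProjSpace n K)
        (CohB1.tensorMod F (Twist.twistProjSpace n K c)) 0) := by
  haveI hfinF : Module.Finite K (Coh.HH (CohB1.ProjSpace n K)
      (CohB1.tensorMod F (Twist.twistProjSpace n K c)) 0) :=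
    PnFinite.finite_HH n K (n + 1) 0 (zero_add _) _ (MumLem.isCoh_tw n K F hF c)
  haveI hfinW : Module.Finite K (Coh.HH (CohB1.ProjSpace n K)
      (CohB1.tensorMod (Twist.twistProjSpace n K b) (Twist.twistProjSpace n K c)) 0) :=
    PnFinite.finite_HH n K (n + 1) 0 (zero_add _) _
      (MumLem.isCoh_tw n K _ (PnFinite.isCoh_twist n K b) c)
  haveI hnt : Nontrivial (Coh.HH (CohB1.ProjSpace n K)
      ((twR (Twist.twistProjSpace n K c)).obj (Twist.twistProjSpace n K b)) 0) :=
    nontrivial_H0 n K b c hbc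
  haveI hfinF' : Module.Finite K (Coh.HH (CohB1.ProjSpace n K)
      ((twR (Twist.twistProjSpace n K c)).obj F) 0) := hfinF
  have hα : Function.Injective (HmapL K ((twR (Twist.twistProjSpace n K c)).map ι) 0) := by
    intro x y hxy
    have h1 : ∀ z, Hm ((twR (Twist.twistProjSpace n K c)).map q) 0
        (Hm ((twR (Twist.twistProjSpace n K c)).map ι) 0 z) = z := fun z => by
      rw [← Hm_comp, ← (twR (Twist.twistProjSpace n K c)).map_comp, hιq,
        (twR (Twist.twistProjSpace n K c)).map_id]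
      exact Hm_id _ 0 z
    have h2 : Hm ((twR (Twist.twistProjSpace n K c)).map q) 0
        (Hm ((twR (Twist.twistProjSpace n K c)).map ι) 0 x) =
        Hm ((twR (Twist.twistProjSpace n K c)).map q) 0
        (Hm ((twR (Twist.twistProjSpace n K c)).map ι) 0 y) :=
      congrArg (Hm ((twR (Twist.twistProjSpace n K c)).map q) 0) hxy
    exact (h1 x).symm.trans (h2.trans (h1 y))
  have hβ : Function.Surjective (HmapL K ((twR (Twist.twistProjSpace n K c)).map p) 0) := by
    intro w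
    refine ⟨Hm ((twR (Twist.twistProjSpace n K c)).map i) 0 w, ?_⟩
    have h1 : Hm ((twR (Twist.twistProjSpace n K c)).map p) 0
        (Hm ((twR (Twist.twistProjSpace n K c)).map i) 0 w) = w := by
      rw [← Hm_comp, ← (twR (Twist.twistProjSpace n K c)).map_comp, hip,
        (twR (Twist.twistProjSpace n K c)).map_id]
      exact Hm_id _ 0 w
    exact h1
  have hβα : ∀ x, HmapL K ((twR (Twist.twistProjSpace n K c)).map p) 0
      (HmapL K ((twR (Twist.twistProjSpace n K c)).map ι) 0 x) = 0 := by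
    intro x
    have h1 : Hm ((twR (Twist.twistProjSpace n K c)).map p) 0
        (Hm ((twR (Twist.twistProjSpace n K c)).map ι) 0 x) = 0 := by
      rw [← Hm_comp, ← (twR (Twist.twistProjSpace n K c)).map_comp, hιp,
        (twR (Twist.twistProjSpace n K c)).map_zero]
      exact Hm_zero 0 x
    exact h1
  exact finrank_lt_of_split _ _ hα hβ hβα

variable {n K} in
lemma condI_retract {F F' : (CohB1.ProjSpace n K).Modules} (ι : F' ⟶ F) (q : F ⟶ F')
    (h : ι ≫ q = 𝟙 _) (hI : CondI n K F) : CondI n K F' := by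
  obtain ⟨n₀, hn₀⟩ := hI
  exact ⟨n₀, fun m hm => sub_retract ι q h (twR (Twist.twistProjSpace n K m)) 0 (hn₀ m hm)⟩

variable {n K} in
lemma condII_retract {F F' : (CohB1.ProjSpace n K).Modules} (ι : F' ⟶ F) (q : F ⟶ F')
    (h : ι ≫ q = 𝟙 _) (hII : CondII n K F) : CondII n K F' :=
  fun m i hi hin => sub_retract ι q h (twR (Twist.twistProjSpace n K m)) i (hII m i hi hin)

variable {n K} in
lemma reg_retract {F F' : (CohB1.ProjSpace n K).Modules} (ι : F' ⟶ F) (q : F ⟶ F')
    (h : ι ≫ q = 𝟙 _) (c : ℤ) (hc : Reg n K F c) : Reg n K F' c :=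
  fun i hi => sub_retract ι q h (twR (Twist.twistProjSpace n K (c - i))) i (hc i hi)

theorem isSplit_of_cond (hn : 1 ≤ n) : ∀ (N : ℕ) (F : (CohB1.ProjSpace n K).Modules),
    Coh.IsCoh F → CondI n K F → CondII n K F → ∀ c : ℤ, Reg n K F c →
    Module.finrank K (Coh.HH (CohB1.ProjSpace n K)
      (CohB1.tensorMod F (Twist.twistProjSpace n K c)) 0) = N → IsSplit n K F := by
  intro N
  induction N using Nat.strong_induction_on with
  | _ N ih =>
    intro F hF hI hII c hc hN
    by_cases hF0 : IsZero F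
    · exact isSplit_of_isZero n K F hF0
    · obtain ⟨m₀, hm₀c, p, i, hip⟩ := step n K hn F hF hF0 hI hII c hc
      obtain ⟨F', ι, q, hιq, hιp, hF', ⟨e⟩⟩ := split_step n K F hF (-m₀) p i hip
      have hlt := finrank_lt n K F F' (-m₀) c (by omega) hF ι q p i hιq hip hιp
      rw [hN] at hlt
      have hs' := ih _ hlt F' hF' (condI_retract ι q hιq hI) (condII_retract ι q hιq hII) c
        (reg_retract ι q hιq c hc) rfl
      exact isSplit_of_iso e (isSplit_biprod n K F' (-m₀) hs')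

theorem cond_of_isSplit (hn : 1 ≤ n) (F : (CohB1.ProjSpace n K).Modules)
    (h : IsSplit n K F) : CondI n K F ∧ CondII n K F := by
  obtain ⟨r, a, ⟨e⟩⟩ := h
  have key : ∀ (m : ℤ) (i : ℕ),
      (∀ j, Subsingleton (Coh.HH (CohB1.ProjSpace n K)
        (Twist.twistProjSpace n K (a j + m)) i)) →
      Subsingleton (Coh.HH (CohB1.ProjSpace n K)
        (CohB1.tensorMod F (Twist.twistProjSpace n K m)) i) := by
    intro m i h
    have h1 : ∀ j, Subsingleton (Coh.HH (CohB1.ProjSpace n K)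
        ((twR (Twist.twistProjSpace n K m)).obj (Twist.twistProjSpace n K (a j))) i) := fun j =>
      subsingleton_HH_of_iso (mulIso' (Mumford.hU n K) (a j) m (a j + m) rfl) i (h j)
    exact subsingleton_HH_of_iso ((twR (Twist.twistProjSpace n K m)).mapIso e) i
      (sub_coprod (twR (Twist.twistProjSpace n K m))
        (fun j => Twist.twistProjSpace n K (a j)) i h1)
  constructor
  · refine ⟨-1 - ∑ j, |a j|, fun m hm => key m 0 (fun j => ?_)⟩
    have h1 : a j ≤ ∑ j, |a j| :=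
      (le_abs_self (a j)).trans
        (Finset.single_le_sum (f := fun j => |a j|) (fun j _ => abs_nonneg (a j))
          (Finset.mem_univ j))
    exact Groth.Agent.S0844.result K n (a j + m) 0 (by rintro ⟨-, h⟩; omega)
      (by rintro ⟨h, -⟩; omega)
  · intro m i hi hin
    exact key m i (fun j => Groth.Agent.S0844.result K n (a j + m) i
      (by rintro ⟨h, -⟩; omega) (by rintro ⟨h, -⟩; omega))

/-- **Horrocks' splitting criterion** on `P^n_K`, `n ≥ 1`. -/
theorem horrocks (hn : 1 ≤ n) (F : (CohB1.ProjSpace n K).Modules) (hF : Coh.IsCoh F) :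
    (∃ (r : ℕ) (a : Fin r → ℤ),
        Nonempty (F ≅ ∐ fun j => Twist.twistProjSpace n K (a j))) ↔
      ((∃ n₀ : ℤ, ∀ m : ℤ, m ≤ n₀ → Subsingleton (Coh.HH (CohB1.ProjSpace n K)
          (CohB1.tensorMod F (Twist.twistProjSpace n K m)) 0)) ∧
        ∀ (m : ℤ) (i : ℕ), 1 ≤ i → i < n → Subsingleton (Coh.HH (CohB1.ProjSpace n K)
          (CohB1.tensorMod F (Twist.twistProjSpace n K m)) i)) := by
  constructor
  · intro h
    exact cond_of_isSplit n K hn F h
  · rintro ⟨hI, hII⟩
    obtain ⟨c, hc⟩ := exists_reg n K F hF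
    exact isSplit_of_cond n K hn _ F hF hI hII c hc rfl

end Pn

end Groth.Agent.Lib.Helper7.Horrocks
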