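import Mathlib
import Groth.Prelude
import Groth.Agent.Lib.Helper7.HorrocksA
import Groth.Agent.Lib.Helper7.TorsFree
import Groth.Agent.S3557

/-!
# Finite locally free modules on `P^n_K`

* `isIntegral_projSpace`: `P^n_K` is integral.
* `hom_twist_eq_zero`: `Hom(O(a), O(b)) = 0` for `b < a` (`n ≥ 1`).
* `condI_of_locFree`: `H^0(E(m)) = 0` for `m ≪ 0` when `E` is finite locally free (`n ≥ 1`).
* `isFinLocFreeOfRank_coprod`: a direct sum of `s` twisting sheaves is locally free of rank `s`.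
* `isSplit_rank`: Horrocks' criterion for finite locally free modules, with the number of summands.
* `card_le_of_iso`, `antitone_eq_of_card_eq`: uniqueness of the splitting type.
* `isSplit_zero`: every coherent module on `P^0_K` is a sum of twisting sheaves.
-/
set_option autoImplicit false
universe u
open CategoryTheory CategoryTheory.Limits AlgebraicGeometry TopologicalSpace Opposite
open Scheme.Modules

noncomputable section

namespace Groth.Agent.Lib.Helper7.LocFreePn

open Groth.Agent.Lib.Helper3 Groth.Agent.Lib.Helper3.QCSec Groth.Agent.Lib.Helper3.InvGen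
  Groth.Agent.Lib.Helper3.InvTensor Groth.Agent.Lib.Helper3.InvMonoidal
  Groth.Agent.Lib.Helper3.TwistBasic Groth.Agent.Lib.Helper3.TwistMul
  Groth.Agent.Lib.Helper7.TwFun Groth.Agent.Lib.Helper7.TwProj Groth.Agent.Lib.Helper7.MulSurj
  Groth.Agent.Lib.Helper7.RegRes Groth.Agent.Lib.Helper7.CohFinite
  Groth.Agent.Lib.Helper7.PnDual
  Groth.Agent.Lib.Helper13 Groth.Agent.Lib.Helper13.SerreCrit1
  Groth.Agent.Lib.Helper7.Horrocks Groth.Agent.Lib.Helper7.TorsFree

section Comb

lemma mem_iff_lt_card {r : ℕ} (d : Fin r → ℤ) (hd : Antitone d) (t : ℤ) (i : Fin r) :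
    t ≤ d i ↔ (i : ℕ) < Fintype.card {j // t ≤ d j} := by
  rw [Fintype.card_subtype]
  constructor
  · intro h
    have hsub : Finset.Iic i ⊆ Finset.univ.filter (fun j => t ≤ d j) := by
      intro j hj
      rw [Finset.mem_Iic] at hj
      rw [Finset.mem_filter]
      exact ⟨Finset.mem_univ _, h.trans (hd hj)⟩
    have h1 := Finset.card_le_card hsub
    rw [Fin.card_Iic] at h1
    omega
  · intro h
    by_contra hn
    have hsub : Finset.univ.filter (fun j => t ≤ d j) ⊆ Finset.Iio i := by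
      intro j hj
      rw [Finset.mem_filter] at hj
      rw [Finset.mem_Iio]
      by_contra hji
      push Not at hji
      exact hn (hj.2.trans (hd hji))
    have h1 := Finset.card_le_card hsub
    rw [Fin.card_Iio] at h1
    omega

lemma antitone_eq_of_card_eq {r : ℕ} (d d' : Fin r → ℤ) (hd : Antitone d) (hd' : Antitone d')
    (h : ∀ t : ℤ, Fintype.card {i // t ≤ d i} = Fintype.card {j // t ≤ d' j}) : d = d' := by
  funext i
  apply le_antisymm
  · have h1 := (mem_iff_lt_card d hd (d i) i).mp le_rfl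
    rw [h (d i)] at h1
    exact (mem_iff_lt_card d' hd' (d i) i).mpr h1
  · have h1 := (mem_iff_lt_card d' hd' (d' i) i).mp le_rfl
    rw [← h (d' i)] at h1
    exact (mem_iff_lt_card d hd (d' i) i).mpr h1

lemma exists_antitone_perm {r : ℕ} (a : Fin r → ℤ) :
    ∃ σ : Equiv.Perm (Fin r), Antitone (fun i => a (σ i)) := by
  refine ⟨Tuple.sort (fun j => -(a j)), ?_⟩
  intro i j hij
  have h1 := Tuple.monotone_sort (fun j => -(a j)) hij
  simp only [Function.comp_apply] at h1
  change a (Tuple.sort (fun j => -(a j)) j) ≤ a (Tuple.sort (fun j => -(a j)) i)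
  omega

lemma succ_le_choose (a n : ℕ) (hn : 1 ≤ n) : a + 1 ≤ (a + n).choose n :=
  calc a + 1 = (a + 1).choose a := (Nat.choose_succ_self_right a).symm
    _ ≤ (a + n).choose a := Nat.choose_le_choose a (by omega)
    _ = (a + n).choose n := Nat.choose_symm_add

lemma finrank_supported'' {K : Type u} [Field K] {r : ℕ} (s : Finset (Fin r →₀ ℕ)) :
    Module.finrank K (AddMonoidAlgebra.supported K K (s : Set (Fin r →₀ ℕ))) = s.card := by
  rw [LinearEquiv.finrank_eq (AddMonoidAlgebra.supportedEquivFinsupp (s : Set (Fin r →₀ ℕ)))]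
  rw [Module.finrank_finsupp_self]
  simp

theorem finrank_homog (K : Type u) [Field K] (r' j : ℕ) :
    Module.finrank K ↥(MvPolynomial.homogeneousSubmodule (Fin (r' + 1)) K j) =
      (j + r').choose r' := by
  rw [MvPolynomial.homogeneousSubmodule_eq_finsupp_supported]
  have : {d : Fin (r' + 1) →₀ ℕ | d.degree = j} =
      ((Finset.univ : Finset (Fin (r' + 1))).finsuppAntidiag j : Set _) := by
    ext d
    simp [Finset.mem_finsuppAntidiag, Finsupp.degree_eq_sum]
  rw [this, finrank_supported'', Finset.card_finsuppAntidiag_nat_eq_choose]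
  simp only [Finset.card_univ, Fintype.card_fin]
  rw [show r' + 1 + j - 1 = r' + j by omega, ← Nat.choose_symm_add, add_comm]

end Comb

section Cat

set_option backward.isDefEq.respectTransparency false in
lemma mono_restrict {C : Type*} [Category C] [Preadditive C] [HasFiniteBiproducts C]
    {J : Type} [Fintype J] (f g : J → C) (pI pJ : J → Prop) [DecidablePred pI] [DecidablePred pJ]
    (E : (⨁ f) ≅ ⨁ g)
    (hvan : ∀ i j, pI i → ¬ pJ j → ∀ φ : f i ⟶ g j, φ = 0) :
    Mono (biproduct.fromSubtype f pI ≫ E.hom ≫ biproduct.toSubtype g pJ) := by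
  have key : (biproduct.fromSubtype f pI ≫ E.hom ≫ biproduct.toSubtype g pJ) ≫
      biproduct.fromSubtype g pJ = biproduct.fromSubtype f pI ≫ E.hom := by
    apply biproduct.hom_ext
    intro j
    apply biproduct.hom_ext'
    intro i
    simp only [Category.assoc]
    by_cases h : pJ j
    · have h1 : biproduct.fromSubtype g pJ ≫ biproduct.π g j =
          biproduct.π (Subtype.restrict pJ g) ⟨j, h⟩ :=
        (biproduct.fromSubtype_π g pJ j).trans (dif_pos h)
      rw [h1, biproduct.toSubtype_π]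
    · have h1 : biproduct.fromSubtype g pJ ≫ biproduct.π g j = 0 :=
        (biproduct.fromSubtype_π g pJ j).trans (dif_neg h)
      rw [h1]
      simp only [comp_zero]
      rw [biproduct.ι_fromSubtype_assoc]
      exact (hvan i.1 j i.2 h _).symm
  haveI : Mono (biproduct.fromSubtype f pI) :=
    mono_of_mono_fac (biproduct.fromSubtype_toSubtype f pI)
  haveI : Mono (biproduct.fromSubtype f pI ≫ E.hom) := mono_comp _ _
  exact mono_of_mono_fac key

end Cat

section General

variable {X : Scheme.{u}}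

lemma sub_H0_of_sections (M : X.Modules) (h : ∀ s : Γ(M, (⊤ : X.Opens)), s = 0) :
    Subsingleton (Coh.HH X M 0) := by
  have hT : IsTerminal (⊤ : X.Opens) := isTerminalTop
  refine subsingleton_of_forall_eq 0 fun x => ?_
  have h1 : Sheaf.H.equiv₀ (Coh.toAb M) hT x = 0 := h _
  exact (Sheaf.H.equiv₀ (Coh.toAb M) hT).injective (h1.trans (map_zero _).symm)

lemma hom_unit_eq_zero (N : X.Modules) (h : Subsingleton (Coh.HH X N 0))
    (ψ : Coh.structureModule X ⟶ N) : ψ = 0 := by
  apply ProjUniq.unit_hom_ext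
  exact (sections_eq_zero N h _).trans (sections_eq_zero N h _).symm

lemma exists_hom_of_H0 (M : X.Modules) (h : ¬ Subsingleton (Coh.HH X M 0)) :
    ∃ ψ : Coh.structureModule X ⟶ M, ψ ≠ 0 := by
  by_contra hcon
  push Not at hcon
  apply h
  apply sub_H0_of_sections
  intro s
  have h1 := InvAmple.sec_globalHom M s ⊤
  rw [res_self, hcon (InvAmple.globalHom M s)] at h1
  exact h1.symm.trans (GGTwist.zero_app' (M := Coh.structureModule X) (N := M) ⊤ (ofFun ⊤ 1))

lemma H0_inj' {A B : X.Modules} (φ : A ⟶ B) [Mono φ] (x : Coh.HH X A 0)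
    (hx : Hm φ 0 x = 0) : x = 0 := by
  have hT : IsTerminal (⊤ : X.Opens) := isTerminalTop
  have hinj := (QCProps.mono_iff_app_injective φ).mp inferInstance ⊤
  have h2 := Sheaf.H.equiv₀_naturality hT ((TT X).map φ) x
  have h3 : Sheaf.H.map ((TT X).map φ) 0 x = 0 := hx
  rw [h3, map_zero] at h2
  have h4 : φ.app ⊤ (Sheaf.H.equiv₀ (Coh.toAb A) hT x) = φ.app ⊤ 0 :=
    h2.trans (QCExact.app_zero φ ⊤).symm
  have h5 := hinj h4
  exact (Sheaf.H.equiv₀ (Coh.toAb A) hT).injective (h5.trans (map_zero _).symm)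

end General

section Pn

variable (n : ℕ) (K : Type u) [Field K]

instance isIntegral_proj : IsIntegral (Proj (CohB1.polyGrading n K)) := by
  have hX : (MvPolynomial.X (0 : Fin (n + 1)) : MvPolynomial (Fin (n + 1)) K) ∈
      (HomogeneousIdeal.irrelevant (CohB1.polyGrading n K)).toIdeal :=
    HomogeneousIdeal.mem_irrelevant_of_mem _ one_pos (MvPolynomial.isHomogeneous_X K 0)
  exact (Groth.Agent.S3557.result (CohB1.polyGrading n K) (fun f _ hf => hf.eq_zero)).mpr
    ⟨⟨_, hX, MvPolynomial.X_ne_zero _⟩, fun f _ g _ h => mul_eq_zero.mp h⟩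

instance isIntegral_projSpace : IsIntegral (CohB1.ProjSpace n K) := isIntegral_proj n K

/-- `Hom(O(a), O(b)) = 0` for `b < a`. -/
lemma hom_twist_eq_zero (hn : 1 ≤ n) (a b : ℤ) (hab : b < a)
    (φ : Twist.twistProjSpace n K a ⟶ Twist.twistProjSpace n K b) : φ = 0 := by
  have hU := Mumford.hU n K
  haveI := isEquivalence_twR (Twist.twistProjSpace n K (-a)) (Twist.twistProjSpace n K (-(-a)))
    (pairIso hU (-a))
  apply (twR (Twist.twistProjSpace n K (-a))).map_injective
  have h0 : a + -a = 0 := by omega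
  have h1 : b + -a = b - a := by omega
  obtain ⟨φ', hφ'⟩ : ∃ φ' : CohB1.tensorMod (Twist.twistProjSpace n K a)
      (Twist.twistProjSpace n K (-a)) ⟶ CohB1.tensorMod (Twist.twistProjSpace n K b)
      (Twist.twistProjSpace n K (-a)), φ' = (twR (Twist.twistProjSpace n K (-a))).map φ :=
    ⟨_, rfl⟩
  obtain ⟨α, -⟩ : ∃ α : CohB1.tensorMod (Twist.twistProjSpace n K a)
      (Twist.twistProjSpace n K (-a)) ≅ Coh.structureModule (CohB1.ProjSpace n K), True :=
    ⟨pairIso' hU a (-a) h0, trivial⟩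
  obtain ⟨β, -⟩ : ∃ β : CohB1.tensorMod (Twist.twistProjSpace n K b)
      (Twist.twistProjSpace n K (-a)) ≅ Twist.twistProjSpace n K (b - a), True :=
    ⟨mulIso' hU b (-a) (b - a) h1, trivial⟩
  have hz : α.inv ≫ φ' ≫ β.hom = 0 :=
    hom_unit_eq_zero _ (Groth.Agent.S0844.result K n (b - a) 0 (by rintro ⟨-, h⟩; omega)
      (by rintro ⟨h, -⟩; omega)) _
  have h2 : φ' ≫ β.hom = 0 := (cancel_epi α.inv).mp (hz.trans comp_zero.symm)
  have h3 : φ' = 0 := (cancel_mono β.hom).mp (h2.trans zero_comp.symm)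
  exact (hφ'.symm.trans h3).trans ((twR (Twist.twistProjSpace n K (-a))).map_zero _ _).symm

/-- `H^0(E(m)) = 0` for `m ≪ 0` when `E` is finite locally free. -/
theorem condI_of_locFree (hn : 1 ≤ n) (E : (CohB1.ProjSpace n K).Modules) (r : ℕ)
    (hE : FlatMod.IsFinLocFreeOfRank r E) : CondI n K E := by
  have hU := Mumford.hU n K
  have hcoh : Coh.IsCoh E := isCoh_of_isFinLocFreeOfRank' hE
  haveI hfin : Module.Finite K (Coh.HH (CohB1.ProjSpace n K) E 0) :=
    PnFinite.finite_HH n K (n + 1) 0 (zero_add _) E hcoh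
  obtain ⟨d₀, hd₀⟩ : ∃ d₀ : ℕ, d₀ = Module.finrank K (Coh.HH (CohB1.ProjSpace n K) E 0) :=
    ⟨_, rfl⟩
  refine ⟨-(d₀ : ℤ) - 1, fun m hm => ?_⟩
  by_contra hns
  obtain ⟨a, ha⟩ : ∃ a : ℕ, m = -(a : ℤ) := ⟨(-m).toNat, by omega⟩
  subst ha
  obtain ⟨ψ, hψ⟩ := exists_hom_of_H0 _ hns
  haveI hE1 := isEquivalence_twR (Twist.twistProjSpace n K (-(a : ℤ)))
    (Twist.twistProjSpace n K (-(-(a : ℤ)))) (pairIso hU (-(a : ℤ)))
  have h0 : (a : ℤ) + -(a : ℤ) = 0 := by omega
  obtain ⟨a₂, -⟩ : ∃ a₂ : CohB1.tensorMod (Twist.twistProjSpace n K (a : ℤ))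
      (Twist.twistProjSpace n K (-(a : ℤ))) ≅ Coh.structureModule (CohB1.ProjSpace n K), True :=
    ⟨pairIso' hU (a : ℤ) (-(a : ℤ)) h0, trivial⟩
  obtain ⟨φ, hφ⟩ : ∃ φ : Twist.twistProjSpace n K (a : ℤ) ⟶ E,
      (twR (Twist.twistProjSpace n K (-(a : ℤ)))).map φ = a₂.hom ≫ ψ :=
    ⟨(twR (Twist.twistProjSpace n K (-(a : ℤ)))).preimage (a₂.hom ≫ ψ),
      (twR (Twist.twistProjSpace n K (-(a : ℤ)))).map_preimage _⟩
  have hφ0 : φ ≠ 0 := by
    intro h
    apply hψ
    have h2 : a₂.hom ≫ ψ = 0 :=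
      hφ.symm.trans ((congrArg (fun t => (twR (Twist.twistProjSpace n K (-(a : ℤ)))).map t) h).trans
        ((twR (Twist.twistProjSpace n K (-(a : ℤ)))).map_zero _ _))
    exact (cancel_epi a₂.hom).mp (h2.trans comp_zero.symm)
  haveI hmono : Mono φ := mono_of_ne_zero
    (isFinLocFreeOfRank_one_of_isInvertible' (TwProj.isInvertible_twist hU (a : ℤ))) hE φ hφ0
  have hinj : Function.Injective (HmapL K φ 0) := by
    rw [injective_iff_map_eq_zero]
    intro x hx
    exact H0_inj' φ x hx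
  have h1 := LinearMap.finrank_le_finrank_of_injective hinj
  obtain ⟨e⟩ := Groth.Agent.S0843.result K n a
  have h2 : Module.finrank K (Coh.HH (CohB1.ProjSpace n K)
      (Twist.twistProjSpace n K (a : ℤ)) 0) = (a + n).choose n := by
    rw [LinearEquiv.finrank_eq e, finrank_homog]
  have h3 := succ_le_choose a n hn
  rw [h2, ← hd₀] at h1
  omega

theorem isFinLocFreeOfRank_coprod_aux (s : ℕ) (a : Fin s → ℤ) :
    FlatMod.IsFinLocFreeOfRank (X := Proj (CohB1.polyGrading n K)) s
      (∐ fun j => Twist.twist (CohB1.polyGrading n K) (a j)) := by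
  intro x
  obtain ⟨U, hxU, hU⟩ := VACore.hasUnitFrac_projSpace K n x
  refine ⟨U, hxU, ?_⟩
  have h1 : ∀ j, Nonempty ((Twist.twist (CohB1.polyGrading n K) (a j)).restrict U.ι ≅
      Coh.structureModule (U : Scheme.{u})) := fun j => by
    have h2 := hU.zsmul (a j)
    rw [Nat.cast_one, mul_one] at h2
    exact nonempty_restrict_iso_of_hasUnitFrac h2
  exact ⟨PreservesCoproduct.iso (Scheme.Modules.restrictFunctor U.ι)
    (fun j => Twist.twist (CohB1.polyGrading n K) (a j)) ≪≫
    Sigma.mapIso (fun j => (h1 j).some)⟩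

/-- a direct sum of `s` twisting sheaves is locally free of rank `s`. -/
theorem isFinLocFreeOfRank_coprod (s : ℕ) (a : Fin s → ℤ) :
    FlatMod.IsFinLocFreeOfRank s (∐ fun j => Twist.twistProjSpace n K (a j)) :=
  isFinLocFreeOfRank_coprod_aux n K s a

theorem isFinLocFreeOfRank_biproduct {ι : Type} [Fintype ι] (a : ι → ℤ) :
    FlatMod.IsFinLocFreeOfRank (Fintype.card ι)
      (⨁ fun j => Twist.twistProjSpace n K (a j)) := by
  have h1 := isFinLocFreeOfRank_coprod n K (Fintype.card ι)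
    (fun j => a ((Fintype.equivFin ι).symm j))
  have i1 : (∐ fun j : Fin (Fintype.card ι) =>
      Twist.twistProjSpace n K (a ((Fintype.equivFin ι).symm j))) ≅
      ∐ fun j : ι => Twist.twistProjSpace n K (a j) :=
    Sigma.reindex (Fintype.equivFin ι).symm (fun j : ι => Twist.twistProjSpace n K (a j))
  exact isFinLocFreeOfRank_of_iso' (i1 ≪≫ (biproduct.isoCoproduct _).symm) _ h1

/-- Horrocks' criterion for finite locally free modules, with the number of summands. -/
theorem isSplit_rank (hn : 1 ≤ n) (E : (CohB1.ProjSpace n K).Modules) (r : ℕ)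
    (hE : FlatMod.IsFinLocFreeOfRank r E) (hII : CondII n K E) :
    ∃ a : Fin r → ℤ, Nonempty (E ≅ ∐ fun j => Twist.twistProjSpace n K (a j)) := by
  have hcoh := isCoh_of_isFinLocFreeOfRank' hE
  obtain ⟨s, a, ⟨e⟩⟩ := (horrocks n K hn E hcoh).mpr ⟨condI_of_locFree n K hn E r hE, hII⟩
  have hs : FlatMod.IsFinLocFreeOfRank s E :=
    isFinLocFreeOfRank_of_iso' e.symm s (isFinLocFreeOfRank_coprod n K s a)
  have hsr : s = r := rank_unique' E hs hE
  subst hsr
  exact ⟨a, ⟨e⟩⟩

theorem card_le_of_iso (hn : 1 ≤ n) {r : ℕ} (d d' : Fin r → ℤ)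
    (E : (⨁ fun i => Twist.twistProjSpace n K (d i)) ≅
      ⨁ fun j => Twist.twistProjSpace n K (d' j))
    (t : ℤ) : Fintype.card {i // t ≤ d i} ≤ Fintype.card {j // t ≤ d' j} := by
  haveI := mono_restrict (fun i => Twist.twistProjSpace n K (d i))
    (fun j => Twist.twistProjSpace n K (d' j)) (fun i => t ≤ d i) (fun j => t ≤ d' j) E
    (fun i j hi hj φ => hom_twist_eq_zero n K hn (d i) (d' j) (by omega) φ)
  have hG : FlatMod.IsFinLocFreeOfRank (Fintype.card {i // t ≤ d i})
      (⨁ Subtype.restrict (fun i => t ≤ d i) (fun i => Twist.twistProjSpace n K (d i))) :=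
    isFinLocFreeOfRank_biproduct n K (fun i : {i // t ≤ d i} => d i.1)
  have hF : FlatMod.IsFinLocFreeOfRank (Fintype.card {j // t ≤ d' j})
      (⨁ Subtype.restrict (fun j => t ≤ d' j) (fun j => Twist.twistProjSpace n K (d' j))) :=
    isFinLocFreeOfRank_biproduct n K (fun j : {j // t ≤ d' j} => d' j.1)
  exact rank_le_of_mono' hG hF
    (biproduct.fromSubtype _ _ ≫ E.hom ≫ biproduct.toSubtype _ _)

/-- uniqueness of the splitting type. -/
theorem splitting_type_unique (hn : 1 ≤ n) {r : ℕ} (d d' : Fin r → ℤ) (hd : Antitone d)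
    (hd' : Antitone d')
    (e : (∐ fun i => Twist.twistProjSpace n K (d i)) ≅
      ∐ fun j => Twist.twistProjSpace n K (d' j)) : d = d' := by
  have E : (⨁ fun i => Twist.twistProjSpace n K (d i)) ≅
      ⨁ fun j => Twist.twistProjSpace n K (d' j) :=
    biproduct.isoCoproduct _ ≪≫ e ≪≫ (biproduct.isoCoproduct _).symm
  exact antitone_eq_of_card_eq d d' hd hd' (fun t =>
    le_antisymm (card_le_of_iso n K hn d d' E t) (card_le_of_iso n K hn d' d E.symm t))

/-- the key step of Horrocks' criterion, for a given regularity index. -/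
theorem step' (F : (CohB1.ProjSpace n K).Modules) (hF : Coh.IsCoh F) (m₀ : ℤ)
    (hm₀ : Reg n K F m₀)
    (hne : ¬ Subsingleton (Coh.HH (CohB1.ProjSpace n K)
      (CohB1.tensorMod F (Twist.twistProjSpace n K (m₀ - 1 - (n : ℤ)))) n)) :
    ∃ (p : F ⟶ Twist.twistProjSpace n K (-m₀))
      (i : Twist.twistProjSpace n K (-m₀) ⟶ F), i ≫ p = 𝟙 _ := by
  classical
  obtain ⟨a, ha⟩ : ∃ a : ℤ, a = m₀ - 1 - (n : ℤ) := ⟨_, rfl⟩
  rw [← ha] at hne
  have hG : Coh.IsCoh (CohB1.tensorMod F (Twist.twistProjSpace n K a)) :=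
    MumLem.isCoh_tw n K F hF a
  obtain ⟨φ, hφ⟩ := exists_hom_ne_zero n K _ hG hne
  have hU := Mumford.hU n K
  haveI hE1 := isEquivalence_twR (Twist.twistProjSpace n K a) (Twist.twistProjSpace n K (-a))
    (pairIso hU a)
  have h1 : -m₀ + a = -((n : ℤ) + 1) := by omega
  let ι₁ : CohB1.tensorMod (Twist.twistProjSpace n K (-m₀)) (Twist.twistProjSpace n K a) ≅
      omega n K := mulIso' hU (-m₀) a (-((n : ℤ) + 1)) h1
  obtain ⟨p, hp⟩ : ∃ p : F ⟶ Twist.twistProjSpace n K (-m₀),
      (twR (Twist.twistProjSpace n K a)).map p = φ ≫ ι₁.inv :=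
    ⟨(twR (Twist.twistProjSpace n K a)).preimage (φ ≫ ι₁.inv),
      (twR (Twist.twistProjSpace n K a)).map_preimage _⟩
  have hp0 : p ≠ 0 := by
    intro h0
    apply hφ
    have h2 : φ = (φ ≫ ι₁.inv) ≫ ι₁.hom :=
      ((Category.assoc _ _ _).trans ((congrArg (fun t => φ ≫ t) ι₁.inv_hom_id).trans
        (Category.comp_id φ))).symm
    rw [← hp, h0, (twR (Twist.twistProjSpace n K a)).map_zero] at h2
    exact h2.trans zero_comp
  haveI hE2 := isEquivalence_twR (Twist.twistProjSpace n K m₀) (Twist.twistProjSpace n K (-m₀))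
    (pairIso hU m₀)
  have h0 : -m₀ + m₀ = 0 := by omega
  let a₂ : CohB1.tensorMod (Twist.twistProjSpace n K (-m₀)) (Twist.twistProjSpace n K m₀) ≅
      Coh.structureModule (CohB1.ProjSpace n K) := pairIso' hU (-m₀) m₀ h0
  have hφ' : (twR (Twist.twistProjSpace n K m₀)).map p ≫ a₂.hom ≠ 0 := by
    intro h
    apply hp0
    apply (twR (Twist.twistProjSpace n K m₀)).map_injective
    rw [(twR (Twist.twistProjSpace n K m₀)).map_zero]
    have h2 : (twR (Twist.twistProjSpace n K m₀)).map p =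
        ((twR (Twist.twistProjSpace n K m₀)).map p ≫ a₂.hom) ≫ a₂.inv :=
      ((Category.assoc _ _ _).trans ((congrArg
        (fun t => (twR (Twist.twistProjSpace n K m₀)).map p ≫ t) a₂.hom_inv_id).trans
        (Category.comp_id _))).symm
    rw [h] at h2
    exact h2.trans zero_comp
  have hgg := GGTwist.isGloballyGenerated_twist n K F hF m₀ hm₀
  obtain ⟨σ, hσ⟩ := exists_section_of_gg n K _ hgg _ hφ'
  obtain ⟨i, hi⟩ : ∃ i : Twist.twistProjSpace n K (-m₀) ⟶ F,
      (twR (Twist.twistProjSpace n K m₀)).map i = a₂.hom ≫ σ :=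
    ⟨(twR (Twist.twistProjSpace n K m₀)).preimage (a₂.hom ≫ σ),
      (twR (Twist.twistProjSpace n K m₀)).map_preimage _⟩
  refine ⟨p, i, ?_⟩
  have h3 : (σ ≫ (twR (Twist.twistProjSpace n K m₀)).map p) ≫ a₂.hom = 𝟙 _ :=
    (Category.assoc _ _ _).trans hσ
  have h2 : σ ≫ (twR (Twist.twistProjSpace n K m₀)).map p = a₂.inv :=
    ((Iso.eq_comp_inv a₂).mpr h3).trans (Category.id_comp _)
  have h5 : (twR (Twist.twistProjSpace n K m₀)).map (i ≫ p) =
      (twR (Twist.twistProjSpace n K m₀)).map (𝟙 _) := by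
    rw [(twR (Twist.twistProjSpace n K m₀)).map_comp, hi,
      (twR (Twist.twistProjSpace n K m₀)).map_id]
    exact (Category.assoc _ _ _).trans ((congrArg (fun t => a₂.hom ≫ t) h2).trans a₂.hom_inv_id)
  exact (twR (Twist.twistProjSpace n K m₀)).map_injective h5

end Pn

section PZero

variable (K : Type u) [Field K]

lemma reg_zero (F : (CohB1.ProjSpace 0 K).Modules) (hF : Coh.IsCoh F) (m : ℤ) :
    Reg 0 K F m := fun i hi =>
  @Mumford.hvan 0 K _ _ (Mumford.isQCoh_tw 0 K F hF.1 _) i (by omega)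

/-- every coherent module on `P^0_K` is a finite direct sum of twisting sheaves. -/
theorem isSplit_zero : ∀ (N : ℕ) (F : (CohB1.ProjSpace 0 K).Modules), Coh.IsCoh F →
    Module.finrank K (Coh.HH (CohB1.ProjSpace 0 K)
      (CohB1.tensorMod F (Twist.twistProjSpace 0 K 0)) 0) = N → IsSplit 0 K F := by
  intro N
  induction N using Nat.strong_induction_on with
  | _ N ih =>
    intro F hF hN
    by_cases hF0 : IsZero F
    · exact isSplit_of_isZero 0 K F hF0
    · have hne : ¬ Subsingleton (Coh.HH (CohB1.ProjSpace 0 K)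
          (CohB1.tensorMod F (Twist.twistProjSpace 0 K (0 - 1 - ((0 : ℕ) : ℤ)))) 0) := by
        intro hsub
        exact hF0 (isZero_of_reg 0 K F hF _ (reg_zero K F hF _) hsub)
      obtain ⟨p, i, hip⟩ := step' 0 K F hF 0 (reg_zero K F hF 0) hne
      obtain ⟨F', ι, q, hιq, hιp, hF', ⟨e⟩⟩ := split_step 0 K F hF (-0) p i hip
      have hlt := finrank_lt 0 K F F' (-0) 0 (by omega) hF ι q p i hιq hip hιp
      rw [hN] at hlt
      have hs' := ih _ hlt F' hF' rfl
      exact isSplit_of_iso e (isSplit_biprod 0 K F' (-0) hs')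

theorem isSplit_rank_zero (E : (CohB1.ProjSpace 0 K).Modules) (r : ℕ)
    (hE : FlatMod.IsFinLocFreeOfRank r E) :
    ∃ a : Fin r → ℤ, Nonempty (E ≅ ∐ fun j => Twist.twistProjSpace 0 K (a j)) := by
  have hcoh := isCoh_of_isFinLocFreeOfRank' hE
  obtain ⟨s, a, ⟨e⟩⟩ := isSplit_zero K _ E hcoh rfl
  have hs : FlatMod.IsFinLocFreeOfRank s E :=
    isFinLocFreeOfRank_of_iso' e.symm s (isFinLocFreeOfRank_coprod 0 K s a)
  have hsr : s = r := rank_unique' E hs hE
  subst hsr
  exact ⟨a, ⟨e⟩⟩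

end PZero

end Groth.Agent.Lib.Helper7.LocFreePn
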