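import Mathlib
import Groth.Prelude
import Groth.Agent.Lib.Helper7.PnDualD
import Groth.Agent.Lib.Helper7.SplitTw
import Groth.Agent.Lib.Helper5.ExtUnitHRing
import Groth.Agent.S0046
import Groth.Agent.S0844

/-!
# `Ext^i(F, ω)` on `P^n_k` versus `H^{n-i}(F)`: vanishing

* `nonempty_addEquiv`: for an additive auto-equivalence `E` with `E L ≅ O`,
  `Ext^n(L, P) ≃ Ext^n(O, E P)`.
* `ext_one_iff`, `ext_shift`, `HH_shift`, `Hm_inj_iff`: pieces of long exact sequences.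
* `pp_all`: for coherent `F` on `P^n_k` and `i ≤ n`, `Ext^i(F, ω) = 0 ↔ H^{n-i}(F) = 0`.
-/
set_option autoImplicit false
universe w v' u' u
open CategoryTheory CategoryTheory.Limits AlgebraicGeometry TopologicalSpace Opposite
open Scheme.Modules

noncomputable section

namespace Groth.Agent.Lib.Helper7.PnExt

open Groth.Agent.Lib.Helper3 Groth.Agent.Lib.Helper3.QCSec Groth.Agent.Lib.Helper3.InvGen
  Groth.Agent.Lib.Helper3.InvTensor Groth.Agent.Lib.Helper3.InvMonoidal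
  Groth.Agent.Lib.Helper3.TwistBasic Groth.Agent.Lib.Helper3.TwistMul
  Groth.Agent.Lib.Helper7.TwFun Groth.Agent.Lib.Helper7.TwProj Groth.Agent.Lib.Helper7.MulSurj
  Groth.Agent.Lib.Helper7.RegRes Groth.Agent.Lib.Helper7.CohFinite
  Groth.Agent.Lib.Helper7.PnDual
  Groth.Agent.Lib.Helper13 Groth.Agent.Lib.Helper13.SerreCrit1
  Groth.Agent.Lib.Helper13.DeltaFun Groth.Agent.Lib.Helper2.ExtUnitH

section Equiv

variable {𝒞 : Type u'} [Category.{v'} 𝒞] [Abelian 𝒞] [HasExt.{w} 𝒞] [EnoughInjectives 𝒞]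
  (E : 𝒞 ⥤ 𝒞) [E.IsEquivalence] [E.Additive] (L O : 𝒞) (u : E.obj L ≅ O)

/-- `P ↦ Ext^n(L, P)` -/
abbrev TTe : DFun.{w} 𝒞 := ofExt (𝟭 𝒞) L

/-- `P ↦ Ext^n(O, E P)` -/
abbrev SSe : DFun.{w} 𝒞 := ofExt E O

/-- `Hom(L, P) → Hom(O, E P)` -/
def zeroMap (P : 𝒞) : (L ⟶ P) →+ (O ⟶ E.obj P) where
  toFun f := u.inv ≫ E.map f
  map_zero' := by rw [E.map_zero, comp_zero]
  map_add' f g := by rw [E.map_add, Preadditive.comp_add]

lemma zeroMap_apply (P : 𝒞) (f : L ⟶ P) : zeroMap E L O u P f = u.inv ≫ E.map f := rfl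

lemma zeroMap_bijective (P : 𝒞) : Function.Bijective (zeroMap E L O u P) := by
  constructor
  · intro f g h
    rw [zeroMap_apply, zeroMap_apply] at h
    have h1 : E.map f = E.map g := by
      have h2 := congrArg (fun t => u.hom ≫ t) h
      simp only [Iso.hom_inv_id_assoc] at h2
      exact h2
    exact E.map_injective h1
  · intro g
    refine ⟨E.preimage (u.hom ≫ g), ?_⟩
    rw [zeroMap_apply, E.map_preimage, Iso.inv_hom_id_assoc]

/-- the comparison in degree `0`. -/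
def e0 (P : 𝒞) : (TTe L).obj P 0 →+ (SSe E O).obj P 0 :=
  ((Abelian.Ext.addEquiv₀ (X := O) (Y := E.obj P)).symm.toAddMonoidHom.comp
    (zeroMap E L O u P)).comp (Abelian.Ext.addEquiv₀ (X := L) (Y := P)).toAddMonoidHom

lemma e0_mk₀ (P : 𝒞) (f : L ⟶ P) :
    e0 E L O u P (Abelian.Ext.mk₀ f) = Abelian.Ext.mk₀ (u.inv ≫ E.map f) := by
  change Abelian.Ext.addEquiv₀.symm (zeroMap E L O u P
    (Abelian.Ext.addEquiv₀ (Abelian.Ext.mk₀ f))) = _
  rw [Abelian.Ext.addEquiv₀_symm_apply]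
  congr 1
  have : Abelian.Ext.addEquiv₀ (Abelian.Ext.mk₀ f) = f :=
    Abelian.Ext.addEquiv₀.apply_symm_apply f
  rw [this]
  rfl

lemma e0_bijective (P : 𝒞) : Function.Bijective (e0 E L O u P) :=
  (Abelian.Ext.addEquiv₀.symm.bijective.comp (zeroMap_bijective E L O u P)).comp
    Abelian.Ext.addEquiv₀.bijective

lemma e0_natural {P Q : 𝒞} (φ : P ⟶ Q) (x : (TTe L).obj P 0) :
    e0 E L O u Q ((TTe L).map φ 0 x) = (SSe E O).map φ 0 (e0 E L O u P x) := by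
  obtain ⟨f, rfl⟩ := (Abelian.Ext.mk₀_bijective _ _).2 x
  rw [ofExt_map_apply, e0_mk₀, ofExt_map_apply, Abelian.Ext.mk₀_comp_mk₀,
    Abelian.Ext.mk₀_comp_mk₀]
  change e0 E L O u Q (Abelian.Ext.mk₀ (f ≫ φ)) = _
  rw [e0_mk₀, Functor.map_comp, Category.assoc]

lemma effaceable_TT : Effaceable (TTe (𝒞 := 𝒞) L) := by
  intro I _ n x
  exact Abelian.Ext.eq_zero_of_injective x

lemma effaceable_SS : Effaceable (SSe E O) := by
  intro I _ n x
  haveI : Injective (E.obj I) :=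
    Injective.injective_of_adjoint (E.asEquivalence.symm.toAdjunction) I
  exact Abelian.Ext.eq_zero_of_injective x

include u in
/-- `Ext^n(L, P) ≃ Ext^n(O, E P)` for an additive auto-equivalence `E` with `E L ≅ O`. -/
theorem nonempty_addEquiv (P : 𝒞) (n : ℕ) :
    Nonempty (Abelian.Ext L P n ≃+ Abelian.Ext O (E.obj P) n) := by
  obtain ⟨e, -, -, hb⟩ := bijective_of_zero (effaceable_TT L) (effaceable_SS E O) (e0 E L O u)
    (e0_natural E L O u) (e0_bijective E L O u)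
  exact ⟨AddEquiv.ofBijective (e P n) (hb P n)⟩

end Equiv

section ExtSeq

variable {𝒞 : Type u'} [Category.{v'} 𝒞] [Abelian 𝒞] [HasExt.{w} 𝒞]

lemma sub_ext_biprod (A B Y : 𝒞) (i : ℕ) (hA : Subsingleton (Abelian.Ext A Y i))
    (hB : Subsingleton (Abelian.Ext B Y i)) : Subsingleton (Abelian.Ext (A ⊞ B) Y i) := by
  refine subsingleton_of_forall_eq 0 fun x => ?_
  have key : x = (Abelian.Ext.mk₀ (biprod.fst : A ⊞ B ⟶ A)).comp
      ((Abelian.Ext.mk₀ (biprod.inl : A ⟶ A ⊞ B)).comp x (zero_add i)) (zero_add i) +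
      (Abelian.Ext.mk₀ (biprod.snd : A ⊞ B ⟶ B)).comp
      ((Abelian.Ext.mk₀ (biprod.inr : B ⟶ A ⊞ B)).comp x (zero_add i)) (zero_add i) := by
    rw [Abelian.Ext.mk₀_comp_mk₀_assoc, Abelian.Ext.mk₀_comp_mk₀_assoc, ← Abelian.Ext.add_comp,
      ← Abelian.Ext.mk₀_add, biprod.total, Abelian.Ext.mk₀_id_comp]
  rw [key, @Subsingleton.elim _ hA ((Abelian.Ext.mk₀ (biprod.inl : A ⟶ A ⊞ B)).comp x
      (zero_add i)) 0,
    @Subsingleton.elim _ hB ((Abelian.Ext.mk₀ (biprod.inr : B ⟶ A ⊞ B)).comp x (zero_add i)) 0,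
    Abelian.Ext.comp_zero, Abelian.Ext.comp_zero, add_zero]

lemma sub_ext_powSum (L Y : 𝒞) (i : ℕ) (h : Subsingleton (Abelian.Ext L Y i)) :
    ∀ j, Subsingleton (Abelian.Ext (powSum L j) Y i)
  | 0 => h
  | j + 1 => sub_ext_biprod _ _ _ i (sub_ext_powSum L Y i h j) h

/-- `Ext^1(X₃, Y) = 0` iff every map `X₁ ⟶ Y` extends to `X₂`, when `Ext^1(X₂, Y) = 0`. -/
lemma ext_one_iff (S : ShortComplex 𝒞) (hS : S.ShortExact) (Y : 𝒞)
    (h2 : Subsingleton (Abelian.Ext S.X₂ Y 1)) :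
    Subsingleton (Abelian.Ext S.X₃ Y 1) ↔ ∀ g : S.X₁ ⟶ Y, ∃ g' : S.X₂ ⟶ Y, S.f ≫ g' = g := by
  constructor
  · intro h g
    obtain ⟨x₂, hx₂⟩ := Abelian.Ext.contravariant_sequence_exact₁ hS Y (Abelian.Ext.mk₀ g)
      (n₁ := 1) rfl (@Subsingleton.elim _ h _ _)
    obtain ⟨g', rfl⟩ := (Abelian.Ext.mk₀_bijective _ _).2 x₂
    rw [Abelian.Ext.mk₀_comp_mk₀] at hx₂
    exact ⟨g', (Abelian.Ext.mk₀_bijective _ _).1 hx₂⟩
  · intro h
    refine subsingleton_of_forall_eq 0 fun x₃ => ?_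
    obtain ⟨x₁, hx₁⟩ := Abelian.Ext.contravariant_sequence_exact₃ hS Y x₃
      (@Subsingleton.elim _ h2 _ _) (n₀ := 0) rfl
    obtain ⟨g, rfl⟩ := (Abelian.Ext.mk₀_bijective _ _).2 x₁
    obtain ⟨g', rfl⟩ := h g
    rw [← hx₁, ← Abelian.Ext.mk₀_comp_mk₀]
    exact hS.extClass_comp_assoc (Abelian.Ext.mk₀ g')

/-- dimension shifting for `Ext(-, Y)`. -/
lemma ext_shift (S : ShortComplex 𝒞) (hS : S.ShortExact) (Y : 𝒞) (i : ℕ)
    (h2 : Subsingleton (Abelian.Ext S.X₂ Y i)) (h2' : Subsingleton (Abelian.Ext S.X₂ Y (i + 1))) :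
    Subsingleton (Abelian.Ext S.X₃ Y (i + 1)) ↔ Subsingleton (Abelian.Ext S.X₁ Y i) := by
  constructor
  · intro h
    refine subsingleton_of_forall_eq 0 fun x₁ => ?_
    obtain ⟨x₂, hx₂⟩ := Abelian.Ext.contravariant_sequence_exact₁ hS Y x₁
      (n₁ := i + 1) (by omega) (@Subsingleton.elim _ h _ _)
    rw [← hx₂, @Subsingleton.elim _ h2 x₂ 0, Abelian.Ext.comp_zero]
  · intro h
    refine subsingleton_of_forall_eq 0 fun x₃ => ?_
    obtain ⟨x₁, hx₁⟩ := Abelian.Ext.contravariant_sequence_exact₃ hS Y x₃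
      (@Subsingleton.elim _ h2' _ _) (n₀ := i) (by omega)
    rw [← hx₁, @Subsingleton.elim _ h x₁ 0, Abelian.Ext.comp_zero]

end ExtSeq

section General

variable {X : Scheme.{u}}

lemma sub_HH_biprod (A B : X.Modules) (q : ℕ) (hA : Subsingleton (Coh.HH X A q))
    (hB : Subsingleton (Coh.HH X B q)) : Subsingleton (Coh.HH X (A ⊞ B) q) := by
  refine subsingleton_of_forall_eq 0 fun x => ?_
  have hx : Hm (biprod.inl : A ⟶ A ⊞ B) q (Hm (biprod.fst : A ⊞ B ⟶ A) q x) +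
      Hm (biprod.inr : B ⟶ A ⊞ B) q (Hm (biprod.snd : A ⊞ B ⟶ B) q x) = x := by
    rw [← Hm_comp, ← Hm_comp, ← Hm_add, biprod.total, Hm_id]
  rw [← hx, @Subsingleton.elim _ hA (Hm (biprod.fst : A ⊞ B ⟶ A) q x) 0,
    @Subsingleton.elim _ hB (Hm (biprod.snd : A ⊞ B ⟶ B) q x) 0, map_zero, map_zero, add_zero]

lemma sub_HH_powSum (L : X.Modules) (q : ℕ) (h : Subsingleton (Coh.HH X L q)) :
    ∀ j, Subsingleton (Coh.HH X (powSum L j) q)
  | 0 => h
  | j + 1 => sub_HH_biprod _ _ q (sub_HH_powSum L q h j) h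

/-- dimension shifting for cohomology. -/
lemma HH_shift (S : ShortComplex X.Modules) (hS : S.ShortExact) (q : ℕ)
    (h2 : Subsingleton (Coh.HH X S.X₂ q)) (h2' : Subsingleton (Coh.HH X S.X₂ (q + 1))) :
    Subsingleton (Coh.HH X S.X₃ q) ↔ Subsingleton (Coh.HH X S.X₁ (q + 1)) :=
  ⟨fun h => sub_left S hS q h h2', fun h => sub_right S hS q h2 h⟩

/-- `H^{q+1}(f)` has trivial kernel iff `H^q(X₃) = 0`, when `H^q(X₂) = 0`. -/
lemma Hm_inj_iff (S : ShortComplex X.Modules) (hS : S.ShortExact) (q : ℕ)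
    (h2 : Subsingleton (Coh.HH X S.X₂ q)) :
    (∀ x : Coh.HH X S.X₁ (q + 1), Hm S.f (q + 1) x = 0 → x = 0) ↔
      Subsingleton (Coh.HH X S.X₃ q) := by
  have hS' := shortExact_map_toSheaf S hS
  constructor
  · intro h
    refine subsingleton_of_forall_eq 0 fun x₃ => ?_
    have h1 : (x₃.comp hS'.extClass rfl).comp (Abelian.Ext.mk₀ (S.map (TT X)).f)
        (add_zero (q + 1)) = 0 :=
      (Abelian.Ext.comp_assoc_of_third_deg_zero x₃ hS'.extClass
        (Abelian.Ext.mk₀ (S.map (TT X)).f) rfl).trans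
        ((congrArg (fun z => x₃.comp z rfl) hS'.extClass_comp).trans
          (Abelian.Ext.comp_zero _ _ _ _ _))
    have h3 : x₃.comp hS'.extClass rfl = 0 := h _ h1
    obtain ⟨x₂, hx₂⟩ := Abelian.Ext.covariant_sequence_exact₃ _ hS' x₃ rfl h3
    have hx0 : x₂ = 0 := @Subsingleton.elim _ h2 _ _
    rw [← hx₂, hx0, Abelian.Ext.zero_comp]
    rfl
  · intro h x hx
    obtain ⟨x₃, hx₃⟩ := Abelian.Ext.covariant_sequence_exact₁ _ hS' x hx rfl
    have hx0 : x₃ = 0 := @Subsingleton.elim _ h _ _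
    rw [← hx₃, hx0, Abelian.Ext.zero_comp]
    rfl

end General

section Pn

variable (n : ℕ) (k : Type u) [Field k] [HasExt.{u} (CohB1.ProjSpace n k).Modules]

/-- `Ext^i(O(-m), ω) = 0` for `i ≥ 1`, `m ≥ 1`. -/
lemma sub_ext_twist (m : ℤ) (hm : 1 ≤ m) (i : ℕ) (hi : 1 ≤ i) :
    Subsingleton (Abelian.Ext (Twist.twistProjSpace n k (-m)) (omega n k) i) := by
  have hU := Mumford.hU n k
  haveI := isEquivalence_twR (Twist.twistProjSpace n k m) (Twist.twistProjSpace n k (-m))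
    (pairIso hU m)
  have h0 : -m + m = 0 := by omega
  haveI : EnoughInjectives (CohB1.ProjSpace n k).Modules :=
    Groth.Agent.Lib.Helper13.ModGrothendieck.enoughInjectives (CohB1.ProjSpace n k).ringCatSheaf
  obtain ⟨eq1⟩ := nonempty_addEquiv (twR (Twist.twistProjSpace n k m))
    (Twist.twistProjSpace n k (-m)) (Coh.structureModule (CohB1.ProjSpace n k))
    (pairIso' hU (-m) m h0) (omega n k) i
  obtain ⟨eq2⟩ := Groth.Agent.Lib.Helper5.ExtUnitHRing.nonempty_addEquiv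
    (CohB1.ProjSpace n k).ringCatSheaf
    ((twR (Twist.twistProjSpace n k m)).obj (omega n k)) i
  obtain ⟨s, hs⟩ : ∃ s : ℤ, -((n : ℤ) + 1) + m = s := ⟨_, rfl⟩
  haveI h1 : Subsingleton (Coh.HH (CohB1.ProjSpace n k)
      ((twR (Twist.twistProjSpace n k m)).obj (omega n k)) i) :=
    subsingleton_HH_of_iso (mulIso' hU (-((n : ℤ) + 1)) m s hs) i
      (Groth.Agent.S0844.result k n s i (by rintro ⟨h, -⟩; omega) (by rintro ⟨-, h⟩; omega))
  exact (eq1.trans eq2).toEquiv.subsingleton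

/-- a presentation of a coherent module by a sum of negative twists. -/
theorem exists_pres (F : (CohB1.ProjSpace n k).Modules) (hF : Coh.IsCoh F) :
    ∃ (E K : (CohB1.ProjSpace n k).Modules) (ι : K ⟶ E) (π : E ⟶ F) (w : ι ≫ π = 0),
      (ShortComplex.mk ι π w).ShortExact ∧ Coh.IsCoh E ∧ Coh.IsCoh K ∧ IsDual n k E ∧
      (∀ i : ℕ, 1 ≤ i → Subsingleton (Abelian.Ext E (omega n k) i)) ∧
      (∀ q : ℕ, q < n → Subsingleton (Coh.HH (CohB1.ProjSpace n k) E q)) := by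
  obtain ⟨m, hm, j, π, hπ⟩ := exists_epi_powSum n k F hF
  haveI := hπ
  have hS := CechCard.shortExact_kernel π
  have hE : Coh.IsCoh (powSum (Twist.twistProjSpace n k (-(m : ℤ))) j) :=
    isCoh_powSum _ (PnFinite.isCoh_twist n k (-(m : ℤ))) j
  refine ⟨_, kernel π, kernel.ι π, π, kernel.condition π, hS, hE, ?_,
    isDual_powSum _ (isDual_twist n k (-(m : ℤ)) (by omega)) j, ?_, ?_⟩
  · haveI : IsNoetherian (CohB1.ProjSpace n k) :=
      Groth.Agent.S2357.result (CohB1.polyGrading n k)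
    haveI := hF.1
    haveI := hE.1
    have hKq : Coh.IsQCoh (kernel π) := QCProps.isQuasicoherent_kernel π
    exact Groth.Agent.S0046.result _ _ (kernel π) (kernel.ι π) hE hKq
  · intro i hi
    exact sub_ext_powSum _ _ i (sub_ext_twist n k (m : ℤ) (by omega) i hi) j
  · intro q hq
    exact sub_HH_powSum _ q (Groth.Agent.S0844.result k n (-(m : ℤ)) q
      (by rintro ⟨-, h⟩; omega) (by rintro ⟨h, -⟩; omega)) j

/-- the statement `Ext^i(F, ω) = 0 ↔ H^{n-i}(F) = 0` for all coherent `F`. -/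
def PP (i : ℕ) : Prop :=
  ∀ F : (CohB1.ProjSpace n k).Modules, Coh.IsCoh F →
    (Subsingleton (Abelian.Ext F (omega n k) i) ↔
      Subsingleton (Coh.HH (CohB1.ProjSpace n k) F (n - i)))

theorem pp_zero : PP n k 0 := by
  intro F hF
  have hD := isDual_of_isCoh n k F hF
  rw [Nat.sub_zero]
  constructor
  · intro h
    have hφ : ∀ φ : F ⟶ omega n k, φ = 0 := fun φ =>
      (Abelian.Ext.mk₀_eq_zero_iff φ).mp (@Subsingleton.elim _ h (Abelian.Ext.mk₀ φ) 0)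
    refine subsingleton_of_forall_eq 0 fun x => ?_
    by_contra hx
    obtain ⟨ψ, hψ⟩ := Module.Projective.exists_dual_ne_zero k hx
    obtain ⟨φ, hφ'⟩ := hD.1 ψ
    apply hψ
    rw [hφ' x, hφ φ, Hm_zero, map_zero]
  · intro h
    refine subsingleton_of_forall_eq 0 fun y => ?_
    obtain ⟨φ, rfl⟩ := (Abelian.Ext.mk₀_bijective _ _).2 y
    have h0 : φ = 0 := hD.2 φ (fun x => by
      rw [@Subsingleton.elim _ h x 0, map_zero, map_zero])
    rw [h0, Abelian.Ext.mk₀_zero]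

/-- extension of maps to `ω` along `ι : K ⟶ E` versus injectivity of `H^n(ι)`. -/
lemma lift_iff {K E : (CohB1.ProjSpace n k).Modules} (ι : K ⟶ E) (hDK : IsDual n k K)
    (hDE : IsDual n k E) :
    (∀ g : K ⟶ omega n k, ∃ g' : E ⟶ omega n k, ι ≫ g' = g) ↔
      ∀ x : Coh.HH (CohB1.ProjSpace n k) K n, Hm ι n x = 0 → x = 0 := by
  constructor
  · intro h x hx
    by_contra hx0
    obtain ⟨ψ, hψ⟩ := Module.Projective.exists_dual_ne_zero k hx0
    obtain ⟨g, hg⟩ := hDK.1 ψ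
    obtain ⟨g', rfl⟩ := h g
    apply hψ
    rw [hg x, Hm_comp, hx, map_zero, map_zero]
  · intro h g
    have hker : LinearMap.ker (HmapL k ι n) = ⊥ :=
      LinearMap.ker_eq_bot'.mpr (fun x hx => h x hx)
    obtain ⟨r, hr⟩ := LinearMap.exists_leftInverse_of_injective (HmapL k ι n) hker
    obtain ⟨g', hg'⟩ := hDE.1 (((tr n k).comp (HmapL k g n)).comp r)
    refine ⟨g', ?_⟩
    have h0 : ι ≫ g' - g = 0 := hDK.2 _ (fun x => by
      have hrx : r (Hm ι n x) = x := LinearMap.congr_fun hr x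
      rw [Hm_sub, map_sub, Hm_comp, ← hg' (Hm ι n x)]
      change tr n k (Hm g n (r (Hm ι n x))) - tr n k (Hm g n x) = 0
      rw [hrx, sub_self])
    exact sub_eq_zero.mp h0

theorem pp_one (hn : 1 ≤ n) : PP n k 1 := by
  intro F hF
  obtain ⟨E, K, ι, π, w, hS, hE, hK, hDE, hExt, hHH⟩ := exists_pres n k F hF
  have hDK := isDual_of_isCoh n k K hK
  obtain ⟨q, hq⟩ : ∃ q : ℕ, n = q + 1 := ⟨n - 1, by omega⟩
  have hA := ext_one_iff (ShortComplex.mk ι π w) hS (omega n k) (hExt 1 le_rfl)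
  have hB := lift_iff n k ι hDK hDE
  have hC := Hm_inj_iff (ShortComplex.mk ι π w) hS q (hHH q (by omega))
  have e1 : n - 1 = q := by omega
  rw [e1]
  refine hA.trans (hB.trans ?_)
  refine Iff.trans ?_ hC
  subst hq
  exact Iff.rfl

theorem pp_succ (i : ℕ) (hi : 1 ≤ i) (hin : i + 1 ≤ n) (h : PP n k i) : PP n k (i + 1) := by
  intro F hF
  obtain ⟨E, K, ι, π, w, hS, hE, hK, hDE, hExt, hHH⟩ := exists_pres n k F hF
  obtain ⟨q, hq⟩ : ∃ q : ℕ, n = q + 1 + i := ⟨n - 1 - i, by omega⟩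
  have hA := ext_shift (ShortComplex.mk ι π w) hS (omega n k) i (hExt i hi)
    (hExt (i + 1) (by omega))
  have hC := HH_shift (ShortComplex.mk ι π w) hS q (hHH q (by omega)) (hHH (q + 1) (by omega))
  have hK' := h K hK
  have e1 : n - (i + 1) = q := by omega
  have e2 : n - i = q + 1 := by omega
  rw [e1]
  rw [e2] at hK'
  exact hA.trans (hK'.trans hC.symm)

theorem pp_all : ∀ i : ℕ, i ≤ n → PP n k i
  | 0, _ => pp_zero n k
  | 1, h => pp_one n k h
  | i + 2, h => pp_succ n k (i + 1) (by omega) h (pp_all (i + 1) (by omega))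

end Pn

end Groth.Agent.Lib.Helper7.PnExt
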