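import Mathlib
import Groth.Prelude
import Groth.Agent.Lib.Helper7.Mumford
import Groth.Agent.Lib.Helper3.IdealMod
import Groth.Agent.S0843

/-!
# Global sections of twists on `P^n`

* `sub_H0_of_mono`: a monomorphism is injective on `H^0`.
* `sub_H0_iff`: `H^0` of the middle term of a short exact sequence with `H^1(X₁) = 0`.
* `sub_H0_twist_iff`: `H^0(P^n_k, O(d)) = 0` iff `d < 0` (`n ≥ 1`, `k` a field).
* `mono_mulBy`, `mono_sig`: multiplication by a nonzero degree-one element is a monomorphism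
  on twists of a submodule of `O_X` (`A` a domain).
* `sub_H0_twist_le`: `H^0(M(d')) = 0`, `d ≤ d'` ⇒ `H^0(M(d)) = 0` for `M ↪ O_X` on `P^n_k`.
-/
set_option autoImplicit false
universe u
open CategoryTheory CategoryTheory.Limits AlgebraicGeometry TopologicalSpace Opposite
open Scheme.Modules

noncomputable section

namespace Groth.Agent.Lib.Helper7.TwistH0

open Groth.Agent.Lib.Helper3 Groth.Agent.Lib.Helper3.QCSec Groth.Agent.Lib.Helper3.InvGen
  Groth.Agent.Lib.Helper3.InvTensor Groth.Agent.Lib.Helper3.InvMonoidal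
  Groth.Agent.Lib.Helper3.TwistBasic Groth.Agent.Lib.Helper3.TwistMul
  Groth.Agent.Lib.Helper7.TwFun Groth.Agent.Lib.Helper7.TwProj
  Groth.Agent.Lib.Helper13 Groth.Agent.Lib.Helper13.SerreCrit1

section General

variable {X : Scheme.{u}}

lemma sub_H0_of_mono {A B : X.Modules} (φ : A ⟶ B) [Mono φ]
    (h : Subsingleton (Coh.HH X B 0)) : Subsingleton (Coh.HH X A 0) := by
  have hT : IsTerminal (⊤ : X.Opens) := isTerminalTop
  have hinj := (QCProps.mono_iff_app_injective φ).mp inferInstance ⊤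
  refine subsingleton_of_forall_eq 0 fun x => ?_
  have h2 := Sheaf.H.equiv₀_naturality hT ((TT X).map φ) x
  have h3 : Sheaf.H.map ((TT X).map φ) 0 x = 0 := @Subsingleton.elim _ h _ _
  rw [h3, map_zero] at h2
  have h4 : φ.app ⊤ (Sheaf.H.equiv₀ (Coh.toAb A) hT x) = φ.app ⊤ 0 :=
    h2.trans (QCExact.app_zero φ ⊤).symm
  have h5 := hinj h4
  exact (Sheaf.H.equiv₀ (Coh.toAb A) hT).injective (h5.trans (map_zero _).symm)

lemma sub_H0_iff (S : ShortComplex X.Modules) (hS : S.ShortExact)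
    (h1 : Subsingleton (Coh.HH X S.X₁ 1)) :
    Subsingleton (Coh.HH X S.X₂ 0) ↔
      Subsingleton (Coh.HH X S.X₁ 0) ∧ Subsingleton (Coh.HH X S.X₃ 0) := by
  haveI := hS.mono_f
  exact ⟨fun h => ⟨sub_H0_of_mono S.f h, sub_right S hS 0 h h1⟩,
    fun h => sub_mid S hS 0 h.1 h.2⟩

end General

section Proj

variable {R A : Type u} [CommRing R] [CommRing A] [Algebra R A] {𝒜 : ℕ → Submodule R A}
  [GradedAlgebra 𝒜]

lemma mulBy_injective [IsDomain A] (f : 𝒜 1) (hf : (f : A) ≠ 0) (c : ℤ) (U : (Proj 𝒜).Opens) :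
    Function.Injective ((mulBy f c).app U) := by
  intro e e' h
  apply val_ext
  intro x
  have h1 : val ((mulBy f c).app U e) x = val ((mulBy f c).app U e') x :=
    congrArg (fun t => val t x) h
  rw [mulBy_app, mulBy_app, val_mulSec, val_mulSec] at h1
  haveI := x.1.isPrime
  have hM : x.1.asHomogeneousIdeal.toIdeal.primeCompl ≤ nonZeroDivisors A := by
    intro a ha
    exact mem_nonZeroDivisors_of_ne_zero (fun h0 => ha (h0 ▸ Ideal.zero_mem _))
  haveI : IsDomain (Twist.Loc 𝒜 x.1) :=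
    IsLocalization.isDomain_localization hM
  have hne : val (fsec f U) x ≠ 0 := by
    change Localization.mk (f : A) ⟨1, _⟩ ≠ 0
    intro h0
    have h2 : algebraMap A (Twist.Loc 𝒜 x.1) (f : A) = 0 := by
      rw [← Localization.mk_one_eq_algebraMap]
      exact h0
    exact hf ((IsLocalization.injective (Twist.Loc 𝒜 x.1) hM)
      (h2.trans (map_zero _).symm))
  exact mul_right_cancel₀ hne h1

lemma mono_mulBy [IsDomain A] (f : 𝒜 1) (hf : (f : A) ≠ 0) (c : ℤ) : Mono (mulBy f c) :=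
  (QCProps.mono_iff_app_injective _).mpr (fun U => mulBy_injective f hf c U)

lemma sig_unit_comm (f : 𝒜 1) (c : ℤ) :
    sig f c (Coh.structureModule (Proj 𝒜)) ≫ (unitorL (Twist.twist 𝒜 (c + 1))).hom =
      (unitorL (Twist.twist 𝒜 c)).hom ≫ mulBy f c := by
  apply tensor_hom_ext
  intro U r e
  change (unitorL (Twist.twist 𝒜 (c + 1))).hom.app U
      ((sig f c (Coh.structureModule (Proj 𝒜))).app U (tm _ _ U r e)) =
    (mulBy f c).app U ((unitorL (Twist.twist 𝒜 c)).hom.app U (tm _ _ U r e))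
  rw [sig_tm]
  have h1 := unitorL_hom_tm (Twist.twist 𝒜 (c + 1)) U ((mulBy f c).app U e) (toFun U r)
  have h2 := unitorL_hom_tm (Twist.twist 𝒜 c) U e (toFun U r)
  change (unitorL (Twist.twist 𝒜 (c + 1))).hom.app U
    (tm _ _ U (ofFun U (toFun U r)) ((mulBy f c).app U e)) = _
  rw [h1]
  change _ = (mulBy f c).app U ((unitorL (Twist.twist 𝒜 c)).hom.app U
    (tm _ _ U (ofFun U (toFun U r)) e))
  rw [h2, Scheme.Modules.Hom.app_smul]

lemma mono_sig [IsDomain A] (hU : HU 𝒜) (f : 𝒜 1) (hf : (f : A) ≠ 0) (c : ℤ)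
    (M : (Proj 𝒜).Modules) (ι : M ⟶ Coh.structureModule (Proj 𝒜)) [Mono ι] :
    Mono (sig f c M) := by
  have hsq : sig f c M ≫ tensorMap ι (𝟙 (Twist.twist 𝒜 (c + 1))) =
      tensorMap ι (𝟙 (Twist.twist 𝒜 c)) ≫ sig f c (Coh.structureModule (Proj 𝒜)) := by
    unfold sig
    rw [← tensorMap_comp, ← tensorMap_comp, Category.id_comp, Category.comp_id,
      Category.id_comp, Category.comp_id]
  haveI := isEquivalence_twR _ _ (pairIso hU c)
  haveI h1 : Mono (tensorMap ι (𝟙 (Twist.twist 𝒜 c))) :=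
    inferInstanceAs (Mono ((twR (Twist.twist 𝒜 c)).map ι))
  haveI := mono_mulBy f hf c
  haveI h2 : Mono (sig f c (Coh.structureModule (Proj 𝒜))) := by
    have e : sig f c (Coh.structureModule (Proj 𝒜)) =
        ((unitorL (Twist.twist 𝒜 c)).hom ≫ mulBy f c) ≫
          (unitorL (Twist.twist 𝒜 (c + 1))).inv := by
      rw [← sig_unit_comm, Category.assoc, Iso.hom_inv_id, Category.comp_id]
    rw [e]
    infer_instance
  haveI : Mono (sig f c M ≫ tensorMap ι (𝟙 (Twist.twist 𝒜 (c + 1)))) := by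
    rw [hsq]
    infer_instance
  exact mono_of_mono (sig f c M) (tensorMap ι (𝟙 (Twist.twist 𝒜 (c + 1))))

lemma sub_H0_twist_add [IsDomain A] (hU : HU 𝒜) (f : 𝒜 1) (hf : (f : A) ≠ 0)
    (M : (Proj 𝒜).Modules) (ι : M ⟶ Coh.structureModule (Proj 𝒜)) (hι : Mono ι) (d : ℤ) :
    ∀ t : ℕ, Subsingleton (Coh.HH (Proj 𝒜) (CohB1.tensorMod M (Twist.twist 𝒜 (d + t))) 0) →
      Subsingleton (Coh.HH (Proj 𝒜) (CohB1.tensorMod M (Twist.twist 𝒜 d)) 0) := by
  intro t
  induction t with
  | zero =>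
    intro h
    have e : d + ((0 : ℕ) : ℤ) = d := by simp
    rw [e] at h
    exact h
  | succ t ih =>
    intro h
    apply ih
    haveI := mono_sig hU f hf (d + t) M ι
    have e : d + ((t + 1 : ℕ) : ℤ) = d + t + 1 := by push_cast; ring
    rw [e] at h
    exact sub_H0_of_mono (sig f (d + t) M) h

end Proj

section PnField

variable (n : ℕ) (k : Type u) [Field k]

lemma sub_H0_twist_iff (hn : 1 ≤ n) (d : ℤ) :
    Subsingleton (Coh.HH (CohB1.ProjSpace n k) (Twist.twistProjSpace n k d) 0) ↔ d < 0 := by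
  constructor
  · intro h
    by_contra hd
    push Not at hd
    obtain ⟨e, rfl⟩ := Int.eq_ofNat_of_zero_le hd
    obtain ⟨φ⟩ := Groth.Agent.S0843.result k n e
    haveI := h
    haveI : Subsingleton ↥(MvPolynomial.homogeneousSubmodule (Fin (n + 1)) k e) :=
      φ.symm.toEquiv.subsingleton
    have hmem : (MvPolynomial.X 0 : MvPolynomial (Fin (n + 1)) k) ^ e ∈
        MvPolynomial.homogeneousSubmodule (Fin (n + 1)) k e := by
      have := (MvPolynomial.isHomogeneous_X k (0 : Fin (n + 1))).pow e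
      simpa using this
    have h0 := Subsingleton.elim
      (⟨_, hmem⟩ : ↥(MvPolynomial.homogeneousSubmodule (Fin (n + 1)) k e)) 0
    have h1 : (MvPolynomial.X 0 : MvPolynomial (Fin (n + 1)) k) ^ e = 0 :=
      congrArg Subtype.val h0
    exact pow_ne_zero e (MvPolynomial.X_ne_zero _) h1
  · intro hd
    exact Groth.Agent.S0844.result k n d 0 (fun h => by omega) (fun h => by omega)

/-- on `P^n_k`: `H^0(M(d')) = 0` and `d ≤ d'` imply `H^0(M(d)) = 0`, for `M ↪ O`. -/
lemma sub_H0_twist_le (M : (CohB1.ProjSpace n k).Modules)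
    (ι : M ⟶ Coh.structureModule (CohB1.ProjSpace n k)) [Mono ι] (d d' : ℤ) (hd : d ≤ d')
    (h : Subsingleton (Coh.HH (CohB1.ProjSpace n k)
      (CohB1.tensorMod M (Twist.twistProjSpace n k d')) 0)) :
    Subsingleton (Coh.HH (CohB1.ProjSpace n k)
      (CohB1.tensorMod M (Twist.twistProjSpace n k d)) 0) := by
  obtain ⟨t, rfl⟩ : ∃ t : ℕ, d' = d + t := ⟨(d' - d).toNat, by omega⟩
  have hf : ((Mumford.fs n k 0 : (CohB1.polyGrading n k) 1) : MvPolynomial (Fin (n + 1)) k) ≠ 0 := by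
    unfold Mumford.fs
    rw [dif_pos (Nat.succ_pos n)]
    exact MvPolynomial.X_ne_zero _
  exact sub_H0_twist_add (Mumford.hU n k) (Mumford.fs n k 0) hf M ι ‹Mono ι› d t h

end PnField

end Groth.Agent.Lib.Helper7.TwistH0
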