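import Mathlib
import Groth.Prelude
import Groth.Agent.Lib.Helper7.PnExtA
import Groth.Agent.Lib.Helper7.TwistH0

/-!
# `Ext^i(F, ω) ≃ₗ H^{n-i}(F)^∨` on `P^n_k` (existence of a linear isomorphism)

By dimension counting along a presentation `0 → K → E → F → 0` with `E` a sum of negative twists,
starting from the explicit duality `Hom(F, ω) ≃ H^n(F)^∨`.
-/
set_option autoImplicit false
universe w v' u' u
open CategoryTheory CategoryTheory.Limits AlgebraicGeometry TopologicalSpace Opposite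
open Scheme.Modules

noncomputable section

namespace Groth.Agent.Lib.Helper7.PnExt

open Groth.Agent.Lib.Helper3 Groth.Agent.Lib.Helper3.QCSec Groth.Agent.Lib.Helper3.InvGen
  Groth.Agent.Lib.Helper3.InvTensor Groth.Agent.Lib.Helper3.InvMonoidal
  Groth.Agent.Lib.Helper3.TwistBasic Groth.Agent.Lib.Helper3.TwistMul
  Groth.Agent.Lib.Helper7.TwFun Groth.Agent.Lib.Helper7.TwProj Groth.Agent.Lib.Helper7.MulSurj
  Groth.Agent.Lib.Helper7.RegRes Groth.Agent.Lib.Helper7.CohFinite
  Groth.Agent.Lib.Helper7.PnDual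
  Groth.Agent.Lib.Helper13 Groth.Agent.Lib.Helper13.SerreCrit1

section LinAlg

variable {K A B C D : Type*} [Field K] [AddCommGroup A] [Module K A] [AddCommGroup B]
  [Module K B] [AddCommGroup C] [Module K C] [AddCommGroup D] [Module K D]

/-- dimensions in a four term exact sequence `0 → A → B → C → D → 0`. -/
lemma finrank_four_term [Module.Finite K B] [Module.Finite K C]
    (a : A →ₗ[K] B) (b : B →ₗ[K] C) (c : C →ₗ[K] D)
    (ha : Function.Injective a) (hab : ∀ y, b y = 0 ↔ ∃ x, a x = y)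
    (hbc : ∀ z, c z = 0 ↔ ∃ y, b y = z) (hc : Function.Surjective c) :
    Module.Finite K D ∧
      Module.finrank K A + Module.finrank K C = Module.finrank K B + Module.finrank K D := by
  haveI : Module.Finite K D := Module.Finite.of_surjective c hc
  refine ⟨inferInstance, ?_⟩
  have h1 : Module.finrank K (LinearMap.range a) = Module.finrank K A :=
    LinearMap.finrank_range_of_inj ha
  have hkb : LinearMap.ker b = LinearMap.range a := by
    ext y
    rw [LinearMap.mem_ker, LinearMap.mem_range]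
    exact hab y
  have hkc : LinearMap.ker c = LinearMap.range b := by
    ext z
    rw [LinearMap.mem_ker, LinearMap.mem_range]
    exact hbc z
  have h2 := LinearMap.finrank_range_add_finrank_ker b
  have h3 := LinearMap.finrank_range_add_finrank_ker c
  have h4 : Module.finrank K (LinearMap.range c) = Module.finrank K D := by
    rw [LinearMap.range_eq_top.mpr hc, finrank_top]
  rw [hkb, h1] at h2
  rw [hkc, h4] at h3
  omega

lemma finite_finrank_of_bijective [Module.Finite K A] (f : A →ₗ[K] B)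
    (hf : Function.Bijective f) :
    Module.Finite K B ∧ Module.finrank K B = Module.finrank K A := by
  let e := LinearEquiv.ofBijective f hf
  exact ⟨Module.Finite.equiv e, e.finrank_eq.symm⟩

end LinAlg

section General

variable {X : Scheme.{u}}

lemma H0_inj {A B : X.Modules} (φ : A ⟶ B) [Mono φ] (x : Coh.HH X A 0)
    (hx : Hm φ 0 x = 0) : x = 0 := by
  have hT : IsTerminal (⊤ : X.Opens) := isTerminalTop
  have hinj := (QCProps.mono_iff_app_injective φ).mp inferInstance ⊤
  have h2 := Sheaf.H.equiv₀_naturality hT ((TT X).map φ) x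
  have h3 : Sheaf.H.map ((TT X).map φ) 0 x = 0 := hx
  rw [h3, map_zero] at h2
  have h4 : φ.app ⊤ (Sheaf.H.equiv₀ (Coh.toAb A) hT x) = φ.app ⊤ 0 :=
    h2.trans (QCExact.app_zero φ ⊤).symm
  have h5 := hinj h4
  exact (Sheaf.H.equiv₀ (Coh.toAb A) hT).injective (h5.trans (map_zero _).symm)

variable (A : Type u) [CommRing A] [X.Over (Spec (CommRingCat.of A))]

lemma Hm_smulMod (M : X.Modules) (a : A) (j : ℕ) (x : Coh.HH X M j) :
    Hm (Formal.smulMod A M a) j x = a • x := rfl

lemma Hm_smul {M N : X.Modules} (a : A) (φ : M ⟶ N) (j : ℕ) (x : Coh.HH X M j) :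
    Hm (a • φ) j x = a • Hm φ j x := by
  rw [KLin.smul_def, Hm_comp, Hm_smulMod]
  exact (HmapL A φ j).map_smul a x

end General

section Pn

variable (n : ℕ) (k : Type u) [Field k]

/-- `φ ↦ tr ∘ H^n(φ)`, as a linear map. -/
def PhiL (F : (CohB1.ProjSpace n k).Modules) :
    (F ⟶ omega n k) →ₗ[k] Module.Dual k (Coh.HH (CohB1.ProjSpace n k) F n) where
  toFun φ := (tr n k).comp (HmapL k φ n)
  map_add' φ ψ := by
    ext x
    change tr n k (Hm (φ + ψ) n x) = tr n k (Hm φ n x) + tr n k (Hm ψ n x)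
    rw [Hm_add, map_add]
  map_smul' a φ := by
    ext x
    change tr n k (Hm (a • φ) n x) = a • tr n k (Hm φ n x)
    rw [Hm_smul]
    exact (tr n k).map_smul a _

lemma PhiL_apply (F : (CohB1.ProjSpace n k).Modules) (φ : F ⟶ omega n k)
    (x : Coh.HH (CohB1.ProjSpace n k) F n) : PhiL n k F φ x = tr n k (Hm φ n x) := rfl

lemma PhiL_bijective (F : (CohB1.ProjSpace n k).Modules) (hD : IsDual n k F) :
    Function.Bijective (PhiL n k F) := by
  constructor
  · rw [← LinearMap.ker_eq_bot, LinearMap.ker_eq_bot']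
    intro φ hφ
    exact hD.2 φ (fun x => by
      rw [← PhiL_apply, hφ]
      rfl)
  · intro ψ
    obtain ⟨φ, hφ⟩ := hD.1 ψ
    refine ⟨φ, ?_⟩
    ext x
    rw [PhiL_apply, hφ x]

variable [HasExt.{u} (CohB1.ProjSpace n k).Modules]

theorem ext_zero_equiv (F : (CohB1.ProjSpace n k).Modules) (hD : IsDual n k F) :
    Nonempty (Abelian.Ext F (omega n k) 0 ≃ₗ[k]
      Module.Dual k (Coh.HH (CohB1.ProjSpace n k) F n)) :=
  ⟨(Abelian.Ext.linearEquiv₀ (R := k)).trans
    (LinearEquiv.ofBijective (PhiL n k F) (PhiL_bijective n k F hD))⟩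

lemma ext_zero_finite (F : (CohB1.ProjSpace n k).Modules) (hF : Coh.IsCoh F) :
    Module.Finite k (Abelian.Ext F (omega n k) 0) ∧
      Module.finrank k (Abelian.Ext F (omega n k) 0) =
        Module.finrank k (Coh.HH (CohB1.ProjSpace n k) F n) := by
  obtain ⟨e⟩ := ext_zero_equiv n k F (isDual_of_isCoh n k F hF)
  haveI : Module.Finite k (Coh.HH (CohB1.ProjSpace n k) F n) :=
    PnFinite.finite_HH n k 1 n rfl F hF
  exact ⟨Module.Finite.equiv e.symm, e.finrank_eq.trans Subspace.dual_finrank_eq⟩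

/-- the statement: `Ext^i(F, ω)` is finite dimensional of dimension `h^{n-i}(F)`. -/
def QQ (i : ℕ) : Prop :=
  ∀ F : (CohB1.ProjSpace n k).Modules, Coh.IsCoh F →
    (Module.Finite k (Abelian.Ext F (omega n k) i) ∧
      Module.finrank k (Abelian.Ext F (omega n k) i) =
        Module.finrank k (Coh.HH (CohB1.ProjSpace n k) F (n - i)))

theorem qq_zero : QQ n k 0 := fun F hF => ext_zero_finite n k F hF

/-- the four term sequence for `Ext(-, Y)`. -/
lemma ext_four_term {K E F : (CohB1.ProjSpace n k).Modules} (ι : K ⟶ E) (π : E ⟶ F)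
    (w : ι ≫ π = 0) (hS : (ShortComplex.mk ι π w).ShortExact) (Y : (CohB1.ProjSpace n k).Modules)
    (hE : Subsingleton (Abelian.Ext E Y 1))
    [Module.Finite k (Abelian.Ext E Y 0)] [Module.Finite k (Abelian.Ext K Y 0)] :
    Module.Finite k (Abelian.Ext F Y 1) ∧
      Module.finrank k (Abelian.Ext F Y 0) + Module.finrank k (Abelian.Ext K Y 0) =
        Module.finrank k (Abelian.Ext E Y 0) + Module.finrank k (Abelian.Ext F Y 1) := by
  haveI : Epi π := hS.epi_g
  have h10 : 1 + 0 = 1 := rfl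
  refine finrank_four_term
    ((Abelian.Ext.mk₀ π).precompOfLinear k Y (zero_add 0))
    ((Abelian.Ext.mk₀ ι).precompOfLinear k Y (zero_add 0))
    (hS.extClass.precompOfLinear k Y h10) ?_ ?_ ?_ ?_
  · intro x y hxy
    exact Abelian.Ext.precomp_mk₀_injective_of_epi Y π hxy
  · intro y
    constructor
    · intro hy
      exact Abelian.Ext.contravariant_sequence_exact₂ hS Y y hy
    · rintro ⟨x, rfl⟩
      change (Abelian.Ext.mk₀ ι).comp ((Abelian.Ext.mk₀ π).comp x (zero_add 0)) (zero_add 0) = 0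
      rw [Abelian.Ext.mk₀_comp_mk₀_assoc, w, Abelian.Ext.mk₀_zero, Abelian.Ext.zero_comp]
  · intro z
    constructor
    · intro hz
      exact Abelian.Ext.contravariant_sequence_exact₁ hS Y z h10 hz
    · rintro ⟨y, rfl⟩
      exact hS.extClass_comp_assoc (h := h10) y
  · intro x₃
    exact Abelian.Ext.contravariant_sequence_exact₃ hS Y x₃ (@Subsingleton.elim _ hE _ _) h10

/-- the four term sequence in cohomology. -/
lemma HH_four_term {K E F : (CohB1.ProjSpace n k).Modules} (ι : K ⟶ E) (π : E ⟶ F)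
    (w : ι ≫ π = 0) (hS : (ShortComplex.mk ι π w).ShortExact) (q m : ℕ) (hm : q + 1 = m)
    (hE : Subsingleton (Coh.HH (CohB1.ProjSpace n k) E q))
    (hK : Subsingleton (Coh.HH (CohB1.ProjSpace n k) K (m + 1)))
    [Module.Finite k (Coh.HH (CohB1.ProjSpace n k) K m)]
    [Module.Finite k (Coh.HH (CohB1.ProjSpace n k) E m)] :
    Module.finrank k (Coh.HH (CohB1.ProjSpace n k) F q) +
        Module.finrank k (Coh.HH (CohB1.ProjSpace n k) E m) =
      Module.finrank k (Coh.HH (CohB1.ProjSpace n k) K m) +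
        Module.finrank k (Coh.HH (CohB1.ProjSpace n k) F m) := by
  subst hm
  have hS' := shortExact_map_toSheaf (ShortComplex.mk ι π w) hS
  refine (finrank_four_term
    (deltaL k (ShortComplex.mk ι π w) hS q)
    (HmapL k ι (q + 1)) (HmapL k π (q + 1)) ?_ ?_ ?_ ?_).2
  · rw [← LinearMap.ker_eq_bot, LinearMap.ker_eq_bot']
    intro x hx
    obtain ⟨y, hy⟩ := exact_right k (ShortComplex.mk ι π w) hS q x hx
    rw [← hy, @Subsingleton.elim _ hE y 0, map_zero]
  · intro y
    constructor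
    · intro hy
      exact Abelian.Ext.covariant_sequence_exact₁ _ hS' y hy rfl
    · rintro ⟨x, rfl⟩
      exact (Abelian.Ext.comp_assoc_of_third_deg_zero x hS'.extClass
        (Abelian.Ext.mk₀ ((ShortComplex.mk ι π w).map (TT (CohB1.ProjSpace n k))).f) rfl).trans
        ((congrArg (fun z => x.comp z rfl) hS'.extClass_comp).trans
          (Abelian.Ext.comp_zero _ _ _ _ _))
  · intro z
    constructor
    · intro hz
      exact exact_mid k (ShortComplex.mk ι π w) hS (q + 1) z hz
    · rintro ⟨y, rfl⟩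
      change Hm π (q + 1) (Hm ι (q + 1) y) = 0
      rw [← Hm_comp, w, Hm_zero]
  · intro x
    have hx : deltaL k (ShortComplex.mk ι π w) hS (q + 1) x = 0 := @Subsingleton.elim _ hK _ _
    exact exact_right k (ShortComplex.mk ι π w) hS (q + 1) x hx

/-- the connecting map `H^q(F) → H^{q+1}(K)` is bijective when `H^q(E) = H^{q+1}(E) = 0`. -/
lemma HH_delta_finrank {K E F : (CohB1.ProjSpace n k).Modules} (ι : K ⟶ E) (π : E ⟶ F)
    (w : ι ≫ π = 0) (hS : (ShortComplex.mk ι π w).ShortExact) (q m : ℕ) (hm : q + 1 = m)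
    (hEq : Subsingleton (Coh.HH (CohB1.ProjSpace n k) E q))
    (hEm : Subsingleton (Coh.HH (CohB1.ProjSpace n k) E m))
    [Module.Finite k (Coh.HH (CohB1.ProjSpace n k) F q)] :
    Module.finrank k (Coh.HH (CohB1.ProjSpace n k) K m) =
      Module.finrank k (Coh.HH (CohB1.ProjSpace n k) F q) := by
  subst hm
  have hS' := shortExact_map_toSheaf (ShortComplex.mk ι π w) hS
  have hb : Function.Bijective (deltaL k (ShortComplex.mk ι π w) hS q) := by
    constructor
    · rw [← LinearMap.ker_eq_bot, LinearMap.ker_eq_bot']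
      intro x hx
      obtain ⟨y, hy⟩ := exact_right k (ShortComplex.mk ι π w) hS q x hx
      rw [← hy, @Subsingleton.elim _ hEq y 0, map_zero]
    · intro y
      exact Abelian.Ext.covariant_sequence_exact₁ _ hS' y (@Subsingleton.elim _ hEm _ _) rfl
  exact (finite_finrank_of_bijective _ hb).2

theorem qq_one (hn : 1 ≤ n) : QQ n k 1 := by
  intro F hF
  obtain ⟨E, K, ι, π, w, hS, hE, hK, hDE, hExt, hHH⟩ := exists_pres n k F hF
  obtain ⟨fE, eE⟩ := ext_zero_finite n k E hE
  obtain ⟨fK, eK⟩ := ext_zero_finite n k K hK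
  obtain ⟨fF, eF⟩ := ext_zero_finite n k F hF
  haveI := fE
  haveI := fK
  obtain ⟨fin1, h4⟩ := ext_four_term n k ι π w hS (omega n k) (hExt 1 le_rfl)
  haveI : Module.Finite k (Coh.HH (CohB1.ProjSpace n k) K n) :=
    PnFinite.finite_HH n k 1 n rfl K hK
  haveI : Module.Finite k (Coh.HH (CohB1.ProjSpace n k) E n) :=
    PnFinite.finite_HH n k 1 n rfl E hE
  have hKv : Subsingleton (Coh.HH (CohB1.ProjSpace n k) K (n + 1)) :=
    @Mumford.hvan n k _ K hK.1 (n + 1) (by omega)
  have h5 := HH_four_term n k ι π w hS (n - 1) n (by omega) (hHH (n - 1) (by omega)) hKv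
  refine ⟨fin1, ?_⟩
  omega

theorem qq_succ (i : ℕ) (hi : 1 ≤ i) (hin : i + 1 ≤ n) (h : QQ n k i) : QQ n k (i + 1) := by
  intro F hF
  obtain ⟨E, K, ι, π, w, hS, hE, hK, hDE, hExt, hHH⟩ := exists_pres n k F hF
  obtain ⟨fK, eK⟩ := h K hK
  haveI := fK
  have h1i : 1 + i = i + 1 := by omega
  have hb : Function.Bijective (hS.extClass.precompOfLinear k (omega n k) h1i) := by
    constructor
    · rw [← LinearMap.ker_eq_bot, LinearMap.ker_eq_bot']
      intro x₁ hx₁
      obtain ⟨x₂, hx₂⟩ := Abelian.Ext.contravariant_sequence_exact₁ hS (omega n k) x₁ h1i hx₁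
      rw [← hx₂, @Subsingleton.elim _ (hExt i hi) x₂ 0, Abelian.Ext.comp_zero]
    · intro x₃
      exact Abelian.Ext.contravariant_sequence_exact₃ hS (omega n k) x₃
        (@Subsingleton.elim _ (hExt (i + 1) (by omega)) _ _) h1i
  obtain ⟨fin1, e1⟩ := finite_finrank_of_bijective _ hb
  haveI : Module.Finite k (Coh.HH (CohB1.ProjSpace n k) F (n - (i + 1))) :=
    PnFinite.finite_HH n k (i + 2) (n - (i + 1)) (by omega) F hF
  have e2 := HH_delta_finrank n k ι π w hS (n - (i + 1)) (n - i) (by omega)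
    (hHH _ (by omega)) (hHH _ (by omega))
  exact ⟨fin1, e1.trans (eK.trans e2)⟩

theorem qq_all : ∀ i : ℕ, i ≤ n → QQ n k i
  | 0, _ => qq_zero n k
  | 1, h => qq_one n k h
  | i + 2, h => qq_succ n k (i + 1) (by omega) h (qq_all (i + 1) (by omega))

/-- **Serre duality on `P^n_k`**: `Ext^i(F, ω) ≃ₗ H^{n-i}(F)^∨` for coherent `F`, `i ≤ n`. -/
theorem ext_linearEquiv (i : ℕ) (hi : i ≤ n) (F : (CohB1.ProjSpace n k).Modules)
    (hF : Coh.IsCoh F) :
    Nonempty (Abelian.Ext F (omega n k) i ≃ₗ[k]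
      Module.Dual k (Coh.HH (CohB1.ProjSpace n k) F (n - i))) := by
  obtain ⟨fin1, e1⟩ := qq_all n k i hi F hF
  haveI := fin1
  haveI : Module.Finite k (Coh.HH (CohB1.ProjSpace n k) F (n - i)) :=
    PnFinite.finite_HH n k (i + 1) (n - i) (by omega) F hF
  exact FiniteDimensional.nonempty_linearEquiv_of_finrank_eq
    (e1.trans Subspace.dual_finrank_eq.symm)

/-- `Ext^i(F, ω) = 0` for all coherent `F`. -/
def VV (i : ℕ) : Prop :=
  ∀ F : (CohB1.ProjSpace n k).Modules, Coh.IsCoh F → Subsingleton (Abelian.Ext F (omega n k) i)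

theorem vv_base : VV n k (n + 1) := by
  intro F hF
  obtain ⟨E, K, ι, π, w, hS, hE, hK, hDE, hExt, hHH⟩ := exists_pres n k F hF
  haveI : Mono ι := hS.mono_f
  rcases Nat.eq_zero_or_pos n with h0 | hpos
  · subst h0
    have hDK := isDual_of_isCoh 0 k K hK
    rw [ext_one_iff (ShortComplex.mk ι π w) hS (omega 0 k) (hExt 1 le_rfl)]
    exact (lift_iff 0 k ι hDK hDE).mpr (fun x hx => H0_inj ι x hx)
  · rw [ext_shift (ShortComplex.mk ι π w) hS (omega n k) n (hExt n hpos) (hExt (n + 1) (by omega))]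
    rw [pp_all n k n le_rfl K hK, Nat.sub_self]
    exact TwistH0.sub_H0_of_mono ι (hHH 0 hpos)

theorem vv_succ (i : ℕ) (hi : 1 ≤ i) (h : VV n k i) : VV n k (i + 1) := by
  intro F hF
  obtain ⟨E, K, ι, π, w, hS, hE, hK, hDE, hExt, hHH⟩ := exists_pres n k F hF
  rw [ext_shift (ShortComplex.mk ι π w) hS (omega n k) i (hExt i hi) (hExt (i + 1) (by omega))]
  exact h K hK

theorem vv_all (i : ℕ) (hi : n < i) : VV n k i := by
  obtain ⟨t, rfl⟩ : ∃ t : ℕ, i = n + 1 + t := ⟨i - (n + 1), by omega⟩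
  induction t with
  | zero => exact vv_base n k
  | succ t ih => exact vv_succ n k (n + 1 + t) (by omega) (ih (by omega))

end Pn

end Groth.Agent.Lib.Helper7.PnExt
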