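import Mathlib
import Groth.Prelude
import Groth.Agent.Lib.Helper7.LocFreePn
import Groth.Agent.Lib.Helper7.PnExtB
import Groth.Agent.Lib.Helper7.CechCard
import Groth.Agent.Lib.Helper7.MumLem
import Groth.Agent.Lib.Helper3.IdealMod
import Groth.Agent.S0845

/-!
# Cohomology of the twists of the structure sheaf of a hypersurface in `P^N_K`

* `epi_toSubscheme`, `isCoh_quotMod`: `O_X → i_* O_Z` is an epimorphism; `i_* O_Z` is coherent.
* `finrank_three_term`, `finrank_five_term`: dimension counts in exact sequences.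
* `HmapL_g_f`, `deltaL_g`, `f_deltaL`, `exact_left`: the remaining parts of the long exact
  cohomology sequence (see `CohFinite`).
* `finrank_H0_twist`, `finrank_Htop_twist`: `h^0(O(m))`, `h^N(O(m))` on `P^N_K`.
* `Hm_top_surjective`: a criterion for surjectivity of `H^N(f)` by Serre duality.
* `exists_ses`: the sequence `0 → O(n-k) → O(n) → O_X(n) → 0` for a hypersurface of degree `k`.
* `sub_ge`, `sub_mid_range`, `finrank_H0_FF`, `finrank_Hd_FF`, `finrank_H0_FF_one`: the cohomology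
  of `O_X(n)`.
-/
set_option autoImplicit false
universe u
open CategoryTheory CategoryTheory.Limits AlgebraicGeometry TopologicalSpace Opposite
open Scheme.Modules

noncomputable section

namespace Groth.Agent.Lib.Helper7.Hypersurf

open Groth.Agent.Lib.Helper3 Groth.Agent.Lib.Helper3.QCSec Groth.Agent.Lib.Helper3.InvGen
  Groth.Agent.Lib.Helper3.InvTensor Groth.Agent.Lib.Helper3.InvMonoidal
  Groth.Agent.Lib.Helper3.TwistBasic Groth.Agent.Lib.Helper3.TwistMul
  Groth.Agent.Lib.Helper7.TwFun Groth.Agent.Lib.Helper7.TwProj Groth.Agent.Lib.Helper7.MulSurj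
  Groth.Agent.Lib.Helper7.RegRes Groth.Agent.Lib.Helper7.CohFinite
  Groth.Agent.Lib.Helper7.PnDual Groth.Agent.Lib.Helper7.PnExt
  Groth.Agent.Lib.Helper13 Groth.Agent.Lib.Helper13.SerreCrit1
  Groth.Agent.Lib.Helper7.Horrocks Groth.Agent.Lib.Helper7.TorsFree
  Groth.Agent.Lib.Helper7.LocFreePn

section LinAlg

variable {K A0 A1 A2 A3 A4 : Type*} [Field K] [AddCommGroup A0] [Module K A0] [AddCommGroup A1]
  [Module K A1] [AddCommGroup A2] [Module K A2] [AddCommGroup A3] [Module K A3]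
  [AddCommGroup A4] [Module K A4]

/-- dimensions in a short exact sequence `0 → A0 → A1 → A2 → 0`. -/
lemma finrank_three_term [Module.Finite K A1] (a : A0 →ₗ[K] A1) (b : A1 →ₗ[K] A2)
    (ha : Function.Injective a) (hab : ∀ y, b y = 0 ↔ ∃ x, a x = y)
    (hb : Function.Surjective b) :
    Module.finrank K A0 + Module.finrank K A2 = Module.finrank K A1 := by
  have h1 : Module.finrank K (LinearMap.range a) = Module.finrank K A0 :=
    LinearMap.finrank_range_of_inj ha
  have hkb : LinearMap.ker b = LinearMap.range a := by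
    ext y
    rw [LinearMap.mem_ker, LinearMap.mem_range]
    exact hab y
  have h2 := LinearMap.finrank_range_add_finrank_ker b
  have h4 : Module.finrank K (LinearMap.range b) = Module.finrank K A2 := by
    rw [LinearMap.range_eq_top.mpr hb, finrank_top]
  rw [hkb, h1, h4] at h2
  omega

/-- dimensions in an exact sequence `0 → A0 → A1 → A2 → A3 → A4 → 0`. -/
lemma finrank_five_term [Module.Finite K A1] [Module.Finite K A2] [Module.Finite K A3]
    (f0 : A0 →ₗ[K] A1) (f1 : A1 →ₗ[K] A2) (f2 : A2 →ₗ[K] A3) (f3 : A3 →ₗ[K] A4)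
    (h0 : Function.Injective f0) (h01 : ∀ y, f1 y = 0 ↔ ∃ x, f0 x = y)
    (h12 : ∀ y, f2 y = 0 ↔ ∃ x, f1 x = y) (h23 : ∀ y, f3 y = 0 ↔ ∃ x, f2 x = y)
    (h3 : Function.Surjective f3) :
    Module.finrank K A0 + Module.finrank K A2 + Module.finrank K A4 =
      Module.finrank K A1 + Module.finrank K A3 := by
  have e0 : Module.finrank K (LinearMap.range f0) = Module.finrank K A0 :=
    LinearMap.finrank_range_of_inj h0
  have k1 : LinearMap.ker f1 = LinearMap.range f0 := by
    ext y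
    rw [LinearMap.mem_ker, LinearMap.mem_range]
    exact h01 y
  have k2 : LinearMap.ker f2 = LinearMap.range f1 := by
    ext y
    rw [LinearMap.mem_ker, LinearMap.mem_range]
    exact h12 y
  have k3 : LinearMap.ker f3 = LinearMap.range f2 := by
    ext y
    rw [LinearMap.mem_ker, LinearMap.mem_range]
    exact h23 y
  have r1 := LinearMap.finrank_range_add_finrank_ker f1
  have r2 := LinearMap.finrank_range_add_finrank_ker f2
  have r3 := LinearMap.finrank_range_add_finrank_ker f3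
  have e4 : Module.finrank K (LinearMap.range f3) = Module.finrank K A4 := by
    rw [LinearMap.range_eq_top.mpr h3, finrank_top]
  rw [k1, e0] at r1
  rw [k2] at r2
  rw [k3, e4] at r3
  omega

end LinAlg

section Abstract

variable {C : Type*} [Category C] [Abelian C]

/-- transport a short exact sequence along isomorphisms of the first two terms. -/
lemma ses_transport {A B Q A' B' : C} (κ : A ⟶ B) (p : B ⟶ Q) (w : κ ≫ p = 0)
    (hS : (ShortComplex.mk κ p w).ShortExact) (e₁ : A ≅ A') (e₂ : B ≅ B') :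
    ∃ w' : (e₁.inv ≫ κ ≫ e₂.hom) ≫ (e₂.inv ≫ p) = 0,
      (ShortComplex.mk (e₁.inv ≫ κ ≫ e₂.hom) (e₂.inv ≫ p) w').ShortExact := by
  have w' : (e₁.inv ≫ κ ≫ e₂.hom) ≫ (e₂.inv ≫ p) = 0 := by
    simp [w]
  refine ⟨w', ShortComplex.shortExact_of_iso
    (ShortComplex.isoMk (S₁ := ShortComplex.mk κ p w)
      (S₂ := ShortComplex.mk (e₁.inv ≫ κ ≫ e₂.hom) (e₂.inv ≫ p) w') e₁ e₂ (Iso.refl _)
      (by simp) (by simp)) hS⟩

end Abstract

section Gen

variable {X : Scheme.{u}}

theorem epi_toSubscheme (I : X.IdealSheafData) : Epi (ClSub.toSubscheme I) := by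
  apply ModBasis.epi_of_surjective_on_basis
  intro W x hx
  obtain ⟨V, hV, hxV, hVW⟩ := (Opens.isBasis_iff_nbhd.mp X.isBasis_affineOpens) hx
  refine ⟨V, hxV, hVW, ?_⟩
  intro y
  obtain ⟨g, hg⟩ := I.subschemeι_app_surjective ⟨V, hV⟩ y
  exact ⟨ofFun V g, hg⟩

theorem isCoh_quotMod (I : X.IdealSheafData) : Coh.IsCoh (ClSub.quotMod I) := by
  haveI := epi_toSubscheme I
  exact ⟨IdealMod.isQuasicoherent_quotMod I, QCProps.isFiniteType_of_epi (ClSub.toSubscheme I)⟩

lemma subsingleton_HH_of_isZero (M : X.Modules) (h : IsZero M) (j : ℕ) :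
    Subsingleton (Coh.HH X M j) := by
  refine subsingleton_of_forall_eq 0 fun x => ?_
  have h1 : Hm (𝟙 M) j x = x := Hm_id M j x
  rw [← h1, (IsZero.iff_id_eq_zero M).mp h, Hm_zero]

variable (A : Type u) [CommRing A] [X.Over (Spec (CommRingCat.of A))]
  (S : ShortComplex X.Modules) (hS : S.ShortExact)

lemma HmapL_g_f (n : ℕ) (x : Coh.HH X S.X₁ n) : HmapL A S.g n (HmapL A S.f n x) = 0 := by
  change Hm S.g n (Hm S.f n x) = 0
  rw [← Hm_comp, S.zero, Hm_zero]

lemma deltaL_g (n : ℕ) (x : Coh.HH X S.X₂ n) : deltaL A S hS n (HmapL A S.g n x) = 0 :=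
  (Abelian.Ext.comp_assoc_of_second_deg_zero x (Abelian.Ext.mk₀ (S.map (TT X)).g)
    (shortExact_map_toSheaf S hS).extClass rfl).trans
    ((congrArg (fun z => x.comp z rfl) (shortExact_map_toSheaf S hS).comp_extClass).trans
      (Abelian.Ext.comp_zero _ _ _ _ _))

lemma f_deltaL (n : ℕ) (x : Coh.HH X S.X₃ n) :
    HmapL A S.f (n + 1) (deltaL A S hS n x) = 0 :=
  (Abelian.Ext.comp_assoc_of_third_deg_zero x (shortExact_map_toSheaf S hS).extClass
    (Abelian.Ext.mk₀ (S.map (TT X)).f) rfl).trans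
    ((congrArg (fun z => x.comp z rfl) (shortExact_map_toSheaf S hS).extClass_comp).trans
      (Abelian.Ext.comp_zero _ _ _ _ _))

lemma exact_left (n : ℕ) (y : Coh.HH X S.X₁ (n + 1)) (hy : HmapL A S.f (n + 1) y = 0) :
    ∃ x, deltaL A S hS n x = y :=
  Abelian.Ext.covariant_sequence_exact₁ _ (shortExact_map_toSheaf S hS) y hy rfl

end Gen

section Count

variable {X : Scheme.{u}} (K : Type u) [Field K] [X.Over (Spec (CommRingCat.of K))]
  (S : ShortComplex X.Modules) (hS : S.ShortExact)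

include hS in
/-- `0 → H^0(X₁) → H^0(X₂) → H^0(X₃) → 0` when `H^1(X₁) = 0`. -/
lemma finrank_H0_ses [Module.Finite K (Coh.HH X S.X₂ 0)]
    (h1 : Subsingleton (Coh.HH X S.X₁ (0 + 1))) :
    Module.finrank K (Coh.HH X S.X₁ 0) + Module.finrank K (Coh.HH X S.X₃ 0) =
      Module.finrank K (Coh.HH X S.X₂ 0) := by
  haveI : Mono S.f := hS.mono_f
  refine finrank_three_term (HmapL K S.f 0) (HmapL K S.g 0) ?_ ?_ ?_
  · rw [injective_iff_map_eq_zero]
    intro x hx
    exact H0_inj S.f x hx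
  · intro y
    exact ⟨fun hy => exact_mid K S hS 0 y hy, fun ⟨x, hx⟩ => by
      rw [← hx]
      exact HmapL_g_f K S 0 x⟩
  · intro z
    exact exact_right K S hS 0 z (@Subsingleton.elim _ h1 _ _)

include hS in
/-- the count for `H^0`, `H^1` when `H^1(X₃) = 0`. -/
lemma finrank_H01_ses [Module.Finite K (Coh.HH X S.X₂ 0)] [Module.Finite K (Coh.HH X S.X₃ 0)]
    [Module.Finite K (Coh.HH X S.X₁ (0 + 1))]
    (h : Subsingleton (Coh.HH X S.X₃ (0 + 1))) :
    Module.finrank K (Coh.HH X S.X₁ 0) + Module.finrank K (Coh.HH X S.X₃ 0) +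
        Module.finrank K (Coh.HH X S.X₂ (0 + 1)) =
      Module.finrank K (Coh.HH X S.X₂ 0) + Module.finrank K (Coh.HH X S.X₁ (0 + 1)) := by
  haveI : Mono S.f := hS.mono_f
  refine finrank_five_term (HmapL K S.f 0) (HmapL K S.g 0) (deltaL K S hS 0)
    (HmapL K S.f (0 + 1)) ?_ ?_ ?_ ?_ ?_
  · rw [injective_iff_map_eq_zero]
    intro x hx
    exact H0_inj S.f x hx
  · intro y
    exact ⟨fun hy => exact_mid K S hS 0 y hy, fun ⟨x, hx⟩ => by
      rw [← hx]
      exact HmapL_g_f K S 0 x⟩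
  · intro y
    exact ⟨fun hy => exact_right K S hS 0 y hy, fun ⟨x, hx⟩ => by
      rw [← hx]
      exact deltaL_g K S hS 0 x⟩
  · intro y
    exact ⟨fun hy => exact_left K S hS 0 y hy, fun ⟨x, hx⟩ => by
      rw [← hx]
      exact f_deltaL K S hS 0 x⟩
  · intro z
    exact exact_mid K S hS (0 + 1) z (@Subsingleton.elim _ h _ _)

include hS in
/-- `0 → H^q(X₃) → H^{q+1}(X₁) → H^{q+1}(X₂) → 0` when `H^q(X₂) = 0 = H^{q+1}(X₃)`. -/
lemma finrank_Hq_ses (q : ℕ) [Module.Finite K (Coh.HH X S.X₁ (q + 1))]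
    (h2 : Subsingleton (Coh.HH X S.X₂ q)) (h3 : Subsingleton (Coh.HH X S.X₃ (q + 1))) :
    Module.finrank K (Coh.HH X S.X₃ q) + Module.finrank K (Coh.HH X S.X₂ (q + 1)) =
      Module.finrank K (Coh.HH X S.X₁ (q + 1)) := by
  refine finrank_three_term (deltaL K S hS q) (HmapL K S.f (q + 1)) ?_ ?_ ?_
  · rw [injective_iff_map_eq_zero]
    intro x hx
    obtain ⟨y, hy⟩ := exact_right K S hS q x hx
    rw [← hy, @Subsingleton.elim _ h2 y 0, map_zero]
  · intro y
    exact ⟨fun hy => exact_left K S hS q y hy, fun ⟨x, hx⟩ => by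
      rw [← hx]
      exact f_deltaL K S hS q x⟩
  · intro z
    exact exact_mid K S hS (q + 1) z (@Subsingleton.elim _ h3 _ _)

end Count

section Pn

variable (N : ℕ) (K : Type u) [Field K]

lemma not_isZero_twist (m : ℤ) : ¬ IsZero (Twist.twistProjSpace N K m) := by
  intro h
  have h1 : IsZero ((twR (Twist.twistProjSpace N K (-m))).obj (Twist.twistProjSpace N K m)) :=
    Functor.map_isZero _ h
  have h2 := subsingleton_HH_of_isZero _ h1 0
  have h3 := nontrivial_H0 N K m (-m) (by omega)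
  exact (not_subsingleton_iff_nontrivial.mpr h3) h2

lemma rank_one_twist (m : ℤ) :
    FlatMod.IsFinLocFreeOfRank (X := Proj (CohB1.polyGrading N K)) 1
      (Twist.twist (CohB1.polyGrading N K) m) :=
  isFinLocFreeOfRank_one_of_isInvertible' (TwProj.isInvertible_twist (Mumford.hU N K) m)

/-- `H^N(f)` is surjective as soon as `Hom(G, ω) → Hom(G', ω)` is injective. -/
theorem Hm_top_surjective {G' G : (CohB1.ProjSpace N K).Modules} (hG' : Coh.IsCoh G')
    (hG : Coh.IsCoh G) (f : G' ⟶ G) (hf : ∀ φ : G ⟶ omega N K, f ≫ φ = 0 → φ = 0) :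
    Function.Surjective (HmapL K f N) := by
  have hD' := isDual_of_isCoh N K G' hG'
  have hD := isDual_of_isCoh N K G hG
  rw [← LinearMap.range_eq_top]
  by_contra hne
  obtain ⟨ψ, hψ0, hψ⟩ := Submodule.exists_le_ker_of_lt_top _ (lt_top_iff_ne_top.mpr hne)
  obtain ⟨φ, hφ⟩ := hD.1 ψ
  have h1 : f ≫ φ = 0 := hD'.2 (f ≫ φ) (fun y => by
    rw [Hm_comp, ← hφ]
    exact LinearMap.mem_ker.mp (hψ (LinearMap.mem_range.mpr ⟨y, rfl⟩)))
  have h2 : φ = 0 := hf φ h1
  apply hψ0
  ext x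
  rw [hφ x, h2, Hm_zero, map_zero]
  rfl

theorem Htop_surj_twist (a b : ℤ)
    (ι : Twist.twistProjSpace N K a ⟶ Twist.twistProjSpace N K b) [Mono ι] :
    Function.Surjective (HmapL K ι N) := by
  apply Hm_top_surjective N K (PnFinite.isCoh_twist N K a) (PnFinite.isCoh_twist N K b)
  intro φ hφ
  by_contra hne
  haveI hmono : Mono φ := mono_of_ne_zero (rank_one_twist N K b) (rank_one_twist N K _) φ hne
  have h1 : ι = 0 := (cancel_mono φ).mp (hφ.trans zero_comp.symm)
  exact not_isZero_twist N K a (IsZero.of_mono_eq_zero ι h1)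

theorem finrank_H0_twist (hN : 1 ≤ N) (m : ℤ) :
    Module.finrank K (Coh.HH (CohB1.ProjSpace N K) (Twist.twistProjSpace N K m) 0) =
      Nat.choose (m + (N : ℤ)).toNat N := by
  rcases lt_or_ge m 0 with hm | hm
  · haveI := Groth.Agent.S0844.result K N m 0 (by rintro ⟨-, h⟩; omega) (by rintro ⟨h, -⟩; omega)
    rw [Module.finrank_zero_of_subsingleton]
    exact (Nat.choose_eq_zero_of_lt (by omega)).symm
  · obtain ⟨d, rfl⟩ : ∃ d : ℕ, m = (d : ℤ) := ⟨m.toNat, by omega⟩
    obtain ⟨e⟩ := Groth.Agent.S0843.result K N d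
    rw [LinearEquiv.finrank_eq e, finrank_homog]
    congr 1

theorem finrank_Htop_twist (hN : 1 ≤ N) (m : ℤ) :
    Module.finrank K (Coh.HH (CohB1.ProjSpace N K) (Twist.twistProjSpace N K m) N) =
      Nat.choose (-m - 1).toNat N := by
  rcases lt_or_ge (-((N : ℤ) + 1)) m with hm | hm
  · haveI := Groth.Agent.S0844.result K N m N (by rintro ⟨h, -⟩; omega) (by rintro ⟨-, h⟩; omega)
    rw [Module.finrank_zero_of_subsingleton]
    exact (Nat.choose_eq_zero_of_lt (by omega)).symm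
  · obtain ⟨j, rfl⟩ : ∃ j : ℕ, m = -((N : ℤ) + 1 + j) := ⟨(-m - (N + 1)).toNat, by omega⟩
    obtain ⟨e⟩ := Groth.Agent.S0845.result K N j
    rw [LinearEquiv.finrank_eq e, finrank_homog]
    congr 1
    omega

variable (I : (CohB1.ProjSpace N K).IdealSheafData) (k : ℤ)
  (hI : Nonempty (ClSub.idealMod I ≅ Twist.twistProjSpace N K (-k))) (n : ℤ)

theorem isCoh_FF :
    Coh.IsCoh (CohB1.tensorMod (ClSub.quotMod I) (Twist.twistProjSpace N K n)) :=
  MumLem.isCoh_tw N K _ (isCoh_quotMod I) n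

include hI in
/-- the sequence `0 → O(n-k) → O(n) → O_X(n) → 0`. -/
theorem exists_ses :
    ∃ (ι : Twist.twistProjSpace N K (n - k) ⟶ Twist.twistProjSpace N K n)
      (π : Twist.twistProjSpace N K n ⟶
        CohB1.tensorMod (ClSub.quotMod I) (Twist.twistProjSpace N K n))
      (w : ι ≫ π = 0), (ShortComplex.mk ι π w).ShortExact := by
  have hU := Mumford.hU N K
  haveI := epi_toSubscheme I
  have hS₀ := CechCard.shortExact_kernel (ClSub.toSubscheme I)
  have hS := Mumford.shortExact_tw N K n _ hS₀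
  obtain ⟨e₁, -⟩ : ∃ e : (twR (Twist.twistProjSpace N K n)).obj (kernel (ClSub.toSubscheme I)) ≅
      Twist.twistProjSpace N K (n - k), True :=
    ⟨(twR (Twist.twistProjSpace N K n)).mapIso hI.some ≪≫
      mulIso' hU (-k) n (n - k) (by ring), trivial⟩
  obtain ⟨e₂, -⟩ : ∃ e : (twR (Twist.twistProjSpace N K n)).obj
      (Coh.structureModule (CohB1.ProjSpace N K)) ≅ Twist.twistProjSpace N K n, True :=
    ⟨(twR (Twist.twistProjSpace N K n)).mapIso unitIso ≪≫ mulIso' hU 0 n n (by ring), trivial⟩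
  obtain ⟨w', h'⟩ := ses_transport (C := (CohB1.ProjSpace N K).Modules)
    (Q := CohB1.tensorMod (ClSub.quotMod I) (Twist.twistProjSpace N K n))
    ((twR (Twist.twistProjSpace N K n)).map (kernel.ι (ClSub.toSubscheme I)))
    ((twR (Twist.twistProjSpace N K n)).map (ClSub.toSubscheme I)) _ hS e₁ e₂
  exact ⟨_, _, w', h'⟩

include hI in
theorem sub_ge (p : ℕ) (hp : N ≤ p) :
    Subsingleton (Coh.HH (CohB1.ProjSpace N K)
      (CohB1.tensorMod (ClSub.quotMod I) (Twist.twistProjSpace N K n)) p) := by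
  obtain ⟨ι, π, w, hS⟩ := exists_ses N K I k hI n
  have hcoh := isCoh_FF N K I n
  rcases Nat.lt_or_ge N p with hlt | hge
  · exact @Mumford.hvan N K _ _ hcoh.1 p hlt
  · have hpN : p = N := le_antisymm hge hp
    rw [hpN]
    haveI : Mono ι := hS.mono_f
    have hsurj := Htop_surj_twist N K (n - k) n ι
    refine subsingleton_of_forall_eq 0 fun x => ?_
    have hK : Subsingleton (Coh.HH (CohB1.ProjSpace N K)
        (Twist.twistProjSpace N K (n - k)) (N + 1)) :=
      @Mumford.hvan N K _ _ (PnFinite.isCoh_twist N K (n - k)).1 (N + 1) (by omega)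
    obtain ⟨y, hy⟩ := exact_right K (ShortComplex.mk ι π w) hS N x (@Subsingleton.elim _ hK _ _)
    obtain ⟨z, hz⟩ := hsurj y
    rw [← hy, ← hz]
    exact HmapL_g_f K (ShortComplex.mk ι π w) N z

include hI in
theorem sub_mid_range (p : ℕ) (hp1 : 1 ≤ p) (hp2 : p + 2 ≤ N) :
    Subsingleton (Coh.HH (CohB1.ProjSpace N K)
      (CohB1.tensorMod (ClSub.quotMod I) (Twist.twistProjSpace N K n)) p) := by
  obtain ⟨ι, π, w, hS⟩ := exists_ses N K I k hI n
  exact sub_right (ShortComplex.mk ι π w) hS p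
    (Groth.Agent.S0844.result K N n p (by rintro ⟨h, -⟩; omega) (by rintro ⟨h, -⟩; omega))
    (Groth.Agent.S0844.result K N (n - k) (p + 1) (by rintro ⟨h, -⟩; omega)
      (by rintro ⟨h, -⟩; omega))

include hI in
theorem finrank_H0_FF (hN : 2 ≤ N) :
    Module.finrank K (Coh.HH (CohB1.ProjSpace N K)
        (CohB1.tensorMod (ClSub.quotMod I) (Twist.twistProjSpace N K n)) 0) +
      Nat.choose (n - k + (N : ℤ)).toNat N = Nat.choose (n + (N : ℤ)).toNat N := by
  obtain ⟨ι, π, w, hS⟩ := exists_ses N K I k hI n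
  haveI : Module.Finite K (Coh.HH (CohB1.ProjSpace N K) (ShortComplex.mk ι π w).X₂ 0) :=
    PnFinite.finite_HH_twist N K n 0
  have h1 : Subsingleton (Coh.HH (CohB1.ProjSpace N K) (ShortComplex.mk ι π w).X₁ (0 + 1)) :=
    Groth.Agent.S0844.result K N (n - k) 1 (by rintro ⟨h, -⟩; omega) (by rintro ⟨h, -⟩; omega)
  have h := finrank_H0_ses K (ShortComplex.mk ι π w) hS h1
  have h' : Module.finrank K (Coh.HH (CohB1.ProjSpace N K) (Twist.twistProjSpace N K (n - k)) 0) +
      Module.finrank K (Coh.HH (CohB1.ProjSpace N K)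
        (CohB1.tensorMod (ClSub.quotMod I) (Twist.twistProjSpace N K n)) 0) =
      Module.finrank K (Coh.HH (CohB1.ProjSpace N K) (Twist.twistProjSpace N K n) 0) := h
  rw [finrank_H0_twist N K (by omega) n, finrank_H0_twist N K (by omega) (n - k)] at h'
  omega

include hI in
theorem finrank_Hd_FF (hN : 2 ≤ N) (d : ℕ) (hd : d + 1 = N) :
    Module.finrank K (Coh.HH (CohB1.ProjSpace N K)
        (CohB1.tensorMod (ClSub.quotMod I) (Twist.twistProjSpace N K n)) d) +
      Nat.choose (-n - 1).toNat N = Nat.choose (-(n - k) - 1).toNat N := by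
  subst hd
  obtain ⟨ι, π, w, hS⟩ := exists_ses (d + 1) K I k hI n
  haveI : Module.Finite K (Coh.HH (CohB1.ProjSpace (d + 1) K) (ShortComplex.mk ι π w).X₁ (d + 1)) :=
    PnFinite.finite_HH_twist (d + 1) K (n - k) (d + 1)
  have h2 : Subsingleton (Coh.HH (CohB1.ProjSpace (d + 1) K) (ShortComplex.mk ι π w).X₂ d) :=
    Groth.Agent.S0844.result K (d + 1) n d (by rintro ⟨h, -⟩; omega) (by rintro ⟨h, -⟩; omega)
  have h3 : Subsingleton (Coh.HH (CohB1.ProjSpace (d + 1) K) (ShortComplex.mk ι π w).X₃ (d + 1)) :=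
    sub_ge (d + 1) K I k hI n (d + 1) le_rfl
  have h := finrank_Hq_ses K (ShortComplex.mk ι π w) hS d h2 h3
  have h' : Module.finrank K (Coh.HH (CohB1.ProjSpace (d + 1) K)
        (CohB1.tensorMod (ClSub.quotMod I) (Twist.twistProjSpace (d + 1) K n)) d) +
      Module.finrank K (Coh.HH (CohB1.ProjSpace (d + 1) K)
        (Twist.twistProjSpace (d + 1) K n) (d + 1)) =
      Module.finrank K (Coh.HH (CohB1.ProjSpace (d + 1) K)
        (Twist.twistProjSpace (d + 1) K (n - k)) (d + 1)) := h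
  rw [finrank_Htop_twist (d + 1) K (by omega) n,
    finrank_Htop_twist (d + 1) K (by omega) (n - k)] at h'
  exact h'

end Pn

section P1

variable (K : Type u) [Field K] (I : (CohB1.ProjSpace 1 K).IdealSheafData) (k : ℤ)
  (hI : Nonempty (ClSub.idealMod I ≅ Twist.twistProjSpace 1 K (-k))) (n : ℤ)

include hI in
theorem finrank_H0_FF_one :
    Module.finrank K (Coh.HH (CohB1.ProjSpace 1 K)
        (CohB1.tensorMod (ClSub.quotMod I) (Twist.twistProjSpace 1 K n)) 0) +
      Nat.choose (n - k + ((1 : ℕ) : ℤ)).toNat 1 + Nat.choose (-n - 1).toNat 1 =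
      Nat.choose (n + ((1 : ℕ) : ℤ)).toNat 1 + Nat.choose (-(n - k) - 1).toNat 1 := by
  obtain ⟨ι, π, w, hS⟩ := exists_ses 1 K I k hI n
  have hcoh := isCoh_FF 1 K I n
  haveI : Module.Finite K (Coh.HH (CohB1.ProjSpace 1 K) (ShortComplex.mk ι π w).X₂ 0) :=
    PnFinite.finite_HH_twist 1 K n 0
  haveI : Module.Finite K (Coh.HH (CohB1.ProjSpace 1 K) (ShortComplex.mk ι π w).X₃ 0) :=
    PnFinite.finite_HH 1 K 2 0 (by omega) _ hcoh
  haveI : Module.Finite K (Coh.HH (CohB1.ProjSpace 1 K) (ShortComplex.mk ι π w).X₁ (0 + 1)) :=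
    PnFinite.finite_HH_twist 1 K (n - k) 1
  have h3 : Subsingleton (Coh.HH (CohB1.ProjSpace 1 K) (ShortComplex.mk ι π w).X₃ (0 + 1)) :=
    sub_ge 1 K I k hI n 1 le_rfl
  have h := finrank_H01_ses K (ShortComplex.mk ι π w) hS h3
  have h' : Module.finrank K (Coh.HH (CohB1.ProjSpace 1 K) (Twist.twistProjSpace 1 K (n - k)) 0) +
      Module.finrank K (Coh.HH (CohB1.ProjSpace 1 K)
        (CohB1.tensorMod (ClSub.quotMod I) (Twist.twistProjSpace 1 K n)) 0) +
      Module.finrank K (Coh.HH (CohB1.ProjSpace 1 K) (Twist.twistProjSpace 1 K n) 1) =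
      Module.finrank K (Coh.HH (CohB1.ProjSpace 1 K) (Twist.twistProjSpace 1 K n) 0) +
      Module.finrank K (Coh.HH (CohB1.ProjSpace 1 K) (Twist.twistProjSpace 1 K (n - k)) 1) := h
  rw [finrank_H0_twist 1 K le_rfl n, finrank_H0_twist 1 K le_rfl (n - k),
    finrank_Htop_twist 1 K le_rfl n, finrank_Htop_twist 1 K le_rfl (n - k)] at h'
  omega

end P1

end Groth.Agent.Lib.Helper7.Hypersurf
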