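import Mathlib
import Groth.Prelude
import Groth.Agent.Lib.Helper7.LocFreePn
import Groth.Agent.Lib.Helper7.MumLemA
import Groth.Agent.Lib.Helper7.MumLem
import Groth.Agent.Lib.Helper7.RegRes
import Groth.Agent.Lib.Helper7.MulSurjPn
import Groth.Agent.Lib.Helper7.PnExtB
import Groth.Agent.Lib.Helper7.CechCard
import Groth.Agent.Lib.Helper2.K0Res.Resolution
import Groth.Agent.S0046
import Groth.Agent.S2357

/-!
# Resolutions of coherent modules on `P^n_K` by finite sums of twisting sheaves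

* `isSplit_biprod'`: sums of twisting sheaves are closed under binary biproducts.
* `exists_epi_all_twists`: a coherent module `G` with `H^0(G(m)) = 0` for `m ≪ 0` is the quotient
  of a finite sum of twisting sheaves by a map which is surjective on global sections of all twists.
* `exists_resolution`: Hilbert's syzygy theorem in the form: every coherent module on `P^n_K` has a
  resolution of length `≤ n` by finite sums of twisting sheaves.
-/
set_option autoImplicit false
universe u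
open CategoryTheory CategoryTheory.Limits AlgebraicGeometry TopologicalSpace Opposite
open Scheme.Modules

noncomputable section

namespace Groth.Agent.Lib.Helper7.Syzygy

open Groth.Agent.Lib.Helper3 Groth.Agent.Lib.Helper3.QCSec Groth.Agent.Lib.Helper3.InvGen
  Groth.Agent.Lib.Helper3.InvTensor Groth.Agent.Lib.Helper3.InvMonoidal
  Groth.Agent.Lib.Helper3.TwistBasic Groth.Agent.Lib.Helper3.TwistMul
  Groth.Agent.Lib.Helper7.TwFun Groth.Agent.Lib.Helper7.TwProj Groth.Agent.Lib.Helper7.MulSurj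
  Groth.Agent.Lib.Helper7.RegRes Groth.Agent.Lib.Helper7.CohFinite
  Groth.Agent.Lib.Helper7.PnDual Groth.Agent.Lib.Helper7.PnExt
  Groth.Agent.Lib.Helper13 Groth.Agent.Lib.Helper13.SerreCrit1
  Groth.Agent.Lib.Helper7.Horrocks Groth.Agent.Lib.Helper7.TorsFree
  Groth.Agent.Lib.Helper7.LocFreePn Groth.Agent.Lib.Helper7.MumLemA Groth.Agent.Lib.Helper2

section General

variable {X : Scheme.{u}}

lemma surj_desc_left (T : X.Modules ⥤ X.Modules) {A B M : X.Modules} (f : A ⟶ M) (g : B ⟶ M)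
    (h : Function.Surjective ((T.map f).app ⊤)) :
    Function.Surjective ((T.map (biprod.desc f g)).app ⊤) := by
  intro z
  obtain ⟨y, hy⟩ := h z
  refine ⟨(T.map (biprod.inl : A ⟶ A ⊞ B)).app ⊤ y, ?_⟩
  have h1 : T.map (biprod.inl : A ⟶ A ⊞ B) ≫ T.map (biprod.desc f g) = T.map f := by
    rw [← T.map_comp, biprod.inl_desc]
  have h2 := app_congr h1 ⊤ y
  rw [comp_app] at h2
  exact h2.trans hy

lemma surj_desc_right (T : X.Modules ⥤ X.Modules) {A B M : X.Modules} (f : A ⟶ M) (g : B ⟶ M)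
    (h : Function.Surjective ((T.map g).app ⊤)) :
    Function.Surjective ((T.map (biprod.desc f g)).app ⊤) := by
  intro z
  obtain ⟨y, hy⟩ := h z
  refine ⟨(T.map (biprod.inr : B ⟶ A ⊞ B)).app ⊤ y, ?_⟩
  have h1 : T.map (biprod.inr : B ⟶ A ⊞ B) ≫ T.map (biprod.desc f g) = T.map g := by
    rw [← T.map_comp, biprod.inr_desc]
  have h2 := app_congr h1 ⊤ y
  rw [comp_app] at h2
  exact h2.trans hy

lemma surj_of_subsingleton {A B : X.Modules} (g : A ⟶ B) (h : Subsingleton (Coh.HH X B 0)) :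
    Function.Surjective (g.app ⊤) := by
  intro z
  exact ⟨0, (QCExact.app_zero g ⊤).trans (sections_eq_zero B h z).symm⟩

end General

section Pn

variable (n : ℕ) (K : Type u) [Field K]

/-- the property of being a finite sum of twisting sheaves. -/
def splitP : ObjectProperty (CohB1.ProjSpace n K).Modules := fun F => IsSplit n K F

lemma isCoh_of_isSplit (E : (CohB1.ProjSpace n K).Modules) (h : IsSplit n K E) : Coh.IsCoh E := by
  obtain ⟨r, a, ⟨e⟩⟩ := h
  exact isCoh_of_isFinLocFreeOfRank'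
    (isFinLocFreeOfRank_of_iso' e.symm r (isFinLocFreeOfRank_coprod n K r a))

lemma isSplit_biprod' (A B : (CohB1.ProjSpace n K).Modules) (hA : IsSplit n K A)
    (hB : IsSplit n K B) : IsSplit n K (A ⊞ B) := by
  obtain ⟨r, a, ⟨eA⟩⟩ := hA
  obtain ⟨s, b, ⟨eB⟩⟩ := hB
  let f₁ : Fin r → (CohB1.ProjSpace n K).Modules := fun j => Twist.twistProjSpace n K (a j)
  let f₂ : Fin s → (CohB1.ProjSpace n K).Modules := fun j => Twist.twistProjSpace n K (b j)
  have t₁ := colimit.isColimit (Discrete.functor f₁)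
  have t₂ := colimit.isColimit (Discrete.functor f₂)
  have t := BinaryBiproduct.isColimit (∐ f₁) (∐ f₂)
  have tc := Cofan.combPairIsColimit t₁ t₂ t
  have e1 : ((∐ f₁) ⊞ (∐ f₂)) ≅ ∐ (Sum.elim f₁ f₂) :=
    tc.coconePointUniqueUpToIso (colimit.isColimit (Discrete.functor (Sum.elim f₁ f₂)))
  let c : Fin (r + s) → ℤ := fun j => Sum.elim a b (finSumFinEquiv.symm j)
  have e2 : ∐ (Sum.elim f₁ f₂) ≅ ∐ fun j : Fin (r + s) => Twist.twistProjSpace n K (c j) :=
    (Sigma.reindex finSumFinEquiv.symm (Sum.elim f₁ f₂)).symm ≪≫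
      Sigma.mapIso (fun j => eqToIso (by
        simp only [Function.comp, c]
        rcases finSumFinEquiv.symm j with x | x <;> rfl))
  exact ⟨r + s, c, ⟨biprod.mapIso eA eB ≪≫ e1 ≪≫ e2⟩⟩

lemma isCoh_kernel {E G : (CohB1.ProjSpace n K).Modules} (π : E ⟶ G) (hE : Coh.IsCoh E)
    (hG : Coh.IsCoh G) : Coh.IsCoh (kernel π) := by
  haveI : IsNoetherian (CohB1.ProjSpace n K) :=
    Groth.Agent.S2357.result (CohB1.polyGrading n K)
  haveI : E.IsQuasicoherent := hE.1
  haveI : G.IsQuasicoherent := hG.1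
  have hKq : Coh.IsQCoh (kernel π) := QCProps.isQuasicoherent_kernel π
  exact Groth.Agent.S0046.result _ _ (kernel π) (kernel.ι π) hE hKq

lemma exists_surj_twist (G : (CohB1.ProjSpace n K).Modules) (hG : Coh.IsCoh G) (t : ℤ) :
    ∃ (E : (CohB1.ProjSpace n K).Modules) (φ : E ⟶ G), IsSplit n K E ∧
      Function.Surjective (((twR (Twist.twistProjSpace n K t)).map φ).app ⊤) := by
  have hMcoh := MumLem.isCoh_tw n K G hG t
  haveI hfin : Module.Finite K (Coh.HH (CohB1.ProjSpace n K)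
      (CohB1.tensorMod G (Twist.twistProjSpace n K t)) 0) :=
    PnFinite.finite_HH n K (n + 1) 0 (zero_add _) _ hMcoh
  obtain ⟨b, σ, hσ⟩ := exists_fin_span K (CohB1.ProjSpace n K)
    (CohB1.tensorMod G (Twist.twistProjSpace n K t))
  obtain ⟨φ, hφ⟩ := exists_desc (Twist.twistProjSpace n K t) (Twist.twistProjSpace n K (-t))
    (pairIso (Mumford.hU n K) t) (pairIso' (Mumford.hU n K) (-t) t (neg_add_cancel t)) G σ
  exact ⟨_, φ, ⟨b, fun _ => -t, ⟨Iso.refl _⟩⟩, surj_of_span _ σ hσ hφ⟩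

lemma exists_surj_range (G : (CohB1.ProjSpace n K).Modules) (hG : Coh.IsCoh G) (lo : ℤ) :
    ∀ N : ℕ, ∃ (E : (CohB1.ProjSpace n K).Modules) (φ : E ⟶ G), IsSplit n K E ∧
      ∀ t : ℤ, lo ≤ t → t < lo + (N : ℤ) →
        Function.Surjective (((twR (Twist.twistProjSpace n K t)).map φ).app ⊤) := by
  intro N
  induction N with
  | zero =>
    obtain ⟨E, φ, hE, -⟩ := exists_surj_twist n K G hG lo
    exact ⟨E, φ, hE, fun t h1 h2 => by exfalso; push_cast at h2; omega⟩
  | succ N ih =>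
    obtain ⟨E₁, φ₁, hE₁, h₁⟩ := ih
    obtain ⟨E₂, φ₂, hE₂, h₂⟩ := exists_surj_twist n K G hG (lo + (N : ℤ))
    refine ⟨E₁ ⊞ E₂, biprod.desc φ₁ φ₂, isSplit_biprod' n K E₁ E₂ hE₁ hE₂, fun t h1 h2 => ?_⟩
    rcases lt_or_ge t (lo + (N : ℤ)) with h | h
    · exact surj_desc_left _ φ₁ φ₂ (h₁ t h1 h)
    · have ht : t = lo + (N : ℤ) := by push_cast at h2; omega
      rw [ht]
      exact surj_desc_right _ φ₁ φ₂ h₂

/-- a coherent module with `H^0(G(m)) = 0` for `m ≪ 0` is a quotient of a finite sum of twisting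
sheaves by a map which is surjective on global sections after every twist. -/
theorem exists_epi_all_twists (G : (CohB1.ProjSpace n K).Modules) (hG : Coh.IsCoh G)
    (hI : CondI n K G) :
    ∃ (E : (CohB1.ProjSpace n K).Modules) (π : E ⟶ G), IsSplit n K E ∧ Epi π ∧
      ∀ t : ℤ, Function.Surjective (((twR (Twist.twistProjSpace n K t)).map π).app ⊤) := by
  obtain ⟨n₀, hn₀⟩ := hI
  obtain ⟨c, hc⟩ := exists_reg n K G hG
  obtain ⟨E₀, φ₀, hE₀, hφ₀⟩ : ∃ (E₀ : (CohB1.ProjSpace n K).Modules) (φ : E₀ ⟶ G),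
      IsSplit n K E₀ ∧ Epi φ := by
    obtain ⟨b, φ₀, hφ₀, -⟩ := exists_epi_of_regular n K G hG c (fun i hi _ => hc i hi)
    exact ⟨_, φ₀, ⟨b, fun _ => -c, ⟨Iso.refl _⟩⟩, hφ₀⟩
  obtain ⟨E₁, φ₁, hE₁, h₁⟩ := exists_surj_range n K G hG (n₀ + 1) (c - n₀).toNat
  refine ⟨E₀ ⊞ E₁, biprod.desc φ₀ φ₁, isSplit_biprod' n K E₀ E₁ hE₀ hE₁, ?_, ?_⟩
  · haveI := hφ₀
    exact epi_of_epi_fac (biprod.inl_desc φ₀ φ₁)
  · have hle : ∀ t : ℤ, t ≤ c → Function.Surjective
        (((twR (Twist.twistProjSpace n K t)).map (biprod.desc φ₀ φ₁)).app ⊤) := by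
      intro t ht
      rcases le_or_gt t n₀ with h | h
      · exact surj_of_subsingleton _ (hn₀ t h)
      · exact surj_desc_right _ φ₀ φ₁ (h₁ t (by omega) (by omega))
    generalize biprod.desc φ₀ φ₁ = π at hle ⊢
    intro t
    rcases le_or_gt t c with h | h
    · exact hle t h
    · obtain ⟨e, he⟩ : ∃ e : ℕ, t = c + (e : ℤ) := ⟨(t - c).toNat, by omega⟩
      rw [he]
      exact surj_succ (Mumford.hU n K) π c (e : ℤ) (c + (e : ℤ)) rfl
        (hle c le_rfl)
        (fun z => MulSurjPn.mem_pureSpan n K G hG.1 c hc c le_rfl e (e : ℤ) rfl z)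

/-- vanishing of the intermediate cohomology of all twists in degrees `1 ≤ i < n - j`. -/
def Van (G : (CohB1.ProjSpace n K).Modules) (j : ℕ) : Prop :=
  ∀ (t : ℤ) (i : ℕ), 1 ≤ i → i + j < n → Subsingleton (Coh.HH (CohB1.ProjSpace n K)
    (CohB1.tensorMod G (Twist.twistProjSpace n K t)) i)

lemma van_kernel (hn : 1 ≤ n) {E G : (CohB1.ProjSpace n K).Modules} (π : E ⟶ G) [Epi π]
    (hE : IsSplit n K E) (j : ℕ) (hG : Van n K G (j + 1))
    (hs : ∀ t : ℤ, Function.Surjective (((twR (Twist.twistProjSpace n K t)).map π).app ⊤)) :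
    Van n K (kernel π) j := by
  intro t i hi hij
  have hS := CechCard.shortExact_kernel π
  have hSt := Mumford.shortExact_tw n K t _ hS
  have hII := (cond_of_isSplit n K hn E hE).2
  rcases Nat.lt_or_ge 1 i with h2 | h2
  · obtain ⟨i', rfl⟩ : ∃ i', i = i' + 1 := ⟨i - 1, by omega⟩
    exact sub_left' (kernel.ι π) π (kernel.condition π) (twR (Twist.twistProjSpace n K t)) hSt i'
      (hG t i' (by omega) (by omega)) (hII t (i' + 1) (by omega) (by omega))
  · obtain rfl : i = 1 := by omega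
    exact sub_H1_left' (kernel.ι π) π (kernel.condition π) (twR (Twist.twistProjSpace n K t)) hSt
      (hs t) (hII t 1 le_rfl (by omega))

lemma condI_kernel (hn : 1 ≤ n) {E G : (CohB1.ProjSpace n K).Modules} (π : E ⟶ G) [Epi π]
    (hE : IsSplit n K E) : CondI n K (kernel π) := by
  obtain ⟨n₀, hn₀⟩ := (cond_of_isSplit n K hn E hE).1
  have hS := CechCard.shortExact_kernel π
  refine ⟨n₀, fun m hm => ?_⟩
  haveI : Mono ((twR (Twist.twistProjSpace n K m)).map (kernel.ι π)) :=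
    (Mumford.shortExact_tw n K m _ hS).mono_f
  refine subsingleton_of_forall_eq 0 fun x => ?_
  exact H0_inj ((twR (Twist.twistProjSpace n K m)).map (kernel.ι π)) x
    (@Subsingleton.elim _ (hn₀ m hm) _ _)

set_option backward.isDefEq.respectTransparency false in
lemma exists_isRes_of_isSplit (A : (CohB1.ProjSpace n K).Modules) (hA : IsSplit n K A) :
    ∃ (L : ChainComplex (CohB1.ProjSpace n K).Modules ℕ) (ε : L.X 0 ⟶ A),
      K0Res.IsRes (splitP n K) L A ε ∧ ∀ i, 0 < i → IsZero (L.X i) := by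
  have hz : ∀ i : ℕ, 0 < i →
      IsZero (((ChainComplex.single₀ (CohB1.ProjSpace n K).Modules).obj A).X i) :=
    fun i hi => HomologicalComplex.isZero_single_obj_X (ComplexShape.down ℕ) 0 A i (by omega)
  refine ⟨(ChainComplex.single₀ (CohB1.ProjSpace n K).Modules).obj A,
    (HomologicalComplex.singleObjXSelf (ComplexShape.down ℕ) 0 A).hom, ?_, hz⟩
  have hw : ((ChainComplex.single₀ (CohB1.ProjSpace n K).Modules).obj A).d 1 0 ≫
      (HomologicalComplex.singleObjXSelf (ComplexShape.down ℕ) 0 A).hom = 0 :=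
    (hz 1 (by omega)).eq_of_src _ _
  refine ⟨fun i => ?_, fun m => ShortComplex.exact_of_isZero_X₂ _ (hz (m + 1) (by omega)),
    hw, ?_, inferInstance⟩
  · cases i with
    | zero =>
      exact isSplit_of_iso (HomologicalComplex.singleObjXSelf (ComplexShape.down ℕ) 0 A) hA
    | succ i => exact isSplit_of_isZero n K _ (hz (i + 1) (by omega))
  · rw [ShortComplex.exact_iff_mono _ ((hz 1 (by omega)).eq_of_src _ _)]
    dsimp
    infer_instance

theorem exists_isRes_of_van (hn : 1 ≤ n) :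
    ∀ (j : ℕ) (G : (CohB1.ProjSpace n K).Modules), Coh.IsCoh G → CondI n K G → Van n K G j →
      ∃ (L : ChainComplex (CohB1.ProjSpace n K).Modules ℕ) (ε : L.X 0 ⟶ G),
        K0Res.IsRes (splitP n K) L G ε ∧ ∀ i, j < i → IsZero (L.X i) := by
  intro j
  induction j with
  | zero =>
    intro G hG hI hV
    have hsplit : IsSplit n K G :=
      (horrocks n K hn G hG).mpr ⟨hI, fun m i hi hin => hV m i hi (by omega)⟩
    exact exists_isRes_of_isSplit n K G hsplit
  | succ j ih =>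
    intro G hG hI hV
    obtain ⟨E, π, hE, hπ, hs⟩ := exists_epi_all_twists n K G hG hI
    haveI := hπ
    have hS := CechCard.shortExact_kernel π
    have hK : Coh.IsCoh (kernel π) := isCoh_kernel n K π (isCoh_of_isSplit n K E hE) hG
    obtain ⟨M, ε, hM, hz⟩ := ih (kernel π) hK (condI_kernel n K hn π hE)
      (van_kernel n K hn π hE j hV hs)
    have wM : M.d 1 0 ≫ ε ≫ kernel.ι π = 0 := by rw [← Category.assoc, hM.w, zero_comp]
    refine ⟨ChainComplex.augment M (ε ≫ kernel.ι π) wM, π,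
      K0Res.isRes_augment hM (kernel.ι π) π (kernel.condition π) hS hE wM, ?_⟩
    intro i hi
    obtain ⟨i', rfl⟩ : ∃ i', i = i' + 1 := ⟨i - 1, by omega⟩
    exact hz i' (by omega)

/-- Hilbert's syzygy theorem on `P^n_K`: every coherent module has a resolution of length `≤ n`
by finite sums of twisting sheaves. -/
theorem exists_resolution (F : (CohB1.ProjSpace n K).Modules) (hF : Coh.IsCoh F) :
    ∃ (L : ChainComplex (CohB1.ProjSpace n K).Modules ℕ) (ε : L.X 0 ⟶ F),
      K0Res.IsRes (splitP n K) L F ε ∧ ∀ i, n < i → IsZero (L.X i) := by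
  rcases Nat.eq_zero_or_pos n with h0 | hn
  · subst h0
    obtain ⟨L, ε, hL, hz⟩ := exists_isRes_of_isSplit 0 K F (isSplit_zero K _ F hF rfl)
    exact ⟨L, ε, hL, hz⟩
  · obtain ⟨c, hc⟩ := exists_reg n K F hF
    obtain ⟨b, φ₀, hφ₀, -⟩ := exists_epi_of_regular n K F hF c (fun i hi _ => hc i hi)
    haveI := hφ₀
    have hE₀ : IsSplit n K (∐ fun _ : Fin b => Twist.twistProjSpace n K (-c)) :=
      ⟨b, fun _ => -c, ⟨Iso.refl _⟩⟩
    have hS := CechCard.shortExact_kernel φ₀
    have hK := isCoh_kernel n K φ₀ (isCoh_of_isSplit n K _ hE₀) hF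
    obtain ⟨M, ε, hM, hz⟩ := exists_isRes_of_van n K hn (n - 1) (kernel φ₀) hK
      (condI_kernel n K hn φ₀ hE₀) (fun t i hi hij => by exfalso; omega)
    have wM : M.d 1 0 ≫ ε ≫ kernel.ι φ₀ = 0 := by rw [← Category.assoc, hM.w, zero_comp]
    refine ⟨ChainComplex.augment M (ε ≫ kernel.ι φ₀) wM, φ₀,
      K0Res.isRes_augment hM (kernel.ι φ₀) φ₀ (kernel.condition φ₀) hS hE₀ wM, ?_⟩
    intro i hi
    obtain ⟨i', rfl⟩ : ∃ i', i = i' + 1 := ⟨i - 1, by omega⟩
    exact hz i' (by omega)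

end Pn

end Groth.Agent.Lib.Helper7.Syzygy
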