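import Mathlib
import Groth.Prelude
import Groth.Agent.Lib.Helper7.Syzygy
import Groth.Agent.Lib.Helper7.Hypersurf

/-!
# Resolutions by sums of twisting sheaves with bounded twists

* `IsSplitLe`: finite sums of `O(a_j)` with all `a_j ≤ B`; `exists_epi_all_twists_le`.
* `hom_twist_eq_zero_of_H0`, `exists_hom_twist_of_H0`: `Hom(O(a), M)` versus `H^0(M(-a))`.
* `H0_vanish_down`: for a finite locally free module, `H^0(E(s₀)) = 0` implies `H^0(E(s)) = 0`
  for `s ≤ s₀`.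
* `exists_ses_neg`: a rank two bundle `E` on `P^2` with `H^0(E(-1)) = 0` has a resolution
  `0 → ⊕ O(k_i) → ⊕ O(m_j) → E(-1) → 0` with all `k_i, m_j < 0`.
-/
set_option autoImplicit false
universe u
open CategoryTheory CategoryTheory.Limits AlgebraicGeometry TopologicalSpace Opposite
open Scheme.Modules

noncomputable section

namespace Groth.Agent.Lib.Helper7.SyzygyB

open Groth.Agent.Lib.Helper3 Groth.Agent.Lib.Helper3.QCSec Groth.Agent.Lib.Helper3.InvGen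
  Groth.Agent.Lib.Helper3.InvTensor Groth.Agent.Lib.Helper3.InvMonoidal
  Groth.Agent.Lib.Helper3.TwistBasic Groth.Agent.Lib.Helper3.TwistMul
  Groth.Agent.Lib.Helper7.TwFun Groth.Agent.Lib.Helper7.TwProj Groth.Agent.Lib.Helper7.MulSurj
  Groth.Agent.Lib.Helper7.RegRes Groth.Agent.Lib.Helper7.CohFinite
  Groth.Agent.Lib.Helper7.PnDual Groth.Agent.Lib.Helper7.PnExt
  Groth.Agent.Lib.Helper13 Groth.Agent.Lib.Helper13.SerreCrit1
  Groth.Agent.Lib.Helper7.Horrocks Groth.Agent.Lib.Helper7.TorsFree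
  Groth.Agent.Lib.Helper7.LocFreePn Groth.Agent.Lib.Helper7.MumLemA Groth.Agent.Lib.Helper2
  Groth.Agent.Lib.Helper7.Syzygy Groth.Agent.Lib.Helper7.Hypersurf

section Abstract

lemma exists_retract_of_iso_coprod {C : Type*} [Category C] [Preadditive C]
    [HasFiniteBiproducts C] {r : ℕ} (f : Fin r → C) {A : C} (e : A ≅ ∐ f) (i : Fin r) :
    ∃ (ι : f i ⟶ A) (q : A ⟶ f i), ι ≫ q = 𝟙 _ := by
  refine ⟨biproduct.ι f i ≫ (biproduct.isoCoproduct f).hom ≫ e.inv,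
    e.hom ≫ (biproduct.isoCoproduct f).inv ≫ biproduct.π f i, ?_⟩
  simp

end Abstract

section Pn

variable (n : ℕ) (K : Type u) [Field K]

/-- a finite sum of twisting sheaves `O(a_j)` with all `a_j ≤ B`. -/
def IsSplitLe (B : ℤ) (F : (CohB1.ProjSpace n K).Modules) : Prop :=
  ∃ (r : ℕ) (a : Fin r → ℤ), (∀ j, a j ≤ B) ∧
    Nonempty (F ≅ ∐ fun j => Twist.twistProjSpace n K (a j))

variable {n K} in
lemma IsSplitLe.isSplit {B : ℤ} {F : (CohB1.ProjSpace n K).Modules} (h : IsSplitLe n K B F) :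
    IsSplit n K F := by
  obtain ⟨r, a, -, e⟩ := h
  exact ⟨r, a, e⟩

variable {n K} in
lemma IsSplitLe.mono {B B' : ℤ} (hBB : B ≤ B') {F : (CohB1.ProjSpace n K).Modules}
    (h : IsSplitLe n K B F) : IsSplitLe n K B' F := by
  obtain ⟨r, a, ha, e⟩ := h
  exact ⟨r, a, fun j => (ha j).trans hBB, e⟩

lemma isSplitLe_biprod' (B : ℤ) (A A' : (CohB1.ProjSpace n K).Modules) (hA : IsSplitLe n K B A)
    (hA' : IsSplitLe n K B A') : IsSplitLe n K B (A ⊞ A') := by
  obtain ⟨r, a, ha, ⟨eA⟩⟩ := hA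
  obtain ⟨s, b, hb, ⟨eB⟩⟩ := hA'
  let f₁ : Fin r → (CohB1.ProjSpace n K).Modules := fun j => Twist.twistProjSpace n K (a j)
  let f₂ : Fin s → (CohB1.ProjSpace n K).Modules := fun j => Twist.twistProjSpace n K (b j)
  have t₁ := colimit.isColimit (Discrete.functor f₁)
  have t₂ := colimit.isColimit (Discrete.functor f₂)
  have t := BinaryBiproduct.isColimit (∐ f₁) (∐ f₂)
  have tc := Cofan.combPairIsColimit t₁ t₂ t
  have e1 : ((∐ f₁) ⊞ (∐ f₂)) ≅ ∐ (Sum.elim f₁ f₂) :=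
    tc.coconePointUniqueUpToIso (colimit.isColimit (Discrete.functor (Sum.elim f₁ f₂)))
  let c : Fin (r + s) → ℤ := fun j => Sum.elim a b (finSumFinEquiv.symm j)
  have hc : ∀ j, c j ≤ B := fun j => by
    change Sum.elim a b (finSumFinEquiv.symm j) ≤ B
    rcases finSumFinEquiv.symm j with x | x
    · exact ha x
    · exact hb x
  have e2 : ∐ (Sum.elim f₁ f₂) ≅ ∐ fun j : Fin (r + s) => Twist.twistProjSpace n K (c j) :=
    (Sigma.reindex finSumFinEquiv.symm (Sum.elim f₁ f₂)).symm ≪≫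
      Sigma.mapIso (fun j => eqToIso (by
        simp only [Function.comp, c]
        rcases finSumFinEquiv.symm j with x | x <;> rfl))
  exact ⟨r + s, c, hc, ⟨biprod.mapIso eA eB ≪≫ e1 ≪≫ e2⟩⟩

lemma exists_surj_twist_le (G : (CohB1.ProjSpace n K).Modules) (hG : Coh.IsCoh G) (t : ℤ) :
    ∃ (E : (CohB1.ProjSpace n K).Modules) (φ : E ⟶ G), IsSplitLe n K (-t) E ∧
      Function.Surjective (((twR (Twist.twistProjSpace n K t)).map φ).app ⊤) := by
  have hMcoh := MumLem.isCoh_tw n K G hG t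
  haveI hfin : Module.Finite K (Coh.HH (CohB1.ProjSpace n K)
      (CohB1.tensorMod G (Twist.twistProjSpace n K t)) 0) :=
    PnFinite.finite_HH n K (n + 1) 0 (zero_add _) _ hMcoh
  obtain ⟨b, σ, hσ⟩ := exists_fin_span K (CohB1.ProjSpace n K)
    (CohB1.tensorMod G (Twist.twistProjSpace n K t))
  obtain ⟨φ, hφ⟩ := exists_desc (Twist.twistProjSpace n K t) (Twist.twistProjSpace n K (-t))
    (pairIso (Mumford.hU n K) t) (pairIso' (Mumford.hU n K) (-t) t (neg_add_cancel t)) G σ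
  exact ⟨_, φ, ⟨b, fun _ => -t, fun _ => le_rfl, ⟨Iso.refl _⟩⟩, surj_of_span _ σ hσ hφ⟩

lemma exists_surj_range_le (G : (CohB1.ProjSpace n K).Modules) (hG : Coh.IsCoh G) (lo : ℤ) :
    ∀ N : ℕ, ∃ (E : (CohB1.ProjSpace n K).Modules) (φ : E ⟶ G), IsSplitLe n K (-lo) E ∧
      ∀ t : ℤ, lo ≤ t → t < lo + (N : ℤ) →
        Function.Surjective (((twR (Twist.twistProjSpace n K t)).map φ).app ⊤) := by
  intro N
  induction N with
  | zero =>
    obtain ⟨E, φ, hE, -⟩ := exists_surj_twist_le n K G hG lo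
    exact ⟨E, φ, hE, fun t h1 h2 => by exfalso; push_cast at h2; omega⟩
  | succ N ih =>
    obtain ⟨E₁, φ₁, hE₁, h₁⟩ := ih
    obtain ⟨E₂, φ₂, hE₂, h₂⟩ := exists_surj_twist_le n K G hG (lo + (N : ℤ))
    refine ⟨E₁ ⊞ E₂, biprod.desc φ₁ φ₂,
      isSplitLe_biprod' n K (-lo) E₁ E₂ hE₁ (hE₂.mono (by omega)), fun t h1 h2 => ?_⟩
    rcases lt_or_ge t (lo + (N : ℤ)) with h | h
    · exact surj_desc_left _ φ₁ φ₂ (h₁ t h1 h)
    · have ht : t = lo + (N : ℤ) := by push_cast at h2; omega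
      rw [ht]
      exact surj_desc_right _ φ₁ φ₂ h₂

/-- if `H^0(G(m)) = 0` for `m ≤ n₀`, then `G` is the quotient of a finite sum of `O(a_j)` with all
`a_j ≤ -(n₀+1)` by a map which is surjective on global sections after every twist. -/
theorem exists_epi_all_twists_le (G : (CohB1.ProjSpace n K).Modules) (hG : Coh.IsCoh G) (n₀ : ℤ)
    (hn₀ : ∀ m : ℤ, m ≤ n₀ → Subsingleton (Coh.HH (CohB1.ProjSpace n K)
      (CohB1.tensorMod G (Twist.twistProjSpace n K m)) 0)) :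
    ∃ (E : (CohB1.ProjSpace n K).Modules) (π : E ⟶ G), IsSplitLe n K (-(n₀ + 1)) E ∧ Epi π ∧
      ∀ t : ℤ, Function.Surjective (((twR (Twist.twistProjSpace n K t)).map π).app ⊤) := by
  obtain ⟨c₀, hc₀⟩ := exists_reg n K G hG
  obtain ⟨c, hcdef⟩ : ∃ c : ℤ, c = max c₀ (n₀ + 1) := ⟨_, rfl⟩
  have hc0 : c₀ ≤ c := by rw [hcdef]; exact le_max_left _ _
  have hcn : n₀ + 1 ≤ c := by rw [hcdef]; exact le_max_right _ _
  have hc : Reg n K G c := fun i hi =>
    Mumford.regular_ge n K G hG.1 c₀ hc₀ i (c - i) hi (by omega)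
  obtain ⟨E₀, φ₀, hE₀, hφ₀⟩ : ∃ (E₀ : (CohB1.ProjSpace n K).Modules) (φ : E₀ ⟶ G),
      IsSplitLe n K (-(n₀ + 1)) E₀ ∧ Epi φ := by
    obtain ⟨b, φ₀, hφ₀, -⟩ := exists_epi_of_regular n K G hG c (fun i hi _ => hc i hi)
    exact ⟨_, φ₀, ⟨b, fun _ => -c, fun _ => neg_le_neg hcn, ⟨Iso.refl _⟩⟩, hφ₀⟩
  obtain ⟨E₁, φ₁, hE₁, h₁⟩ := exists_surj_range_le n K G hG (n₀ + 1) (c - n₀).toNat
  refine ⟨E₀ ⊞ E₁, biprod.desc φ₀ φ₁, isSplitLe_biprod' n K _ E₀ E₁ hE₀ hE₁, ?_, ?_⟩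
  · haveI := hφ₀
    exact epi_of_epi_fac (biprod.inl_desc φ₀ φ₁)
  · have hle : ∀ t : ℤ, t ≤ c → Function.Surjective
        (((twR (Twist.twistProjSpace n K t)).map (biprod.desc φ₀ φ₁)).app ⊤) := by
      intro t ht
      rcases le_or_gt t n₀ with h | h
      · exact surj_of_subsingleton _ (hn₀ t h)
      · exact surj_desc_right _ φ₀ φ₁ (h₁ t (by omega) (by omega))
    generalize biprod.desc φ₀ φ₁ = π at hle ⊢
    intro t
    rcases le_or_gt t c with h | h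
    · exact hle t h
    · obtain ⟨e, he⟩ : ∃ e : ℕ, t = c + (e : ℤ) := ⟨(t - c).toNat, by omega⟩
      rw [he]
      exact surj_succ (Mumford.hU n K) π c (e : ℤ) (c + (e : ℤ)) rfl
        (hle c le_rfl)
        (fun z => MulSurjPn.mem_pureSpan n K G hG.1 c hc c le_rfl e (e : ℤ) rfl z)

/-- `Hom(O(a), M) = 0` when `H^0(M(-a)) = 0`. -/
lemma hom_twist_eq_zero_of_H0 (a : ℤ) (M : (CohB1.ProjSpace n K).Modules)
    (h : Subsingleton (Coh.HH (CohB1.ProjSpace n K)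
      (CohB1.tensorMod M (Twist.twistProjSpace n K (-a))) 0))
    (φ : Twist.twistProjSpace n K a ⟶ M) : φ = 0 := by
  have hU := Mumford.hU n K
  haveI := isEquivalence_twR (Twist.twistProjSpace n K (-a)) (Twist.twistProjSpace n K (-(-a)))
    (pairIso hU (-a))
  apply (twR (Twist.twistProjSpace n K (-a))).map_injective
  have h0 : a + -a = 0 := by omega
  obtain ⟨φ', hφ'⟩ : ∃ φ' : CohB1.tensorMod (Twist.twistProjSpace n K a)
      (Twist.twistProjSpace n K (-a)) ⟶ CohB1.tensorMod M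
      (Twist.twistProjSpace n K (-a)), φ' = (twR (Twist.twistProjSpace n K (-a))).map φ :=
    ⟨_, rfl⟩
  obtain ⟨α, -⟩ : ∃ α : CohB1.tensorMod (Twist.twistProjSpace n K a)
      (Twist.twistProjSpace n K (-a)) ≅ Coh.structureModule (CohB1.ProjSpace n K), True :=
    ⟨pairIso' hU a (-a) h0, trivial⟩
  have hz : α.inv ≫ φ' = 0 := hom_unit_eq_zero _ h _
  have h3 : φ' = 0 := (cancel_epi α.inv).mp (hz.trans comp_zero.symm)
  exact (hφ'.symm.trans h3).trans ((twR (Twist.twistProjSpace n K (-a))).map_zero _ _).symm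

/-- a nonzero map `O(a) → M` when `H^0(M(-a)) ≠ 0`. -/
lemma exists_hom_twist_of_H0 (a : ℤ) (M : (CohB1.ProjSpace n K).Modules)
    (h : ¬ Subsingleton (Coh.HH (CohB1.ProjSpace n K)
      (CohB1.tensorMod M (Twist.twistProjSpace n K (-a))) 0)) :
    ∃ φ : Twist.twistProjSpace n K a ⟶ M, φ ≠ 0 := by
  have hU := Mumford.hU n K
  obtain ⟨ψ, hψ⟩ := exists_hom_of_H0 _ h
  haveI hE1 := isEquivalence_twR (Twist.twistProjSpace n K (-a))
    (Twist.twistProjSpace n K (-(-a))) (pairIso hU (-a))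
  have h0 : a + -a = 0 := by omega
  obtain ⟨a₂, -⟩ : ∃ a₂ : CohB1.tensorMod (Twist.twistProjSpace n K a)
      (Twist.twistProjSpace n K (-a)) ≅ Coh.structureModule (CohB1.ProjSpace n K), True :=
    ⟨pairIso' hU a (-a) h0, trivial⟩
  obtain ⟨φ, hφ⟩ : ∃ φ : Twist.twistProjSpace n K a ⟶ M,
      (twR (Twist.twistProjSpace n K (-a))).map φ = a₂.hom ≫ ψ :=
    ⟨(twR (Twist.twistProjSpace n K (-a))).preimage (a₂.hom ≫ ψ),
      (twR (Twist.twistProjSpace n K (-a))).map_preimage _⟩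
  refine ⟨φ, fun h' => hψ ?_⟩
  have h2 : a₂.hom ≫ ψ = 0 :=
    hφ.symm.trans ((congrArg (fun t => (twR (Twist.twistProjSpace n K (-a))).map t) h').trans
      ((twR (Twist.twistProjSpace n K (-a))).map_zero _ _))
  exact (cancel_epi a₂.hom).mp (h2.trans comp_zero.symm)

/-- for a finite locally free module, vanishing of `H^0(E(s₀))` propagates to smaller twists. -/
lemma H0_vanish_down (E : (CohB1.ProjSpace n K).Modules) (r : ℕ)
    (hE : FlatMod.IsFinLocFreeOfRank r E) (s₀ : ℤ)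
    (h : Subsingleton (Coh.HH (CohB1.ProjSpace n K)
      (CohB1.tensorMod E (Twist.twistProjSpace n K s₀)) 0)) (s : ℤ) (hs : s ≤ s₀) :
    Subsingleton (Coh.HH (CohB1.ProjSpace n K)
      (CohB1.tensorMod E (Twist.twistProjSpace n K s)) 0) := by
  by_contra hne
  have hne' : ¬ Subsingleton (Coh.HH (CohB1.ProjSpace n K)
      (CohB1.tensorMod E (Twist.twistProjSpace n K (-(-s)))) 0) := by rwa [neg_neg]
  obtain ⟨φ, hφ⟩ := exists_hom_twist_of_H0 n K (-s) E hne'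
  haveI : Mono φ := mono_of_ne_zero (rank_one_twist n K (-s)) hE φ hφ
  have hθ : ¬ Subsingleton (Coh.HH (CohB1.ProjSpace n K)
      (CohB1.tensorMod (Twist.twistProjSpace n K (-s))
        (Twist.twistProjSpace n K (-(-s₀)))) 0) := by
    rw [neg_neg]
    exact not_subsingleton_iff_nontrivial.mpr (nontrivial_H0 n K (-s) s₀ (by omega))
  obtain ⟨θ, hθ0⟩ := exists_hom_twist_of_H0 n K (-s₀) (Twist.twistProjSpace n K (-s)) hθ
  have h' : Subsingleton (Coh.HH (CohB1.ProjSpace n K)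
      (CohB1.tensorMod E (Twist.twistProjSpace n K (-(-s₀)))) 0) := by rwa [neg_neg]
  have hz : θ ≫ φ = 0 := hom_twist_eq_zero_of_H0 n K (-s₀) E h' (θ ≫ φ)
  exact hθ0 ((cancel_mono φ).mp (hz.trans zero_comp.symm))

end Pn

section P2

variable (K : Type u) [Field K]

theorem exists_ses_neg (E : (CohB1.ProjSpace 2 K).Modules) (hE : FlatMod.IsFinLocFreeOfRank 2 E)
    (hss : Subsingleton (Coh.HH (CohB1.ProjSpace 2 K)
      (CohB1.tensorMod E (Twist.twistProjSpace 2 K (-1))) 0)) :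
    ∃ (r s : ℕ) (kk : Fin r → ℤ) (mm : Fin s → ℤ)
      (S : ShortComplex (CohB1.ProjSpace 2 K).Modules),
      S.ShortExact ∧ (∀ i, kk i < 0) ∧ (∀ j, mm j < 0) ∧
      Nonempty (S.X₁ ≅ ∐ fun i : Fin r => Twist.twistProjSpace 2 K (kk i)) ∧
      Nonempty (S.X₂ ≅ ∐ fun j : Fin s => Twist.twistProjSpace 2 K (mm j)) ∧
      Nonempty (S.X₃ ≅ CohB1.tensorMod E (Twist.twistProjSpace 2 K (-1))) := by
  have hEcoh : Coh.IsCoh E := isCoh_of_isFinLocFreeOfRank' hE
  obtain ⟨G, hGdef⟩ : ∃ G : (CohB1.ProjSpace 2 K).Modules,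
      G = CohB1.tensorMod E (Twist.twistProjSpace 2 K (-1)) := ⟨_, rfl⟩
  have hG : Coh.IsCoh G := by
    rw [hGdef]
    exact MumLem.isCoh_tw 2 K E hEcoh (-1)
  have hn₀ : ∀ m : ℤ, m ≤ 0 → Subsingleton (Coh.HH (CohB1.ProjSpace 2 K)
      (CohB1.tensorMod G (Twist.twistProjSpace 2 K m)) 0) := by
    intro m hm
    rw [hGdef]
    exact (Mumford.sub_shift 2 K E (-1) m (m - 1) (by ring) 0).mpr
      (H0_vanish_down 2 K E 2 hE (-1) hss (m - 1) (by omega))
  obtain ⟨E', π, hE', hπ, hs⟩ := exists_epi_all_twists_le 2 K G hG 0 hn₀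
  haveI := hπ
  have hS := CechCard.shortExact_kernel π
  have hE'split := hE'.isSplit
  have hK : Coh.IsCoh (kernel π) := isCoh_kernel 2 K π (isCoh_of_isSplit 2 K E' hE'split) hG
  have hKI := condI_kernel 2 K (by omega) π hE'split
  have hKV := van_kernel 2 K (by omega) π hE'split 0 (fun t i hi hij => by exfalso; omega) hs
  obtain ⟨r, kk, ⟨eK⟩⟩ : IsSplit 2 K (kernel π) :=
    (horrocks 2 K (by omega) (kernel π) hK).mpr ⟨hKI, fun m i hi hin => hKV m i hi (by omega)⟩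
  obtain ⟨s, mm, hmm, ⟨eE⟩⟩ := hE'
  have hE'0 : Subsingleton (Coh.HH (CohB1.ProjSpace 2 K) E' 0) := by
    have h1 := sub_coprod (𝟭 (CohB1.ProjSpace 2 K).Modules)
      (fun j : Fin s => Twist.twistProjSpace 2 K (mm j)) 0
      (fun j => Groth.Agent.S0844.result K 2 (mm j) 0
        (by rintro ⟨-, h⟩; have := hmm j; omega) (by rintro ⟨h, -⟩; omega))
    exact subsingleton_HH_of_iso eE 0 h1
  have hK0 : Subsingleton (Coh.HH (CohB1.ProjSpace 2 K) (kernel π) 0) := by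
    refine subsingleton_of_forall_eq 0 fun x => ?_
    exact H0_inj (kernel.ι π) x (@Subsingleton.elim _ hE'0 _ _)
  have hkk : ∀ i, kk i < 0 := by
    intro i
    by_contra hge
    obtain ⟨ι, q, hιq⟩ := exists_retract_of_iso_coprod
      (fun i : Fin r => Twist.twistProjSpace 2 K (kk i)) eK i
    have h1 : Subsingleton (Coh.HH (CohB1.ProjSpace 2 K) (Twist.twistProjSpace 2 K (kk i)) 0) :=
      sub_retract ι q hιq (𝟭 (CohB1.ProjSpace 2 K).Modules) 0 hK0
    have h2 := finrank_H0_twist 2 K (by omega) (kk i)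
    rw [Module.finrank_zero_of_subsingleton] at h2
    have h3 : 0 < Nat.choose (kk i + ((2 : ℕ) : ℤ)).toNat 2 := Nat.choose_pos (by omega)
    omega
  exact ⟨r, s, kk, mm, ShortComplex.mk (kernel.ι π) π (kernel.condition π), hS, hkk,
    fun j => by have := hmm j; omega, ⟨eK⟩, ⟨eE⟩, ⟨eqToIso hGdef⟩⟩

end P2

end Groth.Agent.Lib.Helper7.SyzygyB
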