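import Mathlib
import Groth.Prelude
import Groth.Agent.Lib.Helper7.SyzygyB

/-!
# `Hom` spaces versus global sections of twists (linear version)

* `twR_smulMod`: twisting commutes with scalar multiplication.
* `dict0 : (O ⟶ M) →ₗ H^0(M)`, `dictT : (L' ⟶ M) →ₗ H^0(M ⊗ L)` for `L ⊗ L' ≅ O`, both bijective and
  natural in `M`.
* `surj_top_of_surj_H0`: surjectivity on `H^0` gives surjectivity on global sections.
* `finrank_HH_of_iso`; `Hom`-level decompositions for biproducts and coproducts.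
-/
set_option autoImplicit false
universe u
open CategoryTheory CategoryTheory.Limits AlgebraicGeometry TopologicalSpace Opposite
open Scheme.Modules

noncomputable section

namespace Groth.Agent.Lib.Helper7.Gaeta

open Groth.Agent.Lib.Helper3 Groth.Agent.Lib.Helper3.QCSec Groth.Agent.Lib.Helper3.InvGen
  Groth.Agent.Lib.Helper3.InvTensor Groth.Agent.Lib.Helper3.InvMonoidal
  Groth.Agent.Lib.Helper3.TwistBasic Groth.Agent.Lib.Helper3.TwistMul
  Groth.Agent.Lib.Helper7.TwFun Groth.Agent.Lib.Helper7.TwProj Groth.Agent.Lib.Helper7.MulSurj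
  Groth.Agent.Lib.Helper7.RegRes Groth.Agent.Lib.Helper7.CohFinite
  Groth.Agent.Lib.Helper7.PnDual Groth.Agent.Lib.Helper7.PnExt
  Groth.Agent.Lib.Helper13 Groth.Agent.Lib.Helper13.SerreCrit1
  Groth.Agent.Lib.Helper7.Horrocks Groth.Agent.Lib.Helper7.TorsFree
  Groth.Agent.Lib.Helper7.LocFreePn Groth.Agent.Lib.Helper7.MumLemA Groth.Agent.Lib.Helper2
  Groth.Agent.Lib.Helper7.Syzygy Groth.Agent.Lib.Helper7.Hypersurf
  Groth.Agent.Lib.Helper7.SyzygyB

section Gen

variable {X : Scheme.{u}} (A : Type u) [CommRing A] [X.Over (Spec (CommRingCat.of A))]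

/-- twisting commutes with scalar multiplication. -/
lemma twR_smulMod (L M : X.Modules) (a : A) :
    (twR L).map (Formal.smulMod A M a) = Formal.smulMod A ((twR L).obj M) a := by
  change tensorMap (Formal.smulMod A M a) (𝟙 L) = Formal.smulMod A (CohB1.tensorMod M L) a
  apply tensor_hom_ext
  intro U m n
  rw [tensorMap_tm, id_app']
  change tm M L U ((Formal.smulModΓ M _).app U m) n =
    (Formal.smulModΓ (CohB1.tensorMod M L) _).app U (tm M L U m n)
  rw [KLin.smulModΓ_app_apply, KLin.smulModΓ_app_apply, tm_smul_left]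

lemma twR_map_smul (L : X.Modules) {M N : X.Modules} (a : A) (φ : M ⟶ N) :
    (twR L).map (a • φ) = a • (twR L).map φ := by
  rw [KLin.smul_def, KLin.smul_def, Functor.map_comp, twR_smulMod]

/-- the class of `1` in `H^0(X, O_X)`. -/
def oneH : Coh.HH X (Coh.structureModule X) 0 :=
  (Sheaf.H.equiv₀ (Coh.toAb (Coh.structureModule X))
    (isTerminalTop : IsTerminal (⊤ : X.Opens))).symm (ofFun ⊤ 1)

/-- `Hom(O, M) → H^0(M)`. -/
def dict0 (M : X.Modules) : (Coh.structureModule X ⟶ M) →ₗ[A] Coh.HH X M 0 where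
  toFun φ := Hm φ 0 oneH
  map_add' φ ψ := Hm_add φ ψ 0 oneH
  map_smul' a φ := Hm_smul A a φ 0 oneH

lemma dict0_apply (M : X.Modules) (φ : Coh.structureModule X ⟶ M) :
    dict0 A M φ = Hm φ 0 oneH := rfl

lemma equiv₀_dict0 (M : X.Modules) (φ : Coh.structureModule X ⟶ M) :
    Sheaf.H.equiv₀ (Coh.toAb M) (isTerminalTop : IsTerminal (⊤ : X.Opens)) (dict0 A M φ) =
      sec φ ⊤ := by
  have h := Sheaf.H.equiv₀_naturality (isTerminalTop : IsTerminal (⊤ : X.Opens))
    ((TT X).map φ) oneH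
  have h1 : Sheaf.H.equiv₀ (Coh.toAb (Coh.structureModule X))
      (isTerminalTop : IsTerminal (⊤ : X.Opens)) oneH = ofFun ⊤ 1 :=
    AddEquiv.apply_symm_apply _ _
  rw [h1] at h
  exact h.symm

lemma dict0_injective (M : X.Modules) : Function.Injective (dict0 A M) := by
  intro φ ψ h
  apply ProjUniq.unit_hom_ext
  have h1 := equiv₀_dict0 A M φ
  have h2 := equiv₀_dict0 A M ψ
  rw [h] at h1
  exact h1.symm.trans h2

lemma dict0_surjective (M : X.Modules) : Function.Surjective (dict0 A M) := by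
  intro x
  obtain ⟨m, hm⟩ : ∃ m : Γ(M, ⊤), m = Sheaf.H.equiv₀ (Coh.toAb M)
    (isTerminalTop : IsTerminal (⊤ : X.Opens)) x := ⟨_, rfl⟩
  refine ⟨InvAmple.globalHom M m, ?_⟩
  apply (Sheaf.H.equiv₀ (Coh.toAb M) (isTerminalTop : IsTerminal (⊤ : X.Opens))).injective
  exact (equiv₀_dict0 A M _).trans ((InvAmple.sec_globalHom M m ⊤).trans
    ((res_self M _ m).trans hm))

lemma dict0_natural {M N : X.Modules} (f : M ⟶ N) (φ : Coh.structureModule X ⟶ M) :
    dict0 A N (φ ≫ f) = HmapL A f 0 (dict0 A M φ) := Hm_comp φ f 0 oneH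

variable (L L' : X.Modules) (e : CohB1.tensorMod L L' ≅ Coh.structureModule X)
  (pair : (twR L).obj L' ≅ Coh.structureModule X)

/-- `Hom(L', M) → H^0(M ⊗ L)` for `L ⊗ L' ≅ O`. -/
def dictT (M : X.Modules) : (L' ⟶ M) →ₗ[A] Coh.HH X ((twR L).obj M) 0 where
  toFun φ := dict0 A _ (pair.inv ≫ (twR L).map φ)
  map_add' φ ψ := by
    rw [(twR L).map_add, Preadditive.comp_add, map_add]
  map_smul' a φ := by
    rw [twR_map_smul, Linear.comp_smul]
    exact (dict0 A _).map_smul a _

lemma dictT_apply (M : X.Modules) (φ : L' ⟶ M) :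
    dictT A L L' pair M φ = dict0 A _ (pair.inv ≫ (twR L).map φ) := rfl

include e in
lemma dictT_bijective (M : X.Modules) : Function.Bijective (dictT A L L' pair M) := by
  haveI := isEquivalence_twR L L' e
  constructor
  · intro φ ψ h
    have h1 := dict0_injective A _ h
    have h2 : (twR L).map φ = (twR L).map ψ := (cancel_epi pair.inv).mp h1
    exact (twR L).map_injective h2
  · intro x
    obtain ⟨g, hg⟩ := dict0_surjective A _ x
    refine ⟨(twR L).preimage (pair.hom ≫ g), ?_⟩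
    rw [dictT_apply, (twR L).map_preimage, Iso.inv_hom_id_assoc, hg]

lemma dictT_natural {M N : X.Modules} (f : M ⟶ N) (φ : L' ⟶ M) :
    dictT A L L' pair N (φ ≫ f) = HmapL A ((twR L).map f) 0 (dictT A L L' pair M φ) := by
  rw [dictT_apply, dictT_apply, (twR L).map_comp, ← Category.assoc, dict0_natural]

/-- surjectivity on `H^0` gives surjectivity on global sections. -/
lemma surj_top_of_surj_H0 {M N : X.Modules} (f : M ⟶ N)
    (h : Function.Surjective (HmapL A f 0)) : Function.Surjective (f.app ⊤) := by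
  intro z
  have hT : IsTerminal (⊤ : X.Opens) := isTerminalTop
  obtain ⟨y, hy⟩ := h ((Sheaf.H.equiv₀ (Coh.toAb N) hT).symm z)
  refine ⟨Sheaf.H.equiv₀ (Coh.toAb M) hT y, ?_⟩
  have h2 := Sheaf.H.equiv₀_naturality hT ((TT X).map f) y
  have h3 : Sheaf.H.map ((TT X).map f) 0 y = (Sheaf.H.equiv₀ (Coh.toAb N) hT).symm z := hy
  rw [h3] at h2
  exact h2.trans (AddEquiv.apply_symm_apply _ z)

/-- isomorphic modules have cohomology of the same dimension. -/
lemma HmapL_iso_bijective {M N : X.Modules} (e : M ≅ N) (j : ℕ) :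
    Function.Bijective (HmapL A e.hom j) := by
  constructor
  · intro x y h
    have h1 := congrArg (Hm e.inv j) h
    change Hm e.inv j (Hm e.hom j x) = Hm e.inv j (Hm e.hom j y) at h1
    rwa [Hm_iso_inv_hom, Hm_iso_inv_hom] at h1
  · intro y
    exact ⟨Hm e.inv j y, Hm_iso_hom_inv e j y⟩

end Gen

section Field

variable {X : Scheme.{u}} (K : Type u) [Field K] [X.Over (Spec (CommRingCat.of K))]

lemma finrank_HH_of_iso {M N : X.Modules} (e : M ≅ N) (j : ℕ) :
    Module.finrank K (Coh.HH X M j) = Module.finrank K (Coh.HH X N j) :=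
  (LinearEquiv.ofBijective (HmapL K e.hom j) (HmapL_iso_bijective K e j)).finrank_eq

/-- `Hom(S, A ⊞ B) ≃ Hom(S, A) × Hom(S, B)`, dimensions. -/
lemma finrank_hom_biprod (S A B : X.Modules) [Module.Finite K (S ⟶ A)]
    [Module.Finite K (S ⟶ B)] :
    Module.Finite K (S ⟶ A ⊞ B) ∧ Module.finrank K (S ⟶ A ⊞ B) =
      Module.finrank K (S ⟶ A) + Module.finrank K (S ⟶ B) := by
  have hb : Function.Bijective ((Linear.rightComp K S (biprod.fst : A ⊞ B ⟶ A)).prod
      (Linear.rightComp K S (biprod.snd : A ⊞ B ⟶ B))) := by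
    constructor
    · intro φ ψ h
      have h1 : φ ≫ biprod.fst = ψ ≫ biprod.fst := congrArg Prod.fst h
      have h2 : φ ≫ biprod.snd = ψ ≫ biprod.snd := congrArg Prod.snd h
      exact biprod.hom_ext _ _ h1 h2
    · rintro ⟨a, b⟩
      refine ⟨biprod.lift a b, ?_⟩
      exact Prod.ext (biprod.lift_fst a b) (biprod.lift_snd a b)
  let E := LinearEquiv.ofBijective _ hb
  exact ⟨Module.Finite.equiv E.symm, E.finrank_eq.trans (Module.finrank_prod)⟩

/-- `Hom(S, ∐_{Fin b} L)`, dimensions. -/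
lemma finrank_hom_coprod (S L : X.Modules) (b : ℕ) [Module.Finite K (S ⟶ L)] :
    Module.Finite K (S ⟶ ∐ fun _ : Fin b => L) ∧
      Module.finrank K (S ⟶ ∐ fun _ : Fin b => L) = b * Module.finrank K (S ⟶ L) := by
  let f : Fin b → X.Modules := fun _ => L
  let ec : (⨁ f) ≅ ∐ f := biproduct.isoCoproduct f
  have hb : Function.Bijective (LinearMap.pi
      (fun i : Fin b => Linear.rightComp K S (ec.inv ≫ biproduct.π f i))) := by
    constructor
    · intro φ ψ h
      have h1 : φ ≫ ec.inv = ψ ≫ ec.inv := by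
        apply biproduct.hom_ext
        intro i
        have h2 := congrFun h i
        change φ ≫ ec.inv ≫ biproduct.π f i = ψ ≫ ec.inv ≫ biproduct.π f i at h2
        rw [Category.assoc, Category.assoc]
        exact h2
      exact (cancel_mono ec.inv).mp h1
    · intro g
      refine ⟨biproduct.lift g ≫ ec.hom, ?_⟩
      funext i
      change (biproduct.lift g ≫ ec.hom) ≫ ec.inv ≫ biproduct.π f i = g i
      rw [Category.assoc, Iso.hom_inv_id_assoc, biproduct.lift_π]
  let E := LinearEquiv.ofBijective _ hb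
  refine ⟨Module.Finite.equiv E.symm, E.finrank_eq.trans ?_⟩
  rw [Module.finrank_pi_fintype]
  change ∑ _i : Fin b, Module.finrank K (S ⟶ L) = _
  rw [Finset.sum_const, Finset.card_univ, Fintype.card_fin, smul_eq_mul]

end Field

end Groth.Agent.Lib.Helper7.Gaeta
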