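import Groth.Agent.Lib.Helper7.Mumford
import Groth.Agent.Lib.Helper7.ClTransferR
import Groth.Agent.Lib.Helper7.Gaeta1
import Groth.Agent.Lib.Helper17.StalkExact
import Groth.Agent.Lib.Helper1.FFCoh
import Groth.Agent.Lib.Helper3.QProj
import Groth.Agent.S2420
import Groth.Agent.S14405
import Groth.Agent.S2357

/-!
# Hilbert polynomials on `P^n_A` via graded families of coherent modules (helper7)

A *family* on a scheme `X` is a sequence `M c` (`c : ℤ`) of coherent modules with commuting operators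
`x l c : M c ⟶ M (c+1)` (`l : ℕ`) such that `x l c` is bijective on stalks at the points of an open
`D l`.  Kernels and cokernels of one operator are again families.  If the `D l`, `l ≤ N`, cover `X`
and `χ` is an additive invariant, then `c ↦ χ (M c)` is a polynomial function (`fam_poly`).
Applied to `M c = G(c)` on `P^n_A` with the coordinates as operators this gives the Hilbert
polynomial (`exists_hilbert_poly`).
-/
set_option autoImplicit false
universe u
open CategoryTheory CategoryTheory.Limits AlgebraicGeometry TopologicalSpace Opposite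
open Scheme.Modules

noncomputable section

namespace Groth.Agent.Lib.Helper7.HilbFam

open Groth.Agent.Lib.Helper3 Groth.Agent.Lib.Helper3.QCSec Groth.Agent.Lib.Helper3.InvGen
  Groth.Agent.Lib.Helper3.InvTensor Groth.Agent.Lib.Helper3.InvMonoidal
  Groth.Agent.Lib.Helper3.TwistBasic Groth.Agent.Lib.Helper3.TwistMul
  Groth.Agent.Lib.Helper7.TwFun Groth.Agent.Lib.Helper7.TwProj
  Groth.Agent.Lib.Helper7.CohFinite Groth.Agent.Lib.Helper7.MulSurj Groth.Agent.Lib.Helper7.RegRes
  Groth.Agent.Lib.Helper17.StalkExact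

/-! ### polynomial functions on `ℤ` -/

section Poly

/-- `f : ℤ → ℚ` is given by a rational polynomial. -/
def IsPolyFun (f : ℤ → ℚ) : Prop := ∃ P : Polynomial ℚ, ∀ m : ℤ, f m = P.eval (m : ℚ)

lemma IsPolyFun.sub {f g : ℤ → ℚ} (hf : IsPolyFun f) (hg : IsPolyFun g) :
    IsPolyFun (fun m => f m - g m) := by
  obtain ⟨P, hP⟩ := hf
  obtain ⟨Q, hQ⟩ := hg
  exact ⟨P - Q, fun m => by
    show f m - g m = _
    rw [Polynomial.eval_sub, hP, hQ]⟩

lemma isPolyFun_of_diff {f g : ℤ → ℚ} (hg : IsPolyFun g)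
    (h : ∀ c : ℤ, f (c + 1) - f c = g c) : IsPolyFun f := by
  obtain ⟨P, hP⟩ := hg
  have hQe : ∀ m : ℤ, f m - f (m - 1) =
      (P.comp (Polynomial.X - Polynomial.C 1)).eval (m : ℚ) := by
    intro m
    have h1 := h (m - 1)
    rw [sub_add_cancel] at h1
    rw [h1, hP, Polynomial.eval_comp]
    simp
  by_cases hQ0 : P.comp (Polynomial.X - Polynomial.C 1) = 0
  · have hc : ∀ m : ℤ, f m = f (m - 1) := fun m => by
      have h2 := hQe m
      rw [hQ0, Polynomial.eval_zero] at h2
      linarith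
    have hconst : ∀ m : ℤ, f m = f 0 := by
      intro m
      induction m using Int.induction_on with
      | zero => rfl
      | succ i ih =>
        rw [hc ((i : ℤ) + 1), add_sub_cancel_right]
        exact ih
      | pred i ih =>
        rw [← hc (-(i : ℤ))]
        exact ih
    exact ⟨Polynomial.C (f 0), fun m => by rw [hconst m, Polynomial.eval_C]⟩
  · obtain ⟨R, -, hR⟩ := Groth.Agent.S14405.result f _ _ hQ0 rfl hQe
    exact ⟨R, hR⟩

end Poly

/-! ### two diagram chases -/

section Chase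

variable {R : Type*} [Ring R] {K M M' K' N N' : Type*}
  [AddCommGroup K] [Module R K] [AddCommGroup M] [Module R M] [AddCommGroup M'] [Module R M']
  [AddCommGroup K'] [Module R K'] [AddCommGroup N] [Module R N] [AddCommGroup N'] [Module R N']

lemma ker_chase (i : K →ₗ[R] M) (φ : M →ₗ[R] M') (i' : K' →ₗ[R] N) (ψ : N →ₗ[R] N')
    (a : K →ₗ[R] K') (b : M →ₗ[R] N) (b' : M' →ₗ[R] N')
    (hi : Function.Injective i) (hi' : Function.Injective i')
    (hex : Function.Exact i φ) (hex' : Function.Exact i' ψ)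
    (h1 : ∀ k, i' (a k) = b (i k)) (h2 : ∀ m, ψ (b m) = b' (φ m))
    (hb : Function.Bijective b) (hb' : Function.Injective b') : Function.Bijective a := by
  constructor
  · intro k k' h
    apply hi
    apply hb.1
    rw [← h1, ← h1, h]
  · intro k'
    obtain ⟨m, hm⟩ := hb.2 (i' k')
    have h3 : φ m = 0 := by
      apply hb'
      rw [← h2, hm, map_zero]
      exact (hex' (i' k')).mpr ⟨k', rfl⟩
    obtain ⟨k, hk⟩ := (hex m).mp h3
    refine ⟨k, hi' ?_⟩
    rw [h1, hk, hm]

lemma coker_chase (φ : M →ₗ[R] M') (π : M' →ₗ[R] K) (ψ : N →ₗ[R] N') (π' : N' →ₗ[R] K')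
    (b : M →ₗ[R] N) (b' : M' →ₗ[R] N') (c : K →ₗ[R] K')
    (hπ : Function.Surjective π) (hπ' : Function.Surjective π')
    (hex : Function.Exact φ π) (hex' : Function.Exact ψ π')
    (h1 : ∀ m, ψ (b m) = b' (φ m)) (h2 : ∀ m', π' (b' m') = c (π m'))
    (hb : Function.Surjective b) (hb' : Function.Bijective b') : Function.Bijective c := by
  constructor
  · rw [injective_iff_map_eq_zero]
    intro x hx
    obtain ⟨m', rfl⟩ := hπ x
    rw [← h2] at hx
    obtain ⟨n, hn⟩ := (hex' _).mp hx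
    obtain ⟨m, rfl⟩ := hb n
    rw [h1] at hn
    have h3 := hb'.1 hn
    rw [← h3]
    exact (hex _).mpr ⟨m, rfl⟩
  · intro y
    obtain ⟨n', rfl⟩ := hπ' y
    obtain ⟨m', rfl⟩ := hb'.2 n'
    exact ⟨π m', (h2 m').symm⟩

end Chase

/-! ### stalks -/

section Stalk

variable {X : Scheme.{u}}

lemma stalkLin_comp {F G H : X.Modules} (φ : F ⟶ G) (ψ : G ⟶ H) (x : X)
    (m : F.presheaf.stalk x) : stalkLin (φ ≫ ψ) x m = stalkLin ψ x (stalkLin φ x m) :=
  QS.stalkMap_comp_apply φ ψ x m

lemma stalkLin_zero {F G : X.Modules} (x : X) (m : F.presheaf.stalk x) :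
    stalkLin (0 : F ⟶ G) x m = 0 :=
  QS.stalkMap_zero_apply x m

/-- a morphism which is bijective on sections over all small opens near `x` is bijective on the
stalk at `x`. -/
lemma loc_bij_stalk {F G : X.Modules} (φ : F ⟶ G) (x : X) (U : X.Opens) (hx : x ∈ U)
    (h : ∀ V : X.Opens, V ≤ U → Function.Bijective (fun s : Γ(F, V) => φ.app V s)) :
    Function.Bijective (stalkLin φ x) := by
  constructor
  · rw [injective_iff_map_eq_zero]
    intro m hm
    obtain ⟨W, hxW, s, rfl⟩ := TopCat.Presheaf.exists_germ_eq F.presheaf m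
    have hxV : x ∈ W ⊓ U := ⟨hxW, hx⟩
    have e1 : F.presheaf.germ (W ⊓ U) x hxV
        (F.presheaf.map (homOfLE (inf_le_left : W ⊓ U ≤ W)).op s) = F.presheaf.germ W x hxW s :=
      TopCat.Presheaf.germ_res_apply F.presheaf (homOfLE inf_le_left) x hxV s
    rw [← e1] at hm ⊢
    have h1 : G.presheaf.germ (W ⊓ U) x hxV
        (φ.app (W ⊓ U) (F.presheaf.map (homOfLE (inf_le_left : W ⊓ U ≤ W)).op s)) =
        G.presheaf.germ (W ⊓ U) x hxV (0 : Γ(G, W ⊓ U)) := by
      rw [← QS.stalkMap_germ, map_zero]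
      exact hm
    obtain ⟨V', hxV', iU, iV, he⟩ := TopCat.Presheaf.germ_eq G.presheaf x hxV hxV _ _ h1
    rw [map_zero] at he
    have h2 : φ.app V' (F.presheaf.map iU.op
        (F.presheaf.map (homOfLE (inf_le_left : W ⊓ U ≤ W)).op s)) = 0 := by
      rw [← he]
      exact QCExact.app_res' φ iU.le _
    have h3 : F.presheaf.map iU.op
        (F.presheaf.map (homOfLE (inf_le_left : W ⊓ U ≤ W)).op s) = 0 := by
      apply (h V' (iU.le.trans inf_le_right)).1
      dsimp only
      rw [h2]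
      exact (QCExact.app_zero φ V').symm
    rw [← TopCat.Presheaf.germ_res_apply F.presheaf iU x hxV' _, h3, map_zero]
  · intro t
    obtain ⟨W, hxW, s, rfl⟩ := TopCat.Presheaf.exists_germ_eq G.presheaf t
    have hxV : x ∈ W ⊓ U := ⟨hxW, hx⟩
    obtain ⟨r, hr⟩ := (h (W ⊓ U) inf_le_right).2
      (G.presheaf.map (homOfLE (inf_le_left : W ⊓ U ≤ W)).op s)
    refine ⟨F.presheaf.germ (W ⊓ U) x hxV r, ?_⟩
    rw [stalkLin_apply, QS.stalkMap_germ]
    dsimp only at hr
    rw [hr]
    exact TopCat.Presheaf.germ_res_apply G.presheaf (homOfLE inf_le_left) x hxV s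

lemma exact_ker_stalk {F G : X.Modules} (φ : F ⟶ G) (p : X) :
    Function.Exact (stalkLin (kernel.ι φ) p) (stalkLin φ p) := by
  haveI : Mono (ShortComplex.mk (kernel.ι φ) φ (kernel.condition φ)).f :=
    inferInstanceAs (Mono (kernel.ι φ))
  exact stalkLin_exact (ShortComplex.mk (kernel.ι φ) φ (kernel.condition φ))
    (ShortComplex.exact_kernel φ) p

lemma exact_coker_stalk {F G : X.Modules} (φ : F ⟶ G) (p : X) :
    Function.Exact (stalkLin φ p) (stalkLin (cokernel.π φ) p) := by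
  intro m
  constructor
  · intro hm
    obtain ⟨i, hi⟩ := (exact_ker_stalk (cokernel.π φ) p m).mp hm
    obtain ⟨m', hm'⟩ := stalkLin_surjective (Abelian.factorThruImage φ) p i
    refine ⟨m', ?_⟩
    rw [← hi, ← hm', ← stalkLin_comp]
    congr 2
    exact (Abelian.image.fac φ).symm
  · rintro ⟨m', rfl⟩
    rw [← stalkLin_comp, cokernel.condition]
    exact stalkLin_zero p m'

end Stalk

/-! ### families -/

section Fam

variable {X : Scheme.{u}} [IsLocallyNoetherian X] (D : ℕ → X.Opens) (N : ℕ)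

/-- a graded family of coherent modules with commuting operators, the `l`-th operator being
invertible on stalks over `D l`. -/
structure Fam where
  M : ℤ → X.Modules
  x : ℕ → ∀ c : ℤ, M c ⟶ M (c + 1)
  coh : ∀ c, Coh.IsCoh (M c)
  comm : ∀ l m c, x l c ≫ x m (c + 1) = x m c ≫ x l (c + 1)
  loc : ∀ l, l ≤ N → ∀ (c : ℤ) (p : X), p ∈ D l → Function.Bijective (stalkLin (x l c) p)

lemma isCoh_cokernel {F G : X.Modules} (φ : F ⟶ G) (hF : Coh.IsCoh F) (hG : Coh.IsCoh G) :
    Coh.IsCoh (cokernel φ) := by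
  haveI := hF.1
  haveI := hF.2
  haveI := hG.1
  haveI := hG.2
  haveI hC : (cokernel φ : X.Modules).IsQuasicoherent := QCProps.isQuasicoherent_cokernel φ
  exact ⟨hC, QCProps.isFiniteType_of_epi (cokernel.π φ)⟩

variable {D N}

/-- the family of kernels of the `j`-th operator. -/
def Fam.ker (F : Fam D N) (j : ℕ) : Fam D N where
  M c := kernel (F.x j c)
  x l c := kernel.map (F.x j c) (F.x j (c + 1)) (F.x l c) (F.x l (c + 1)) (F.comm j l c)
  coh c := Groth.Agent.Lib.Helper1.FFCoh.isCoh_kernel (F.x j c) (F.coh c) (F.coh (c + 1))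
  comm l m c := by
    apply (cancel_mono (kernel.ι (F.x j (c + 1 + 1)))).mp
    simp only [Category.assoc, kernel.lift_ι, kernel.lift_ι_assoc]
    rw [F.comm l m c]
  loc l hl c p hp := by
    refine ker_chase (stalkLin (kernel.ι (F.x j c)) p) (stalkLin (F.x j c) p)
      (stalkLin (kernel.ι (F.x j (c + 1))) p) (stalkLin (F.x j (c + 1)) p)
      (stalkLin (kernel.map (F.x j c) (F.x j (c + 1)) (F.x l c) (F.x l (c + 1))
        (F.comm j l c)) p)
      (stalkLin (F.x l c) p) (stalkLin (F.x l (c + 1)) p)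
      (stalkLin_injective _ p) (stalkLin_injective _ p)
      (exact_ker_stalk _ p) (exact_ker_stalk _ p) ?_ ?_
      (F.loc l hl c p hp) (F.loc l hl (c + 1) p hp).1
    · intro k
      rw [← stalkLin_comp, ← stalkLin_comp]
      congr 2
      exact kernel.lift_ι _ _ _
    · intro m
      rw [← stalkLin_comp, ← stalkLin_comp, F.comm l j c]

/-- the family of cokernels of the `j`-th operator. -/
def Fam.coker (F : Fam D N) (j : ℕ) : Fam D N where
  M c := cokernel (F.x j c)
  x l c := cokernel.map (F.x j c) (F.x j (c + 1)) (F.x l c) (F.x l (c + 1)) (F.comm j l c)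
  coh c := isCoh_cokernel (F.x j c) (F.coh c) (F.coh (c + 1))
  comm l m c := by
    apply (cancel_epi (cokernel.π (F.x j c))).mp
    simp only [cokernel.π_desc_assoc, Category.assoc, cokernel.π_desc]
    have h := F.comm l m (c + 1)
    rw [← Category.assoc, h, Category.assoc]
  loc l hl c p hp := by
    refine coker_chase (stalkLin (F.x j c) p) (stalkLin (cokernel.π (F.x j c)) p)
      (stalkLin (F.x j (c + 1)) p) (stalkLin (cokernel.π (F.x j (c + 1))) p)
      (stalkLin (F.x l c) p) (stalkLin (F.x l (c + 1)) p)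
      (stalkLin (cokernel.map (F.x j c) (F.x j (c + 1)) (F.x l c) (F.x l (c + 1))
        (F.comm j l c)) p)
      (stalkLin_surjective _ p) (stalkLin_surjective _ p)
      (exact_coker_stalk _ p) (exact_coker_stalk _ p) ?_ ?_
      (F.loc l hl c p hp).2 (F.loc l hl (c + 1) p hp)
    · intro m
      rw [← stalkLin_comp, ← stalkLin_comp, F.comm l j c]
    · intro m'
      rw [← stalkLin_comp, ← stalkLin_comp]
      congr 2
      exact (cokernel.π_desc _ _ _).symm

lemma Fam.ker_x_eq_zero (F : Fam D N) (j l : ℕ) (c : ℤ) (h : l = j ∨ F.x l c = 0) :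
    (F.ker j).x l c = 0 := by
  show kernel.map (F.x j c) (F.x j (c + 1)) (F.x l c) (F.x l (c + 1)) (F.comm j l c) = 0
  apply (cancel_mono (kernel.ι (F.x j (c + 1)))).mp
  rw [zero_comp, kernel.lift_ι]
  rcases h with rfl | h
  · exact kernel.condition _
  · rw [h, comp_zero]

lemma Fam.coker_x_eq_zero (F : Fam D N) (j l : ℕ) (c : ℤ) (h : l = j ∨ F.x l (c + 1) = 0) :
    (F.coker j).x l c = 0 := by
  show cokernel.map (F.x j c) (F.x j (c + 1)) (F.x l c)
    (F.x l (c + 1)) (F.comm j l c) = 0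
  apply (cancel_epi (cokernel.π (F.x j c))).mp
  rw [comp_zero, cokernel.π_desc]
  rcases h with rfl | h
  · exact cokernel.condition _
  · rw [h, zero_comp]

/-- Euler characteristics of a family are polynomial. -/
theorem fam_poly (χ : X.Modules → ℤ) (hcov : ∀ p : X, ∃ l, l ≤ N ∧ p ∈ D l)
    (hzero : ∀ F : X.Modules, IsZero F → χ F = 0)
    (hfour : ∀ {F G : X.Modules} (φ : F ⟶ G), Coh.IsCoh F → Coh.IsCoh G →
      χ G - χ F = χ (cokernel φ) - χ (kernel φ)) :
    ∀ (j : ℕ) (F : Fam D N), (∀ l c, j ≤ l → l ≤ N → F.x l c = 0) →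
      IsPolyFun (fun c => (χ (F.M c) : ℚ)) := by
  intro j
  induction j with
  | zero =>
    intro F hz
    have h0 : ∀ c, χ (F.M c) = 0 := by
      intro c
      apply hzero
      apply QS.isZero_of_subsingleton_stalk
      intro p
      obtain ⟨l, hl, hp⟩ := hcov p
      have hb := (F.loc l hl c p hp).1
      rw [hz l c (Nat.zero_le _) hl] at hb
      exact ⟨fun a b => hb (by rw [stalkLin_zero, stalkLin_zero])⟩
    exact ⟨0, fun c => by simp [h0 c]⟩
  | succ j ih =>
    intro F hz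
    have hK := ih (F.ker j) (fun l c hl hln => F.ker_x_eq_zero j l c (by
      rcases Nat.eq_or_lt_of_le hl with h | h
      · exact Or.inl h.symm
      · exact Or.inr (hz l c h hln)))
    have hC := ih (F.coker j) (fun l c hl hln => F.coker_x_eq_zero j l c (by
      rcases Nat.eq_or_lt_of_le hl with h | h
      · exact Or.inl h.symm
      · exact Or.inr (hz l (c + 1) h hln)))
    refine isPolyFun_of_diff (hC.sub hK) (fun c => ?_)
    have h4 := hfour (F.x j c) (F.coh c) (F.coh (c + 1))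
    show ((χ (F.M (c + 1)) : ℤ) : ℚ) - (χ (F.M c) : ℚ) =
      (χ (cokernel (F.x j c)) : ℚ) - (χ (kernel (F.x j c)) : ℚ)
    exact_mod_cast h4

end Fam

/-! ### Euler characteristics on `P^n_A` -/

section Pn

variable (n : ℕ) (A : Type u) [CommRing A] [IsArtinianRing A]

/-- the Euler characteristic (alternating sum of lengths) on `P^n_A`. -/
def chi (F : (CohB1.ProjSpace n A).Modules) : ℤ :=
  (Finset.range (n + 1)).sum fun j => (-1 : ℤ) ^ j *
    ((Module.length A (Coh.HH (CohB1.ProjSpace n A) F j)).toNat : ℤ)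

lemma subsingleton_HH_of_isZero {X : Scheme.{u}} {F : X.Modules} (h : IsZero F) (j : ℕ) :
    Subsingleton (Coh.HH X F j) := by
  have key : ∀ a : Coh.HH X F j, a = 0 := by
    intro a
    have h1 := Hm_id F j a
    rw [h.eq_of_src (𝟙 F) 0, Hm_zero] at h1
    exact h1.symm
  exact ⟨fun a b => by rw [key a, key b]⟩

lemma chi_zero (F : (CohB1.ProjSpace n A).Modules) (h : IsZero F) : chi n A F = 0 := by
  unfold chi
  apply Finset.sum_eq_zero
  intro j _
  haveI := subsingleton_HH_of_isZero h j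
  rw [Module.length_eq_zero]
  simp

lemma chi_iso {F G : (CohB1.ProjSpace n A).Modules} (e : F ≅ G) : chi n A F = chi n A G := by
  unfold chi
  refine Finset.sum_congr rfl fun j _ => ?_
  rw [(LinearEquiv.ofBijective (HmapL A e.hom j) (Gaeta.HmapL_iso_bijective A e j)).length_eq]

lemma chi_add (S : ShortComplex (CohB1.ProjSpace n A).Modules) (hS : S.ShortExact)
    (h1 : Coh.IsCoh S.X₁) (h2 : Coh.IsCoh S.X₂) (h3 : Coh.IsCoh S.X₃) :
    chi n A S.X₂ = chi n A S.X₁ + chi n A S.X₃ := by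
  haveI : IsProper ((CohB1.ProjSpace n A) ↘ Spec (CommRingCat.of A)) :=
    QProj.isProper_toSpec A n
  exact Groth.Agent.S2420.result A (CohB1.ProjSpace n A) S hS h1 h2 h3 n
    (fun i hi => ⟨@Mumford.hvan n A _ S.X₁ h1.1 i hi, @Mumford.hvan n A _ S.X₂ h2.1 i hi,
      @Mumford.hvan n A _ S.X₃ h3.1 i hi⟩)

instance instNoeth : IsNoetherian (CohB1.ProjSpace n A) :=
  Groth.Agent.S2357.result (CohB1.polyGrading n A)

lemma chi_four {F G : (CohB1.ProjSpace n A).Modules} (φ : F ⟶ G) (hF : Coh.IsCoh F)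
    (hG : Coh.IsCoh G) :
    chi n A G - chi n A F = chi n A (cokernel φ) - chi n A (kernel φ) := by
  have hK : Coh.IsCoh (kernel φ) := Groth.Agent.Lib.Helper1.FFCoh.isCoh_kernel φ hF hG
  have hC : Coh.IsCoh (cokernel φ) := isCoh_cokernel φ hF hG
  have hI : Coh.IsCoh (kernel (cokernel.π φ)) :=
    Groth.Agent.Lib.Helper1.FFCoh.isCoh_kernel _ hG hC
  have hI' : Coh.IsCoh (cokernel (kernel.ι φ)) := isCoh_cokernel _ hK hF
  have e1 := chi_add n A
    (ShortComplex.mk (kernel.ι φ) (cokernel.π (kernel.ι φ)) (cokernel.condition _))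
    (ShortComplex.ShortExact.mk' (ShortComplex.exact_cokernel _)
      (inferInstanceAs (Mono (kernel.ι φ))) (inferInstanceAs (Epi (cokernel.π (kernel.ι φ)))))
    hK hF hI'
  have e2 := chi_add n A
    (ShortComplex.mk (kernel.ι (cokernel.π φ)) (cokernel.π φ) (kernel.condition _))
    (Groth.Agent.Lib.Helper7.CechCard.shortExact_kernel (cokernel.π φ)) hI hG hC
  have e3 : chi n A (cokernel (kernel.ι φ)) = chi n A (kernel (cokernel.π φ)) :=
    chi_iso n A (Abelian.coimageIsoImage φ)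
  dsimp only at e1 e2
  omega

/-! ### the family of twists -/

/-- `D₊(x_l)`. -/
def DD (l : ℕ) : (CohB1.ProjSpace n A).Opens :=
  Proj.basicOpen (CohB1.polyGrading n A)
    ((Mumford.fs n A l : (CohB1.polyGrading n A) 1) : MvPolynomial (Fin (n + 1)) A)

end Pn

section Tw

variable {R A : Type u} [CommRing R] [CommRing A] [Algebra R A] {𝒜 : ℕ → Submodule R A}
  [GradedAlgebra 𝒜]

lemma mulBy_comm (f g : 𝒜 1) (c : ℤ) :
    mulBy f c ≫ mulBy g (c + 1) = mulBy g c ≫ mulBy f (c + 1) := by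
  apply Scheme.Modules.hom_ext
  intro U
  ext e
  change mulSec (mulSec e (fsec f U)) (fsec g U) = mulSec (mulSec e (fsec g U)) (fsec f U)
  apply val_ext
  intro x
  rw [val_mulSec, val_mulSec, val_mulSec, val_mulSec, mul_right_comm]

lemma sig_comm (f g : 𝒜 1) (c : ℤ) (G : (Proj 𝒜).Modules) :
    sig f c G ≫ sig g (c + 1) G = sig g c G ≫ sig f (c + 1) G := by
  unfold sig
  rw [← tensorMap_comp, ← tensorMap_comp, mulBy_comm]

lemma isGen_mulBy (f : 𝒜 1) (c : ℤ) (U : (Proj 𝒜).Opens)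
    (hU : U ≤ Proj.basicOpen 𝒜 (f : A)) (e : Γ(Twist.twist 𝒜 c, U))
    (hg : IsGen (Twist.twist 𝒜 c) U e) :
    IsGen (Twist.twist 𝒜 (c + 1)) U ((mulBy f c).app U e) := by
  intro V hV
  have h1 := hg V hV
  have h2 := mulBy_bijective f c V (hV.trans hU)
  have h3 : (fun a : Γ(Proj 𝒜, V) =>
      a • res (Twist.twist 𝒜 (c + 1)) hV ((mulBy f c).app U e)) =
      (fun e' : Γ(Twist.twist 𝒜 c, V) => (mulBy f c).app V e') ∘
        (fun a : Γ(Proj 𝒜, V) => a • res (Twist.twist 𝒜 c) hV e) := by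
    funext a
    change _ = (mulBy f c).app V (a • res (Twist.twist 𝒜 c) hV e)
    rw [Scheme.Modules.Hom.app_smul, QCExact.app_res']
  unfold IsGenAt
  rw [h3]
  exact h2.comp h1

lemma sig_app_bijective (f : 𝒜 1) (c : ℤ) (G : (Proj 𝒜).Modules) (U : (Proj 𝒜).Opens)
    (hU : U ≤ Proj.basicOpen 𝒜 (f : A)) (e : Γ(Twist.twist 𝒜 c, U))
    (hg : IsGen (Twist.twist 𝒜 c) U e) (V : (Proj 𝒜).Opens) (hV : V ≤ U) :
    Function.Bijective
      (fun s : Γ(CohB1.tensorMod G (Twist.twist 𝒜 c), V) => (sig f c G).app V s) := by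
  have hg' := isGen_mulBy f c U hU e hg
  have b1 := tm_gen_bijective G (Twist.twist 𝒜 c) hg V hV
  have b2 := tm_gen_bijective G (Twist.twist 𝒜 (c + 1)) hg' V hV
  have key : ∀ t : Γ(G, V), (sig f c G).app V (tm G _ V t (res (Twist.twist 𝒜 c) hV e)) =
      tm G _ V t (res (Twist.twist 𝒜 (c + 1)) hV ((mulBy f c).app U e)) := by
    intro t
    rw [sig_tm, QCExact.app_res']
  constructor
  · intro s s' h
    obtain ⟨t, rfl⟩ := b1.2 s
    obtain ⟨t', rfl⟩ := b1.2 s'
    dsimp only at h ⊢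
    rw [key, key] at h
    rw [b2.1 h]
  · intro y
    obtain ⟨t, rfl⟩ := b2.2 y
    exact ⟨tm G _ V t (res (Twist.twist 𝒜 c) hV e), key t⟩

lemma sig_stalk_bijective (hU : HU 𝒜) (f : 𝒜 1) (c : ℤ) (G : (Proj 𝒜).Modules)
    (p : Proj 𝒜) (hp : p ∈ Proj.basicOpen 𝒜 (f : A)) :
    Function.Bijective (stalkLin (sig f c G) p) := by
  obtain ⟨U₀, hpU₀, hfr⟩ := hU c p
  obtain ⟨e, hg⟩ := (hfr.mono (inf_le_left : U₀ ⊓ Proj.basicOpen 𝒜 (f : A) ≤ U₀)).exists_isGen
  exact loc_bij_stalk (sig f c G) p (U₀ ⊓ Proj.basicOpen 𝒜 (f : A)) ⟨hpU₀, hp⟩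
    (fun V hV => sig_app_bijective f c G _ inf_le_right e hg V hV)

end Tw

section Main

variable (n : ℕ) (A : Type u) [CommRing A] [IsArtinianRing A]

lemma isCoh_tw' (G : (CohB1.ProjSpace n A).Modules) (hG : Coh.IsCoh G) (c : ℤ) :
    Coh.IsCoh (CohB1.tensorMod G (Twist.twistProjSpace n A c)) := by
  haveI := hG.1
  haveI := hG.2
  exact ⟨Mumford.isQCoh_tw n A G hG.1 c,
    InvCoh.isFiniteType_tensorMod G _ (isInvertible_twist (Mumford.hU n A) c)⟩

/-- the family `c ↦ G(c)` with the coordinates as operators. -/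
def twFam (G : (CohB1.ProjSpace n A).Modules) (hG : Coh.IsCoh G) :
    Fam (X := CohB1.ProjSpace n A) (DD n A) n where
  M c := CohB1.tensorMod G (Twist.twistProjSpace n A c)
  x l c := TwProj.sig (𝒜 := CohB1.polyGrading n A) (Mumford.fs n A l) c G
  coh c := isCoh_tw' n A G hG c
  comm l m c := sig_comm (𝒜 := CohB1.polyGrading n A) (Mumford.fs n A l) (Mumford.fs n A m) c G
  loc l _ c p hp := sig_stalk_bijective (Mumford.hU n A) (Mumford.fs n A l) c G p hp

/-- **Hilbert polynomial** on `P^n_A`, `A` Artinian. -/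
theorem exists_hilbert_poly (G : (CohB1.ProjSpace n A).Modules) (hG : Coh.IsCoh G) :
    ∃ P : Polynomial ℚ, ∀ m : ℤ,
      (chi n A (CohB1.tensorMod G (Twist.twistProjSpace n A m)) : ℚ) = P.eval (m : ℚ) :=
  fam_poly (chi n A) (Mumford.hcov n A) (chi_zero n A)
    (fun φ hF hG => chi_four n A φ hF hG)
    (n + 1) (twFam n A G hG) (fun l c hl hln => absurd hln (by omega))

end Main

end Groth.Agent.Lib.Helper7.HilbFam
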