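import Groth.Agent.Lib.Helper23.DegTensorGen
import Groth.Agent.Lib.Helper23.AmpleCurve4
import Groth.Agent.Lib.Helper23.StructPush
import Groth.Agent.Lib.Helper13.ProjFormulaLF
import Groth.Agent.Lib.Helper17.LocFreeRank

/-!
# DegPull: `deg f^*E = [K(X):K(Y)] · deg E` for a non-constant morphism of integral proper curves
-/
set_option autoImplicit false
set_option linter.style.haveILetI false
universe u
open CategoryTheory CategoryTheory.Limits AlgebraicGeometry TopologicalSpace Opposite
open Scheme.Modules

noncomputable section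

namespace Groth.Agent.Lib.Helper7.DegPull

open Groth.Agent.Lib.Helper3 Groth.Agent.Lib.Helper3.QCSec Groth.Agent.Lib.Helper3.InvGen
  Groth.Agent.Lib.Helper3.InvMonoidal Groth.Agent.Lib.Helper3.FreeBasis
  Groth.Agent.Lib.Helper3.SecLoc
  Groth.Agent.Lib.Helper7.TwFun
open Groth.Agent.Lib.Helper23.T2 Groth.Agent.Lib.Helper23.Curve Groth.Agent.Lib.Helper23.Twist
  Groth.Agent.Lib.Helper23.TwE Groth.Agent.Lib.Helper23.TensorPts
  Groth.Agent.Lib.Helper23.EffCart Groth.Agent.Lib.Helper23.Dev
  Groth.Agent.Lib.Helper23.DegTensorGen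

/-! ### algebra -/

section Alg

/-- transport a basis between two models of a localized module -/
lemma nonempty_basis_of_isLocalizedModule {R : Type*} [CommRing R] (S : Submonoid R)
    {A₁ A₂ : Type*} [CommRing A₁] [CommRing A₂] [Algebra R A₁] [Algebra R A₂]
    [IsLocalization S A₁] [IsLocalization S A₂]
    {M M₁ M₂ : Type*} [AddCommGroup M] [AddCommGroup M₁] [AddCommGroup M₂]
    [Module R M] [Module R M₁] [Module R M₂] [Module A₁ M₁] [Module A₂ M₂]
    [IsScalarTower R A₁ M₁] [IsScalarTower R A₂ M₂]
    (ℓ₁ : M →ₗ[R] M₁) (ℓ₂ : M →ₗ[R] M₂) [IsLocalizedModule S ℓ₁] [IsLocalizedModule S ℓ₂]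
    {ι : Type*} (b : Module.Basis ι A₁ M₁) : Nonempty (Module.Basis ι A₂ M₂) := by
  let eR : A₁ ≃ₐ[R] A₂ := IsLocalization.algEquiv S A₁ A₂
  let eM : M₁ ≃ₗ[R] M₂ := IsLocalizedModule.linearEquiv S ℓ₁ ℓ₂
  letI : Module A₁ M₂ := Module.compHom M₂ (eR : A₁ →+* A₂)
  haveI : IsScalarTower R A₁ M₂ := ⟨fun r a m => by
    change eR (r • a) • m = r • (eR a • m)
    rw [_root_.map_smul, smul_assoc]⟩
  let eM' : M₁ ≃ₗ[A₁] M₂ := eM.extendScalarsOfIsLocalization S A₁
  let b₂ : Module.Basis ι A₁ M₂ := b.map eM'
  exact ⟨b₂.mapCoeffs eR.toRingEquiv (fun c x => rfl)⟩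

end Alg

variable {X Y : Scheme.{u}}

/-- residue degree at a point whose stalks are fields -/
lemma finrank_stalk_eq_residueDegree (f : X ⟶ Y) (x : X) (hX : IsField (X.presheaf.stalk x))
    (hY : IsField (Y.presheaf.stalk (f.base x))) :
    letI := (f.stalkMap x).hom.toAlgebra
    Module.finrank (Y.presheaf.stalk (f.base x)) (X.presheaf.stalk x) = f.residueDegree x := by
  letI := (f.stalkMap x).hom.toAlgebra
  letI := (f.residueFieldMap x).hom.toAlgebra
  letI := hX.toField
  letI := hY.toField
  let i : Y.presheaf.stalk (f.base x) ≃+* Y.residueField (f.base x) :=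
    RingEquiv.ofBijective (Y.residue (f.base x)).hom
      ⟨RingHom.injective _, IsLocalRing.residue_surjective⟩
  let j : X.presheaf.stalk x ≃+* X.residueField x :=
    RingEquiv.ofBijective (X.residue x).hom
      ⟨RingHom.injective _, IsLocalRing.residue_surjective⟩
  exact Algebra.finrank_eq_of_equiv_equiv i j
    (RingHom.ext fun a => congrArg (fun φ : Y.presheaf.stalk (f.base x) ⟶ X.residueField x => φ.hom a)
      (Scheme.residue_residueFieldMap f x))

lemma topologicalKrullDim_le_zero_of_subsingleton (T : Type*) [TopologicalSpace T]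
    [Subsingleton T] : topologicalKrullDim T ≤ 0 := by
  haveI : Subsingleton (IrreducibleCloseds T) := ⟨fun Z1 Z2 => by
    apply IrreducibleCloseds.ext
    ext y
    obtain ⟨z1, hz1⟩ := Z1.isIrreducible.nonempty
    obtain ⟨z2, hz2⟩ := Z2.isIrreducible.nonempty
    constructor
    · intro _
      rwa [Subsingleton.elim y z2]
    · intro _
      rwa [Subsingleton.elim y z1]⟩
  exact Order.krullDim_nonpos_of_subsingleton

/-- the stalk at the generic point, presented at an arbitrary point equal to it -/
lemma stalk_of_eq_genericPoint [IsIntegral Y] (y : Y) (hy : y = genericPoint Y) (V : Y.Opens)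
    (hV : IsAffineOpen V) (hyV : y ∈ V) :
    IsField (Y.presheaf.stalk y) ∧
      (letI := (Y.presheaf.germ V y hyV).hom.toAlgebra
       IsFractionRing Γ(Y, V) (Y.presheaf.stalk y)) := by
  subst hy
  haveI : Nonempty V := ⟨⟨_, hyV⟩⟩
  exact ⟨Field.toIsField Y.functionField, functionField_isFractionRing_of_isAffineOpen Y V hV⟩

/-- sections of `f_* O_X` over an affine open are finite over the functions, for finite `f` -/
theorem finite_sections_push (f : X ⟶ Y) [IsFinite f] (V : Y.Opens) (hV : IsAffineOpen V) :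
    Module.Finite Γ(Y, V) Γ((pushforward f).obj (Coh.structureModule X), V) := by
  have h := IsFinite.finite_app f V hV
  letI := (f.app V).hom.toAlgebra
  haveI : Module.Finite Γ(Y, V) Γ(X, f ⁻¹ᵁ V) := h
  let e : Γ(X, f ⁻¹ᵁ V) →ₗ[Γ(Y, V)] Γ((pushforward f).obj (Coh.structureModule X), V) :=
    { toFun := fun m => m
      map_add' := fun _ _ => rfl
      map_smul' := fun _ _ => rfl }
  exact Module.Finite.of_surjective e (fun m => ⟨m, rfl⟩)

theorem isCoh_push_structure (f : X ⟶ Y) [IsFinite f] :
    Coh.IsCoh ((pushforward f).obj (Coh.structureModule X)) := by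
  haveI : ((pushforward f).obj (Coh.structureModule X)).IsQuasicoherent :=
    QCSec.isQuasicoherent_pushforward f _
  exact ⟨inferInstance, (QCProps.isFiniteType_iff_finite_sections _).2
    (fun V hV => finite_sections_push f V hV)⟩


/-! ### a generic basis of `f_* O_X` -/

section GenBasis

attribute [local instance] SecLoc.modBasicOpen

set_option maxHeartbeats 1600000 in
/-- for a finite dominant morphism of integral schemes, `f_* O_X` is free of rank
`[K(X) : K(Y)]` over a dense open of `Y` -/
theorem exists_isBasis_push [IsIntegral X] [IsIntegral Y] [IsLocallyNoetherian Y] (f : X ⟶ Y)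
    [IsFinite f] (hξ : f.base (genericPoint X) = genericPoint Y) :
    ∃ (U : Y.Opens) (e : Fin (f.residueDegree (genericPoint X)) →
        Γ((pushforward f).obj (Coh.structureModule X), U)),
      Dense (U : Set Y) ∧ IsBasis ((pushforward f).obj (Coh.structureModule X)) U e := by
  classical
  haveI : ((pushforward f).obj (Coh.structureModule X)).IsQuasicoherent :=
    QCSec.isQuasicoherent_pushforward f _
  obtain ⟨V, hV, hyV⟩ := QCProps.exists_affine_nbhd (f.base (genericPoint X))
  have hW : IsAffineOpen (f ⁻¹ᵁ V) := hV.preimage f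
  have hηW : genericPoint X ∈ f ⁻¹ᵁ V := hyV
  haveI : Nonempty (f ⁻¹ᵁ V : X.Opens) := ⟨⟨genericPoint X, hηW⟩⟩
  haveI : Nonempty V := ⟨⟨f.base (genericPoint X), hyV⟩⟩
  obtain ⟨hKY, hfrac⟩ := stalk_of_eq_genericPoint (f.base (genericPoint X)) hξ V hV hyV
  have hKX : IsField (X.presheaf.stalk (genericPoint X)) := Field.toIsField X.functionField
  have hdeg := finrank_stalk_eq_residueDegree f (genericPoint X) hKX hKY
  -- the rings
  letI : Field (Y.presheaf.stalk (f.base (genericPoint X))) := hKY.toField
  letI algRKY : Algebra Γ(Y, V) (Y.presheaf.stalk (f.base (genericPoint X))) :=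
    (Y.presheaf.germ V (f.base (genericPoint X)) hyV).hom.toAlgebra
  haveI : IsFractionRing Γ(Y, V) (Y.presheaf.stalk (f.base (genericPoint X))) := hfrac
  letI algRB : Algebra Γ(Y, V) Γ(X, f ⁻¹ᵁ V) := (f.app V).hom.toAlgebra
  letI algK : Algebra (Y.presheaf.stalk (f.base (genericPoint X))) X.functionField :=
    (f.stalkMap (genericPoint X)).hom.toAlgebra
  letI algRKX : Algebra Γ(Y, V) X.functionField :=
    ((algebraMap Γ(X, f ⁻¹ᵁ V) X.functionField).comp (f.app V).hom).toAlgebra
  haveI t1 : IsScalarTower Γ(Y, V) Γ(X, f ⁻¹ᵁ V) X.functionField :=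
    IsScalarTower.of_algebraMap_eq (fun r => rfl)
  haveI t2 : IsScalarTower Γ(Y, V) (Y.presheaf.stalk (f.base (genericPoint X)))
      X.functionField :=
    IsScalarTower.of_algebraMap_eq (fun r =>
      (Scheme.Hom.germ_stalkMap_apply f V (genericPoint X) hyV r).symm)
  have hinj : Function.Injective (f.app V).hom := by
    intro a b hab
    apply germ_injective_of_isIntegral Y (f.base (genericPoint X)) hyV
    apply (f.stalkMap (genericPoint X)).hom.injective
    have e1 := Scheme.Hom.germ_stalkMap_apply f V (genericPoint X) hyV a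
    have e2 := Scheme.Hom.germ_stalkMap_apply f V (genericPoint X) hyV b
    exact e1.trans ((congrArg
      (fun t => (X.presheaf.germ (f ⁻¹ᵁ V) (genericPoint X) hηW).hom t) hab).trans e2.symm)
  haveI : FaithfulSMul Γ(Y, V) Γ(X, f ⁻¹ᵁ V) :=
    (faithfulSMul_iff_algebraMap_injective _ _).mpr hinj
  haveI hfinB : Module.Finite Γ(Y, V) Γ(X, f ⁻¹ᵁ V) := IsFinite.finite_app f V hV
  haveI : IsNoetherianRing Γ(Y, V) := IsLocallyNoetherian.component_noetherian ⟨V, hV⟩
  haveI : Algebra.IsIntegral Γ(Y, V) Γ(X, f ⁻¹ᵁ V) := Algebra.IsIntegral.of_finite _ _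
  haveI : IsFractionRing Γ(X, f ⁻¹ᵁ V) X.functionField :=
    functionField_isFractionRing_of_isAffineOpen X _ hW
  -- the localisation map on sections of `f_* O_X`
  let eAB : Γ((pushforward f).obj (Coh.structureModule X), V) ≃ₗ[Γ(Y, V)] Γ(X, f ⁻¹ᵁ V) :=
    { toFun := fun m => m
      invFun := fun m => m
      left_inv := fun _ => rfl
      right_inv := fun _ => rfl
      map_add' := fun _ _ => rfl
      map_smul' := fun _ _ => rfl }
  let ℓB : Γ(X, f ⁻¹ᵁ V) →ₗ[Γ(Y, V)] X.functionField :=
    (IsScalarTower.toAlgHom Γ(Y, V) Γ(X, f ⁻¹ᵁ V) X.functionField).toLinearMap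
  haveI hℓB : IsLocalizedModule (nonZeroDivisors Γ(Y, V)) ℓB := inferInstance
  let ℓ : Γ((pushforward f).obj (Coh.structureModule X), V) →ₗ[Γ(Y, V)] X.functionField :=
    ℓB ∘ₗ eAB.toLinearMap
  haveI hℓ : IsLocalizedModule (nonZeroDivisors Γ(Y, V)) ℓ :=
    IsLocalizedModule.of_linearEquiv_right (nonZeroDivisors Γ(Y, V)) ℓB eAB
  haveI : Module.Finite Γ(Y, V) Γ((pushforward f).obj (Coh.structureModule X), V) :=
    finite_sections_push f V hV
  haveI : Module.FinitePresentation Γ(Y, V)
      Γ((pushforward f).obj (Coh.structureModule X), V) :=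
    Module.finitePresentation_of_finite _ _
  haveI : Module.Free (Y.presheaf.stalk (f.base (genericPoint X))) X.functionField :=
    Module.Free.of_divisionRing _ _
  obtain ⟨g, hg, hfree, hrank⟩ :=
    Module.FinitePresentation.exists_free_localizedModule_powers (nonZeroDivisors Γ(Y, V)) ℓ
      (Y.presheaf.stalk (f.base (genericPoint X)))
  have hg0 : g ≠ 0 := nonZeroDivisors.ne_zero hg
  have hU : IsAffineOpen (Y.basicOpen g) := hV.basicOpen g
  haveI := hV.isLocalization_basicOpen g
  haveI := SecLoc.isLocalizedModule_resLin ((pushforward f).obj (Coh.structureModule X)) hV g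
  haveI := hfree
  haveI : IsDomain (Localization (Submonoid.powers g)) :=
    IsLocalization.isDomain_localization (Submonoid.powers_le.mpr hg)
  haveI : Module.Finite (Localization (Submonoid.powers g))
      (LocalizedModule (Submonoid.powers g)
        Γ((pushforward f).obj (Coh.structureModule X), V)) :=
    Module.Finite.of_isLocalizedModule (Submonoid.powers g)
      (Rₚ := Localization (Submonoid.powers g))
      (LocalizedModule.mkLinearMap (Submonoid.powers g)
        Γ((pushforward f).obj (Coh.structureModule X), V))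
  let b₁ := Module.finBasisOfFinrankEq (Localization (Submonoid.powers g))
    (LocalizedModule (Submonoid.powers g) Γ((pushforward f).obj (Coh.structureModule X), V))
    (hrank.trans hdeg)
  obtain ⟨b₂⟩ := nonempty_basis_of_isLocalizedModule (Submonoid.powers g)
    (A₁ := Localization (Submonoid.powers g)) (A₂ := Γ(Y, Y.basicOpen g))
    (LocalizedModule.mkLinearMap (Submonoid.powers g)
      Γ((pushforward f).obj (Coh.structureModule X), V))
    (SecLoc.resLin ((pushforward f).obj (Coh.structureModule X)) g) b₁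
  have hb := SecLoc.isBasisAt_of_basis ((pushforward f).obj (Coh.structureModule X))
    (Y.basicOpen g) b₂
  refine ⟨Y.basicOpen g, fun i => b₂ i, ?_, isBasis_of_isBasisAt _ hU hb⟩
  have hne : Y.basicOpen g ≠ ⊥ := fun h => hg0 ((basicOpen_eq_bot_iff g).1 h)
  have hne' : ((Y.basicOpen g : Y.Opens) : Set Y).Nonempty := by
    rw [Set.nonempty_iff_ne_empty]
    intro h
    apply hne
    ext z
    simp [h]
  exact (Y.basicOpen g).isOpen.dense hne'

end GenBasis


/-! ### the degree of a pullback -/

section Main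

variable (k : Type u) [Field k] [X.Over (Spec (CommRingCat.of k))]
  [Y.Over (Spec (CommRingCat.of k))]

/-- `delta` of a coherent module which is free of rank `r` over a dense open -/
theorem delta_of_isBasis [IsProper (Y ↘ Spec (CommRingCat.of k))] {n : ℕ} {E : Y.Modules}
    (hE : FlatMod.IsFinLocFreeOfRank n E)
    (hdim : topologicalKrullDim Y ≤ 1) {F : Y.Modules} (hF : Coh.IsCoh F) {r : ℕ} {U : Y.Opens}
    (hU : Dense (U : Set Y)) {e : Fin r → Γ(F, U)} (he : IsBasis F U e) :
    delta k n E F = r * Curv2.deg k Y E n := by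
  haveI := isNoetherian_of_isProper k Y
  obtain ⟨H, u, v, hH, hu, hv⟩ := exists_common' hF he
  have h1 := delta_eq_of_isoOn' k hE hdim hH hF u hU hu
  have h2 := delta_eq_of_isoOn' k hE hdim hH (isCoh_freeMod Y _) v hU hv
  rw [← h1, h2, delta_freeMod k hE, delta_structureModule k hE]

/-- Euler characteristics are preserved by pushforward along an affine morphism -/
theorem euler_push [IsProper (Y ↘ Spec (CommRingCat.of k))] (f : X ⟶ Y) [IsAffineHom f]
    (hf : f ≫ (Y ↘ Spec (CommRingCat.of k)) = X ↘ Spec (CommRingCat.of k))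
    (G : X.Modules) [G.IsQuasicoherent] :
    Curv2.euler k X G = Curv2.euler k Y ((pushforward f).obj G) := by
  haveI : CompactSpace Y :=
    QuasiCompact.compactSpace_of_compactSpace (Y ↘ Spec (CommRingCat.of k))
  unfold Curv2.euler
  refine finsum_congr fun i => ?_
  obtain ⟨e⟩ := Groth.Agent.Lib.Helper23.PushIso.nonempty_equiv f k hf
    (fun V hV => Groth.Agent.Lib.Helper23.FBC.isAffineHom_ι_of_isSeparated k V hV) i G
  rw [e.finrank_eq]

/-- a morphism of integral proper curves mapping generic point to generic point is finite -/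
theorem isFinite_of_generic [IsIntegral X] [IsIntegral Y]
    [IsProper (X ↘ Spec (CommRingCat.of k))] [IsProper (Y ↘ Spec (CommRingCat.of k))]
    (hX : topologicalKrullDim X ≤ 1) (hY : topologicalKrullDim Y = 1)
    (f : X ⟶ Y) (hf : f ≫ (Y ↘ Spec (CommRingCat.of k)) = X ↘ Spec (CommRingCat.of k))
    (hξ : f.base (genericPoint X) = genericPoint Y) : IsFinite f := by
  haveI := isNoetherian_of_isProper k X
  obtain ⟨x, -, hxc⟩ := (isClosed_closure (s := ({genericPoint X} : Set X))).exists_closed_singleton
    ⟨genericPoint X, subset_closure rfl⟩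
  apply Groth.Agent.Lib.Helper23.AmpleCurve.isFinite_of_nonconstant k hX f
    (Y ↘ Spec (CommRingCat.of k)) hf (genericPoint X) x
  intro h
  have h' : genericPoint Y = f.base x := hξ.symm.trans h
  haveI : IsProper (f ≫ (Y ↘ Spec (CommRingCat.of k))) := by rw [hf]; infer_instance
  haveI : IsProper f := IsProper.of_comp f (Y ↘ Spec (CommRingCat.of k))
  have hcl : IsClosed ({genericPoint Y} : Set Y) := by
    have h1 := f.isClosedMap _ hxc
    rw [Set.image_singleton] at h1
    rw [h']
    exact h1
  have huniv : ({genericPoint Y} : Set Y) = Set.univ :=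
    hcl.closure_eq.symm.trans (genericPoint_spec Y)
  haveI : Subsingleton Y := ⟨fun a b => by
    have ha : a ∈ ({genericPoint Y} : Set Y) := by rw [huniv]; trivial
    have hb : b ∈ ({genericPoint Y} : Set Y) := by rw [huniv]; trivial
    exact ha.trans hb.symm⟩
  have hd := topologicalKrullDim_le_zero_of_subsingleton Y
  rw [hY] at hd
  exact absurd hd (by norm_num)

/-- **S7640**: `deg f^*E = [K(X) : K(Y)] · deg E` -/
theorem deg_pullback [IsIntegral X] [IsIntegral Y]
    [IsProper (X ↘ Spec (CommRingCat.of k))] [IsProper (Y ↘ Spec (CommRingCat.of k))]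
    (hX : topologicalKrullDim X ≤ 1) (hY : topologicalKrullDim Y = 1)
    (f : X ⟶ Y) (hf : f ≫ (Y ↘ Spec (CommRingCat.of k)) = X ↘ Spec (CommRingCat.of k))
    (hξ : f.base (genericPoint X) = genericPoint Y)
    (n : ℕ) (E : Y.Modules) (hE : FlatMod.IsFinLocFreeOfRank n E) :
    Curv2.deg k X ((Scheme.Modules.pullback f).obj E) n =
      (f.residueDegree (genericPoint X) : ℤ) * Curv2.deg k Y E n := by
  haveI := isNoetherian_of_isProper k Y
  haveI : IsFinite f := isFinite_of_generic k hX hY f hf hξ
  have hAc := isCoh_push_structure f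
  obtain ⟨U, e, hU, he⟩ := exists_isBasis_push f hξ
  have hdelta := delta_of_isBasis k hE hY.le hAc hU he
  -- Euler characteristics
  have hpull := Groth.Agent.Lib.Helper17.LocFreeRank.isFinLocFreeOfRank_pullback f E n hE
  haveI : ((Scheme.Modules.pullback f).obj E).IsQuasicoherent :=
    (isCoh_of_isFinLocFreeOfRank hpull).1
  haveI : (Coh.structureModule X).IsQuasicoherent := (isCoh_structureModule X).1
  have hχ2 := euler_push k f hf (Coh.structureModule X)
  have hχ1a := euler_push k f hf ((Scheme.Modules.pullback f).obj E)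
  have hχ1b : Curv2.euler k Y ((pushforward f).obj ((Scheme.Modules.pullback f).obj E)) =
      Curv2.euler k Y ((pushforward f).obj
        (CohB1.tensorMod (Coh.structureModule X) ((Scheme.Modules.pullback f).obj E))) :=
    Groth.Agent.Lib.Helper23.FBC.euler_eq_of_iso' k
      ((pushforward f).mapIso (unitorL ((Scheme.Modules.pullback f).obj E)).symm)
  haveI : IsIso (Groth.Agent.Lib.Helper2.Mon.projHom f (Coh.structureModule X) E) :=
    Groth.Agent.Lib.Helper13.ProjFormulaLF.isIso_projHom_of_isFinLocFree f _ E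
      (Groth.Agent.Lib.Helper17.LocFreeRank.isFinLocFree_of_rank hE)
  have hχ1c : Curv2.euler k Y (CohB1.tensorMod
        ((pushforward f).obj (Coh.structureModule X)) E) =
      Curv2.euler k Y ((pushforward f).obj
        (CohB1.tensorMod (Coh.structureModule X) ((Scheme.Modules.pullback f).obj E))) :=
    Groth.Agent.Lib.Helper23.FBC.euler_eq_of_iso' k
      (asIso (Groth.Agent.Lib.Helper2.Mon.projHom f (Coh.structureModule X) E))
  unfold delta at hdelta
  unfold Curv2.deg
  rw [hχ1a, hχ1b, ← hχ1c, hχ2]
  exact hdelta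

end Main

end Groth.Agent.Lib.Helper7.DegPull
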