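/-
Helper7 library: flatness over adically complete Noetherian rings from flatness modulo powers.

* `iInf_pow_smul_tensor_eq_bot_of_finite`: `𝔞 ⊗ M` is `I`-adically separated for `M` finite over a
  Noetherian `A`-algebra `B` with `IB ⊆ rad B` (extracted from Helper8.LocalCriterion3);
* `flat_of_forall_flat_quotient_pow_of_finite`: such `M` is `A`-flat if all `M/IⁿM` are `A/Iⁿ`-flat;
* `quotTensorEquivQuotMap`: `(R/J) ⊗_R S ≃ S/JS` as `R/J`-modules.
-/
import Mathlib
import Groth.Agent.Lib.Helper8.LocalCriterion3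

set_option autoImplicit false

universe u

open TensorProduct

namespace Groth.Agent.Lib.Helper7

section

variable {A B : Type u} [CommRing A] [CommRing B] [Algebra A B]

theorem iInf_pow_smul_tensor_eq_bot_of_finite [IsNoetherianRing A] [IsNoetherianRing B]
    (I : Ideal A) (hI : I.map (algebraMap A B) ≤ Ideal.jacobson ⊥)
    (M : Type u) [AddCommGroup M] [Module A M] [Module B M] [IsScalarTower A B M]
    [Module.Finite B M] (𝔞 : Ideal A) :
    ⨅ n : ℕ, I ^ n • (⊤ : Submodule A (𝔞 ⊗[A] M)) = ⊥ := by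
  rw [eq_bot_iff]
  intro x hx
  rw [Submodule.mem_iInf] at hx
  rw [Submodule.mem_bot]
  have : Module.Finite B (M ⊗[A] 𝔞) := Helper8.finite_tensor M 𝔞
  have hkrull := Ideal.iInf_pow_smul_eq_bot_of_le_jacobson (M := M ⊗[A] 𝔞)
    (I.map (algebraMap A B)) hI
  have hmem : (TensorProduct.comm A 𝔞 M) x ∈
      ⨅ i : ℕ, (I.map (algebraMap A B)) ^ i • (⊤ : Submodule B (M ⊗[A] 𝔞)) := by
    rw [Submodule.mem_iInf]
    intro n
    refine Submodule.smul_induction_on (hx n) ?_ ?_
    · intro j hj t _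
      rw [map_smul, ← algebraMap_smul B j ((TensorProduct.comm A 𝔞 M) t)]
      refine Submodule.smul_mem_smul ?_ Submodule.mem_top
      rw [← Ideal.map_pow]
      exact Ideal.mem_map_of_mem _ hj
    · intro t1 t2 h1 h2
      rw [map_add]
      exact add_mem h1 h2
  rw [hkrull, Submodule.mem_bot] at hmem
  exact (TensorProduct.comm A 𝔞 M).injective (by rw [hmem, map_zero])

theorem flat_of_forall_flat_quotient_pow_of_finite [IsNoetherianRing A] [IsNoetherianRing B]
    (I : Ideal A) (hI : I.map (algebraMap A B) ≤ Ideal.jacobson ⊥)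
    (M : Type u) [AddCommGroup M] [Module A M] [Module B M] [IsScalarTower A B M]
    [Module.Finite B M]
    (hflat : ∀ n : ℕ, 0 < n → Module.Flat (A ⧸ I ^ n) ((A ⧸ I ^ n) ⊗[A] M)) :
    Module.Flat A M :=
  Helper8.flat_of_forall_flat_quotient_pow I M hflat
    (iInf_pow_smul_tensor_eq_bot_of_finite I hI M)

end

/-- `(R/J) ⊗_R S ≃ S/JS` as `R/J`-modules. -/
noncomputable def quotTensorEquivQuotMap {R S : Type u} [CommRing R] [CommRing S] [Algebra R S]
    (J : Ideal R) : ((R ⧸ J) ⊗[R] S) ≃ₗ[R ⧸ J] (S ⧸ J.map (algebraMap R S)) :=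
  ((TensorProduct.quotTensorEquivQuotSMul S J) ≪≫ₗ
    (Submodule.quotEquivOfEq _ _ (Ideal.smul_top_eq_map J)) ≪≫ₗ
    (Submodule.Quotient.restrictScalarsEquiv R (J.map (algebraMap R S)))).extendScalarsOfSurjective
      Ideal.Quotient.mk_surjective

end Groth.Agent.Lib.Helper7
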