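import Mathlib
import Groth.Prelude.Def_ega3
import Groth.Agent.Lib.Helper7.TorNat6
set_option autoImplicit false
universe u
open CategoryTheory CategoryTheory.Limits MonoidalCategory TensorProduct

namespace Groth.Agent.Lib.Helper7

variable {A : Type u} [CommRing A]

/-- the canonical short exact sequence `0 → K → P → N → 0` with `P` projective. -/
noncomputable def projSC (N : ModuleCat.{u} A) : ShortComplex (ModuleCat.{u} A) :=
  ShortComplex.mk (kernel.ι (Projective.π N)) (Projective.π N) (kernel.condition _)

lemma projSC_shortExact (N : ModuleCat.{u} A) : (projSC N).ShortExact :=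
  { exact := ShortComplex.exact_of_f_is_kernel _ (kernelIsKernel _)
    mono_f := inferInstanceAs (Mono (kernel.ι (Projective.π N)))
    epi_g := inferInstanceAs (Epi (Projective.π N)) }

lemma Tor_isZero_projective_succ (M N : ModuleCat.{u} A) [Projective N] (j : ℕ) :
    IsZero (((Tor (ModuleCat.{u} A) (j + 1)).obj M).obj N) :=
  Functor.isZero_leftDerived_obj_projective_succ ((tensoringLeft (ModuleCat.{u} A)).obj M) j N

/-- S14414: `Tor_i(M, N) = 0` for `i > pd N`. -/
theorem Tor_isZero_of_hasProjectiveDimensionLT (M : ModuleCat.{u} A) (q : ℕ) :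
    ∀ (N : ModuleCat.{u} A), HasProjectiveDimensionLT N (q + 1) → ∀ i : ℕ, q < i →
      IsZero (((Tor (ModuleCat.{u} A) i).obj M).obj N) := by
  induction q with
  | zero =>
    intro N hN i hi
    haveI : Projective N := projective_iff_hasProjectiveDimensionLT_one.mpr hN
    obtain ⟨j, rfl⟩ : ∃ j, i = j + 1 := ⟨i - 1, by omega⟩
    exact Tor_isZero_projective_succ M N j
  | succ q ih =>
    intro N hN i hi
    obtain ⟨j, rfl⟩ : ∃ j, i = j + 1 := ⟨i - 1, by omega⟩
    have hS := projSC_shortExact N
    haveI : Projective (projSC N).X₂ := inferInstanceAs (Projective (Projective.over N))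
    have hK : HasProjectiveDimensionLT (projSC N).X₁ (q + 1) :=
      hS.hasProjectiveDimensionLT_X₁ (q + 1)
        (hasProjectiveDimensionLT_of_ge _ 1 (q + 1) (by omega)) hN
    have h1 : IsZero (((Tor (ModuleCat.{u} A) j).obj M).obj (projSC N).X₁) :=
      ih (projSC N).X₁ hK j (by omega)
    have h2 : IsZero (((Tor (ModuleCat.{u} A) (j + 1)).obj M).obj (projSC N).X₂) :=
      Tor_isZero_projective_succ M _ j
    obtain ⟨_, _, δ, w₁, w₂, e₁, _⟩ := tor_longExact M (projSC N) hS j
    exact e₁.isZero_of_both_zeros (h2.eq_of_src _ _) (h1.eq_of_tgt _ _)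

/-- S5809 (converse): over a Noetherian local ring, `Tor_{n+1}(k, M) = 0` for finite `M` forces
`pd M ≤ n`. -/
theorem hasProjectiveDimensionLT_of_Tor_residueField [IsLocalRing A] [IsNoetherianRing A]
    (n : ℕ) : ∀ (M : Type u) [AddCommGroup M] [Module A M] [Module.Finite A M],
      IsZero (((Tor (ModuleCat.{u} A) (n + 1)).obj
        (ModuleCat.of A (IsLocalRing.ResidueField A))).obj (ModuleCat.of A M)) →
      HasProjectiveDimensionLT (ModuleCat.of A M) (n + 1) := by
  induction n with
  | zero =>
    intro M _ _ _ h
    have hexact : Function.Exact (IsLocalRing.maximalIdeal A).subtype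
        (Algebra.linearMap A (IsLocalRing.ResidueField A)) := by
      intro y
      rw [Algebra.linearMap_apply, IsLocalRing.ResidueField.algebraMap_eq,
        IsLocalRing.residue_eq_zero_iff]
      exact ⟨fun hy => ⟨⟨y, hy⟩, rfl⟩, fun ⟨z, hz⟩ => hz ▸ z.2⟩
    have hsurj : Function.Surjective (Algebra.linearMap A (IsLocalRing.ResidueField A)) :=
      IsLocalRing.residue_surjective
    obtain ⟨e⟩ := nonempty_Tor1_equiv_ker' (IsLocalRing.maximalIdeal A).subtype
      (Algebra.linearMap A (IsLocalRing.ResidueField A)) (Submodule.subtype_injective _)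
      hexact hsurj M
    haveI := ModuleCat.subsingleton_of_isZero h
    haveI : Subsingleton (LinearMap.ker ((IsLocalRing.maximalIdeal A).subtype.rTensor M)) :=
      e.symm.toEquiv.subsingleton
    have hinj : Function.Injective ((IsLocalRing.maximalIdeal A).subtype.rTensor M) := by
      rw [← LinearMap.ker_eq_bot]
      exact Submodule.eq_bot_of_subsingleton
    haveI : Module.FinitePresentation A M := Module.finitePresentation_of_finite A M
    haveI : Module.Free A M := Module.free_of_maximalIdeal_rTensor_injective hinj
    haveI : Projective (ModuleCat.of A M) :=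
      (IsProjective.iff_projective (R := A) M).mp inferInstance
    infer_instance
  | succ n ih =>
    intro M _ _ _ h
    obtain ⟨r, f, hf⟩ := Module.Finite.exists_fin' A M
    let S : ShortComplex (ModuleCat.{u} A) :=
      ModuleCat.shortComplexOfCompEqZero (LinearMap.ker f).subtype f
        (LinearMap.ext fun x => x.2)
    have hS : S.ShortExact := ModuleCat.shortComplex_shortExact S
      (LinearMap.exact_subtype_ker_map f) (Submodule.subtype_injective _) hf
    haveI : Projective S.X₂ :=
      (IsProjective.iff_projective (R := A) (Fin r → A)).mp inferInstance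
    have h2 : IsZero (((Tor (ModuleCat.{u} A) (n + 1)).obj
        (ModuleCat.of A (IsLocalRing.ResidueField A))).obj S.X₂) :=
      Tor_isZero_projective_succ _ _ n
    obtain ⟨_, _, δ, w₁, w₂, _, e₂⟩ :=
      tor_longExact (ModuleCat.of A (IsLocalRing.ResidueField A)) S hS (n + 1)
    have hK : IsZero (((Tor (ModuleCat.{u} A) (n + 1)).obj
        (ModuleCat.of A (IsLocalRing.ResidueField A))).obj S.X₁) :=
      e₂.isZero_of_both_isZero h h2
    have pK : HasProjectiveDimensionLT S.X₁ (n + 1) := ih (LinearMap.ker f) hK
    exact hS.hasProjectiveDimensionLT_X₃ (n + 1) pK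
      (hasProjectiveDimensionLT_of_ge _ 1 (n + 1 + 1) (by omega))

end Groth.Agent.Lib.Helper7
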