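import Groth.Agent.Lib.Helper7.AmpleRes
import Groth.Agent.Lib.Helper7.RegRes
import Groth.Agent.Lib.Helper1.FFCoh

/-!
# Resolutions by sums of negative powers of an ample invertible module

* `exists_epi_coprod_inverse`: a coherent module is a quotient of a finite sum of copies of
  `M^{⊗ m}` (`M` an inverse of the ample `L`), with `m` as large as we want.
* `coh_vanishing_of_negPowers_vanishing`: if `H^i(M^{⊗ m}) = 0` for `i > r` and `m ≫ 0`, then
  `H^i(F) = 0` for `i > r` and all coherent `F`.
-/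

set_option autoImplicit false
set_option linter.unusedSectionVars false
set_option linter.style.haveILetI false
universe u
open CategoryTheory CategoryTheory.Limits AlgebraicGeometry TopologicalSpace Opposite
open Scheme.Modules

noncomputable section

namespace Groth.Agent.Lib.Helper7.AmpleRes2

open Groth.Agent.Lib.Helper3 Groth.Agent.Lib.Helper13
open QCSec InvGen InvTensor InvMonoidal InvCoh InvAmple GlobGen GlobGenFin
open Groth.Agent.Lib.Helper7.TwFun Groth.Agent.Lib.Helper7.RegRes

variable {X : Scheme.{u}}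

/-- a map hitting a spanning family of global sections is an epimorphism. -/
lemma epi_of_hits {A B : X.Modules} (g : A ⟶ B) {I : Type u} (σ : I → Γ(B, (⊤ : X.Opens)))
    (hσ : Epi (freeHom B σ))
    (hy : ∀ i, ∃ y : Γ(A, (⊤ : X.Opens)), g.app ⊤ y = σ i) : Epi g := by
  apply Preadditive.epi_of_cancel_zero
  intro Z t ht
  have h4 : freeHom B σ ≫ t = freeHom B σ ≫ 0 := by
    apply FreeSec.free_hom_ext
    intro i
    obtain ⟨y, hy⟩ := hy i
    have h1 : (freeHom B σ).app ⊤ (FreeSec.fs I i ⊤) = σ i := by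
      have h0 := freeHom_app_freeSection B σ i ⊤
      rw [res_self] at h0
      exact h0
    rw [MulSurj.comp_app, h1, ← hy, ← MulSurj.comp_app, ht, GGTwist.zero_app', comp_zero, GGTwist.zero_app']
  exact (cancel_epi _).mp h4

/-- an inverse of an invertible module is invertible. -/
lemma isInvertible_of_isInverseOf {L M : X.Modules} (hL : PicF.IsInvertible L)
    (hM : ClSub.IsInverseOf M L) : PicF.IsInvertible M := by
  obtain ⟨e⟩ := hM
  obtain ⟨N, hN, ⟨eLN⟩⟩ := Groth.Agent.Lib.Helper23.Inverse.exists_isInverseOf hL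
  have c : M ≅ N := (SecTwist.unitorR M).symm ≪≫ tensorMapIso (Iso.refl M) eLN.symm ≪≫
    (assoc M L N).symm ≪≫ tensorMapIso e (Iso.refl N) ≪≫ unitorL N
  exact InvAmple.isInvertible_of_iso c.symm hN

/-- on a scheme with an ample invertible module `L` with inverse `M`, a quasi-coherent module of
finite type is a quotient of a finite sum of copies of `M^{⊗ m}`, for some `m ≥ m₀`. -/
theorem exists_epi_coprod_inverse [CompactSpace X] [QuasiSeparatedSpace X] {L M : X.Modules}
    (hA : CohB1.IsAmple L) (hM : ClSub.IsInverseOf M L) (F : X.Modules) [F.IsQuasicoherent]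
    [F.IsFiniteType] (m₀ : ℕ) :
    ∃ (m b : ℕ) (φ : (∐ fun _ : Fin b => CohB1.tensorPow M m) ⟶ F), m₀ ≤ m ∧ Epi φ := by
  obtain ⟨d, hd, ι, hι, s, haff, hcov⟩ := exists_finite_secLocus_cover hA
  have hN : PicF.IsInvertible (CohB1.tensorPow L d) := isInvertible_tensorPow hA.1 d
  obtain ⟨k₀, hk₀⟩ := exists_isFinSpanned_twist_aux hN s haff hcov F
  obtain ⟨I, hI, σ, hσ⟩ := hk₀ (max k₀ m₀) (le_max_left _ _)
  obtain ⟨eML⟩ := hM
  let k := max k₀ m₀
  let P : X.Modules := CohB1.tensorPow (CohB1.tensorPow L d) k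
  have hP : PicF.IsInvertible P := isInvertible_tensorPow hN k
  haveI : (CohB1.tensorMod F P).IsQuasicoherent := isQuasicoherent_tensorMod F P hP
  have hepi : Epi (freeHom (CohB1.tensorMod F P) σ) := epi_freeHom _ σ hσ
  let e0 : CohB1.tensorMod (CohB1.tensorPow M (d * k)) (CohB1.tensorPow L (d * k)) ≅
      Coh.structureModule X :=
    (powTensor M L (d * k)).symm ≪≫ tensorPowIso eML (d * k) ≪≫ powUnit X (d * k)
  let pair : (twR P).obj (CohB1.tensorPow M (d * k)) ≅ Coh.structureModule X :=
    tensorMapIso (Iso.refl _) (powMul L d k) ≪≫ e0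
  let e : CohB1.tensorMod P (CohB1.tensorPow M (d * k)) ≅ Coh.structureModule X :=
    braid _ _ ≪≫ pair
  let eq := Finite.equivFin I
  obtain ⟨φ, hφ⟩ := exists_desc P (CohB1.tensorPow M (d * k)) e pair F (fun j => σ (eq.symm j))
  have hepiT : Epi ((twR P).map φ) := by
    refine epi_of_hits _ σ hepi (fun i => ?_)
    obtain ⟨y, hy⟩ := hφ (eq i)
    refine ⟨y, ?_⟩
    rw [hy, Equiv.symm_apply_apply]
  haveI := isEquivalence_twR P (CohB1.tensorPow M (d * k)) e
  have hepi' : Epi φ := (twR P).epi_of_epi_map hepiT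
  refine ⟨d * k, Nat.card I, φ, ?_, hepi'⟩
  have h1 : m₀ ≤ k := le_max_right _ _
  calc m₀ ≤ k := h1
    _ = 1 * k := (one_mul k).symm
    _ ≤ d * k := Nat.mul_le_mul_right k hd

/-- if `H^i(M^{⊗ m})` vanishes for `i > r` and all large `m`, where `M` is an inverse of an ample
invertible module, then `H^i` vanishes for `i > r` on all coherent modules. -/
theorem coh_vanishing_of_negPowers_vanishing [IsNoetherian X] {L M : X.Modules}
    (hA : CohB1.IsAmple L) (hM : ClSub.IsInverseOf M L) (r : ℕ)
    (hneg : ∃ m₀ : ℕ, ∀ m : ℕ, m₀ ≤ m → ∀ i : ℕ, r < i →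
      Subsingleton (Coh.HH X (CohB1.tensorPow M m) i))
    (F : X.Modules) (hF : Coh.IsCoh F) (i : ℕ) (hi : r < i) : Subsingleton (Coh.HH X F i) := by
  obtain ⟨m₀, hm₀⟩ := hneg
  obtain ⟨d, hd⟩ := QCDim.QC.exists_top (X := X)
  have hT : CategoryTheory.Limits.IsTerminal (⊤ : X.Opens) := CategoryTheory.Limits.isTerminalTop
  have hMinv : PicF.IsInvertible M := isInvertible_of_isInverseOf hA.1 hM
  suffices H : ∀ (t : ℕ) (F : X.Modules), Coh.IsCoh F → ∀ i : ℕ, r < i → d ≤ i + t →
      Subsingleton (Coh.HH X F i) from H d F hF i hi (Nat.le_add_left d i)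
  intro t
  induction t with
  | zero =>
    intro F hF i _ hdi
    haveI : F.IsQuasicoherent := hF.1
    have h0 := hd.vanish F i hdi
    exact (ProfiniteAcyclic.HEquivHU (Opens.grothendieckTopology X) hT (Coh.toAb F)
      i).toEquiv.subsingleton_congr.2 h0
  | succ t ih =>
    intro F hF i hi hdi
    haveI : F.IsQuasicoherent := hF.1
    haveI : F.IsFiniteType := hF.2
    obtain ⟨m, b, p, hm, hp⟩ := exists_epi_coprod_inverse hA hM F m₀
    haveI := hp
    have hMm : Coh.IsCoh (CohB1.tensorPow M m) :=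
      Groth.Agent.Lib.Helper23.Curve.isCoh_of_isInvertible (isInvertible_tensorPow hMinv m)
    have hEc : Coh.IsCoh (∐ fun _ : Fin b => CohB1.tensorPow M m) := by
      haveI : IsIso (biproduct.isoCoproduct (fun _ : Fin b => CohB1.tensorPow M m)).hom :=
        inferInstance
      exact Groth.Agent.Lib.Helper17.DevBasic.isCoh_of_epi
        (biproduct.isoCoproduct (fun _ : Fin b => CohB1.tensorPow M m)).hom
        (Groth.Agent.Lib.Helper1.FFCoh.isCoh_biproduct _ (fun _ => hMm))
        (isQCoh_coprod _ (fun _ => hMm.1))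
    have hK : Coh.IsCoh (kernel p) :=
      Groth.Agent.Lib.Helper17.DevBasic.isCoh_kernel p hEc hF.1
    let S : ShortComplex X.Modules := ShortComplex.mk (kernel.ι p) p (kernel.condition _)
    have hS : S.ShortExact :=
      { exact := ShortComplex.exact_kernel _
        mono_f := inferInstanceAs (Mono (kernel.ι p))
        epi_g := inferInstanceAs (Epi p) }
    have hE' : Subsingleton (Coh.HH X (∐ fun _ : Fin b => CohB1.tensorPow M m) i) :=
      sub_coprod (𝟭 X.Modules) (fun _ : Fin b => CohB1.tensorPow M m) i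
        (fun _ => hm₀ m hm i hi)
    exact sub_right S hS i hE' (ih (kernel p) hK (i + 1) (by omega) (by omega))

end Groth.Agent.Lib.Helper7.AmpleRes2
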