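import Mathlib
import Groth.Prelude
import Groth.Agent.S1700
import Groth.Agent.S2821
import Groth.Agent.Lib.Helper26.RegularSch

/-!
# Helper library (helper7): integral curves on regular surfaces are effective Cartier divisors

* `krullDim_le_topologicalKrullDim` : chains of specializations give chains of irreducible closed
  sets;
* `coheight_le_one` : on a space of dimension `≤ 2` a point with a proper specialization has
  coheight `≤ 1`;
* `isEffCartierIdeal_of_integral_curve` : an integral closed subscheme of dimension one of an
  integral Noetherian scheme of dimension two with regular local rings is an effective Cartier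
  divisor (via S1700 and S2821);
* `isEffCartierIdeal_of_smooth` : the same on a surface smooth over a field.
-/

set_option autoImplicit false
set_option linter.unusedSectionVars false
set_option linter.style.haveILetI false
universe u
open CategoryTheory CategoryTheory.Limits AlgebraicGeometry Opposite TopologicalSpace

namespace Groth.Agent.Lib.Helper7.CurveCartier

section Top

variable (X : Scheme.{u})

/-- chains of specializations give chains of irreducible closed subsets. -/
theorem krullDim_le_topologicalKrullDim : Order.krullDim X ≤ topologicalKrullDim X := by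
  unfold topologicalKrullDim
  refine Order.krullDim_le_of_strictMono (fun x : X =>
    (⟨closure {x}, isIrreducible_singleton.closure, isClosed_closure⟩ : IrreducibleCloseds X)) ?_
  intro x y hxy
  have h1 : y ⤳ x := Scheme.le_iff_specializes.mp hxy.le
  have h2 : ¬ x ⤳ y := fun h => hxy.not_ge (Scheme.le_iff_specializes.mpr h)
  rw [lt_iff_le_not_ge]
  constructor
  · show closure ({x} : Set X) ⊆ closure {y}
    exact specializes_iff_closure_subset.mp h1
  · intro h
    apply h2
    have h3 : closure ({y} : Set X) ⊆ closure {x} := h
    exact specializes_iff_closure_subset.mpr h3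

variable {X}

/-- on a scheme of dimension at most two, a point with a proper specialization has coheight at
most one. -/
theorem coheight_le_one (hdim : topologicalKrullDim X ≤ 2) (ξ x : X) (hx : ξ ⤳ x)
    (hne : ¬ x ⤳ ξ) : Order.coheight ξ ≤ 1 := by
  have hlt : x < ξ := by
    rw [lt_iff_le_not_ge]
    exact ⟨Scheme.le_iff_specializes.mpr hx, fun h => hne (Scheme.le_iff_specializes.mp h)⟩
  have h1 : Order.height x + 1 ≤ Order.height ξ := Order.height_add_one_le hlt
  have h2 : (1 : ℕ∞) ≤ Order.height ξ := le_trans (by simp) h1
  haveI : Nonempty X := ⟨ξ⟩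
  have h3 : ((Order.height ξ + Order.coheight ξ : ℕ∞) : WithBot ℕ∞) ≤ Order.krullDim X := by
    rw [Order.krullDim_eq_iSup_height_add_coheight_of_nonempty]
    exact_mod_cast le_iSup (fun a : X => Order.height a + Order.coheight a) ξ
  have h4 : ((Order.height ξ + Order.coheight ξ : ℕ∞) : WithBot ℕ∞) ≤ 2 :=
    h3.trans ((krullDim_le_topologicalKrullDim X).trans hdim)
  have h5 : Order.height ξ + Order.coheight ξ ≤ (2 : ℕ∞) := by
    have h22 : ((2 : ℕ∞) : WithBot ℕ∞) = 2 := rfl
    rw [← h22] at h4
    exact WithBot.coe_le_coe.mp h4
  by_contra hcon
  push Not at hcon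
  have h6 : (2 : ℕ∞) ≤ Order.coheight ξ := by
    have := Order.add_one_le_of_lt hcon
    simpa [one_add_one_eq_two] using this
  have h7 : (1 : ℕ∞) + 2 ≤ Order.height ξ + Order.coheight ξ := add_le_add h2 h6
  have h8 : (1 : ℕ∞) + 2 ≤ 2 := h7.trans h5
  exact absurd h8 (by decide)

end Top

section Main

variable {X : Scheme.{u}}

/-- an integral curve on an integral Noetherian surface with regular local rings is an effective
Cartier divisor. -/
theorem isEffCartierIdeal_of_integral_curve [IsIntegral X] [IsNoetherian X]
    (hdim : topologicalKrullDim X = 2)
    (hreg : ∀ x : X, IsRegularLocalRing (X.presheaf.stalk x))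
    (E : X.IdealSheafData) (hEi : IsIntegral E.subscheme)
    (hE1 : topologicalKrullDim (E.support : Set X) = 1) :
    BlowUp.IsEffCartierIdeal E := by
  haveI := hEi
  refine Groth.Agent.S1700.result X E ?_ ?_ ?_
  · -- no embedded points
    intro z hz z' hz'
    obtain ⟨hprime, m, hm⟩ := hz
    have hm0 : m ≠ 0 := by
      rintro rfl
      have : Submodule.colon (⊥ : Submodule (E.subscheme.presheaf.stalk z)
          (E.subscheme.presheaf.stalk z)) {0} = ⊤ := by
        ext a
        simp [Submodule.mem_colon_singleton]
      rw [this, Ideal.radical_top] at hm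
      exact hprime.ne_top hm
    have hcol : Submodule.colon (⊥ : Submodule (E.subscheme.presheaf.stalk z)
        (E.subscheme.presheaf.stalk z)) {m} = ⊥ := by
      ext a
      simp only [Submodule.mem_colon_singleton, Submodule.mem_bot, smul_eq_mul, mul_eq_zero]
      constructor
      · rintro (h | h)
        · exact h
        · exact absurd h hm0
      · intro h
        exact Or.inl h
    rw [hcol] at hm
    have hbot : IsLocalRing.maximalIdeal (E.subscheme.presheaf.stalk z) = ⊥ := by
      rw [hm]
      exact (Ideal.isPrime_bot).radical
    have hfield : IsField (E.subscheme.presheaf.stalk z) :=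
      IsLocalRing.isField_iff_maximalIdeal_eq.mpr hbot
    have hdim0 : ringKrullDim (E.subscheme.presheaf.stalk z) = 0 :=
      ringKrullDim_eq_zero_of_isField hfield
    rw [AlgebraicGeometry.ringKrullDim_stalk_eq_coheight] at hdim0
    have hco : Order.coheight z = 0 := by exact_mod_cast hdim0
    have hmax : IsMax z := Order.coheight_eq_zero.mp hco
    have h1 : z ≤ z' := Scheme.le_iff_specializes.mpr hz'
    have h2 : z' ≤ z := hmax h1
    have h3 : z ⤳ z' := Scheme.le_iff_specializes.mp h2
    exact (hz'.antisymm h3).eq
  · -- codimension one
    intro z hzmax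
    have hη : genericPoint E.subscheme = z :=
      hzmax _ (genericPoint_specializes z)
    set ξ : X := E.subschemeι z with hξ
    have hspec : ∀ x ∈ (E.support : Set X), ξ ⤳ x := by
      intro x hx
      rw [← E.range_subschemeι] at hx
      obtain ⟨w, rfl⟩ := hx
      have : z ⤳ w := hη ▸ genericPoint_specializes w
      exact this.map E.subschemeι.continuous
    have hξE : ξ ∈ (E.support : Set X) := by
      rw [← E.range_subschemeι]
      exact ⟨z, rfl⟩
    -- a proper specialization of `ξ`
    obtain ⟨x, hxE, hxne⟩ : ∃ x ∈ (E.support : Set X), ¬ x ⤳ ξ := by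
      by_contra hcon
      push Not at hcon
      haveI : Subsingleton (E.support : Set X) := by
        constructor
        rintro ⟨a, ha⟩ ⟨b, hb⟩
        have e1 : a = ξ := ((hcon a ha).antisymm (hspec a ha)).eq
        have e2 : b = ξ := ((hcon b hb).antisymm (hspec b hb)).eq
        exact Subtype.ext (e1.trans e2.symm)
      haveI : Subsingleton (IrreducibleCloseds (E.support : Set X)) := by
        refine ⟨fun A B => SetLike.ext fun y => ?_⟩
        obtain ⟨a, ha⟩ := A.isIrreducible'.nonempty
        obtain ⟨b, hb⟩ := B.isIrreducible'.nonempty
        have e1 : y = a := Subsingleton.elim _ _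
        have e2 : y = b := Subsingleton.elim _ _
        constructor
        · intro _
          rw [e2]
          exact hb
        · intro _
          rw [e1]
          exact ha
      have hle : topologicalKrullDim (E.support : Set X) ≤ 0 := by
        unfold topologicalKrullDim
        exact Order.krullDim_nonpos_of_subsingleton
      rw [hE1] at hle
      exact absurd hle (by decide)
    have hle1 : Order.coheight ξ ≤ 1 := coheight_le_one hdim.le ξ x (hspec x hxE) hxne
    -- `ξ` is not the generic point of `X`
    have hnotmax : ¬ ξ ⤳ genericPoint X := by
      intro h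
      have hall : (E.support : Set X) = Set.univ := by
        apply Set.eq_univ_of_forall
        intro y
        have hy : ξ ⤳ y := h.trans (genericPoint_specializes y)
        exact (hy.mem_closed E.support.isClosed hξE)
      rw [hall, (Homeomorph.Set.univ X).isHomeomorph.topologicalKrullDim_eq, hdim] at hE1
      exact absurd hE1 (by decide)
    have hlt : ξ < genericPoint X := by
      rw [lt_iff_le_not_ge]
      exact ⟨Scheme.le_iff_specializes.mpr (genericPoint_specializes ξ),
        fun h => hnotmax (Scheme.le_iff_specializes.mp h)⟩
    have hge1 : (1 : ℕ∞) ≤ Order.coheight ξ :=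
      le_trans (by simp) (Order.coheight_add_one_le hlt)
    have heq : Order.coheight ξ = 1 := le_antisymm hle1 hge1
    rw [AlgebraicGeometry.ringKrullDim_stalk_eq_coheight, heq]
    rfl
  · intro x _
    haveI := hreg x
    exact Groth.Agent.S2821.result (X.presheaf.stalk x)

/-- an integral curve on an integral surface smooth over a field is an effective Cartier
divisor. -/
theorem isEffCartierIdeal_of_smooth (k : Type u) [Field k] [X.Over (Spec (CommRingCat.of k))]
    [IsProper (X ↘ Spec (CommRingCat.of k))] [Smooth (X ↘ Spec (CommRingCat.of k))]
    [IsIntegral X] (hdim : topologicalKrullDim X = 2)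
    (E : X.IdealSheafData) (hEi : IsIntegral E.subscheme)
    (hE1 : topologicalKrullDim (E.support : Set X) = 1) :
    BlowUp.IsEffCartierIdeal E := by
  haveI : IsLocallyNoetherian X :=
    LocallyOfFiniteType.isLocallyNoetherian (X ↘ Spec (CommRingCat.of k))
  haveI : CompactSpace X :=
    QuasiCompact.compactSpace_of_compactSpace (X ↘ Spec (CommRingCat.of k))
  haveI : IsNoetherian X := {}
  exact isEffCartierIdeal_of_integral_curve hdim
    (fun x => Groth.Agent.Lib.Helper26.RegularSch.isRegularLocalRing_stalk_of_smooth_field k
      (X ↘ Spec (CommRingCat.of k)) x) E hEi hE1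

end Main

end Groth.Agent.Lib.Helper7.CurveCartier
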