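import Mathlib
import Groth.Prelude.Def_ega3
import Groth.Agent.Lib.Helper7.FibDRank
set_option autoImplicit false
universe u
open CategoryTheory CategoryTheory.Limits TensorProduct Module

namespace Groth.Agent.Lib.Helper7

variable {A : Type u} [CommRing A]

lemma fibDim_eventually_le (W : Type u) [AddCommGroup W] [Module A W] [Module.Finite A W]
    (z : PrimeSpectrum A) : ∀ᶠ y in nhds z, fibDim W y ≤ fibDim W z := by
  obtain ⟨U, hU, hx, hle⟩ := fibDim_le_nhds W z
  exact Filter.mem_of_superset (hU.mem_nhds hx) hle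

lemma fibDim_eventually_eq_of_flat [IsNoetherianRing A] (M : Type u) [AddCommGroup M] [Module A M]
    [Module.Finite A M] [Module.Flat A M] (z : PrimeSpectrum A) :
    ∀ᶠ y in nhds z, fibDim M y = fibDim M z := by
  haveI : Module.FinitePresentation A M := Module.finitePresentation_of_finite A _
  have hlc : IsLocallyConstant (Module.rankAtStalk (R := A) M) :=
    Module.isLocallyConstant_rankAtStalk
  have hU : IsOpen {y | Module.rankAtStalk (R := A) M y = Module.rankAtStalk (R := A) M z} :=
    hlc.isOpen_fiber _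
  refine Filter.mem_of_superset (hU.mem_nhds rfl) ?_
  intro y hy
  show fibDim M y = fibDim M z
  rw [fibDim_eq_rankAtStalk, fibDim_eq_rankAtStalk]
  exact hy

theorem dRank_eventually_const_of_neighbours [IsNoetherianRing A]
    (P : ChainComplex (ModuleCat.{u} A) ℤ)
    (hP : ∀ i, Module.Finite A (P.X i) ∧ Module.Flat A (P.X i))
    (p : ℤ) (z : PrimeSpectrum A)
    (hlo : ∀ᶠ x in nhds z, CohIII.dRank P (p - 1) x = CohIII.dRank P (p - 1) z)
    (hhi : ∀ᶠ x in nhds z, CohIII.dRank P (p + 1) x = CohIII.dRank P (p + 1) z) :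
    ∀ᶠ x in nhds z, CohIII.dRank P p x = CohIII.dRank P p z := by
  have hrel : ∀ i : ℤ, (ComplexShape.down ℤ).Rel i (i - 1) := by
    intro i
    show i - 1 + 1 = i
    ring
  haveI : ∀ i, Module.Finite A (P.X i) := fun i => (hP i).1
  haveI : ∀ i, Module.Flat A (P.X i) := fun i => (hP i).2
  haveI : ∀ i, Module.Finite A (P.opcycles i) := fun i => finite_opcycles P i
  have hK := fun (i : ℤ) (y : PrimeSpectrum A) => dRank_add_fibDim P i (i - 1) (hrel i) y
  have hp1 : p + 1 - 1 = p := by ring
  filter_upwards [hlo, hhi, fibDim_eventually_le (P.opcycles (p + 1)) z,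
    fibDim_eventually_le (P.opcycles p) z, fibDim_eventually_le (P.opcycles (p - 1)) z,
    fibDim_eventually_le (P.opcycles (p - 1 - 1)) z,
    fibDim_eventually_eq_of_flat (P.X p) z, fibDim_eventually_eq_of_flat (P.X (p - 1)) z,
    fibDim_eventually_eq_of_flat (P.X (p - 1 - 1)) z] with y h1 h2 h3 h4 h5 h6 h7 h8 h9
  have e1 := hK p y
  have e1z := hK p z
  have e2 := hK (p + 1) y
  have e2z := hK (p + 1) z
  have e3 := hK (p - 1) y
  have e3z := hK (p - 1) z
  rw [hp1] at e2 e2z
  omega

end Groth.Agent.Lib.Helper7
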