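import Mathlib
import Groth.Prelude.Def_ega3
import Groth.Agent.Lib.Helper7.FibNbhd
import Groth.Agent.Lib.Helper7.OpcyclesFlat
import Groth.Agent.Lib.Helper7.TFunLib
import Groth.Agent.Lib.Helper12.FibreRank
set_option autoImplicit false
universe u
open CategoryTheory CategoryTheory.Limits TensorProduct Module

namespace Groth.Agent.Lib.Helper7

variable {A : Type u} [CommRing A]

/-- K3a: reduced Noetherian ring, finite module with fibre dimension locally constant near each
point ⇒ flat. -/
theorem flat_of_fibDim_eventually_eq [IsNoetherianRing A] [IsReduced A] (W : Type u)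
    [AddCommGroup W] [Module A W] [Module.Finite A W]
    (h : ∀ z : PrimeSpectrum A, ∀ᶠ y in nhds z, fibDim W y = fibDim W z) :
    Module.Flat A W := by
  haveI : Module.FinitePresentation A W := Module.finitePresentation_of_finite A _
  haveI : Module.Projective A W := by
    rw [← Module.freeLocus_eq_univ_iff, Set.eq_univ_iff_forall]
    intro z
    refine Groth.Agent.Lib.Helper12.FibreRank.mem_freeLocus_of_fdim_eq W z (fun q hq => ?_)
    have hspec : q ⤳ z := (PrimeSpectrum.le_iff_specializes q z).1 hq
    exact (Filter.Eventually.filter_mono hspec (h z)).self_of_nhds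
  infer_instance

theorem dRank_locallyConstant_iff_exact [IsNoetherianRing A]
    (P : ChainComplex (ModuleCat.{u} A) ℤ)
    (hP : ∀ i, Module.Finite A (P.X i) ∧ Module.Flat A (P.X i)) (p : ℤ) :
    ((CohIII.TFun P p).PreservesMonomorphisms ∧ (CohIII.TFun P p).PreservesEpimorphisms →
        IsLocallyConstant (CohIII.dRank P p)) ∧
      (IsReduced A → IsLocallyConstant (CohIII.dRank P p) →
        (CohIII.TFun P p).PreservesMonomorphisms ∧ (CohIII.TFun P p).PreservesEpimorphisms) := by
  have hfl : ∀ i, Module.Flat A (P.X i) := fun i => (hP i).2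
  have hrel : (ComplexShape.down ℤ).Rel p (p - 1) := by
    show p - 1 + 1 = p
    ring
  haveI : Module.Finite A (P.X p) := (hP p).1
  haveI : Module.Finite A (P.X (p - 1)) := (hP (p - 1)).1
  haveI : Module.Flat A (P.X (p - 1)) := (hP (p - 1)).2
  haveI := finite_opcycles P p
  haveI := finite_opcycles P (p - 1)
  have hK := fun y => dRank_add_fibDim P p (p - 1) hrel y
  constructor
  · rintro ⟨hm, he⟩
    haveI hW : Module.Flat A (P.opcycles p) := (TFun_preservesMono_iff_flat_opcycles P hfl p).mp hm
    have hm' : (CohIII.TFun P (p - 1)).PreservesMonomorphisms :=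
      (TFun_preservesMono_iff_preservesEpi P hfl p (p - 1) hrel).mpr he
    haveI hW' : Module.Flat A (P.opcycles (p - 1)) :=
      (TFun_preservesMono_iff_flat_opcycles P hfl (p - 1)).mp hm'
    rw [IsLocallyConstant.iff_eventually_eq]
    intro z
    filter_upwards [fibDim_eventually_eq_of_flat (P.opcycles p) z,
      fibDim_eventually_eq_of_flat (P.opcycles (p - 1)) z,
      fibDim_eventually_eq_of_flat (P.X (p - 1)) z] with y h1 h2 h3
    have e1 := hK y
    have e2 := hK z
    omega
  · intro hred hlc
    haveI := hred
    rw [IsLocallyConstant.iff_eventually_eq] at hlc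
    have key : ∀ z : PrimeSpectrum A, ∀ᶠ y in nhds z,
        fibDim (P.opcycles p) y = fibDim (P.opcycles p) z ∧
        fibDim (P.opcycles (p - 1)) y = fibDim (P.opcycles (p - 1)) z := by
      intro z
      filter_upwards [hlc z, fibDim_eventually_le (P.opcycles p) z,
        fibDim_eventually_le (P.opcycles (p - 1)) z,
        fibDim_eventually_eq_of_flat (P.X (p - 1)) z] with y h1 h2 h3 h4
      have e1 := hK y
      have e2 := hK z
      omega
    haveI : Module.Flat A (P.opcycles p) :=
      flat_of_fibDim_eventually_eq (P.opcycles p) (fun z => (key z).mono (fun y hy => hy.1))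
    haveI : Module.Flat A (P.opcycles (p - 1)) :=
      flat_of_fibDim_eventually_eq (P.opcycles (p - 1)) (fun z => (key z).mono (fun y hy => hy.2))
    have hm : (CohIII.TFun P p).PreservesMonomorphisms :=
      (TFun_preservesMono_iff_flat_opcycles P hfl p).mpr inferInstance
    have hm' : (CohIII.TFun P (p - 1)).PreservesMonomorphisms :=
      (TFun_preservesMono_iff_flat_opcycles P hfl (p - 1)).mpr inferInstance
    exact ⟨hm, (TFun_preservesMono_iff_preservesEpi P hfl p (p - 1) hrel).mp hm'⟩

end Groth.Agent.Lib.Helper7
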