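import Mathlib
import Groth.Agent.Lib.Helper12.KrullAkizuki
set_option autoImplicit false
universe u
open IsLocalRing

namespace Groth.Agent.Lib.Helper7

/-- valuation ring dominating a prime of a domain inside a field -/
theorem exists_valuationSubring_dominating {A L : Type*} [CommRing A] [IsDomain A] [Field L]
    [Algebra A L] (hinj : Function.Injective (algebraMap A L)) (p : Ideal A) [p.IsPrime] :
    ∃ O : ValuationSubring L, ∃ hO : ∀ a, algebraMap A L a ∈ O,
      ∀ a ∈ p, ¬ IsUnit (⟨algebraMap A L a, hO a⟩ : O) := by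
  have hunits : ∀ y : p.primeCompl, IsUnit (algebraMap A L y) := by
    intro y
    apply IsUnit.mk0
    intro h0
    have : (y : A) = 0 := hinj (by rw [h0, map_zero])
    exact y.2 (this ▸ p.zero_mem)
  let g : Localization.AtPrime p →+* L := IsLocalization.lift (M := p.primeCompl) hunits
  obtain ⟨O, h, hloc⟩ := IsLocalRing.exists_factor_valuationRing g
  have hg : ∀ a, g (algebraMap A (Localization.AtPrime p) a) = algebraMap A L a :=
    fun a => IsLocalization.lift_eq _ a
  refine ⟨O, fun a => hg a ▸ h _, ?_⟩
  intro a ha hu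
  have heq : g.codRestrict O.toSubring h (algebraMap A (Localization.AtPrime p) a) =
      (⟨algebraMap A L a, hg a ▸ h _⟩ : O) := Subtype.ext (hg a)
  have hu2 : IsUnit (g.codRestrict O.toSubring h (algebraMap A (Localization.AtPrime p) a)) := by
    rw [heq]; exact hu
  have hu' := hloc.map_nonunit _ hu2
  exact ((IsLocalization.AtPrime.to_map_mem_maximal_iff (Localization.AtPrime p) p a).mpr ha) hu'

theorem exists_dvr_of_principal {C L : Type u} [CommRing C] [IsDomain C] [IsNoetherianRing C]
    [Field L] [Algebra C L] [IsFractionRing C L]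
    (y : C) (hy0 : y ≠ 0) (hyu : ¬ IsUnit y) :
    ∃ R : ValuationSubring L, IsDiscreteValuationRing R ∧ ∃ hR : ∀ c : C, algebraMap C L c ∈ R,
      ∀ c ∈ Ideal.span {y}, ¬ IsUnit (⟨algebraMap C L c, hR c⟩ : R) := by
  have hItop : Ideal.span {y} ≠ ⊤ := by
    rw [Ne, Ideal.span_singleton_eq_top]; exact hyu
  obtain ⟨q, hq⟩ := Ideal.nonempty_minimalPrimes hItop
  have hqprime : q.IsPrime := hq.isPrime
  have hyq : y ∈ q := hq.1.2 (Ideal.mem_span_singleton_self y)
  have hht : q.height ≤ 1 :=
    Ideal.height_le_one_of_isPrincipal_of_mem_minimalPrimes (Ideal.span {y}) q hq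
  have hqle : q.primeCompl ≤ nonZeroDivisors C := by
    intro c hc
    rw [mem_nonZeroDivisors_iff_ne_zero]
    rintro rfl
    exact hc q.zero_mem
  let B := Localization.subalgebra.ofField L q.primeCompl hqle
  have hBloc : IsLocalization.AtPrime B q :=
    Localization.subalgebra.isLocalization_ofField L q.primeCompl hqle
  have hBnoeth : IsNoetherianRing B := IsLocalization.isNoetherianRing q.primeCompl B inferInstance
  have hBlocal : IsLocalRing B := IsLocalization.AtPrime.isLocalRing B q
  have hBdim : Ring.KrullDimLE 1 B := by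
    rw [Ring.krullDimLE_iff, IsLocalization.AtPrime.ringKrullDim_eq_height q B]
    exact_mod_cast hht
  obtain ⟨R, h, hloc⟩ := IsLocalRing.exists_factor_valuationRing (algebraMap B L)
  have hymax : algebraMap C B y ∈ maximalIdeal B :=
    (IsLocalization.AtPrime.to_map_mem_maximal_iff B q y).mpr hyq
  have hnonunit : ∀ c ∈ q, ¬ IsUnit ((algebraMap B L).codRestrict R.toSubring h (algebraMap C B c)) := by
    intro c hc hu
    have := hloc.map_nonunit _ hu
    exact ((IsLocalization.AtPrime.to_map_mem_maximal_iff B q c).mpr hc) this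
  have hRne : R ≠ ⊤ := by
    intro htop
    apply hnonunit y hyq
    have hyL : algebraMap C L y ≠ 0 := by
      rw [Ne, map_eq_zero_iff _ (IsFractionRing.injective C L)]; exact hy0
    have hinv : (algebraMap C L y)⁻¹ ∈ R := by rw [htop]; trivial
    refine IsUnit.of_mul_eq_one ⟨_, hinv⟩ (Subtype.ext ?_)
    show algebraMap B L (algebraMap C B y) * (algebraMap C L y)⁻¹ = 1
    rw [← IsScalarTower.algebraMap_apply C B L, mul_inv_cancel₀ hyL]
  have hdvr : IsDiscreteValuationRing R :=
    Groth.Agent.Lib.Helper12.KA.isDiscreteValuationRing_of_le (A := B) R h hRne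
  have hR : ∀ c : C, algebraMap C L c ∈ R := by
    intro c
    rw [IsScalarTower.algebraMap_apply C B L]
    exact h _
  refine ⟨R, hdvr, hR, ?_⟩
  intro c hc hu
  have hcq : c ∈ q := hq.1.2 hc
  apply hnonunit c hcq
  have heq : (algebraMap B L).codRestrict R.toSubring h (algebraMap C B c) =
      (⟨algebraMap C L c, hR c⟩ : R) := Subtype.ext (IsScalarTower.algebraMap_apply C B L c).symm
  rw [heq]; exact hu

end Groth.Agent.Lib.Helper7
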