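import Mathlib
import Groth.Agent.Lib.Helper12.KrullAkizuki
import Groth.Agent.Lib.Helper7.KADvr1
set_option autoImplicit false
universe u
open IsLocalRing

namespace Groth.Agent.Lib.Helper7

theorem exists_dvr_dominating' (A : Type u) [CommRing A] [IsDomain A] [IsNoetherianRing A]
    (L : Type u) [Field L] [Algebra A L] (hinj : Function.Injective (algebraMap A L))
    (hfg : ∃ S : Finset L, Subfield.closure (Set.range (algebraMap A L) ∪ (S : Set L)) = ⊤)
    (p : Ideal A) [p.IsPrime] (hp : p ≠ ⊥) :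
    ∃ R : ValuationSubring L, IsDiscreteValuationRing R ∧ (∀ a : A, algebraMap A L a ∈ R) ∧
      ∀ a ∈ p, R.valuation (algebraMap A L a) < 1 := by
  classical
  obtain ⟨O, hO, hOp⟩ := exists_valuationSubring_dominating hinj p
  obtain ⟨S, hS⟩ := hfg
  let OA : Subalgebra A L := { O.toSubring.toSubsemiring with algebraMap_mem' := hO }
  let T₁ : Finset L := S.image (fun s => if s ∈ O then s else s⁻¹)
  have hT₁ : ∀ t ∈ T₁, t ∈ O := by
    intro t ht
    obtain ⟨s, hs, rfl⟩ := Finset.mem_image.mp ht
    by_cases h : s ∈ O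
    · simp only [h, if_true]
    · simp only [h, if_false]; exact (O.mem_or_inv_mem s).resolve_left h
  let C₁ : Subalgebra A L := Algebra.adjoin A (T₁ : Set L)
  have hC₁O : C₁ ≤ OA := Algebra.adjoin_le (fun t ht => hT₁ t ht)
  have hC₁noeth : IsNoetherianRing C₁ := isNoetherianRing_of_fg (Subalgebra.fg_adjoin_finset T₁)
  let ι₁ : C₁ →+* O := (algebraMap C₁ L).codRestrict O.toSubring (fun c => hC₁O c.2)
  let p₁ : Ideal C₁ := Ideal.comap ι₁ (maximalIdeal O)
  have hpp₁ : ∀ a ∈ p, algebraMap A C₁ a ∈ p₁ := by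
    intro a ha
    show ι₁ (algebraMap A C₁ a) ∈ maximalIdeal O
    rw [mem_maximalIdeal, mem_nonunits_iff]
    exact hOp a ha
  obtain ⟨a₀, ha₀p, ha₀0⟩ := Submodule.exists_mem_ne_zero_of_ne_bot hp
  have hinjC₁ : Function.Injective (algebraMap A C₁) := by
    intro a b hab
    apply hinj
    exact congrArg Subtype.val hab
  obtain ⟨G, hG⟩ := (isNoetherianRing_iff_ideal_fg C₁).mp hC₁noeth p₁
  have hGne : (G.filter (· ≠ 0)).Nonempty := by
    by_contra hemp
    rw [Finset.not_nonempty_iff_eq_empty] at hemp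
    have hall : ∀ g ∈ G, g = 0 := by
      intro g hg
      by_contra hg0
      have : g ∈ G.filter (· ≠ 0) := Finset.mem_filter.mpr ⟨hg, hg0⟩
      rw [hemp] at this
      exact absurd this (Finset.notMem_empty g)
    have hbot : p₁ = ⊥ := by
      rw [← hG, Ideal.span_eq_bot]
      intro g hg
      exact hall g hg
    have h1 := hpp₁ a₀ ha₀p
    rw [hbot, Ideal.mem_bot] at h1
    exact ha₀0 (hinjC₁ (by rw [h1, map_zero]))
  obtain ⟨y, hyG', hymax⟩ := Finset.exists_max_image (G.filter (· ≠ 0))
    (fun g => O.valuation (g : L)) hGne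
  have hyG : y ∈ G := (Finset.mem_filter.mp hyG').1
  have hy0 : y ≠ 0 := (Finset.mem_filter.mp hyG').2
  have hyL0 : (y : L) ≠ 0 := fun h => hy0 (Subtype.ext h)
  have hyp₁ : y ∈ p₁ := by rw [← hG]; exact Ideal.subset_span hyG
  have hdiv : ∀ g ∈ G, (g : L) / (y : L) ∈ O := by
    intro g hg
    by_cases hg0 : g = 0
    · rw [hg0]; simp
    · have hgG' : g ∈ G.filter (· ≠ 0) := Finset.mem_filter.mpr ⟨hg, hg0⟩
      have hle := hymax g hgG'
      rw [← O.valuation_le_one_iff, map_div₀]
      have hvy : 0 < O.valuation (y : L) := by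
        rw [zero_lt_iff]
        exact (Valuation.ne_zero_iff _).mpr hyL0
      exact (div_le_one₀ hvy).mpr hle
  let T₂ : Finset L := T₁ ∪ G.image (fun g : C₁ => (g : L) / (y : L))
  have hT₂ : ∀ t ∈ T₂, t ∈ O := by
    intro t ht
    rcases Finset.mem_union.mp ht with h | h
    · exact hT₁ t h
    · obtain ⟨g, hg, rfl⟩ := Finset.mem_image.mp h
      exact hdiv g hg
  let C : Subalgebra A L := Algebra.adjoin A (T₂ : Set L)
  have hCO : C ≤ OA := Algebra.adjoin_le (fun t ht => hT₂ t ht)
  have hCnoeth : IsNoetherianRing C := isNoetherianRing_of_fg (Subalgebra.fg_adjoin_finset T₂)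
  have hC₁C : C₁ ≤ C := Algebra.adjoin_mono (by
    intro t ht
    exact Finset.mem_coe.mpr (Finset.mem_union_left _ (Finset.mem_coe.mp ht)))
  let y' : C := ⟨y.1, hC₁C y.2⟩
  have hy'0 : y' ≠ 0 := fun h => hyL0 (congrArg Subtype.val h)
  have hy'u : ¬ IsUnit y' := by
    intro hu
    obtain ⟨c, hc⟩ := hu.exists_right_inv
    have hcL : (y : L) * (c : L) = 1 := congrArg Subtype.val hc
    have hunit : IsUnit (ι₁ y) := by
      refine IsUnit.of_mul_eq_one ⟨(c : L), hCO c.2⟩ (Subtype.ext ?_)
      exact hcL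
    have : ι₁ y ∈ maximalIdeal O := hyp₁
    rw [mem_maximalIdeal, mem_nonunits_iff] at this
    exact this hunit
  let j : C₁ →+* C := (Subalgebra.inclusion hC₁C).toRingHom
  have hjspan : Ideal.map j p₁ ≤ Ideal.span {y'} := by
    rw [← hG, Ideal.map_span, Ideal.span_le]
    rintro _ ⟨g, hg, rfl⟩
    rw [SetLike.mem_coe, Ideal.mem_span_singleton']
    have hmem : (g : L) / (y : L) ∈ C := Algebra.subset_adjoin (Finset.mem_coe.mpr
      (Finset.mem_union_right _ (Finset.mem_image.mpr ⟨g, hg, rfl⟩)))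
    refine ⟨⟨(g : L) / (y : L), hmem⟩, Subtype.ext ?_⟩
    show (g : L) / (y : L) * (y : L) = (g : L)
    rw [div_mul_cancel₀ _ hyL0]
  have hpy : ∀ a ∈ p, algebraMap A C a ∈ Ideal.span {y'} := by
    intro a ha
    have : algebraMap A C a = j (algebraMap A C₁ a) := rfl
    rw [this]
    exact hjspan (Ideal.mem_map_of_mem j (hpp₁ a ha))
  -- fraction field
  have hfrac : IsFractionRing C L := by
    have : FaithfulSMul C L := (faithfulSMul_iff_algebraMap_injective C L).mpr Subtype.val_injective
    refine IsFractionRing.of_field C L fun z => ?_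
    let F : Subfield L := Subfield.closure (C : Set L)
    have hAF : ∀ a : A, algebraMap A L a ∈ F := fun a => Subfield.subset_closure (C.algebraMap_mem a)
    have hSF : (S : Set L) ⊆ F := by
      intro s hs
      have ht : (if s ∈ O then s else s⁻¹) ∈ C := Algebra.subset_adjoin (Finset.mem_coe.mpr
        (Finset.mem_union_left _ (Finset.mem_image.mpr ⟨s, hs, rfl⟩)))
      have htF : (if s ∈ O then s else s⁻¹) ∈ F := Subfield.subset_closure ht
      by_cases h : s ∈ O
      · simp only [h, if_true] at htF; exact htF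
      · simp only [h, if_false] at htF
        have := inv_mem htF
        rwa [inv_inv] at this
    have hle : Subfield.closure (Set.range (algebraMap A L) ∪ (S : Set L)) ≤ F :=
      Subfield.closure_le.mpr (Set.union_subset (by rintro _ ⟨a, rfl⟩; exact hAF a) hSF)
    have hz : z ∈ F := by
      have : z ∈ Subfield.closure (Set.range (algebraMap A L) ∪ (S : Set L)) := by
        rw [hS]; trivial
      exact hle this
    obtain ⟨x, hx, w, hw, rfl⟩ := Subfield.mem_closure_iff.mp hz
    have hcl : Subring.closure (C : Set L) = C.toSubring := Subring.closure_eq C.toSubring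
    rw [hcl] at hx hw
    exact ⟨⟨x, hx⟩, ⟨w, hw⟩, rfl⟩
  obtain ⟨R, hdvr, hR, hnon⟩ := exists_dvr_of_principal (C := C) (L := L) y' hy'0 hy'u
  refine ⟨R, hdvr, fun a => hR (algebraMap A C a), ?_⟩
  intro a ha
  have h1 := hnon (algebraMap A C a) (hpy a ha)
  have h2 : (⟨algebraMap A L a, hR (algebraMap A C a)⟩ : R) ∈ maximalIdeal R := by
    rw [mem_maximalIdeal, mem_nonunits_iff]; exact h1
  exact (R.valuation_lt_one_iff _).mp h2

theorem exists_dvr_dominating (A : Type u) [CommRing A] [IsDomain A] [IsNoetherianRing A]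
    (K : Type u) [Field K] [Algebra A K] [IsFractionRing A K]
    (L : Type u) [Field L] [Algebra K L] [Algebra A L] [IsScalarTower A K L]
    (hfg : (⊤ : IntermediateField K L).FG) (p : Ideal A) [p.IsPrime] (hp : p ≠ ⊥) :
    ∃ R : ValuationSubring L, IsDiscreteValuationRing R ∧ (∀ a : A, algebraMap A L a ∈ R) ∧
      ∀ a ∈ p, R.valuation (algebraMap A L a) < 1 := by
  have hinj : Function.Injective (algebraMap A L) := by
    rw [IsScalarTower.algebraMap_eq A K L]
    exact (algebraMap K L).injective.comp (IsFractionRing.injective A K)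
  refine exists_dvr_dominating' A L hinj ?_ p hp
  obtain ⟨S, hS⟩ := hfg
  refine ⟨S, ?_⟩
  rw [eq_top_iff]
  intro z _
  let F : Subfield L := Subfield.closure (Set.range (algebraMap A L) ∪ (S : Set L))
  have hAF : ∀ a : A, algebraMap A L a ∈ F := fun a =>
    Subfield.subset_closure (Or.inl ⟨a, rfl⟩)
  let F' : IntermediateField K L := { F with
    algebraMap_mem' := by
      intro k
      obtain ⟨a, b, _, rfl⟩ := IsFractionRing.div_surjective (A := A) k
      rw [map_div₀, ← IsScalarTower.algebraMap_apply, ← IsScalarTower.algebraMap_apply]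
      exact div_mem (hAF a) (hAF b) }
  have hSF : (S : Set L) ⊆ F' := fun s hs => Subfield.subset_closure (Or.inr hs)
  have hle : IntermediateField.adjoin K (S : Set L) ≤ F' := IntermediateField.adjoin_le_iff.mpr hSF
  have hz : z ∈ IntermediateField.adjoin K (S : Set L) := by rw [hS]; trivial
  exact hle hz

end Groth.Agent.Lib.Helper7
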