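import Mathlib
import Groth.Agent.Lib.Helper7.KADvr2
set_option autoImplicit false
universe u
open IsLocalRing

namespace Groth.Agent.Lib.Helper7

theorem injective_algebraMap_of_tower (A : Type u) [CommRing A] [IsDomain A]
    (K : Type u) [Field K] [Algebra A K] [IsFractionRing A K]
    (L : Type u) [Field L] [Algebra K L] [Algebra A L] [IsScalarTower A K L] :
    Function.Injective (algebraMap A L) := by
  rw [IsScalarTower.algebraMap_eq A K L]
  exact (algebraMap K L).injective.comp (IsFractionRing.injective A K)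

theorem exists_finset_closure_eq_top (A : Type u) [CommRing A] [IsDomain A]
    (K : Type u) [Field K] [Algebra A K] [IsFractionRing A K]
    (L : Type u) [Field L] [Algebra K L] [Algebra A L] [IsScalarTower A K L]
    (hfg : (⊤ : IntermediateField K L).FG) :
    ∃ S : Finset L, Subfield.closure (Set.range (algebraMap A L) ∪ (S : Set L)) = ⊤ := by
  obtain ⟨S, hS⟩ := hfg
  refine ⟨S, ?_⟩
  rw [eq_top_iff]
  intro z _
  let F : Subfield L := Subfield.closure (Set.range (algebraMap A L) ∪ (S : Set L))
  have hAF : ∀ a : A, algebraMap A L a ∈ F := fun a =>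
    Subfield.subset_closure (Or.inl ⟨a, rfl⟩)
  let F' : IntermediateField K L := { F with
    algebraMap_mem' := by
      intro k
      obtain ⟨a, b, _, rfl⟩ := IsFractionRing.div_surjective (A := A) k
      rw [map_div₀, ← IsScalarTower.algebraMap_apply, ← IsScalarTower.algebraMap_apply]
      exact div_mem (hAF a) (hAF b) }
  have hSF : (S : Set L) ⊆ F' := fun s hs => Subfield.subset_closure (Or.inr hs)
  have hle : IntermediateField.adjoin K (S : Set L) ≤ F' := IntermediateField.adjoin_le_iff.mpr hSF
  have hz : z ∈ IntermediateField.adjoin K (S : Set L) := by rw [hS]; trivial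
  exact hle hz

theorem mem_valuationSubring_of_isIntegral {A L : Type*} [CommRing A] [Field L] [Algebra A L]
    (R : ValuationSubring L) (hR : ∀ a, algebraMap A L a ∈ R) {x : L} (hx : IsIntegral A x) :
    x ∈ R := by
  obtain ⟨p, hp, hpx⟩ := hx
  let f : A →+* R := (algebraMap A L).codRestrict R.toSubring hR
  have hxR : IsIntegral R x := by
    refine ⟨p.map f, hp.map f, ?_⟩
    rw [Polynomial.eval₂_map]
    exact hpx
  obtain ⟨y, hy⟩ := IsIntegrallyClosed.isIntegral_iff.mp hxR
  rw [← hy]; exact y.2

theorem isIntegral_of_forall_dvr (A : Type u) [CommRing A] [IsDomain A] [IsNoetherianRing A]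
    (L : Type u) [Field L] [Algebra A L]
    (hfg : ∃ S : Finset L, Subfield.closure (Set.range (algebraMap A L) ∪ (S : Set L)) = ⊤)
    (x : L) (hx : ∀ R : ValuationSubring L, IsDiscreteValuationRing R →
      (∀ a : A, algebraMap A L a ∈ R) → x ∈ R) : IsIntegral A x := by
  classical
  by_contra hni
  have hx0 : x ≠ 0 := fun h => hni (h ▸ isIntegral_zero)
  let u : L := x⁻¹
  have hu0 : u ≠ 0 := inv_ne_zero hx0
  letI : Invertible u := invertibleOfNonzero hu0
  have hinvu : ⅟u = x := by rw [invOf_eq_inv]; exact inv_inv x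
  let A' : Subalgebra A L := Algebra.adjoin A {u}
  let u' : A' := ⟨u, Algebra.subset_adjoin rfl⟩
  have hspan : Ideal.span {u'} ≠ ⊤ := by
    intro htop
    have h : (⊥ : Ideal A).map (algebraMap A A') ⊔ Ideal.span {u'} = ⊤ := by
      rw [htop]; exact sup_top_eq _
    obtain ⟨p, hp, hpx⟩ :=
      Algebra.exists_aeval_invOf_eq_zero_of_idealMap_adjoin_sup_span_eq_top u ⊥ bot_ne_top h
    rw [hinvu] at hpx
    have hmonic : p.Monic := by
      have : p.leadingCoeff - 1 = 0 := by simpa using hp
      exact sub_eq_zero.mp this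
    exact hni ⟨p, hmonic, hpx⟩
  obtain ⟨n, hnmax, hn⟩ := Ideal.exists_le_maximal _ hspan
  have hun : u' ∈ n := hn (Ideal.subset_span rfl)
  have hnbot : n ≠ ⊥ := by
    intro h
    rw [h] at hun
    have h0 : u' = 0 := hun
    exact hu0 (congrArg Subtype.val h0)
  have hfgA' : (Algebra.adjoin A ({u} : Set L)).FG := by
    have := Subalgebra.fg_adjoin_finset (R := A) ({u} : Finset L)
    rwa [Finset.coe_singleton] at this
  haveI : IsNoetherianRing A' := isNoetherianRing_of_fg hfgA'
  haveI := hnmax.isPrime
  have hinj' : Function.Injective (algebraMap A' L) := Subtype.val_injective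
  have hfg' : ∃ S : Finset L,
      Subfield.closure (Set.range (algebraMap A' L) ∪ (S : Set L)) = ⊤ := by
    obtain ⟨S, hS⟩ := hfg
    refine ⟨S, ?_⟩
    rw [eq_top_iff, ← hS]
    refine Subfield.closure_mono (Set.union_subset_union_left _ ?_)
    rintro _ ⟨a, rfl⟩
    exact ⟨algebraMap A A' a, rfl⟩
  obtain ⟨R, hdvr, hR, hlt⟩ := exists_dvr_dominating' A' L hinj' hfg' n hnbot
  have hRA : ∀ a : A, algebraMap A L a ∈ R := fun a => hR (algebraMap A A' a)
  have hxR : x ∈ R := hx R hdvr hRA
  have hvu : R.valuation u < 1 := hlt u' hun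
  have hvx : R.valuation x ≤ 1 := (R.valuation_le_one_iff x).mpr hxR
  have h1 : R.valuation (u * x) = 1 := by
    show R.valuation (x⁻¹ * x) = 1
    rw [inv_mul_cancel₀ hx0, map_one]
  rw [map_mul] at h1
  have h2 : R.valuation u * R.valuation x < 1 :=
    calc R.valuation u * R.valuation x ≤ R.valuation u * 1 := mul_le_mul' le_rfl hvx
      _ = R.valuation u := mul_one _
      _ < 1 := hvu
  exact absurd h1 (ne_of_lt h2)

end Groth.Agent.Lib.Helper7
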