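import Mathlib
import Groth.Agent.Lib.Helper7.KADvr3
set_option autoImplicit false
universe u
open AlgebraicGeometry CategoryTheory IsLocalRing

namespace Groth.Agent.Lib.Helper7

theorem closure_eq_top_of_essFiniteType {R L : Type*} [CommRing R] [Field L] (f : R →+* L)
    (hf : f.EssFiniteType) :
    ∃ S : Finset L, Subfield.closure (Set.range f ∪ (S : Set L)) = ⊤ := by
  algebraize [f]
  obtain ⟨σ, hσ⟩ := (Algebra.essFiniteType_iff R L).mp (inferInstanceAs (Algebra.EssFiniteType R L))
  refine ⟨σ, ?_⟩
  rw [eq_top_iff]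
  intro z _
  have hle : ∀ a ∈ Algebra.adjoin R (σ : Set L),
      a ∈ Subfield.closure (Set.range f ∪ (σ : Set L)) := by
    intro a ha
    induction ha using Algebra.adjoin_induction with
    | mem x hx => exact Subfield.subset_closure (Or.inr hx)
    | algebraMap r => exact Subfield.subset_closure (Or.inl ⟨r, rfl⟩)
    | add x y _ _ hx hy => exact add_mem hx hy
    | mul x y _ _ hx hy => exact mul_mem hx hy
  obtain ⟨t, ht, htu, hzt⟩ := hσ z
  have ht0 : t ≠ 0 := htu.ne_zero
  have : z = (z * t) / t := by field_simp
  rw [this]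
  exact div_mem (hle _ hzt) (hle _ ht)

theorem exists_dvr_through_specialization {X Y : Scheme.{u}} [IsLocallyNoetherian Y]
    (p : X ⟶ Y) [LocallyOfFiniteType p] (x : X) (y' : Y)
    (hsp : p.base x ⤳ y') (hne : y' ≠ p.base x) :
    ∃ (A : ValuationSubring (X.residueField x)) (h : Spec (CommRingCat.of A) ⟶ Y),
      IsDiscreteValuationRing A ∧
      h.base (IsLocalRing.closedPoint A) = y' ∧
      Spec.map (CommRingCat.ofHom A.subtype) ≫ h = X.fromSpecResidueField x ≫ p := by
  let φ : Y.presheaf.stalk y' ⟶ X.residueField x :=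
    Y.presheaf.stalkSpecializes hsp ≫ p.stalkMap x ≫ X.residue x
  have w0 : X.fromSpecResidueField x ≫ p = Spec.map φ ≫ Y.fromSpecStalk y' := by
    rw [Scheme.fromSpecResidueField, Category.assoc, ← Scheme.SpecMap_stalkMap_fromSpecStalk,
      ← Scheme.SpecMap_stalkSpecializes_fromSpecStalk hsp]
    simp_rw [← Spec.map_comp_assoc]
    rfl
  obtain ⟨A, hdvr, hA, hA_local⟩ : ∃ A : ValuationSubring (X.residueField x),
      IsDiscreteValuationRing A ∧ (∀ a, φ.hom a ∈ A) ∧
      ∀ a ∈ maximalIdeal (Y.presheaf.stalk y'), A.valuation (φ.hom a) < 1 := by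
    let f : Y.presheaf.stalk y' →+* X.residueField x := φ.hom
    let B : Subring (X.residueField x) := f.range
    let g : Y.presheaf.stalk y' →+* B := f.rangeRestrict
    have hg : Function.Surjective g := f.rangeRestrict_surjective
    haveI : IsNoetherianRing B := isNoetherianRing_of_surjective _ _ g hg
    haveI : IsLocalRing B := IsLocalRing.of_surjective' g hg
    haveI : IsLocalHom g := IsLocalHom.of_surjective g hg
    have hinj : Function.Injective (algebraMap B (X.residueField x)) := Subtype.val_injective
    have hloc : ∀ a ∈ maximalIdeal (Y.presheaf.stalk y'), g a ∈ maximalIdeal B := by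
      intro a ha
      rw [mem_maximalIdeal, mem_nonunits_iff] at ha ⊢
      exact fun h => ha (isUnit_of_map_unit g a h)
    have hpbot : maximalIdeal B ≠ ⊥ := by
      intro hbot
      apply hne
      have hker : ∀ a ∈ maximalIdeal (Y.presheaf.stalk y'), f a = 0 := fun a ha => by
        have h1 := hloc a ha
        rw [hbot] at h1
        have h2 : g a = 0 := h1
        exact congrArg Subtype.val h2
      haveI : IsLocalHom f := ⟨fun a ha => by
        by_contra hnu
        exact ha.ne_zero (hker a ((mem_maximalIdeal a).mpr hnu))⟩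
      have h2 := congrArg (fun k => k.base (closedPoint (X.residueField x))) w0
      simp only [Scheme.Hom.comp_base, TopCat.coe_comp, Function.comp_apply] at h2
      rw [Scheme.fromSpecResidueField_apply] at h2
      have h3 : (Spec.map φ).base (closedPoint (X.residueField x)) =
          closedPoint (Y.presheaf.stalk y') := comap_closedPoint (S := X.residueField x) f
      rw [h3, Y.fromSpecStalk_closedPoint] at h2
      exact h2.symm
    have hfg : ∃ S : Finset (X.residueField x),
        Subfield.closure (Set.range (algebraMap B (X.residueField x)) ∪ (S : Set _)) = ⊤ := by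
      obtain ⟨W, hW, hy'W⟩ : ∃ W : Y.Opens, IsAffineOpen W ∧ y' ∈ W := by
        obtain ⟨_, ⟨W, hW, rfl⟩, hy', -⟩ :=
          Y.isBasis_affineOpens.exists_subset_of_mem_open (Set.mem_univ y') isOpen_univ
        exact ⟨W, hW, hy'⟩
      have hyW : p.base x ∈ W := hsp.mem_open W.2 hy'W
      let θ : Γ(Y, W) →+* X.residueField x := f.comp (Y.presheaf.germ W y' hy'W).hom
      have hθ : θ.EssFiniteType := by
        have e : θ = ((X.residue x).hom.comp (p.stalkMap x).hom).comp
            (Y.presheaf.germ W (p.base x) hyW).hom := by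
          rw [← TopCat.Presheaf.germ_stalkSpecializes Y.presheaf hy'W hsp]
          rfl
        rw [e]
        refine RingHom.EssFiniteType.comp ?_ ?_
        · letI : Algebra Γ(Y, W) (Y.presheaf.stalk (p.base x)) :=
            TopCat.Presheaf.algebra_section_stalk Y.presheaf (⟨p.base x, hyW⟩ : W)
          haveI : IsLocalization.AtPrime (Y.presheaf.stalk (p.base x))
              (hW.primeIdealOf ⟨p.base x, hyW⟩).asIdeal := hW.isLocalization_stalk ⟨_, hyW⟩
          have := Algebra.EssFiniteType.of_isLocalization (R := Γ(Y, W))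
            (Y.presheaf.stalk (p.base x)) (hW.primeIdealOf ⟨_, hyW⟩).asIdeal.primeCompl
          exact RingHom.essFiniteType_algebraMap.mpr this
        · exact RingHom.EssFiniteType.comp (LocallyOfFiniteType.stalkMap p x)
            (RingHom.FiniteType.essFiniteType
              (RingHom.FiniteType.of_surjective _ (X.residue_surjective x)))
      obtain ⟨S, hS⟩ := closure_eq_top_of_essFiniteType θ hθ
      refine ⟨S, ?_⟩
      rw [eq_top_iff, ← hS]
      refine Subfield.closure_mono (Set.union_subset_union_left _ ?_)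
      rintro _ ⟨a, rfl⟩
      exact ⟨g (Y.presheaf.germ W y' hy'W a), rfl⟩
    obtain ⟨R, hdvr, hR, hlt⟩ :=
      exists_dvr_dominating' B (X.residueField x) hinj hfg (maximalIdeal B) hpbot
    exact ⟨R, hdvr, fun a => hR (g a), fun a ha => hlt (g a) (hloc a ha)⟩
  let ψ : Y.presheaf.stalk y' ⟶ .of A := CommRingCat.ofHom (φ.hom.codRestrict _ hA)
  haveI : IsLocalHom (φ.hom.codRestrict A.toSubring hA) := ⟨fun a ha => by
    by_contra hnu
    have hm : a ∈ maximalIdeal (Y.presheaf.stalk y') := (mem_maximalIdeal a).mpr hnu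
    have h1 := hA_local a hm
    have h2 : A.valuation (φ.hom a) = 1 :=
      (A.valuation_eq_one_iff ⟨φ.hom a, hA a⟩).mp ha
    exact absurd h2 (ne_of_lt h1)⟩
  have w : X.fromSpecResidueField x ≫ p =
      Spec.map (CommRingCat.ofHom (algebraMap A (X.residueField x))) ≫
        Spec.map ψ ≫ Y.fromSpecStalk y' := by
    rw [w0, ← Spec.map_comp_assoc]
    rfl
  have hclosed : (Spec.map ψ ≫ Y.fromSpecStalk y').base (closedPoint A) = y' := by
    simp only [Scheme.Hom.comp_base, TopCat.coe_comp, Function.comp_apply]
    have : Spec.map ψ (closedPoint A) = closedPoint (Y.presheaf.stalk y') :=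
      comap_closedPoint (S := A) (φ.hom.codRestrict A.toSubring hA)
    rw [this, Y.fromSpecStalk_closedPoint]
  exact ⟨A, Spec.map ψ ≫ Y.fromSpecStalk y', hdvr, hclosed, w.symm⟩

end Groth.Agent.Lib.Helper7
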