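import Groth.Agent.Lib.Helper7.AmpleGlue
import Groth.Agent.Lib.Helper17.DevEngine
import Groth.Agent.Lib.Helper3.PbAmple

/-!
# Ampleness can be checked on the irreducible components (proper over a Noetherian ring)
-/

set_option autoImplicit false
set_option linter.unusedSectionVars false
set_option linter.style.haveILetI false
universe u
open CategoryTheory CategoryTheory.Limits AlgebraicGeometry TopologicalSpace Opposite
open Scheme.Modules

noncomputable section

namespace Groth.Agent.Lib.Helper7.AmpleComp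

open Groth.Agent.Lib.Helper3 Groth.Agent.Lib.Helper13
open QCSec InvGen InvTensor InvMonoidal PbTensor PbBasic
open Groth.Agent.Lib.Helper7.TwFun Groth.Agent.Lib.Helper17.DevStep Groth.Agent.Lib.Helper17.DevBasic

variable {X : Scheme.{u}}

/-- eventual vanishing of the higher cohomology of the twists of `M`. -/
def EvVan (L M : X.Modules) : Prop :=
  ∃ n₀ : ℕ, ∀ n : ℕ, n₀ ≤ n → ∀ p : ℕ, 0 < p →
    Subsingleton (Coh.HH X (CohB1.tensorMod M (CohB1.tensorPow L n)) p)

lemma evVan_of_iso (L : X.Modules) {M N : X.Modules} (e : M ≅ N) (h : EvVan L M) : EvVan L N := by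
  obtain ⟨n₀, hn₀⟩ := h
  exact ⟨n₀, fun n hn p hp =>
    subsingleton_HH_of_iso (tensorMapIso e.symm (Iso.refl _)) p (hn₀ n hn p hp)⟩

lemma evVan_of_isZero (L : X.Modules) {M : X.Modules} (h : IsZero M) : EvVan L M := by
  refine ⟨0, fun n _ p _ => ?_⟩
  have hz : IsZero (CohB1.tensorMod M (CohB1.tensorPow L n)) :=
    (twR (CohB1.tensorPow L n)).map_isZero h
  have hz' : IsZero (Coh.toAb (CohB1.tensorMod M (CohB1.tensorPow L n))) :=
    (SerreCrit1.TT X).map_isZero hz
  exact Sheaf.subsingleton_H_of_isZero hz' p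

lemma evVan_ext {L : X.Modules} (hL : PicF.IsInvertible L) (S : ShortComplex X.Modules)
    (hS : S.ShortExact) (h1 : EvVan L S.X₁) (h3 : EvVan L S.X₃) : EvVan L S.X₂ := by
  obtain ⟨n₁, h₁⟩ := h1
  obtain ⟨n₂, h₂⟩ := h3
  refine ⟨max n₁ n₂, fun n hn p hp => ?_⟩
  have hS' := AmpleH1.shortExact_tw (isInvertible_tensorPow hL n) S hS
  exact SerreCrit1.subsingleton_H1_middle _ hS' p
    (h₁ n ((le_max_left _ _).trans hn) p hp) (h₂ n ((le_max_right _ _).trans hn) p hp)

/-- ampleness can be checked on the irreducible components. -/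
theorem isAmple_of_irreducibleComponents (A : Type u) [CommRing A] [IsNoetherianRing A]
    (f : X ⟶ Spec (CommRingCat.of A)) [IsProper f] {L : X.Modules} (hL : PicF.IsInvertible L)
    (h : ∀ Z : Closeds X, (Z : Set X) ∈ irreducibleComponents X →
      CohB1.IsAmple ((Scheme.Modules.pullback
        (Scheme.IdealSheafData.vanishingIdeal Z).subschemeι).obj L)) : CohB1.IsAmple L := by
  haveI : IsLocallyNoetherian X := LocallyOfFiniteType.isLocallyNoetherian f
  haveI : CompactSpace X := QuasiCompact.compactSpace_of_compactSpace f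
  haveI : IsNoetherian X := {}
  rw [AmpleSerre.isAmple_iff_serre_vanishing A f hL]
  intro F hF
  refine Groth.Agent.Lib.Helper17.DevEngine.engine X (EvVan L)
    (fun M N ⟨e⟩ hM => evVan_of_iso L e hM) Set.univ (fun M hM => evVan_of_isZero L hM)
    (fun S hS _ _ _ _ h1 h3 => evVan_ext hL S hS h1 h3) ?_ F hF (Set.subset_univ _)
  intro Z hZ hirr _ _ G hG _ hk
  obtain ⟨Z', hZ', hZZ', hmax⟩ := exists_preirreducible Z hirr.isPreirreducible
  have hmem : Z' ∈ irreducibleComponents X :=
    ⟨⟨hirr.nonempty.mono hZZ', hZ'⟩, fun u hu hle => (hmax u hu.isPreirreducible hle).le⟩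
  let Zc : Closeds X := ⟨Z', isClosed_of_mem_irreducibleComponents Z' hmem⟩
  have hle : (⟨Z, hZ⟩ : Closeds X) ≤ Zc := hZZ'
  have hk' : ClSub.KilledByIdeal (Scheme.IdealSheafData.vanishingIdeal Zc) G :=
    Groth.Agent.Lib.Helper17.DevNilp.killed_mono
      (Scheme.IdealSheafData.vanishingIdeal_antimono hle) hk
  exact AmpleGlue.vanishing_of_killed A f hL _ (h Zc hmem) G hG hk'

/-- the restriction of an ample module to a closed subscheme is ample. -/
theorem isAmple_pullback_subschemeι [CompactSpace X] {L : X.Modules} (hA : CohB1.IsAmple L)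
    (I : X.IdealSheafData) :
    CohB1.IsAmple ((Scheme.Modules.pullback I.subschemeι).obj L) := by
  haveI : CompactSpace I.subscheme := QuasiCompact.compactSpace_of_compactSpace I.subschemeι
  exact PbAmple.isAmple_pullback_of_isEmbedding I.subschemeι
    (Scheme.Hom.isEmbedding I.subschemeι) hA

theorem isAmple_iff_irreducibleComponents (A : Type u) [CommRing A] [IsNoetherianRing A]
    (f : X ⟶ Spec (CommRingCat.of A)) [IsProper f] {L : X.Modules} (hL : PicF.IsInvertible L) :
    CohB1.IsAmple L ↔ ∀ Z : Closeds X, (Z : Set X) ∈ irreducibleComponents X →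
      CohB1.IsAmple ((Scheme.Modules.pullback
        (Scheme.IdealSheafData.vanishingIdeal Z).subschemeι).obj L) := by
  haveI : CompactSpace X := QuasiCompact.compactSpace_of_compactSpace f
  exact ⟨fun hA Z _ => isAmple_pullback_subschemeι hA _,
    isAmple_of_irreducibleComponents A f hL⟩

end Groth.Agent.Lib.Helper7.AmpleComp
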