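import Groth.Agent.Lib.Helper3.AssPoints
import Groth.Agent.Lib.Helper3.WeakAssPush
import Groth.Agent.Lib.Helper3.AffinePoints
import Groth.Agent.Lib.Helper3.QCOpen
import Mathlib.RingTheory.Ideal.AssociatedPrime.Finiteness

/-!
# Associated points of a Noetherian scheme (helper7)

* `assPts X`: the associated points of `O_X`.
* `finite_assPts`: finitely many for `X` Noetherian.
* `mem_nonZeroDivisors_of_assPts`: on an affine open `U` of a locally Noetherian scheme, a function
  not vanishing at any associated point in `U` is a nonzerodivisor.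
-/

set_option autoImplicit false
set_option linter.unusedSectionVars false
universe u
open CategoryTheory CategoryTheory.Limits AlgebraicGeometry TopologicalSpace Opposite
open Scheme.Modules

noncomputable section

namespace Groth.Agent.Lib.Helper7.AssFinite

open Groth.Agent.Lib.Helper3 Groth.Agent.Lib.Helper3.QCSec

variable {X : Scheme.{u}}

/-- the associated points of `O_X`. -/
def assPts (X : Scheme.{u}) : Set X := {x | Curv2.IsAssPoint (Coh.structureModule X) x}

theorem finite_assPts_inter [IsLocallyNoetherian X] {U : X.Opens} (hU : IsAffineOpen U) :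
    (assPts X ∩ (U : Set X)).Finite := by
  haveI : IsNoetherianRing Γ(X, U) := IsLocallyNoetherian.component_noetherian ⟨U, hU⟩
  let f : U → Ideal Γ(X, U) := fun z => (hU.primeIdealOf z).asIdeal
  have hfin : (f ⁻¹' (associatedPrimes Γ(X, U) Γ(Coh.structureModule X, U))).Finite := by
    apply Set.Finite.preimage
    · intro a _ b _ hab
      exact QS.primeIdealOf_injective hU a b (PrimeSpectrum.ext hab)
    · exact associatedPrimes.finite Γ(X, U) Γ(X, U)
  refine (hfin.image Subtype.val).subset ?_
  rintro x ⟨hx, hxU⟩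
  refine ⟨⟨x, hxU⟩, ?_, rfl⟩
  exact QS.mem_associatedPrimes_of_isAssPoint hU (Coh.structureModule X) x hxU
    ((isNoetherianRing_iff_ideal_fg _).mp inferInstance _) hx

theorem finite_assPts [IsNoetherian X] : (assPts X).Finite := by
  obtain ⟨ι, hι, U, hU, -, hcov⟩ := exists_finite_affine_cover (⊤ : X.Opens) isCompact_univ
  have : assPts X ⊆ ⋃ i, assPts X ∩ (U i : Set X) := by
    intro x hx
    obtain ⟨i, hi⟩ := Opens.mem_iSup.mp (hcov (show x ∈ (⊤ : X.Opens) from trivial))
    exact Set.mem_iUnion.mpr ⟨i, hx, hi⟩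
  exact (Set.finite_iUnion fun i => finite_assPts_inter (hU i)).subset this

theorem mem_nonZeroDivisors_of_assPts [IsLocallyNoetherian X] {U : X.Opens} (hU : IsAffineOpen U)
    (c : Γ(X, U)) (h : ∀ y ∈ assPts X, y ∈ U → y ∈ X.basicOpen c) :
    c ∈ nonZeroDivisors Γ(X, U) := by
  haveI : IsNoetherianRing Γ(X, U) := IsLocallyNoetherian.component_noetherian ⟨U, hU⟩
  by_contra hc
  have h1 : c ∈ ((nonZeroDivisors Γ(X, U) : Set Γ(X, U)))ᶜ := hc
  rw [← biUnion_associatedPrimes_eq_compl_nonZeroDivisors] at h1
  obtain ⟨p, hp, hcp⟩ := Set.mem_iUnion₂.mp h1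
  haveI : p.IsPrime := IsAssociatedPrime.isPrime hp
  obtain ⟨z, hz, hzp⟩ := QS.exists_point_of_prime hU p
  have hass : z ∈ assPts X := by
    apply QS.isAssPoint_of_mem_associatedPrimes hU (Coh.structureModule X) z hz
    rw [hzp]
    exact hp
  have h2 := (mem_basicOpen_iff_notMem_primeIdealOf hU z hz c).mp (h z hass hz)
  rw [hzp] at h2
  exact h2 hcp

end Groth.Agent.Lib.Helper7.AssFinite
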