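import Groth.Agent.Lib.Helper3.InvTwist
import Groth.Agent.Lib.Helper3.InvMonoidal
import Groth.Agent.Lib.Helper3.InvCoh
import Groth.Agent.Lib.Helper3.InvAmple

/-!
# Sections of `M ⊗ L^d` (`L` ample) generating at finitely many prescribed points

* `mem_genLocus_sum`: a sum of sections, exactly one of which is non-vanishing at `z`, is
  non-vanishing at `z`.
* `exists_sep_section`: for `L` ample, `M` invertible, `z ∉ C` closed: for all large `d` a section
  of `M ⊗ L^d` which generates at `z` and vanishes at every point of `C`.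
* `exists_section_gen_at_points`: for all large `N` a section of `M ⊗ L^N` generating at
  finitely many given points.
-/

set_option autoImplicit false
set_option linter.unusedSectionVars false
set_option linter.style.haveILetI false
universe u
open CategoryTheory CategoryTheory.Limits AlgebraicGeometry TopologicalSpace Opposite
open Scheme.Modules

noncomputable section

namespace Groth.Agent.Lib.Helper7.AvoidGen

open Groth.Agent.Lib.Helper3
open QCSec InvGen InvTensor InvTwist InvMonoidal InvAmple InvCoh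

variable {X : Scheme.{u}}

lemma sec_zero {M : X.Modules} (U : X.Opens) :
    sec (0 : Coh.structureModule X ⟶ M) U = 0 := rfl

lemma sec_sum {M : X.Modules} {ι : Type*} (S : Finset ι)
    (σ : ι → (Coh.structureModule X ⟶ M)) (U : X.Opens) :
    sec (∑ i ∈ S, σ i) U = ∑ i ∈ S, sec (σ i) U := by
  classical
  induction S using Finset.induction_on with
  | empty => simp [sec_zero]
  | insert a S ha ih => rw [Finset.sum_insert ha, Finset.sum_insert ha, sec_add, ih]

/-- a sum of sections of an invertible module, exactly one of which generates at `z`, generates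
at `z`. -/
theorem mem_genLocus_sum {M : X.Modules} (hM : PicF.IsInvertible M) {ι : Type*} [Fintype ι]
    (σ : ι → (Coh.structureModule X ⟶ M)) (z : X) (i₀ : ι)
    (h₀ : z ∈ CohB1.genLocus M (σ i₀)) (h : ∀ j, j ≠ i₀ → z ∉ CohB1.genLocus M (σ j)) :
    z ∈ CohB1.genLocus M (∑ i, σ i) := by
  classical
  obtain ⟨U, e, hzU, hg⟩ := exists_isGen hM z
  have hc : ∀ i, ∃ a : Γ(X, U), a • e = sec (σ i) U := fun i => hg.self.exists_coord _
  choose a ha using hc
  have hsum : sec (∑ i, σ i) U = (∑ i, a i) • e := by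
    rw [Finset.sum_smul, sec_sum]
    exact Finset.sum_congr rfl (fun i _ => (ha i).symm)
  have h1 := genLocus_inf_eq_basicOpen (∑ i, σ i) hg (∑ i, a i) hsum
  have h2 : ∀ i, CohB1.genLocus M (σ i) ⊓ U = X.basicOpen (a i) := fun i =>
    genLocus_inf_eq_basicOpen (σ i) hg (a i) (ha i).symm
  have hz : z ∈ X.basicOpen (∑ i, a i) := by
    rw [Scheme.mem_basicOpen X _ z hzU, map_sum]
    have hu : IsUnit (X.presheaf.germ U z hzU (a i₀)) := by
      rw [← Scheme.mem_basicOpen X _ z hzU, ← h2 i₀]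
      exact ⟨h₀, hzU⟩
    have hn : ∀ j, j ≠ i₀ → X.presheaf.germ U z hzU (a j) ∈
        IsLocalRing.maximalIdeal (X.presheaf.stalk z) := by
      intro j hj
      rw [IsLocalRing.mem_maximalIdeal, mem_nonunits_iff, ← Scheme.mem_basicOpen X _ z hzU, ← h2 j]
      exact fun hh => h j hj hh.1
    rw [← Finset.add_sum_erase _ _ (Finset.mem_univ i₀)]
    by_contra hcon
    have h3 := (IsLocalRing.mem_maximalIdeal _).mpr hcon
    have h4 : ∑ j ∈ Finset.univ.erase i₀, X.presheaf.germ U z hzU (a j) ∈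
        IsLocalRing.maximalIdeal (X.presheaf.stalk z) :=
      Ideal.sum_mem _ (fun j hj => hn j (Finset.ne_of_mem_erase hj))
    have h5 : X.presheaf.germ U z hzU (a i₀) ∈ IsLocalRing.maximalIdeal (X.presheaf.stalk z) := by
      have := Ideal.sub_mem _ h3 h4
      simpa using this
    exact (IsLocalRing.mem_maximalIdeal _).mp h5 hu
  have : z ∈ CohB1.genLocus M (∑ i, σ i) ⊓ U := by rw [h1]; exact hz
  exact this.1

/-- **Separating sections.** `L` ample, `M` invertible, `C` closed, `z ∉ C`: for all large `d`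
there is a section of `M ⊗ L^d` generating at `z` and vanishing at all points of `C`. -/
theorem exists_sep_section [CompactSpace X] [QuasiSeparatedSpace X] {L : X.Modules}
    (hA : CohB1.IsAmple L) {M : X.Modules} (hM : PicF.IsInvertible M) (z : X) (C : Set X)
    (hC : IsClosed C) (hz : z ∉ C) :
    ∃ d₀ : ℕ, ∀ d : ℕ, d₀ ≤ d →
      ∃ t : Coh.structureModule X ⟶ CohB1.tensorMod M (CohB1.tensorPow L d),
        z ∈ CohB1.genLocus _ t ∧ ∀ w ∈ C, w ∉ CohB1.genLocus _ t := by
  have hL := hA.1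
  obtain ⟨U₁, e₁, hz₁, hg₁⟩ := exists_isGen hM z
  obtain ⟨U₂, e₂, hz₂, hg₂⟩ := exists_isGen hL z
  let W₀ : X.Opens := U₁ ⊓ U₂ ⊓ ⟨Cᶜ, hC.isOpen_compl⟩
  have hzW₀ : z ∈ W₀ := ⟨⟨hz₁, hz₂⟩, hz⟩
  obtain ⟨W, ⟨n, v, rfl⟩, hzW, hWle, hWaff⟩ := exists_secLocus_nbhd hA z W₀ hzW₀
  have hN := isInvertible_tensorPow hL (n + 1)
  have hW₁ : CohB1.genLocus _ v ≤ U₁ := hWle.trans (inf_le_left.trans inf_le_left)
  have hW₂ : CohB1.genLocus _ v ≤ U₂ := hWle.trans (inf_le_left.trans inf_le_right)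
  have hWC : ∀ w ∈ C, w ∉ CohB1.genLocus _ v := fun w hw hwv => (hWle hwv).2 hw
  have hgen : ∀ r : ℕ, IsGen (CohB1.tensorMod M (CohB1.tensorPow L r)) (CohB1.genLocus _ v)
      (tm M _ _ (res M hW₁ e₁) (lpow L (res L hW₂ e₂) r)) := fun r =>
    isGen_tm (hg₁.mono hW₁) (isGen_lpow (hg₂.mono hW₂) r)
  have hext : ∀ r : ℕ, ∃ k₀ : ℕ, ∀ k, k₀ ≤ k →
      ∃ t' : Γ(CohB1.tensorMod (CohB1.tensorMod M (CohB1.tensorPow L r))
          (CohB1.tensorPow (CohB1.tensorPow L (n + 1)) k), ⊤),
        res _ le_top t' = tm _ _ (CohB1.genLocus _ v)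
          (tm M _ _ (res M hW₁ e₁) (lpow L (res L hW₂ e₂) r))
          (lpow _ (sec v (CohB1.genLocus _ v)) k) := by
    intro r
    haveI : (CohB1.tensorMod M (CohB1.tensorPow L r)).IsQuasicoherent :=
      isQuasicoherent_of_isInvertible (isInvertible_tensorMod hM (isInvertible_tensorPow hL r))
    exact exists_tm_lpow_extension hN v _ ⊤ (by simpa using isCompact_univ)
      (fun U U' hU hU' _ _ => QuasiSeparatedSpace.inter_isCompact U.1 U'.1 U.2 hU.isCompact U'.2
        hU'.isCompact) (CohB1.genLocus _ v) le_top le_rfl inf_le_right _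
  choose k₀ hk₀ using hext
  let K := (Finset.range (n + 1)).sup k₀
  refine ⟨(n + 1) * (K + 1), fun d hd => ?_⟩
  obtain ⟨r, k, hr, hk, hdk⟩ : ∃ r k, r < n + 1 ∧ K ≤ k ∧ r + (n + 1) * k + (n + 1) = d := by
    have hq : K + 1 ≤ d / (n + 1) := by
      rw [Nat.le_div_iff_mul_le (Nat.succ_pos _)]
      rw [Nat.mul_comm]
      exact hd
    obtain ⟨q, hq'⟩ : ∃ q, d / (n + 1) = q + 1 := ⟨d / (n + 1) - 1, by omega⟩
    refine ⟨d % (n + 1), q, Nat.mod_lt _ (Nat.succ_pos _), by omega, ?_⟩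
    have h1 := Nat.div_add_mod d (n + 1)
    rw [hq'] at h1
    generalize d % (n + 1) = ρ at h1 ⊢
    rw [← h1]
    ring
  have hkr : k₀ r ≤ k := (Finset.le_sup (Finset.mem_range.mpr hr)).trans hk
  obtain ⟨t', ht'⟩ := hk₀ r k hkr
  let σ₁ := globalHom _ t'
  have hσ₁ : CohB1.genLocus _ v ≤ CohB1.genLocus _ σ₁ := by
    apply le_genLocus
    rw [sec_globalHom, ht']
    exact isGen_tm (hgen r) (isGen_lpow (isGen_genLocus v) k)
  let σ₂ := SecTwist.tmulHom σ₁ v
  have hσ₂ : CohB1.genLocus _ σ₂ = CohB1.genLocus _ σ₁ ⊓ CohB1.genLocus _ v :=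
    genLocus_tmulHom (isInvertible_tensorMod (isInvertible_tensorMod hM
      (isInvertible_tensorPow hL r)) (isInvertible_tensorPow hN k)) hN σ₁ v
  let Φ : CohB1.tensorMod (CohB1.tensorMod (CohB1.tensorMod M (CohB1.tensorPow L r))
        (CohB1.tensorPow (CohB1.tensorPow L (n + 1)) k)) (CohB1.tensorPow L (n + 1)) ≅
      CohB1.tensorMod M (CohB1.tensorPow L d) :=
    tensorMapIso (tensorMapIso (Iso.refl _) (powMul L (n + 1) k)) (Iso.refl _) ≪≫
    tensorMapIso (twistAdd M L r ((n + 1) * k)) (Iso.refl _) ≪≫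
    twistAdd M L (r + (n + 1) * k) (n + 1) ≪≫ tensorMapIso (Iso.refl M) (powCast L hdk)
  refine ⟨σ₂ ≫ Φ.hom, ?_, ?_⟩
  · rw [genLocus_comp_iso, hσ₂]
    exact ⟨hσ₁ hzW, hzW⟩
  · intro w hw
    rw [genLocus_comp_iso, hσ₂]
    exact fun h => hWC w hw h.2

/-- **Sections generating at finitely many points.** `L` ample on a quasi-compact quasi-separated
scheme, `M` invertible, `x i` finitely many points: for all large `N` some global section of
`M ⊗ L^N` generates at every `x i`. -/
theorem exists_section_gen_at_points [CompactSpace X] [QuasiSeparatedSpace X] {L : X.Modules}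
    (hA : CohB1.IsAmple L) {M : X.Modules} (hM : PicF.IsInvertible M) {ι : Type*} [Finite ι]
    (x : ι → X) :
    ∃ N₀ : ℕ, ∀ N : ℕ, N₀ ≤ N →
      ∃ s : Coh.structureModule X ⟶ CohB1.tensorMod M (CohB1.tensorPow L N),
        ∀ i, x i ∈ CohB1.genLocus _ s := by
  classical
  haveI := Fintype.ofFinite ι
  have hcl : ∀ i, ∃ z : X, IsClosed ({z} : Set X) ∧ x i ⤳ z := by
    intro i
    obtain ⟨z, hz, hzc⟩ := (isClosed_closure (s := ({x i} : Set X))).exists_closed_singleton
      ⟨x i, subset_closure rfl⟩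
    exact ⟨z, hzc, specializes_iff_mem_closure.mpr hz⟩
  choose z hzc hxz using hcl
  let Z : Finset X := Finset.univ.image z
  have hZc : ∀ p ∈ Z, IsClosed ({p} : Set X) := by
    intro p hp
    obtain ⟨i, -, rfl⟩ := Finset.mem_image.mp hp
    exact hzc i
  have hsep : ∀ p : Z, ∃ d₀ : ℕ, ∀ d : ℕ, d₀ ≤ d →
      ∃ t : Coh.structureModule X ⟶ CohB1.tensorMod M (CohB1.tensorPow L d),
        p.1 ∈ CohB1.genLocus _ t ∧ ∀ w ∈ ((Z.erase p.1 : Finset X) : Set X),
          w ∉ CohB1.genLocus _ t := by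
    intro p
    apply exists_sep_section hA hM p.1 _ ?_ ?_
    · have : ((Z.erase p.1 : Finset X) : Set X) = ⋃ w ∈ Z.erase p.1, {w} := by
        ext y; simp [and_comm]
      rw [this]
      exact Set.Finite.isClosed_biUnion (Finset.finite_toSet _)
        (fun w hw => hZc w (Finset.mem_of_mem_erase hw))
    · simp
  choose d₀ hd₀ using hsep
  refine ⟨Finset.univ.sup d₀, fun N hN => ?_⟩
  have hex : ∀ p : Z, ∃ t : Coh.structureModule X ⟶ CohB1.tensorMod M (CohB1.tensorPow L N),
      p.1 ∈ CohB1.genLocus _ t ∧ ∀ w ∈ ((Z.erase p.1 : Finset X) : Set X),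
        w ∉ CohB1.genLocus _ t :=
    fun p => hd₀ p N ((Finset.le_sup (Finset.mem_univ p)).trans hN)
  choose t ht1 ht2 using hex
  refine ⟨∑ p, t p, fun i => ?_⟩
  have hzi : z i ∈ Z := Finset.mem_image.mpr ⟨i, Finset.mem_univ _, rfl⟩
  have hmem := mem_genLocus_sum (isInvertible_tensorMod hM (isInvertible_tensorPow hA.1 N)) t
    (z i) ⟨z i, hzi⟩ (ht1 _) (fun j hj => ht2 j (z i) (by
      have hne : z i ≠ j.1 := fun h => hj (Subtype.ext h.symm)
      simpa using ⟨hzi, hne⟩))
  exact (hxz i).mem_open (CohB1.genLocus _ _).2 hmem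

end Groth.Agent.Lib.Helper7.AvoidGen
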