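import Groth.Agent.Lib.Helper7.RegSec
import Groth.Agent.Lib.Helper7.AssFinite
import Groth.Agent.Lib.Helper7.AvoidGen
import Groth.Agent.Lib.Helper23.Inverse

/-!
# Regular sections generating at finitely many points (helper7)

* `inverse_unique`: `A ⊗ B ≅ O`, `A ⊗ C ≅ O` ⟹ `B ≅ C`.
* `isRegSec_of_assPts`: on a locally Noetherian scheme a section of an invertible module which
  generates at all associated points is regular.
* `exists_regular_section`: `X` Noetherian, `L` ample, `M` invertible, `E` finite: for all large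
  `m` a regular section of `M ⊗ L^m` generating at the points of `E`.
* `exists_effCartier_of_regSec`: a regular section `s` of an invertible module `M` gives an
  effective Cartier divisor `D` with `I_D ≅ M'` for every inverse `M'` of `M`, with support
  outside `genLocus s`.
-/

set_option autoImplicit false
set_option linter.unusedSectionVars false
set_option linter.style.haveILetI false
universe u
open CategoryTheory CategoryTheory.Limits AlgebraicGeometry TopologicalSpace Opposite
open Scheme.Modules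

noncomputable section

namespace Groth.Agent.Lib.Helper7.RegSecAmple

open Groth.Agent.Lib.Helper3
open QCSec InvGen InvTensor InvMonoidal InvAmple InvCoh SubIdeal IdealMod
open Groth.Agent.Lib.Helper7.RegSec Groth.Agent.Lib.Helper7.AssFinite

variable {X : Scheme.{u}}

/-- inverses for the tensor product are unique. -/
def inverseUnique {A B C : X.Modules} (a : CohB1.tensorMod A B ≅ Coh.structureModule X)
    (b : CohB1.tensorMod A C ≅ Coh.structureModule X) : B ≅ C :=
  (unitorL B).symm ≪≫ tensorMapIso b.symm (Iso.refl B) ≪≫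
    tensorMapIso (braid A C) (Iso.refl B) ≪≫ assoc C A B ≪≫
    tensorMapIso (Iso.refl C) a ≪≫ SecTwist.unitorR C

theorem isRegSec_of_assPts [IsLocallyNoetherian X] {M : X.Modules} (hM : PicF.IsInvertible M)
    (s : Coh.structureModule X ⟶ M) (h : ∀ y ∈ assPts X, y ∈ CohB1.genLocus M s) :
    IsRegSec s := by
  intro x
  obtain ⟨U, ε, hU, hxU, hg⟩ := exists_affine_isGen hM x
  obtain ⟨c, hc⟩ := hg.self.exists_coord (sec s U)
  refine ⟨U, ε, c, hU, hxU, hg, ?_, hc.symm⟩
  apply mem_nonZeroDivisors_of_assPts hU c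
  intro y hy hyU
  rw [← genLocus_inf_eq_basicOpen s hg c hc.symm]
  exact ⟨h y hy, hyU⟩

theorem exists_regular_section [IsNoetherian X] {L : X.Modules} (hA : CohB1.IsAmple L)
    {M : X.Modules} (hM : PicF.IsInvertible M) {E : Set X} (hE : E.Finite) :
    ∃ N₀ : ℕ, ∀ m : ℕ, N₀ ≤ m →
      ∃ s : Coh.structureModule X ⟶ CohB1.tensorMod M (CohB1.tensorPow L m),
        IsRegSec s ∧ ∀ x ∈ E, x ∈ CohB1.genLocus _ s := by
  haveI : CompactSpace X := hA.2.1
  haveI : QuasiSeparatedSpace X := inferInstance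
  have hP : (E ∪ assPts X).Finite := hE.union finite_assPts
  haveI : Finite ↥(E ∪ assPts X) := hP.to_subtype
  obtain ⟨N₀, hN₀⟩ := Groth.Agent.Lib.Helper7.AvoidGen.exists_section_gen_at_points hA hM
    (fun p : ↥(E ∪ assPts X) => p.1)
  refine ⟨N₀, fun m hm => ?_⟩
  obtain ⟨s, hs⟩ := hN₀ m hm
  refine ⟨s, ?_, fun x hx => hs ⟨x, Or.inl hx⟩⟩
  exact isRegSec_of_assPts (isInvertible_tensorMod hM (isInvertible_tensorPow hA.1 m)) s
    (fun y hy => hs ⟨y, Or.inr hy⟩)

theorem exists_effCartier_of_regSec {M M' : X.Modules} (hM' : PicF.IsInvertible M')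
    (ι : CohB1.tensorMod M M' ≅ Coh.structureModule X) {s : Coh.structureModule X ⟶ M}
    (hreg : IsRegSec s) :
    ∃ D : X.IdealSheafData, BlowUp.IsEffCartierIdeal D ∧
      (∀ x ∈ CohB1.genLocus M s, x ∉ D.support) ∧ Nonempty (M' ≅ ClSub.idealMod D) := by
  haveI := isQuasicoherent_of_isInvertible hM'
  let ι' : CohB1.tensorMod M' M ≅ Coh.structureModule X := braid M' M ≪≫ ι
  exact ⟨zeroDiv ι' s, isEffCartierIdeal_zeroDiv ι' hreg,
    fun x hx => notMem_support_zeroDiv ι' hx, idealMod_zeroDiv_iso ι' hreg⟩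

/-- **An invertible module on a Noetherian scheme with an ample sheaf is a difference of effective
Cartier divisors missing a given finite set.** -/
theorem exists_effCartier_pair [IsNoetherian X] {L : X.Modules} (hA : CohB1.IsAmple L)
    {N : X.Modules} (hN : PicF.IsInvertible N) {E : Set X} (hE : E.Finite) :
    ∃ D D' : X.IdealSheafData, BlowUp.IsEffCartierIdeal D ∧ BlowUp.IsEffCartierIdeal D' ∧
      Disjoint E (D.support : Set X) ∧ Disjoint E (D'.support : Set X) ∧
      Nonempty (CohB1.tensorMod N (ClSub.idealMod D) ≅ ClSub.idealMod D') := by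
  obtain ⟨N₁, h₁⟩ := exists_regular_section hA hN hE
  obtain ⟨N₂, h₂⟩ := exists_regular_section hA (isInvertible_structureModule X) hE
  obtain ⟨s₁, hreg₁, hs₁⟩ := h₁ (max N₁ N₂) (le_max_left _ _)
  obtain ⟨s₂, hreg₂, hs₂⟩ := h₂ (max N₁ N₂) (le_max_right _ _)
  set P := CohB1.tensorPow L (max N₁ N₂) with hP
  have hPinv : PicF.IsInvertible P := isInvertible_tensorPow hA.1 _
  obtain ⟨M₁', hM₁', ⟨ι₁⟩⟩ := Groth.Agent.Lib.Helper23.Inverse.exists_isInverseOf
    (isInvertible_tensorMod hN hPinv)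
  obtain ⟨M₂', hM₂', ⟨ι₂⟩⟩ := Groth.Agent.Lib.Helper23.Inverse.exists_isInverseOf
    (isInvertible_tensorMod (isInvertible_structureModule X) hPinv)
  obtain ⟨D, hD, hDs, ⟨e₁⟩⟩ := exists_effCartier_of_regSec hM₁' ι₁ hreg₁
  obtain ⟨D', hD', hDs', ⟨e₂⟩⟩ := exists_effCartier_of_regSec hM₂' ι₂ hreg₂
  refine ⟨D, D', hD, hD', Set.disjoint_left.mpr fun x hx => hDs x (hs₁ x hx),
    Set.disjoint_left.mpr fun x hx => hDs' x (hs₂ x hx), ⟨?_⟩⟩
  -- `(O ⊗ P) ⊗ (N ⊗ M₁') ≅ O`
  let a : CohB1.tensorMod (CohB1.tensorMod (Coh.structureModule X) P) (CohB1.tensorMod N M₁') ≅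
      Coh.structureModule X :=
    tensorMapIso (unitorL P) (Iso.refl _) ≪≫ (assoc P N M₁').symm ≪≫
      tensorMapIso (braid P N) (Iso.refl M₁') ≪≫ ι₁
  exact tensorMapIso (Iso.refl N) e₁.symm ≪≫ inverseUnique a ι₂ ≪≫ e₂

end Groth.Agent.Lib.Helper7.RegSecAmple
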