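import Mathlib
import Groth.Agent.Lib.Helper23.SnapA

/-!
# Helper library (helper7): alternating sums of polynomial functions over subsets, splitting of
sums over `Finset (Fin (r+1))`, a hockey-stick / Abel summation lemma.
-/

set_option autoImplicit false
open MvPolynomial

namespace Groth.Agent.Lib.Helper7.SnapAlt

open Groth.Agent.Lib.Helper23.Snap

/-- indicator vector of a subset. -/
def ind {r : ℕ} (I : Finset (Fin r)) : Fin r → ℕ := fun i => if i ∈ I then 1 else 0

lemma altsum_monomial {r : ℕ} (m : Fin r → ℕ) (j : Fin r) (hj : m j = 0) :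
    ∑ I : Finset (Fin r), (-1 : ℚ) ^ I.card * ∏ i, ((ind I i : ℕ) : ℚ) ^ m i = 0 := by
  classical
  have key : ∀ I : Finset (Fin r), (-1 : ℚ) ^ I.card * ∏ i, ((ind I i : ℕ) : ℚ) ^ m i
      = (∏ _i ∈ I, (-1 : ℚ)) * ∏ i ∈ Finset.univ \ I, (0 : ℚ) ^ m i := by
    intro I
    rw [Finset.prod_const]
    congr 1
    rw [← Finset.prod_sdiff (Finset.subset_univ I)]
    have h1 : ∏ i ∈ I, ((ind I i : ℕ) : ℚ) ^ m i = 1 := by
      refine Finset.prod_eq_one fun i hi => ?_
      simp [ind, hi]
    have h2 : ∏ i ∈ Finset.univ \ I, ((ind I i : ℕ) : ℚ) ^ m i =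
        ∏ i ∈ Finset.univ \ I, (0 : ℚ) ^ m i := by
      refine Finset.prod_congr rfl fun i hi => ?_
      have : i ∉ I := (Finset.mem_sdiff.mp hi).2
      simp [ind, this]
    rw [h1, h2, mul_one]
  rw [Finset.sum_congr rfl fun I _ => key I]
  have := Finset.prod_add (fun _ : Fin r => (-1 : ℚ)) (fun i => (0 : ℚ) ^ m i) Finset.univ
  rw [Finset.powerset_univ] at this
  rw [← this]
  refine Finset.prod_eq_zero (Finset.mem_univ j) ?_
  rw [hj]
  norm_num

theorem altsum_eq_zero {r : ℕ} {P : MvPolynomial (Fin r) ℚ} (hP : DegLT r P) :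
    ∑ I : Finset (Fin r), (-1 : ℚ) ^ I.card * evN P (ind I) = 0 := by
  classical
  have hev : ∀ I : Finset (Fin r), evN P (ind I) =
      ∑ m ∈ P.support, P.coeff m * ∏ i, ((ind I i : ℕ) : ℚ) ^ m i := by
    intro I
    unfold evN
    rw [MvPolynomial.eval_eq']
  simp_rw [hev, Finset.mul_sum]
  rw [Finset.sum_comm]
  refine Finset.sum_eq_zero fun m hm => ?_
  have hlt := hP.support_lt m hm
  have hj : ∃ j, m j = 0 := by
    by_contra h
    push_neg at h
    have h1 : (m.sum fun _ e => e) = ∑ i, m i := by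
      rw [Finsupp.sum_fintype]
      intro i; rfl
    rw [h1] at hlt
    have h2 : ∑ _i : Fin r, 1 ≤ ∑ i, m i :=
      Finset.sum_le_sum fun i _ => Nat.one_le_iff_ne_zero.mpr (h i)
    simp at h2
    omega
  obtain ⟨j, hj⟩ := hj
  have := altsum_monomial (fun i => m i) j hj
  have h3 : ∀ I : Finset (Fin r), (-1 : ℚ) ^ I.card * (P.coeff m * ∏ i, ((ind I i : ℕ) : ℚ) ^ m i)
      = P.coeff m * ((-1 : ℚ) ^ I.card * ∏ i, ((ind I i : ℕ) : ℚ) ^ m i) := fun I => by ring
  simp_rw [h3]
  rw [← Finset.mul_sum, this, mul_zero]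

theorem isPolyLT_altsum_eq_zero {r : ℕ} {f : (Fin r → ℕ) → ℚ} (hf : IsPolyLT r r f) :
    ∑ I : Finset (Fin r), (-1 : ℚ) ^ I.card * f (ind I) = 0 := by
  obtain ⟨P, hP, hfP⟩ := hf
  simp_rw [hfP]
  exact altsum_eq_zero hP

/-! ### splitting sums over `Finset (Fin (r+1))` -/

/-- the successor embedding -/
def succEmb (r : ℕ) : Fin r ↪ Fin (r + 1) := ⟨Fin.succ, Fin.succ_injective _⟩

lemma sum_powerset_map {β : Type*} [AddCommMonoid β] {r : ℕ} (h : Finset (Fin (r + 1)) → β) :
    ∑ t ∈ ((Finset.univ : Finset (Fin r)).map (succEmb r)).powerset, h t =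
      ∑ J : Finset (Fin r), h (J.map (succEmb r)) := by
  classical
  symm
  refine Finset.sum_bij (fun J _ => J.map (succEmb r)) ?_ ?_ ?_ ?_
  · intro J _
    rw [Finset.mem_powerset]
    exact Finset.map_subset_map.mpr (Finset.subset_univ J)
  · intro J₁ _ J₂ _ h12
    exact Finset.map_injective _ h12
  · intro t ht
    rw [Finset.mem_powerset, Finset.subset_map_iff] at ht
    obtain ⟨u, _, rfl⟩ := ht
    exact ⟨u, Finset.mem_univ _, rfl⟩
  · intro J _
    rfl

theorem sum_finset_fin_succ {β : Type*} [AddCommMonoid β] {r : ℕ} (g : Finset (Fin (r + 1)) → β) :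
    ∑ I : Finset (Fin (r + 1)), g I =
      ∑ J : Finset (Fin r), g (J.map (succEmb r)) +
        ∑ J : Finset (Fin r), g (insert 0 (J.map (succEmb r))) := by
  classical
  have h1 : (Finset.univ : Finset (Finset (Fin (r + 1)))) =
      (Finset.univ : Finset (Fin (r + 1))).powerset := Finset.powerset_univ.symm
  have h2 : (Finset.univ : Finset (Fin (r + 1))) =
      insert 0 ((Finset.univ : Finset (Fin r)).map (succEmb r)) := by
    rw [Fin.univ_succ, Finset.cons_eq_insert]
    rfl
  have h0 : (0 : Fin (r + 1)) ∉ (Finset.univ : Finset (Fin r)).map (succEmb r) := by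
    simp [succEmb, Fin.succ_ne_zero]
  rw [h1, h2, Finset.sum_powerset_insert h0, sum_powerset_map g,
    sum_powerset_map (fun t => g (insert 0 t))]

lemma sort_map_succ {r : ℕ} (J : Finset (Fin r)) :
    (J.map (succEmb r)).sort (· ≤ ·) = (J.sort (· ≤ ·)).map Fin.succ := by
  symm
  exact Finset.map_sort (f := succEmb r) (s := J) (r := (· ≤ ·)) (r' := (· ≤ ·))
    (fun a _ b _ => (Fin.succ_le_succ_iff).symm)

lemma sort_insert_zero {r : ℕ} (J : Finset (Fin r)) :
    (insert 0 (J.map (succEmb r))).sort (· ≤ ·) = 0 :: (J.sort (· ≤ ·)).map Fin.succ := by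
  classical
  rw [Finset.sort_insert (· ≤ ·) (fun b _ => Fin.zero_le b)
    (by simp [succEmb, Fin.succ_ne_zero]), sort_map_succ]

lemma card_insert_zero {r : ℕ} (J : Finset (Fin r)) :
    (insert 0 (J.map (succEmb r))).card = J.card + 1 := by
  classical
  rw [Finset.card_insert_of_notMem (by simp [succEmb, Fin.succ_ne_zero]), Finset.card_map]

/-! ### sums of unit vectors along a list -/

lemma sum_single_list {r : ℕ} (l : List (Fin r)) (hl : l.Nodup) (j : Fin r) :
    (l.map fun i => (Pi.single i 1 : Fin r → ℕ)).sum j = if j ∈ l then 1 else 0 := by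
  induction l with
  | nil => simp
  | cons i l ih =>
    rw [List.nodup_cons] at hl
    rw [List.map_cons, List.sum_cons, Pi.add_apply, ih hl.2]
    by_cases hji : j = i
    · subst hji
      simp [hl.1]
    · simp [hji]

lemma sum_single_sort {r : ℕ} (I : Finset (Fin r)) :
    ((I.sort (· ≤ ·)).map fun i => (Pi.single i 1 : Fin r → ℕ)).sum = ind I := by
  funext j
  rw [sum_single_list _ (Finset.sort_nodup _ _) j]
  simp [ind, Finset.mem_sort]

/-! ### an Abel-summation lemma with binomial coefficients -/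

theorem abel_choose (a b : ℕ → ℤ) (m : ℕ) (h : ∀ i, a i = b i + a (i + 1)) (r : ℕ) :
    ∑ i ∈ Finset.range (r + 1), ((m + 1 + i - 1).choose i : ℤ) * b i =
      ∑ i ∈ Finset.range (r + 1), ((m + i - 1).choose i : ℤ) * a i -
        ((m + r).choose r : ℤ) * a (r + 1) := by
  induction r with
  | zero =>
    simp only [zero_add, Finset.sum_range_one, Nat.choose_zero_right, Nat.cast_one, one_mul,
      add_zero]
    rw [h 0]
    ring
  | succ r ih =>
    rw [Finset.sum_range_succ, ih, Finset.sum_range_succ _ (r + 1)]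
    have e1 : m + 1 + (r + 1) - 1 = m + r + 1 := by omega
    have e2 : m + (r + 1) - 1 = m + r := by omega
    have e3 : m + (r + 1) = m + r + 1 := by omega
    rw [e1, e2, e3, h (r + 1), Nat.choose_succ_succ' (m + r) r]
    push_cast
    ring

end Groth.Agent.Lib.Helper7.SnapAlt
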