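import Mathlib
import Groth.Prelude
import Groth.Agent.Lib.Helper23.SnapC
import Groth.Agent.Lib.Helper13.ClMon
import Groth.Agent.Lib.Helper7.SnapAlt
import Groth.Agent.S0469

/-!
# Helper library (helper7): Snapper's theorem and intersection numbers in the `FGA` conventions
(`FGA.eulerCharLE`, `FGA.multiTwist`, `FGA.intNum`), deduced from helper23's `Snap.snapper`.
-/

set_option autoImplicit false
set_option linter.unusedSectionVars false
set_option linter.style.haveILetI false
universe u
open CategoryTheory CategoryTheory.Limits AlgebraicGeometry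

namespace Groth.Agent.Lib.Helper7.SnapFGA

open Groth.Agent.Lib.Helper3 Groth.Agent.Lib.Helper3.InvMonoidal
open Groth.Agent.Lib.Helper23 Groth.Agent.Lib.Helper23.Snap Groth.Agent.Lib.Helper7.SnapAlt

section Obj

variable {X : Scheme.{u}}

theorem nonempty_tensorList_iso : ∀ (l : List X.Modules) (F : X.Modules),
    Nonempty (CohB1.tensorMod (FGA.tensorList l) F ≅ l.foldr CohB1.tensorMod F)
  | [], F => ⟨unitorL F⟩
  | N :: l, F => by
    obtain ⟨e⟩ := nonempty_tensorList_iso l F
    exact ⟨assoc N (FGA.tensorList l) F ≪≫ tensorMapIso (Iso.refl N) e⟩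

theorem nonempty_tp_zero : ∀ (r : ℕ) (L : Fin r → X.Modules) (F : X.Modules),
    Nonempty (Curv2.tensorPows F r L 0 ≅ F)
  | 0, _, F => ⟨Iso.refl _⟩
  | r + 1, L, F => by
    obtain ⟨e⟩ := nonempty_tp_zero r (fun i => L i.castSucc) F
    exact ⟨SecTwist.unitorR _ ≪≫ e⟩

theorem cons_comp_succ (A : X.Modules) {r : ℕ} (M : Fin r → X.Modules) :
    (Fin.cons A M : Fin (r + 1) → X.Modules) ∘ Fin.succ = M := by
  funext i
  simp

theorem cons_const (M : X.Modules) (i : ℕ) :
    (Fin.cons M (fun _ : Fin i => M) : Fin (i + 1) → X.Modules) = fun _ => M := by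
  funext j
  refine Fin.cases ?_ (fun j => ?_) j <;> simp

theorem isInvertible_of_inverse {L M : X.Modules} (hL : PicF.IsInvertible L)
    (hLM : Nonempty (CohB1.tensorMod L M ≅ Coh.structureModule X)) : PicF.IsInvertible M := by
  apply Groth.Agent.Lib.Helper13.ClMon.isInvertible_of_isInvCl
  refine Groth.Agent.Lib.Helper13.ClMon.isInvCl_of_mul_eq
    (Groth.Agent.Lib.Helper13.ClMon.isInvCl_cl hL)
    (Groth.Agent.Lib.Helper13.ClMon.isInvCl_one (Y := X)) ?_
  rw [Groth.Agent.Lib.Helper13.ClMon.cl_mul, Groth.Agent.Lib.Helper13.ClMon.one_def]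
  exact (Groth.Agent.Lib.Helper13.ClMon.cl_eq_iff _ _).2 hLM

theorem support_tensor_inv_left {N E : X.Modules} (hN : PicF.IsInvertible N) (hE : Coh.IsCoh E) :
    CohB1.support (CohB1.tensorMod N E) = CohB1.support E := by
  haveI := hE.1
  haveI := hE.2
  haveI : N.IsQuasicoherent := InvCoh.isQuasicoherent_of_isInvertible hN
  haveI : N.IsFiniteType := InvCoh.isFiniteType_of_isInvertible hN
  rw [Groth.Agent.Lib.Helper17.SuppTensor.support_tensorMod,
    Groth.Agent.Lib.Helper23.HilbP.support_invertible hN, Set.univ_inter]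

end Obj

section Main

variable (k : Type u) [Field k] (X : Scheme.{u}) [X.Over (Spec (CommRingCat.of k))]
  [IsProper (X ↘ Spec (CommRingCat.of k))]

theorem eulerLE_eq (d : ℕ) (hd : topologicalKrullDim X ≤ d) (G : X.Modules) :
    FGA.eulerCharLE k X G d = Curv2.euler k X G := by
  haveI := T2.compactSpace_of_isProper k X
  haveI := T2.quasiSeparatedSpace_of_isProper k X
  have hsp : SpectralSpace X := {}
  have hsp' : SpectralSpace ↑X.toTopCat := hsp
  have hvan : ∀ p, d < p → Subsingleton (Coh.HH X G p) := fun p hp =>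
    Groth.Agent.S0469.result (X := X.toTopCat) d hd (Coh.toAb G) p hp
  unfold Curv2.euler FGA.eulerCharLE
  rw [finsum_eq_sum_of_support_subset]
  intro i hi
  by_contra hni
  rw [Finset.coe_range, Set.mem_Iio, not_lt] at hni
  haveI := hvan i (by omega)
  apply hi
  change (-1 : ℤ) ^ i * ↑(Module.finrank k (Coh.HH X G i)) = 0
  rw [Module.finrank_zero_of_subsingleton]
  simp

theorem eulerLE_iso {M N : X.Modules} (e : M ≅ N) (d : ℕ) :
    FGA.eulerCharLE k X M d = FGA.eulerCharLE k X N d := by
  unfold FGA.eulerCharLE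
  refine Finset.sum_congr rfl fun i _ => ?_
  rw [(FBC.HmapEquivK k e i).finrank_eq]

theorem chiT_zero (r : ℕ) (L : Fin r → X.Modules) (F : X.Modules) :
    chiT k X r L F 0 = (Curv2.euler k X F : ℚ) := by
  obtain ⟨e⟩ := nonempty_tp_zero r L F
  unfold chiT
  rw [FBC.euler_eq_of_iso' k e]

theorem chiT_shift_list (r : ℕ) (L : Fin r → X.Modules) :
    ∀ (l : List (Fin r)) (F : X.Modules) (n : Fin r → ℕ),
    chiT k X r L ((l.map L).foldr CohB1.tensorMod F) n =
      chiT k X r L F (n + (l.map fun i => (Pi.single i 1 : Fin r → ℕ)).sum)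
  | [], F, n => by simp
  | i :: l, F, n => by
    rw [List.map_cons, List.foldr_cons, chiT_shift k X r L i _ n, chiT_shift_list r L l F _,
      List.map_cons, List.sum_cons, add_assoc]

theorem chiT_pow_shift (r : ℕ) (L : Fin r → X.Modules) (i : Fin r) :
    ∀ (a : ℕ) (F : X.Modules) (n : Fin r → ℕ),
    chiT k X r L (CohB1.tensorMod (CohB1.tensorPow (L i) a) F) n =
      chiT k X r L F (n + a • (Pi.single i 1 : Fin r → ℕ))
  | 0, F, n => by
    rw [zero_smul, add_zero]
    exact congrFun (chiT_iso k X r L (unitorL F)) n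
  | a + 1, F, n => by
    have e : CohB1.tensorMod (CohB1.tensorPow (L i) (a + 1)) F ≅
        CohB1.tensorMod (CohB1.tensorPow (L i) a) (CohB1.tensorMod (L i) F) :=
      assoc (CohB1.tensorPow (L i) a) (L i) F
    rw [congrFun (chiT_iso k X r L e) n, chiT_pow_shift r L i a _ n, chiT_shift k X r L i F _,
      succ_nsmul, add_assoc]

theorem chiT_pow_list (r : ℕ) (L : Fin r → X.Modules) (m : Fin r → ℕ) :
    ∀ (l : List (Fin r)) (F : X.Modules) (n : Fin r → ℕ),
    chiT k X r L ((l.map fun i => CohB1.tensorPow (L i) (m i)).foldr CohB1.tensorMod F) n =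
      chiT k X r L F (n + (l.map fun i => m i • (Pi.single i 1 : Fin r → ℕ)).sum)
  | [], F, n => by simp
  | i :: l, F, n => by
    rw [List.map_cons, List.foldr_cons, chiT_pow_shift k X r L i _ _ n,
      chiT_pow_list r L m l F _, List.map_cons, List.sum_cons, add_assoc]

theorem sum_finRange_single (r : ℕ) (m : Fin r → ℕ) :
    ((List.finRange r).map fun i => m i • (Pi.single i 1 : Fin r → ℕ)).sum = m := by
  rw [← List.ofFn_eq_map, List.sum_ofFn]
  funext j
  simp [Finset.sum_apply, Pi.single_apply]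

/-- **Snapper's theorem in the FGA conventions** (S3230). -/
theorem snapper_fga (d : ℕ) (hd : topologicalKrullDim X ≤ d) {n : ℕ} (L : Fin n → X.Modules)
    (hL : ∀ i, PicF.IsInvertible (L i)) (F : X.Modules) (hF : Coh.IsCoh F) (r : ℕ)
    (hr : topologicalKrullDim (CohB1.support F) ≤ r) :
    ∃ P : MvPolynomial (Fin n) ℚ, P.totalDegree ≤ r ∧
      ∀ m : Fin n → ℕ, (FGA.eulerCharLE k X (CohB1.tensorMod (FGA.multiTwist L m) F) d : ℚ) =
        MvPolynomial.eval (fun i => (m i : ℚ)) P := by
  obtain ⟨P, hP, hfP⟩ := snapper k X n L hL (r + 1) F hF (lt_succ_dim_of_le hr)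
  refine ⟨P, hP.totalDegree_le, fun m => ?_⟩
  rw [eulerLE_eq k X d hd]
  obtain ⟨e⟩ := nonempty_tensorList_iso
    ((List.finRange n).map fun i => CohB1.tensorPow (L i) (m i)) F
  have h1 : Curv2.euler k X (CohB1.tensorMod (FGA.multiTwist L m) F) = _ :=
    FBC.euler_eq_of_iso' k e
  rw [h1, ← chiT_zero k X n L, chiT_pow_list k X n L m (List.finRange n) F 0, zero_add,
    sum_finRange_single, hfP m]
  rfl

theorem intNum_iso_right (d : ℕ) {r : ℕ} (M : Fin r → X.Modules) {F G : X.Modules} (e : F ≅ G) :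
    FGA.intNum k X d M F = FGA.intNum k X d M G := by
  unfold FGA.intNum
  refine Finset.sum_congr rfl fun I _ => ?_
  rw [eulerLE_iso k X (tensorMapIso (Iso.refl _) e) d]

/-- vanishing of intersection numbers with too many factors (S3231). -/
theorem intNum_eq_zero (d : ℕ) (hd : topologicalKrullDim X ≤ d) {r : ℕ} (M : Fin r → X.Modules)
    (hM : ∀ i, PicF.IsInvertible (M i)) (F : X.Modules) (hF : Coh.IsCoh F)
    (hr : topologicalKrullDim (CohB1.support F) < r) :
    FGA.intNum k X d M F = 0 := by
  have hpoly : IsPolyLT r r (chiT k X r M F) := snapper k X r M hM r F hF hr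
  have h0 := isPolyLT_altsum_eq_zero hpoly
  have key : ∀ I : Finset (Fin r),
      (FGA.eulerCharLE k X
        (CohB1.tensorMod (FGA.tensorList ((I.sort (· ≤ ·)).map M)) F) d : ℚ) =
        chiT k X r M F (ind I) := by
    intro I
    rw [eulerLE_eq k X d hd]
    obtain ⟨e⟩ := nonempty_tensorList_iso ((I.sort (· ≤ ·)).map M) F
    rw [FBC.euler_eq_of_iso' k e, ← chiT_zero k X r M, chiT_shift_list, zero_add,
      sum_single_sort]
  unfold FGA.intNum
  have h1 : ((∑ I : Finset (Fin r), (-1 : ℤ) ^ I.card *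
      FGA.eulerCharLE k X (CohB1.tensorMod (FGA.tensorList ((I.sort (· ≤ ·)).map M)) F) d : ℤ) : ℚ)
      = 0 := by
    push_cast
    simp_rw [key]
    exact h0
  exact_mod_cast h1

/-- the recursion for intersection numbers. -/
theorem intNum_cons (d : ℕ) (A : X.Modules) {r : ℕ} (M : Fin r → X.Modules) (F : X.Modules) :
    FGA.intNum k X d (Fin.cons A M : Fin (r + 1) → X.Modules) F =
      FGA.intNum k X d M F - FGA.intNum k X d M (CohB1.tensorMod A F) := by
  unfold FGA.intNum
  rw [sum_finset_fin_succ, sub_eq_add_neg, ← Finset.sum_neg_distrib]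
  congr 1
  · refine Finset.sum_congr rfl fun J _ => ?_
    rw [Finset.card_map, sort_map_succ, List.map_map, cons_comp_succ]
  · refine Finset.sum_congr rfl fun J _ => ?_
    rw [card_insert_zero, sort_insert_zero, List.map_cons, List.map_map, cons_comp_succ,
      Fin.cons_zero, pow_succ]
    have e : CohB1.tensorMod (FGA.tensorList (A :: (J.sort (· ≤ ·)).map M)) F ≅
        CohB1.tensorMod (FGA.tensorList ((J.sort (· ≤ ·)).map M)) (CohB1.tensorMod A F) :=
      tensorMapIso (braid A _) (Iso.refl F) ≪≫ assoc _ A F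
    rw [eulerLE_iso k X e d]
    ring

/-- additivity of intersection numbers (S3232). -/
theorem intNum_add (d : ℕ) (hd : topologicalKrullDim X ≤ d) {r : ℕ} (M : Fin r → X.Modules)
    (hM : ∀ i, PicF.IsInvertible (M i)) (A B : X.Modules) (hA : PicF.IsInvertible A)
    (hB : PicF.IsInvertible B) (F : X.Modules) (hF : Coh.IsCoh F)
    (hr : topologicalKrullDim (CohB1.support F) ≤ (r + 1 : ℕ)) :
    FGA.intNum k X d (Fin.cons (CohB1.tensorMod A B) M) F =
      FGA.intNum k X d (Fin.cons A M) F + FGA.intNum k X d (Fin.cons B M) F := by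
  have hN : ∀ i, PicF.IsInvertible
      ((Fin.cons B (Fin.cons A M : Fin (r + 1) → X.Modules) : Fin (r + 1 + 1) → X.Modules) i) := by
    intro i
    refine Fin.cases ?_ (fun i => ?_) i
    · rw [Fin.cons_zero]; exact hB
    · rw [Fin.cons_succ]
      refine Fin.cases ?_ (fun j => ?_) i
      · rw [Fin.cons_zero]; exact hA
      · rw [Fin.cons_succ]; exact hM j
  have hz := intNum_eq_zero k X d hd _ hN F hF (lt_succ_dim_of_le hr)
  have h1 := intNum_cons k X d (CohB1.tensorMod A B) M F
  have h2 := intNum_cons k X d A M F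
  have h3 := intNum_cons k X d B M F
  have h4 := intNum_cons k X d B (Fin.cons A M : Fin (r + 1) → X.Modules) F
  have h5 := intNum_cons k X d A M (CohB1.tensorMod B F)
  have h6 : FGA.intNum k X d M (CohB1.tensorMod A (CohB1.tensorMod B F)) =
      FGA.intNum k X d M (CohB1.tensorMod (CohB1.tensorMod A B) F) :=
    intNum_iso_right k X d M (assoc A B F).symm
  rw [h4] at hz
  linarith

theorem intNum_zero (d : ℕ) (M : Fin 0 → X.Modules) (F : X.Modules) :
    FGA.intNum k X d M F =
      FGA.eulerCharLE k X (CohB1.tensorMod (Coh.structureModule X) F) d := by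
  unfold FGA.intNum
  have : (Finset.univ : Finset (Finset (Fin 0))) = {∅} := by decide
  rw [this, Finset.sum_singleton]
  simp [FGA.tensorList]

theorem intNum_const_succ (d : ℕ) (M : X.Modules) (i : ℕ) (G : X.Modules) :
    FGA.intNum k X d (fun _ : Fin (i + 1) => M) G =
      FGA.intNum k X d (fun _ : Fin i => M) G -
        FGA.intNum k X d (fun _ : Fin i => M) (CohB1.tensorMod M G) := by
  rw [← cons_const M i, intNum_cons]

/-- the Euler characteristic of `L^m ⊗ F` through intersection numbers (S11753). -/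
theorem euler_pow (d : ℕ) (hd : topologicalKrullDim X ≤ d) (L M : X.Modules)
    (hL : PicF.IsInvertible L)
    (hLM : Nonempty (CohB1.tensorMod L M ≅ Coh.structureModule X)) (r : ℕ) :
    ∀ (m : ℕ) (F : X.Modules), Coh.IsCoh F → topologicalKrullDim (CohB1.support F) ≤ r →
    FGA.eulerCharLE k X (CohB1.tensorMod (CohB1.tensorPow L m) F) d =
      (Finset.range (r + 1)).sum (fun i => ((m + i - 1).choose i : ℤ) *
        FGA.intNum k X d (fun _ : Fin i => M) F) := by
  have hMi : PicF.IsInvertible M := isInvertible_of_inverse hL hLM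
  obtain ⟨eLM⟩ := hLM
  intro m
  induction m with
  | zero =>
    intro F _ _
    rw [Finset.sum_range_succ', Finset.sum_eq_zero, zero_add]
    · simp only [zero_add, Nat.zero_sub, Nat.choose_zero_right, Nat.cast_one, one_mul]
      rw [intNum_zero]
      rfl
    · intro i _
      have : (0 + (i + 1) - 1).choose (i + 1) = 0 := by
        rw [show 0 + (i + 1) - 1 = i by omega]
        exact Nat.choose_succ_self i
      rw [this]
      simp
  | succ m ih =>
    intro F hF hr
    have hG : Coh.IsCoh (CohB1.tensorMod L F) := isCoh_tensor_inv' X hL hF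
    have hGr : topologicalKrullDim (CohB1.support (CohB1.tensorMod L F)) ≤ r := by
      rw [support_tensor_inv_left hL hF]
      exact hr
    have e : CohB1.tensorMod (CohB1.tensorPow L (m + 1)) F ≅
        CohB1.tensorMod (CohB1.tensorPow L m) (CohB1.tensorMod L F) :=
      assoc (CohB1.tensorPow L m) L F
    rw [eulerLE_iso k X e d, ih _ hG hGr]
    have eMLF : CohB1.tensorMod M (CohB1.tensorMod L F) ≅ F :=
      (assoc M L F).symm ≪≫ tensorMapIso (braid M L ≪≫ eLM) (Iso.refl F) ≪≫ unitorL F
    have hrel : ∀ i, FGA.intNum k X d (fun _ : Fin i => M) (CohB1.tensorMod L F) =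
        FGA.intNum k X d (fun _ : Fin i => M) F +
          FGA.intNum k X d (fun _ : Fin (i + 1) => M) (CohB1.tensorMod L F) := by
      intro i
      rw [intNum_const_succ k X d M i (CohB1.tensorMod L F),
        intNum_iso_right k X d (fun _ : Fin i => M) eMLF]
      ring
    have hvan : FGA.intNum k X d (fun _ : Fin (r + 1) => M) (CohB1.tensorMod L F) = 0 :=
      intNum_eq_zero k X d hd _ (fun _ => hMi) _ hG (lt_succ_dim_of_le hGr)
    have := abel_choose
      (fun i => FGA.intNum k X d (fun _ : Fin i => M) (CohB1.tensorMod L F))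
      (fun i => FGA.intNum k X d (fun _ : Fin i => M) F) m hrel r
    rw [this, hvan, mul_zero, sub_zero]

end Main

end Groth.Agent.Lib.Helper7.SnapFGA
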