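import Mathlib
import Groth.Prelude
import Groth.Agent.Lib.Helper7.SnapFGA
import Groth.Agent.Lib.Helper7.DegPull
import Groth.Agent.Lib.Helper17.ClImmUnit
import Groth.Agent.Lib.Helper17.PbStalk
import Groth.Agent.S0469

/-!
# Helper library (helper7): Grothendieck vanishing above the dimension of the support, for
coherent modules on a proper scheme over a field.
-/

set_option autoImplicit false
set_option linter.unusedSectionVars false
set_option linter.style.haveILetI false
universe u
open CategoryTheory CategoryTheory.Limits AlgebraicGeometry Opposite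
open Scheme.Modules

namespace Groth.Agent.Lib.Helper7.GVSupp

open Groth.Agent.Lib.Helper23 Groth.Agent.Lib.Helper17

variable (k : Type u) [Field k] (X : Scheme.{u}) [X.Over (Spec (CommRingCat.of k))]
  [IsProper (X ↘ Spec (CommRingCat.of k))]

include k in
/-- **Grothendieck vanishing** above the dimension of the support. -/
theorem subsingleton_HH_of_dim_support_lt (F : X.Modules) (hF : Coh.IsCoh F) (r : ℕ)
    (hr : topologicalKrullDim (CohB1.support F) ≤ (r : WithBot ℕ∞)) (p : ℕ) (hp : r < p) :
    Subsingleton (Coh.HH X F p) := by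
  haveI := hF.1
  haveI := hF.2
  haveI : CompactSpace X := T2.compactSpace_of_isProper k X
  obtain ⟨J, -, hiso, -, hJs⟩ := ClImmUnit.exists_schemeTheoreticSupport F
  letI : J.subscheme.Over (Spec (CommRingCat.of k)) :=
    ⟨J.subschemeι ≫ (X ↘ Spec (CommRingCat.of k))⟩
  haveI : IsProper (J.subscheme ↘ Spec (CommRingCat.of k)) := by
    show IsProper (J.subschemeι ≫ (X ↘ Spec (CommRingCat.of k)))
    infer_instance
  haveI : ((Scheme.Modules.pullback J.subschemeι).obj F).IsQuasicoherent :=
    PbStalk.isQuasicoherent_pullback J.subschemeι F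
  haveI := hiso
  let e : F ≅ (Scheme.Modules.pushforward J.subschemeι).obj
      ((Scheme.Modules.pullback J.subschemeι).obj F) :=
    asIso ((Scheme.Modules.pullbackPushforwardAdjunction J.subschemeι).unit.app F)
  obtain ⟨eq⟩ := PushIso.nonempty_equiv J.subschemeι k rfl
    (fun V hV => FBC.isAffineHom_ι_of_isSeparated k V hV) p
    ((Scheme.Modules.pullback J.subschemeι).obj F)
  -- vanishing on the support
  haveI : CompactSpace J.subscheme := T2.compactSpace_of_isProper k J.subscheme
  haveI : QuasiSeparatedSpace J.subscheme := T2.quasiSeparatedSpace_of_isProper k J.subscheme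
  have hsp : SpectralSpace J.subscheme := {}
  have hsp' : SpectralSpace ↑J.subscheme.toTopCat := hsp
  have hdimZ : topologicalKrullDim J.subscheme ≤ (r : WithBot ℕ∞) := by
    have hemb := J.subschemeι.isEmbedding
    let h : J.subscheme ≃ₜ ↥(Set.range J.subschemeι) := hemb.toHomeomorph
    rw [IsHomeomorph.topologicalKrullDim_eq h h.isHomeomorph,
      Scheme.IdealSheafData.range_subschemeι, hJs]
    exact hr
  haveI hZ : Subsingleton (Coh.HH J.subscheme ((Scheme.Modules.pullback J.subschemeι).obj F) p) :=
    Groth.Agent.S0469.result (X := J.subscheme.toTopCat) r hdimZ (Coh.toAb _) p hp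
  haveI : Subsingleton (Coh.HH X ((Scheme.Modules.pushforward J.subschemeι).obj
      ((Scheme.Modules.pullback J.subschemeι).obj F)) p) := eq.symm.toEquiv.subsingleton
  exact (FBC.HmapEquivK k e p).toEquiv.subsingleton

end Groth.Agent.Lib.Helper7.GVSupp
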