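import Mathlib
import Groth.Prelude
import Groth.Agent.Lib.Helper12.SchemeDimFT3
import Groth.Agent.Lib.Helper23.SnapI
import Groth.Agent.Lib.Helper1.K0Dim

/-!
# Helper library (helper7): the dimension of an effective Cartier divisor on an integral scheme of
finite type over a field (Krull's principal ideal theorem + the dimension formula).
-/

set_option autoImplicit false
set_option linter.unusedSectionVars false
set_option linter.style.haveILetI false
universe u
open CategoryTheory CategoryTheory.Limits AlgebraicGeometry Opposite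

namespace Groth.Agent.Lib.Helper7.DivDim

open Groth.Agent.Lib.Helper12 Groth.Agent.Lib.Helper12.SchemeDimFT

variable (k : Type u) [Field k] (X : Scheme.{u}) [X.Over (Spec (CommRingCat.of k))]
  [LocallyOfFiniteType (X ↘ Spec (CommRingCat.of k))] [IsIntegral X]

include k in
/-- a point of an effective Cartier divisor on an integral scheme of finite type over a field of
dimension `e + 1` has a generization in the divisor whose closure has dimension `e`. -/
theorem exists_mem_support_dim_closure (e : ℕ)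
    (hX : topologicalKrullDim X = ((e + 1 : ℕ) : WithBot ℕ∞))
    (D : X.IdealSheafData) (hD : BlowUp.IsEffCartierIdeal D) (x : X) (hx : x ∈ D.support) :
    ∃ ξ : X, ξ ∈ D.support ∧
      topologicalKrullDim (closure ({ξ} : Set X)) = (e : WithBot ℕ∞) := by
  obtain ⟨U, hxU, f, hf, hIf⟩ := hD x
  have hU : IsAffineOpen U.1 := U.2
  haveI : Nonempty U.1 := ⟨⟨x, hxU⟩⟩
  haveI : IsDomain Γ(X, U.1) := inferInstance
  letI := secAlgebra k X U.1
  haveI := finiteType_sec k X U.1 hU
  haveI : IsNoetherianRing Γ(X, U.1) := Algebra.FiniteType.isNoetherianRing k _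
  let p := hU.primeIdealOf ⟨x, hxU⟩
  have hp : hU.fromSpec p = x := hU.fromSpec_primeIdealOf ⟨x, hxU⟩
  have hfp : f ∈ p.asIdeal := by
    have h1 : x ∈ X.zeroLocus (U := U.1) (D.ideal U) :=
      (Scheme.IdealSheafData.mem_support_iff_of_mem hxU).mp hx
    have h2 : x ∉ X.basicOpen f :=
      (X.mem_zeroLocus_iff _ x).mp h1 f (hIf ▸ Ideal.subset_span (Set.mem_singleton f))
    by_contra hnot
    apply h2
    have h3 : p ∈ PrimeSpectrum.basicOpen f := hnot
    rw [← hU.fromSpec_preimage_basicOpen] at h3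
    rw [← hp]
    exact h3
  obtain ⟨q, hq, hqp⟩ := Ideal.exists_minimalPrimes_le (I := Ideal.span {f}) (J := p.asIdeal)
    (by rw [Ideal.span_singleton_le_iff_mem]; exact hfp)
  haveI hqprime : q.IsPrime := hq.1.1
  have hht : q.height ≤ 1 :=
    Ideal.height_le_one_of_isPrincipal_of_mem_minimalPrimes (Ideal.span {f}) q hq
  have hfq : f ∈ q := hq.1.2 (Ideal.subset_span (Set.mem_singleton f))
  have hf0 : f ≠ 0 := nonZeroDivisors.ne_zero hf
  have hqbot : q ≠ ⊥ := by
    intro h
    rw [h] at hfq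
    exact hf0 (Ideal.mem_bot.mp hfq)
  obtain ⟨ξ, hξ⟩ := exists_primeIdealOf_eq hU ⟨q, hqprime⟩
  have hξspec : hU.fromSpec (hU.primeIdealOf ξ) = (ξ : X) := hU.fromSpec_primeIdealOf ξ
  refine ⟨ξ.1, ?_, ?_⟩
  · -- `ξ` lies in the divisor
    rw [Scheme.IdealSheafData.mem_support_iff_of_mem (U := U) ξ.2, X.mem_zeroLocus_iff]
    intro g hg hmem
    rw [hIf, SetLike.mem_coe, Ideal.mem_span_singleton'] at hg
    obtain ⟨a, rfl⟩ := hg
    have h3 : hU.primeIdealOf ξ ∈ hU.fromSpec ⁻¹ᵁ X.basicOpen (a * f) := by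
      show hU.fromSpec (hU.primeIdealOf ξ) ∈ X.basicOpen (a * f)
      rw [hξspec]
      exact hmem
    rw [hU.fromSpec_preimage_basicOpen, hξ] at h3
    exact h3 (q.mul_mem_left a hfq)
  · -- the dimension of the closure
    set η := genericPoint X with hη
    have hηsp : ∀ y : X, η ⤳ y := fun y => (genericPoint_spec X).specializes (Set.mem_univ y)
    have hηU : η ∈ U.1 := (hηsp ξ.1).mem_open U.1.2 ξ.2
    have hηbot : (hU.primeIdealOf ⟨η, hηU⟩).asIdeal = ⊥ := by
      obtain ⟨z, hz⟩ := exists_primeIdealOf_eq hU ⟨⊥, Ideal.isPrime_bot⟩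
      have h1 : hU.primeIdealOf ⟨η, hηU⟩ ≤ hU.primeIdealOf z :=
        (primeIdealOf_le_iff hU ⟨η, hηU⟩ z).mpr (hηsp z.1)
      rw [hz] at h1
      exact le_bot_iff.mp h1
    have hne : η ≠ ξ.1 := by
      intro h
      apply hqbot
      have h2 : (⟨η, hηU⟩ : U.1) = ξ := Subtype.ext h
      rw [h2, hξ] at hηbot
      exact hηbot
    have himm : ∀ y : X, η ⤳ y → y ⤳ ξ.1 → y = η ∨ y = ξ.1 := by
      intro y _ hyξ
      have hyU : y ∈ U.1 := hyξ.mem_open U.1.2 ξ.2
      have hle : hU.primeIdealOf ⟨y, hyU⟩ ≤ hU.primeIdealOf ξ :=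
        (primeIdealOf_le_iff hU ⟨y, hyU⟩ ξ).mpr hyξ
      by_cases heq : hU.primeIdealOf ⟨y, hyU⟩ = hU.primeIdealOf ξ
      · right
        have h1 : ξ.1 ⤳ y := (primeIdealOf_le_iff hU ξ ⟨y, hyU⟩).mp (le_of_eq heq.symm)
        exact (hyξ.antisymm h1).eq
      · left
        have hlt : (hU.primeIdealOf ⟨y, hyU⟩).asIdeal < q := by
          have h1 : hU.primeIdealOf ⟨y, hyU⟩ < hU.primeIdealOf ξ := lt_of_le_of_ne hle heq
          rw [hξ] at h1
          exact h1
        haveI : (hU.primeIdealOf ⟨y, hyU⟩).asIdeal.IsPrime := (hU.primeIdealOf ⟨y, hyU⟩).isPrime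
        have h2 := Ideal.height_add_one_le_of_lt_of_isPrime hlt
        have h3 : (hU.primeIdealOf ⟨y, hyU⟩).asIdeal.height = 0 := by
          have h4 := h2.trans hht
          by_contra h0
          have h5 : 1 ≤ (hU.primeIdealOf ⟨y, hyU⟩).asIdeal.height := Order.one_le_iff_pos.mpr
            (pos_iff_ne_zero.mpr h0)
          have h6 : (1 : ℕ∞) + 1 ≤ 1 := (add_le_add h5 le_rfl).trans h4
          exact absurd h6 (by decide)
        have h4 : (hU.primeIdealOf ⟨y, hyU⟩).asIdeal = ⊥ := Ideal.height_eq_zero_iff_eq_bot.mp h3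
        have h5 : hU.primeIdealOf ⟨y, hyU⟩ = hU.primeIdealOf ⟨η, hηU⟩ :=
          PrimeSpectrum.ext (h4.trans hηbot.symm)
        have h6 : y ⤳ η := (primeIdealOf_le_iff hU ⟨y, hyU⟩ ⟨η, hηU⟩).mp (le_of_eq h5)
        exact ((hηsp y).antisymm h6).eq.symm
    have h1 := trdeg_eq_add_one_of_covBy k X η ξ.1 hne (hηsp ξ.1) himm (tr k X ξ.1)
      (tr_spec k X ξ.1)
    have h2 := topologicalKrullDim_eq_of_irreducible k X (tr k X ξ.1 + 1) h1
    rw [hX] at h2
    have h3 : e + 1 = tr k X ξ.1 + 1 := by exact_mod_cast h2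
    rw [topologicalKrullDim_closure_singleton k X ξ.1]
    have h4 : tr k X ξ.1 = e := by omega
    rw [h4]

include k in
/-- a nonempty effective Cartier divisor on an integral scheme of finite type over a field of
dimension `e + 1` has dimension exactly `e`. -/
theorem dim_support_eq (e : ℕ) (hX : topologicalKrullDim X = ((e + 1 : ℕ) : WithBot ℕ∞))
    (D : X.IdealSheafData) (hD : BlowUp.IsEffCartierIdeal D)
    (hne : (D.support : Set X).Nonempty) :
    topologicalKrullDim ↥(D.support : Set X) = (e : WithBot ℕ∞) := by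
  apply le_antisymm
  · exact Groth.Agent.Lib.Helper23.Snap.le_of_lt_succ_dim
      (Groth.Agent.Lib.Helper23.Snap.dim_support_lt D hD e hX)
  · obtain ⟨x, hx⟩ := hne
    obtain ⟨ξ, hξ, hdim⟩ := exists_mem_support_dim_closure k X e hX D hD x hx
    rw [← hdim]
    exact Groth.Agent.Lib.Helper1.K0Dim.dim_le_of_subset
      (D.support.isClosed.closure_subset_iff.mpr (Set.singleton_subset_iff.mpr hξ))

end Groth.Agent.Lib.Helper7.DivDim
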