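import Mathlib
import Groth.Prelude
import Groth.Agent.Lib.Helper3.InvAmple
import Groth.Agent.Lib.Helper3.InvMonoidal
import Groth.Agent.Lib.Helper3.InvTensor
import Groth.Agent.Lib.Helper17.AssPt

/-!
# A section generating at all associated points is regular (helper7)

* `exists_assPoint_of_sec_ne_zero`: a nonzero section of a quasi-coherent module on a locally
  Noetherian scheme is nonzero near some associated point.
* `mono_tensorMap_of_gen_assPts`: if `τ : O ⟶ L` generates `L` at every associated point of `F`,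
  then `F ⊗ O ⟶ F ⊗ L` is a monomorphism.
-/
set_option autoImplicit false
universe u
open CategoryTheory CategoryTheory.Limits AlgebraicGeometry TopologicalSpace Opposite
open Scheme.Modules

noncomputable section

namespace Groth.Agent.Lib.Helper7.RegSpanA

open Groth.Agent.Lib.Helper3 Groth.Agent.Lib.Helper3.QCSec Groth.Agent.Lib.Helper3.InvGen
  Groth.Agent.Lib.Helper3.InvTensor Groth.Agent.Lib.Helper3.InvMonoidal
  Groth.Agent.Lib.Helper17

variable {X : Scheme.{u}}

theorem exists_assPoint_of_sec_ne_zero [IsLocallyNoetherian X] (F : X.Modules)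
    [F.IsQuasicoherent] (W : X.Opens) (g : Γ(F, W)) (hg : g ≠ 0) :
    ∃ z : X, z ∈ W ∧ Curv2.IsAssPoint F z ∧
      ∀ (V : X.Opens) (hV : V ≤ W), z ∈ V → res F hV g ≠ 0 := by
  have h2 : ∃ (x : X) (hx : x ∈ W), F.presheaf.germ W x hx g ≠ 0 := by
    by_contra hcon
    push Not at hcon
    exact hg (QS.eq_zero_of_subsingleton_stalk F W g hcon)
  obtain ⟨x, hx, hgx⟩ := h2
  obtain ⟨_, ⟨U, hUa, rfl⟩, hxU, hUW⟩ :=
    X.isBasis_affineOpens.exists_subset_of_mem_open hx W.2
  have hUW' : U ≤ W := hUW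
  have hgU : F.presheaf.germ U x hxU (res F hUW' g) ≠ 0 := by
    have h6 := TopCat.Presheaf.germ_res_apply F.presheaf (homOfLE hUW') x hxU g
    intro h0
    apply hgx
    rw [← h6]
    exact h0
  obtain ⟨z, hz, hzass, -, hann⟩ :=
    AssPt.exists_assPoint_specializes hUa F x hxU (res F hUW' g) hgU
  refine ⟨z, hUW' hz, hzass, fun V hV hzV hV0 => ?_⟩
  have h3 : res F (inf_le_left : U ⊓ V ≤ U) (res F hUW' g) = 0 := by
    rw [res_res]
    have h5 : res F ((inf_le_left : U ⊓ V ≤ U).trans hUW') g =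
        res F (inf_le_right : U ⊓ V ≤ V) (res F hV g) := by rw [res_res]
    rw [h5, hV0, res_zero]
  have h4 : F.presheaf.germ U z hz (res F hUW' g) = 0 := by
    have h6 := TopCat.Presheaf.germ_res_apply F.presheaf
      (homOfLE (inf_le_left : U ⊓ V ≤ U)) z ⟨hz, hzV⟩ (res F hUW' g)
    rw [← h6]
    have h7 : F.presheaf.map (homOfLE (inf_le_left : U ⊓ V ≤ U)).op (res F hUW' g) = 0 := h3
    rw [h7, map_zero]
  obtain ⟨c, hc, hcg⟩ := (QS.germ_eq_zero_iff hUa F z hz (res F hUW' g)).mp h4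
  exact hc (hann c hcg)

theorem mono_tensorMap_of_gen_assPts [IsLocallyNoetherian X] (F : X.Modules)
    [F.IsQuasicoherent] {L : X.Modules} (τ : Coh.structureModule X ⟶ L)
    (h : ∀ z : X, Curv2.IsAssPoint F z → z ∈ CohB1.genLocus L τ) :
    Mono (tensorMap (𝟙 F) τ) := by
  rw [QCProps.mono_iff_app_injective]
  intro W
  have key : ∀ ξ : Γ(CohB1.tensorMod F (Coh.structureModule X), W),
      (tensorMap (𝟙 F) τ).app W ξ = 0 → ξ = 0 := by
    intro ξ hξ
    obtain ⟨g, hgξ⟩ := tm_gen_surjective F _ (isGen_one (X := X) W) W le_rfl ξ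
    dsimp only at hgξ
    rw [res_self] at hgξ
    have h1 : tm F L W g (sec τ W) = 0 := by
      have h2 := tensorMap_tm (𝟙 F) τ W g (ofFun W 1)
      rw [hgξ, hξ] at h2
      exact h2.symm
    have hg0 : g = 0 := by
      by_contra hne
      obtain ⟨z, hzW, hzass, hz⟩ := exists_assPoint_of_sec_ne_zero F W g hne
      have hzg := h z hzass
      apply hz (W ⊓ CohB1.genLocus L τ) inf_le_left ⟨hzW, hzg⟩
      have hgen : IsGen L (W ⊓ CohB1.genLocus L τ) (sec τ (W ⊓ CohB1.genLocus L τ)) := by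
        have h3 := (isGen_genLocus τ).mono (inf_le_right : W ⊓ CohB1.genLocus L τ ≤ _)
        rwa [res_sec] at h3
      apply tm_gen_eq_zero F L hgen (W ⊓ CohB1.genLocus L τ) le_rfl
      rw [res_self, ← res_sec τ (inf_le_left : W ⊓ CohB1.genLocus L τ ≤ W), ← tm_res, h1,
        res_zero]
    rw [← hgξ, hg0, tm_zero_left]
  intro ξ ξ' hξ
  have h1 : (tensorMap (𝟙 F) τ).app W (ξ - ξ') = 0 := by
    rw [QCExact.app_sub, hξ, sub_self]
  exact sub_eq_zero.mp (key _ h1)

end Groth.Agent.Lib.Helper7.RegSpanA
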