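import Mathlib
import Groth.Prelude
import Groth.Agent.Lib.Helper7.SnapFGA
import Groth.Agent.Lib.Helper7.RegSpanA
import Groth.Agent.Lib.Helper7.AvoidGen
import Groth.Agent.Lib.Helper7.AmpleH1
import Groth.Agent.Lib.Helper13.ZeroDimSupp
import Groth.Agent.Lib.Lead.ZeroDimPts
import Groth.Agent.Lib.Helper23.HilbPR
import Groth.Agent.Lib.Helper23.HilbPL
import Groth.Agent.S1526
import Groth.Agent.S1576

/-!
# Helper library (helper7): additivity of `FGA.intNum` in the sheaf, linearity in powers, and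
positivity of intersection numbers of ample invertible modules.
-/

set_option autoImplicit false
set_option linter.unusedSectionVars false
set_option linter.style.haveILetI false
universe u
open CategoryTheory CategoryTheory.Limits AlgebraicGeometry Opposite

namespace Groth.Agent.Lib.Helper7.IntNumPos

open Groth.Agent.Lib.Helper3 Groth.Agent.Lib.Helper3.InvMonoidal Groth.Agent.Lib.Helper3.InvTensor
open Groth.Agent.Lib.Helper3.InvGen
open Groth.Agent.Lib.Helper23 Groth.Agent.Lib.Helper23.Snap Groth.Agent.Lib.Helper23.HilbP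
open Groth.Agent.Lib.Helper7.SnapAlt Groth.Agent.Lib.Helper7.SnapFGA
open Groth.Agent.Lib.Helper7.TwFun

section Obj

variable {X : Scheme.{u}}

theorem isInvertible_tensorList : ∀ (l : List X.Modules), (∀ N ∈ l, PicF.IsInvertible N) →
    PicF.IsInvertible (FGA.tensorList l)
  | [], _ => isInvertible_structureModule X
  | N :: l, h => isInvertible_tensorMod (h N List.mem_cons_self)
      (isInvertible_tensorList l (fun N' hN' => h N' (List.mem_cons_of_mem _ hN')))

/-- the inverse of a power. -/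
noncomputable def powInverse {L M : X.Modules}
    (e : CohB1.tensorMod L M ≅ Coh.structureModule X) (a : ℕ) :
    CohB1.tensorMod (CohB1.tensorPow L a) (CohB1.tensorPow M a) ≅ Coh.structureModule X :=
  (powTensor L M a).symm ≪≫ tensorPowIso e a ≪≫ powUnit X a

end Obj

section Main

variable (k : Type u) [Field k] (X : Scheme.{u}) [X.Over (Spec (CommRingCat.of k))]
  [IsProper (X ↘ Spec (CommRingCat.of k))]

theorem eulerLE_additive_tw (d : ℕ) (hd : topologicalKrullDim X ≤ d) {T : X.Modules}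
    (hT : PicF.IsInvertible T) (S : ShortComplex X.Modules) (hS : S.ShortExact)
    (h1 : Coh.IsCoh S.X₁) (h2 : Coh.IsCoh S.X₂) (h3 : Coh.IsCoh S.X₃) :
    FGA.eulerCharLE k X (CohB1.tensorMod T S.X₂) d =
      FGA.eulerCharLE k X (CohB1.tensorMod T S.X₁) d +
        FGA.eulerCharLE k X (CohB1.tensorMod T S.X₃) d := by
  rw [eulerLE_iso k X (braid T S.X₂) d, eulerLE_iso k X (braid T S.X₁) d,
    eulerLE_iso k X (braid T S.X₃) d, eulerLE_eq k X d hd, eulerLE_eq k X d hd,
    eulerLE_eq k X d hd]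
  exact T2.euler_additive k X (S.map (twR T)) (Groth.Agent.Lib.Helper7.AmpleH1.shortExact_tw hT S hS)
    (isCoh_tensor_inv X hT h1) (isCoh_tensor_inv X hT h2) (isCoh_tensor_inv X hT h3)

/-- additivity of the intersection number in the sheaf. -/
theorem intNum_additive (d : ℕ) (hd : topologicalKrullDim X ≤ d) {r : ℕ} (M : Fin r → X.Modules)
    (hM : ∀ i, PicF.IsInvertible (M i)) (S : ShortComplex X.Modules) (hS : S.ShortExact)
    (h1 : Coh.IsCoh S.X₁) (h2 : Coh.IsCoh S.X₂) (h3 : Coh.IsCoh S.X₃) :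
    FGA.intNum k X d M S.X₂ = FGA.intNum k X d M S.X₁ + FGA.intNum k X d M S.X₃ := by
  unfold FGA.intNum
  rw [← Finset.sum_add_distrib]
  refine Finset.sum_congr rfl fun I _ => ?_
  have hT : PicF.IsInvertible (FGA.tensorList ((I.sort (· ≤ ·)).map M)) := by
    apply isInvertible_tensorList
    intro N hN
    obtain ⟨i, _, rfl⟩ := List.mem_map.mp hN
    exact hM i
  rw [eulerLE_additive_tw k X d hd hT S hS h1 h2 h3]
  ring

/-- linearity of the intersection number in powers of the first entry. -/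
theorem intNum_cons_pow (d : ℕ) (hd : topologicalKrullDim X ≤ d) {r : ℕ} (M' : Fin r → X.Modules)
    (hM' : ∀ i, PicF.IsInvertible (M' i)) (A : X.Modules) (hA : PicF.IsInvertible A)
    (F : X.Modules) (hF : Coh.IsCoh F)
    (hr : topologicalKrullDim (CohB1.support F) ≤ (r + 1 : ℕ)) : ∀ a : ℕ,
    FGA.intNum k X d (Fin.cons (CohB1.tensorPow A a) M') F =
      (a : ℤ) * FGA.intNum k X d (Fin.cons A M') F
  | 0 => by
    rw [intNum_cons]
    have : FGA.intNum k X d M' (CohB1.tensorMod (CohB1.tensorPow A 0) F) =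
        FGA.intNum k X d M' F := intNum_iso_right k X d M' (unitorL F)
    rw [this]
    simp
  | a + 1 => by
    have h := intNum_add k X d hd M' hM' (CohB1.tensorPow A a) A (isInvertible_tensorPow hA a) hA
      F hF hr
    have e : CohB1.tensorPow A (a + 1) = CohB1.tensorMod (CohB1.tensorPow A a) A := rfl
    rw [e, h, intNum_cons_pow d hd M' hM' A hA F hF hr a]
    push_cast
    ring

/-- positivity of the Euler characteristic of a nonzero coherent module with zero-dimensional
support. -/
theorem euler_pos_of_dim_zero (F : X.Modules) (hF : Coh.IsCoh F)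
    (h0 : topologicalKrullDim (CohB1.support F) = (0 : ℕ)) : 0 < Curv2.euler k X F := by
  haveI : IsLocallyNoetherian X :=
    LocallyOfFiniteType.isLocallyNoetherian (X ↘ (Spec (CommRingCat.of k)))
  have h0' : topologicalKrullDim (CohB1.support F) ≤ 0 := by rw [h0]; rfl
  have hv : ∀ p : ℕ, 0 < p → Subsingleton (Coh.HH X F p) := fun p hp =>
    Groth.Agent.S1526.result k X F hF h0' p hp
  rw [euler_eq_finrank_h0 k X F hF hv]
  have hcl : IsClosed (CohB1.support F) := Groth.Agent.S0020.result X F hF.2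
  have hpts : ∀ x ∈ CohB1.support F, IsClosed ({x} : Set X) := fun x hx =>
    Groth.Agent.Lib.Lead.ZeroDimPts.isClosed_singleton_of_dim_le_zero hcl h0' hx
  have hne : (CohB1.support F).Nonempty := by
    by_contra hcon
    rw [Set.not_nonempty_iff_eq_empty] at hcon
    rw [hcon] at h0
    have : topologicalKrullDim (∅ : Set X) = ⊥ := by
      unfold topologicalKrullDim
      haveI : IsEmpty (TopologicalSpace.IrreducibleCloseds (∅ : Set X)) :=
        ⟨fun T => by
          obtain ⟨x, _⟩ := T.isIrreducible.nonempty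
          exact x.2.elim⟩
      exact Order.krullDim_eq_bot
    rw [this] at h0
    exact absurd h0 (by simp)
  obtain ⟨x, hx⟩ := hne
  have hnt : Nontrivial (T2.Γm F) := by
    by_contra hcon
    rw [not_nontrivial_iff_subsingleton] at hcon
    have hsub : ∀ V : X.Opens, Subsingleton Γ(F, V) := by
      intro V
      have hfl := Groth.Agent.Lib.Helper13.ZeroDimSupp.isFlasque_toAb X F hF hpts
      have hepi : Epi ((Coh.toAb F).obj.map (homOfLE (le_top : V ≤ ⊤)).op) := hfl.epi _
      rw [AddCommGrpCat.epi_iff_surjective] at hepi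
      haveI : Subsingleton ((Coh.toAb F).obj.obj (op ⊤)) := hcon
      exact hepi.subsingleton
    apply hx
    refine ⟨fun a b => ?_⟩
    obtain ⟨V, hxV, s, rfl⟩ := TopCat.Presheaf.exists_germ_eq F.presheaf a
    obtain ⟨V', hxV', s', rfl⟩ := TopCat.Presheaf.exists_germ_eq F.presheaf b
    haveI := hsub V
    haveI := hsub V'
    rw [Subsingleton.elim s 0, Subsingleton.elim s' 0, map_zero, map_zero]
  haveI : Nontrivial (Coh.HH X F 0) := (T2.H0equiv F).toEquiv.nontrivial
  haveI := T2.finite_HH k F hF 0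
  exact_mod_cast Module.finrank_pos (R := k) (M := Coh.HH X F 0)

/-- the Hilbert polynomial of the cokernel of multiplication by a section of `N`. -/
theorem isHilbPoly_cokernel {N : X.Modules} (hN : PicF.IsInvertible N) (F : X.Modules)
    (hF : Coh.IsCoh F) (τ : Coh.structureModule X ⟶ N) [Mono (tensorMap (𝟙 F) τ)]
    {H : Polynomial ℚ} (hH : ShStab.IsHilbPoly k X N F H) :
    ShStab.IsHilbPoly k X N (cokernel (tensorMap (𝟙 F) τ)) (Polynomial.taylor 1 H - H) := by
  intro m
  let S : ShortComplex X.Modules :=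
    ShortComplex.mk (tensorMap (𝟙 F) τ) (cokernel.π _) (cokernel.condition _)
  have hS : S.ShortExact :=
    { exact := ShortComplex.exact_cokernel _
      mono_f := inferInstanceAs (Mono (tensorMap (𝟙 F) τ))
      epi_g := inferInstanceAs (Epi (cokernel.π (tensorMap (𝟙 F) τ))) }
  have hP : PicF.IsInvertible (CohB1.tensorPow N m) := isInvertible_tensorPow hN m
  have hF0 : Coh.IsCoh (CohB1.tensorMod F (Coh.structureModule X)) :=
    Groth.Agent.Lib.Helper17.DevBasic.isCoh_of_iso (SecTwist.unitorR F).symm hF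
  have hG : Coh.IsCoh (CohB1.tensorMod F N) := isCoh_tensor_inv X hN hF
  have hQ : Coh.IsCoh (cokernel (tensorMap (𝟙 F) τ)) :=
    Groth.Agent.Lib.Helper17.DevBasic.isCoh_cokernel _ hF0.1 hG
  have hadd := T2.euler_additive k X (S.map (twR (CohB1.tensorPow N m)))
    (Groth.Agent.Lib.Helper7.AmpleH1.shortExact_tw hP S hS)
    (isCoh_tensor_inv X hP hF0) (isCoh_tensor_inv X hP hG) (isCoh_tensor_inv X hP hQ)
  have e1 : CohB1.tensorMod (CohB1.tensorMod F (Coh.structureModule X)) (CohB1.tensorPow N m) ≅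
      ShStab.twist X N F m := tensorMapIso (SecTwist.unitorR F) (Iso.refl _)
  have e2 : CohB1.tensorMod (CohB1.tensorMod F N) (CohB1.tensorPow N m) ≅
      ShStab.twist X N F (m + 1) :=
    assoc F N (CohB1.tensorPow N m) ≪≫ tensorMapIso (Iso.refl F) (braid N (CohB1.tensorPow N m))
  have h1 : Curv2.euler k X (S.map (twR (CohB1.tensorPow N m))).X₁ =
      Curv2.euler k X (ShStab.twist X N F m) := FBC.euler_eq_of_iso' k e1
  have h2 : Curv2.euler k X (S.map (twR (CohB1.tensorPow N m))).X₂ =
      Curv2.euler k X (ShStab.twist X N F (m + 1)) := FBC.euler_eq_of_iso' k e2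
  have h3 : (S.map (twR (CohB1.tensorPow N m))).X₃ =
      ShStab.twist X N (cokernel (tensorMap (𝟙 F) τ)) m := rfl
  rw [h1, h2, h3] at hadd
  have hm := hH m
  have hm1 := hH (m + 1)
  rw [Polynomial.eval_sub, Polynomial.taylor_eval, ← hm]
  have : ((m : ℚ) + 1) = ((m + 1 : ℕ) : ℚ) := by push_cast; ring
  rw [this, ← hm1, hadd]
  push_cast
  ring

/-- the inductive step for positivity. -/
theorem pos_step (d : ℕ) (hd : topologicalKrullDim X ≤ d) {r : ℕ} (M' : Fin r → X.Modules)
    (hM' : ∀ i, PicF.IsInvertible (M' i)) (M₁ : X.Modules) (hM₁ : PicF.IsInvertible M₁)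
    (a : ℕ) (hapos : 0 < a) (N : X.Modules) (hNample : CohB1.IsAmple N)
    (eNN' : CohB1.tensorMod N (CohB1.tensorPow M₁ a) ≅ Coh.structureModule X)
    (F : X.Modules) (hF : Coh.IsCoh F)
    (hr : topologicalKrullDim (CohB1.support F) = ((r + 1 : ℕ) : WithBot ℕ∞))
    (τ : Coh.structureModule X ⟶ N)
    (hτ : ∀ z : X, Curv2.IsAssPoint F z → z ∈ CohB1.genLocus N τ)
    (ih : ∀ Q : X.Modules, Coh.IsCoh Q → topologicalKrullDim (CohB1.support Q) = r →
      0 < FGA.intNum k X d M' Q) :
    0 < FGA.intNum k X d (Fin.cons M₁ M' : Fin (r + 1) → X.Modules) F := by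
  haveI : IsNoetherian X := isNoetherian_of_isProper k X
  haveI : F.IsQuasicoherent := hF.1
  have hN : PicF.IsInvertible N := hNample.1
  have hP : PicF.IsInvertible (CohB1.tensorPow M₁ a) := isInvertible_tensorPow hM₁ a
  haveI hmono : Mono (tensorMap (𝟙 F) τ) :=
    Groth.Agent.Lib.Helper7.RegSpanA.mono_tensorMap_of_gen_assPts F τ hτ
  -- the short exact sequence
  let S : ShortComplex X.Modules :=
    ShortComplex.mk (tensorMap (𝟙 F) τ) (cokernel.π _) (cokernel.condition _)
  have hS : S.ShortExact :=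
    { exact := ShortComplex.exact_cokernel _
      mono_f := hmono
      epi_g := inferInstanceAs (Epi (cokernel.π (tensorMap (𝟙 F) τ))) }
  have hF0 : Coh.IsCoh (CohB1.tensorMod F (Coh.structureModule X)) :=
    Groth.Agent.Lib.Helper17.DevBasic.isCoh_of_iso (SecTwist.unitorR F).symm hF
  have hG : Coh.IsCoh (CohB1.tensorMod F N) := isCoh_tensor_inv X hN hF
  have hQ : Coh.IsCoh (cokernel (tensorMap (𝟙 F) τ)) :=
    Groth.Agent.Lib.Helper17.DevBasic.isCoh_cokernel _ hF0.1 hG
  have hadd := intNum_additive k X d hd M' hM' S hS hF0 hG hQ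
  change FGA.intNum k X d M' (CohB1.tensorMod F N) =
    FGA.intNum k X d M' (CohB1.tensorMod F (Coh.structureModule X)) +
      FGA.intNum k X d M' (cokernel (tensorMap (𝟙 F) τ)) at hadd
  -- the dimension of the support of the cokernel
  obtain ⟨H, hH⟩ := exists_isHilbPoly k X hNample F hF
  obtain ⟨hdeg, -⟩ := natDegree_eq_of_dim_eq k hNample F hF hH (r + 1) hr
  have hHQ := isHilbPoly_cokernel k X hN F hF τ hH
  obtain ⟨hdegQ, hQne⟩ := natDegree_taylor_sub H 1 one_ne_zero (by omega)
  have hQnz : ¬ IsZero (cokernel (tensorMap (𝟙 F) τ)) := by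
    intro hz
    exact hQne (isHilbPoly_unique k hHQ (isHilbPoly_zero k hz))
  have hdimQ : topologicalKrullDim (CohB1.support (cokernel (tensorMap (𝟙 F) τ))) = r := by
    rw [dim_eq_natDegree k hNample _ hQ hQnz hHQ]
    have : (Polynomial.taylor 1 H - H).natDegree = r := by omega
    rw [this]
  have hpos := ih _ hQ hdimQ
  -- supports
  have hGr : topologicalKrullDim (CohB1.support (CohB1.tensorMod F N)) ≤
      ((r + 1 : ℕ) : WithBot ℕ∞) := by
    rw [support_tensor_inv hN hF, hr]
  -- `N' ⊗ (F ⊗ N) ≅ F ⊗ O`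
  let eG : CohB1.tensorMod (CohB1.tensorPow M₁ a) (CohB1.tensorMod F N) ≅
      CohB1.tensorMod F (Coh.structureModule X) :=
    braid (CohB1.tensorPow M₁ a) _ ≪≫ assoc F N (CohB1.tensorPow M₁ a) ≪≫
      tensorMapIso (Iso.refl F) eNN'
  -- recursion
  have hR1 := intNum_cons k X d (CohB1.tensorPow M₁ a) M' (CohB1.tensorMod F N)
  rw [intNum_iso_right k X d _ eG] at hR1
  have hI2 : ∀ i, PicF.IsInvertible
      ((Fin.cons (CohB1.tensorPow M₁ a) M' : Fin (r + 1) → X.Modules) i) := by
    intro i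
    refine Fin.cases ?_ (fun j => ?_) i
    · rw [Fin.cons_zero]; exact hP
    · rw [Fin.cons_succ]; exact hM' j
  have hI3 : ∀ i, PicF.IsInvertible
      ((Fin.cons (CohB1.tensorPow M₁ a)
        (Fin.cons (CohB1.tensorPow M₁ a) M' : Fin (r + 1) → X.Modules) :
        Fin (r + 1 + 1) → X.Modules) i) := by
    intro i
    refine Fin.cases ?_ (fun j => ?_) i
    · rw [Fin.cons_zero]; exact hP
    · rw [Fin.cons_succ]; exact hI2 j
  have hz := intNum_eq_zero k X d hd _ hI3 (CohB1.tensorMod F N) hG (lt_succ_dim_of_le hGr)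
  rw [intNum_cons, intNum_iso_right k X d _ eG,
    intNum_iso_right k X d _ (SecTwist.unitorR F)] at hz
  have hlin := intNum_cons_pow k X d hd M' hM' M₁ hM₁ F hF (by rw [hr]) a
  rw [intNum_iso_right k X d _ (SecTwist.unitorR F)] at hadd
  rw [intNum_iso_right k X d _ (SecTwist.unitorR F)] at hR1
  -- conclusion
  have hfinal : (a : ℤ) * FGA.intNum k X d (Fin.cons M₁ M' : Fin (r + 1) → X.Modules) F =
      FGA.intNum k X d M' (cokernel (tensorMap (𝟙 F) τ)) := by
    rw [← hlin]
    linarith
  have ha' : (0 : ℤ) < a := by exact_mod_cast hapos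
  by_contra hcon
  push_neg at hcon
  have : (a : ℤ) * FGA.intNum k X d (Fin.cons M₁ M' : Fin (r + 1) → X.Modules) F ≤ 0 :=
    mul_nonpos_of_nonneg_of_nonpos ha'.le hcon
  omega

/-- **Positivity of intersection numbers of ample invertible modules** (S3233). -/
theorem intNum_pos (d : ℕ) (hd : topologicalKrullDim X ≤ d) : ∀ (r : ℕ) (L M : Fin r → X.Modules)
    (_ : ∀ i, CohB1.IsAmple (L i))
    (_ : ∀ i, Nonempty (CohB1.tensorMod (L i) (M i) ≅ Coh.structureModule X))
    (F : X.Modules) (_ : Coh.IsCoh F) (_ : topologicalKrullDim (CohB1.support F) = r),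
    0 < FGA.intNum k X d M F := by
  haveI : IsNoetherian X := isNoetherian_of_isProper k X
  haveI : CompactSpace X := T2.compactSpace_of_isProper k X
  haveI : QuasiSeparatedSpace X := T2.quasiSeparatedSpace_of_isProper k X
  intro r
  induction r with
  | zero =>
    intro L M _ _ F hF hr
    rw [intNum_zero, eulerLE_iso k X (unitorL F) d, eulerLE_eq k X d hd]
    exact euler_pos_of_dim_zero k X F hF hr
  | succ r ih =>
    intro L M hL hLM F hF hr
    have hL₁ : PicF.IsInvertible (L 0) := (hL 0).1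
    obtain ⟨eLM⟩ := hLM 0
    have hM₁ : PicF.IsInvertible (M 0) := isInvertible_of_inverse hL₁ ⟨eLM⟩
    have hM' : ∀ i : Fin r, PicF.IsInvertible (M i.succ) := fun i =>
      isInvertible_of_inverse (hL i.succ).1 (hLM i.succ)
    have hMeq : (Fin.cons (M 0) (fun i : Fin r => M i.succ) : Fin (r + 1) → X.Modules) = M :=
      Fin.cons_self_tail M
    have hfin : {x : X | x ∈ (⊤ : X.Opens) ∧ Curv2.IsAssPoint F x}.Finite :=
      Groth.Agent.S1576.result X F hF ⊤ isCompact_univ
    haveI : Finite ↥{x : X | x ∈ (⊤ : X.Opens) ∧ Curv2.IsAssPoint F x} := hfin.to_subtype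
    obtain ⟨N₀, hN₀⟩ := Groth.Agent.Lib.Helper7.AvoidGen.exists_section_gen_at_points (hL 0)
      (isInvertible_structureModule X)
      (fun p : ↥{x : X | x ∈ (⊤ : X.Opens) ∧ Curv2.IsAssPoint F x} => p.1)
    obtain ⟨s, hs⟩ := hN₀ (N₀ + 1) (Nat.le_succ _)
    rw [← hMeq]
    refine pos_step k X d hd (fun i : Fin r => M i.succ) hM' (M 0) hM₁ (N₀ + 1) (Nat.succ_pos _)
      (CohB1.tensorPow (L 0) (N₀ + 1))
      ((InvAmple.isAmple_pow_iff hL₁ (Nat.succ_pos _)).mp (hL 0)) (powInverse eLM (N₀ + 1)) F hF hr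
      (s ≫ (unitorL (CohB1.tensorPow (L 0) (N₀ + 1))).hom) ?_ ?_
    · intro z hz
      rw [genLocus_comp_iso]
      exact hs ⟨z, trivial, hz⟩
    · intro Q hQ hdimQ
      exact ih (fun i => L i.succ) (fun i => M i.succ) (fun i => hL i.succ)
        (fun i => hLM i.succ) Q hQ hdimQ

end Main

end Groth.Agent.Lib.Helper7.IntNumPos
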