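import Mathlib
import Groth.Prelude
import Groth.Agent.Lib.Helper7.IntNumPos
import Groth.Agent.Lib.Helper7.Mumford
import Groth.Agent.Lib.Helper3.PbTensor
import Groth.Agent.Lib.Helper3.QProj

/-!
# Helper library (helper7): Hilbert coefficients in the binomial basis through intersection numbers
-/

set_option autoImplicit false
set_option linter.unusedSectionVars false
set_option linter.style.haveILetI false
universe u
open CategoryTheory CategoryTheory.Limits AlgebraicGeometry Opposite

namespace Groth.Agent.Lib.Helper7.HilbCoeff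

open Groth.Agent.Lib.Helper3 Groth.Agent.Lib.Helper3.InvMonoidal Groth.Agent.Lib.Helper3.InvTensor
open Groth.Agent.Lib.Helper3.InvGen
open Groth.Agent.Lib.Helper23 Groth.Agent.Lib.Helper23.Snap Groth.Agent.Lib.Helper23.HilbP
open Groth.Agent.Lib.Helper7.SnapAlt Groth.Agent.Lib.Helper7.SnapFGA
open Groth.Agent.Lib.Helper7.IntNumPos

/-- uniqueness of the coefficients in the binomial basis. -/
theorem binom_unique : ∀ (r t : ℕ) (c : ℕ → ℤ),
    (∀ m : ℕ, ∑ i ∈ Finset.range (r + 1), c i * ((m + t + i).choose i : ℤ) = 0) →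
    ∀ i, i ≤ r → c i = 0
  | 0, t, c, h => by
    intro i hi
    obtain rfl : i = 0 := by omega
    simpa using h 0
  | r + 1, t, c, h => by
    have key : ∀ m : ℕ, ∑ i ∈ Finset.range (r + 1),
        c (i + 1) * ((m + (t + 1) + i).choose i : ℤ) = 0 := by
      intro m
      have h1 := h (m + 1)
      have h0 := h m
      rw [Finset.sum_range_succ'] at h1 h0
      simp only [Nat.choose_zero_right, Nat.cast_one, mul_one, add_zero] at h1 h0
      have hpas : ∀ i : ℕ, ((m + 1 + t + (i + 1)).choose (i + 1) : ℤ) =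
          ((m + (t + 1) + i).choose i : ℤ) + ((m + t + (i + 1)).choose (i + 1) : ℤ) := by
        intro i
        have e1 : m + 1 + t + (i + 1) = (m + (t + 1) + i) + 1 := by omega
        have e2 : m + t + (i + 1) = m + (t + 1) + i := by omega
        rw [e1, e2, Nat.choose_succ_succ, Nat.cast_add]
      have hh : ∑ i ∈ Finset.range (r + 1), c (i + 1) * ((m + (t + 1) + i).choose i : ℤ) =
          (∑ i ∈ Finset.range (r + 1),
            c (i + 1) * ((m + 1 + t + (i + 1)).choose (i + 1) : ℤ)) -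
          ∑ i ∈ Finset.range (r + 1), c (i + 1) * ((m + t + (i + 1)).choose (i + 1) : ℤ) := by
        rw [← Finset.sum_sub_distrib]
        refine Finset.sum_congr rfl fun i _ => ?_
        rw [hpas]
        ring
      rw [hh]
      linarith
    have hpos : ∀ i, i ≤ r → c (i + 1) = 0 :=
      binom_unique r (t + 1) (fun i => c (i + 1)) key
    intro i hi
    rcases Nat.eq_zero_or_pos i with rfl | hi0
    · have h0 := h 0
      rw [Finset.sum_range_succ', Finset.sum_eq_zero] at h0
      · simpa using h0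
      · intro j hj
        rw [hpos j (by have := Finset.mem_range.mp hj; omega)]
        ring
    · obtain ⟨j, rfl⟩ : ∃ j, i = j + 1 := ⟨i - 1, by omega⟩
      exact hpos j (by omega)

section Pn

variable (k : Type u) [Field k] {n : ℕ} {X : Scheme.{u}} (i : X ⟶ CohB1.ProjSpace n k)

/-- `O_X(1)`. -/
noncomputable abbrev HX : X.Modules :=
  (Scheme.Modules.pullback i).obj (Twist.twistProjSpace n k 1)

/-- `O_X(-1)`. -/
noncomputable abbrev HX' : X.Modules :=
  (Scheme.Modules.pullback i).obj (Twist.twistProjSpace n k (-1))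

theorem isInvertible_twistProjSpace (d : ℤ) : PicF.IsInvertible (Twist.twistProjSpace n k d) :=
  Groth.Agent.Lib.Helper7.TwProj.isInvertible_twist (Groth.Agent.Lib.Helper7.Mumford.hU n k) d

theorem isInvertible_HX : PicF.IsInvertible (HX k i) :=
  PbBasic.isInvertible_pullback i (isInvertible_twistProjSpace k 1)

theorem isInvertible_HX' : PicF.IsInvertible (HX' k i) :=
  PbBasic.isInvertible_pullback i (isInvertible_twistProjSpace k (-1))

theorem nonempty_HX_inv :
    Nonempty (CohB1.tensorMod (HX k i) (HX' k i) ≅ Coh.structureModule X) := by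
  have e0 : CohB1.tensorMod (Twist.twistProjSpace n k 1) (Twist.twistProjSpace n k (-1)) ≅
      Coh.structureModule (CohB1.ProjSpace n k) :=
    Groth.Agent.Lib.Helper7.TwProj.pairIso (Groth.Agent.Lib.Helper7.Mumford.hU n k) 1
  exact ⟨(PbTensor.pbTensorIso i _ _ (isInvertible_twistProjSpace k 1)
    (isInvertible_twistProjSpace k (-1))).symm ≪≫
    (Scheme.Modules.pullback i).mapIso e0 ≪≫ PbBasic.pbUnit i⟩

theorem nonempty_twistOn_iso (F : X.Modules) (m : ℕ) :
    Nonempty (Pic13.twistOn k i F (m : ℤ) ≅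
      CohB1.tensorMod (CohB1.tensorPow (HX k i) m) F) := by
  have e0 : Twist.twistProjSpace n k (m : ℤ) ≅
      CohB1.tensorPow (Twist.twistProjSpace n k 1) m :=
    TwistMul.powIso (Groth.Agent.Lib.Helper7.Mumford.hU n k 1) m
  exact ⟨braid F _ ≪≫ tensorMapIso ((Scheme.Modules.pullback i).mapIso e0 ≪≫
    PbTensor.pbPowIso i _ (isInvertible_twistProjSpace k 1) m) (Iso.refl F)⟩

end Pn

section Main

variable (k : Type u) [Field k] {n : ℕ} (X : Scheme.{u}) [X.Over (Spec (CommRingCat.of k))]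
  [IsProper (X ↘ Spec (CommRingCat.of k))] (i : X ⟶ CohB1.ProjSpace n k)

theorem dim_support_le (d : ℕ) (hd : topologicalKrullDim X ≤ d) (F : X.Modules) :
    topologicalKrullDim (CohB1.support F) ≤ d :=
  (Topology.IsEmbedding.subtypeVal.isInducing.topologicalKrullDim_le).trans hd

theorem euler_twistOn (s : ℕ) (hd : topologicalKrullDim X ≤ (s + 1 : ℕ)) (F : X.Modules)
    (hF : Coh.IsCoh F) (m : ℕ) :
    FGA.eulerCharLE k X (Pic13.twistOn k i F (m : ℤ)) (s + 1) =
      ∑ j ∈ Finset.range (s + 1 + 1), ((m + j).choose j : ℤ) *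
        FGA.intNum k X (s + 1) (fun _ : Fin j => HX' k i) (CohB1.tensorMod (HX' k i) F) := by
  have hH := isInvertible_HX k i
  have hH' := isInvertible_HX' k i
  obtain ⟨eHH'⟩ := nonempty_HX_inv k i
  obtain ⟨e1⟩ := nonempty_twistOn_iso k i F m
  have hF' : Coh.IsCoh (CohB1.tensorMod (HX' k i) F) := isCoh_tensor_inv' X hH' hF
  have eHF : CohB1.tensorMod (HX k i) (CohB1.tensorMod (HX' k i) F) ≅ F :=
    (assoc _ _ F).symm ≪≫ tensorMapIso eHH' (Iso.refl F) ≪≫ unitorL F
  have e2 : CohB1.tensorMod (CohB1.tensorPow (HX k i) (m + 1)) (CohB1.tensorMod (HX' k i) F) ≅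
      CohB1.tensorMod (CohB1.tensorPow (HX k i) m) F :=
    assoc (CohB1.tensorPow (HX k i) m) (HX k i) _ ≪≫ tensorMapIso (Iso.refl _) eHF
  rw [eulerLE_iso k X (e1 ≪≫ e2.symm) (s + 1),
    euler_pow k X (s + 1) hd (HX k i) (HX' k i) hH ⟨eHH'⟩ (s + 1) (m + 1) _ hF'
      (dim_support_le X (s + 1) hd _)]
  refine Finset.sum_congr rfl fun j _ => ?_
  rw [show m + 1 + j - 1 = m + j by omega]

/-- the coefficients of the Hilbert polynomial in the binomial basis are intersection numbers. -/
theorem hilbCoeff_eq (s : ℕ) (hd : topologicalKrullDim X ≤ (s + 1 : ℕ)) (F : X.Modules)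
    (hF : Coh.IsCoh F) (a : Fin (s + 2) → ℤ)
    (ha : ∀ m : ℕ, FGA.eulerCharLE k X (Pic13.twistOn k i F (m : ℤ)) (s + 1) =
      ∑ j : Fin (s + 2), a j * ((m + j).choose j : ℤ)) (j : ℕ) (hj : j < s + 2) :
    a ⟨j, hj⟩ =
      FGA.intNum k X (s + 1) (fun _ : Fin j => HX' k i) (CohB1.tensorMod (HX' k i) F) := by
  set A : ℕ → ℤ := fun j => if h : j < s + 2 then a ⟨j, h⟩ else 0 with hA
  set B : ℕ → ℤ := fun j =>
    FGA.intNum k X (s + 1) (fun _ : Fin j => HX' k i) (CohB1.tensorMod (HX' k i) F) with hB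
  have key : ∀ m : ℕ, ∑ j ∈ Finset.range (s + 1 + 1),
      (A j - B j) * ((m + 0 + j).choose j : ℤ) = 0 := by
    intro m
    have h1 := ha m
    rw [euler_twistOn k X i s hd F hF m] at h1
    have h2 : ∑ j : Fin (s + 2), a j * ((m + j).choose j : ℤ) =
        ∑ j ∈ Finset.range (s + 1 + 1), A j * ((m + j).choose j : ℤ) := by
      rw [← Fin.sum_univ_eq_sum_range (fun j => A j * ((m + j).choose j : ℤ)) (s + 1 + 1)]
      refine Finset.sum_congr rfl fun j _ => ?_
      simp only [hA, j.2, dif_pos, Fin.eta]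
    rw [h2] at h1
    simp only [add_zero, sub_mul]
    rw [Finset.sum_sub_distrib, ← h1, sub_eq_zero]
    refine Finset.sum_congr rfl fun j _ => ?_
    rw [mul_comm]
  have := binom_unique (s + 1) 0 (fun j => A j - B j) key j (by omega)
  have h3 : A j = B j := sub_eq_zero.mp this
  simp only [hA, hj, dif_pos] at h3
  exact h3

/-- top and subtop Hilbert coefficients (S5644). -/
theorem main5644 (s : ℕ) (hd : topologicalKrullDim X ≤ (s + 1 : ℕ))
    (L L' : X.Modules) (hL : PicF.IsInvertible L)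
    (hLL' : Nonempty (CohB1.tensorMod L L' ≅ Coh.structureModule X))
    (a e : Fin (s + 2) → ℤ)
    (ha : ∀ m : ℕ, FGA.eulerCharLE k X (Pic13.twistOn k i L (m : ℤ)) (s + 1) =
      ∑ j : Fin (s + 2), a j * ((m + j).choose j : ℤ))
    (he : ∀ m : ℕ, FGA.eulerCharLE k X (Pic13.twistOn k i (Coh.structureModule X) (m : ℤ)) (s + 1) =
      ∑ j : Fin (s + 2), e j * ((m + j).choose j : ℤ)) :
    a (Fin.last (s + 1)) = e (Fin.last (s + 1)) ∧
      a (Fin.last (s + 1)) = FGA.intNum k X (s + 1)
        (fun _ : Fin (s + 1) => HX' k i) (Coh.structureModule X) ∧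
      a (Fin.castSucc (Fin.last s)) - e (Fin.castSucc (Fin.last s)) = FGA.intNum k X (s + 1)
        (Fin.cons L' (fun _ : Fin s => HX' k i) : Fin (s + 1) → X.Modules)
        (Coh.structureModule X) := by
  have hH' := isInvertible_HX' k i
  have hL' : PicF.IsInvertible L' := isInvertible_of_inverse hL hLL'
  obtain ⟨eLL'⟩ := hLL'
  have hO : Coh.IsCoh (Coh.structureModule X) := T2.isCoh_structureModule X
  have hLc : Coh.IsCoh L :=
    ⟨InvCoh.isQuasicoherent_of_isInvertible hL, InvCoh.isFiniteType_of_isInvertible hL⟩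
  have hL'c : Coh.IsCoh L' :=
    ⟨InvCoh.isQuasicoherent_of_isInvertible hL', InvCoh.isFiniteType_of_isInvertible hL'⟩
  -- notation
  set I : ∀ j : ℕ, X.Modules → ℤ := fun j G =>
    FGA.intNum k X (s + 1) (fun _ : Fin j => HX' k i) G with hI
  have eO : CohB1.tensorMod L' L ≅ Coh.structureModule X := braid L' L ≪≫ eLL'
  -- vanishing with `s + 2` factors
  have hvan : ∀ G : X.Modules, Coh.IsCoh G → I (s + 1 + 1) G = 0 := fun G hG =>
    intNum_eq_zero k X (s + 1) hd _ (fun _ => hH') G hG
      (lt_succ_dim_of_le (dim_support_le X (s + 1) hd G))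
  have hrec : ∀ (j : ℕ) (G : X.Modules), I (j + 1) G = I j G - I j (CohB1.tensorMod (HX' k i) G) :=
    fun j G => intNum_const_succ k X (s + 1) (HX' k i) j G
  -- the coefficients
  have haT := hilbCoeff_eq k X i s hd L hLc a ha (s + 1) (by omega)
  have heT := hilbCoeff_eq k X i s hd _ hO e he (s + 1) (by omega)
  have haS := hilbCoeff_eq k X i s hd L hLc a ha s (by omega)
  have heS := hilbCoeff_eq k X i s hd _ hO e he s (by omega)
  change a ⟨s + 1, _⟩ = I (s + 1) (CohB1.tensorMod (HX' k i) L) at haT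
  change e ⟨s + 1, _⟩ = I (s + 1) (CohB1.tensorMod (HX' k i) (Coh.structureModule X)) at heT
  change a ⟨s, _⟩ = I s (CohB1.tensorMod (HX' k i) L) at haS
  change e ⟨s, _⟩ = I s (CohB1.tensorMod (HX' k i) (Coh.structureModule X)) at heS
  have h1 := hrec (s + 1) L
  rw [hvan L hLc] at h1
  have h2 := hrec (s + 1) (Coh.structureModule X)
  rw [hvan _ hO] at h2
  have h3 := hrec s L
  have h4 := hrec s (Coh.structureModule X)
  -- `(L', H'^{s+1}; L) = 0`
  have hN1 : ∀ j, PicF.IsInvertible
      ((Fin.cons L' (fun _ : Fin (s + 1) => HX' k i) : Fin (s + 1 + 1) → X.Modules) j) := by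
    intro j
    refine Fin.cases ?_ (fun j => ?_) j
    · rw [Fin.cons_zero]; exact hL'
    · rw [Fin.cons_succ]; exact hH'
  have h5 := intNum_eq_zero k X (s + 1) hd _ hN1 L hLc
    (lt_succ_dim_of_le (dim_support_le X (s + 1) hd L))
  rw [intNum_cons, intNum_iso_right k X (s + 1) _ eO] at h5
  change I (s + 1) L - I (s + 1) (Coh.structureModule X) = 0 at h5
  -- `(L', L', H'^s; L) = 0`
  have hN2 : ∀ j, PicF.IsInvertible
      ((Fin.cons L' (Fin.cons L' (fun _ : Fin s => HX' k i) : Fin (s + 1) → X.Modules) :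
        Fin (s + 1 + 1) → X.Modules) j) := by
    intro j
    refine Fin.cases ?_ (fun j => ?_) j
    · rw [Fin.cons_zero]; exact hL'
    · rw [Fin.cons_succ]
      refine Fin.cases ?_ (fun j => ?_) j
      · rw [Fin.cons_zero]; exact hL'
      · rw [Fin.cons_succ]; exact hH'
  have h6 := intNum_eq_zero k X (s + 1) hd _ hN2 L hLc
    (lt_succ_dim_of_le (dim_support_le X (s + 1) hd L))
  rw [intNum_cons, intNum_cons, intNum_cons, intNum_iso_right k X (s + 1) _ eO,
    intNum_iso_right k X (s + 1) (fun _ : Fin s => HX' k i)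
      (tensorMapIso (Iso.refl L') eO)] at h6
  change I s L - I s (Coh.structureModule X) -
    (I s (Coh.structureModule X) - I s (CohB1.tensorMod L' (Coh.structureModule X))) = 0 at h6
  have h7 : FGA.intNum k X (s + 1)
      (Fin.cons L' (fun _ : Fin s => HX' k i) : Fin (s + 1) → X.Modules)
      (Coh.structureModule X) =
      I s (Coh.structureModule X) - I s (CohB1.tensorMod L' (Coh.structureModule X)) :=
    intNum_cons k X (s + 1) L' _ _
  have hlast : (Fin.last (s + 1) : Fin (s + 2)) = ⟨s + 1, by omega⟩ := rfl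
  have hcs : (Fin.castSucc (Fin.last s) : Fin (s + 2)) = ⟨s, by omega⟩ := rfl
  rw [hlast, hcs, h7, haT, heT, haS, heS]
  change I (s + 1) (CohB1.tensorMod (HX' k i) L) =
      I (s + 1) (CohB1.tensorMod (HX' k i) (Coh.structureModule X)) ∧
    I (s + 1) (CohB1.tensorMod (HX' k i) L) = I (s + 1) (Coh.structureModule X) ∧ _
  refine ⟨by linarith, by linarith, by linarith⟩

end Main

end Groth.Agent.Lib.Helper7.HilbCoeff
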