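import Mathlib
import Groth.Prelude
import Groth.Agent.Lib.Helper7.IntNumPos
import Groth.Agent.Lib.Helper3.ModBasis
import Groth.Agent.Lib.Helper3.IdealMod
import Groth.Agent.Lib.Helper17.EffCartMod
import Groth.Agent.Lib.Helper23.EffCartDeg
import Groth.Agent.Lib.Helper13.ProjFormulaLF

/-!
# Helper library (helper7): symmetry of `FGA.intNum`, the `Fin.snoc` recursion, and intersecting
with an effective Cartier divisor avoiding the associated points.
-/

set_option autoImplicit false
set_option linter.unusedSectionVars false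
set_option linter.style.haveILetI false
universe u
open CategoryTheory CategoryTheory.Limits AlgebraicGeometry Opposite
open Scheme.Modules

namespace Groth.Agent.Lib.Helper7.IntNumDiv

open Groth.Agent.Lib.Helper3 Groth.Agent.Lib.Helper3.InvMonoidal Groth.Agent.Lib.Helper3.InvTensor
open Groth.Agent.Lib.Helper3.InvGen Groth.Agent.Lib.Helper3.QCSec
open Groth.Agent.Lib.Helper23 Groth.Agent.Lib.Helper23.Snap Groth.Agent.Lib.Helper23.HilbP
open Groth.Agent.Lib.Helper7.SnapAlt Groth.Agent.Lib.Helper7.SnapFGA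
open Groth.Agent.Lib.Helper7.IntNumPos

section Obj

variable {X : Scheme.{u}}

theorem nonempty_tensorList_perm {l₁ l₂ : List X.Modules} (h : l₁.Perm l₂) :
    Nonempty (FGA.tensorList l₁ ≅ FGA.tensorList l₂) := by
  induction h with
  | nil => exact ⟨Iso.refl _⟩
  | cons a _ ih =>
    obtain ⟨e⟩ := ih
    exact ⟨tensorMapIso (Iso.refl a) e⟩
  | swap a b l =>
    exact ⟨(assoc b a _).symm ≪≫ tensorMapIso (braid b a) (Iso.refl _) ≪≫ assoc a b _⟩
  | trans _ _ ih1 ih2 =>
    obtain ⟨e1⟩ := ih1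
    obtain ⟨e2⟩ := ih2
    exact ⟨e1 ≪≫ e2⟩

lemma tensorBi_obj_map (M : X.Modules) {N N' : X.Modules} (b : N ⟶ N') :
    (DCoh.tensorBi.obj M).map b = tensorMap (𝟙 M) b := by
  show aMap _ = aMap _
  congr 1

/-- `F ⊗ I_D ⟶ F ⊗ O` is a monomorphism when `D` is an effective Cartier divisor containing no
associated point of `F`. -/
theorem mono_tensor_idealModι [IsLocallyNoetherian X] (F : X.Modules) [F.IsQuasicoherent]
    (D : X.IdealSheafData) (hD : BlowUp.IsEffCartierIdeal D)
    (hass : ∀ x ∈ D.support, ¬ Curv2.IsAssPoint F x) :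
    Mono (tensorMap (𝟙 F) (ClSub.idealModι D)) := by
  apply ModBasis.mono_of_injective_on_basis
  intro W x hxW
  obtain ⟨U, hxU, f, hf, hI⟩ := hD x
  obtain ⟨e, he⟩ := Groth.Agent.Lib.Helper17.EffCartMod.exists_isGen_of_span D U f hf hI
  refine ⟨U.1 ⊓ W, ⟨hxU, hxW⟩, inf_le_right, ?_⟩
  intro ξ hξ
  have hVU : U.1 ⊓ W ≤ U.1 := inf_le_left
  obtain ⟨g, hgξ⟩ := tm_gen_surjective F _ he (U.1 ⊓ W) hVU ξ
  dsimp only at hgξ
  have h1 : tm F (Coh.structureModule X) (U.1 ⊓ W) g
      ((ClSub.idealModι D).app (U.1 ⊓ W) (res _ hVU e)) = 0 := by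
    have h2 := tensorMap_tm (𝟙 F) (ClSub.idealModι D) (U.1 ⊓ W) g (res _ hVU e)
    rw [hgξ, hξ] at h2
    exact h2.symm
  have hg0 : g = 0 := by
    by_contra hne
    obtain ⟨z, hzV, hzass, hz⟩ :=
      Groth.Agent.Lib.Helper7.RegSpanA.exists_assPoint_of_sec_ne_zero F (U.1 ⊓ W) g hne
    have hzD : z ∉ D.support := fun h => hass z h hzass
    let C : X.Opens := ⟨(D.support : Set X)ᶜ, D.support.isClosed.isOpen_compl⟩
    have hV'V : (U.1 ⊓ W) ⊓ C ≤ U.1 ⊓ W := inf_le_left
    apply hz ((U.1 ⊓ W) ⊓ C) hV'V ⟨hzV, hzD⟩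
    have hdisj : Disjoint (((U.1 ⊓ W) ⊓ C : X.Opens) : Set X) (D.support : Set X) := by
      rw [Set.disjoint_left]
      rintro y ⟨-, hy⟩ hyD
      exact hy hyD
    obtain ⟨s, hs⟩ := IdealMod.exists_val_eq_one D hdisj
    have hV'U : (U.1 ⊓ W) ⊓ C ≤ U.1 := hV'V.trans hVU
    obtain ⟨a, ha⟩ := (he _ hV'U).2 s
    dsimp only at ha
    -- restrict `h1`
    have h3 : tm F (Coh.structureModule X) ((U.1 ⊓ W) ⊓ C) (res F hV'V g)
        ((ClSub.idealModι D).app ((U.1 ⊓ W) ⊓ C) (res _ hV'U e)) = 0 := by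
      have h4 := congrArg (res (CohB1.tensorMod F (Coh.structureModule X)) hV'V) h1
      rw [tm_res, res_zero, ← QCExact.app_res', res_res] at h4
      exact h4
    have h5 : (ClSub.idealModι D).app ((U.1 ⊓ W) ⊓ C) s = ofFun _ 1 := by
      have : toFun _ ((ClSub.idealModι D).app ((U.1 ⊓ W) ⊓ C) s) = 1 := hs
      exact this
    have h6 : tm F (Coh.structureModule X) ((U.1 ⊓ W) ⊓ C) (res F hV'V g) (ofFun _ 1) = 0 := by
      rw [← h5, ← ha, Scheme.Modules.Hom.app_smul, tm_smul_right, h3, smul_zero]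
    have h7 := tm_gen_eq_zero F (Coh.structureModule X) (isGen_one (X := X) ((U.1 ⊓ W) ⊓ C))
      ((U.1 ⊓ W) ⊓ C) le_rfl (res F hV'V g) (by rw [res_self]; exact h6)
    exact h7
  rw [← hgξ, hg0, tm_zero_left]

/-- `0 → F ⊗ I_D → F ⊗ O → F ⊗ O_D → 0`. -/
theorem shortExact_tensor_ideal [IsLocallyNoetherian X] (F : X.Modules) [F.IsQuasicoherent]
    (D : X.IdealSheafData) (hD : BlowUp.IsEffCartierIdeal D)
    (hass : ∀ x ∈ D.support, ¬ Curv2.IsAssPoint F x) :
    ((ShortComplex.mk (ClSub.idealModι D) (ClSub.toSubscheme D)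
      (kernel.condition (ClSub.toSubscheme D))).map (DCoh.tensorBi.obj F)).ShortExact := by
  have hS := EffCart.shortExact_ideal D
  haveI := Groth.Agent.Lib.Helper13.ProjFormulaLF.pfc_TL F
  haveI := Groth.Agent.Lib.Helper13.ProjFormulaLF.additive_TL F
  haveI := hS.epi_g
  have hex := hS.exact.map_of_epi_of_preservesCokernel (DCoh.tensorBi.obj F) hS.epi_g inferInstance
  haveI : Mono ((ShortComplex.mk (ClSub.idealModι D) (ClSub.toSubscheme D)
      (kernel.condition (ClSub.toSubscheme D))).map (DCoh.tensorBi.obj F)).f := by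
    show Mono ((DCoh.tensorBi.obj F).map (ClSub.idealModι D))
    rw [tensorBi_obj_map]
    exact mono_tensor_idealModι F D hD hass
  haveI : Epi ((ShortComplex.mk (ClSub.idealModι D) (ClSub.toSubscheme D)
      (kernel.condition (ClSub.toSubscheme D))).map (DCoh.tensorBi.obj F)).g := by
    show Epi ((DCoh.tensorBi.obj F).map (ClSub.toSubscheme D))
    infer_instance
  exact ShortComplex.ShortExact.mk hex

end Obj

section Main

variable (k : Type u) [Field k] (X : Scheme.{u}) [X.Over (Spec (CommRingCat.of k))]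
  [IsProper (X ↘ Spec (CommRingCat.of k))]

/-- intersection numbers are symmetric. -/
theorem intNum_perm (d : ℕ) {r : ℕ} (M : Fin r → X.Modules) (σ : Equiv.Perm (Fin r))
    (F : X.Modules) : FGA.intNum k X d (M ∘ σ) F = FGA.intNum k X d M F := by
  unfold FGA.intNum
  refine Fintype.sum_equiv (Equiv.finsetCongr σ) _ _ (fun I => ?_)
  have hcard : (Equiv.finsetCongr σ I).card = I.card := by
    simp [Equiv.finsetCongr]
  have hperm : ((I.sort (· ≤ ·)).map (M ∘ σ)).Perm
      (((Equiv.finsetCongr σ I).sort (· ≤ ·)).map M) := by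
    rw [← List.map_map]
    apply List.Perm.map
    rw [← Multiset.coe_eq_coe, ← Multiset.map_coe, Finset.sort_eq, Finset.sort_eq]
    simp [Equiv.finsetCongr]
  obtain ⟨e⟩ := nonempty_tensorList_perm hperm
  rw [hcard, eulerLE_iso k X (tensorMapIso e (Iso.refl F)) d]

/-- the recursion for intersection numbers, last variable. -/
theorem intNum_snoc (d : ℕ) (A : X.Modules) {r : ℕ} (M : Fin r → X.Modules) (F : X.Modules) :
    FGA.intNum k X d (Fin.snoc M A : Fin (r + 1) → X.Modules) F =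
      FGA.intNum k X d M F - FGA.intNum k X d M (CohB1.tensorMod A F) := by
  rw [Fin.snoc_eq_cons_rotate]
  exact (intNum_perm k X d (Fin.cons A M) (finRotate _) F).trans (intNum_cons k X d A M F)

/-- intersecting with an effective Cartier divisor avoiding the associated points (S14522). -/
theorem intNum_snoc_ideal (d : ℕ) (hd : topologicalKrullDim X ≤ d) {r : ℕ}
    (M : Fin r → X.Modules) (hM : ∀ i, PicF.IsInvertible (M i)) (F : X.Modules)
    (hF : Coh.IsCoh F) (D : X.IdealSheafData) (hD : BlowUp.IsEffCartierIdeal D)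
    (hass : ∀ x ∈ D.support, ¬ Curv2.IsAssPoint F x) :
    FGA.intNum k X d (Fin.snoc M (ClSub.idealMod D)) F =
      FGA.intNum k X d M (CohB1.tensorMod F (ClSub.quotMod D)) := by
  haveI : IsNoetherian X := isNoetherian_of_isProper k X
  haveI := hF.1
  have hI : PicF.IsInvertible (ClSub.idealMod D) :=
    (Groth.Agent.Lib.Helper17.EffCartMod.isInvertible_idealMod_iff D).mpr hD
  have hS := shortExact_tensor_ideal F D hD hass
  have hO := T2.isCoh_structureModule X
  have hOD : Coh.IsCoh (ClSub.quotMod D) := EffCart.isCoh_quotMod D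
  have h1 : Coh.IsCoh (CohB1.tensorMod F (ClSub.idealMod D)) := isCoh_tensor_inv X hI hF
  have h2 : Coh.IsCoh (CohB1.tensorMod F (Coh.structureModule X)) := EffCart.isCoh_tensor X hF hO
  have h3 : Coh.IsCoh (CohB1.tensorMod F (ClSub.quotMod D)) := EffCart.isCoh_tensor X hF hOD
  have hadd := intNum_additive k X d hd M hM _ hS h1 h2 h3
  change FGA.intNum k X d M (CohB1.tensorMod F (Coh.structureModule X)) =
    FGA.intNum k X d M (CohB1.tensorMod F (ClSub.idealMod D)) +
      FGA.intNum k X d M (CohB1.tensorMod F (ClSub.quotMod D)) at hadd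
  rw [intNum_snoc, intNum_iso_right k X d M (braid (ClSub.idealMod D) F),
    ← intNum_iso_right k X d M (SecTwist.unitorR F), hadd]
  ring

end Main

end Groth.Agent.Lib.Helper7.IntNumDiv
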