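import Mathlib
import Groth.Prelude
import Groth.Agent.Lib.Helper7.IntNumDiv
import Groth.Agent.Lib.Helper7.DivDim
import Groth.Agent.Lib.Helper7.RegSecAmple
import Groth.Agent.Lib.Helper7.TorsFree
import Groth.Agent.Lib.Helper7.HilbCoeff
import Groth.Agent.Lib.Helper17.DevTest
import Groth.Agent.Lib.Helper3.PbAmple
import Groth.Agent.Lib.Helper23.AmpleCurve5

/-!
# Helper library (helper7): the degree of an invertible module with a nonzero section with respect
to ample modules is positive unless the module is trivial.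
-/

set_option autoImplicit false
set_option linter.unusedSectionVars false
set_option linter.style.haveILetI false
universe u
open CategoryTheory CategoryTheory.Limits AlgebraicGeometry Opposite
open Scheme.Modules

namespace Groth.Agent.Lib.Helper7.SecDeg

open Groth.Agent.Lib.Helper3 Groth.Agent.Lib.Helper3.InvMonoidal Groth.Agent.Lib.Helper3.InvTensor
open Groth.Agent.Lib.Helper3.InvGen Groth.Agent.Lib.Helper3.QCSec Groth.Agent.Lib.Helper3.InvAmple
open Groth.Agent.Lib.Helper23 Groth.Agent.Lib.Helper23.Snap Groth.Agent.Lib.Helper23.HilbP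
open Groth.Agent.Lib.Helper7.SnapAlt Groth.Agent.Lib.Helper7.SnapFGA
open Groth.Agent.Lib.Helper7.IntNumPos Groth.Agent.Lib.Helper7.IntNumDiv
open Groth.Agent.Lib.Helper7.RegSec Groth.Agent.Lib.Helper17

section Reg

variable {X : Scheme.{u}}

/-- a nonzero section of an invertible module on an integral scheme is regular. -/
theorem isRegSec_of_ne_zero [IsIntegral X] {M : X.Modules} (hM : PicF.IsInvertible M)
    (s : Coh.structureModule X ⟶ M) (hs : s ≠ 0) : IsRegSec s := by
  haveI : Mono s := Groth.Agent.Lib.Helper7.TorsFree.mono_of_ne_zero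
    (Groth.Agent.Lib.Helper7.TorsFree.isFinLocFreeOfRank_one_of_isInvertible'
      (isInvertible_structureModule X))
    (Groth.Agent.Lib.Helper7.TorsFree.isFinLocFreeOfRank_one_of_isInvertible' hM) s hs
  intro x
  obtain ⟨U, ε, hU, hxU, hg⟩ := exists_affine_isGen hM x
  obtain ⟨c, hc⟩ := hg.self.exists_coord (sec s U)
  refine ⟨U, ε, c, hU, hxU, hg, ?_, hc.symm⟩
  haveI : Nonempty U := ⟨⟨x, hxU⟩⟩
  apply mem_nonZeroDivisors_of_ne_zero
  rintro rfl
  rw [zero_smul] at hc
  have h1 : s.app U (ofFun U 1) = s.app U 0 := by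
    rw [map_zero]
    exact hc.symm
  have h2 := QCExact.injective_sections s U h1
  exact one_ne_zero (α := Γ(X, U)) h2

/-- a nonzero global section gives a nonzero morphism. -/
theorem globalHom_ne_zero' (L : X.Modules) (m : Γ(L, ⊤)) (hm : m ≠ 0) : globalHom L m ≠ 0 := by
  intro h
  apply hm
  have h1 := sec_globalHom L m ⊤
  rw [res_self, h] at h1
  exact h1.symm

end Reg

section Main

variable (k : Type u) [Field k] (X : Scheme.{u}) [X.Over (Spec (CommRingCat.of k))]
  [IsProper (X ↘ Spec (CommRingCat.of k))]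

theorem intNum_cons_iso (d : ℕ) {A A' : X.Modules} (e : A ≅ A') {r : ℕ} (M : Fin r → X.Modules)
    (F : X.Modules) :
    FGA.intNum k X d (Fin.cons A M : Fin (r + 1) → X.Modules) F =
      FGA.intNum k X d (Fin.cons A' M : Fin (r + 1) → X.Modules) F := by
  rw [intNum_cons, intNum_cons, intNum_iso_right k X d M (tensorMapIso e (Iso.refl F))]

/-- intersecting the structure sheaf with an invertible ideal. -/
theorem intNum_cons_ideal (d : ℕ) (hd : topologicalKrullDim X ≤ d) {r : ℕ} (M : Fin r → X.Modules)
    (hM : ∀ i, PicF.IsInvertible (M i)) (D : X.IdealSheafData)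
    (hI : PicF.IsInvertible (ClSub.idealMod D)) :
    FGA.intNum k X d (Fin.cons (ClSub.idealMod D) M : Fin (r + 1) → X.Modules)
        (Coh.structureModule X) =
      FGA.intNum k X d M (ClSub.quotMod D) := by
  haveI : IsNoetherian X := isNoetherian_of_isProper k X
  have hS := EffCart.shortExact_ideal D
  have hO := T2.isCoh_structureModule X
  have hOD : Coh.IsCoh (ClSub.quotMod D) := EffCart.isCoh_quotMod D
  have hID : Coh.IsCoh (ClSub.idealMod D) :=
    ⟨InvCoh.isQuasicoherent_of_isInvertible hI, InvCoh.isFiniteType_of_isInvertible hI⟩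
  have hadd := intNum_additive k X d hd M hM _ hS hID hO hOD
  change FGA.intNum k X d M (Coh.structureModule X) =
    FGA.intNum k X d M (ClSub.idealMod D) + FGA.intNum k X d M (ClSub.quotMod D) at hadd
  rw [intNum_cons, intNum_iso_right k X d M (SecTwist.unitorR (ClSub.idealMod D)), hadd]
  ring

/-- **the degree of a module with a nonzero section**: either the module is trivial, or its
intersection number with ample modules is positive. -/
theorem pos_or_iso [IsIntegral X] (e : ℕ)
    (hX : topologicalKrullDim X = ((e + 1 : ℕ) : WithBot ℕ∞))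
    (L L' : X.Modules) (hL : PicF.IsInvertible L)
    (ι : CohB1.tensorMod L' L ≅ Coh.structureModule X)
    (s : Coh.structureModule X ⟶ L) (hs : s ≠ 0)
    (A Ai : Fin e → X.Modules) (hA : ∀ i, CohB1.IsAmple (A i))
    (hAi : ∀ i, Nonempty (CohB1.tensorMod (A i) (Ai i) ≅ Coh.structureModule X)) :
    Nonempty (L ≅ Coh.structureModule X) ∨
      0 < FGA.intNum k X (e + 1) (Fin.cons L' Ai : Fin (e + 1) → X.Modules)
        (Coh.structureModule X) := by
  haveI : IsNoetherian X := isNoetherian_of_isProper k X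
  have hd : topologicalKrullDim X ≤ ((e + 1 : ℕ) : WithBot ℕ∞) := hX.le
  have hL' : PicF.IsInvertible L' := isInvertible_of_inverse hL ⟨braid L L' ≪≫ ι⟩
  haveI : L'.IsQuasicoherent := InvCoh.isQuasicoherent_of_isInvertible hL'
  have hreg := isRegSec_of_ne_zero hL s hs
  have hD := isEffCartierIdeal_zeroDiv ι hreg
  obtain ⟨eI⟩ := idealMod_zeroDiv_iso ι hreg
  have hI : PicF.IsInvertible (ClSub.idealMod (zeroDiv ι s)) :=
    (EffCartMod.isInvertible_idealMod_iff _).mpr hD
  have hAinv : ∀ i, PicF.IsInvertible (Ai i) := fun i =>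
    isInvertible_of_inverse (hA i).1 (hAi i)
  by_cases hne : ((zeroDiv ι s).support : Set X).Nonempty
  · right
    rw [intNum_cons_iso k X (e + 1) eI Ai _, intNum_cons_ideal k X (e + 1) hd Ai hAinv _ hI]
    apply intNum_pos k X (e + 1) hd e A Ai hA hAi _ (EffCart.isCoh_quotMod _)
    rw [DevTest.support_A]
    exact Groth.Agent.Lib.Helper7.DivDim.dim_support_eq k X e hX _ hD hne
  · left
    have hemp : CohB1.support (ClSub.quotMod (zeroDiv ι s)) = ∅ := by
      rw [DevTest.support_A]
      exact Set.not_nonempty_iff_eq_empty.mp hne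
    have hz : IsZero (ClSub.quotMod (zeroDiv ι s)) := DevBasic.isZero_of_support_eq_empty hemp
    have hS := EffCart.shortExact_ideal (zeroDiv ι s)
    haveI : IsIso (ClSub.idealModι (zeroDiv ι s)) := hS.isIso_f_iff.mpr hz
    let eO : L' ≅ Coh.structureModule X := eI ≪≫ asIso (ClSub.idealModι (zeroDiv ι s))
    exact ⟨(SecTwist.unitorR L).symm ≪≫ tensorMapIso (Iso.refl L) eO.symm ≪≫ braid L L' ≪≫ ι⟩

/-- the intersection number with a trivial module vanishes. -/
theorem intNum_cons_trivial (d : ℕ) {A : X.Modules} (e : A ≅ Coh.structureModule X) {r : ℕ}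
    (M : Fin r → X.Modules) (F : X.Modules) :
    FGA.intNum k X d (Fin.cons A M : Fin (r + 1) → X.Modules) F = 0 := by
  rw [intNum_cons, intNum_iso_right k X d M (tensorMapIso e (Iso.refl F) ≪≫ unitorL F), sub_self]

/-- a nonzero global section from nontrivial `H⁰`. -/
theorem exists_section_ne_zero (L : X.Modules) (h : Nontrivial (Coh.HH X L 0)) :
    ∃ s : Coh.structureModule X ⟶ L, s ≠ 0 := by
  obtain ⟨a, ha⟩ := exists_ne (0 : Coh.HH X L 0)
  have hm : T2.H0equiv L a ≠ 0 := (map_ne_zero_iff _ (T2.H0equiv L).injective).mpr ha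
  exact ⟨globalHom L (T2.H0equiv L a), globalHom_ne_zero' L _ hm⟩

end Main

end Groth.Agent.Lib.Helper7.SecDeg
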