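import Mathlib
import Groth.Prelude
import Groth.Agent.Lib.Helper7.SecDeg

/-!
# Helper library (helper7): surfaces, sections of powers and positivity against ample modules
-/

set_option autoImplicit false
set_option linter.unusedSectionVars false
set_option linter.style.haveILetI false
universe u
open CategoryTheory CategoryTheory.Limits AlgebraicGeometry Opposite
open Scheme.Modules

namespace Groth.Agent.Lib.Helper7.SecDegB

open Groth.Agent.Lib.Helper3 Groth.Agent.Lib.Helper3.InvMonoidal Groth.Agent.Lib.Helper3.InvTensor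
open Groth.Agent.Lib.Helper3.InvGen Groth.Agent.Lib.Helper3.QCSec Groth.Agent.Lib.Helper3.InvAmple
open Groth.Agent.Lib.Helper23 Groth.Agent.Lib.Helper23.Snap Groth.Agent.Lib.Helper23.HilbP
open Groth.Agent.Lib.Helper7.SnapAlt Groth.Agent.Lib.Helper7.SnapFGA
open Groth.Agent.Lib.Helper7.IntNumPos Groth.Agent.Lib.Helper7.IntNumDiv
open Groth.Agent.Lib.Helper7.SecDeg Groth.Agent.Lib.Helper7.HilbCoeff

variable (k : Type u) [Field k] (X : Scheme.{u}) [X.Over (Spec (CommRingCat.of k))]
  [IsProper (X ↘ Spec (CommRingCat.of k))]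

theorem vec2_eq (A B : X.Modules) :
    (![A, B] : Fin 2 → X.Modules) = Fin.cons A (fun _ : Fin 1 => B) := by
  funext j
  fin_cases j <;> rfl

/-- (S11752). -/
theorem main11752 [IsIntegral X] (hdim : topologicalKrullDim X = 2)
    (N N' : X.Modules) (hN : PicF.IsInvertible N)
    (hNN' : Nonempty (CohB1.tensorMod N N' ≅ Coh.structureModule X))
    (hpos : 0 < FGA.intNum k X 2 ![N', N'] (Coh.structureModule X))
    (hsec : ∃ n : ℕ, 0 < n ∧ Nontrivial (Coh.HH X (CohB1.tensorPow N n) 0))
    (H H' : X.Modules) (hH : CohB1.IsAmple H)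
    (hHH' : Nonempty (CohB1.tensorMod H H' ≅ Coh.structureModule X)) :
    0 < FGA.intNum k X 2 ![N', H'] (Coh.structureModule X) := by
  obtain ⟨n, hn, hsecn⟩ := hsec
  have hN' : PicF.IsInvertible N' := isInvertible_of_inverse hN hNN'
  obtain ⟨eNN'⟩ := hNN'
  have hH' : PicF.IsInvertible H' := isInvertible_of_inverse hH.1 hHH'
  have hX : topologicalKrullDim X = ((1 + 1 : ℕ) : WithBot ℕ∞) := by
    rw [hdim]
    norm_cast
  have hd : topologicalKrullDim X ≤ ((2 : ℕ) : WithBot ℕ∞) := hX.le
  have hL : PicF.IsInvertible (CohB1.tensorPow N n) := isInvertible_tensorPow hN n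
  have ι : CohB1.tensorMod (CohB1.tensorPow N' n) (CohB1.tensorPow N n) ≅
      Coh.structureModule X :=
    (powTensor N' N n).symm ≪≫ tensorPowIso (braid N' N ≪≫ eNN') n ≪≫ powUnit X n
  obtain ⟨σ, hσ⟩ := exists_section_ne_zero X (CohB1.tensorPow N n) hsecn
  have hO := T2.isCoh_structureModule X
  have hdimO : topologicalKrullDim (CohB1.support (Coh.structureModule X)) ≤
      ((1 + 1 : ℕ) : WithBot ℕ∞) := dim_support_le X 2 hd _
  have hn' : (0 : ℤ) < (n : ℤ) := by exact_mod_cast hn
  rw [vec2_eq] at hpos ⊢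
  have hmulH := intNum_cons_pow k X 2 hd (fun _ : Fin 1 => H') (fun _ => hH') N' hN'
    (Coh.structureModule X) hO hdimO n
  have hmulN := intNum_cons_pow k X 2 hd (fun _ : Fin 1 => N') (fun _ => hN') N' hN'
    (Coh.structureModule X) hO hdimO n
  rcases pos_or_iso k X 1 hX (CohB1.tensorPow N n) (CohB1.tensorPow N' n) hL ι σ hσ
    (fun _ => H) (fun _ => H') (fun _ => hH) (fun _ => hHH') with h | h
  · exfalso
    obtain ⟨eL⟩ := h
    have eL' : CohB1.tensorPow N' n ≅ Coh.structureModule X :=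
      (SecTwist.unitorR _).symm ≪≫ tensorMapIso (Iso.refl _) eL.symm ≪≫ ι
    have h0 := intNum_cons_trivial k X 2 eL' (fun _ : Fin 1 => N') (Coh.structureModule X)
    rw [h0] at hmulN
    have := mul_pos hn' hpos
    omega
  · rw [hmulH] at h
    exact (mul_pos_iff_of_pos_left hn').mp h

end Groth.Agent.Lib.Helper7.SecDegB
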