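import Mathlib
import Groth.Prelude
import Groth.Agent.Lib.Helper7.SecDegB
import Groth.Agent.Lib.Helper23.Inverse
import Groth.Agent.Lib.Helper23.GeomH0

/-!
# Helper library (helper7): sign rules for `FGA.intNum` and sections on a projective surface
-/

set_option autoImplicit false
set_option linter.unusedSectionVars false
set_option linter.style.haveILetI false
universe u
open CategoryTheory CategoryTheory.Limits AlgebraicGeometry Opposite
open Scheme.Modules

namespace Groth.Agent.Lib.Helper7.SecDegC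

open Groth.Agent.Lib.Helper3 Groth.Agent.Lib.Helper3.InvMonoidal Groth.Agent.Lib.Helper3.InvTensor
open Groth.Agent.Lib.Helper3.InvGen Groth.Agent.Lib.Helper3.QCSec Groth.Agent.Lib.Helper3.InvAmple
open Groth.Agent.Lib.Helper23 Groth.Agent.Lib.Helper23.Snap Groth.Agent.Lib.Helper23.HilbP
open Groth.Agent.Lib.Helper7.SnapAlt Groth.Agent.Lib.Helper7.SnapFGA
open Groth.Agent.Lib.Helper7.IntNumPos Groth.Agent.Lib.Helper7.IntNumDiv
open Groth.Agent.Lib.Helper7.SecDeg Groth.Agent.Lib.Helper7.HilbCoeff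
open Groth.Agent.Lib.Helper7.SecDegB

variable (k : Type u) [Field k] (X : Scheme.{u}) [X.Over (Spec (CommRingCat.of k))]
  [IsProper (X ↘ Spec (CommRingCat.of k))]

/-- symmetry of the two-fold intersection number. -/
theorem intNum_swap2 (d : ℕ) (A B F : X.Modules) :
    FGA.intNum k X d (Fin.cons A (fun _ : Fin 1 => B) : Fin 2 → X.Modules) F =
      FGA.intNum k X d (Fin.cons B (fun _ : Fin 1 => A) : Fin 2 → X.Modules) F := by
  have h := intNum_perm k X d (Fin.cons A (fun _ : Fin 1 => B) : Fin 2 → X.Modules)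
    (Equiv.swap 0 1) F
  rw [← h]
  congr 1
  funext j
  fin_cases j
  · simp [Function.comp]
  · simp [Function.comp]

/-- replacing a module by its inverse changes the sign. -/
theorem intNum_cons_neg (d : ℕ) (hd : topologicalKrullDim X ≤ d) {r : ℕ} (M : Fin r → X.Modules)
    (hM : ∀ i, PicF.IsInvertible (M i)) (A A' : X.Modules) (hA : PicF.IsInvertible A)
    (hA' : PicF.IsInvertible A') (e : CohB1.tensorMod A A' ≅ Coh.structureModule X)
    (F : X.Modules) (hF : Coh.IsCoh F)
    (hr : topologicalKrullDim (CohB1.support F) ≤ ((r + 1 : ℕ) : WithBot ℕ∞)) :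
    FGA.intNum k X d (Fin.cons A M : Fin (r + 1) → X.Modules) F =
      - FGA.intNum k X d (Fin.cons A' M : Fin (r + 1) → X.Modules) F := by
  have h1 := intNum_add k X d hd M hM A A' hA hA' F hF hr
  rw [intNum_cons_trivial k X d e M F] at h1
  linarith

/-- (S19352). -/
theorem main19352 [IsAlgClosed k] [IsIntegral X] (hdim : topologicalKrullDim X = 2) {n : ℕ}
    (ι : X ⟶ CohB1.ProjSpace n k) [IsClosedImmersion ι] (L : X.Modules)
    (hL : PicF.IsInvertible L) (hsec : 1 < Module.finrank k (Coh.HH X L 0)) :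
    0 < FGA.intNum k X 2 ![L, HX k ι] (Coh.structureModule X) := by
  haveI : CompactSpace X := T2.compactSpace_of_isProper k X
  obtain ⟨eLL'⟩ := Groth.Agent.Lib.Helper23.Inverse.tensor_dual_iso hL
  set L' := Groth.Agent.Lib.Helper23.Inverse.dual L with hL'def
  have hL' : PicF.IsInvertible L' := isInvertible_of_inverse hL ⟨eLL'⟩
  have hHi := isInvertible_HX k ι
  have hHi' := isInvertible_HX' k ι
  obtain ⟨eHH'⟩ := nonempty_HX_inv k ι
  have hA : CohB1.IsAmple (HX k ι) :=
    Groth.Agent.Lib.Helper3.PbAmple.isAmple_pullback_of_isEmbedding ι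
      ι.isClosedEmbedding.isEmbedding
      (Groth.Agent.Lib.Helper23.AmpleCurve.isAmple_twistProjSpace n k)
  have hX : topologicalKrullDim X = ((1 + 1 : ℕ) : WithBot ℕ∞) := by
    rw [hdim]
    norm_cast
  have hd : topologicalKrullDim X ≤ ((2 : ℕ) : WithBot ℕ∞) := hX.le
  have hO := T2.isCoh_structureModule X
  have hdimO : topologicalKrullDim (CohB1.support (Coh.structureModule X)) ≤
      ((1 + 1 : ℕ) : WithBot ℕ∞) := dim_support_le X 2 hd _
  haveI : Nontrivial (Coh.HH X L 0) := Module.nontrivial_of_finrank_pos (R := k) (by omega)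
  obtain ⟨σ, hσ⟩ := exists_section_ne_zero X L inferInstance
  rw [vec2_eq]
  -- signs
  have s1 := intNum_cons_neg k X 2 hd (fun _ : Fin 1 => HX k ι) (fun _ => hHi) L L' hL hL' eLL'
    (Coh.structureModule X) hO hdimO
  have s2 := intNum_swap2 k X 2 L' (HX k ι) (Coh.structureModule X)
  have s3 := intNum_cons_neg k X 2 hd (fun _ : Fin 1 => L') (fun _ => hL') (HX k ι) (HX' k ι)
    hHi hHi' eHH' (Coh.structureModule X) hO hdimO
  have s4 := intNum_swap2 k X 2 (HX' k ι) L' (Coh.structureModule X)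
  rcases pos_or_iso k X 1 hX L L' hL (braid L' L ≪≫ eLL') σ hσ
    (fun _ => HX k ι) (fun _ => HX' k ι) (fun _ => hA) (fun _ => ⟨eHH'⟩) with h | h
  · exfalso
    obtain ⟨eL⟩ := h
    have h1 := (FBC.HmapEquivK k eL 0).finrank_eq
    rw [Groth.Agent.Lib.Helper23.GeomH0.finrank_H0_eq_one_of_isAlgClosed k X] at h1
    omega
  · linarith

end Groth.Agent.Lib.Helper7.SecDegC
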