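import Mathlib
import Groth.Prelude
import Groth.Agent.Lib.Helper7.SecDegC
import Groth.Agent.Lib.Helper7.GVSupp
import Groth.Agent.Lib.Helper17.SuppTensor

/-!
# Helper library (helper7): bounding `H²` of a twist by a module with a section (surfaces)
-/

set_option autoImplicit false
set_option linter.unusedSectionVars false
set_option linter.style.haveILetI false
universe u
open CategoryTheory CategoryTheory.Limits AlgebraicGeometry Opposite
open Scheme.Modules

namespace Groth.Agent.Lib.Helper7.SurfSecA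

open Groth.Agent.Lib.Helper3 Groth.Agent.Lib.Helper3.InvMonoidal Groth.Agent.Lib.Helper3.InvTensor
open Groth.Agent.Lib.Helper3.InvGen Groth.Agent.Lib.Helper3.QCSec Groth.Agent.Lib.Helper3.InvAmple
open Groth.Agent.Lib.Helper23 Groth.Agent.Lib.Helper23.Snap Groth.Agent.Lib.Helper23.HilbP
open Groth.Agent.Lib.Helper7.SnapAlt Groth.Agent.Lib.Helper7.SnapFGA
open Groth.Agent.Lib.Helper7.IntNumPos Groth.Agent.Lib.Helper7.IntNumDiv
open Groth.Agent.Lib.Helper7.SecDeg Groth.Agent.Lib.Helper7.HilbCoeff
open Groth.Agent.Lib.Helper7.SecDegC Groth.Agent.Lib.Helper7.RegSec Groth.Agent.Lib.Helper17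
open Groth.Agent.Lib.Helper7.TwFun

variable (k : Type u) [Field k] (X : Scheme.{u}) [X.Over (Spec (CommRingCat.of k))]
  [IsProper (X ↘ Spec (CommRingCat.of k))]

/-- in a short exact sequence with `H²` of the quotient vanishing, `h²` of the middle is bounded
by `h²` of the sub. -/
theorem finrank_le_of_shortExact (S : ShortComplex X.Modules) (hS : S.ShortExact)
    (h1 : Coh.IsCoh S.X₁) (p : ℕ) (hv : Subsingleton (Coh.HH X S.X₃ p)) :
    Module.finrank k (Coh.HH X S.X₂ p) ≤ Module.finrank k (Coh.HH X S.X₁ p) := by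
  have hex := T2.exact_f_g k S hS p
  have hsurj : Function.Surjective (T2.HmapA k S.f p) := by
    intro y
    have hy : T2.HmapA k S.g p y = 0 := Subsingleton.elim _ _
    exact (hex y).mp hy
  haveI := T2.finite_HH k _ h1 p
  exact LinearMap.finrank_le_finrank_of_surjective hsurj

/-- if `G` has a nonzero section, then `h²(G ⊗ T) ≤ h²(T)` on an integral surface. -/
theorem finrank_H2_le [IsIntegral X]
    (hX : topologicalKrullDim X = ((1 + 1 : ℕ) : WithBot ℕ∞))
    (G G' : X.Modules) (hG : PicF.IsInvertible G)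
    (ι : CohB1.tensorMod G' G ≅ Coh.structureModule X)
    (s : Coh.structureModule X ⟶ G) (hs : s ≠ 0) (T : X.Modules) (hT : PicF.IsInvertible T) :
    Module.finrank k (Coh.HH X (CohB1.tensorMod G T) 2) ≤ Module.finrank k (Coh.HH X T 2) := by
  haveI : IsNoetherian X := isNoetherian_of_isProper k X
  have hG' : PicF.IsInvertible G' := isInvertible_of_inverse hG ⟨braid G G' ≪≫ ι⟩
  haveI : G'.IsQuasicoherent := InvCoh.isQuasicoherent_of_isInvertible hG'
  have hreg := isRegSec_of_ne_zero hG s hs
  have hD := isEffCartierIdeal_zeroDiv ι hreg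
  obtain ⟨eI⟩ := idealMod_zeroDiv_iso ι hreg
  set D := zeroDiv ι s with hDdef
  have hI : PicF.IsInvertible (ClSub.idealMod D) :=
    (EffCartMod.isInvertible_idealMod_iff _).mpr hD
  have hGT : PicF.IsInvertible (CohB1.tensorMod G T) := isInvertible_tensorMod hG hT
  obtain ⟨eGT⟩ := Groth.Agent.Lib.Helper23.Inverse.tensor_dual_iso hGT
  have hS₀ := EffCart.shortExact_ideal D
  have hS := shortExact_twR (CohB1.tensorMod G T) _ eGT _ hS₀
  have hO := T2.isCoh_structureModule X
  have hOD : Coh.IsCoh (ClSub.quotMod D) := EffCart.isCoh_quotMod D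
  have hID : Coh.IsCoh (ClSub.idealMod D) :=
    ⟨InvCoh.isQuasicoherent_of_isInvertible hI, InvCoh.isFiniteType_of_isInvertible hI⟩
  have hc1 : Coh.IsCoh (CohB1.tensorMod (ClSub.idealMod D) (CohB1.tensorMod G T)) :=
    isCoh_tensor_inv X hGT hID
  have hc2 : Coh.IsCoh (CohB1.tensorMod (Coh.structureModule X) (CohB1.tensorMod G T)) :=
    isCoh_tensor_inv X hGT hO
  have hc3 : Coh.IsCoh (CohB1.tensorMod (ClSub.quotMod D) (CohB1.tensorMod G T)) :=
    isCoh_tensor_inv X hGT hOD
  -- the support of the quotient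
  have hsupp : topologicalKrullDim
      (CohB1.support (CohB1.tensorMod (ClSub.quotMod D) (CohB1.tensorMod G T))) ≤
        ((1 : ℕ) : WithBot ℕ∞) := by
    have h1 : CohB1.support (CohB1.tensorMod (ClSub.quotMod D) (CohB1.tensorMod G T)) =
        (D.support : Set X) := by
      rw [DevBasic.support_eq_of_iso (braid (ClSub.quotMod D) (CohB1.tensorMod G T)),
        support_tensor_inv_left hGT hOD, DevTest.support_A]
    rw [h1]
    exact le_of_lt_succ_dim (dim_support_lt D hD 1 hX)
  haveI hvan : Subsingleton (Coh.HH X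
      (CohB1.tensorMod (ClSub.quotMod D) (CohB1.tensorMod G T)) 2) :=
    Groth.Agent.Lib.Helper7.GVSupp.subsingleton_HH_of_dim_support_lt k X _ hc3 1 hsupp 2
      (by norm_num)
  have hle := finrank_le_of_shortExact k X _ hS hc1 2 hvan
  change Module.finrank k (Coh.HH X
      (CohB1.tensorMod (Coh.structureModule X) (CohB1.tensorMod G T)) 2) ≤
    Module.finrank k (Coh.HH X
      (CohB1.tensorMod (ClSub.idealMod D) (CohB1.tensorMod G T)) 2) at hle
  -- identify the terms
  let e1 : CohB1.tensorMod (ClSub.idealMod D) (CohB1.tensorMod G T) ≅ T :=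
    tensorMapIso eI.symm (Iso.refl _) ≪≫ (assoc G' G T).symm ≪≫
      tensorMapIso ι (Iso.refl T) ≪≫ unitorL T
  let e2 : CohB1.tensorMod (Coh.structureModule X) (CohB1.tensorMod G T) ≅ CohB1.tensorMod G T :=
    unitorL _
  rw [← (FBC.HmapEquivK k e1 2).finrank_eq, ← (FBC.HmapEquivK k e2 2).finrank_eq]
  exact hle

end Groth.Agent.Lib.Helper7.SurfSecA
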