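import Mathlib
import Groth.Prelude
import Groth.Agent.Lib.Helper7.SurfSecA
import Groth.Agent.Lib.Helper7.RegSecAmple
import Groth.Agent.Lib.Helper3.SubIdeal

/-!
# Helper library (helper7): on an integral proper surface, an invertible module with positive
self-intersection and positive degree against an ample module has sections in all high powers.
-/

set_option autoImplicit false
set_option linter.unusedSectionVars false
set_option linter.style.haveILetI false
universe u
open CategoryTheory CategoryTheory.Limits AlgebraicGeometry Opposite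
open Scheme.Modules

namespace Groth.Agent.Lib.Helper7.SurfSecB

open Groth.Agent.Lib.Helper3 Groth.Agent.Lib.Helper3.InvMonoidal Groth.Agent.Lib.Helper3.InvTensor
open Groth.Agent.Lib.Helper3.InvGen Groth.Agent.Lib.Helper3.QCSec Groth.Agent.Lib.Helper3.InvAmple
open Groth.Agent.Lib.Helper23 Groth.Agent.Lib.Helper23.Snap Groth.Agent.Lib.Helper23.HilbP
open Groth.Agent.Lib.Helper7.SnapAlt Groth.Agent.Lib.Helper7.SnapFGA
open Groth.Agent.Lib.Helper7.IntNumPos Groth.Agent.Lib.Helper7.IntNumDiv
open Groth.Agent.Lib.Helper7.SecDeg Groth.Agent.Lib.Helper7.HilbCoeff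
open Groth.Agent.Lib.Helper7.SecDegB
open Groth.Agent.Lib.Helper7.SecDegC Groth.Agent.Lib.Helper7.RegSec Groth.Agent.Lib.Helper17
open Groth.Agent.Lib.Helper7.TwFun Groth.Agent.Lib.Helper7.SurfSecA

section Obj

variable {X : Scheme.{u}}

/-- a regular section on a nonempty scheme is nonzero. -/
theorem ne_zero_of_isRegSec [Nonempty X] {M : X.Modules} {s : Coh.structureModule X ⟶ M}
    (hreg : IsRegSec s) : s ≠ 0 := by
  rintro rfl
  obtain ⟨x⟩ := (inferInstance : Nonempty X)
  obtain ⟨U, ε, c, hU, hxU, hg, hc, hsec⟩ := hreg x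
  haveI : Nonempty U := ⟨⟨x, hxU⟩⟩
  have h0 : sec (0 : Coh.structureModule X ⟶ M) U = 0 := rfl
  rw [h0] at hsec
  have hc0 : c = 0 := hg.self.eq_zero hsec.symm
  exact nonZeroDivisors.ne_zero hc hc0

/-- a nonzero section gives nontrivial `H⁰`. -/
theorem nontrivial_H0_of_section (L : X.Modules) (s : Coh.structureModule X ⟶ L) (hs : s ≠ 0) :
    Nontrivial (Coh.HH X L 0) := by
  have hm : sec s ⊤ ≠ 0 := by
    intro h
    apply hs
    apply SubIdeal.unit_hom_ext
    rw [h]
    rfl
  refine ⟨⟨(T2.H0equiv L).symm (sec s ⊤), 0, ?_⟩⟩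
  intro h
  apply hm
  have := congrArg (T2.H0equiv L) h
  rwa [LinearEquiv.apply_symm_apply, map_zero] at this

theorem two_mul_choose_two (j : ℕ) : 2 * (((j + 1).choose 2 : ℕ) : ℤ) = (j : ℤ) * (j + 1) := by
  induction j with
  | zero => simp
  | succ j ih =>
    rw [Nat.choose_succ_succ, Nat.choose_one_right]
    push_cast
    linarith

end Obj

section Main

variable (k : Type u) [Field k] (X : Scheme.{u}) [X.Over (Spec (CommRingCat.of k))]
  [IsProper (X ↘ Spec (CommRingCat.of k))]

/-- top intersection numbers do not see twists of the sheaf. -/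
theorem intNum_tensor_inv (d : ℕ) (hd : topologicalKrullDim X ≤ d) {r : ℕ} (M : Fin r → X.Modules)
    (hM : ∀ i, PicF.IsInvertible (M i)) (A : X.Modules) (hA : PicF.IsInvertible A)
    (F : X.Modules) (hF : Coh.IsCoh F)
    (hr : topologicalKrullDim (CohB1.support F) ≤ (r : WithBot ℕ∞)) :
    FGA.intNum k X d M (CohB1.tensorMod A F) = FGA.intNum k X d M F := by
  have hN : ∀ i, PicF.IsInvertible ((Fin.cons A M : Fin (r + 1) → X.Modules) i) := by
    intro i
    refine Fin.cases ?_ (fun i => ?_) i
    · rw [Fin.cons_zero]; exact hA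
    · rw [Fin.cons_succ]; exact hM i
  have hz := intNum_eq_zero k X d hd _ hN F hF (lt_succ_dim_of_le hr)
  rw [intNum_cons] at hz
  linarith

/-- the Euler characteristic of `N^n ⊗ H^j` on a surface. -/
theorem euler_pow_pow (hd : topologicalKrullDim X ≤ ((2 : ℕ) : WithBot ℕ∞))
    (N N' : X.Modules) (hN : PicF.IsInvertible N)
    (eNN' : CohB1.tensorMod N N' ≅ Coh.structureModule X)
    (H H' : X.Modules) (hH : PicF.IsInvertible H)
    (eHH' : CohB1.tensorMod H H' ≅ Coh.structureModule X) (n j : ℕ) :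
    FGA.eulerCharLE k X (CohB1.tensorMod (CohB1.tensorPow N n) (CohB1.tensorPow H j)) 2 =
      FGA.eulerCharLE k X (CohB1.tensorPow H j) 2 +
        (n : ℤ) * (FGA.intNum k X 2 (fun _ : Fin 1 => N') (Coh.structureModule X) +
          (j : ℤ) * FGA.intNum k X 2 ![N', H'] (Coh.structureModule X)) +
        (((n + 1).choose 2 : ℕ) : ℤ) * FGA.intNum k X 2 ![N', N'] (Coh.structureModule X) := by
  haveI : IsNoetherian X := isNoetherian_of_isProper k X
  have hN' : PicF.IsInvertible N' := isInvertible_of_inverse hN ⟨eNN'⟩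
  have hH' : PicF.IsInvertible H' := isInvertible_of_inverse hH ⟨eHH'⟩
  have hO := T2.isCoh_structureModule X
  have hHj : PicF.IsInvertible (CohB1.tensorPow H j) := isInvertible_tensorPow hH j
  have hcohHj : Coh.IsCoh (CohB1.tensorPow H j) :=
    ⟨InvCoh.isQuasicoherent_of_isInvertible hHj, InvCoh.isFiniteType_of_isInvertible hHj⟩
  have hdimHj : topologicalKrullDim (CohB1.support (CohB1.tensorPow H j)) ≤
      ((2 : ℕ) : WithBot ℕ∞) := dim_support_le X 2 hd _
  have hdimO : topologicalKrullDim (CohB1.support (Coh.structureModule X)) ≤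
      ((2 : ℕ) : WithBot ℕ∞) := dim_support_le X 2 hd _
  have hdimO' : topologicalKrullDim (CohB1.support (Coh.structureModule X)) ≤
      ((1 + 1 : ℕ) : WithBot ℕ∞) := hdimO
  have h := euler_pow k X 2 hd N N' hN ⟨eNN'⟩ 2 n (CohB1.tensorPow H j) hcohHj hdimHj
  rw [Finset.sum_range_succ, Finset.sum_range_succ, Finset.sum_range_one] at h
  -- the three terms
  have t0 : FGA.intNum k X 2 (fun _ : Fin 0 => N') (CohB1.tensorPow H j) =
      FGA.eulerCharLE k X (CohB1.tensorPow H j) 2 := by
    rw [intNum_zero, eulerLE_iso k X (unitorL _)]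
  have eHjO : CohB1.tensorMod (CohB1.tensorPow H j) (Coh.structureModule X) ≅
      CohB1.tensorPow H j := SecTwist.unitorR _
  have t2 : FGA.intNum k X 2 (fun _ : Fin 2 => N') (CohB1.tensorPow H j) =
      FGA.intNum k X 2 ![N', N'] (Coh.structureModule X) := by
    rw [← intNum_iso_right k X 2 _ eHjO,
      intNum_tensor_inv k X 2 hd (fun _ : Fin 2 => N') (fun _ => hN') _ hHj _ hO hdimO]
    congr 1
    funext i
    fin_cases i <;> rfl
  have hM1 : ∀ i : Fin 1, PicF.IsInvertible ((fun _ : Fin 1 => N') i) := fun _ => hN'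
  have t1 : FGA.intNum k X 2 (fun _ : Fin 1 => N') (CohB1.tensorPow H j) =
      FGA.intNum k X 2 (fun _ : Fin 1 => N') (Coh.structureModule X) +
        (j : ℤ) * FGA.intNum k X 2 ![N', H'] (Coh.structureModule X) := by
    have a := intNum_cons k X 2 (CohB1.tensorPow H j) (fun _ : Fin 1 => N')
      (Coh.structureModule X)
    have b := intNum_cons_pow k X 2 hd (fun _ : Fin 1 => N') hM1 H hH
      (Coh.structureModule X) hO hdimO' j
    have c := intNum_cons_neg k X 2 hd (fun _ : Fin 1 => N') hM1 H H' hH hH' eHH'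
      (Coh.structureModule X) hO hdimO'
    have d := intNum_swap2 k X 2 H' N' (Coh.structureModule X)
    rw [intNum_iso_right k X 2 _ eHjO] at a
    rw [c, d] at b
    rw [vec2_eq]
    linarith
  rw [t0, t1, t2] at h
  rw [h]
  have e1 : n + 1 - 1 = n := by omega
  have e2 : n + 2 - 1 = n + 1 := by omega
  rw [e1, e2]
  simp only [add_zero, Nat.choose_zero_right, Nat.cast_one, one_mul, Nat.choose_one_right]

end Main

end Groth.Agent.Lib.Helper7.SurfSecB
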