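import Mathlib
import Groth.Prelude
import Groth.Agent.Lib.Helper7.SurfSecB

/-!
# Helper library (helper7): `h⁰` does not decrease under twisting by an invertible module with a
nonzero section (integral proper schemes over a field); sections of powers.
-/

set_option autoImplicit false
set_option linter.unusedSectionVars false
set_option linter.style.haveILetI false
universe u
open CategoryTheory CategoryTheory.Limits AlgebraicGeometry Opposite
open Scheme.Modules

namespace Groth.Agent.Lib.Helper7.VolMono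

open Groth.Agent.Lib.Helper3 Groth.Agent.Lib.Helper3.InvMonoidal Groth.Agent.Lib.Helper3.InvTensor
open Groth.Agent.Lib.Helper3.InvGen Groth.Agent.Lib.Helper3.QCSec Groth.Agent.Lib.Helper3.InvAmple
open Groth.Agent.Lib.Helper23 Groth.Agent.Lib.Helper23.Snap Groth.Agent.Lib.Helper23.HilbP
open Groth.Agent.Lib.Helper7.SnapAlt Groth.Agent.Lib.Helper7.SnapFGA
open Groth.Agent.Lib.Helper7.IntNumPos Groth.Agent.Lib.Helper7.IntNumDiv
open Groth.Agent.Lib.Helper7.SecDeg Groth.Agent.Lib.Helper7.HilbCoeff
open Groth.Agent.Lib.Helper7.SecDegB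
open Groth.Agent.Lib.Helper7.SecDegC Groth.Agent.Lib.Helper7.RegSec Groth.Agent.Lib.Helper17
open Groth.Agent.Lib.Helper7.TwFun Groth.Agent.Lib.Helper7.SurfSecA Groth.Agent.Lib.Helper7.SurfSecB

variable (k : Type u) [Field k] (X : Scheme.{u}) [X.Over (Spec (CommRingCat.of k))]
  [IsProper (X ↘ Spec (CommRingCat.of k))]

/-- if `G` has a nonzero section, then `h⁰(T) ≤ h⁰(G ⊗ T)` on an integral proper scheme. -/
theorem finrank_H0_le [IsIntegral X]
    (G G' : X.Modules) (hG : PicF.IsInvertible G)
    (ι : CohB1.tensorMod G' G ≅ Coh.structureModule X)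
    (s : Coh.structureModule X ⟶ G) (hs : s ≠ 0) (T : X.Modules) (hT : PicF.IsInvertible T) :
    Module.finrank k (Coh.HH X T 0) ≤ Module.finrank k (Coh.HH X (CohB1.tensorMod G T) 0) := by
  haveI : IsNoetherian X := isNoetherian_of_isProper k X
  have hG' : PicF.IsInvertible G' := isInvertible_of_inverse hG ⟨braid G G' ≪≫ ι⟩
  haveI : G'.IsQuasicoherent := InvCoh.isQuasicoherent_of_isInvertible hG'
  have hreg := isRegSec_of_ne_zero hG s hs
  have hD := isEffCartierIdeal_zeroDiv ι hreg
  obtain ⟨eI⟩ := idealMod_zeroDiv_iso ι hreg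
  set D := zeroDiv ι s with hDdef
  have hGT : PicF.IsInvertible (CohB1.tensorMod G T) := isInvertible_tensorMod hG hT
  obtain ⟨eGT⟩ := Groth.Agent.Lib.Helper23.Inverse.tensor_dual_iso hGT
  have hS₀ := EffCart.shortExact_ideal D
  have hS := shortExact_twR (CohB1.tensorMod G T) _ eGT _ hS₀
  have hO := T2.isCoh_structureModule X
  have hc2 : Coh.IsCoh (CohB1.tensorMod (Coh.structureModule X) (CohB1.tensorMod G T)) :=
    isCoh_tensor_inv X hGT hO
  haveI := hS.mono_f
  have hinj : Function.Injective (T2.HmapA k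
      (((ShortComplex.mk (ClSub.idealModι D) (ClSub.toSubscheme D)
        (kernel.condition (ClSub.toSubscheme D))).map (twR (CohB1.tensorMod G T))).f) 0) :=
    T2.Hmap_injective_zero _
  haveI : Module.Finite k (Coh.HH X
      ((ShortComplex.mk (ClSub.idealModι D) (ClSub.toSubscheme D)
        (kernel.condition (ClSub.toSubscheme D))).map (twR (CohB1.tensorMod G T))).X₂ 0) :=
    T2.finite_HH k _ hc2 0
  have hle := LinearMap.finrank_le_finrank_of_injective hinj
  change Module.finrank k (Coh.HH X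
      (CohB1.tensorMod (ClSub.idealMod D) (CohB1.tensorMod G T)) 0) ≤
    Module.finrank k (Coh.HH X
      (CohB1.tensorMod (Coh.structureModule X) (CohB1.tensorMod G T)) 0) at hle
  let e1 : CohB1.tensorMod (ClSub.idealMod D) (CohB1.tensorMod G T) ≅ T :=
    tensorMapIso eI.symm (Iso.refl _) ≪≫ (assoc G' G T).symm ≪≫
      tensorMapIso ι (Iso.refl T) ≪≫ unitorL T
  let e2 : CohB1.tensorMod (Coh.structureModule X) (CohB1.tensorMod G T) ≅ CohB1.tensorMod G T :=
    unitorL _
  rw [← (FBC.HmapEquivK k e1 0).finrank_eq, ← (FBC.HmapEquivK k e2 0).finrank_eq]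
  exact hle

/-- `h⁰(E^m) > 0` for `E` invertible with a nonzero section. -/
theorem finrank_H0_pow_pos [IsIntegral X] (E : X.Modules) (hE : PicF.IsInvertible E)
    (s : Coh.structureModule X ⟶ E) (hs : s ≠ 0) (m : ℕ) :
    0 < Module.finrank k (Coh.HH X (CohB1.tensorPow E m) 0) := by
  haveI : IsNoetherian X := isNoetherian_of_isProper k X
  obtain ⟨eE⟩ := Groth.Agent.Lib.Helper23.Inverse.tensor_dual_iso hE
  induction m with
  | zero =>
    change 0 < Module.finrank k (Coh.HH X (Coh.structureModule X) 0)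
    haveI := T2.finite_HH k _ (T2.isCoh_structureModule X) 0
    have hid : 𝟙 (Coh.structureModule X) ≠ 0 := fun h =>
      hs (by rw [← Category.id_comp s, h, zero_comp])
    haveI : Nontrivial (Coh.HH X (Coh.structureModule X) 0) :=
      nontrivial_H0_of_section _ (𝟙 _) hid
    exact Module.finrank_pos
  | succ m ih =>
    have h1 := finrank_H0_le k X E _ hE (braid _ _ ≪≫ eE) s hs (CohB1.tensorPow E m)
      (isInvertible_tensorPow hE m)
    have h2 : Module.finrank k (Coh.HH X (CohB1.tensorMod E (CohB1.tensorPow E m)) 0) =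
        Module.finrank k (Coh.HH X (CohB1.tensorMod (CohB1.tensorPow E m) E) 0) :=
      (FBC.HmapEquivK k (braid _ _) 0).finrank_eq
    change 0 < Module.finrank k (Coh.HH X (CohB1.tensorMod (CohB1.tensorPow E m) E) 0)
    omega

/-- `h⁰(L^m) ≤ h⁰((L ⊗ E)^m)` for `E` invertible with a nonzero section. -/
theorem finrank_pow_le [IsIntegral X] (L E : X.Modules) (hL : PicF.IsInvertible L)
    (hE : PicF.IsInvertible E) (s : Coh.structureModule X ⟶ E) (hs : s ≠ 0) (m : ℕ) :
    Module.finrank k (Coh.HH X (CohB1.tensorPow L m) 0) ≤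
      Module.finrank k (Coh.HH X (CohB1.tensorPow (CohB1.tensorMod L E) m) 0) := by
  haveI : IsNoetherian X := isNoetherian_of_isProper k X
  have hEm : PicF.IsInvertible (CohB1.tensorPow E m) := isInvertible_tensorPow hE m
  have hpos := finrank_H0_pow_pos k X E hE s hs m
  have hcoh : Coh.IsCoh (CohB1.tensorPow E m) :=
    ⟨InvCoh.isQuasicoherent_of_isInvertible hEm, InvCoh.isFiniteType_of_isInvertible hEm⟩
  haveI := T2.finite_HH k _ hcoh 0
  have hnt : Nontrivial (Coh.HH X (CohB1.tensorPow E m) 0) :=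
    Module.nontrivial_of_finrank_pos hpos
  obtain ⟨sm, hsm⟩ := exists_section_ne_zero X _ hnt
  obtain ⟨eEm⟩ := Groth.Agent.Lib.Helper23.Inverse.tensor_dual_iso hEm
  have h1 := finrank_H0_le k X (CohB1.tensorPow E m) _ hEm (braid _ _ ≪≫ eEm) sm hsm
    (CohB1.tensorPow L m) (isInvertible_tensorPow hL m)
  rw [(FBC.HmapEquivK k (powTensor L E m ≪≫ braid _ _) 0).finrank_eq]
  exact h1

end Groth.Agent.Lib.Helper7.VolMono
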