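import Mathlib
import Groth.Prelude
import Groth.Agent.Lib.Helper7.VolMono
import Groth.Agent.Lib.Helper23.HilbPR
import Groth.Agent.Lib.Helper23.AsympB

/-!
# Helper library (helper7): polynomial growth of `h⁰(L^m)` on an integral projective scheme

On an integral scheme `Y`, proper over a field, with an ample module `H`, and for any invertible
module `L`, `h⁰(Y, L^m) ≤ C (m+1)^e` as soon as `dim Y ≤ e`.
-/

set_option autoImplicit false
set_option linter.unusedSectionVars false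
set_option linter.style.haveILetI false
universe u
open CategoryTheory CategoryTheory.Limits AlgebraicGeometry Opposite Polynomial
open Scheme.Modules

namespace Groth.Agent.Lib.Helper7.GrowthA

open Groth.Agent.Lib.Helper3 Groth.Agent.Lib.Helper3.InvMonoidal Groth.Agent.Lib.Helper3.InvTensor
open Groth.Agent.Lib.Helper3.InvGen
open Groth.Agent.Lib.Helper23 Groth.Agent.Lib.Helper23.HilbP
open Groth.Agent.Lib.Helper7.SnapFGA Groth.Agent.Lib.Helper7.SecDeg
open Groth.Agent.Lib.Helper7.VolMono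

section Numeric

theorem eval_le (Q : ℚ[X]) (e : ℕ) (hQ : Q.natDegree ≤ e) (x : ℕ) :
    Q.eval (x : ℚ) ≤ (∑ j ∈ Finset.range (e + 1), |Q.coeff j|) * ((x : ℚ) + 1) ^ e := by
  rw [Polynomial.eval_eq_sum_range' (Nat.lt_succ_of_le hQ), Finset.sum_mul]
  refine Finset.sum_le_sum fun j hj => ?_
  have hx : (0 : ℚ) ≤ x := Nat.cast_nonneg x
  have hj' : j ≤ e := Nat.lt_succ_iff.mp (Finset.mem_range.mp hj)
  calc Q.coeff j * (x : ℚ) ^ j ≤ |Q.coeff j| * (x : ℚ) ^ j :=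
        mul_le_mul_of_nonneg_right (le_abs_self _) (pow_nonneg hx j)
    _ ≤ |Q.coeff j| * ((x : ℚ) + 1) ^ e :=
        mul_le_mul_of_nonneg_left
          (le_trans (pow_le_pow_left₀ hx (by linarith) j) (pow_le_pow_right₀ (by linarith) hj'))
          (abs_nonneg _)

theorem exists_nat_bound (f : ℕ → ℕ) (Q : ℚ[X]) (e n N : ℕ) (hQ : Q.natDegree ≤ e)
    (hf : ∀ m, N ≤ m → (f m : ℚ) ≤ Q.eval ((n * m : ℕ) : ℚ)) :
    ∃ C : ℕ, ∀ m, f m ≤ C * (m + 1) ^ e := by
  set S := ∑ j ∈ Finset.range (e + 1), |Q.coeff j| with hS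
  have hS0 : 0 ≤ S := Finset.sum_nonneg fun _ _ => abs_nonneg _
  refine ⟨⌈S⌉₊ * (n + 1) ^ e + ∑ j ∈ Finset.range N, f j, fun m => ?_⟩
  by_cases hm : N ≤ m
  · have h1 := (hf m hm).trans (eval_le Q e hQ (n * m))
    have h2 : ((n * m : ℕ) : ℚ) + 1 ≤ ((n : ℚ) + 1) * ((m : ℚ) + 1) := by
      push_cast
      nlinarith [Nat.cast_nonneg (α := ℚ) n, Nat.cast_nonneg (α := ℚ) m]
    have h3 : (((n * m : ℕ) : ℚ) + 1) ^ e ≤ ((n : ℚ) + 1) ^ e * ((m : ℚ) + 1) ^ e := by
      rw [← mul_pow]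
      exact pow_le_pow_left₀ (by positivity) h2 e
    have h4 : (f m : ℚ) ≤ ((⌈S⌉₊ * ((n + 1) ^ e * (m + 1) ^ e) : ℕ) : ℚ) := by
      push_cast
      calc (f m : ℚ) ≤ S * (((n * m : ℕ) : ℚ) + 1) ^ e := h1
        _ ≤ (⌈S⌉₊ : ℚ) * (((n : ℚ) + 1) ^ e * ((m : ℚ) + 1) ^ e) :=
          mul_le_mul (Nat.le_ceil S) h3 (by positivity) (by positivity)
    have h5 : f m ≤ ⌈S⌉₊ * ((n + 1) ^ e * (m + 1) ^ e) := by exact_mod_cast h4
    calc f m ≤ ⌈S⌉₊ * ((n + 1) ^ e * (m + 1) ^ e) := h5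
      _ = ⌈S⌉₊ * (n + 1) ^ e * (m + 1) ^ e := by ring
      _ ≤ _ := Nat.mul_le_mul_right _ (Nat.le_add_right _ _)
  · have hmem : m ∈ Finset.range N := Finset.mem_range.mpr (not_le.mp hm)
    have h1 : f m ≤ ∑ j ∈ Finset.range N, f j :=
      Finset.single_le_sum (f := f) (fun _ _ => Nat.zero_le _) hmem
    calc f m ≤ ∑ j ∈ Finset.range N, f j := h1
      _ ≤ (∑ j ∈ Finset.range N, f j) * (m + 1) ^ e :=
          Nat.le_mul_of_pos_right _ (by positivity)
      _ ≤ _ := Nat.mul_le_mul_right _ (Nat.le_add_left _ _)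

end Numeric

variable (k : Type u) [Field k] (Y : Scheme.{u}) [Y.Over (Spec (CommRingCat.of k))]
  [IsProper (Y ↘ Spec (CommRingCat.of k))]

/-- for `m ≫ 0`, `h⁰(E ⊗ H^m)` is the value of the Hilbert polynomial. -/
theorem exists_finrank_eq_eval {H : Y.Modules} (hH : CohB1.IsAmple H) (E : Y.Modules)
    (hE : Coh.IsCoh E) {Q : ℚ[X]} (hQ : ShStab.IsHilbPoly k Y H E Q) :
    ∃ N : ℕ, ∀ m : ℕ, N ≤ m →
      (Module.finrank k (Coh.HH Y (CohB1.tensorMod E (CohB1.tensorPow H m)) 0) : ℚ) =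
        Q.eval (m : ℚ) := by
  obtain ⟨N, hN⟩ := Groth.Agent.Lib.Helper7.AmpleSerre.serre_vanishing_of_isAmple k
    (Y ↘ Spec (CommRingCat.of k)) hH E hE
  refine ⟨N, fun m hm => ?_⟩
  have h1 := euler_eq_finrank_h0 k Y _ (isCoh_twist Y hH.1 hE m) (hN m hm)
  rw [← hQ m, h1]
  rfl

/-- an invertible module twisted by a high power of an ample module has a nonzero section. -/
theorem exists_section_twist [Nonempty Y] {H : Y.Modules} (hH : CohB1.IsAmple H) (N : Y.Modules)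
    (hN : PicF.IsInvertible N) :
    ∃ n₀ : ℕ, ∀ n : ℕ, n₀ ≤ n →
      0 < Module.finrank k (Coh.HH Y (CohB1.tensorMod N (CohB1.tensorPow H n)) 0) := by
  haveI : IsNoetherian Y := isNoetherian_of_isProper k Y
  have hNc : Coh.IsCoh N :=
    ⟨InvCoh.isQuasicoherent_of_isInvertible hN, InvCoh.isFiniteType_of_isInvertible hN⟩
  have h0 : ¬ IsZero N := by
    intro hz
    have h1 := Groth.Agent.Lib.Helper17.DevBasic.support_eq_empty_of_isZero hz
    rw [support_invertible hN] at h1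
    exact Set.univ_nonempty.ne_empty h1
  obtain ⟨N₁, hN₁⟩ := eventually_pos k Y hH N hNc h0
  obtain ⟨N₂, hN₂⟩ := Groth.Agent.Lib.Helper7.AmpleSerre.serre_vanishing_of_isAmple k
    (Y ↘ Spec (CommRingCat.of k)) hH N hNc
  refine ⟨max N₁ N₂, fun n hn => ?_⟩
  have h1 := hN₁ n (le_of_max_le_left hn)
  rw [euler_eq_finrank_h0 k Y _ (isCoh_twist Y hH.1 hNc n) (hN₂ n (le_of_max_le_right hn))] at h1
  have h2 : (0 : ℤ) < (Module.finrank k (Coh.HH Y (CohB1.tensorMod N (CohB1.tensorPow H n)) 0) : ℤ) :=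
    h1
  exact_mod_cast h2

/-- polynomial growth of `h⁰(L^m)` on an integral projective scheme. -/
theorem exists_bound_integral [IsIntegral Y] {H : Y.Modules} (hH : CohB1.IsAmple H)
    (L : Y.Modules) (hL : PicF.IsInvertible L) (e : ℕ) (he : topologicalKrullDim Y ≤ e) :
    ∃ C : ℕ, ∀ m : ℕ, Module.finrank k (Coh.HH Y (CohB1.tensorPow L m) 0) ≤ C * (m + 1) ^ e := by
  haveI : IsNoetherian Y := isNoetherian_of_isProper k Y
  obtain ⟨eL⟩ := Groth.Agent.Lib.Helper23.Inverse.tensor_dual_iso hL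
  have hL' := isInvertible_of_inverse hL ⟨eL⟩
  obtain ⟨n₀, hn₀⟩ := exists_section_twist k Y hH _ hL'
  set n := n₀ + 1 with hn
  have hpos := hn₀ n (Nat.le_succ n₀)
  have hEinv : PicF.IsInvertible (CohB1.tensorMod (Groth.Agent.Lib.Helper23.Inverse.dual L)
      (CohB1.tensorPow H n)) :=
    isInvertible_tensorMod hL' (isInvertible_tensorPow hH.1 n)
  have hEc : Coh.IsCoh (CohB1.tensorMod (Groth.Agent.Lib.Helper23.Inverse.dual L)
      (CohB1.tensorPow H n)) :=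
    ⟨InvCoh.isQuasicoherent_of_isInvertible hEinv, InvCoh.isFiniteType_of_isInvertible hEinv⟩
  haveI := T2.finite_HH k _ hEc 0
  have hnt := Module.nontrivial_of_finrank_pos hpos
  obtain ⟨s, hs⟩ := exists_section_ne_zero Y _ hnt
  -- `L ⊗ E ≅ H^n`
  let e₁ : CohB1.tensorMod L (CohB1.tensorMod (Groth.Agent.Lib.Helper23.Inverse.dual L)
      (CohB1.tensorPow H n)) ≅ CohB1.tensorPow H n :=
    (assoc L _ (CohB1.tensorPow H n)).symm ≪≫ tensorMapIso eL (Iso.refl _) ≪≫ unitorL _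
  have hO := T2.isCoh_structureModule Y
  obtain ⟨Q, hQ⟩ := exists_isHilbPoly k Y hH (Coh.structureModule Y) hO
  have hdeg : Q.natDegree ≤ e :=
    natDegree_le_of_dim_le k hH _ hO hQ e
      ((Topology.IsEmbedding.subtypeVal.isInducing.topologicalKrullDim_le).trans he)
  obtain ⟨N, hN⟩ := exists_finrank_eq_eval k Y hH _ hO hQ
  refine exists_nat_bound _ Q e n N hdeg fun m hm => ?_
  have h1 := finrank_pow_le k Y L _ hL hEinv s hs m
  have h2 : Module.finrank k (Coh.HH Y (CohB1.tensorPow (CohB1.tensorMod L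
      (CohB1.tensorMod (Groth.Agent.Lib.Helper23.Inverse.dual L) (CohB1.tensorPow H n))) m) 0) =
      Module.finrank k (Coh.HH Y (CohB1.tensorMod (Coh.structureModule Y)
        (CohB1.tensorPow H (n * m))) 0) :=
    (FBC.HmapEquivK k (tensorPowIso e₁ m ≪≫ powMul H n m ≪≫ (unitorL _).symm) 0).finrank_eq
  have h3 := hN (n * m) (le_trans hm (Nat.le_mul_of_pos_left m (Nat.succ_pos n₀)))
  rw [← h3]
  exact_mod_cast h1.trans h2.le

end Groth.Agent.Lib.Helper7.GrowthA
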