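import Mathlib
import Groth.Prelude
import Groth.Agent.Lib.Helper7.GrowthA
import Groth.Agent.Lib.Helper17.DevKeyExt
import Groth.Agent.Lib.Helper17.DevTest
import Groth.Agent.Lib.Helper17.DevInt
import Groth.Agent.Lib.Helper7.AmpleComp
import Groth.Agent.Lib.Helper7.PushLinear
import Groth.Agent.Lib.Helper2.Mon.ProjClosed

/-!
# Helper library (helper7): polynomial growth of `h⁰(F ⊗ L^m)` for coherent `F`

On a scheme `X` proper over a field with an ample module, for `L` invertible and `F` coherent with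
support of dimension at most `e`, `h⁰(X, F ⊗ L^m) ≤ C (m+1)^e`.
-/

set_option autoImplicit false
set_option linter.unusedSectionVars false
set_option linter.style.haveILetI false
universe u
open CategoryTheory CategoryTheory.Limits AlgebraicGeometry Opposite TopologicalSpace
open Scheme.Modules

namespace Groth.Agent.Lib.Helper7.GrowthB

open Groth.Agent.Lib.Helper3 Groth.Agent.Lib.Helper3.InvMonoidal Groth.Agent.Lib.Helper3.InvTensor
open Groth.Agent.Lib.Helper3.InvGen
open Groth.Agent.Lib.Helper23 Groth.Agent.Lib.Helper23.HilbP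
open Groth.Agent.Lib.Helper7.SnapFGA Groth.Agent.Lib.Helper7.TwFun
open Groth.Agent.Lib.Helper17

section LA

theorem finrank_le_of_exact {K : Type*} [Field K] {M₁ M₂ M₃ : Type*} [AddCommGroup M₁]
    [AddCommGroup M₂] [AddCommGroup M₃] [Module K M₁] [Module K M₂] [Module K M₃]
    [Module.Finite K M₁] [Module.Finite K M₂] [Module.Finite K M₃]
    (f : M₁ →ₗ[K] M₂) (g : M₂ →ₗ[K] M₃) (h : Function.Exact f g) :
    Module.finrank K M₂ ≤ Module.finrank K M₁ + Module.finrank K M₃ := by
  have h1 := LinearMap.finrank_range_add_finrank_ker g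
  have h2 : LinearMap.ker g = LinearMap.range f := LinearMap.exact_iff.mp h
  have h3 := LinearMap.finrank_range_le f
  have h4 := Submodule.finrank_le (LinearMap.range g)
  rw [h2] at h1
  omega

end LA

variable (k : Type u) [Field k] (X : Scheme.{u}) [X.Over (Spec (CommRingCat.of k))]
  [IsProper (X ↘ Spec (CommRingCat.of k))]

/-- transfer to the closed subscheme: `H⁰(X, O_Z ⊗ L^m) ≃ H⁰(Z, (L|_Z)^m)`. -/
theorem finrank_quotMod_tensor (J : X.IdealSheafData) [J.subscheme.Over (Spec (CommRingCat.of k))]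
    (hov : J.subscheme ↘ Spec (CommRingCat.of k) = J.subschemeι ≫ (X ↘ Spec (CommRingCat.of k)))
    (L : X.Modules) (hL : PicF.IsInvertible L) (m : ℕ) :
    Module.finrank k (Coh.HH X (CohB1.tensorMod (ClSub.quotMod J) (CohB1.tensorPow L m)) 0) =
      Module.finrank k (Coh.HH J.subscheme
        (CohB1.tensorPow ((Scheme.Modules.pullback J.subschemeι).obj L) m) 0) := by
  let e1 : CohB1.tensorMod (ClSub.quotMod J) (CohB1.tensorPow L m) ≅
      (Scheme.Modules.pushforward J.subschemeι).obj
        (CohB1.tensorMod (Coh.structureModule J.subscheme)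
          ((Scheme.Modules.pullback J.subschemeι).obj (CohB1.tensorPow L m))) :=
    Groth.Agent.Lib.Helper2.Mon.projIso J.subschemeι _ _
  let e2 : CohB1.tensorMod (Coh.structureModule J.subscheme)
      ((Scheme.Modules.pullback J.subschemeι).obj (CohB1.tensorPow L m)) ≅
      CohB1.tensorPow ((Scheme.Modules.pullback J.subschemeι).obj L) m :=
    unitorL _ ≪≫ PbTensor.pbPowIso J.subschemeι L hL m
  rw [(FBC.HmapEquivK k (e1 ≪≫ (Scheme.Modules.pushforward J.subschemeι).mapIso e2) 0).finrank_eq]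
  exact (Groth.Agent.Lib.Helper7.PushLinear.finrank_push J.subschemeι _ k hov 0).symm

/-- polynomial growth of `h⁰(F ⊗ L^m)`. -/
theorem exists_bound {H : X.Modules} (hH : CohB1.IsAmple H) (L : X.Modules)
    (hL : PicF.IsInvertible L) (e : ℕ) (F : X.Modules) (hF : Coh.IsCoh F)
    (hsupp : topologicalKrullDim (CohB1.support F) ≤ e) :
    ∃ C : ℕ, ∀ m : ℕ,
      Module.finrank k (Coh.HH X (CohB1.tensorMod F (CohB1.tensorPow L m)) 0) ≤
        C * (m + 1) ^ e := by
  haveI : IsNoetherian X := isNoetherian_of_isProper k X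
  haveI : CompactSpace X := T2.compactSpace_of_isProper k X
  let P : X.Modules → Prop := fun G => ∃ C : ℕ, ∀ m : ℕ,
    Module.finrank k (Coh.HH X (CohB1.tensorMod G (CohB1.tensorPow L m)) 0) ≤ C * (m + 1) ^ e
  have hPiso : ∀ M N : X.Modules, Nonempty (M ≅ N) → P M → P N := by
    rintro M N ⟨φ⟩ ⟨C, hC⟩
    refine ⟨C, fun m => ?_⟩
    rw [← (FBC.HmapEquivK k (tensorMapIso φ (Iso.refl (CohB1.tensorPow L m))) 0).finrank_eq]
    exact hC m
  have h0 : ∀ M : X.Modules, IsZero M → P M := by
    intro M hM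
    refine ⟨0, fun m => ?_⟩
    have hz : IsZero (CohB1.tensorMod M (CohB1.tensorPow L m)) :=
      (twR (CohB1.tensorPow L m)).map_isZero hM
    haveI := Groth.Agent.Lib.Helper7.HilbFam.subsingleton_HH_of_isZero hz 0
    rw [Module.finrank_zero_of_subsingleton]
    simp
  have hext : ∀ S : ShortComplex X.Modules, S.ShortExact → Coh.IsCoh S.X₁ → Coh.IsCoh S.X₂ →
      Coh.IsCoh S.X₃ → CohB1.support S.X₂ ⊆ CohB1.support F → P S.X₁ → P S.X₃ → P S.X₂ := by
    rintro S hS h1 h2 h3 - ⟨C₁, hC₁⟩ ⟨C₃, hC₃⟩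
    refine ⟨C₁ + C₃, fun m => ?_⟩
    have hSm := shortExact_twist X hL S hS m
    have hex := T2.exact_f_g k _ hSm 0
    haveI : Module.Finite k (Coh.HH X (S.map (twR (CohB1.tensorPow L m))).X₁ 0) :=
      T2.finite_HH k _ (isCoh_twist X hL h1 m) 0
    haveI : Module.Finite k (Coh.HH X (S.map (twR (CohB1.tensorPow L m))).X₂ 0) :=
      T2.finite_HH k _ (isCoh_twist X hL h2 m) 0
    haveI : Module.Finite k (Coh.HH X (S.map (twR (CohB1.tensorPow L m))).X₃ 0) :=
      T2.finite_HH k _ (isCoh_twist X hL h3 m) 0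
    have hle := finrank_le_of_exact _ _ hex
    have ha := hC₁ m
    have hb := hC₃ m
    change Module.finrank k (Coh.HH X (S.map (twR (CohB1.tensorPow L m))).X₂ 0) ≤ _
    change Module.finrank k (Coh.HH X (S.map (twR (CohB1.tensorPow L m))).X₁ 0) ≤ _ at ha
    change Module.finrank k (Coh.HH X (S.map (twR (CohB1.tensorPow L m))).X₃ 0) ≤ _ at hb
    rw [add_mul]
    omega
  refine DevEngine.engine X P hPiso (CohB1.support F) h0 hext ?_ F hF le_rfl
  intro Z hZ hirr hZF IH G hG hGs _
  obtain ⟨y, hy⟩ := QuasiSober.sober hirr hZ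
  set Zc : Closeds X := ⟨Z, hZ⟩ with hZc
  have hy' : closure {y} = (Zc : Set X) := hy
  have hy'' : closure {y} = Z := hy
  have hyZ : y ∈ Z := hy'' ▸ subset_closure (Set.mem_singleton y)
  have hgenZ : ∀ x ∈ Z, y ⤳ x := fun x hx => specializes_iff_mem_closure.mpr (hy''.symm ▸ hx)
  have IH' : ∀ F' : X.Modules, Coh.IsCoh F' → CohB1.support F' ⊆ Z →
      y ∉ CohB1.support F' → P F' :=
    fun F' hF' hs hn => IH F' hF' hs (fun h => hn (h ▸ hyZ))
  set J := Scheme.IdealSheafData.vanishingIdeal Zc with hJ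
  have hA : Coh.IsCoh (DevTest.A J) := DevTest.isCoh_A _
  have hAs : CohB1.support (DevTest.A J) ⊆ Z := by
    rw [DevTest.support_A, hJ, Scheme.IdealSheafData.coe_support_vanishingIdeal]
    rfl
  have hAl := DevTest.length_stalk_A Zc y hy'
  have hPA : P (DevTest.A J) := by
    letI : J.subscheme.Over (Spec (CommRingCat.of k)) :=
      ⟨J.subschemeι ≫ (X ↘ Spec (CommRingCat.of k))⟩
    haveI : IsProper (J.subscheme ↘ Spec (CommRingCat.of k)) := by
      show IsProper (J.subschemeι ≫ (X ↘ Spec (CommRingCat.of k)))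
      infer_instance
    haveI : IsIntegral J.subscheme := DevInt.isIntegral_sub Zc hirr
    have hHZ := Groth.Agent.Lib.Helper7.AmpleComp.isAmple_pullback_subschemeι hH J
    have hLZ := PbBasic.isInvertible_pullback J.subschemeι hL
    have hdimZ : topologicalKrullDim J.subscheme ≤ e := by
      have hemb := (DevInt.subι Zc).isEmbedding
      let eh : DevInt.sub Zc ≃ₜ ↥(Zc : Set X) :=
        hemb.toHomeomorph.trans (Homeomorph.setCongr (DevInt.range_subι Zc))
      have h1 : topologicalKrullDim (DevInt.sub Zc) ≤ topologicalKrullDim ↥(Zc : Set X) :=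
        eh.isInducing.topologicalKrullDim_le
      have h2 : topologicalKrullDim ↥(Zc : Set X) ≤ topologicalKrullDim ↥(CohB1.support F) :=
        (Topology.IsEmbedding.inclusion hZF).isInducing.topologicalKrullDim_le
      exact h1.trans (h2.trans hsupp)
    obtain ⟨C, hC⟩ := Groth.Agent.Lib.Helper7.GrowthA.exists_bound_integral k J.subscheme hHZ _ hLZ e
      hdimZ
    refine ⟨C, fun m => ?_⟩
    rw [finrank_quotMod_tensor k X J rfl L hL m]
    exact hC m
  refine DevKeyExt.keyExt P (CohB1.support F) hext Z hZF y hgenZ IH' _ hA hAs hAl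
    (fun K hK κ _ hyK => DevTest.isZero_of_mono_of_notMem Zc y hy' hK κ hyK) ?_ G hG hGs
  intro G' hG' ι _ _
  obtain ⟨C, hC⟩ := hPA
  refine ⟨C, fun m => le_trans ?_ (hC m)⟩
  have hSm := shortExact_twist X hL _ (DevKey.shortExact_of_mono ι) m
  haveI : Mono ((twR (CohB1.tensorPow L m)).map ι) := hSm.mono_f
  haveI : Module.Finite k (Coh.HH X (CohB1.tensorMod (DevTest.A J) (CohB1.tensorPow L m)) 0) :=
    T2.finite_HH k _ (isCoh_twist X hL hA m) 0
  exact LinearMap.finrank_le_finrank_of_injective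
    (T2.HmapA_injective_zero k ((twR (CohB1.tensorPow L m)).map ι))

end Groth.Agent.Lib.Helper7.GrowthB
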