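import Mathlib
import Groth.Prelude
import Groth.Agent.Lib.Helper7.GrowthB
import Groth.Agent.Lib.Helper23.SnapI

/-!
# Helper library (helper7): Kodaira's lemma

On an integral projective scheme `X` of dimension `d`, if `h⁰(L^m)` is not `O(m^(d-1))` then
for every ample `A` with inverse `A'` some `A' ⊗ L^m` (`m > 0`) has a nonzero section.
-/

set_option autoImplicit false
set_option linter.unusedSectionVars false
set_option linter.style.haveILetI false
universe u
open CategoryTheory CategoryTheory.Limits AlgebraicGeometry Opposite TopologicalSpace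
open Scheme.Modules

namespace Groth.Agent.Lib.Helper7.GrowthC

open Groth.Agent.Lib.Helper3 Groth.Agent.Lib.Helper3.InvMonoidal Groth.Agent.Lib.Helper3.InvTensor
open Groth.Agent.Lib.Helper3.InvGen
open Groth.Agent.Lib.Helper23 Groth.Agent.Lib.Helper23.HilbP Groth.Agent.Lib.Helper23.Snap
open Groth.Agent.Lib.Helper7.SnapFGA Groth.Agent.Lib.Helper7.TwFun
open Groth.Agent.Lib.Helper7.SecDeg Groth.Agent.Lib.Helper7.RegSec
open Groth.Agent.Lib.Helper7.VolMono Groth.Agent.Lib.Helper7.GrowthA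
open Groth.Agent.Lib.Helper7.GrowthB
open Groth.Agent.Lib.Helper17

section Iso

variable {X : Scheme.{u}}

/-- `O^n ≅ O`. -/
noncomputable def powUnit : (n : ℕ) →
    (CohB1.tensorPow (Coh.structureModule X) n ≅ Coh.structureModule X)
  | 0 => Iso.refl _
  | n + 1 => tensorMapIso (powUnit n) (Iso.refl _) ≪≫ unitorL _

/-- powers of an inverse pair are an inverse pair. -/
noncomputable def powInv {A A' : X.Modules}
    (eA : CohB1.tensorMod A' A ≅ Coh.structureModule X) (n : ℕ) :
    CohB1.tensorMod (CohB1.tensorPow A' n) (CohB1.tensorPow A n) ≅ Coh.structureModule X :=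
  (powTensor A' A n).symm ≪≫ tensorPowIso eA n ≪≫ powUnit n

end Iso

variable (k : Type u) [Field k] (X : Scheme.{u}) [X.Over (Spec (CommRingCat.of k))]
  [IsProper (X ↘ Spec (CommRingCat.of k))]

/-- the growth bound for modules whose support has dimension smaller than `d`. -/
theorem exists_bound_lt {H : X.Modules} (hH : CohB1.IsAmple H) (L : X.Modules)
    (hL : PicF.IsInvertible L) (d : ℕ) (F : X.Modules) (hF : Coh.IsCoh F)
    (hsupp : CohB1.support F = ∅ ∨
      ∃ e : ℕ, d = e + 1 ∧ topologicalKrullDim (CohB1.support F) ≤ e) :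
    ∃ C : ℕ, ∀ m : ℕ,
      Module.finrank k (Coh.HH X (CohB1.tensorMod F (CohB1.tensorPow L m)) 0) * (m + 1) ≤
        C * (m + 1) ^ d := by
  rcases hsupp with hempty | ⟨e, rfl, he⟩
  · have hz := DevBasic.isZero_of_support_eq_empty hempty
    refine ⟨0, fun m => ?_⟩
    have hz' : IsZero (CohB1.tensorMod F (CohB1.tensorPow L m)) :=
      (twR (CohB1.tensorPow L m)).map_isZero hz
    haveI := Groth.Agent.Lib.Helper7.HilbFam.subsingleton_HH_of_isZero hz' 0
    rw [Module.finrank_zero_of_subsingleton]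
    simp
  · obtain ⟨C, hC⟩ := exists_bound k X hH L hL e F hF he
    refine ⟨C, fun m => ?_⟩
    calc Module.finrank k (Coh.HH X (CohB1.tensorMod F (CohB1.tensorPow L m)) 0) * (m + 1)
        ≤ C * (m + 1) ^ e * (m + 1) := Nat.mul_le_mul_right _ (hC m)
      _ = C * (m + 1) ^ (e + 1) := by ring

/-- a nonzero section from positivity of `h⁰`. -/
theorem exists_section_of_pos (M : X.Modules) (hM : Coh.IsCoh M)
    (h : 0 < Module.finrank k (Coh.HH X M 0)) :
    ∃ s : Coh.structureModule X ⟶ M, s ≠ 0 := by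
  haveI := T2.finite_HH k _ hM 0
  exact exists_section_ne_zero X _ (Module.nontrivial_of_finrank_pos h)

/-- **Kodaira's lemma.** -/
theorem kodaira [IsIntegral X] (d : ℕ) (hdim : topologicalKrullDim X = d)
    {A : X.Modules} (hA : CohB1.IsAmple A) (A' : X.Modules)
    (eA : CohB1.tensorMod A' A ≅ Coh.structureModule X)
    (L : X.Modules) (hL : PicF.IsInvertible L)
    (hbig : ∀ C : ℕ, ∃ m : ℕ, 0 < m ∧
      C * (m + 1) ^ d < Module.finrank k (Coh.HH X (CohB1.tensorPow L m) 0) * (m + 1)) :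
    ∃ m : ℕ, 0 < m ∧
      Nontrivial (Coh.HH X (CohB1.tensorMod A' (CohB1.tensorPow L m)) 0) := by
  haveI : IsNoetherian X := isNoetherian_of_isProper k X
  have coh : ∀ {M : X.Modules}, PicF.IsInvertible M → Coh.IsCoh M := fun hM =>
    ⟨InvCoh.isQuasicoherent_of_isInvertible hM, InvCoh.isFiniteType_of_isInvertible hM⟩
  have hA' : PicF.IsInvertible A' := isInvertible_of_inverse hA.1 ⟨braid A A' ≪≫ eA⟩
  have hOinv := isInvertible_structureModule X
  obtain ⟨n₀, hn₀⟩ := exists_section_twist k X hA _ hOinv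
  -- sections of `A^n₀` and `A^(n₀+1)`
  have hsec : ∀ n : ℕ, n₀ ≤ n → ∃ t : Coh.structureModule X ⟶ CohB1.tensorPow A n, t ≠ 0 := by
    intro n hn
    have h1 := hn₀ n hn
    rw [(FBC.HmapEquivK k (unitorL (CohB1.tensorPow A n)) 0).finrank_eq] at h1
    exact exists_section_of_pos k X _ (coh (isInvertible_tensorPow hA.1 n)) h1
  obtain ⟨t₀, ht₀⟩ := hsec n₀ le_rfl
  obtain ⟨t₁, ht₁⟩ := hsec (n₀ + 1) (Nat.le_succ n₀)
  have hG : PicF.IsInvertible (CohB1.tensorPow A (n₀ + 1)) := isInvertible_tensorPow hA.1 _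
  have hG' : PicF.IsInvertible (CohB1.tensorPow A' (n₀ + 1)) := isInvertible_tensorPow hA' _
  haveI : (CohB1.tensorPow A' (n₀ + 1)).IsQuasicoherent :=
    InvCoh.isQuasicoherent_of_isInvertible hG'
  have hreg := isRegSec_of_ne_zero hG t₁ ht₁
  have hD := isEffCartierIdeal_zeroDiv (powInv eA (n₀ + 1)) hreg
  obtain ⟨eI⟩ := idealMod_zeroDiv_iso (powInv eA (n₀ + 1)) hreg
  set D := zeroDiv (powInv eA (n₀ + 1)) t₁ with hDdef
  have hOD : Coh.IsCoh (ClSub.quotMod D) := EffCart.isCoh_quotMod D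
  have hO := T2.isCoh_structureModule X
  have hID : Coh.IsCoh (ClSub.idealMod D) :=
    coh ((EffCartMod.isInvertible_idealMod_iff _).mpr hD)
  -- the support of the quotient
  have hsupp : CohB1.support (ClSub.quotMod D) = ∅ ∨
      ∃ e : ℕ, d = e + 1 ∧ topologicalKrullDim (CohB1.support (ClSub.quotMod D)) ≤ e := by
    rw [DevTest.support_A]
    cases d with
    | zero =>
      left
      rw [Set.eq_empty_iff_forall_notMem]
      intro y hy
      obtain ⟨y', h1, h2⟩ := exists_strict_generization D hD y hy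
      have hc : Ch 1 y' := ⟨y, h1, h2, trivial⟩
      have := le_dim_of_Ch hc
      rw [hdim] at this
      have h3 : (1 : ℕ) ≤ 0 := by exact_mod_cast this
      omega
    | succ e =>
      right
      exact ⟨e, rfl, le_of_lt_succ_dim (dim_support_lt D hD e hdim)⟩
  obtain ⟨C, hC⟩ := exists_bound_lt k X hA L hL d _ hOD hsupp
  obtain ⟨m, hm0, hm⟩ := hbig C
  refine ⟨m, hm0, ?_⟩
  -- the exact sequence
  have hSm := shortExact_twist X hL _ (EffCart.shortExact_ideal D) m
  have hex := T2.exact_f_g k _ hSm 0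
  haveI : Module.Finite k (Coh.HH X ((ShortComplex.mk (ClSub.idealModι D) (ClSub.toSubscheme D)
      (kernel.condition (ClSub.toSubscheme D))).map (twR (CohB1.tensorPow L m))).X₁ 0) :=
    T2.finite_HH k _ (isCoh_twist X hL hID m) 0
  haveI : Module.Finite k (Coh.HH X ((ShortComplex.mk (ClSub.idealModι D) (ClSub.toSubscheme D)
      (kernel.condition (ClSub.toSubscheme D))).map (twR (CohB1.tensorPow L m))).X₂ 0) :=
    T2.finite_HH k _ (isCoh_twist X hL hO m) 0
  haveI : Module.Finite k (Coh.HH X ((ShortComplex.mk (ClSub.idealModι D) (ClSub.toSubscheme D)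
      (kernel.condition (ClSub.toSubscheme D))).map (twR (CohB1.tensorPow L m))).X₃ 0) :=
    T2.finite_HH k _ (isCoh_twist X hL hOD m) 0
  have hle := finrank_le_of_exact _ _ hex
  change Module.finrank k (Coh.HH X
      (CohB1.tensorMod (Coh.structureModule X) (CohB1.tensorPow L m)) 0) ≤
    Module.finrank k (Coh.HH X (CohB1.tensorMod (ClSub.idealMod D) (CohB1.tensorPow L m)) 0) +
    Module.finrank k (Coh.HH X (CohB1.tensorMod (ClSub.quotMod D) (CohB1.tensorPow L m)) 0) at hle
  rw [(FBC.HmapEquivK k (unitorL (CohB1.tensorPow L m)) 0).finrank_eq] at hle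
  have hCm := hC m
  have hlt : Module.finrank k (Coh.HH X (CohB1.tensorMod (ClSub.quotMod D)
      (CohB1.tensorPow L m)) 0) < Module.finrank k (Coh.HH X (CohB1.tensorPow L m) 0) :=
    lt_of_mul_lt_mul_right (lt_of_le_of_lt hCm hm) (Nat.zero_le _)
  have hpos : 0 < Module.finrank k (Coh.HH X (CohB1.tensorMod (ClSub.idealMod D)
      (CohB1.tensorPow L m)) 0) := by omega
  -- pass to `A' ⊗ L^m`
  have hLm := isInvertible_tensorPow hL m
  have hT : PicF.IsInvertible (CohB1.tensorMod (CohB1.tensorPow A' (n₀ + 1))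
      (CohB1.tensorPow L m)) := isInvertible_tensorMod hG' hLm
  rw [(FBC.HmapEquivK k (tensorMapIso eI.symm (Iso.refl (CohB1.tensorPow L m))) 0).finrank_eq]
    at hpos
  have h1 := finrank_H0_le k X (CohB1.tensorPow A n₀) (CohB1.tensorPow A' n₀)
    (isInvertible_tensorPow hA.1 n₀) (powInv eA n₀) t₀ ht₀ _ hT
  let e₃ : CohB1.tensorMod (CohB1.tensorPow A n₀)
      (CohB1.tensorMod (CohB1.tensorPow A' (n₀ + 1)) (CohB1.tensorPow L m)) ≅
      CohB1.tensorMod A' (CohB1.tensorPow L m) :=
    tensorMapIso (Iso.refl _) (assoc (CohB1.tensorPow A' n₀) A' (CohB1.tensorPow L m)) ≪≫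
      (assoc (CohB1.tensorPow A n₀) (CohB1.tensorPow A' n₀) _).symm ≪≫
      tensorMapIso (braid _ _ ≪≫ powInv eA n₀) (Iso.refl _) ≪≫ unitorL _
  rw [(FBC.HmapEquivK k e₃ 0).finrank_eq] at h1
  haveI := T2.finite_HH k _ (coh (isInvertible_tensorMod hA' hLm)) 0
  exact Module.nontrivial_of_finrank_pos (lt_of_lt_of_le hpos h1)

end Groth.Agent.Lib.Helper7.GrowthC
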