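import Mathlib
import Groth.Prelude
import Groth.Agent.Lib.Helper7.IntNumPos
import Groth.Agent.Lib.Helper23.SnapE
import Groth.Agent.Lib.Helper1.K0Dim3
import Groth.Agent.Lib.Helper17.DevInt
import Groth.Agent.S0020

/-!
# Helper library (helper7): the multiplicity formula for intersection numbers (general form) and
the extension of nefness from integral curves to all coherent modules with support of dimension
at most one.
-/

set_option autoImplicit false
set_option linter.unusedSectionVars false
set_option linter.style.haveILetI false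
universe u
open CategoryTheory CategoryTheory.Limits AlgebraicGeometry Opposite
open Scheme.Modules

namespace Groth.Agent.Lib.Helper7.NefCoh

open Groth.Agent.Lib.Helper3 Groth.Agent.Lib.Helper3.InvMonoidal Groth.Agent.Lib.Helper3.InvTensor
open Groth.Agent.Lib.Helper23 Groth.Agent.Lib.Helper23.Snap Groth.Agent.Lib.Helper23.HilbP
open Groth.Agent.Lib.Helper7.SnapFGA Groth.Agent.Lib.Helper7.IntNumPos

variable (k : Type u) [Field k] (X : Scheme.{u}) [X.Over (Spec (CommRingCat.of k))]
  [IsProper (X ↘ Spec (CommRingCat.of k))]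

/-- the multiplicity formula. -/
theorem intNum_eq_sum (d : ℕ) (hd : topologicalKrullDim X ≤ d)
    {r : ℕ} (M : Fin r → X.Modules) (hM : ∀ i, PicF.IsInvertible (M i))
    (F : X.Modules) (hF : Coh.IsCoh F) (hsupp : topologicalKrullDim ↥(CohB1.support F) ≤ r)
    (s : Finset X) (hs : ∀ ξ : X, ξ ∈ s ↔ ξ ∈ CohB1.support F ∧
      topologicalKrullDim ↥(closure ({ξ} : Set X)) = r) :
    FGA.intNum k X d M F =
      ∑ ξ ∈ s, ((Module.length (X.presheaf.stalk ξ) (F.presheaf.stalk ξ)).toNat : ℤ) *
        FGA.intNum k X d M (ClSub.quotMod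
          (Scheme.IdealSheafData.vanishingIdeal ⟨closure ({ξ} : Set X), isClosed_closure⟩)) := by
  haveI : IsNoetherian X := Groth.Agent.Lib.Helper23.HilbP.isNoetherian_of_isProper k X
  have hcl : IsClosed (CohB1.support F) := Groth.Agent.S0020.result X F hF.2
  obtain ⟨Φ, hΦ⟩ := Groth.Agent.Lib.Helper23.Snap.exists_lift (fun M : X.Modules => Coh.IsCoh M)
    (fun G : X.Modules => FGA.intNum k X d M G)
    (fun S hS h1 h2 h3 =>
      Groth.Agent.Lib.Helper7.IntNumPos.intNum_additive k X d hd M hM S hS h1 h2 h3)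
  have key := Groth.Agent.Lib.Helper1.K0Dim.key5642 X r F hF hsupp
  have hsub : AddSubgroup.closure {x : KZero.K0sub (fun M : X.Modules => Coh.IsCoh M) |
      ∃ G : X.Modules, Coh.IsCoh G ∧ topologicalKrullDim (CohB1.support G) < (r : WithBot ℕ∞) ∧
        x = KZero.clSub (fun M : X.Modules => Coh.IsCoh M) G} ≤ Φ.ker := by
    rw [AddSubgroup.closure_le]
    rintro x ⟨G, hG, hGd, rfl⟩
    change Φ _ = 0
    rw [hΦ G hG]
    exact Groth.Agent.Lib.Helper7.SnapFGA.intNum_eq_zero k X d hd M hM G hG hGd
  have h1 : Φ _ = 0 := hsub key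
  have hsupp_s : Function.support (Groth.Agent.Lib.Helper1.K0Dim.term r F) ⊆ ↑s := by
    intro ξ hξ
    rw [Finset.mem_coe, hs]
    constructor
    · by_contra h
      exact hξ (Groth.Agent.Lib.Helper1.K0Dim.term_eq_zero_of_notMem r F ξ h)
    · by_contra h
      exact hξ (Groth.Agent.Lib.Helper1.K0Dim.term_eq_zero_of_dim r F ξ h)
  rw [map_sub, hΦ F hF, finsum_eq_sum_of_support_subset _ hsupp_s, map_sum, sub_eq_zero] at h1
  rw [h1]
  refine Finset.sum_congr rfl fun ξ hξ => ?_
  have hξ' := ((hs ξ).mp hξ).2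
  unfold Groth.Agent.Lib.Helper1.K0Dim.term
  rw [if_pos hξ', map_nsmul,
    hΦ _ (Groth.Agent.Lib.Helper1.K0Dim.isCoh_closureStructureSheaf ξ), nsmul_eq_mul]
  rfl

include k in
/-- the finite set of generic points of the `r`-dimensional components of the support. -/
theorem exists_finset (F : X.Modules) (hF : Coh.IsCoh F) (r : ℕ)
    (hsupp : topologicalKrullDim ↥(CohB1.support F) ≤ r) :
    ∃ s : Finset X, ∀ ξ : X, ξ ∈ s ↔ ξ ∈ CohB1.support F ∧
      topologicalKrullDim ↥(closure ({ξ} : Set X)) = r := by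
  haveI : IsNoetherian X := Groth.Agent.Lib.Helper23.HilbP.isNoetherian_of_isProper k X
  have hcl : IsClosed (CohB1.support F) := Groth.Agent.S0020.result X F hF.2
  have hfin : {ξ : X | ξ ∈ CohB1.support F ∧
      topologicalKrullDim ↥(closure ({ξ} : Set X)) = r}.Finite := by
    refine (Groth.Agent.Lib.Helper1.TopDim.finite_maximal hcl).subset ?_
    rintro ξ ⟨h1, h2⟩
    exact ⟨h1, fun x' hx' h =>
      Groth.Agent.Lib.Helper1.TopDim.eq_of_specializes_of_dim hcl r hsupp hx' h h2⟩
  exact ⟨hfin.toFinset, fun ξ => hfin.mem_toFinset⟩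

/-- the intersection number with a single module. -/
theorem intNum_one (d : ℕ) (hd : topologicalKrullDim X ≤ d) (L F : X.Modules) :
    FGA.intNum k X d (fun _ : Fin 1 => L) F =
      Curv2.euler k X F - Curv2.euler k X (CohB1.tensorMod F L) := by
  have h : (fun _ : Fin 1 => L) = (Fin.cons L (Fin.elim0 : Fin 0 → X.Modules) : Fin 1 → X.Modules) := by
    funext i
    fin_cases i
    rfl
  rw [h, intNum_cons, intNum_zero, intNum_zero, eulerLE_eq k X d hd, eulerLE_eq k X d hd,
    FBC.euler_eq_of_iso' k (unitorL F),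
    FBC.euler_eq_of_iso' k (unitorL (CohB1.tensorMod L F) ≪≫ braid L F)]

/-- **nefness on coherent modules**: if `L` has non-negative degree on every integral curve, then
`χ(F) ≤ χ(F ⊗ L)` for every coherent `F` with support of dimension at most one. -/
theorem nef_coh (d : ℕ) (hd : topologicalKrullDim X ≤ d) (L : X.Modules)
    (hL : PicF.IsInvertible L)
    (hnef : ∀ Γ : X.IdealSheafData, IsIntegral Γ.subscheme →
      topologicalKrullDim (Γ.support : Set X) = 1 →
        0 ≤ Curv2.euler k X (CohB1.tensorMod (ClSub.quotMod Γ) L) -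
          Curv2.euler k X (ClSub.quotMod Γ))
    (F : X.Modules) (hF : Coh.IsCoh F)
    (hsupp : topologicalKrullDim ↥(CohB1.support F) ≤ ((1 : ℕ) : WithBot ℕ∞)) :
    Curv2.euler k X F ≤ Curv2.euler k X (CohB1.tensorMod F L) := by
  obtain ⟨s, hs⟩ := exists_finset k X F hF 1 hsupp
  have h1 := intNum_eq_sum k X d hd (fun _ : Fin 1 => L) (fun _ => hL) F hF hsupp s hs
  rw [intNum_one k X d hd] at h1
  have h2 : ∑ ξ ∈ s, ((Module.length (X.presheaf.stalk ξ) (F.presheaf.stalk ξ)).toNat : ℤ) *
      FGA.intNum k X d (fun _ : Fin 1 => L) (ClSub.quotMod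
        (Scheme.IdealSheafData.vanishingIdeal ⟨closure ({ξ} : Set X), isClosed_closure⟩)) ≤ 0 := by
    refine Finset.sum_nonpos fun ξ hξ => ?_
    have hξ' := ((hs ξ).mp hξ).2
    refine mul_nonpos_of_nonneg_of_nonpos (Int.natCast_nonneg _) ?_
    rw [intNum_one k X d hd]
    have hirr : IsIrreducible
        ((⟨closure ({ξ} : Set X), isClosed_closure⟩ : TopologicalSpace.Closeds X) : Set X) :=
      isIrreducible_singleton.closure
    have hint := Groth.Agent.Lib.Helper17.DevInt.isIntegral_sub
      (⟨closure ({ξ} : Set X), isClosed_closure⟩ : TopologicalSpace.Closeds X) hirr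
    have hdim1 : topologicalKrullDim ((Scheme.IdealSheafData.vanishingIdeal
        (⟨closure ({ξ} : Set X), isClosed_closure⟩ : TopologicalSpace.Closeds X)).support : Set X)
          = 1 := by
      rw [Scheme.IdealSheafData.coe_support_vanishingIdeal]
      change topologicalKrullDim ↥(closure ({ξ} : Set X)) = 1
      rw [hξ']
      norm_cast
    have := hnef _ hint hdim1
    linarith
  linarith

end Groth.Agent.Lib.Helper7.NefCoh
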