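import Mathlib
import Groth.Prelude
import Groth.Agent.Lib.Helper7.SurfSecB

/-!
# Helper library (helper7): sections of high powers of a module of positive self-intersection on
an integral proper surface (main theorem).
-/

set_option autoImplicit false
set_option linter.unusedSectionVars false
set_option linter.style.haveILetI false
universe u
open CategoryTheory CategoryTheory.Limits AlgebraicGeometry Opposite
open Scheme.Modules

namespace Groth.Agent.Lib.Helper7.SurfSecC

open Groth.Agent.Lib.Helper3 Groth.Agent.Lib.Helper3.InvMonoidal Groth.Agent.Lib.Helper3.InvTensor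
open Groth.Agent.Lib.Helper3.InvGen Groth.Agent.Lib.Helper3.QCSec Groth.Agent.Lib.Helper3.InvAmple
open Groth.Agent.Lib.Helper23 Groth.Agent.Lib.Helper23.Snap Groth.Agent.Lib.Helper23.HilbP
open Groth.Agent.Lib.Helper7.SnapAlt Groth.Agent.Lib.Helper7.SnapFGA
open Groth.Agent.Lib.Helper7.IntNumPos Groth.Agent.Lib.Helper7.IntNumDiv
open Groth.Agent.Lib.Helper7.SecDeg Groth.Agent.Lib.Helper7.HilbCoeff
open Groth.Agent.Lib.Helper7.SecDegB
open Groth.Agent.Lib.Helper7.SecDegC Groth.Agent.Lib.Helper7.RegSec Groth.Agent.Lib.Helper17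
open Groth.Agent.Lib.Helper7.TwFun Groth.Agent.Lib.Helper7.SurfSecA
open Groth.Agent.Lib.Helper7.SurfSecB Groth.Agent.Lib.Helper7.RegSecAmple

/-- elementary estimate. -/
theorem arith_bound (δ B c t : ℤ) (n : ℕ) (ht : 2 * t = (n : ℤ) * (n + 1))
    (hn : 2 * |δ| + |B| + |c| + 2 ≤ (n : ℤ)) : c < B + n * δ + t := by
  have h1 : -|δ| ≤ δ := neg_abs_le δ
  have h2 : -|B| ≤ B := neg_abs_le B
  have h3 : c ≤ |c| := le_abs_self c
  have h4 : 0 ≤ |δ| := abs_nonneg δ
  have h5 : 0 ≤ |B| := abs_nonneg B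
  have h6 : 0 ≤ |c| := abs_nonneg c
  have hn0 : (0 : ℤ) ≤ n := Int.natCast_nonneg n
  have h7 : (n : ℤ) * δ ≥ -((n : ℤ) * |δ|) := by nlinarith
  -- `2 t = n (n + 1) ≥ n (2|δ| + |B| + |c| + 3)`
  have h8 : (n : ℤ) * (n + 1) ≥ n * (2 * |δ| + |B| + |c| + 3) := by nlinarith
  have h9 : (n : ℤ) * (|B| + |c| + 3) ≥ 2 * (|B| + |c| + 1) + 1 := by nlinarith
  nlinarith

variable (k : Type u) [Field k] (X : Scheme.{u}) [X.Over (Spec (CommRingCat.of k))]
  [IsProper (X ↘ Spec (CommRingCat.of k))]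

/-- **sections of high powers**: on an integral proper surface, if `(N·N) > 0` and `(N·H) > 0` for
an ample `H`, then `H⁰(N^n) ≠ 0` for all large `n`. -/
theorem exists_sections [IsIntegral X] (hdim : topologicalKrullDim X = 2)
    (N N' : X.Modules) (hN : PicF.IsInvertible N)
    (eNN' : CohB1.tensorMod N N' ≅ Coh.structureModule X)
    (H H' : X.Modules) (hH : CohB1.IsAmple H)
    (eHH' : CohB1.tensorMod H H' ≅ Coh.structureModule X)
    (hNN : 0 < FGA.intNum k X 2 ![N', N'] (Coh.structureModule X))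
    (hNH : 0 < FGA.intNum k X 2 ![N', H'] (Coh.structureModule X)) :
    ∃ n₀ : ℕ, ∀ n : ℕ, n₀ ≤ n → Nontrivial (Coh.HH X (CohB1.tensorPow N n) 0) := by
  classical
  haveI : IsNoetherian X := isNoetherian_of_isProper k X
  haveI : CompactSpace X := T2.compactSpace_of_isProper k X
  have hX : topologicalKrullDim X = ((1 + 1 : ℕ) : WithBot ℕ∞) := by
    rw [hdim]
    norm_cast
  have hd : topologicalKrullDim X ≤ ((2 : ℕ) : WithBot ℕ∞) := hX.le
  have hHinv : PicF.IsInvertible H := hH.1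
  have hH' : PicF.IsInvertible H' := isInvertible_of_inverse hHinv ⟨eHH'⟩
  have hN' : PicF.IsInvertible N' := isInvertible_of_inverse hN ⟨eNN'⟩
  have hO := T2.isCoh_structureModule X
  have hsuppO : CohB1.support (Coh.structureModule X) = Set.univ :=
    support_invertible (isInvertible_structureModule X)
  have hdimO2 : topologicalKrullDim (CohB1.support (Coh.structureModule X)) =
      ((2 : ℕ) : WithBot ℕ∞) := by
    rw [hsuppO, (Homeomorph.Set.univ X).isHomeomorph.topologicalKrullDim_eq, hdim]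
    norm_cast
  -- `(H·H) > 0`
  have hHHpos : 0 < FGA.intNum k X 2 ![H', H'] (Coh.structureModule X) := by
    refine intNum_pos k X 2 hd 2 ![H, H] ![H', H'] ?_ ?_ _ hO hdimO2
    · intro i
      fin_cases i <;> exact hH
    · intro i
      fin_cases i <;> exact ⟨eHH'⟩
  -- the constants
  set c1 : ℤ := (Module.finrank k (Coh.HH X H' 2) : ℤ) with hc1
  set δN : ℤ := FGA.intNum k X 2 (fun _ : Fin 1 => N') (Coh.structureModule X) with hδN
  set δH : ℤ := FGA.intNum k X 2 (fun _ : Fin 1 => H') (Coh.structureModule X) with hδH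
  set NH : ℤ := FGA.intNum k X 2 ![N', H'] (Coh.structureModule X) with hNHdef
  set NN : ℤ := FGA.intNum k X 2 ![N', N'] (Coh.structureModule X) with hNNdef
  set HH : ℤ := FGA.intNum k X 2 ![H', H'] (Coh.structureModule X) with hHHdef
  set χO : ℤ := FGA.eulerCharLE k X (Coh.structureModule X) 2 with hχO
  -- lower bound for `χ(H^j)`
  have hlowH : ∀ j : ℕ, χO - δH ^ 2 ≤ FGA.eulerCharLE k X (CohB1.tensorPow H j) 2 := by
    intro j
    have h := euler_pow_pow k X hd H H' hHinv eHH' H H' hHinv eHH' j 0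
    have e0 : CohB1.tensorMod (CohB1.tensorPow H j) (CohB1.tensorPow H 0) ≅ CohB1.tensorPow H j :=
      SecTwist.unitorR _
    rw [eulerLE_iso k X e0] at h
    have h0 : FGA.eulerCharLE k X (CohB1.tensorPow H 0) 2 = χO := rfl
    rw [h0] at h
    have h2 := two_mul_choose_two j
    rw [h]
    simp only [Nat.cast_zero, zero_mul, add_zero]
    nlinarith [sq_nonneg ((j : ℤ) + δH), Int.natCast_nonneg j,
      Int.natCast_nonneg ((j + 1).choose 2)]
  -- lower bound for `χ(N^n ⊗ H^j)`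
  have hlow : ∀ n j : ℕ, χO - δH ^ 2 + (n : ℤ) * δN + (((n + 1).choose 2 : ℕ) : ℤ) ≤
      FGA.eulerCharLE k X (CohB1.tensorMod (CohB1.tensorPow N n) (CohB1.tensorPow H j)) 2 := by
    intro n j
    rw [euler_pow_pow k X hd N N' hN eNN' H H' hHinv eHH' n j]
    have h1 := hlowH j
    have h2 : (0 : ℤ) ≤ (n : ℤ) * ((j : ℤ) * NH) :=
      mul_nonneg (Int.natCast_nonneg n) (mul_nonneg (Int.natCast_nonneg j) hNH.le)
    have h3 : (((n + 1).choose 2 : ℕ) : ℤ) ≤ (((n + 1).choose 2 : ℕ) : ℤ) * NN := by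
      have : (0 : ℤ) ≤ (((n + 1).choose 2 : ℕ) : ℤ) := Int.natCast_nonneg _
      nlinarith
    nlinarith
  -- the threshold
  refine ⟨(2 * |δN| + |χO - δH ^ 2| + |c1| + 2).toNat, fun n hn => ?_⟩
  have hn' : 2 * |δN| + |χO - δH ^ 2| + |c1| + 2 ≤ (n : ℤ) := by
    have := Int.toNat_le.mp hn
    exact this
  by_contra hno
  haveI hsub : Subsingleton (Coh.HH X (CohB1.tensorPow N n) 0) :=
    not_nontrivial_iff_subsingleton.mp hno
  have hNn : PicF.IsInvertible (CohB1.tensorPow N n) := isInvertible_tensorPow hN n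
  obtain ⟨N₀, hN₀⟩ := exists_regular_section hH hNn (E := ∅) Set.finite_empty
  have hP : ∃ j : ℕ, Nontrivial (Coh.HH X
      (CohB1.tensorMod (CohB1.tensorPow N n) (CohB1.tensorPow H j)) 0) := by
    obtain ⟨s, hreg, -⟩ := hN₀ N₀ le_rfl
    exact ⟨N₀, nontrivial_H0_of_section _ s (ne_zero_of_isRegSec hreg)⟩
  have hj₀ := Nat.find_spec hP
  have hj₀pos : Nat.find hP ≠ 0 := by
    intro h0
    rw [h0] at hj₀
    apply hno
    have e0 : CohB1.tensorMod (CohB1.tensorPow N n) (CohB1.tensorPow H 0) ≅ CohB1.tensorPow N n :=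
      SecTwist.unitorR _
    exact (FBC.HmapEquivK k e0 0).symm.toEquiv.nontrivial
  obtain ⟨j₁, hj₁⟩ := Nat.exists_eq_succ_of_ne_zero hj₀pos
  have hmin : ¬ Nontrivial (Coh.HH X
      (CohB1.tensorMod (CohB1.tensorPow N n) (CohB1.tensorPow H j₁)) 0) :=
    Nat.find_min hP (by omega)
  rw [hj₁] at hj₀
  set G := CohB1.tensorMod (CohB1.tensorPow N n) (CohB1.tensorPow H (j₁ + 1)) with hGdef
  set L := CohB1.tensorMod (CohB1.tensorPow N n) (CohB1.tensorPow H j₁) with hLdef
  have hG : PicF.IsInvertible G := isInvertible_tensorMod hNn (isInvertible_tensorPow hHinv _)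
  obtain ⟨s, hs⟩ := exists_section_ne_zero X G hj₀
  obtain ⟨eGG'⟩ := Groth.Agent.Lib.Helper23.Inverse.tensor_dual_iso hG
  have h2 := finrank_H2_le k X hX G (Groth.Agent.Lib.Helper23.Inverse.dual G) hG
    (braid _ _ ≪≫ eGG') s hs H' hH'
  let eL : CohB1.tensorMod G H' ≅ L :=
    assoc (CohB1.tensorPow N n) (CohB1.tensorPow H (j₁ + 1)) H' ≪≫
      tensorMapIso (Iso.refl _)
        (assoc (CohB1.tensorPow H j₁) H H' ≪≫ tensorMapIso (Iso.refl _) eHH' ≪≫
          SecTwist.unitorR _)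
  rw [(FBC.HmapEquivK k eL 2).finrank_eq] at h2
  haveI : Subsingleton (Coh.HH X L 0) := not_nontrivial_iff_subsingleton.mp hmin
  have h0 : Module.finrank k (Coh.HH X L 0) = 0 := Module.finrank_zero_of_subsingleton
  have hχ : FGA.eulerCharLE k X L 2 ≤ c1 := by
    unfold FGA.eulerCharLE
    rw [Finset.sum_range_succ, Finset.sum_range_succ, Finset.sum_range_one, h0]
    have hh1 : (0 : ℤ) ≤ (Module.finrank k (Coh.HH X L 1) : ℤ) := Int.natCast_nonneg _
    have hh2 : (Module.finrank k (Coh.HH X L 2) : ℤ) ≤ c1 := by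
      rw [hc1]
      exact_mod_cast h2
    simp only [pow_zero, pow_one, Nat.cast_zero, mul_zero]
    nlinarith
  have hlow' := hlow n j₁
  have harith := arith_bound δN (χO - δH ^ 2) c1 (((n + 1).choose 2 : ℕ) : ℤ) n
    (two_mul_choose_two n) hn'
  linarith

end Groth.Agent.Lib.Helper7.SurfSecC
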