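import Mathlib
import Groth.Prelude
import Groth.Agent.Lib.Helper7.SurfSecC
import Groth.Agent.Lib.Helper3.GlobGen

/-!
# Helper library (helper7): the intersection pairing on an integral proper surface and the weak
Hodge index inequality.
-/

set_option autoImplicit false
set_option linter.unusedSectionVars false
set_option linter.style.haveILetI false
universe u
open CategoryTheory CategoryTheory.Limits AlgebraicGeometry Opposite
open Scheme.Modules

namespace Groth.Agent.Lib.Helper7.SurfIP

open Groth.Agent.Lib.Helper3 Groth.Agent.Lib.Helper3.InvMonoidal Groth.Agent.Lib.Helper3.InvTensor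
open Groth.Agent.Lib.Helper3.InvGen Groth.Agent.Lib.Helper3.QCSec Groth.Agent.Lib.Helper3.InvAmple
open Groth.Agent.Lib.Helper23 Groth.Agent.Lib.Helper23.Snap Groth.Agent.Lib.Helper23.HilbP
open Groth.Agent.Lib.Helper7.SnapAlt Groth.Agent.Lib.Helper7.SnapFGA
open Groth.Agent.Lib.Helper7.IntNumPos Groth.Agent.Lib.Helper7.IntNumDiv
open Groth.Agent.Lib.Helper7.SecDeg Groth.Agent.Lib.Helper7.HilbCoeff
open Groth.Agent.Lib.Helper7.SecDegB
open Groth.Agent.Lib.Helper7.SecDegC Groth.Agent.Lib.Helper7.RegSec Groth.Agent.Lib.Helper17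
open Groth.Agent.Lib.Helper7.SurfSecC

variable (k : Type u) [Field k] (X : Scheme.{u}) [X.Over (Spec (CommRingCat.of k))]
  [IsProper (X ↘ Spec (CommRingCat.of k))]

/-- the intersection pairing of two modules on a surface. -/
noncomputable def ip (A B : X.Modules) : ℤ :=
  FGA.intNum k X 2 ![A, B] (Coh.structureModule X)

theorem ip_eq (A B : X.Modules) :
    ip k X A B = FGA.intNum k X 2 (Fin.cons A (fun _ : Fin 1 => B) : Fin 2 → X.Modules)
      (Coh.structureModule X) := by
  unfold ip
  rw [vec2_eq]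

theorem ip_symm (A B : X.Modules) : ip k X A B = ip k X B A := by
  rw [ip_eq, ip_eq]
  exact intNum_swap2 k X 2 A B _

theorem ip_iso_left {A B : X.Modules} (e : A ≅ B) (C : X.Modules) :
    ip k X A C = ip k X B C := by
  rw [ip_eq, ip_eq]
  exact intNum_cons_iso k X 2 e _ _

theorem ip_iso_right (C : X.Modules) {A B : X.Modules} (e : A ≅ B) :
    ip k X C A = ip k X C B := by
  rw [ip_symm k X C A, ip_symm k X C B]
  exact ip_iso_left k X e C

section Dim

variable (hd : topologicalKrullDim X ≤ ((2 : ℕ) : WithBot ℕ∞))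
include hd

theorem ip_add_left {A B C : X.Modules} (hA : PicF.IsInvertible A) (hB : PicF.IsInvertible B)
    (hC : PicF.IsInvertible C) :
    ip k X (CohB1.tensorMod A B) C = ip k X A C + ip k X B C := by
  rw [ip_eq, ip_eq, ip_eq]
  exact intNum_add k X 2 hd (fun _ : Fin 1 => C) (fun _ => hC) A B hA hB _
    (T2.isCoh_structureModule X) (dim_support_le X 2 hd _)

theorem ip_add_right {A B C : X.Modules} (hA : PicF.IsInvertible A) (hB : PicF.IsInvertible B)
    (hC : PicF.IsInvertible C) :
    ip k X C (CohB1.tensorMod A B) = ip k X C A + ip k X C B := by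
  rw [ip_symm k X C _, ip_symm k X C A, ip_symm k X C B]
  exact ip_add_left k X hd hA hB hC

theorem ip_pow_left {A C : X.Modules} (hA : PicF.IsInvertible A) (hC : PicF.IsInvertible C)
    (n : ℕ) : ip k X (CohB1.tensorPow A n) C = (n : ℤ) * ip k X A C := by
  rw [ip_eq, ip_eq]
  exact intNum_cons_pow k X 2 hd (fun _ : Fin 1 => C) (fun _ => hC) A hA _
    (T2.isCoh_structureModule X) (dim_support_le X 2 hd _) n

theorem ip_pow_right {A C : X.Modules} (hA : PicF.IsInvertible A) (hC : PicF.IsInvertible C)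
    (n : ℕ) : ip k X C (CohB1.tensorPow A n) = (n : ℤ) * ip k X C A := by
  rw [ip_symm k X C _, ip_symm k X C A]
  exact ip_pow_left k X hd hA hC n

theorem ip_neg_left {A A' C : X.Modules} (hA : PicF.IsInvertible A)
    (e : CohB1.tensorMod A A' ≅ Coh.structureModule X) (hC : PicF.IsInvertible C) :
    ip k X A' C = - ip k X A C := by
  rw [ip_eq, ip_eq]
  have h := intNum_cons_neg k X 2 hd (fun _ : Fin 1 => C) (fun _ => hC) A A' hA
    (isInvertible_of_inverse hA ⟨e⟩) e _ (T2.isCoh_structureModule X) (dim_support_le X 2 hd _)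
  linarith

theorem ip_neg_right {A A' C : X.Modules} (hA : PicF.IsInvertible A)
    (e : CohB1.tensorMod A A' ≅ Coh.structureModule X) (hC : PicF.IsInvertible C) :
    ip k X C A' = - ip k X C A := by
  rw [ip_symm k X C A', ip_symm k X C A]
  exact ip_neg_left k X hd hA e hC

theorem ip_inv {A A' B B' : X.Modules} (hA : PicF.IsInvertible A)
    (eA : CohB1.tensorMod A A' ≅ Coh.structureModule X) (hB : PicF.IsInvertible B)
    (eB : CohB1.tensorMod B B' ≅ Coh.structureModule X) :
    ip k X A' B' = ip k X A B := by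
  rw [ip_neg_left k X hd hA eA (isInvertible_of_inverse hB ⟨eB⟩),
    ip_neg_right k X hd hB eB hA, neg_neg]

end Dim

/-- **weak Hodge index**: a class orthogonal to an ample class has nonpositive square. -/
theorem hodge_weak [IsIntegral X] (hdim : topologicalKrullDim X = 2)
    (H : X.Modules) (hH : CohB1.IsAmple H) (D : X.Modules) (hD : PicF.IsInvertible D)
    (h0 : ip k X D H = 0) : ip k X D D ≤ 0 := by
  haveI : CompactSpace X := T2.compactSpace_of_isProper k X
  haveI : QuasiSeparatedSpace X := T2.quasiSeparatedSpace_of_isProper k X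
  have hd : topologicalKrullDim X ≤ ((2 : ℕ) : WithBot ℕ∞) := by
    rw [hdim]
    norm_cast
  by_contra hpos
  push Not at hpos
  obtain ⟨n₀, -, hn₀⟩ := GlobGen.exists_isAmple_isSpanned_twist hH hD
  have hH₁ := (hn₀ n₀ le_rfl).1
  set H₁ := CohB1.tensorMod (CohB1.tensorPow H n₀) D with hH₁def
  obtain ⟨eD⟩ := Groth.Agent.Lib.Helper23.Inverse.tensor_dual_iso hD
  obtain ⟨eH⟩ := Groth.Agent.Lib.Helper23.Inverse.tensor_dual_iso hH.1
  obtain ⟨eH₁⟩ := Groth.Agent.Lib.Helper23.Inverse.tensor_dual_iso hH₁.1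
  have hHn : PicF.IsInvertible (CohB1.tensorPow H n₀) := isInvertible_tensorPow hH.1 n₀
  have h1 : ip k X D H₁ = ip k X D D := by
    rw [hH₁def, ip_add_right k X hd hHn hD hD, ip_pow_right k X hd hH.1 hD, h0]
    ring
  have hNN : 0 < FGA.intNum k X 2 ![Groth.Agent.Lib.Helper23.Inverse.dual D,
      Groth.Agent.Lib.Helper23.Inverse.dual D] (Coh.structureModule X) := by
    have := ip_inv k X hd hD eD hD eD
    unfold ip at this
    rw [this]
    exact hpos
  have hNH : 0 < FGA.intNum k X 2 ![Groth.Agent.Lib.Helper23.Inverse.dual D,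
      Groth.Agent.Lib.Helper23.Inverse.dual H₁] (Coh.structureModule X) := by
    have := ip_inv k X hd hD eD hH₁.1 eH₁
    unfold ip at this
    rw [this]
    have h2 := h1
    unfold ip at h2
    rw [h2]
    exact hpos
  obtain ⟨m₀, hm₀⟩ := exists_sections k X hdim D _ hD eD H₁ _ hH₁ eH₁ hNN hNH
  have h3 := main11752 k X hdim D _ hD ⟨eD⟩ hNN
    ⟨m₀ + 1, Nat.succ_pos _, hm₀ _ (Nat.le_succ _)⟩ H _ hH ⟨eH⟩
  have h4 := ip_inv k X hd hD eD hH.1 eH
  unfold ip at h4 h0
  rw [h4, h0] at h3
  exact lt_irrefl _ h3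

end Groth.Agent.Lib.Helper7.SurfIP
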