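import Mathlib
import Groth.Prelude
import Groth.Agent.Lib.Helper7.SurfIP

/-!
# Helper library (helper7): consequences of the weak Hodge index inequality on surfaces.
-/

set_option autoImplicit false
set_option linter.unusedSectionVars false
set_option linter.style.haveILetI false
universe u
open CategoryTheory CategoryTheory.Limits AlgebraicGeometry Opposite
open Scheme.Modules

namespace Groth.Agent.Lib.Helper7.SurfRows

open Groth.Agent.Lib.Helper3 Groth.Agent.Lib.Helper3.InvMonoidal Groth.Agent.Lib.Helper3.InvTensor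
open Groth.Agent.Lib.Helper3.InvGen Groth.Agent.Lib.Helper3.QCSec Groth.Agent.Lib.Helper3.InvAmple
open Groth.Agent.Lib.Helper23 Groth.Agent.Lib.Helper23.Snap Groth.Agent.Lib.Helper23.HilbP
open Groth.Agent.Lib.Helper7.SnapAlt Groth.Agent.Lib.Helper7.SnapFGA
open Groth.Agent.Lib.Helper7.IntNumPos Groth.Agent.Lib.Helper7.IntNumDiv
open Groth.Agent.Lib.Helper7.SecDeg Groth.Agent.Lib.Helper7.HilbCoeff
open Groth.Agent.Lib.Helper7.SecDegB
open Groth.Agent.Lib.Helper7.SecDegC Groth.Agent.Lib.Helper7.RegSec Groth.Agent.Lib.Helper17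
open Groth.Agent.Lib.Helper7.SurfSecC Groth.Agent.Lib.Helper7.SurfIP

variable (k : Type u) [Field k] (X : Scheme.{u}) [X.Over (Spec (CommRingCat.of k))]
  [IsProper (X ↘ Spec (CommRingCat.of k))]

/-- sections of high powers, in terms of the pairing of the modules themselves. -/
theorem sections_of_ip_pos [IsIntegral X] (hdim : topologicalKrullDim X = 2)
    (H : X.Modules) (hH : CohB1.IsAmple H) (L : X.Modules) (hL : PicF.IsInvertible L)
    (hLH : 0 < ip k X L H) (hLL : 0 < ip k X L L) :
    ∃ N : ℕ, ∀ n : ℕ, N ≤ n → Nontrivial (Coh.HH X (CohB1.tensorPow L n) 0) := by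
  have hd : topologicalKrullDim X ≤ ((2 : ℕ) : WithBot ℕ∞) := by
    rw [hdim]
    norm_cast
  obtain ⟨eL⟩ := Groth.Agent.Lib.Helper23.Inverse.tensor_dual_iso hL
  obtain ⟨eH⟩ := Groth.Agent.Lib.Helper23.Inverse.tensor_dual_iso hH.1
  refine exists_sections k X hdim L _ hL eL H _ hH eH ?_ ?_
  · have := ip_inv k X hd hL eL hL eL
    unfold ip at this hLL
    rw [this]
    exact hLL
  · have := ip_inv k X hd hL eL hH.1 eH
    unfold ip at this hLH
    rw [this]
    exact hLH

/-- positivity of the degree from sections. -/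
theorem ip_pos_of_sections [IsIntegral X] (hdim : topologicalKrullDim X = 2)
    (H : X.Modules) (hH : CohB1.IsAmple H) (L : X.Modules) (hL : PicF.IsInvertible L)
    (hLL : 0 < ip k X L L)
    (hsec : ∃ n : ℕ, 0 < n ∧ Nontrivial (Coh.HH X (CohB1.tensorPow L n) 0)) :
    0 < ip k X L H := by
  have hd : topologicalKrullDim X ≤ ((2 : ℕ) : WithBot ℕ∞) := by
    rw [hdim]
    norm_cast
  obtain ⟨eL⟩ := Groth.Agent.Lib.Helper23.Inverse.tensor_dual_iso hL
  obtain ⟨eH⟩ := Groth.Agent.Lib.Helper23.Inverse.tensor_dual_iso hH.1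
  have h1 := ip_inv k X hd hL eL hL eL
  have h2 := ip_inv k X hd hL eL hH.1 eH
  unfold ip at h1 h2 hLL ⊢
  rw [← h2]
  refine main11752 k X hdim L _ hL ⟨eL⟩ ?_ hsec H _ hH ⟨eH⟩
  rw [h1]
  exact hLL

/-- integer powers of an invertible module, given an inverse. -/
noncomputable def zpow (A A' : X.Modules) (z : ℤ) : X.Modules :=
  if 0 ≤ z then CohB1.tensorPow A z.toNat else CohB1.tensorPow A' (-z).toNat

theorem isInvertible_zpow {A A' : X.Modules} (hA : PicF.IsInvertible A)
    (hA' : PicF.IsInvertible A') (z : ℤ) : PicF.IsInvertible (zpow X A A' z) := by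
  unfold zpow
  split_ifs
  · exact isInvertible_tensorPow hA _
  · exact isInvertible_tensorPow hA' _

theorem ip_zpow_left (hd : topologicalKrullDim X ≤ ((2 : ℕ) : WithBot ℕ∞)) {A A' C : X.Modules}
    (hA : PicF.IsInvertible A) (e : CohB1.tensorMod A A' ≅ Coh.structureModule X)
    (hC : PicF.IsInvertible C) (z : ℤ) :
    ip k X (zpow X A A' z) C = z * ip k X A C := by
  have hA' : PicF.IsInvertible A' := isInvertible_of_inverse hA ⟨e⟩
  unfold zpow
  split_ifs with hz
  · rw [ip_pow_left k X hd hA hC, Int.toNat_of_nonneg hz]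
  · push Not at hz
    rw [ip_pow_left k X hd hA' hC, ip_neg_left k X hd hA e hC,
      Int.toNat_of_nonneg (by omega)]
    ring

theorem ip_zpow_right (hd : topologicalKrullDim X ≤ ((2 : ℕ) : WithBot ℕ∞)) {A A' C : X.Modules}
    (hA : PicF.IsInvertible A) (e : CohB1.tensorMod A A' ≅ Coh.structureModule X)
    (hC : PicF.IsInvertible C) (z : ℤ) :
    ip k X C (zpow X A A' z) = z * ip k X C A := by
  rw [ip_symm k X C _, ip_symm k X C A]
  exact ip_zpow_left k X hd hA e hC z

/-- the pairing of a combination `A^x ⊗ B^y` with `C`. -/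
theorem ip_comb_left (hd : topologicalKrullDim X ≤ ((2 : ℕ) : WithBot ℕ∞))
    {A A' B B' C : X.Modules} (hA : PicF.IsInvertible A)
    (eA : CohB1.tensorMod A A' ≅ Coh.structureModule X) (hB : PicF.IsInvertible B)
    (eB : CohB1.tensorMod B B' ≅ Coh.structureModule X) (hC : PicF.IsInvertible C) (x y : ℤ) :
    ip k X (CohB1.tensorMod (zpow X A A' x) (zpow X B B' y)) C =
      x * ip k X A C + y * ip k X B C := by
  have hA' : PicF.IsInvertible A' := isInvertible_of_inverse hA ⟨eA⟩
  have hB' : PicF.IsInvertible B' := isInvertible_of_inverse hB ⟨eB⟩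
  rw [ip_add_left k X hd (isInvertible_zpow X hA hA' x) (isInvertible_zpow X hB hB' y) hC,
    ip_zpow_left k X hd hA eA hC, ip_zpow_left k X hd hB eB hC]

/-- the square of a combination. -/
theorem ip_comb_self (hd : topologicalKrullDim X ≤ ((2 : ℕ) : WithBot ℕ∞))
    {A A' B B' : X.Modules} (hA : PicF.IsInvertible A)
    (eA : CohB1.tensorMod A A' ≅ Coh.structureModule X) (hB : PicF.IsInvertible B)
    (eB : CohB1.tensorMod B B' ≅ Coh.structureModule X) (x y : ℤ) :
    ip k X (CohB1.tensorMod (zpow X A A' x) (zpow X B B' y))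
        (CohB1.tensorMod (zpow X A A' x) (zpow X B B' y)) =
      x ^ 2 * ip k X A A + 2 * x * y * ip k X A B + y ^ 2 * ip k X B B := by
  have hA' : PicF.IsInvertible A' := isInvertible_of_inverse hA ⟨eA⟩
  have hB' : PicF.IsInvertible B' := isInvertible_of_inverse hB ⟨eB⟩
  have hP := isInvertible_zpow X hA hA' x
  have hQ := isInvertible_zpow X hB hB' y
  rw [ip_comb_left k X hd hA eA hB eB (isInvertible_tensorMod hP hQ),
    ip_add_right k X hd hP hQ hA, ip_add_right k X hd hP hQ hB,
    ip_zpow_right k X hd hA eA hA, ip_zpow_right k X hd hB eB hA,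
    ip_zpow_right k X hd hA eA hB, ip_zpow_right k X hd hB eB hB, ip_symm k X B A]
  ring

/-- **negative semi-definiteness on the orthogonal complement of a class of positive square**. -/
theorem hodge_orth [IsIntegral X] (hdim : topologicalKrullDim X = 2)
    (H : X.Modules) (hH : CohB1.IsAmple H) (L M : X.Modules) (hL : PicF.IsInvertible L)
    (hM : PicF.IsInvertible M) (hpos : 0 < ip k X L L) (horth : ip k X L M = 0) :
    ip k X M M ≤ 0 := by
  have hd : topologicalKrullDim X ≤ ((2 : ℕ) : WithBot ℕ∞) := by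
    rw [hdim]
    norm_cast
  obtain ⟨eL⟩ := Groth.Agent.Lib.Helper23.Inverse.tensor_dual_iso hL
  obtain ⟨eM⟩ := Groth.Agent.Lib.Helper23.Inverse.tensor_dual_iso hM
  have hL' := isInvertible_of_inverse hL ⟨eL⟩
  have hM' := isInvertible_of_inverse hM ⟨eM⟩
  by_contra hMM
  push Not at hMM
  set a := ip k X L H with ha
  set b := ip k X M H with hb
  have ha0 : a ≠ 0 := by
    intro h
    have := hodge_weak k X hdim H hH L hL h
    omega
  set D := CohB1.tensorMod (zpow X L _ b) (zpow X M _ (-a)) with hDdef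
  have hD : PicF.IsInvertible D :=
    isInvertible_tensorMod (isInvertible_zpow X hL hL' b) (isInvertible_zpow X hM hM' (-a))
  have h1 : ip k X D H = 0 := by
    rw [hDdef, ip_comb_left k X hd hL eL hM eM hH.1, ← ha, ← hb]
    ring
  have h2 : ip k X D D = b ^ 2 * ip k X L L + a ^ 2 * ip k X M M := by
    rw [hDdef, ip_comb_self k X hd hL eL hM eM, horth]
    ring
  have h3 := hodge_weak k X hdim H hH D hD h1
  rw [h2] at h3
  have h4 : 0 < a ^ 2 := by positivity
  nlinarith [sq_nonneg b, mul_pos h4 hMM, mul_nonneg (sq_nonneg b) hpos.le]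

/-- **the Hodge index inequality** `(D·D)(H·H) ≤ (D·H)²` for ample `H`. -/
theorem hodge_ineq [IsIntegral X] (hdim : topologicalKrullDim X = 2)
    (H : X.Modules) (hH : CohB1.IsAmple H) (D : X.Modules) (hD : PicF.IsInvertible D) :
    ip k X D D * ip k X H H ≤ ip k X D H ^ 2 := by
  have hd : topologicalKrullDim X ≤ ((2 : ℕ) : WithBot ℕ∞) := by
    rw [hdim]
    norm_cast
  obtain ⟨eD⟩ := Groth.Agent.Lib.Helper23.Inverse.tensor_dual_iso hD
  obtain ⟨eH⟩ := Groth.Agent.Lib.Helper23.Inverse.tensor_dual_iso hH.1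
  have hD' := isInvertible_of_inverse hD ⟨eD⟩
  have hH' := isInvertible_of_inverse hH.1 ⟨eH⟩
  -- `(H·H) > 0`
  have hO := T2.isCoh_structureModule X
  have hsuppO : CohB1.support (Coh.structureModule X) = Set.univ :=
    support_invertible (isInvertible_structureModule X)
  have hdimO2 : topologicalKrullDim (CohB1.support (Coh.structureModule X)) =
      ((2 : ℕ) : WithBot ℕ∞) := by
    rw [hsuppO, (Homeomorph.Set.univ X).isHomeomorph.topologicalKrullDim_eq, hdim]
    norm_cast
  have hHHpos : 0 < ip k X H H := by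
    rw [← ip_inv k X hd hH.1 eH hH.1 eH]
    unfold ip
    refine intNum_pos k X 2 hd 2 ![H, H] ![_, _] ?_ ?_ _ hO hdimO2
    · intro i
      fin_cases i <;> exact hH
    · intro i
      fin_cases i <;> exact ⟨eH⟩
  set h := ip k X H H with hh
  set a := ip k X D H with ha
  set E := CohB1.tensorMod (zpow X D _ h) (zpow X H _ (-a)) with hEdef
  have hE : PicF.IsInvertible E :=
    isInvertible_tensorMod (isInvertible_zpow X hD hD' h) (isInvertible_zpow X hH.1 hH' (-a))
  have h1 : ip k X E H = 0 := by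
    rw [hEdef, ip_comb_left k X hd hD eD hH.1 eH hH.1, ← ha, ← hh]
    ring
  have h2 : ip k X E E = h ^ 2 * ip k X D D + 2 * h * (-a) * a + (-a) ^ 2 * h := by
    rw [hEdef, ip_comb_self k X hd hD eD hH.1 eH, ← ha, ← hh]
  have h3 := hodge_weak k X hdim H hH E hE h1
  rw [h2] at h3
  have h4 : h * (h * ip k X D D - a ^ 2) ≤ 0 := by nlinarith
  have h5 : h * ip k X D D - a ^ 2 ≤ 0 := by
    by_contra hc
    push Not at hc
    have := mul_pos hHHpos hc
    omega
  nlinarith

end Groth.Agent.Lib.Helper7.SurfRows
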