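import Mathlib
import Groth.Prelude
import Groth.Agent.Lib.Helper7.SurfRows
import Groth.Agent.Lib.Helper7.NefCoh
import Groth.Agent.Lib.Helper7.GrowthC

/-!
# Helper library (helper7): nef modules orthogonal to a class of positive square (surfaces), I

* `ip_ideal` : `(O(-Z)·N) = χ(O_Z) − χ(O_Z ⊗ N)` for an effective Cartier divisor `Z`;
* `ip_nonneg_of_section` : a nef module has non-negative degree on every effective module;
* `ip_ample_eq_zero` : a nef module orthogonal to a module of positive square is orthogonal to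
  every ample module.
-/

set_option autoImplicit false
set_option linter.unusedSectionVars false
set_option linter.style.haveILetI false
universe u
open CategoryTheory CategoryTheory.Limits AlgebraicGeometry Opposite TopologicalSpace
open Scheme.Modules

namespace Groth.Agent.Lib.Helper7.NefTrivA

open Groth.Agent.Lib.Helper3 Groth.Agent.Lib.Helper3.InvMonoidal Groth.Agent.Lib.Helper3.InvTensor
open Groth.Agent.Lib.Helper3.InvGen
open Groth.Agent.Lib.Helper23 Groth.Agent.Lib.Helper23.Snap Groth.Agent.Lib.Helper23.HilbP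
open Groth.Agent.Lib.Helper7.SnapAlt Groth.Agent.Lib.Helper7.SnapFGA
open Groth.Agent.Lib.Helper7.IntNumPos Groth.Agent.Lib.Helper7.IntNumDiv
open Groth.Agent.Lib.Helper7.SecDeg Groth.Agent.Lib.Helper7.HilbCoeff
open Groth.Agent.Lib.Helper7.SecDegB
open Groth.Agent.Lib.Helper7.SecDegC Groth.Agent.Lib.Helper7.RegSec Groth.Agent.Lib.Helper17
open Groth.Agent.Lib.Helper7.SurfSecC Groth.Agent.Lib.Helper7.SurfIP
open Groth.Agent.Lib.Helper7.SurfRows Groth.Agent.Lib.Helper7.NefCoh
open Groth.Agent.Lib.Helper7.GrowthA Groth.Agent.Lib.Helper7.GrowthC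

variable (k : Type u) [Field k] (X : Scheme.{u}) [X.Over (Spec (CommRingCat.of k))]
  [IsProper (X ↘ Spec (CommRingCat.of k))]

/-- `(O(-Z)·N) = χ(O_Z) − χ(O_Z ⊗ N)`. -/
theorem ip_ideal (hd : topologicalKrullDim X ≤ ((2 : ℕ) : WithBot ℕ∞)) (Z : X.IdealSheafData)
    (hI : PicF.IsInvertible (ClSub.idealMod Z)) (N : X.Modules) (hN : PicF.IsInvertible N) :
    ip k X (ClSub.idealMod Z) N =
      Curv2.euler k X (ClSub.quotMod Z) -
        Curv2.euler k X (CohB1.tensorMod (ClSub.quotMod Z) N) := by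
  rw [ip_eq, intNum_cons_ideal k X 2 hd (fun _ : Fin 1 => N) (fun _ => hN) Z hI,
    intNum_one k X 2 hd]

/-- the support of an effective Cartier divisor on a surface has dimension at most one. -/
theorem dim_support_quotMod_le (hdim : topologicalKrullDim X = 2) (Z : X.IdealSheafData)
    (hZ : BlowUp.IsEffCartierIdeal Z) :
    topologicalKrullDim ↥(CohB1.support (ClSub.quotMod Z)) ≤ ((1 : ℕ) : WithBot ℕ∞) := by
  have hX : topologicalKrullDim X = ((1 + 1 : ℕ) : WithBot ℕ∞) := by
    rw [hdim]
    norm_cast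
  rw [DevTest.support_A]
  exact le_of_lt_succ_dim (dim_support_lt Z hZ 1 hX)

/-- a nef module has non-positive pairing with the ideal of an effective Cartier divisor. -/
theorem ip_ideal_nonpos (hdim : topologicalKrullDim X = 2) (Z : X.IdealSheafData)
    (hZ : BlowUp.IsEffCartierIdeal Z) (N : X.Modules) (hN : PicF.IsInvertible N)
    (hnef : ∀ Γ : X.IdealSheafData, IsIntegral Γ.subscheme →
      topologicalKrullDim (Γ.support : Set X) = 1 →
        0 ≤ Curv2.euler k X (CohB1.tensorMod (ClSub.quotMod Γ) N) -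
          Curv2.euler k X (ClSub.quotMod Γ)) :
    ip k X (ClSub.idealMod Z) N ≤ 0 := by
  have hd : topologicalKrullDim X ≤ ((2 : ℕ) : WithBot ℕ∞) := by
    rw [hdim]
    norm_cast
  have hI := (EffCartMod.isInvertible_idealMod_iff Z).mpr hZ
  rw [ip_ideal k X hd Z hI N hN]
  have := nef_coh k X 2 hd N hN hnef (ClSub.quotMod Z) (EffCart.isCoh_quotMod Z)
    (dim_support_quotMod_le X hdim Z hZ)
  linarith

/-- a nef module has non-negative degree on every module with a nonzero section. -/
theorem ip_nonneg_of_section [IsIntegral X] (hdim : topologicalKrullDim X = 2)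
    (E : X.Modules) (hE : PicF.IsInvertible E) (s : Coh.structureModule X ⟶ E) (hs : s ≠ 0)
    (N : X.Modules) (hN : PicF.IsInvertible N)
    (hnef : ∀ Γ : X.IdealSheafData, IsIntegral Γ.subscheme →
      topologicalKrullDim (Γ.support : Set X) = 1 →
        0 ≤ Curv2.euler k X (CohB1.tensorMod (ClSub.quotMod Γ) N) -
          Curv2.euler k X (ClSub.quotMod Γ)) :
    0 ≤ ip k X E N := by
  have hd : topologicalKrullDim X ≤ ((2 : ℕ) : WithBot ℕ∞) := by
    rw [hdim]
    norm_cast
  obtain ⟨eE⟩ := Groth.Agent.Lib.Helper23.Inverse.tensor_dual_iso hE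
  have hE' := isInvertible_of_inverse hE ⟨eE⟩
  haveI : (Groth.Agent.Lib.Helper23.Inverse.dual E).IsQuasicoherent :=
    InvCoh.isQuasicoherent_of_isInvertible hE'
  have hreg := isRegSec_of_ne_zero hE s hs
  have hZ := isEffCartierIdeal_zeroDiv (braid _ _ ≪≫ eE) hreg
  obtain ⟨eI⟩ := idealMod_zeroDiv_iso (braid _ _ ≪≫ eE) hreg
  have h1 := ip_ideal_nonpos k X hdim _ hZ N hN hnef
  rw [← ip_iso_left k X eI N, ip_neg_left k X hd hE eE hN] at h1
  linarith

/-- a nef module has non-negative degree on an ample module. -/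
theorem ip_ample_nonneg [IsIntegral X] (hdim : topologicalKrullDim X = 2)
    (H : X.Modules) (hH : CohB1.IsAmple H)
    (N : X.Modules) (hN : PicF.IsInvertible N)
    (hnef : ∀ Γ : X.IdealSheafData, IsIntegral Γ.subscheme →
      topologicalKrullDim (Γ.support : Set X) = 1 →
        0 ≤ Curv2.euler k X (CohB1.tensorMod (ClSub.quotMod Γ) N) -
          Curv2.euler k X (ClSub.quotMod Γ)) :
    0 ≤ ip k X H N := by
  haveI : IsNoetherian X := isNoetherian_of_isProper k X
  have hd : topologicalKrullDim X ≤ ((2 : ℕ) : WithBot ℕ∞) := by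
    rw [hdim]
    norm_cast
  have hO : PicF.IsInvertible (Coh.structureModule X) := isInvertible_structureModule X
  obtain ⟨n₀, hn₀⟩ := exists_section_twist k X hH _ hO
  have hpos := hn₀ (n₀ + 1) (Nat.le_succ n₀)
  rw [(FBC.HmapEquivK k (unitorL (CohB1.tensorPow H (n₀ + 1))) 0).finrank_eq] at hpos
  have hinv : PicF.IsInvertible (CohB1.tensorPow H (n₀ + 1)) := isInvertible_tensorPow hH.1 _
  obtain ⟨s, hs⟩ := exists_section_of_pos k X _
    ⟨InvCoh.isQuasicoherent_of_isInvertible hinv, InvCoh.isFiniteType_of_isInvertible hinv⟩ hpos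
  have h1 := ip_nonneg_of_section k X hdim _ hinv s hs N hN hnef
  rw [ip_pow_left k X hd hH.1 hN] at h1
  have hn : (0 : ℤ) < ((n₀ + 1 : ℕ) : ℤ) := by positivity
  exact nonneg_of_mul_nonneg_right h1 hn

/-- a nef module orthogonal to a module of positive square is orthogonal to ample modules. -/
theorem ip_ample_eq_zero [IsIntegral X] (hdim : topologicalKrullDim X = 2)
    (H : X.Modules) (hH : CohB1.IsAmple H)
    (D : X.Modules) (hD : PicF.IsInvertible D) (hDD : 0 < ip k X D D)
    (N : X.Modules) (hN : PicF.IsInvertible N) (hDN : ip k X D N = 0)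
    (hnef : ∀ Γ : X.IdealSheafData, IsIntegral Γ.subscheme →
      topologicalKrullDim (Γ.support : Set X) = 1 →
        0 ≤ Curv2.euler k X (CohB1.tensorMod (ClSub.quotMod Γ) N) -
          Curv2.euler k X (ClSub.quotMod Γ)) :
    ip k X H N = 0 := by
  haveI : IsNoetherian X := isNoetherian_of_isProper k X
  have hd : topologicalKrullDim X ≤ ((2 : ℕ) : WithBot ℕ∞) := by
    rw [hdim]
    norm_cast
  have hge := ip_ample_nonneg k X hdim H hH N hN hnef
  obtain ⟨eD⟩ := Groth.Agent.Lib.Helper23.Inverse.tensor_dual_iso hD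
  obtain ⟨eH⟩ := Groth.Agent.Lib.Helper23.Inverse.tensor_dual_iso hH.1
  have hD' := isInvertible_of_inverse hD ⟨eD⟩
  have hH' := isInvertible_of_inverse hH.1 ⟨eH⟩
  -- `H² > 0`
  have hO := T2.isCoh_structureModule X
  have hsuppO : CohB1.support (Coh.structureModule X) = Set.univ :=
    support_invertible (isInvertible_structureModule X)
  have hdimO2 : topologicalKrullDim (CohB1.support (Coh.structureModule X)) =
      ((2 : ℕ) : WithBot ℕ∞) := by
    rw [hsuppO, (Homeomorph.Set.univ X).isHomeomorph.topologicalKrullDim_eq, hdim]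
    norm_cast
  have hHH' : 0 < ip k X (Groth.Agent.Lib.Helper23.Inverse.dual H)
      (Groth.Agent.Lib.Helper23.Inverse.dual H) := by
    refine intNum_pos k X 2 hd 2 ![H, H] ![_, _] ?_ ?_ _ hO hdimO2
    · intro i
      fin_cases i <;> exact hH
    · intro i
      fin_cases i <;> exact ⟨eH⟩
  have hHH : 0 < ip k X H H := by
    rw [← ip_inv k X hd hH.1 eH hH.1 eH]
    exact hHH'
  -- `D·H ≠ 0`
  have hDH : ip k X D H ≠ 0 := by
    intro h0
    have := hodge_orth k X hdim H hH D H hD hH.1 hDD h0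
    linarith
  set a := ip k X D D with ha
  set b := ip k X D H with hb
  set c := ip k X H H with hc
  -- the module `M = x D − H` with `x = b (c + 2)`
  set x : ℤ := b * (c + 2) with hx
  set M := CohB1.tensorMod (zpow X D (Groth.Agent.Lib.Helper23.Inverse.dual D) x)
    (zpow X H (Groth.Agent.Lib.Helper23.Inverse.dual H) (-1)) with hMdef
  have hM : PicF.IsInvertible M :=
    isInvertible_tensorMod (isInvertible_zpow X hD hD' x) (isInvertible_zpow X hH.1 hH' (-1))
  have hMH : ip k X M H = x * b + (-1) * c :=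
    ip_comb_left k X hd hD eD hH.1 eH hH.1 x (-1)
  have hMM : ip k X M M = x ^ 2 * a + 2 * x * (-1) * b + (-1) ^ 2 * c :=
    ip_comb_self k X hd hD eD hH.1 eH x (-1)
  have hMN : ip k X M N = x * ip k X D N + (-1) * ip k X H N :=
    ip_comb_left k X hd hD eD hH.1 eH hN x (-1)
  have hb2 : 1 ≤ b ^ 2 := by
    have : 0 < b ^ 2 := by positivity
    linarith
  have hMHpos : 0 < ip k X M H := by
    rw [hMH, hx]
    nlinarith
  have hMMpos : 0 < ip k X M M := by
    rw [hMM, hx]
    have h1 : b ^ 2 * (c + 2) ^ 2 ≤ (b * (c + 2)) ^ 2 * a := by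
      have : 0 ≤ (b * (c + 2)) ^ 2 := by positivity
      nlinarith
    nlinarith
  obtain ⟨N₀, hN₀⟩ := sections_of_ip_pos k X hdim H hH M hM hMHpos hMMpos
  have hnt := hN₀ (N₀ + 1) (Nat.le_succ N₀)
  obtain ⟨s, hs⟩ := exists_section_ne_zero X _ hnt
  have h1 := ip_nonneg_of_section k X hdim _ (isInvertible_tensorPow hM (N₀ + 1)) s hs N hN hnef
  rw [ip_pow_left k X hd hM hN, hMN, hDN] at h1
  have hn : (0 : ℤ) < ((N₀ + 1 : ℕ) : ℤ) := by positivity
  have h2 := nonneg_of_mul_nonneg_right h1 hn
  linarith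

end Groth.Agent.Lib.Helper7.NefTrivA
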