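import Mathlib
import Groth.Prelude
import Groth.Agent.Lib.Helper12.SchemeDimFT3

/-!
# Helper library (helper7): through a closed point of an integral scheme of finite type over a
field, outside a given nonempty open, there passes an integral curve meeting the open.
-/

set_option autoImplicit false
set_option linter.unusedSectionVars false
set_option linter.style.haveILetI false
universe u
open CategoryTheory CategoryTheory.Limits AlgebraicGeometry Opposite

namespace Groth.Agent.Lib.Helper7.CurvePt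

section Alg

/-- in a noetherian domain, below a prime of height at least two there is a nonzero prime avoiding
a given nonzero element. -/
theorem exists_prime_notMem {A : Type*} [CommRing A] [IsNoetherianRing A] [IsDomain A]
    (p P : Ideal A) [p.IsPrime] [P.IsPrime] (hP0 : P ≠ ⊥) (hPp : P < p)
    (c : A) (hc : c ≠ 0) : ∃ w : Ideal A, w.IsPrime ∧ w ≠ ⊥ ∧ w ≤ p ∧ c ∉ w := by
  classical
  have hfin := Ideal.finite_minimalPrimes_of_isNoetherianRing A (Ideal.span {c})
  have hht : ∀ Q ∈ (Ideal.span {c}).minimalPrimes, Q.height ≤ 1 := fun Q hQ =>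
    Ideal.height_le_one_of_isPrincipal_of_mem_minimalPrimes (Ideal.span {c}) Q hQ
  have hpos : ∀ Q : Ideal A, Q.IsPrime → Q ≠ ⊥ → 1 ≤ Q.height := by
    intro Q hQ hQ0
    haveI := hQ
    rw [Order.one_le_iff_pos, pos_iff_ne_zero]
    intro h0
    exact hQ0 (Ideal.height_eq_zero_iff_eq_bot.mp h0)
  have hPht : 1 ≤ P.height := hpos P inferInstance hP0
  set s : Finset (Ideal A) := insert ⊥ hfin.toFinset with hs
  have hprime : ∀ i ∈ s, i ≠ ⊥ → i ≠ ⊥ → ((id i : Ideal A)).IsPrime := by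
    intro i hi _ _
    rcases Finset.mem_insert.mp hi with rfl | hi
    · exact Ideal.isPrime_bot
    · exact ((Set.Finite.mem_toFinset hfin).mp hi).1.1
  have hnot : ¬ ((p : Set A) ⊆ ⋃ i ∈ (↑s : Set (Ideal A)), ((id i : Ideal A) : Set A)) := by
    rw [Ideal.subset_union_prime ⊥ ⊥ hprime]
    rintro ⟨i, hi, hpi⟩
    rcases Finset.mem_insert.mp hi with rfl | hi
    · exact hP0 (le_bot_iff.mp (hPp.le.trans hpi))
    · have hQ := (Set.Finite.mem_toFinset hfin).mp hi
      haveI : i.IsPrime := hQ.1.1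
      have h1 : P < i := lt_of_lt_of_le hPp hpi
      have h2 := Ideal.height_add_one_le_of_lt_of_isPrime h1
      have h3 : (1 : ℕ∞) + 1 ≤ 1 := (add_le_add hPht le_rfl).trans (h2.trans (hht i hQ))
      exact absurd h3 (by decide)
  obtain ⟨g, hgp, hg⟩ := Set.not_subset.mp hnot
  have hg' : ∀ i ∈ s, g ∉ i := by
    intro i hi hgi
    apply hg
    exact Set.mem_iUnion₂.mpr ⟨i, Finset.mem_coe.mpr hi, hgi⟩
  have hg0 : g ≠ 0 := by
    intro h
    exact hg' ⊥ (Finset.mem_insert_self _ _) (h ▸ Ideal.zero_mem _)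
  obtain ⟨w, hw, hwp⟩ := Ideal.exists_minimalPrimes_le (I := Ideal.span {g}) (J := p)
    (by rw [Ideal.span_singleton_le_iff_mem]; exact hgp)
  haveI hwprime : w.IsPrime := hw.1.1
  have hgw : g ∈ w := hw.1.2 (Ideal.subset_span (Set.mem_singleton g))
  have hwht : w.height ≤ 1 :=
    Ideal.height_le_one_of_isPrincipal_of_mem_minimalPrimes (Ideal.span {g}) w hw
  refine ⟨w, hwprime, ?_, hwp, ?_⟩
  · intro h
    rw [h] at hgw
    exact hg0 (Ideal.mem_bot.mp hgw)
  · intro hcw
    obtain ⟨Q, hQ, hQw⟩ := Ideal.exists_minimalPrimes_le (I := Ideal.span {c}) (J := w)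
      (by rw [Ideal.span_singleton_le_iff_mem]; exact hcw)
    haveI : Q.IsPrime := hQ.1.1
    have hcQ : c ∈ Q := hQ.1.2 (Ideal.subset_span (Set.mem_singleton c))
    have hQ0 : Q ≠ ⊥ := by
      intro h
      rw [h] at hcQ
      exact hc (Ideal.mem_bot.mp hcQ)
    have hQmem : Q ∈ s := Finset.mem_insert_of_mem ((Set.Finite.mem_toFinset hfin).mpr hQ)
    rcases eq_or_lt_of_le hQw with heq | hlt
    · exact hg' Q hQmem (heq ▸ hgw)
    · have h2 := Ideal.height_add_one_le_of_lt_of_isPrime hlt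
      have h3 : (1 : ℕ∞) + 1 ≤ 1 :=
        (add_le_add (hpos Q inferInstance hQ0) le_rfl).trans (h2.trans hwht)
      exact absurd h3 (by decide)

/-- in a noetherian domain, a prime containing a nonzero element `c` covers a prime not
containing `c`. -/
theorem exists_covBy_notMem {R : Type*} [CommRing R] [IsNoetherianRing R] [IsDomain R]
    (p : Ideal R) [p.IsPrime] (c : R) (hc0 : c ≠ 0) (hcp : c ∈ p) :
    ∃ q : Ideal R, q.IsPrime ∧ q < p ∧ c ∉ q ∧
      ∀ q' : Ideal R, q'.IsPrime → q < q' → q' ≤ p → q' = p := by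
  let S : Set (Ideal R) := {I | I.IsPrime ∧ I ≤ p ∧ c ∉ I}
  have hne : S.Nonempty := ⟨⊥, Ideal.isPrime_bot, bot_le, fun h => hc0 (Ideal.mem_bot.mp h)⟩
  obtain ⟨q, hqS, hqmax⟩ := WellFounded.has_min (wellFounded_gt (α := Ideal R)) S hne
  obtain ⟨hqprime, hqp, hcq⟩ := hqS
  haveI := hqprime
  have hqlt : q < p := lt_of_le_of_ne hqp (fun h => hcq (h ▸ hcp))
  refine ⟨q, hqprime, hqlt, hcq, ?_⟩
  intro P hPprime hqP hPp
  by_contra hne'
  have hPlt : P < p := lt_of_le_of_ne hPp hne'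
  haveI := hPprime
  let π := Ideal.Quotient.mk q
  have hsurj : Function.Surjective π := Ideal.Quotient.mk_surjective
  have hker : RingHom.ker π = q := Ideal.mk_ker
  have hcomap : ∀ I : Ideal R, q ≤ I → Ideal.comap π (Ideal.map π I) = I := by
    intro I hI
    rw [Ideal.comap_map_of_surjective π hsurj, ← RingHom.ker_eq_comap_bot, hker,
      sup_eq_left.mpr hI]
  haveI : (Ideal.map π p).IsPrime :=
    Ideal.map_isPrime_of_surjective hsurj (by rw [hker]; exact hqp)
  haveI : (Ideal.map π P).IsPrime :=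
    Ideal.map_isPrime_of_surjective hsurj (by rw [hker]; exact hqP.le)
  have hP0 : Ideal.map π P ≠ ⊥ := by
    intro h
    have h1 := hcomap P hqP.le
    rw [h, ← RingHom.ker_eq_comap_bot, hker] at h1
    exact hqP.ne h1
  have hPp' : Ideal.map π P < Ideal.map π p := by
    refine lt_of_le_of_ne (Ideal.map_mono hPlt.le) ?_
    intro h
    have h1 := hcomap P hqP.le
    rw [h, hcomap p hqp] at h1
    exact hPlt.ne h1.symm
  have hc' : π c ≠ 0 := fun h => hcq (Ideal.Quotient.eq_zero_iff_mem.mp h)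
  obtain ⟨w, hwprime, hw0, hwp, hcw⟩ :=
    exists_prime_notMem (Ideal.map π p) (Ideal.map π P) hP0 hPp' (π c) hc'
  haveI := hwprime
  have hW : Ideal.comap π w ∈ S := by
    refine ⟨Ideal.comap_isPrime π w, ?_, fun h => hcw (Ideal.mem_comap.mp h)⟩
    have h1 := Ideal.comap_mono (f := π) hwp
    rwa [hcomap p hqp] at h1
  apply hqmax _ hW
  show q < Ideal.comap π w
  refine lt_of_le_of_ne ?_ ?_
  · have h1 : Ideal.comap π ⊥ ≤ Ideal.comap π w := Ideal.comap_mono bot_le
    rwa [← RingHom.ker_eq_comap_bot, hker] at h1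
  · intro h
    apply hw0
    have h1 := Ideal.map_comap_of_surjective π hsurj w
    rw [← h] at h1
    rw [← h1]
    exact Ideal.map_quotient_self q

end Alg

section Geom

open Groth.Agent.Lib.Helper12 Groth.Agent.Lib.Helper12.SchemeDimFT

attribute [local instance] Curv2.resAlgebra

variable (k : Type u) [Field k] (X : Scheme.{u}) [X.Over (Spec (CommRingCat.of k))]
  [LocallyOfFiniteType (X ↘ Spec (CommRingCat.of k))] [IsIntegral X]

include k in
/-- through a closed point outside a nonempty open there passes a curve meeting the open. -/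
theorem exists_curvePoint (x : X) (hx : IsClosed ({x} : Set X)) (V : X.Opens)
    (hV : (V : Set X).Nonempty) (hxV : x ∉ V) :
    ∃ y : X, y ∈ V ∧ y ⤳ x ∧ tr k X y = 1 := by
  obtain ⟨U, hU, hxU⟩ := exists_affineOpen_mem X x
  haveI : Nonempty U := ⟨⟨x, hxU⟩⟩
  haveI : IsDomain Γ(X, U) := inferInstance
  letI := secAlgebra k X U
  haveI := finiteType_sec k X U hU
  haveI : IsNoetherianRing Γ(X, U) := Algebra.FiniteType.isNoetherianRing k _
  set η := genericPoint X with hη
  have hηsp : ∀ z : X, η ⤳ z := fun z => (genericPoint_spec X).specializes (Set.mem_univ z)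
  obtain ⟨v, hv⟩ := hV
  have hηV : η ∈ V := (hηsp v).mem_open V.2 hv
  have hηU : η ∈ U := (hηsp x).mem_open U.2 hxU
  obtain ⟨c, hcle, hηc⟩ := hU.exists_basicOpen_le (V := V ⊓ U) ⟨η, hηV, hηU⟩ hηU
  have hc0 : c ≠ 0 := by
    rintro rfl
    rw [Scheme.basicOpen_zero] at hηc
    exact hηc
  let p := hU.primeIdealOf ⟨x, hxU⟩
  have hp : hU.fromSpec p = x := hU.fromSpec_primeIdealOf ⟨x, hxU⟩
  have hcp : c ∈ p.asIdeal := by
    by_contra hnot
    apply hxV
    have h3 : p ∈ PrimeSpectrum.basicOpen c := hnot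
    rw [← hU.fromSpec_preimage_basicOpen] at h3
    have h4 : hU.fromSpec p ∈ X.basicOpen c := h3
    rw [hp] at h4
    exact (hcle h4).1
  obtain ⟨q, hqprime, hqp, hcq, hcov⟩ := exists_covBy_notMem p.asIdeal c hc0 hcp
  obtain ⟨ξ, hξ⟩ := exists_primeIdealOf_eq hU ⟨q, hqprime⟩
  have hξspec : hU.fromSpec (hU.primeIdealOf ξ) = (ξ : X) := hU.fromSpec_primeIdealOf ξ
  have hξc : (ξ : X) ∈ X.basicOpen c := by
    have h3 : hU.primeIdealOf ξ ∈ PrimeSpectrum.basicOpen c := by
      rw [hξ]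
      exact hcq
    rw [← hU.fromSpec_preimage_basicOpen] at h3
    have h4 : hU.fromSpec (hU.primeIdealOf ξ) ∈ X.basicOpen c := h3
    rwa [hξspec] at h4
  have hle : hU.primeIdealOf ξ ≤ p := by
    rw [hξ]
    exact hqp.le
  have hsp : (ξ : X) ⤳ x := (primeIdealOf_le_iff hU ξ ⟨x, hxU⟩).mp hle
  have hne : (ξ : X) ≠ x := by
    intro h
    have h2 : ξ = ⟨x, hxU⟩ := Subtype.ext h
    rw [h2] at hξ
    have h3 : p.asIdeal = q := congrArg PrimeSpectrum.asIdeal hξ
    exact hqp.ne h3.symm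
  refine ⟨ξ, (hcle hξc).1, hsp, ?_⟩
  have himm : ∀ z : X, (ξ : X) ⤳ z → z ⤳ x → z = ξ ∨ z = x := by
    intro z hξz hzx
    have hzU : z ∈ U := hzx.mem_open U.2 hxU
    have h1 : hU.primeIdealOf ξ ≤ hU.primeIdealOf ⟨z, hzU⟩ :=
      (primeIdealOf_le_iff hU ξ ⟨z, hzU⟩).mpr hξz
    have h2 : hU.primeIdealOf ⟨z, hzU⟩ ≤ p := (primeIdealOf_le_iff hU ⟨z, hzU⟩ ⟨x, hxU⟩).mpr hzx
    by_cases heq : hU.primeIdealOf ξ = hU.primeIdealOf ⟨z, hzU⟩
    · left
      have h3 : z ⤳ (ξ : X) := (primeIdealOf_le_iff hU ⟨z, hzU⟩ ξ).mp (le_of_eq heq.symm)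
      exact (h3.antisymm hξz).eq
    · right
      have hlt : q < (hU.primeIdealOf ⟨z, hzU⟩).asIdeal := by
        have h3 : hU.primeIdealOf ξ < hU.primeIdealOf ⟨z, hzU⟩ := lt_of_le_of_ne h1 heq
        rw [hξ] at h3
        exact h3
      have h4 := hcov _ (hU.primeIdealOf ⟨z, hzU⟩).isPrime hlt h2
      have h5 : hU.primeIdealOf ⟨z, hzU⟩ = p := PrimeSpectrum.ext h4
      have h6 : z ⤳ x := hzx
      have h7 : x ⤳ z := (primeIdealOf_le_iff hU ⟨x, hxU⟩ ⟨z, hzU⟩).mp (le_of_eq h5.symm)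
      exact (h6.antisymm h7).eq
  have h0 : Algebra.trdeg k (X.residueField x) = ((0 : ℕ) : Cardinal.{u}) := by
    rw [tr_spec k X x, tr_eq_zero_of_isClosed k X x hx]
  have h1 := trdeg_eq_add_one_of_covBy k X ξ x hne hsp himm 0 h0
  have h2 : ((tr k X ξ : ℕ) : Cardinal.{u}) = ((0 + 1 : ℕ) : Cardinal.{u}) :=
    (tr_spec k X ξ).symm.trans h1
  exact_mod_cast h2

end Geom

end Groth.Agent.Lib.Helper7.CurvePt
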