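import Groth.Agent.Lib.Helper7.RankTwoB
import Groth.Agent.Lib.Helper7.LerayNat

/-!
# RankTwoC: a normalized rank two module with two independent sections has degree zero
-/
set_option autoImplicit false
set_option linter.style.haveILetI false
universe u
open CategoryTheory CategoryTheory.Limits AlgebraicGeometry TopologicalSpace Opposite
open Scheme.Modules

noncomputable section

namespace Groth.Agent.Lib.Helper7.RankTwo

open Groth.Agent.Lib.Helper3 Groth.Agent.Lib.Helper3.QCSec Groth.Agent.Lib.Helper3.InvGen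
  Groth.Agent.Lib.Helper3.IdealMod Groth.Agent.Lib.Helper3.InvMonoidal
  Groth.Agent.Lib.Helper3.InvTensor Groth.Agent.Lib.Helper7.TwFun
open Groth.Agent.Lib.Helper23.T2 Groth.Agent.Lib.Helper23.Curve Groth.Agent.Lib.Helper23.Twist
  Groth.Agent.Lib.Helper23.TwE Groth.Agent.Lib.Helper23.EffCart Groth.Agent.Lib.Helper23.Inverse
  Groth.Agent.Lib.Helper7.CurvePair Groth.Agent.Lib.Helper23 Groth.Agent.Lib.Helper7.PtDiv
  Groth.Agent.Lib.Helper13.SerreCrit1 Groth.Agent.Lib.Helper7.CohFinite

variable {X : Scheme.{u}}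

/-- naturality of the connecting homomorphism -/
theorem Hδ_naturality {S S' : ShortComplex X.Modules} (hS : S.ShortExact) (hS' : S'.ShortExact)
    (φ : S ⟶ S') (n : ℕ) (x : Coh.HH X S.X₃ n) :
    Hmap φ.τ₁ (n + 1) (Hδ S hS n x) = Hδ S' hS' n (Hmap φ.τ₃ n x) :=
  Groth.Agent.Lib.Helper7.LerayNat.extδ_naturality (shortExact_map_toSheaf S hS)
    (shortExact_map_toSheaf S' hS') ((TT X).mapShortComplex.map φ) _ n (n + 1) rfl x

/-- the natural map `F ⊗ I ⟶ F` -/
def nuJ (I : X.IdealSheafData) (F : X.Modules) : CohB1.tensorMod F (ClSub.idealMod I) ⟶ F :=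
  (braid F (ClSub.idealMod I)).hom ≫ jmap I F

theorem nuJ_tm (I : X.IdealSheafData) (F : X.Modules) (U : X.Opens) (m : Γ(F, U))
    (t : Γ(ClSub.idealMod I, U)) :
    (nuJ I F).app U (tm F (ClSub.idealMod I) U m t) = val I t • m := by
  change (jmap I F).app U ((braid F (ClSub.idealMod I)).hom.app U (tm F _ U m t)) = _
  rw [braid_hom_tm, jmap_tm]

theorem nuJ_naturality (I : X.IdealSheafData) {F F' : X.Modules} (f : F ⟶ F') :
    (twR (ClSub.idealMod I)).map f ≫ nuJ I F' = nuJ I F ≫ f := by
  apply tensor_hom_ext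
  intro U m t
  change (nuJ I F').app U (((twR (ClSub.idealMod I)).map f).app U (tm F _ U m t)) =
    f.app U ((nuJ I F).app U (tm F _ U m t))
  rw [tw_app_tm, nuJ_tm, nuJ_tm, Scheme.Modules.Hom.app_smul]

theorem nuJ_unit (I : X.IdealSheafData) :
    nuJ I (Coh.structureModule X) = (unitorL (ClSub.idealMod I)).hom ≫ ClSub.idealModι I := by
  apply tensor_hom_ext
  intro U a t
  change (nuJ I (Coh.structureModule X)).app U (tm _ _ U a t) =
    (ClSub.idealModι I).app U ((unitorL (ClSub.idealMod I)).hom.app U (tm _ _ U a t))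
  rw [nuJ_tm]
  have h := unitorL_hom_tm (ClSub.idealMod I) U t (toFun U a)
  have h' : (unitorL (ClSub.idealMod I)).hom.app U (tm _ _ U a t) = toFun U a • t := h
  rw [h', Scheme.Modules.Hom.app_smul]
  change ofFun U (toFun U ((ClSub.idealModι I).app U t) * toFun U a) =
    ofFun U (toFun U a * toFun U ((ClSub.idealModι I).app U t))
  rw [mul_comm]

/-- a section which generates everywhere is an isomorphism -/
theorem isIso_of_forall_mem_genLocus {L : X.Modules} (s : Coh.structureModule X ⟶ L)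
    (h : ∀ x : X, x ∈ CohB1.genLocus L s) : IsIso s := by
  have hg : IsGen L ⊤ (sec s ⊤) := isGen_sec_of_le s (fun x _ => h x)
  rw [Scheme.Modules.Hom.isIso_iff_isIso_app]
  intro V
  have h2 : Function.Bijective (s.app V) := by
    rw [bijective_app_iff]
    have := hg V le_top
    rwa [res_sec] at this
  exact (ConcreteCategory.isIso_iff_bijective (s.app V)).mpr h2

variable (k : Type u) [Field k] [X.Over (Spec (CommRingCat.of k))]
  [IsProper (X ↘ Spec (CommRingCat.of k))] [IsIntegral X]

set_option backward.isDefEq.respectTransparency false in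
/-- the ideal of a closed point is invertible of degree `-1` -/
theorem pointIdeal_invertible_deg [IsAlgClosed k] (hdim : topologicalKrullDim X = 1)
    (hreg : ∀ x : X, IsRegularLocalRing (X.presheaf.stalk x)) (P : X)
    (hP : IsClosed ({P} : Set X)) :
    PicF.IsInvertible (ClSub.idealMod (Scheme.IdealSheafData.vanishingIdeal ⟨{P}, hP⟩)) ∧
      Curv2.deg k X (ClSub.idealMod (Scheme.IdealSheafData.vanishingIdeal ⟨{P}, hP⟩)) 1 = -1 := by
  haveI := isNoetherian_of_isProper k X
  let Zc : Closeds X := ⟨{P}, hP⟩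
  let I : X.IdealSheafData := Scheme.IdealSheafData.vanishingIdeal Zc
  have hdimP : ringKrullDim (X.presheaf.stalk P) ≤ 1 :=
    (Groth.Agent.Lib.Helper7.CurveCM.ringKrullDim_stalk_le_topologicalKrullDim P).trans hdim.le
  haveI := hreg P
  have hn : IsIntegrallyClosed (X.presheaf.stalk P) :=
    Groth.Agent.Lib.Helper4.SerreNormal.isIntegrallyClosed_of_regular_of_dim_le_one _ hdimP
  have hEff : BlowUp.IsEffCartierIdeal I :=
    isEffCartierIdeal_vanishingIdeal_point P hP hdimP
      (not_isField_stalk P hP (Groth.Agent.Lib.Helper7.CurveCM.singleton_ne_univ hdim P)) hn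
  have hI : PicF.IsInvertible (ClSub.idealMod I) :=
    (Groth.Agent.Lib.Helper17.EffCartMod.isInvertible_idealMod_iff I).mpr hEff
  have hsupp : (I.support : Set X) = {P} := Scheme.IdealSheafData.coe_support_vanishingIdeal Zc
  have hfin : (I.support : Set X).Finite := by rw [hsupp]; exact Set.finite_singleton P
  have hpt : ∀ z ∈ (I.support : Set X), IsClosed ({z} : Set X) := by
    intro z hz
    rw [hsupp] at hz
    rw [Set.mem_singleton_iff.mp hz]
    exact hP
  have hdI := Groth.Agent.Lib.Helper23.PtDiv.deg_idealMod k X I (isCoh_of_isInvertible hI)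
    hfin hpt
  have hQ1 : Module.finrank k (Coh.HH X (ClSub.quotMod I) 0) = 1 :=
    finrank_h0_quotMod_closedPoint k P hP
  rw [hQ1] at hdI
  exact ⟨hI, by rw [hdI]; norm_num⟩

/-- `H¹(I_P) → H¹(O)` is injective -/
theorem Hmap_idealModι_injective [IsAlgClosed k] (hdim : topologicalKrullDim X = 1)
    (hreg : ∀ x : X, IsRegularLocalRing (X.presheaf.stalk x)) (P : X)
    (hP : IsClosed ({P} : Set X)) :
    Function.Injective
      (Hmap (ClSub.idealModι (Scheme.IdealSheafData.vanishingIdeal ⟨{P}, hP⟩)) 1) := by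
  haveI := isNoetherian_of_isProper k X
  obtain ⟨hJ, hdJ⟩ := pointIdeal_invertible_deg k hdim hreg P hP
  set I : X.IdealSheafData := Scheme.IdealSheafData.vanishingIdeal ⟨{P}, hP⟩ with hIdef
  have hT := shortExact_ideal I
  have hJ0 : Subsingleton (Coh.HH X (ClSub.idealMod I) 0) := by
    by_contra hns
    rw [not_subsingleton_iff_nontrivial] at hns
    obtain ⟨x, hx⟩ := exists_ne (0 : Coh.HH X (ClSub.idealMod I) 0)
    have hm0 : H0equiv _ x ≠ 0 :=
      fun h => hx ((H0equiv _).injective (h.trans (map_zero _).symm))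
    have hs := globalHom_ne_zero (ClSub.idealMod I) (H0equiv _ x) hm0
    obtain ⟨hle, -⟩ := deg_le_of_map k hdim.le (isInvertible_structureModule X) hJ _ hs
    rw [DegTensor.deg_structureModule_one, hdJ] at hle
    omega
  have h0 := GeomH0.finrank_H0_eq_one_of_isAlgClosed k X
  have hQ1 : Module.finrank k (Coh.HH X (ClSub.quotMod I) 0) = 1 :=
    finrank_h0_quotMod_closedPoint k P hP
  have hinj : Function.Injective (HmapL k (ClSub.toSubscheme I) 0) := by
    rw [injective_iff_map_eq_zero]
    intro a ha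
    obtain ⟨b, hb⟩ := exact₂ _ hT 0 a ha
    rw [← hb, Subsingleton.elim b 0, map_zero]
  haveI : Module.Finite k (Coh.HH X (Coh.structureModule X) 0) :=
    finite_HH k _ (isCoh_structureModule X) 0
  haveI : Module.Finite k (Coh.HH X (ClSub.quotMod I) 0) := finite_HH k _ (isCoh_quotMod I) 0
  have hsurj : Function.Surjective (HmapL k (ClSub.toSubscheme I) 0) :=
    (LinearMap.injective_iff_surjective_of_finrank_eq_finrank (by rw [h0, hQ1])).mp hinj
  rw [injective_iff_map_eq_zero]
  intro x hx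
  obtain ⟨z, hz⟩ := exact₁ _ hT 0 x hx
  obtain ⟨a, ha⟩ := hsurj z
  rw [← hz, ← ha]
  exact Hδ_Hmap_g _ hT 0 a

/-- **a normalized rank two module with two independent sections has degree zero** -/
theorem deg_eq_zero_of_two_le_h0 [IsAlgClosed k] (hdim : topologicalKrullDim X = 1)
    (hreg : ∀ x : X, IsRegularLocalRing (X.presheaf.stalk x)) {E : X.Modules}
    (hE : FlatMod.IsFinLocFreeOfRank 2 E)
    (hneg : ∀ M : X.Modules, PicF.IsInvertible M → Curv2.deg k X M 1 < 0 →
      Subsingleton (Coh.HH X (CohB1.tensorMod E M) 0))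
    (h2 : 2 ≤ Module.finrank k (Coh.HH X E 0)) : Curv2.deg k X E 2 = 0 := by
  haveI := isNoetherian_of_isProper k X
  have h0 := GeomH0.finrank_H0_eq_one_of_isAlgClosed k X
  have hcE := isCoh_of_isFinLocFreeOfRank hE
  haveI : Module.Finite k (Coh.HH X E 0) := finite_HH k _ hcE 0
  haveI : Module.Finite k (Coh.HH X (Coh.structureModule X) 0) :=
    finite_HH k _ (isCoh_structureModule X) 0
  haveI : Nontrivial (Coh.HH X E 0) := Module.nontrivial_of_finrank_pos (R := k) (by omega)
  obtain ⟨x₀, hx₀⟩ := exists_ne (0 : Coh.HH X E 0)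
  have hm₀ : H0equiv E x₀ ≠ 0 :=
    fun h => hx₀ ((H0equiv E).injective (h.trans (map_zero _).symm))
  have hs := globalHom_ne_zero E (H0equiv E x₀) hm₀
  obtain ⟨G', C', i', p, w, u, hS, hui, huiso, hG'inv, hC'inv, hdG', hdE⟩ :=
    exists_normalized_seq k hdim hreg hE hneg _ hs
  haveI := huiso
  set s : Coh.structureModule X ⟶ E := InvAmple.globalHom E (H0equiv E x₀) with hsdef
  have w₀ : s ≫ p = 0 := by rw [← hui, Category.assoc, w, comp_zero]
  have hS₀ : (ShortComplex.mk s p w₀).ShortExact := by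
    let e : ShortComplex.mk i' p w ≅ ShortComplex.mk s p w₀ :=
      ShortComplex.isoMk (asIso u).symm (Iso.refl _) (Iso.refl _)
        (by
          change inv u ≫ s = i' ≫ 𝟙 E
          rw [Category.comp_id, ← hui, IsIso.inv_hom_id_assoc])
        (by
          change 𝟙 E ≫ p = p ≫ 𝟙 C'
          rw [Category.id_comp, Category.comp_id])
    exact ShortComplex.shortExact_of_iso e hS
  rw [hdE]
  by_contra hdC
  -- a section of `E` with nonzero image in `C'`
  obtain ⟨t, ht⟩ : ∃ t : Coh.HH X E 0, Hmap p 0 t ≠ 0 := by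
    by_contra hcon
    push Not at hcon
    have hsurj : Function.Surjective (HmapL k s 0) :=
      fun t => exact₂ (ShortComplex.mk s p w₀) hS₀ 0 t (hcon t)
    have h4 := LinearMap.finrank_range_le (HmapL k s 0)
    rw [LinearMap.range_eq_top.2 hsurj, finrank_top] at h4
    omega
  let m : Γ(C', ⊤) := H0equiv C' (Hmap p 0 t)
  have hm : m ≠ 0 := fun h => ht ((H0equiv C').injective (h.trans (map_zero _).symm))
  -- a closed point where `m` does not generate
  obtain ⟨P, hPm, hP⟩ : ∃ P : X, P ∉ CohB1.genLocus C' (InvAmple.globalHom C' m) ∧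
      IsClosed ({P} : Set X) := by
    by_contra hcon
    push Not at hcon
    have hall : ∀ x : X, x ∈ CohB1.genLocus C' (InvAmple.globalHom C' m) := by
      intro x
      by_contra hx
      have hZ : IsClosed ((CohB1.genLocus C' (InvAmple.globalHom C' m) : Set X)ᶜ) :=
        (CohB1.genLocus C' (InvAmple.globalHom C' m)).isOpen.isClosed_compl
      obtain ⟨Q, hQZ, hQ⟩ := hZ.exists_closed_singleton ⟨x, hx⟩
      exact hcon Q hQZ hQ
    haveI := isIso_of_forall_mem_genLocus _ hall
    have hdO := DegTensor.deg_structureModule_one k (X := X)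
    have h5 := Sat.deg_eq_of_iso k hdim.le (asIso (InvAmple.globalHom C' m))
      (isFinLocFreeOfRank_one_of_isInvertible (isInvertible_structureModule X))
    apply hdC
    rw [← h5, hdO]
  obtain ⟨hJ, hdJ⟩ := pointIdeal_invertible_deg k hdim hreg P hP
  set I : X.IdealSheafData := Scheme.IdealSheafData.vanishingIdeal ⟨{P}, hP⟩ with hIdef
  have hJ1 := isFinLocFreeOfRank_one_of_isInvertible hJ
  obtain ⟨n, hn⟩ := exists_lift_of_notMem_genLocus P hP hC'inv m hPm
  let n' : Γ(CohB1.tensorMod C' (ClSub.idealMod I), ⊤) :=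
    (braid C' (ClSub.idealMod I)).inv.app ⊤ n
  have hn' : (nuJ I C').app ⊤ n' = m := by
    change (jmap I C').app ⊤ ((braid C' (ClSub.idealMod I)).hom.app ⊤
      ((braid C' (ClSub.idealMod I)).inv.app ⊤ n)) = m
    rw [iso_hom_inv_app]
    exact hn
  let y : Coh.HH X (CohB1.tensorMod C' (ClSub.idealMod I)) 0 := (H0equiv _).symm n'
  have hyn : H0equiv _ y = n' := LinearEquiv.apply_symm_apply _ _
  have hy : Hmap (nuJ I C') 0 y = Hmap p 0 t := by
    apply (H0equiv C').injective
    rw [H0equiv_naturality, hyn]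
    exact hn'
  have hS' : ((ShortComplex.mk s p w₀).map (twR (ClSub.idealMod I))).ShortExact :=
    shortExact_twE hJ1 _ hS₀
  let φ : (ShortComplex.mk s p w₀).map (twR (ClSub.idealMod I)) ⟶ ShortComplex.mk s p w₀ :=
    { τ₁ := nuJ I _
      τ₂ := nuJ I _
      τ₃ := nuJ I _
      comm₁₂ := (nuJ_naturality I s).symm
      comm₂₃ := (nuJ_naturality I p).symm }
  have hnat := Hδ_naturality hS' hS₀ φ 0 y
  have h6 : Hδ (ShortComplex.mk s p w₀) hS₀ 0 (Hmap φ.τ₃ 0 y) = 0 := by
    have h7 : Hmap φ.τ₃ 0 y = Hmap p 0 t := hy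
    rw [h7]
    exact Hδ_Hmap_g (ShortComplex.mk s p w₀) hS₀ 0 t
  rw [h6] at hnat
  have hinj : Function.Injective (Hmap (nuJ I (Coh.structureModule X)) 1) := by
    rw [nuJ_unit]
    intro a b hab
    rw [Hmap_comp, Hmap_comp] at hab
    have h8 := Hmap_idealModι_injective k hdim hreg P hP hab
    exact (HmapEquiv (unitorL (ClSub.idealMod I)) 1).injective h8
  have h9 : Hδ _ hS' 0 y = 0 := hinj (hnat.trans (map_zero _).symm)
  obtain ⟨y₂, hy₂⟩ := exact₃ _ hS' 0 y h9
  have hsub : Subsingleton (Coh.HH X (CohB1.tensorMod E (ClSub.idealMod I)) 0) :=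
    hneg _ hJ (by rw [hdJ]; norm_num)
  have hy20 : y₂ = 0 := @Subsingleton.elim _ hsub y₂ 0
  have hy0 : y = 0 := by rw [← hy₂, hy20]; exact map_zero _
  apply hm
  have hn0 : n' = 0 := by rw [← hyn, hy0]; exact map_zero _
  rw [← hn', hn0]
  exact QCExact.app_zero _ _

end Groth.Agent.Lib.Helper7.RankTwo
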