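import Mathlib
import Groth.Prelude
import Groth.Agent.Lib.Helper7.SecDegC
import Groth.Agent.Lib.Helper7.CurvePt
import Groth.Agent.Lib.Helper17.DevInt
import Groth.Agent.Lib.Helper3.PbBasic
import Groth.Agent.Lib.Helper7.RankTwoC

/-!
# Helper library (helper7): a numerically trivial invertible module with a nonzero section on an
integral proper scheme is trivial (S14810).
-/

set_option autoImplicit false
set_option linter.unusedSectionVars false
set_option linter.style.haveILetI false
universe u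
open CategoryTheory CategoryTheory.Limits AlgebraicGeometry Opposite
open Scheme.Modules

namespace Groth.Agent.Lib.Helper7.NumSec

open Groth.Agent.Lib.Helper3 Groth.Agent.Lib.Helper3.InvMonoidal Groth.Agent.Lib.Helper3.InvTensor
open Groth.Agent.Lib.Helper3.InvGen Groth.Agent.Lib.Helper3.QCSec Groth.Agent.Lib.Helper3.InvAmple
open Groth.Agent.Lib.Helper23 Groth.Agent.Lib.Helper23.Snap Groth.Agent.Lib.Helper23.HilbP
open Groth.Agent.Lib.Helper7.SnapAlt Groth.Agent.Lib.Helper7.SnapFGA
open Groth.Agent.Lib.Helper7.IntNumPos Groth.Agent.Lib.Helper7.IntNumDiv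
open Groth.Agent.Lib.Helper7.SecDeg Groth.Agent.Lib.Helper7.HilbCoeff
open Groth.Agent.Lib.Helper7.SecDegC Groth.Agent.Lib.Helper7.RegSec Groth.Agent.Lib.Helper17
open Groth.Agent.Lib.Helper12 Groth.Agent.Lib.Helper12.SchemeDimFT

section Obj

variable {X : Scheme.{u}}

/-- a point where the section does not generate lies in the zero divisor. -/
theorem mem_support_zeroDiv {M M' : X.Modules}
    (ι : CohB1.tensorMod M' M ≅ Coh.structureModule X) (s : Coh.structureModule X ⟶ M)
    [M'.IsQuasicoherent] (hM : PicF.IsInvertible M) {x : X} (hx : x ∉ CohB1.genLocus M s) :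
    x ∈ (zeroDiv ι s).support := by
  obtain ⟨U, ε, hU, hxU, hg⟩ := exists_affine_isGen hM x
  obtain ⟨c, hc⟩ := hg.self.exists_coord (sec s U)
  obtain ⟨ε', hg', h1⟩ := exists_isGen_inv ι hg
  have hI := ideal_zeroDiv ι hU hg' h1 c hc.symm
  rw [Scheme.IdealSheafData.mem_support_iff_of_mem (U := ⟨U, hU⟩) hxU, X.mem_zeroLocus_iff]
  intro g hg2 hmem
  rw [hI, SetLike.mem_coe, Ideal.mem_span_singleton'] at hg2
  obtain ⟨a, rfl⟩ := hg2
  apply hx
  have h2 : x ∈ X.basicOpen c := by
    rw [X.basicOpen_mul a c] at hmem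
    exact hmem.2
  rw [← genLocus_inf_eq_basicOpen s hg c hc.symm] at h2
  exact h2.1

/-- the zero section generates nowhere. -/
theorem notMem_genLocus_zero (M : X.Modules) (x : X) :
    x ∉ CohB1.genLocus M (0 : Coh.structureModule X ⟶ M) := by
  intro hx
  obtain ⟨W, hxW, hW⟩ := (mem_genLocus_iff _ x).mp hx
  haveI : Nonempty W := ⟨⟨x, hxW⟩⟩
  have h0 : sec (0 : Coh.structureModule X ⟶ M) W = 0 := rfl
  rw [h0] at hW
  have h1 : (1 : Γ(X, W)) = 0 := hW.self.eq_zero (by rw [smul_zero])
  exact one_ne_zero h1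

end Obj

section Main

variable (k : Type u) [Field k] (X : Scheme.{u}) [X.Over (Spec (CommRingCat.of k))]
  [IsProper (X ↘ Spec (CommRingCat.of k))]

/-- positivity of the degree of a module with a section vanishing somewhere. -/
theorem pos_of_notMem_genLocus [IsIntegral X] (e : ℕ)
    (hX : topologicalKrullDim X = ((e + 1 : ℕ) : WithBot ℕ∞))
    (L L' : X.Modules) (hL : PicF.IsInvertible L)
    (ι : CohB1.tensorMod L' L ≅ Coh.structureModule X)
    (s : Coh.structureModule X ⟶ L) (hs : s ≠ 0)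
    (A Ai : Fin e → X.Modules) (hA : ∀ i, CohB1.IsAmple (A i))
    (hAi : ∀ i, Nonempty (CohB1.tensorMod (A i) (Ai i) ≅ Coh.structureModule X))
    (x : X) (hx : x ∉ CohB1.genLocus L s) :
    0 < FGA.intNum k X (e + 1) (Fin.cons L' Ai : Fin (e + 1) → X.Modules)
        (Coh.structureModule X) := by
  haveI : IsNoetherian X := isNoetherian_of_isProper k X
  have hd : topologicalKrullDim X ≤ ((e + 1 : ℕ) : WithBot ℕ∞) := hX.le
  have hL' : PicF.IsInvertible L' := isInvertible_of_inverse hL ⟨braid L L' ≪≫ ι⟩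
  haveI : L'.IsQuasicoherent := InvCoh.isQuasicoherent_of_isInvertible hL'
  have hreg := isRegSec_of_ne_zero hL s hs
  have hD := isEffCartierIdeal_zeroDiv ι hreg
  obtain ⟨eI⟩ := idealMod_zeroDiv_iso ι hreg
  have hI : PicF.IsInvertible (ClSub.idealMod (zeroDiv ι s)) :=
    (EffCartMod.isInvertible_idealMod_iff _).mpr hD
  have hAinv : ∀ i, PicF.IsInvertible (Ai i) := fun i =>
    isInvertible_of_inverse (hA i).1 (hAi i)
  have hne : ((zeroDiv ι s).support : Set X).Nonempty := ⟨x, mem_support_zeroDiv ι s hL hx⟩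
  rw [intNum_cons_iso k X (e + 1) eI Ai _, intNum_cons_ideal k X (e + 1) hd Ai hAinv _ hI]
  apply intNum_pos k X (e + 1) hd e A Ai hA hAi _ (EffCart.isCoh_quotMod _)
  rw [DevTest.support_A]
  exact Groth.Agent.Lib.Helper7.DivDim.dim_support_eq k X e hX _ hD hne

/-- the degree on a curve through a zero of the section, not contained in the zero locus, is
positive. -/
theorem curveDeg_pos (C : Scheme.{u}) (i : C ⟶ X) [IsClosedImmersion i] [IsIntegral C]
    (hdimC : topologicalKrullDim C = 1) (L : X.Modules) (hL : PicF.IsInvertible L)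
    (s : Coh.structureModule X ⟶ L) (x' y' : C) (hx' : i x' ∉ CohB1.genLocus L s)
    (hy' : i y' ∈ CohB1.genLocus L s) :
    0 < Pic13.curveDeg k (i ≫ (X ↘ Spec (CommRingCat.of k)))
      ((Scheme.Modules.pullback i).obj L) := by
  letI : C.Over (Spec (CommRingCat.of k)) := ⟨i ≫ (X ↘ Spec (CommRingCat.of k))⟩
  haveI : IsProper (C ↘ Spec (CommRingCat.of k)) := by
    show IsProper (i ≫ (X ↘ Spec (CommRingCat.of k)))
    infer_instance
  set M := (Scheme.Modules.pullback i).obj L with hMdef
  have hM : PicF.IsInvertible M := PbBasic.isInvertible_pullback i hL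
  set t := PbBasic.pullHom i s with htdef
  have hgl := PbBasic.genLocus_pullHom i hL s
  have hx'g : x' ∉ CohB1.genLocus M t := by
    rw [hgl]
    exact hx'
  have hy'g : y' ∈ CohB1.genLocus M t := by
    rw [hgl]
    exact hy'
  have ht : t ≠ 0 := by
    intro h
    rw [h] at hy'g
    exact notMem_genLocus_zero M y' hy'g
  obtain ⟨eMM'⟩ := Groth.Agent.Lib.Helper23.Inverse.tensor_dual_iso hM
  set M' := Groth.Agent.Lib.Helper23.Inverse.dual M with hM'def
  have hM' : PicF.IsInvertible M' := isInvertible_of_inverse hM ⟨eMM'⟩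
  have hXC : topologicalKrullDim C = ((0 + 1 : ℕ) : WithBot ℕ∞) := by
    rw [hdimC]
    norm_cast
  have hd : topologicalKrullDim C ≤ ((0 + 1 : ℕ) : WithBot ℕ∞) := hXC.le
  have hpos0 := pos_of_notMem_genLocus k C 0 hXC M M' hM (braid M' M ≪≫ eMM') t ht
    Fin.elim0 Fin.elim0 (fun j => Fin.elim0 j) (fun j => Fin.elim0 j) x' hx'g
  have hpos : 0 < FGA.intNum k C 1 (Fin.cons M' Fin.elim0 : Fin (0 + 1) → C.Modules)
      (Coh.structureModule C) := hpos0
  have hd1 : topologicalKrullDim C ≤ ((1 : ℕ) : WithBot ℕ∞) := hd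
  have hO := T2.isCoh_structureModule C
  have hdimO : topologicalKrullDim (CohB1.support (Coh.structureModule C)) ≤
      ((0 + 1 : ℕ) : WithBot ℕ∞) := dim_support_le C (0 + 1) hd _
  have hneg := intNum_cons_neg k C 1 hd1 (Fin.elim0 : Fin 0 → C.Modules)
    (fun j => Fin.elim0 j) M M' hM hM' eMM' (Coh.structureModule C) hO hdimO
  rw [intNum_cons, intNum_zero, intNum_zero] at hneg
  have e1 : CohB1.tensorMod (Coh.structureModule C) (Coh.structureModule C) ≅
      Coh.structureModule C := unitorL _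
  have e2 : CohB1.tensorMod (Coh.structureModule C) (CohB1.tensorMod M (Coh.structureModule C)) ≅
      M := unitorL _ ≪≫ SecTwist.unitorR M
  rw [eulerLE_iso k C e1, eulerLE_iso k C e2] at hneg
  have hdeg : Pic13.curveDeg k (i ≫ (X ↘ Spec (CommRingCat.of k))) M =
      FGA.eulerCharLE k C M 1 - FGA.eulerCharLE k C (Coh.structureModule C) 1 := rfl
  rw [hdeg]
  linarith

/-- **S14810**. -/
theorem main14810 [IsIntegral X] (L : X.Modules) (hL : PicF.IsInvertible L)
    (hnum : Pic13.IsNumEquivZero k X L) (s : Coh.structureModule X ⟶ L) (hs : s ≠ 0) :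
    Nonempty (L ≅ Coh.structureModule X) := by
  haveI : IsNoetherian X := isNoetherian_of_isProper k X
  haveI : CompactSpace X := T2.compactSpace_of_isProper k X
  by_cases hall : ∀ x : X, x ∈ CohB1.genLocus L s
  · haveI := Groth.Agent.Lib.Helper7.RankTwo.isIso_of_forall_mem_genLocus s hall
    exact ⟨(asIso s).symm⟩
  exfalso
  push Not at hall
  obtain ⟨x₀, hx₀⟩ := hall
  have hcl : IsClosed ((CohB1.genLocus L s : Set X)ᶜ) := (CohB1.genLocus L s).isOpen.isClosed_compl
  obtain ⟨x, hxc, hxcl⟩ := hcl.exists_closed_singleton ⟨x₀, hx₀⟩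
  -- the generic point lies in the locus
  have hVne : ((CohB1.genLocus L s : X.Opens) : Set X).Nonempty := by
    obtain ⟨U, ε, c, hU, hηU, hg, hc, hsec⟩ := isRegSec_of_ne_zero hL s hs (genericPoint X)
    haveI : Nonempty U := ⟨⟨_, hηU⟩⟩
    refine ⟨genericPoint X, ?_⟩
    have h1 : genericPoint X ∈ X.basicOpen c := by
      rw [X.mem_basicOpen c (genericPoint X) hηU]
      have hinj := germ_injective_of_isIntegral X (genericPoint X) hηU
      have hne : X.presheaf.germ U (genericPoint X) hηU c ≠ 0 := by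
        intro h
        rw [← map_zero (X.presheaf.germ U (genericPoint X) hηU).hom] at h
        exact nonZeroDivisors.ne_zero hc (hinj h)
      exact (IsUnit.mk0 (G₀ := X.functionField) _ hne)
    rw [← genLocus_inf_eq_basicOpen s hg c hsec] at h1
    exact h1.1
  obtain ⟨y, hyV, hyx, hytr⟩ :=
    Groth.Agent.Lib.Helper7.CurvePt.exists_curvePoint k X x hxcl (CohB1.genLocus L s) hVne hxc
  -- the curve
  let Z : TopologicalSpace.Closeds X := ⟨closure {y}, isClosed_closure⟩
  have hirr : IsIrreducible (Z : Set X) := isIrreducible_singleton.closure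
  haveI hint : IsIntegral (DevInt.sub Z) := DevInt.isIntegral_sub Z hirr
  have hdimC : topologicalKrullDim (DevInt.sub Z) = 1 := by
    have hemb := (DevInt.subι Z).isEmbedding
    let e : DevInt.sub Z ≃ₜ ↥(Z : Set X) :=
      hemb.toHomeomorph.trans (Homeomorph.setCongr (DevInt.range_subι Z))
    rw [IsHomeomorph.topologicalKrullDim_eq e e.isHomeomorph]
    have h1 := topologicalKrullDim_closure_singleton k X y
    rw [hytr] at h1
    exact h1
  have h0 := hnum (DevInt.sub Z) (DevInt.subι Z) hint hdimC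
  have hxZ : x ∈ Set.range (DevInt.subι Z) := by
    rw [DevInt.range_subι Z]
    exact specializes_iff_mem_closure.mp hyx
  have hyZ : y ∈ Set.range (DevInt.subι Z) := by
    rw [DevInt.range_subι Z]
    exact subset_closure (Set.mem_singleton y)
  obtain ⟨x', hx'⟩ := hxZ
  obtain ⟨y', hy'⟩ := hyZ
  have hpos := curveDeg_pos k X (DevInt.sub Z) (DevInt.subι Z) hdimC L hL s x' y'
    (by rw [hx']; exact hxc) (by rw [hy']; exact hyV)
  rw [h0] at hpos
  exact lt_irrefl _ hpos

end Main

end Groth.Agent.Lib.Helper7.NumSec
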