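import Mathlib
import Groth.Prelude
import Groth.Agent.Lib.Helper7.NefTrivA
import Groth.Agent.Lib.Helper7.NumSec
import Groth.Agent.Lib.Helper7.GrowthB
import Groth.Agent.Lib.Helper7.PushLinear
import Groth.Agent.Lib.Helper3.FreeSec
import Groth.Agent.Lib.Helper3.AmpleMisc

/-!
# Helper library (helper7): globally generated invertible modules are nef (surfaces)

* `euler_push` : `χ(X, i_* G) = χ(Z, G)` for a closed subscheme `i : Z ⟶ X`;
* `euler_quotMod_tensor` : `χ(X, O_Z ⊗ N) = χ(Z, N|_Z)`;
* `euler_le_of_section` : on an integral proper curve a module with a nonzero section has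
  non-negative degree;
* `nef_of_gg` : a globally generated invertible module has non-negative degree on every integral
  curve.
-/

set_option autoImplicit false
set_option linter.unusedSectionVars false
set_option linter.style.haveILetI false
universe u
open CategoryTheory CategoryTheory.Limits AlgebraicGeometry Opposite TopologicalSpace
open Scheme.Modules

namespace Groth.Agent.Lib.Helper7.GGNef

open Groth.Agent.Lib.Helper3 Groth.Agent.Lib.Helper3.InvMonoidal Groth.Agent.Lib.Helper3.InvTensor
open Groth.Agent.Lib.Helper3.InvGen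
open Groth.Agent.Lib.Helper23 Groth.Agent.Lib.Helper23.Snap Groth.Agent.Lib.Helper23.HilbP
open Groth.Agent.Lib.Helper7.SnapAlt Groth.Agent.Lib.Helper7.SnapFGA
open Groth.Agent.Lib.Helper7.IntNumPos Groth.Agent.Lib.Helper7.IntNumDiv
open Groth.Agent.Lib.Helper7.SecDeg Groth.Agent.Lib.Helper7.HilbCoeff
open Groth.Agent.Lib.Helper7.SecDegB
open Groth.Agent.Lib.Helper7.SecDegC Groth.Agent.Lib.Helper7.RegSec Groth.Agent.Lib.Helper17
open Groth.Agent.Lib.Helper7.NumSec

variable (k : Type u) [Field k] (X : Scheme.{u}) [X.Over (Spec (CommRingCat.of k))]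

/-- the Euler characteristic is preserved by the pushforward along a closed subscheme. -/
theorem euler_push (J : X.IdealSheafData) [J.subscheme.Over (Spec (CommRingCat.of k))]
    (hov : J.subscheme ↘ Spec (CommRingCat.of k) = J.subschemeι ≫ (X ↘ Spec (CommRingCat.of k)))
    (G : J.subscheme.Modules) :
    Curv2.euler k X ((Scheme.Modules.pushforward J.subschemeι).obj G) =
      Curv2.euler k J.subscheme G := by
  unfold Curv2.euler
  refine finsum_congr fun i => ?_
  rw [Groth.Agent.Lib.Helper7.PushLinear.finrank_push J.subschemeι G k hov i]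

/-- `χ(X, O_Z ⊗ N) = χ(Z, N|_Z)`. -/
theorem euler_quotMod_tensor (J : X.IdealSheafData) [J.subscheme.Over (Spec (CommRingCat.of k))]
    (hov : J.subscheme ↘ Spec (CommRingCat.of k) = J.subschemeι ≫ (X ↘ Spec (CommRingCat.of k)))
    (N : X.Modules) :
    Curv2.euler k X (CohB1.tensorMod (ClSub.quotMod J) N) =
      Curv2.euler k J.subscheme ((Scheme.Modules.pullback J.subschemeι).obj N) := by
  let e1 : CohB1.tensorMod (ClSub.quotMod J) N ≅
      (Scheme.Modules.pushforward J.subschemeι).obj
        (CohB1.tensorMod (Coh.structureModule J.subscheme)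
          ((Scheme.Modules.pullback J.subschemeι).obj N)) :=
    Groth.Agent.Lib.Helper2.Mon.projIso J.subschemeι _ _
  rw [FBC.euler_eq_of_iso' k (e1 ≪≫ (Scheme.Modules.pushforward J.subschemeι).mapIso (unitorL _)),
    euler_push k X J hov]

/-- on an integral proper curve a module with a nonzero section has non-negative degree. -/
theorem euler_le_of_section (C : Scheme.{u}) [C.Over (Spec (CommRingCat.of k))]
    [IsProper (C ↘ Spec (CommRingCat.of k))] [IsIntegral C]
    (hdimC : topologicalKrullDim C = 1) (M : C.Modules) (hM : PicF.IsInvertible M)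
    (t : Coh.structureModule C ⟶ M) (ht : t ≠ 0) :
    Curv2.euler k C (Coh.structureModule C) ≤ Curv2.euler k C M := by
  obtain ⟨eMM'⟩ := Groth.Agent.Lib.Helper23.Inverse.tensor_dual_iso hM
  set M' := Groth.Agent.Lib.Helper23.Inverse.dual M with hM'def
  have hM' : PicF.IsInvertible M' := isInvertible_of_inverse hM ⟨eMM'⟩
  have hXC : topologicalKrullDim C = ((0 + 1 : ℕ) : WithBot ℕ∞) := by
    rw [hdimC]
    norm_cast
  have hd : topologicalKrullDim C ≤ ((0 + 1 : ℕ) : WithBot ℕ∞) := hXC.le
  rcases pos_or_iso k C 0 hXC M M' hM (braid M' M ≪≫ eMM') t ht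
    Fin.elim0 Fin.elim0 (fun j => Fin.elim0 j) (fun j => Fin.elim0 j) with ⟨e⟩ | hpos0
  · obtain ⟨e'⟩ := e
    rw [FBC.euler_eq_of_iso' k e']
  · have hpos : 0 < FGA.intNum k C 1 (Fin.cons M' Fin.elim0 : Fin (0 + 1) → C.Modules)
        (Coh.structureModule C) := hpos0
    have hd1 : topologicalKrullDim C ≤ ((1 : ℕ) : WithBot ℕ∞) := hd
    have hO := T2.isCoh_structureModule C
    have hdimO : topologicalKrullDim (CohB1.support (Coh.structureModule C)) ≤
        ((0 + 1 : ℕ) : WithBot ℕ∞) := dim_support_le C (0 + 1) hd _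
    have hneg := intNum_cons_neg k C 1 hd1 (Fin.elim0 : Fin 0 → C.Modules)
      (fun j => Fin.elim0 j) M M' hM hM' eMM' (Coh.structureModule C) hO hdimO
    rw [intNum_cons, intNum_zero, intNum_zero] at hneg
    have e1 : CohB1.tensorMod (Coh.structureModule C) (Coh.structureModule C) ≅
        Coh.structureModule C := unitorL _
    have e2 : CohB1.tensorMod (Coh.structureModule C)
        (CohB1.tensorMod M (Coh.structureModule C)) ≅ M := unitorL _ ≪≫ SecTwist.unitorR M
    rw [eulerLE_iso k C e1, eulerLE_iso k C e2, eulerLE_eq k C 1 hd1, eulerLE_eq k C 1 hd1] at hneg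
    linarith

variable [IsProper (X ↘ Spec (CommRingCat.of k))]

/-- **a globally generated invertible module is nef**: it has non-negative degree on every
integral curve. -/
theorem nef_of_gg (N : X.Modules) (hN : PicF.IsInvertible N)
    (hgg : Curv2.IsGloballyGenerated N) :
    ∀ Γ : X.IdealSheafData, IsIntegral Γ.subscheme →
      topologicalKrullDim (Γ.support : Set X) = 1 →
        0 ≤ Curv2.euler k X (CohB1.tensorMod (ClSub.quotMod Γ) N) -
          Curv2.euler k X (ClSub.quotMod Γ) := by
  intro Γ hint hdim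
  haveI := hint
  letI : Γ.subscheme.Over (Spec (CommRingCat.of k)) :=
    ⟨Γ.subschemeι ≫ (X ↘ Spec (CommRingCat.of k))⟩
  have hov : Γ.subscheme ↘ Spec (CommRingCat.of k) =
      Γ.subschemeι ≫ (X ↘ Spec (CommRingCat.of k)) := rfl
  haveI : IsProper (Γ.subscheme ↘ Spec (CommRingCat.of k)) := by
    show IsProper (Γ.subschemeι ≫ (X ↘ Spec (CommRingCat.of k)))
    infer_instance
  have hdimC : topologicalKrullDim Γ.subscheme = 1 := by
    rw [← hdim]
    have hemb : Topology.IsEmbedding Γ.subschemeι :=
      Γ.subschemeι.isClosedEmbedding.isEmbedding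
    have h1 := hemb.toHomeomorph.isHomeomorph.topologicalKrullDim_eq
    rw [h1, Γ.range_subschemeι]
  rw [euler_quotMod_tensor k X Γ hov N]
  have h0 : Curv2.euler k X (ClSub.quotMod Γ) =
      Curv2.euler k Γ.subscheme (Coh.structureModule Γ.subscheme) :=
    euler_push k X Γ hov (Coh.structureModule Γ.subscheme)
  rw [h0]
  obtain ⟨x⟩ : Nonempty Γ.subscheme := inferInstance
  obtain ⟨s, hs⟩ := FreeSec.exists_mem_genLocus_of_isGloballyGenerated hN hgg (Γ.subschemeι x)
  have hgl := PbBasic.genLocus_pullHom Γ.subschemeι hN s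
  have hx : x ∈ CohB1.genLocus ((Scheme.Modules.pullback Γ.subschemeι).obj N)
      (PbBasic.pullHom Γ.subschemeι s) := by
    rw [hgl]
    exact hs
  have ht : PbBasic.pullHom Γ.subschemeι s ≠ 0 := by
    intro h
    rw [h] at hx
    exact notMem_genLocus_zero _ x hx
  have := euler_le_of_section k Γ.subscheme hdimC _
    (PbBasic.isInvertible_pullback Γ.subschemeι hN) _ ht
  linarith

end Groth.Agent.Lib.Helper7.GGNef
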