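import Groth.Agent.Lib.Helper7.PtSec
import Groth.Agent.Lib.Helper23.PtDiv2

/-!
# PtSec2: `h⁰(L) ≤ h⁰(L(x)) ≤ h⁰(L) + [κ(x) : k]` on a proper scheme over a field
-/
set_option autoImplicit false
set_option linter.style.haveILetI false
universe u
open CategoryTheory CategoryTheory.Limits AlgebraicGeometry TopologicalSpace Opposite
open Scheme.Modules

noncomputable section

namespace Groth.Agent.Lib.Helper7.PtDiv

open Groth.Agent.Lib.Helper3 Groth.Agent.Lib.Helper3.QCSec Groth.Agent.Lib.Helper3.InvGen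
  Groth.Agent.Lib.Helper3.IdealMod Groth.Agent.Lib.Helper3.InvMonoidal
  Groth.Agent.Lib.Helper3.InvTensor Groth.Agent.Lib.Helper7.TwFun
open Groth.Agent.Lib.Helper23.T2 Groth.Agent.Lib.Helper23.Curve Groth.Agent.Lib.Helper23.Twist
  Groth.Agent.Lib.Helper23.TwE Groth.Agent.Lib.Helper23.TensorPts Groth.Agent.Lib.Helper23.EffCart
  Groth.Agent.Lib.Helper23.Dev Groth.Agent.Lib.Helper7.CurvePair Groth.Agent.Lib.Helper23

attribute [local instance] Curv2.resAlgebra

variable {X : Scheme.{u}} (k : Type u) [Field k] [X.Over (Spec (CommRingCat.of k))]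
  [IsProper (X ↘ Spec (CommRingCat.of k))]

include k in
theorem isCoh_idealMod' (Z : X.IdealSheafData) : Coh.IsCoh (ClSub.idealMod Z) := by
  haveI := isNoetherian_of_isProper k X
  exact (Groth.Agent.S9514.result X (Groth.Agent.Lib.Helper23.T2.isCoh_structureModule X)
    (isCoh_quotMod Z) (ClSub.toSubscheme Z)).1

/-- `h⁰(L) ≤ h⁰(I_Z ⊗ L) + h⁰(O_Z)` for `Z` supported at finitely many closed points -/
theorem h0_le_h0_ideal_tensor_add' {L : X.Modules} (hL : PicF.IsInvertible L)
    (Z : X.IdealSheafData) (hfin : (Z.support : Set X).Finite)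
    (hpt : ∀ z ∈ (Z.support : Set X), IsClosed ({z} : Set X)) :
    Module.finrank k (Coh.HH X L 0) ≤
      Module.finrank k (Coh.HH X (CohB1.tensorMod (ClSub.idealMod Z) L) 0) +
        Module.finrank k (Coh.HH X (ClSub.quotMod Z) 0) := by
  haveI := isNoetherian_of_isProper k X
  have hE := isFinLocFreeOfRank_one_of_isInvertible hL
  have hQcoh : Coh.IsCoh (ClSub.quotMod Z) := isCoh_quotMod Z
  have hIcoh : Coh.IsCoh (ClSub.idealMod Z) := isCoh_idealMod' k Z
  have hLcoh := isCoh_of_isInvertible hL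
  have hOcoh : Coh.IsCoh (Coh.structureModule X) :=
    Groth.Agent.Lib.Helper23.T2.isCoh_structureModule X
  have hvan : ∀ V : X.Opens, Disjoint (V : Set X) (Z.support : Set X) →
      ∀ t : Γ(ClSub.quotMod Z, V), t = 0 := fun V hV t => quotMod_eq_zero_of_disjoint Z V hV t
  let D : X.Opens := ⟨(Z.support : Set X)ᶜ, Z.support.isClosed.isOpen_compl⟩
  have hFD : ∀ V : X.Opens, V ≤ D → ∀ t : Γ(ClSub.quotMod Z, V), t = 0 := by
    intro V hV t
    apply hvan V _ t
    rw [Set.disjoint_left]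
    intro p hp hpZ
    exact hV hp hpZ
  have hT := Groth.Agent.Lib.Helper23.TmBasis.tensor_eq_zero_of_vanishes (ClSub.quotMod Z) L D hFD
  have hle : ∀ V : X.Opens, Disjoint (V : Set X) (Z.support : Set X) → V ≤ D := by
    intro V hV p hp
    exact Set.disjoint_left.mp hV hp
  have hflQ : IsFlq (ClSub.quotMod Z) := isFlq_of_vanishing_off_finite _ _ hfin hpt hvan
  have hflT : IsFlq (CohB1.tensorMod (ClSub.quotMod Z) L) :=
    isFlq_of_vanishing_off_finite _ _ hfin hpt (fun V hV t => hT V (hle V hV) t)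
  have hTcoh : Coh.IsCoh (CohB1.tensorMod (ClSub.quotMod Z) L) := isCoh_tensor X hQcoh hLcoh
  have hMcoh : Coh.IsCoh (CohB1.tensorMod (ClSub.idealMod Z) L) := isCoh_tensor X hIcoh hLcoh
  have hOLcoh : Coh.IsCoh (CohB1.tensorMod (Coh.structureModule X) L) :=
    isCoh_tensor X hOcoh hLcoh
  have h3 := euler_tensor_of_vanishing k X _ hQcoh _ Z.support.isClosed hfin hpt hvan 1 L hE
  rw [euler_eq_finrank_of_isFlq k X _ hTcoh hflT, euler_eq_finrank_of_isFlq k X _ hQcoh hflQ]
    at h3
  have h3' : Module.finrank k (Coh.HH X (CohB1.tensorMod (ClSub.quotMod Z) L) 0) =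
      Module.finrank k (Coh.HH X (ClSub.quotMod Z) 0) := by
    have : (Module.finrank k (Coh.HH X (CohB1.tensorMod (ClSub.quotMod Z) L) 0) : ℤ) =
        (Module.finrank k (Coh.HH X (ClSub.quotMod Z) 0) : ℤ) := by
      rw [h3]; push_cast; ring
    exact_mod_cast this
  have hS := shortExact_ideal Z
  have hS' := shortExact_twE hE _ hS
  let f : Coh.HH X (CohB1.tensorMod (ClSub.idealMod Z) L) 0 →ₗ[k]
      Coh.HH X (CohB1.tensorMod (Coh.structureModule X) L) 0 :=
    Groth.Agent.Lib.Helper7.CohFinite.HmapL k ((twR L).map (ClSub.idealModι Z)) 0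
  let g : Coh.HH X (CohB1.tensorMod (Coh.structureModule X) L) 0 →ₗ[k]
      Coh.HH X (CohB1.tensorMod (ClSub.quotMod Z) L) 0 :=
    Groth.Agent.Lib.Helper7.CohFinite.HmapL k ((twR L).map (ClSub.toSubscheme Z)) 0
  have hex : LinearMap.ker g ≤ LinearMap.range f := by
    intro x hx
    obtain ⟨y, hy⟩ := Groth.Agent.Lib.Helper7.CohFinite.exact_mid k _ hS' 0 x hx
    exact ⟨y, hy⟩
  haveI : Module.Finite k (Coh.HH X (CohB1.tensorMod (ClSub.idealMod Z) L) 0) :=
    finite_HH k _ hMcoh 0
  haveI : Module.Finite k (Coh.HH X (CohB1.tensorMod (Coh.structureModule X) L) 0) :=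
    finite_HH k _ hOLcoh 0
  haveI : Module.Finite k (Coh.HH X (CohB1.tensorMod (ClSub.quotMod Z) L) 0) :=
    finite_HH k _ hTcoh 0
  have h5 := LinearMap.finrank_range_add_finrank_ker g
  have h6 : Module.finrank k (LinearMap.ker g) ≤ Module.finrank k (LinearMap.range f) :=
    Submodule.finrank_mono hex
  have h7 := LinearMap.finrank_range_le f
  have h8 : Module.finrank k (LinearMap.range g) ≤
      Module.finrank k (Coh.HH X (CohB1.tensorMod (ClSub.quotMod Z) L) 0) :=
    Submodule.finrank_le _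
  have h9 := (FBC.HmapEquivK k (unitorL L) 0).finrank_eq
  omega

/-- `h⁰(I_x ⊗ L) ≤ h⁰(L) ≤ h⁰(I_x ⊗ L) + [κ(x) : k]` -/
theorem h0_twist_point (x : X) (hx : IsClosed ({x} : Set X)) {L : X.Modules}
    (hL : PicF.IsInvertible L) :
    Module.finrank k (Coh.HH X (CohB1.tensorMod (ClSub.idealMod
      (Scheme.IdealSheafData.vanishingIdeal ⟨{x}, hx⟩)) L) 0) ≤
        Module.finrank k (Coh.HH X L 0) ∧
    Module.finrank k (Coh.HH X L 0) ≤
      Module.finrank k (Coh.HH X (CohB1.tensorMod (ClSub.idealMod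
        (Scheme.IdealSheafData.vanishingIdeal ⟨{x}, hx⟩)) L) 0) +
        Module.finrank k (X.residueField x) := by
  haveI := isNoetherian_of_isProper k X
  have hE := isFinLocFreeOfRank_one_of_isInvertible hL
  let Zc : Closeds X := ⟨{x}, hx⟩
  let Z : X.IdealSheafData := Scheme.IdealSheafData.vanishingIdeal Zc
  have hsupp : (Z.support : Set X) = {x} := Scheme.IdealSheafData.coe_support_vanishingIdeal Zc
  have hfin : (Z.support : Set X).Finite := by rw [hsupp]; exact Set.finite_singleton x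
  have hpt : ∀ z ∈ (Z.support : Set X), IsClosed ({z} : Set X) := by
    intro z hz
    rw [hsupp] at hz
    rw [Set.mem_singleton_iff.mp hz]
    exact hx
  have hnum := h0_le_h0_ideal_tensor_add' k hL Z hfin hpt
  have hQ : Module.finrank k (Coh.HH X (ClSub.quotMod Z) 0) =
      Module.finrank k (X.residueField x) :=
    Groth.Agent.Lib.Helper23.PtDiv.finrank_h0_quotMod_point k X x hx
  let j1 : CohB1.tensorMod (ClSub.idealMod Z) L ⟶ CohB1.tensorMod (Coh.structureModule X) L :=
    (twR L).map (ClSub.idealModι Z)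
  haveI : Mono j1 := mono_twE hE _
  haveI : Mono (jmap Z L) := by
    show Mono (j1 ≫ (unitorL L).hom)
    exact mono_comp _ _
  have hinj := HmapL_injective_of_mono k (jmap Z L)
  haveI : Module.Finite k (Coh.HH X L 0) := finite_HH k _ (isCoh_of_isInvertible hL) 0
  have hle := LinearMap.finrank_le_finrank_of_injective hinj
  refine ⟨hle, ?_⟩
  rw [← hQ]
  exact hnum

end Groth.Agent.Lib.Helper7.PtDiv
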