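import Mathlib
import Groth.Prelude
import Groth.Agent.Lib.Helper7.GGNef
import Groth.Agent.Lib.Helper7.PtSec2
import Groth.Agent.Lib.Helper12.OmegaAffine1
import Groth.Agent.Lib.Helper3.PbTensor

/-!
# Helper library (helper7): the degree of the restriction of an invertible module to a closed
subscheme as an intersection number

* `quotModKerIso` : `O_X / ker i ≅ i_* O_C` for a closed immersion `i : C ⟶ X`;
* `euler_push'`, `euler_quotMod_ker_tensor` : Euler characteristics along a closed immersion;
* `intNum_cons_ideal'` : `(I_D · M_1 ⋯ M_r · O_X) = (M_1 ⋯ M_r · O_D)` (no invertibility of `I_D`);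
* `euler_add_euler_inv` : `χ(M) + χ(M⁻¹) = 2 χ(O)` on a proper scheme of dimension `≤ 1`;
* `main13459` : `(I_C · L⁻¹) = deg L|_C`.
-/

set_option autoImplicit false
set_option linter.unusedSectionVars false
set_option linter.style.haveILetI false
universe u
open CategoryTheory CategoryTheory.Limits AlgebraicGeometry Opposite TopologicalSpace
open Scheme.Modules

namespace Groth.Agent.Lib.Helper7.DegRestr

open Groth.Agent.Lib.Helper3 Groth.Agent.Lib.Helper3.InvMonoidal Groth.Agent.Lib.Helper3.InvTensor
open Groth.Agent.Lib.Helper3.InvGen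
open Groth.Agent.Lib.Helper23 Groth.Agent.Lib.Helper23.Snap Groth.Agent.Lib.Helper23.HilbP
open Groth.Agent.Lib.Helper7.SnapAlt Groth.Agent.Lib.Helper7.SnapFGA
open Groth.Agent.Lib.Helper7.IntNumPos Groth.Agent.Lib.Helper7.IntNumDiv
open Groth.Agent.Lib.Helper7.SecDeg Groth.Agent.Lib.Helper7.HilbCoeff
open Groth.Agent.Lib.Helper7.SecDegB
open Groth.Agent.Lib.Helper7.SecDegC Groth.Agent.Lib.Helper7.RegSec Groth.Agent.Lib.Helper17
open Groth.Agent.Lib.Helper7.NefCoh Groth.Agent.Lib.Helper12.OmegaAffine

section Iso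

variable {X C : Scheme.{u}}

/-- `O_X / ker i ≅ i_* O_C` for a closed immersion `i`. -/
noncomputable def quotModKerIso (i : C ⟶ X) [IsClosedImmersion i] :
    ClSub.quotMod i.ker ≅ (Scheme.Modules.pushforward i).obj (Coh.structureModule C) :=
  (Scheme.Modules.pushforward i.imageι).mapIso (asIso (ClSub.unitToPush i.toImage)) ≪≫
    (Scheme.Modules.pushforwardComp i.toImage i.imageι).app _ ≪≫
    (Scheme.Modules.pushforwardCongr i.toImage_imageι).app _

end Iso

variable (k : Type u) [Field k] (X : Scheme.{u}) [X.Over (Spec (CommRingCat.of k))]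

/-- the Euler characteristic is preserved by the pushforward along a closed immersion. -/
theorem euler_push' {C : Scheme.{u}} [C.Over (Spec (CommRingCat.of k))] (i : C ⟶ X)
    [IsClosedImmersion i]
    (hov : C ↘ Spec (CommRingCat.of k) = i ≫ (X ↘ Spec (CommRingCat.of k)))
    (G : C.Modules) :
    Curv2.euler k X ((Scheme.Modules.pushforward i).obj G) = Curv2.euler k C G := by
  unfold Curv2.euler
  refine finsum_congr fun p => ?_
  rw [Groth.Agent.Lib.Helper7.PushLinear.finrank_push i G k hov p]

/-- `χ(X, O_X / ker i) = χ(C, O_C)`. -/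
theorem euler_quotMod_ker {C : Scheme.{u}} [C.Over (Spec (CommRingCat.of k))] (i : C ⟶ X)
    [IsClosedImmersion i]
    (hov : C ↘ Spec (CommRingCat.of k) = i ≫ (X ↘ Spec (CommRingCat.of k))) :
    Curv2.euler k X (ClSub.quotMod i.ker) = Curv2.euler k C (Coh.structureModule C) := by
  rw [FBC.euler_eq_of_iso' k (quotModKerIso i), euler_push' k X i hov]

/-- `χ(X, (O_X / ker i) ⊗ N) = χ(C, i^* N)`. -/
theorem euler_quotMod_ker_tensor {C : Scheme.{u}} [C.Over (Spec (CommRingCat.of k))] (i : C ⟶ X)
    [IsClosedImmersion i]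
    (hov : C ↘ Spec (CommRingCat.of k) = i ≫ (X ↘ Spec (CommRingCat.of k)))
    (N : X.Modules) :
    Curv2.euler k X (CohB1.tensorMod (ClSub.quotMod i.ker) N) =
      Curv2.euler k C ((Scheme.Modules.pullback i).obj N) := by
  let e1 : CohB1.tensorMod ((Scheme.Modules.pushforward i).obj (Coh.structureModule C)) N ≅
      (Scheme.Modules.pushforward i).obj
        (CohB1.tensorMod (Coh.structureModule C) ((Scheme.Modules.pullback i).obj N)) :=
    Groth.Agent.Lib.Helper2.Mon.projIso i _ _
  rw [FBC.euler_eq_of_iso' k (tensorMapIso (quotModKerIso i) (Iso.refl N) ≪≫ e1 ≪≫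
    (Scheme.Modules.pushforward i).mapIso (unitorL _)), euler_push' k X i hov]

/-- on a proper scheme of dimension at most one, `χ(M) + χ(M⁻¹) = 2 χ(O)`. -/
theorem euler_add_euler_inv (C : Scheme.{u}) [C.Over (Spec (CommRingCat.of k))]
    [IsProper (C ↘ Spec (CommRingCat.of k))]
    (hd1 : topologicalKrullDim C ≤ ((1 : ℕ) : WithBot ℕ∞)) (M M' : C.Modules)
    (hM : PicF.IsInvertible M) (hM' : PicF.IsInvertible M')
    (e : CohB1.tensorMod M M' ≅ Coh.structureModule C) :
    Curv2.euler k C M + Curv2.euler k C M' = 2 * Curv2.euler k C (Coh.structureModule C) := by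
  have hO := T2.isCoh_structureModule C
  have hdimO : topologicalKrullDim (CohB1.support (Coh.structureModule C)) ≤
      ((0 + 1 : ℕ) : WithBot ℕ∞) := dim_support_le C (0 + 1) hd1 _
  have hneg := intNum_cons_neg k C 1 hd1 (Fin.elim0 : Fin 0 → C.Modules)
    (fun j => Fin.elim0 j) M M' hM hM' e (Coh.structureModule C) hO hdimO
  have key : ∀ A : C.Modules, FGA.intNum k C 1 (Fin.cons A (Fin.elim0 : Fin 0 → C.Modules) :
      Fin (0 + 1) → C.Modules) (Coh.structureModule C) =
      Curv2.euler k C (Coh.structureModule C) - Curv2.euler k C A := by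
    intro A
    have e1 : CohB1.tensorMod (Coh.structureModule C) (Coh.structureModule C) ≅
        Coh.structureModule C := unitorL _
    have e2 : CohB1.tensorMod (Coh.structureModule C)
        (CohB1.tensorMod A (Coh.structureModule C)) ≅ A := unitorL _ ≪≫ SecTwist.unitorR A
    rw [intNum_cons, intNum_zero, intNum_zero, eulerLE_iso k C e1, eulerLE_iso k C e2,
      eulerLE_eq k C 1 hd1, eulerLE_eq k C 1 hd1]
  rw [key M, key M'] at hneg
  linarith

variable [IsProper (X ↘ Spec (CommRingCat.of k))]

/-- intersecting the structure sheaf with an ideal (not necessarily invertible). -/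
theorem intNum_cons_ideal' (d : ℕ) (hd : topologicalKrullDim X ≤ d) {r : ℕ}
    (M : Fin r → X.Modules) (hM : ∀ i, PicF.IsInvertible (M i)) (D : X.IdealSheafData) :
    FGA.intNum k X d (Fin.cons (ClSub.idealMod D) M : Fin (r + 1) → X.Modules)
        (Coh.structureModule X) =
      FGA.intNum k X d M (ClSub.quotMod D) := by
  haveI : IsNoetherian X := isNoetherian_of_isProper k X
  have hS := EffCart.shortExact_ideal D
  have hO := T2.isCoh_structureModule X
  have hOD : Coh.IsCoh (ClSub.quotMod D) := EffCart.isCoh_quotMod D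
  have hID : Coh.IsCoh (ClSub.idealMod D) := Groth.Agent.Lib.Helper7.PtDiv.isCoh_idealMod' k D
  have hadd := intNum_additive k X d hd M hM _ hS hID hO hOD
  change FGA.intNum k X d M (Coh.structureModule X) =
    FGA.intNum k X d M (ClSub.idealMod D) + FGA.intNum k X d M (ClSub.quotMod D) at hadd
  rw [intNum_cons, intNum_iso_right k X d M (SecTwist.unitorR (ClSub.idealMod D)), hadd]
  ring

/-- **S13459**: `(I_C · L⁻¹) = deg L|_C`. -/
theorem main13459 (hdim : topologicalKrullDim X = 2) {C : Scheme.{u}} (i : C ⟶ X)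
    [IsClosedImmersion i] (hC : topologicalKrullDim C = 1) (L L' : X.Modules)
    (hL : PicF.IsInvertible L) (hL' : PicF.IsInvertible L')
    (e : CohB1.tensorMod L L' ≅ Coh.structureModule X) :
    letI : C.Over (Spec (CommRingCat.of k)) := ⟨i ≫ (X ↘ (Spec (CommRingCat.of k)))⟩
    FGA.intNum k X 2 ![ClSub.idealMod i.ker, L'] (Coh.structureModule X) =
      Curv2.deg k C ((Scheme.Modules.pullback i).obj L) 1 := by
  letI : C.Over (Spec (CommRingCat.of k)) := ⟨i ≫ (X ↘ (Spec (CommRingCat.of k)))⟩
  have hov : C ↘ Spec (CommRingCat.of k) = i ≫ (X ↘ Spec (CommRingCat.of k)) := rfl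
  haveI : IsProper (C ↘ Spec (CommRingCat.of k)) := by
    show IsProper (i ≫ (X ↘ Spec (CommRingCat.of k)))
    infer_instance
  have hd : topologicalKrullDim X ≤ ((2 : ℕ) : WithBot ℕ∞) := by
    rw [hdim]
    norm_cast
  have hd1 : topologicalKrullDim C ≤ ((1 : ℕ) : WithBot ℕ∞) := by
    rw [hC]
    norm_cast
  show FGA.intNum k X 2 ![ClSub.idealMod i.ker, L'] (Coh.structureModule X) =
      Curv2.deg k C ((Scheme.Modules.pullback i).obj L) 1
  rw [vec2_eq, intNum_cons_ideal' k X 2 hd (fun _ : Fin 1 => L') (fun _ => hL') i.ker,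
    intNum_one k X 2 hd, euler_quotMod_ker k X i hov, euler_quotMod_ker_tensor k X i hov L']
  have eMM' : CohB1.tensorMod ((Scheme.Modules.pullback i).obj L)
      ((Scheme.Modules.pullback i).obj L') ≅ Coh.structureModule C :=
    (PbTensor.pbTensorIso i L L' hL hL').symm ≪≫ (Scheme.Modules.pullback i).mapIso e ≪≫
      PbBasic.pbUnit i
  have h := euler_add_euler_inv k C hd1 _ _ (PbBasic.isInvertible_pullback i hL)
    (PbBasic.isInvertible_pullback i hL') eMM'
  unfold Curv2.deg
  push_cast
  linarith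

end Groth.Agent.Lib.Helper7.DegRestr
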