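import Mathlib
import Groth.Prelude
import Groth.Agent.Lib.Helper7.DegRestr
import Groth.Agent.Lib.Helper7.CurveCartier
import Groth.Agent.Lib.Helper28.PnSm.Imm

/-!
# Helper library (helper7): vertical prime divisors of arithmetic surfaces

* `isNoetherian_left` : an arithmetic surface is Noetherian;
* `isProper_curve_hom` : a vertical prime divisor is proper over the residue field;
* `isEffCartierIdeal_ker` : a vertical prime divisor is an effective Cartier divisor;
* `main8729` : `(Γ·Γ) = - deg (conormal sheaf)`.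
-/

set_option autoImplicit false
set_option linter.unusedSectionVars false
set_option linter.style.haveILetI false
universe u
open CategoryTheory CategoryTheory.Limits AlgebraicGeometry Opposite TopologicalSpace
open Scheme.Modules

namespace Groth.Agent.Lib.Helper7.ArSurfDeg

open Groth.Agent.Lib.Helper3 Groth.Agent.Lib.Helper3.InvMonoidal Groth.Agent.Lib.Helper3.InvTensor
open Groth.Agent.Lib.Helper7.SnapFGA Groth.Agent.Lib.Helper17

variable (R : Type u) [CommRing R] [IsDomain R] [IsDiscreteValuationRing R]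
  (X : Over (Spec (CommRingCat.of R)))

include R in
theorem isProper_hom (hX : ArSurf.IsArithSurface R X) : IsProper X.hom := by
  obtain ⟨-, -, -, -, n, i, hi, hiX⟩ := hX
  rw [← hiX]
  infer_instance

theorem isNoetherian_left (hX : ArSurf.IsArithSurface R X) : IsNoetherian X.left := by
  haveI := isProper_hom R X hX
  haveI : IsLocallyNoetherian X.left := LocallyOfFiniteType.isLocallyNoetherian X.hom
  haveI : CompactSpace X.left := QuasiCompact.compactSpace_of_compactSpace X.hom
  exact {}

variable {R X}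

theorem isProper_curve_hom (hX : ArSurf.IsArithSurface R X) (Γ : ArSurf.VertComp R X) :
    IsProper Γ.curve.hom := by
  haveI := isProper_hom R X hX
  haveI : IsClosedImmersion
      (Spec.map (CommRingCat.ofHom (IsLocalRing.residue R))) :=
    IsClosedImmersion.spec_of_surjective _ IsLocalRing.residue_surjective
  haveI : IsProper (Γ.curve.hom ≫ Spec.map (CommRingCat.ofHom (IsLocalRing.residue R))) := by
    rw [← Γ.w]
    infer_instance
  exact IsProper.of_comp Γ.curve.hom (Spec.map (CommRingCat.ofHom (IsLocalRing.residue R)))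

theorem isIntegral_ker_subscheme (Γ : ArSurf.VertComp R X) : IsIntegral Γ.ι.ker.subscheme := by
  haveI : Nonempty Γ.ι.ker.subscheme := ⟨Γ.ι.toImage (Classical.arbitrary _)⟩
  exact isIntegral_of_isOpenImmersion (inv Γ.ι.toImage)

theorem dim_support_ker (Γ : ArSurf.VertComp R X) :
    topologicalKrullDim (Γ.ι.ker.support : Set X.left) = 1 := by
  rw [← Γ.dim_eq]
  have hemb : Topology.IsEmbedding Γ.ι := Γ.ι.isClosedEmbedding.isEmbedding
  have h1 := hemb.toHomeomorph.isHomeomorph.topologicalKrullDim_eq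
  rw [h1]
  have h2 : (Γ.ι.ker.support : Set X.left) = Set.range Γ.ι := by
    rw [Scheme.Hom.support_ker Γ.ι]
    exact Γ.ι.isClosedEmbedding.isClosed_range.closure_eq
  rw [h2]

theorem isEffCartierIdeal_ker (hX : ArSurf.IsArithSurface R X) (Γ : ArSurf.VertComp R X) :
    BlowUp.IsEffCartierIdeal Γ.ι.ker := by
  haveI := isNoetherian_left R X hX
  obtain ⟨hreg, hint, hdim, -, -⟩ := hX
  haveI := hint
  exact Groth.Agent.Lib.Helper7.CurveCartier.isEffCartierIdeal_of_integral_curve hdim hreg
    Γ.ι.ker (isIntegral_ker_subscheme Γ) (dim_support_ker Γ)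

/-- **S8729**. -/
theorem main8729 (hX : ArSurf.IsArithSurface R X) (Γ : ArSurf.VertComp R X)
    (L : X.left.Modules) (hL : ClSub.IsInverseOf L (ClSub.idealMod Γ.ι.ker)) :
    ArSurf.inter R X L Γ =
      - ArSurf.curveDeg (IsLocalRing.ResidueField R) Γ.curve.left (Omega.conormal Γ.ι) := by
  haveI := isProper_curve_hom hX Γ
  haveI : IsProper (Γ.curve.left ↘ Spec (CommRingCat.of (IsLocalRing.ResidueField R))) :=
    isProper_curve_hom hX Γ
  have hIE : PicF.IsInvertible (ClSub.idealMod Γ.ι.ker) :=
    (EffCartMod.isInvertible_idealMod_iff _).mpr (isEffCartierIdeal_ker hX Γ)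
  obtain ⟨e⟩ := hL
  have hLinv : PicF.IsInvertible L :=
    isInvertible_of_inverse hIE ⟨braid _ _ ≪≫ e⟩
  have hd1 : topologicalKrullDim Γ.curve.left ≤ ((1 : ℕ) : WithBot ℕ∞) := by
    rw [Γ.dim_eq]
    norm_cast
  have eMM' : CohB1.tensorMod ((Scheme.Modules.pullback Γ.ι).obj L)
      ((Scheme.Modules.pullback Γ.ι).obj (ClSub.idealMod Γ.ι.ker)) ≅
        Coh.structureModule Γ.curve.left :=
    (PbTensor.pbTensorIso Γ.ι L _ hLinv hIE).symm ≪≫ (Scheme.Modules.pullback Γ.ι).mapIso e ≪≫
      PbBasic.pbUnit Γ.ι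
  have h := Groth.Agent.Lib.Helper7.DegRestr.euler_add_euler_inv (IsLocalRing.ResidueField R)
    Γ.curve.left hd1 _ _ (PbBasic.isInvertible_pullback Γ.ι hLinv)
    (PbBasic.isInvertible_pullback Γ.ι hIE) eMM'
  unfold ArSurf.inter ArSurf.curveDeg Omega.conormal
  rw [eulerLE_eq _ _ 1 hd1, eulerLE_eq _ _ 1 hd1, eulerLE_eq _ _ 1 hd1]
  linarith

end Groth.Agent.Lib.Helper7.ArSurfDeg
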