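import Groth.Agent.S1570
import Groth.Agent.Lib.Helper3.CartierStalk
import Groth.Agent.Lib.Helper3.IdealMod
import Groth.Agent.Lib.Helper3.InvTensor
import Groth.Agent.Lib.Helper3.InvMonoidal
import Groth.Agent.Lib.Helper23.Twist
import Groth.Agent.Lib.Helper23.GeomH0
import Groth.Agent.Lib.Helper23.T2N
import Groth.Agent.Lib.Helper7.TwFun

/-!
# PtDiv: closed points with normal local ring on integral one-dimensional schemes as effective
Cartier divisors; sections of `I ⊗ L → L`; rational points and `h⁰(O) = 1`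
-/
set_option autoImplicit false
set_option linter.style.haveILetI false
universe u
open CategoryTheory CategoryTheory.Limits AlgebraicGeometry TopologicalSpace Opposite
open Scheme.Modules

noncomputable section

namespace Groth.Agent.Lib.Helper7.PtDiv

open Groth.Agent.Lib.Helper3 Groth.Agent.Lib.Helper3.QCSec Groth.Agent.Lib.Helper3.InvGen
  Groth.Agent.Lib.Helper3.InvTensor Groth.Agent.Lib.Helper3.InvMonoidal
  Groth.Agent.Lib.Helper3.IdealMod
  Groth.Agent.Lib.Helper7.TwFun Groth.Agent.Lib.Helper23.Twist Groth.Agent.Lib.Helper23.T2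

variable {X : Scheme.{u}}

/-- the local ring of an integral scheme at a closed point which is not the whole space is not a
field -/
theorem not_isField_stalk [IsIntegral X] (P : X) (hP : IsClosed ({P} : Set X))
    (hne : ({P} : Set X) ≠ Set.univ) : ¬ IsField (X.presheaf.stalk P) := by
  intro hF
  have h0 : ringKrullDim (X.presheaf.stalk P) = 0 := ringKrullDim_eq_zero_of_isField hF
  rw [ringKrullDim_stalk_eq_coheight] at h0
  have h1 : Order.coheight P = 0 := by exact_mod_cast h0
  rw [Order.coheight_eq_zero] at h1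
  have h2 : P ≤ genericPoint X := Scheme.le_iff_specializes.mpr (genericPoint_specializes P)
  have h3 : genericPoint X ≤ P := h1 h2
  have h4 : P ⤳ genericPoint X := Scheme.le_iff_specializes.mp h3
  have h5 : genericPoint X ∈ closure ({P} : Set X) := specializes_iff_mem_closure.mp h4
  rw [hP.closure_eq, Set.mem_singleton_iff] at h5
  apply hne
  have h6 : closure ({genericPoint X} : Set X) = Set.univ := genericPoint_spec X
  rw [h5, hP.closure_eq] at h6
  exact h6

/-- a closed point with integrally closed local ring of dimension one on an integral locally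
Noetherian scheme is an effective Cartier divisor -/
theorem isEffCartierIdeal_vanishingIdeal_point [IsIntegral X] [IsLocallyNoetherian X]
    (P : X) (hP : IsClosed ({P} : Set X)) (hdim : ringKrullDim (X.presheaf.stalk P) ≤ 1)
    (hnf : ¬ IsField (X.presheaf.stalk P))
    (hn : IsIntegrallyClosed (X.presheaf.stalk P)) :
    BlowUp.IsEffCartierIdeal (Scheme.IdealSheafData.vanishingIdeal ⟨{P}, hP⟩) := by
  apply Groth.Agent.S1570.result
  intro x hx U hxU
  have hxP : x = P := by
    have h : x ∈ ((Scheme.IdealSheafData.vanishingIdeal ⟨{P}, hP⟩).support : Set X) := hx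
    rw [Scheme.IdealSheafData.coe_support_vanishingIdeal] at h
    exact h
  subst hxP
  haveI : IsNoetherianRing (X.presheaf.stalk x) := isNoetherianRing_stalk x
  haveI : Ring.KrullDimLE 1 (X.presheaf.stalk x) := Ring.krullDimLE_iff.mpr hdim
  have hprinc : (IsLocalRing.maximalIdeal (X.presheaf.stalk x)).IsPrincipal := by
    have h34 : (IsIntegrallyClosed (X.presheaf.stalk x) ∧
        ∀ Q : Ideal (X.presheaf.stalk x), Q ≠ ⊥ → Q.IsPrime →
          Q = IsLocalRing.maximalIdeal (X.presheaf.stalk x)) ↔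
        (IsLocalRing.maximalIdeal (X.presheaf.stalk x)).IsPrincipal :=
      (tfae_of_isNoetherianRing_of_isLocalRing_of_isDomain (X.presheaf.stalk x)).out 3 4
    exact h34.mp ⟨hn, fun Q hQ0 hQp =>
      IsLocalRing.eq_maximalIdeal (hQp.isMaximal_of_ne_bot hQ0)⟩
  obtain ⟨g, hg⟩ := hprinc.principal
  refine ⟨g, ?_, ?_⟩
  · rw [mem_nonZeroDivisors_iff_ne_zero]
    rintro rfl
    apply hnf
    rw [IsLocalRing.isField_iff_maximalIdeal_eq, hg]
    simp
  · letI := TopCat.Presheaf.algebra_section_stalk X.presheaf (U := U.1) ⟨x, hxU⟩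
    haveI : IsLocalization.AtPrime (X.presheaf.stalk x) (U.2.primeIdealOf ⟨x, hxU⟩).asIdeal :=
      U.2.isLocalization_stalk ⟨x, hxU⟩
    have hU : IsAffineOpen U.1 := U.2
    have hv : (Scheme.IdealSheafData.vanishingIdeal ⟨{x}, hP⟩).ideal U =
        (hU.primeIdealOf ⟨x, hxU⟩).asIdeal := by
      apply Ideal.ext
      intro a
      rw [Scheme.IdealSheafData.vanishingIdeal_ideal, PrimeSpectrum.mem_vanishingIdeal]
      constructor
      · intro h
        exact h (hU.primeIdealOf ⟨x, hxU⟩) (hU.fromSpec_primeIdealOf ⟨x, hxU⟩)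
      · intro h q hq
        have hq' : hU.fromSpec q = x := hq
        have hqe : q = hU.primeIdealOf ⟨x, hxU⟩ := by
          apply hU.fromSpec.isOpenEmbedding.injective
          rw [hq', hU.fromSpec_primeIdealOf]
        rw [hqe]
        exact h
    rw [hv]
    have h1 := IsLocalization.AtPrime.map_eq_maximalIdeal (U.2.primeIdealOf ⟨x, hxU⟩).asIdeal
      (X.presheaf.stalk x)
    rw [hg] at h1
    exact h1

/-- the canonical map `I ⊗ L ⟶ L` -/
def jmap (I : X.IdealSheafData) (L : X.Modules) :
    CohB1.tensorMod (ClSub.idealMod I) L ⟶ L :=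
  (twR L).map (ClSub.idealModι I) ≫ (unitorL L).hom

theorem jmap_tm (I : X.IdealSheafData) (L : X.Modules) (U : X.Opens)
    (t : Γ(ClSub.idealMod I, U)) (l : Γ(L, U)) :
    (jmap I L).app U (tm (ClSub.idealMod I) L U t l) = val I t • l := by
  change (unitorL L).hom.app U (((twR L).map (ClSub.idealModι I)).app U (tm _ L U t l)) = _
  rw [tw_app_tm]
  exact unitorL_hom_tm L U l (val I t)

/-- the image in `L` of a generator of `I ⊗ L` is not the image of a section of `J ⊗ L`, if some
point lies in the support of `J` but not in the support of `I` -/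
theorem jmap_ne_of_gen (I J : X.IdealSheafData) (Q : X) (hQI : Q ∉ I.support)
    (hQJ : Q ∈ J.support) {L : X.Modules} (hL : PicF.IsInvertible L)
    (n : Γ(CohB1.tensorMod (ClSub.idealMod I) L, ⊤))
    (hn : IsGen (CohB1.tensorMod (ClSub.idealMod I) L) ⊤ n)
    (n' : Γ(CohB1.tensorMod (ClSub.idealMod J) L, ⊤)) :
    (jmap I L).app ⊤ n ≠ (jmap J L).app ⊤ n' := by
  intro heq
  let V : X.Opens := ⟨(I.support : Set X)ᶜ, I.support.isClosed.isOpen_compl⟩
  have hQV : Q ∈ V := hQI
  obtain ⟨U, e, hU, hQU, hUV, hg⟩ := exists_affine_isGen_le hL Q V hQV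
  have hdisj : Disjoint (U : Set X) (I.support : Set X) :=
    Set.disjoint_left.mpr (fun z hzU hzI => hUV hzU hzI)
  obtain ⟨t₁, ht₁⟩ := exists_val_eq_one I hdisj
  obtain ⟨t', ht'⟩ := tm_gen_surjective (ClSub.idealMod I) L hg U le_rfl
    (res _ (le_top : U ≤ ⊤) n)
  obtain ⟨t'', ht''⟩ := tm_gen_surjective (ClSub.idealMod J) L hg U le_rfl
    (res _ (le_top : U ≤ ⊤) n')
  dsimp only at ht' ht''
  rw [res_self] at ht' ht''
  obtain ⟨a, ha⟩ := (hn U le_top).exists_coord (tm (ClSub.idealMod I) L U t₁ e)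
  have h1 : t₁ = a • t' := by
    apply tm_gen_injective (ClSub.idealMod I) L hg U le_rfl
    dsimp only
    rw [res_self, ← ha, ← ht', tm_smul_left]
  have h2 : a * val I t' = 1 := by rw [← val_smul, ← h1, ht₁]
  have hjI : res L (le_top : U ≤ ⊤) ((jmap I L).app ⊤ n) = val I t' • e := by
    rw [← QCExact.app_res', ← ht', jmap_tm]
  have hjJ : res L (le_top : U ≤ ⊤) ((jmap J L).app ⊤ n') = val J t'' • e := by
    rw [← QCExact.app_res', ← ht'', jmap_tm]
  have h3 : val I t' = val J t'' := hg.self.smul_inj (by rw [← hjI, ← hjJ, heq])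
  have hu : IsUnit (val J t'') := by
    rw [← h3]
    exact IsUnit.of_mul_eq_one a (by rw [mul_comm]; exact h2)
  have hb := disjoint_basicOpen_val J t''
  have hQb : Q ∈ X.basicOpen (val J t'') := by
    rw [X.basicOpen_of_isUnit hu]
    exact hQU
  exact Set.disjoint_left.mp hb hQb hQJ

/-- the image of `1` under the inverse of a trivialisation generates -/
theorem isGen_inv_one {M : X.Modules} (e : M ≅ Coh.structureModule X) :
    IsGen M ⊤ (e.inv.app ⊤ (ofFun ⊤ 1)) := by
  intro V hV
  have h1 : res M hV (e.inv.app ⊤ (ofFun ⊤ 1)) = sec e.inv V := by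
    rw [← QCExact.app_res', res_ofFun, rres_one]
    rfl
  rw [h1, ← bijective_app_iff]
  refine Function.bijective_iff_has_inverse.mpr ⟨e.hom.app V, fun z => ?_, fun z => ?_⟩
  · exact iso_hom_inv_app e V z
  · exact iso_inv_hom_app e V z

set_option backward.isDefEq.respectTransparency false in
/-- two global sections which are linearly independent over `k` force `h⁰ ≥ 2` -/
theorem two_le_finrank_of_sections (k : Type u) [Field k] [X.Over (Spec (CommRingCat.of k))]
    (L : X.Modules) [Module.Finite k (Coh.HH X L 0)] (m₁ m₂ : Γm L)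
    (h : ∀ s t : k, (Coh.toGlobal (X ↘ Spec (CommRingCat.of k)) s) • m₁ +
      (Coh.toGlobal (X ↘ Spec (CommRingCat.of k)) t) • m₂ = 0 → s = 0 ∧ t = 0) :
    2 ≤ Module.finrank k (Coh.HH X L 0) := by
  have hli : LinearIndependent k ![(H0equiv L).symm m₁, (H0equiv L).symm m₂] := by
    rw [LinearIndependent.pair_iff]
    intro s t hst
    apply h s t
    have e1 : s • (H0equiv L).symm m₁ =
        (Coh.toGlobal (X ↘ Spec (CommRingCat.of k)) s) • (H0equiv L).symm m₁ := rfl
    have e2 : t • (H0equiv L).symm m₂ =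
        (Coh.toGlobal (X ↘ Spec (CommRingCat.of k)) t) • (H0equiv L).symm m₂ := rfl
    rw [e1, e2] at hst
    have h3 := congrArg (H0equiv L) hst
    rw [map_add, _root_.map_smul, _root_.map_smul, map_zero, LinearEquiv.apply_symm_apply,
      LinearEquiv.apply_symm_apply] at h3
    exact h3
  have h4 := hli.fintype_card_le_finrank
  simpa using h4

/-- an integral proper scheme over `k` with a `k`-rational point has `h⁰(O) = 1` -/
theorem finrank_H0_eq_one_of_section (k : Type u) [Field k] [X.Over (Spec (CommRingCat.of k))]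
    [IsProper (X ↘ Spec (CommRingCat.of k))] [IsIntegral X]
    (x : Spec (CommRingCat.of k) ⟶ X) (hx : x ≫ (X ↘ Spec (CommRingCat.of k)) = 𝟙 _) :
    Module.finrank k (Coh.HH X (Coh.structureModule X) 0) = 1 := by
  letI : Algebra k Γ(X, ⊤) := (Coh.toGlobal (X ↘ Spec (CommRingCat.of k))).toAlgebra
  rw [(Groth.Agent.Lib.Helper23.GeomH0.H0structEquiv k X).finrank_eq]
  haveI : IsNoetherianRing k := inferInstance
  haveI : Module.Finite k (Coh.HH X (Coh.structureModule X) 0) :=
    finite_HH k (Coh.structureModule X) (isCoh_structureModule X) 0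
  haveI : Module.Finite k Γ(X, ⊤) :=
    Module.Finite.equiv (Groth.Agent.Lib.Helper23.GeomH0.H0structEquiv k X)
  haveI : Algebra.IsIntegral k Γ(X, ⊤) := Algebra.IsIntegral.of_finite k _
  have hf : IsField Γ(X, ⊤) := isField_of_isIntegral_of_isField' (Field.toIsField k)
  rw [finrank_eq_one_iff_of_nonzero' (1 : Γ(X, ⊤)) one_ne_zero]
  intro w
  let ev : Γ(X, ⊤) →+* Γ(Spec (CommRingCat.of k), ⊤) := x.appTop.hom
  haveI : Nontrivial Γ(Spec (CommRingCat.of k), ⊤) :=
    (Scheme.ΓSpecIso (CommRingCat.of k)).commRingCatIsoToRingEquiv.toEquiv.nontrivial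
  have hev : ∀ c : k, ev (algebraMap k Γ(X, ⊤) c) =
      (Scheme.ΓSpecIso (CommRingCat.of k)).inv.hom c := by
    intro c
    have h1 : (X ↘ Spec (CommRingCat.of k)).appTop ≫ x.appTop = 𝟙 _ := by
      rw [← Scheme.Hom.comp_appTop, hx]
      rfl
    exact congrArg (fun φ => φ.hom ((Scheme.ΓSpecIso (CommRingCat.of k)).inv.hom c)) h1
  have hinj : Function.Injective ev := by
    rw [injective_iff_map_eq_zero]
    intro a ha
    by_contra hne
    obtain ⟨b, hb⟩ := hf.mul_inv_cancel hne
    have h2 : ev a * ev b = 1 := by rw [← map_mul, hb, map_one]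
    rw [ha, zero_mul] at h2
    exact zero_ne_one h2
  refine ⟨(Scheme.ΓSpecIso (CommRingCat.of k)).hom.hom (ev w), ?_⟩
  apply hinj
  rw [Algebra.smul_def, mul_one, hev]
  exact congrArg (fun φ => φ.hom (ev w)) (Scheme.ΓSpecIso (CommRingCat.of k)).hom_inv_id

/-- solving a linear relation over a field acting through a ring homomorphism -/
theorem solve_of_ne_zero {K R M : Type*} [Field K] [Ring R] [AddCommGroup M] [Module R M]
    (g : K →+* R) (s t : K) (hs : s ≠ 0) (m₁ m₂ : M) (h : g s • m₁ + g t • m₂ = 0) :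
    m₁ = g (-(s⁻¹ * t)) • m₂ := by
  have h1 : g s⁻¹ • (g s • m₁ + g t • m₂) = 0 := by rw [h, smul_zero]
  rw [smul_add, smul_smul, smul_smul, ← map_mul, ← map_mul, inv_mul_cancel₀ hs, map_one,
    one_smul] at h1
  rw [map_neg, neg_smul]
  exact eq_neg_of_add_eq_zero_left h1

/-- the kernel of a morphism from a reduced scheme with image a closed point -/
theorem ker_eq_vanishingIdeal_of_range {Y : Scheme.{u}} [IsReduced Y] (f : Y ⟶ X) (P : X)
    (hP : IsClosed ({P} : Set X)) (hr : Set.range f = {P}) :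
    f.ker = Scheme.IdealSheafData.vanishingIdeal ⟨{P}, hP⟩ := by
  rw [← Scheme.IdealSheafData.map_bot, ← Scheme.nilradical_eq_bot (X := Y),
    ← Scheme.IdealSheafData.vanishingIdeal_top, Scheme.IdealSheafData.map_vanishingIdeal]
  congr 1
  apply Closeds.ext
  simp only [Closeds.coe_closure, Closeds.coe_top, Set.image_univ, hr]
  exact hP.closure_eq

end Groth.Agent.Lib.Helper7.PtDiv
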