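import Groth.Agent.Lib.Helper7.AvoidGen

/-!
# Trivialising an invertible module on an open containing finitely many points (ample case)
-/

set_option autoImplicit false
set_option linter.unusedSectionVars false
set_option linter.style.haveILetI false
universe u
open CategoryTheory CategoryTheory.Limits AlgebraicGeometry TopologicalSpace Opposite
open Scheme.Modules

noncomputable section

namespace Groth.Agent.Lib.Helper7.AvoidGen2

open Groth.Agent.Lib.Helper3
open QCSec InvGen InvTensor InvTwist InvMonoidal InvAmple InvCoh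

variable {X : Scheme.{u}}

/-- if `e'` generates `L'` and `e ⊗ e'` generates `L ⊗ L'` then `e` generates `L`. -/
theorem isGen_of_tm {L L' : X.Modules} {U : X.Opens} {e : Γ(L, U)} {e' : Γ(L', U)}
    (hg' : IsGen L' U e') (hg : IsGen (CohB1.tensorMod L L') U (tm L L' U e e')) :
    IsGen L U e := by
  intro V hV
  have h1 := tm_gen_bijective L L' hg' V hV
  have h2 := hg V hV
  have : (fun a : Γ(X, V) => a • res (CohB1.tensorMod L L') hV (tm L L' U e e')) =
      (fun t : Γ(L, V) => tm L L' V t (res L' hV e')) ∘ (fun a : Γ(X, V) => a • res L hV e) := by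
    funext a
    change _ = tm L L' V (a • res L hV e) (res L' hV e')
    rw [tm_smul_left, tm_res]
  unfold IsGenAt at h2 ⊢
  rw [this] at h2
  exact (Function.Bijective.of_comp_iff' h1 _).mp h2

/-- `L` ample on a qcqs scheme, `N` invertible, finitely many points: `N` is trivial on an open
containing the points. -/
theorem exists_trivializing_open [CompactSpace X] [QuasiSeparatedSpace X] {L : X.Modules}
    (hA : CohB1.IsAmple L) {N : X.Modules} (hN : PicF.IsInvertible N) {ι : Type*} [Finite ι]
    (x : ι → X) :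
    ∃ U : X.Opens, (∀ i, x i ∈ U) ∧
      Nonempty (N.restrict U.ι ≅ Coh.structureModule (U : Scheme.{u})) := by
  obtain ⟨N₁, h₁⟩ := AvoidGen.exists_section_gen_at_points hA hN x
  obtain ⟨N₂, h₂⟩ := AvoidGen.exists_section_gen_at_points hA (isInvertible_structureModule X) x
  obtain ⟨s, hs⟩ := h₁ (max N₁ N₂) (le_max_left _ _)
  obtain ⟨t₀, ht₀⟩ := h₂ (max N₁ N₂) (le_max_right _ _)
  let t : Coh.structureModule X ⟶ CohB1.tensorPow L (max N₁ N₂) :=
    t₀ ≫ (unitorL (CohB1.tensorPow L (max N₁ N₂))).hom
  have ht : ∀ i, x i ∈ CohB1.genLocus _ t := by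
    intro i
    rw [genLocus_comp_iso]
    exact ht₀ i
  let U : X.Opens := CohB1.genLocus _ s ⊓ CohB1.genLocus _ t
  refine ⟨U, fun i => ⟨hs i, ht i⟩, ?_⟩
  have hσ : IsGen _ U (sec s U) := isGen_sec_of_le s inf_le_left
  have hτ : IsGen _ U (sec t U) := isGen_sec_of_le t inf_le_right
  obtain ⟨e, he⟩ := (tm_gen_bijective N _ hτ U le_rfl).2 (sec s U)
  dsimp only at he
  rw [res_self] at he
  have hge : IsGen N U e := isGen_of_tm hτ (by rw [he]; exact hσ)
  haveI := isIso_homOfSec hge
  exact ⟨(asIso (homOfSec N U e)).symm⟩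

end Groth.Agent.Lib.Helper7.AvoidGen2
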