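import Groth.Agent.Lib.Helper7.SubIdealIso
import Groth.Agent.Lib.Helper3.InvMonoidal
import Groth.Agent.Lib.Helper3.AvoidPoints
import Groth.Agent.Lib.Helper3.InvCoh
import Groth.Agent.Lib.Helper7.AvoidGen2
import Groth.Agent.Lib.Helper17.PbFlat

/-!
# The effective Cartier divisor of a regular section of an invertible module (helper7)

For `s : O_X ⟶ M`, `ι : M' ⊗ M ≅ O_X`:
* `dualSec ι s : M' ⟶ O_X`, "multiplication by `s`";
* `IsRegSec s`: locally `s = c • ε` with `ε` a generator over an affine open and `c` a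
  nonzerodivisor;
* for `s` regular: `dualSec ι s` is mono, `zeroDiv ι s := idealOfSub (dualSec ι s)` is effective
  Cartier, its ideal module is `≅ M'`, and its support misses `genLocus s`.
-/

set_option autoImplicit false
set_option linter.unusedSectionVars false
set_option linter.style.haveILetI false
universe u
open CategoryTheory CategoryTheory.Limits AlgebraicGeometry TopologicalSpace Opposite
open Scheme.Modules

noncomputable section

namespace Groth.Agent.Lib.Helper7.RegSec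

open Groth.Agent.Lib.Helper3
open QCSec InvGen InvTensor InvMonoidal InvAmple InvCoh SubIdeal IdealMod

variable {X : Scheme.{u}} {M M' : X.Modules}
  (ι : CohB1.tensorMod M' M ≅ Coh.structureModule X) (s : Coh.structureModule X ⟶ M)

/-- the dual of a section: `M' ≅ M' ⊗ O ⟶ M' ⊗ M ≅ O`. -/
def dualSec : M' ⟶ Coh.structureModule X :=
  (SecTwist.unitorR M').inv ≫ tensorMap (𝟙 M') s ≫ ι.hom

lemma unitorR_inv_app (U : X.Opens) (t : Γ(M', U)) :
    (SecTwist.unitorR M').inv.app U t = tm M' (Coh.structureModule X) U t (ofFun U 1) := by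
  have h := unitorR_hom_tm M' U t 1
  rw [one_smul] at h
  calc (SecTwist.unitorR M').inv.app U t
      = (SecTwist.unitorR M').inv.app U ((SecTwist.unitorR M').hom.app U
          (tm M' (Coh.structureModule X) U t (ofFun U 1))) := by rw [h]
    _ = _ := iso_inv_hom_app _ _ _

lemma dualSec_app (U : X.Opens) (t : Γ(M', U)) :
    (dualSec ι s).app U t = ι.hom.app U (tm M' M U t (sec s U)) := by
  change ι.hom.app U ((tensorMap (𝟙 M') s).app U ((SecTwist.unitorR M').inv.app U t)) = _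
  rw [unitorR_inv_app, tensorMap_tm]
  rfl

lemma valOf_dualSec (U : X.Opens) (t : Γ(M', U)) :
    valOf (dualSec ι s) t = toFun U (ι.hom.app U (tm M' M U t (sec s U))) :=
  congrArg (toFun U) (dualSec_app ι s U t)

/-- a generator of `M` has a dual generator of `M'`. -/
lemma exists_isGen_inv {U : X.Opens} {ε : Γ(M, U)} (hg : IsGen M U ε) :
    ∃ ε' : Γ(M', U), IsGen M' U ε' ∧ ι.hom.app U (tm M' M U ε' ε) = ofFun U 1 := by
  have hb := tm_gen_bijective M' M hg U le_rfl
  obtain ⟨ε', hε'⟩ := hb.2 (ι.inv.app U (ofFun U 1))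
  dsimp only at hε'
  rw [res_self] at hε'
  have h1 : ι.hom.app U (tm M' M U ε' ε) = ofFun U 1 := by rw [hε', iso_hom_inv_app]
  refine ⟨ε', ?_, h1⟩
  apply Groth.Agent.Lib.Helper7.AvoidGen2.isGen_of_tm hg
  have h2 : IsGen (Coh.structureModule X) U (ι.hom.app U (tm M' M U ε' ε)) := by
    rw [h1]; exact isGen_one U
  have h3 := AvoidPoints.isGen_iso ι.symm h2
  change IsGen _ U (ι.inv.app U (ι.hom.app U _)) at h3
  rwa [iso_inv_hom_app] at h3

lemma valOf_dualSec_gen {U : X.Opens} {ε : Γ(M, U)} {ε' : Γ(M', U)}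
    (h1 : ι.hom.app U (tm M' M U ε' ε) = ofFun U 1) (c : Γ(X, U)) (hc : sec s U = c • ε) :
    valOf (dualSec ι s) ε' = c := by
  rw [valOf_dualSec, hc, tm_smul_right, Scheme.Modules.Hom.app_smul, h1]
  change c * 1 = c
  rw [mul_one]

/-- `s` is a regular section of `M`. -/
def IsRegSec (s : Coh.structureModule X ⟶ M) : Prop :=
  ∀ x : X, ∃ (U : X.Opens) (ε : Γ(M, U)) (c : Γ(X, U)), IsAffineOpen U ∧ x ∈ U ∧ IsGen M U ε ∧
    c ∈ nonZeroDivisors Γ(X, U) ∧ sec s U = c • ε

lemma rres_mem_nonZeroDivisors {U : X.Opens} (hU : IsAffineOpen U) (f : Γ(X, U)) {c : Γ(X, U)}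
    (hc : c ∈ nonZeroDivisors Γ(X, U)) :
    rres X (X.basicOpen_le f) c ∈ nonZeroDivisors Γ(X, X.basicOpen f) := by
  haveI := hU.isLocalization_basicOpen f
  exact IsLocalization.map_nonZeroDivisors_le (Submonoid.powers f) Γ(X, X.basicOpen f)
    (Submonoid.mem_map_of_mem _ hc)

variable {s}

theorem mono_dualSec (hreg : IsRegSec s) : Mono (dualSec ι s) := by
  apply Groth.Agent.Lib.Helper17.PbFlat.mono_of_injective_on_basis
  intro W x hx
  obtain ⟨U, ε, c, hU, hxU, hg, hc, hs⟩ := hreg x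
  obtain ⟨ε', hg', h1⟩ := exists_isGen_inv ι hg
  obtain ⟨f, hfle, hxf⟩ := hU.exists_basicOpen_le (V := W ⊓ U) ⟨x, hx, hxU⟩ hxU
  have hVU : X.basicOpen f ≤ U := X.basicOpen_le f
  refine ⟨X.basicOpen f, hxf, hfle.trans inf_le_left, ?_⟩
  have hval : valOf (dualSec ι s) (res M' hVU ε') = rres X hVU c := by
    rw [valOf_res, valOf_dualSec_gen ι s h1 c hs]
  have hnzd := rres_mem_nonZeroDivisors hU f hc
  intro a b hab
  obtain ⟨α, rfl⟩ := (hg' _ hVU).exists_coord a
  obtain ⟨β, rfl⟩ := (hg' _ hVU).exists_coord b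
  have h2 : valOf (dualSec ι s) (α • res M' hVU ε') = valOf (dualSec ι s) (β • res M' hVU ε') :=
    congrArg (toFun _) hab
  rw [valOf_smul, valOf_smul, hval] at h2
  have h3 : (α - β) * rres X hVU c = 0 := by rw [sub_mul, h2, sub_self]
  have h4 : α - β = 0 := (mem_nonZeroDivisors_iff.mp hnzd).2 _ h3
  rw [sub_eq_zero.mp h4]

variable (s) in
/-- the zero scheme of `s`, as an ideal sheaf datum. -/
def zeroDiv [M'.IsQuasicoherent] : X.IdealSheafData := idealOfSub (dualSec ι s)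

theorem ideal_zeroDiv [M'.IsQuasicoherent] {U : X.Opens} (hU : IsAffineOpen U) {ε : Γ(M, U)}
    {ε' : Γ(M', U)} (hg' : IsGen M' U ε')
    (h1 : ι.hom.app U (tm M' M U ε' ε) = ofFun U 1) (c : Γ(X, U)) (hc : sec s U = c • ε) :
    (zeroDiv ι s).ideal ⟨U, hU⟩ = Ideal.span {c} := by
  ext g
  rw [zeroDiv, mem_ideal_idealOfSub, Ideal.mem_span_singleton']
  constructor
  · rintro ⟨t, rfl⟩
    obtain ⟨a, rfl⟩ := hg'.self.exists_coord t
    exact ⟨a, by rw [valOf_smul, valOf_dualSec_gen ι s h1 c hc]⟩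
  · rintro ⟨a, rfl⟩
    exact ⟨a • ε', by rw [valOf_smul, valOf_dualSec_gen ι s h1 c hc]⟩

theorem isEffCartierIdeal_zeroDiv [M'.IsQuasicoherent] (hreg : IsRegSec s) :
    BlowUp.IsEffCartierIdeal (zeroDiv ι s) := by
  intro x
  obtain ⟨U, ε, c, hU, hxU, hg, hc, hs⟩ := hreg x
  obtain ⟨ε', hg', h1⟩ := exists_isGen_inv ι hg
  exact ⟨⟨U, hU⟩, hxU, c, hc, ideal_zeroDiv ι hU hg' h1 c hs⟩

theorem notMem_support_zeroDiv [M'.IsQuasicoherent] {x : X} (hx : x ∈ CohB1.genLocus M s) :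
    x ∉ (zeroDiv ι s).support := by
  obtain ⟨U, hU, hxU, hUle⟩ := Opens.isBasis_iff_nbhd.mp X.isBasis_affineOpens hx
  have hg : IsGen M U (sec s U) := isGen_sec_of_le s hUle
  obtain ⟨ε', hg', h1⟩ := exists_isGen_inv ι hg
  have he : valOf (dualSec ι s) ε' = 1 := by
    rw [valOf_dualSec, h1]
    rfl
  exact notMem_support_idealOfSub (dualSec ι s) hU ε' he hxU

theorem idealMod_zeroDiv_iso [M'.IsQuasicoherent] (hreg : IsRegSec s) :
    Nonempty (M' ≅ ClSub.idealMod (zeroDiv ι s)) := by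
  haveI := mono_dualSec ι hreg
  exact Groth.Agent.Lib.Helper7.SubIdealIso.idealMod_idealOfSub_iso (dualSec ι s)

end Groth.Agent.Lib.Helper7.RegSec
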