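import Mathlib
import Groth.Prelude
import Groth.Agent.Lib.Helper7.GGNef
import Groth.Agent.Lib.Helper7.PtDiv
import Groth.Agent.Lib.Helper7.RegSec
import Groth.Agent.Lib.Helper7.RankTwoC

/-!
# Helper library (helper7): the canonical section of `O(D)`

For an ideal `I` with invertible ideal module and `e₀ : I ⊗ L ≅ O_X`, the canonical section
`canSec I e₀ : O_X ⟶ L` generates `L` exactly off the support of `I`.
Also: strict positivity of the degree of a module with a section vanishing somewhere, on an
integral proper curve.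
-/

set_option autoImplicit false
set_option linter.unusedSectionVars false
set_option linter.style.haveILetI false
universe u
open CategoryTheory CategoryTheory.Limits AlgebraicGeometry Opposite TopologicalSpace
open Scheme.Modules

namespace Groth.Agent.Lib.Helper7.CanSec

open Groth.Agent.Lib.Helper3
open QCSec InvGen InvTensor InvMonoidal InvAmple InvCoh SubIdeal IdealMod
open Groth.Agent.Lib.Helper7.PtDiv Groth.Agent.Lib.Helper7.RegSec
open Groth.Agent.Lib.Helper23 Groth.Agent.Lib.Helper23.Snap Groth.Agent.Lib.Helper23.HilbP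
open Groth.Agent.Lib.Helper7.SnapAlt Groth.Agent.Lib.Helper7.SnapFGA
open Groth.Agent.Lib.Helper7.IntNumPos Groth.Agent.Lib.Helper7.IntNumDiv
open Groth.Agent.Lib.Helper7.SecDeg Groth.Agent.Lib.Helper7.SecDegC Groth.Agent.Lib.Helper7.NumSec
open Groth.Agent.Lib.Helper7.HilbCoeff

section Can

variable {X : Scheme.{u}} (I : X.IdealSheafData) {L : X.Modules}
  (e₀ : CohB1.tensorMod (ClSub.idealMod I) L ≅ Coh.structureModule X)

/-- the canonical section of `L = O(D)`, `D` the divisor with ideal `I`. -/
noncomputable def canSec : Coh.structureModule X ⟶ L := e₀.inv ≫ jmap I L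

theorem mem_genLocus_canSec_iff (hL : PicF.IsInvertible L) (x : X) :
    x ∈ CohB1.genLocus L (canSec I e₀) ↔ x ∉ I.support := by
  obtain ⟨U, ε, hU, hxU, hg⟩ := exists_affine_isGen hL x
  obtain ⟨ε', hg', h1⟩ := exists_isGen_inv e₀ hg
  have h2 : e₀.inv.app U (ofFun U 1) = tm (ClSub.idealMod I) L U ε' ε := by
    rw [← h1, iso_inv_hom_app]
  have hc : sec (canSec I e₀) U = val I ε' • ε := by
    change (jmap I L).app U (e₀.inv.app U (ofFun U 1)) = _
    rw [h2, jmap_tm]
  have hloc := genLocus_inf_eq_basicOpen (canSec I e₀) hg (val I ε') hc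
  have hiff : x ∈ CohB1.genLocus L (canSec I e₀) ↔ x ∈ X.basicOpen (val I ε') := by
    rw [← hloc]
    exact ⟨fun h => ⟨h, hxU⟩, fun h => h.1⟩
  rw [hiff]
  constructor
  · intro hx hxI
    exact Set.disjoint_left.mp (disjoint_basicOpen_val I ε') hx hxI
  · intro hxI
    let W : X.Opens := U ⊓ ⟨(I.support : Set X)ᶜ, I.support.isClosed.isOpen_compl⟩
    have hWU : W ≤ U := inf_le_left
    have hxW : x ∈ W := ⟨hxU, hxI⟩
    have hWd : Disjoint (W : Set X) (I.support : Set X) := by
      rw [Set.disjoint_left]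
      intro y hy hyI
      exact hy.2 hyI
    obtain ⟨e, he⟩ := exists_val_eq_one I hWd
    obtain ⟨a, ha⟩ := (hg' W hWU).exists_coord e
    have h3 : a * rres X hWU (val I ε') = 1 := by
      rw [← val_res, ← val_smul, ha, he]
    have hu : IsUnit (rres X hWU (val I ε')) := IsUnit.of_mul_eq_one a (by rw [mul_comm]; exact h3)
    have h4 : x ∈ X.basicOpen (rres X hWU (val I ε')) := by
      rw [X.basicOpen_of_isUnit hu]
      exact hxW
    have h5 : X.basicOpen (rres X hWU (val I ε')) = W ⊓ X.basicOpen (val I ε') :=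
      Scheme.basicOpen_res X (val I ε') (homOfLE hWU).op
    rw [h5] at h4
    exact h4.2

end Can

section Curve

variable (k : Type u) [Field k]

/-- on an integral proper curve a module with a nonzero section vanishing somewhere has positive
degree. -/
theorem euler_lt_of_zero (C : Scheme.{u}) [C.Over (Spec (CommRingCat.of k))]
    [IsProper (C ↘ Spec (CommRingCat.of k))] [IsIntegral C]
    (hdimC : topologicalKrullDim C = 1) (M : C.Modules) (hM : PicF.IsInvertible M)
    (t : Coh.structureModule C ⟶ M) (ht : t ≠ 0) (x' : C) (hx' : x' ∉ CohB1.genLocus M t) :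
    Curv2.euler k C (Coh.structureModule C) < Curv2.euler k C M := by
  obtain ⟨eMM'⟩ := Groth.Agent.Lib.Helper23.Inverse.tensor_dual_iso hM
  set M' := Groth.Agent.Lib.Helper23.Inverse.dual M with hM'def
  have hM' : PicF.IsInvertible M' := isInvertible_of_inverse hM ⟨eMM'⟩
  have hXC : topologicalKrullDim C = ((0 + 1 : ℕ) : WithBot ℕ∞) := by
    rw [hdimC]
    norm_cast
  have hd : topologicalKrullDim C ≤ ((0 + 1 : ℕ) : WithBot ℕ∞) := hXC.le
  have hpos0 := pos_of_notMem_genLocus k C 0 hXC M M' hM (braid M' M ≪≫ eMM') t ht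
    Fin.elim0 Fin.elim0 (fun j => Fin.elim0 j) (fun j => Fin.elim0 j) x' hx'
  have hpos : 0 < FGA.intNum k C 1 (Fin.cons M' Fin.elim0 : Fin (0 + 1) → C.Modules)
      (Coh.structureModule C) := hpos0
  have hd1 : topologicalKrullDim C ≤ ((1 : ℕ) : WithBot ℕ∞) := hd
  have hO := T2.isCoh_structureModule C
  have hdimO : topologicalKrullDim (CohB1.support (Coh.structureModule C)) ≤
      ((0 + 1 : ℕ) : WithBot ℕ∞) := dim_support_le C (0 + 1) hd _
  have hneg := intNum_cons_neg k C 1 hd1 (Fin.elim0 : Fin 0 → C.Modules)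
    (fun j => Fin.elim0 j) M M' hM hM' eMM' (Coh.structureModule C) hO hdimO
  rw [intNum_cons, intNum_zero, intNum_zero] at hneg
  have e1 : CohB1.tensorMod (Coh.structureModule C) (Coh.structureModule C) ≅
      Coh.structureModule C := unitorL _
  have e2 : CohB1.tensorMod (Coh.structureModule C)
      (CohB1.tensorMod M (Coh.structureModule C)) ≅ M := unitorL _ ≪≫ SecTwist.unitorR M
  rw [eulerLE_iso k C e1, eulerLE_iso k C e2, eulerLE_eq k C 1 hd1, eulerLE_eq k C 1 hd1] at hneg
  linarith

end Curve

end Groth.Agent.Lib.Helper7.CanSec
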