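import Mathlib
import Groth.Prelude
import Groth.Agent.Lib.Helper7.ArSurfDeg
import Groth.Agent.Lib.Helper7.CanSec

/-!
# Helper library (helper7): intersection of a vertical prime divisor with an effective divisor
(S8728).
-/

set_option autoImplicit false
set_option linter.unusedSectionVars false
set_option linter.style.haveILetI false
universe u
open CategoryTheory CategoryTheory.Limits AlgebraicGeometry Opposite TopologicalSpace
open Scheme.Modules

namespace Groth.Agent.Lib.Helper7.ArSurfDegB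

open Groth.Agent.Lib.Helper3 Groth.Agent.Lib.Helper3.InvMonoidal Groth.Agent.Lib.Helper3.InvTensor
open Groth.Agent.Lib.Helper7.SnapFGA Groth.Agent.Lib.Helper17
open Groth.Agent.Lib.Helper7.ArSurfDeg Groth.Agent.Lib.Helper7.CanSec
open Groth.Agent.Lib.Helper7.NumSec Groth.Agent.Lib.Helper23

variable {R : Type u} [CommRing R] [IsDomain R] [IsDiscreteValuationRing R]
  {X : Over (Spec (CommRingCat.of R))}

/-- the degree on a vertical prime divisor `Γ` of `L = O(E)`, `E` an effective Cartier divisor not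
containing `Γ`: it is non-negative and vanishes exactly when `Γ` and `E` are disjoint. -/
theorem inter_nonneg_and_eq_zero_iff (hproper : IsProper X.hom) (Γ : ArSurf.VertComp R X)
    (I : X.left.IdealSheafData) (hIE : PicF.IsInvertible (ClSub.idealMod I))
    (hΓ : Γ.ι.base (genericPoint ↥Γ.curve.left) ∉ (I.support : Set ↥X.left))
    (L : X.left.Modules) (hL : ClSub.IsInverseOf L (ClSub.idealMod I)) :
    0 ≤ ArSurf.inter R X L Γ ∧
      (ArSurf.inter R X L Γ = 0 ↔ Disjoint (Set.range Γ.ι.base) (I.support : Set ↥X.left)) := by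
  haveI : IsProper Γ.curve.hom := by
    haveI : IsClosedImmersion
        (Spec.map (CommRingCat.ofHom (IsLocalRing.residue R))) :=
      IsClosedImmersion.spec_of_surjective _ IsLocalRing.residue_surjective
    haveI : IsProper (Γ.curve.hom ≫ Spec.map (CommRingCat.ofHom (IsLocalRing.residue R))) := by
      rw [← Γ.w]
      infer_instance
    exact IsProper.of_comp Γ.curve.hom (Spec.map (CommRingCat.ofHom (IsLocalRing.residue R)))
  haveI : IsProper (Γ.curve.left ↘ Spec (CommRingCat.of (IsLocalRing.ResidueField R))) :=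
    ‹IsProper Γ.curve.hom›
  obtain ⟨e⟩ := hL
  have hLinv : PicF.IsInvertible L :=
    isInvertible_of_inverse hIE ⟨braid _ _ ≪≫ e⟩
  let e₀ : CohB1.tensorMod (ClSub.idealMod I) L ≅ Coh.structureModule X.left := braid _ _ ≪≫ e
  have hgl := PbBasic.genLocus_pullHom Γ.ι hLinv (canSec I e₀)
  have hMinv := PbBasic.isInvertible_pullback Γ.ι hLinv
  have hmem : ∀ x' : Γ.curve.left,
      x' ∈ CohB1.genLocus ((Scheme.Modules.pullback Γ.ι).obj L)
        (PbBasic.pullHom Γ.ι (canSec I e₀)) ↔ Γ.ι.base x' ∉ (I.support : Set ↥X.left) := by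
    intro x'
    rw [hgl]
    exact mem_genLocus_canSec_iff I e₀ hLinv (Γ.ι.base x')
  have hη := (hmem (genericPoint ↥Γ.curve.left)).mpr hΓ
  have ht : PbBasic.pullHom Γ.ι (canSec I e₀) ≠ 0 := by
    intro h
    rw [h] at hη
    exact notMem_genLocus_zero _ _ hη
  have hle := Groth.Agent.Lib.Helper7.GGNef.euler_le_of_section (IsLocalRing.ResidueField R)
    Γ.curve.left Γ.dim_eq _ hMinv _ ht
  have hd1 : topologicalKrullDim Γ.curve.left ≤ ((1 : ℕ) : WithBot ℕ∞) := by
    rw [Γ.dim_eq]
    norm_cast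
  have hinter : ArSurf.inter R X L Γ =
      Curv2.euler (IsLocalRing.ResidueField R) Γ.curve.left
        ((Scheme.Modules.pullback Γ.ι).obj L) -
      Curv2.euler (IsLocalRing.ResidueField R) Γ.curve.left
        (Coh.structureModule Γ.curve.left) := by
    unfold ArSurf.inter ArSurf.curveDeg
    rw [eulerLE_eq _ _ 1 hd1, eulerLE_eq _ _ 1 hd1]
  refine ⟨by rw [hinter]; linarith, ?_⟩
  constructor
  · intro h0
    rw [Set.disjoint_left]
    rintro _ ⟨x', rfl⟩ hxI
    have hx' : x' ∉ CohB1.genLocus ((Scheme.Modules.pullback Γ.ι).obj L)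
        (PbBasic.pullHom Γ.ι (canSec I e₀)) := fun h => (hmem x').mp h hxI
    have hlt := euler_lt_of_zero (IsLocalRing.ResidueField R) Γ.curve.left Γ.dim_eq _ hMinv _ ht
      x' hx'
    rw [hinter] at h0
    linarith
  · intro hdisj
    have hall : ∀ x' : Γ.curve.left,
        x' ∈ CohB1.genLocus ((Scheme.Modules.pullback Γ.ι).obj L)
          (PbBasic.pullHom Γ.ι (canSec I e₀)) := fun x' =>
      (hmem x').mpr (fun hxI => Set.disjoint_left.mp hdisj ⟨x', rfl⟩ hxI)
    haveI := Groth.Agent.Lib.Helper7.RankTwo.isIso_of_forall_mem_genLocus _ hall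
    rw [hinter, ← FBC.euler_eq_of_iso' (IsLocalRing.ResidueField R)
      (asIso (PbBasic.pullHom Γ.ι (canSec I e₀)))]
    ring

/-- **S8728**. -/
theorem main8728 (hX : ArSurf.IsArithSurface R X) (Γ : ArSurf.VertComp R X)
    (I : X.left.IdealSheafData) (hI : FGA.IsEffCartier I)
    (hΓ : Γ.ι.base (genericPoint ↥Γ.curve.left) ∉ (I.support : Set ↥X.left))
    (L : X.left.Modules) (hL : ClSub.IsInverseOf L (ClSub.idealMod I)) :
    0 ≤ ArSurf.inter R X L Γ ∧
      (ArSurf.inter R X L Γ = 0 ↔ Disjoint (Set.range Γ.ι.base) (I.support : Set ↥X.left)) := by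
  have hIc : BlowUp.IsEffCartierIdeal I := hI
  exact inter_nonneg_and_eq_zero_iff (isProper_hom R X hX) Γ I
    ((EffCartMod.isInvertible_idealMod_iff I).mpr hIc) hΓ L hL

end Groth.Agent.Lib.Helper7.ArSurfDegB
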