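import Mathlib
import Groth.Prelude
import Groth.Agent.Lib.Helper17.DevTest

/-!
# Helper library (helper7): ideal sheaves on affine opens — products, kernels of closed immersions
from integral schemes, local generators, germs.
-/

set_option autoImplicit false
set_option linter.unusedSectionVars false
set_option linter.style.haveILetI false
universe u
open CategoryTheory CategoryTheory.Limits AlgebraicGeometry Opposite TopologicalSpace

namespace Groth.Agent.Lib.Helper7.FibFacA

variable {X : Scheme.{u}}

/-- sections of a finite product of powers of ideal sheaves over an affine open. -/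
theorem ideal_prod_pow {ι : Type*} (s : Finset ι) (I : ι → X.IdealSheafData) (m : ι → ℕ)
    (V : X.affineOpens) :
    (∏ j ∈ s, I j ^ m j).ideal V = ∏ j ∈ s, (I j).ideal V ^ m j := by
  classical
  induction s using Finset.induction_on with
  | empty =>
    simp only [Finset.prod_empty]
    change (⊤ : X.IdealSheafData).ideal V = 1
    rw [Ideal.one_eq_top]
    rfl
  | insert a s ha ih =>
    rw [Finset.prod_insert ha, Finset.prod_insert ha, ← ih]
    rfl

/-- the kernel of a closed immersion from an integral scheme is prime on affine opens it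
meets. -/
theorem isPrime_ker_ideal {C : Scheme.{u}} [IsIntegral C] (i : C ⟶ X) [IsClosedImmersion i]
    (V : X.affineOpens) (h : ∃ c : C, i.base c ∈ V.1) : (i.ker.ideal V).IsPrime := by
  rw [Scheme.Hom.ker_apply]
  obtain ⟨c, hc⟩ := h
  haveI : Nonempty (i ⁻¹ᵁ V.1 : C.Opens) := ⟨⟨c, hc⟩⟩
  haveI : IsDomain Γ(C, i ⁻¹ᵁ V.1) := inferInstance
  exact RingHom.ker_isPrime (i.app V.1).hom

/-- the kernel of a closed immersion is the unit ideal on affine opens it does not meet. -/
theorem ker_ideal_eq_top {C : Scheme.{u}} (i : C ⟶ X) [IsClosedImmersion i]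
    (V : X.affineOpens) (h : ∀ c : C, i.base c ∉ V.1) : i.ker.ideal V = ⊤ := by
  rw [Scheme.Hom.ker_apply, Ideal.eq_top_iff_one, RingHom.mem_ker]
  have hbot : i ⁻¹ᵁ V.1 = ⊥ := by
    ext c
    simp only [Opens.coe_bot, Set.mem_empty_iff_false, iff_false]
    exact h c
  have hsub : Subsingleton Γ(C, i ⁻¹ᵁ V.1) := by
    rw [hbot]
    infer_instance
  exact @Subsingleton.elim _ hsub _ _

/-- a generator of an ideal sheaf over an affine open restricts to a generator over smaller
affine opens. -/
theorem ideal_eq_span_res (I : X.IdealSheafData) {U V : X.affineOpens} (h : U ≤ V)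
    {t : Γ(X, V.1)} (ht : I.ideal V = Ideal.span {t}) :
    I.ideal U = Ideal.span {(X.presheaf.map (homOfLE h).op).hom t} := by
  rw [← I.map_ideal h, ht, Ideal.map_span, Set.image_singleton]

/-- off the support, a local generator of an ideal sheaf is a unit. -/
theorem isUnit_germ_of_notMem_support (I : X.IdealSheafData) (V : X.affineOpens)
    {t : Γ(X, V.1)} (ht : I.ideal V = Ideal.span {t}) (ξ : X) (hξ : ξ ∈ V.1)
    (hξI : ξ ∉ I.support) : IsUnit (X.presheaf.germ V.1 ξ hξ t) := by
  rw [Scheme.IdealSheafData.mem_support_iff_of_mem hξ, ht, Scheme.zeroLocus_span,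
    Scheme.mem_zeroLocus_iff] at hξI
  push Not at hξI
  obtain ⟨f, hf, hfξ⟩ := hξI
  rw [Set.mem_singleton_iff] at hf
  subst hf
  exact (X.mem_basicOpen _ ξ hξ).mp hfξ

/-- the maximal ideal of the stalk at a point whose prime ideal in an affine open is principal. -/
theorem maximalIdeal_stalk_eq_span (V : X.affineOpens) (ξ : X) (hξ : ξ ∈ V.1)
    {t : Γ(X, V.1)} (ht : (V.2.primeIdealOf ⟨ξ, hξ⟩).asIdeal = Ideal.span {t}) :
    IsLocalRing.maximalIdeal (X.presheaf.stalk ξ) =
      Ideal.span {(X.presheaf.germ V.1 ξ hξ).hom t} := by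
  letI : Algebra Γ(X, V.1) (X.presheaf.stalk ξ) :=
    TopCat.Presheaf.algebra_section_stalk X.presheaf ⟨ξ, hξ⟩
  haveI := V.2.isLocalization_stalk ⟨ξ, hξ⟩
  have h := IsLocalization.AtPrime.map_eq_maximalIdeal (V.2.primeIdealOf ⟨ξ, hξ⟩).asIdeal
    (X.presheaf.stalk ξ)
  rw [← h, ht, Ideal.map_span, Set.image_singleton]
  rfl

/-- the kernel of a closed immersion from a reduced scheme is the vanishing ideal of its range. -/
theorem ker_eq_vanishingIdeal {C : Scheme.{u}} [IsReduced C] (i : C ⟶ X) [IsClosedImmersion i] :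
    i.ker = Scheme.IdealSheafData.vanishingIdeal i.ker.support := by
  rw [Scheme.IdealSheafData.vanishingIdeal_support]
  ext V : 2
  change i.ker.ideal V = (i.ker.ideal V).radical
  rw [Scheme.Hom.ker_apply]
  exact ((RingHom.ker_isRadical_iff_reduced_of_surjective
    (i.app_surjective V.1 V.2)).mpr inferInstance).radical.symm

/-- the prime ideal of the image of the generic point. -/
theorem primeIdealOf_generic {C : Scheme.{u}} [IsIntegral C] (i : C ⟶ X) [IsClosedImmersion i]
    (V : X.affineOpens) (hξ : i.base (genericPoint C) ∈ V.1) :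
    (V.2.primeIdealOf ⟨i.base (genericPoint C), hξ⟩).asIdeal = i.ker.ideal V := by
  have hcl : closure ({i.base (genericPoint C)} : Set X) = (i.ker.support : Set X) := by
    rw [Scheme.Hom.support_ker i]
    have h := (genericPoint_spec C).image i.continuous
    rw [Set.image_univ] at h
    exact h.def.symm ▸ rfl
  have h := Groth.Agent.Lib.Helper17.DevTest.vanishingIdeal_ideal_eq i.ker.support _ hcl V hξ
  rw [← h, ← ker_eq_vanishingIdeal i]

end Groth.Agent.Lib.Helper7.FibFacA
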