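import Mathlib
import Groth.Prelude
import Groth.Agent.Lib.Helper7.NefTrivA
import Groth.Agent.Lib.Helper7.GVSupp
import Groth.Agent.Lib.Helper7.PtSec2
import Groth.Agent.Lib.Helper7.CanSec
import Groth.Agent.Lib.Helper7.DegRestr

/-!
# Helper library (helper7): the degree of an invertible module with a nonzero section on an
integral proper curve is the dimension of the global sections of its scheme of zeros.
-/

set_option autoImplicit false
set_option linter.unusedSectionVars false
set_option linter.style.haveILetI false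
universe u
open CategoryTheory CategoryTheory.Limits AlgebraicGeometry Opposite TopologicalSpace
open Scheme.Modules

namespace Groth.Agent.Lib.Helper7.IntLenA

open Groth.Agent.Lib.Helper3 Groth.Agent.Lib.Helper3.InvMonoidal Groth.Agent.Lib.Helper3.InvTensor
open Groth.Agent.Lib.Helper7.SnapFGA Groth.Agent.Lib.Helper17
open Groth.Agent.Lib.Helper7.RegSec Groth.Agent.Lib.Helper7.SecDeg
open Groth.Agent.Lib.Helper23

variable (k : Type u) [Field k] (C : Scheme.{u}) [C.Over (Spec (CommRingCat.of k))]
  [IsProper (C ↘ Spec (CommRingCat.of k))]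

/-- the Euler characteristic of a coherent module with support of dimension `≤ 0`. -/
theorem euler_eq_finrank_of_dim_support (F : C.Modules) (hF : Coh.IsCoh F)
    (hr : topologicalKrullDim (CohB1.support F) ≤ ((0 : ℕ) : WithBot ℕ∞)) :
    Curv2.euler k C F = (Module.finrank k (Coh.HH C F 0) : ℤ) := by
  unfold Curv2.euler
  rw [finsum_eq_single _ 0]
  · simp
  · intro p hp
    haveI := Groth.Agent.Lib.Helper7.GVSupp.subsingleton_HH_of_dim_support_lt k C F hF 0 hr p
      (Nat.pos_of_ne_zero hp)
    rw [Module.finrank_zero_of_subsingleton]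
    simp

variable [IsIntegral C]

/-- **the degree is the length of the scheme of zeros**. -/
theorem deg_eq_finrank (hdimC : topologicalKrullDim C = 1) (M M' : C.Modules)
    (hM : PicF.IsInvertible M) [M'.IsQuasicoherent]
    (ι' : CohB1.tensorMod M' M ≅ Coh.structureModule C)
    (t : Coh.structureModule C ⟶ M) (ht : t ≠ 0) :
    Curv2.euler k C M - Curv2.euler k C (Coh.structureModule C) =
      (Module.finrank k (Coh.HH C (ClSub.quotMod (zeroDiv ι' t)) 0) : ℤ) := by
  haveI : IsNoetherian C := Groth.Agent.Lib.Helper23.Curve.isNoetherian_of_isProper k C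
  have eMM' : CohB1.tensorMod M M' ≅ Coh.structureModule C := braid M M' ≪≫ ι'
  have hM' : PicF.IsInvertible M' := isInvertible_of_inverse hM ⟨eMM'⟩
  have hXC : topologicalKrullDim C = ((0 + 1 : ℕ) : WithBot ℕ∞) := by
    rw [hdimC]
    norm_cast
  have hd1 : topologicalKrullDim C ≤ ((1 : ℕ) : WithBot ℕ∞) := hXC.le
  have hreg := isRegSec_of_ne_zero hM t ht
  have hZ := isEffCartierIdeal_zeroDiv ι' hreg
  obtain ⟨eI⟩ := idealMod_zeroDiv_iso ι' hreg
  have hS := EffCart.shortExact_ideal (zeroDiv ι' t)
  have hOcoh : Coh.IsCoh (Coh.structureModule C) := T2.isCoh_structureModule C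
  have hQcoh : Coh.IsCoh (ClSub.quotMod (zeroDiv ι' t)) := EffCart.isCoh_quotMod _
  have hIcoh : Coh.IsCoh (ClSub.idealMod (zeroDiv ι' t)) :=
    Groth.Agent.Lib.Helper7.PtDiv.isCoh_idealMod' k _
  have he := T2.euler_additive k C _ hS hIcoh hOcoh hQcoh
  have he' : Curv2.euler k C (Coh.structureModule C) =
      Curv2.euler k C (ClSub.idealMod (zeroDiv ι' t)) +
        Curv2.euler k C (ClSub.quotMod (zeroDiv ι' t)) := he
  have h2 := Groth.Agent.Lib.Helper7.DegRestr.euler_add_euler_inv k C hd1 M M' hM hM' eMM'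
  have h3 := FBC.euler_eq_of_iso' k eI
  have hdimQ : topologicalKrullDim (CohB1.support (ClSub.quotMod (zeroDiv ι' t))) ≤
      ((0 : ℕ) : WithBot ℕ∞) := by
    rw [DevTest.support_A]
    exact Snap.le_of_lt_succ_dim (Snap.dim_support_lt _ hZ 0 hXC)
  have h4 := euler_eq_finrank_of_dim_support k C _ hQcoh hdimQ
  linarith

end Groth.Agent.Lib.Helper7.IntLenA
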