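import Mathlib
import Groth.Prelude
import Groth.Agent.Lib.Helper7.CanSec
import Groth.Agent.Lib.Helper7.RegSec
import Groth.Agent.Lib.Helper3.ModGlue
import Groth.Agent.Lib.Helper3.ModBasis
import Groth.Agent.Lib.Helper3.IdealMod
import Groth.Agent.Lib.Helper3.PbBasic
import Groth.Agent.Lib.Helper23.EffCart

/-!
# Helper library (helper7): the scheme-theoretic intersection of a closed subscheme with a
divisor, as a pushforward

For a closed immersion `i : C ⟶ X`, an ideal `D` on `X` and an ideal `J` on `C` which is locally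
the ideal generated by `D`: `i_* (O_C / J) ≅ O_X / (D ⊔ ker i)`.  Applied to the scheme of zeros of
the pullback of the canonical section of `O(D)`.
-/

set_option autoImplicit false
set_option linter.unusedSectionVars false
set_option linter.style.haveILetI false
universe u
open CategoryTheory CategoryTheory.Limits AlgebraicGeometry Opposite TopologicalSpace
open Scheme.Modules

namespace Groth.Agent.Lib.Helper7.IntLenB

open Groth.Agent.Lib.Helper3
open QCSec InvGen InvTensor InvMonoidal IdealMod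
open Groth.Agent.Lib.Helper7.PtDiv Groth.Agent.Lib.Helper7.RegSec Groth.Agent.Lib.Helper7.CanSec
open Groth.Agent.Lib.Helper23

section Quot

variable {X : Scheme.{u}}

theorem tS_surj (I : X.IdealSheafData) (U : X.affineOpens) (s : Γ(ClSub.quotMod I, U.1)) :
    ∃ g : Γ(X, U.1), (ClSub.toSubscheme I).app U.1 (ofFun U.1 g) = s := by
  obtain ⟨g, hg⟩ := I.subschemeι_app_surjective U
    (show Γ(I.subscheme, I.subschemeι ⁻¹ᵁ U.1) from s)
  exact ⟨g, hg⟩

theorem tS_eq_zero_iff (I : X.IdealSheafData) (U : X.affineOpens) (g : Γ(X, U.1)) :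
    (ClSub.toSubscheme I).app U.1 (ofFun U.1 g) = 0 ↔ g ∈ I.ideal U := by
  rw [← I.ker_subschemeι_app U, RingHom.mem_ker]
  exact Iff.rfl

end Quot

section Iso

variable {X C : Scheme.{u}} (i : C ⟶ X) [IsClosedImmersion i] (D : X.IdealSheafData)
  (J : C.IdealSheafData)

/-- `O_X ⟶ i_* (O_C / J)`. -/
noncomputable def q₂ : Coh.structureModule X ⟶ (pushforward i).obj (ClSub.quotMod J) :=
  ClSub.unitToPush i ≫ (pushforward i).map (ClSub.toSubscheme J)

theorem q₂_app (V : X.Opens) (g : Γ(X, V)) :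
    (q₂ i J).app V (ofFun V g) =
      (ClSub.toSubscheme J).app (i ⁻¹ᵁ V) (ofFun (i ⁻¹ᵁ V) (i.app V g)) := by
  change ((pushforward i).map (ClSub.toSubscheme J)).app V
    ((ClSub.unitToPush i).app V (ofFun V g)) = _
  rw [IdealMod.unitToPush_app]
  rfl

/-- the opens over which `J` is generated by `D`. -/
def Small (V : X.Opens) : Prop :=
  ∃ hV : IsAffineOpen V,
    J.ideal ⟨i ⁻¹ᵁ V, hV.preimage i⟩ = (D.ideal ⟨V, hV⟩).map (i.app V).hom

variable {i D J}

theorem q₂_eq_zero_iff {V : X.Opens} (hS : Small i D J V) (g : Γ(X, V)) :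
    (q₂ i J).app V (ofFun V g) = 0 ↔ g ∈ (D ⊔ i.ker).ideal ⟨V, hS.1⟩ := by
  obtain ⟨hV, hJ⟩ := hS
  have key : ((q₂ i J).app V (ofFun V g) = 0) ↔
      ((ClSub.toSubscheme J).app (i ⁻¹ᵁ V) (ofFun (i ⁻¹ᵁ V) (i.app V g)) = 0) := Iff.rfl
  rw [key, tS_eq_zero_iff J ⟨i ⁻¹ᵁ V, hV.preimage i⟩, hJ]
  have hsurj : Function.Surjective (i.app V).hom := i.app_surjective V hV
  have h1 : (D ⊔ i.ker).ideal ⟨V, hV⟩ = D.ideal ⟨V, hV⟩ ⊔ RingHom.ker (i.app V).hom := by
    rw [Scheme.IdealSheafData.ideal_sup]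
    change D.ideal ⟨V, hV⟩ ⊔ i.ker.ideal ⟨V, hV⟩ = _
    rw [Scheme.Hom.ker_apply]
  rw [h1, ← Ideal.mem_comap, Ideal.comap_map_of_surjective _ hsurj]
  rfl

variable (i D J)

theorem exists_iso_of_local
    (hloc : ∀ (W : X.Opens) (x : X), x ∈ W → ∃ V : X.Opens, Small i D J V ∧ x ∈ V ∧ V ≤ W) :
    Nonempty ((pushforward i).obj (ClSub.quotMod J) ≅ ClSub.quotMod (D ⊔ i.ker)) := by
  have w : ClSub.idealModι (D ⊔ i.ker) ≫ q₂ i J = 0 := by
    refine ModGlue.hom_ext_of_small (Small i D J) hloc _ _ (fun V hS s => ?_)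
    have h0 := app_val (D ⊔ i.ker) s
    have h1 : val (D ⊔ i.ker) s ∈ (D ⊔ i.ker).ideal ⟨V, hS.1⟩ := by
      rw [← (D ⊔ i.ker).ker_subschemeι_app ⟨V, hS.1⟩, RingHom.mem_ker]
      exact h0
    have h2 := (q₂_eq_zero_iff hS _).mpr h1
    change (q₂ i J).app V ((ClSub.idealModι (D ⊔ i.ker)).app V s) = 0
    exact h2
  let S₂ : ShortComplex X.Modules := ShortComplex.mk (ClSub.idealModι (D ⊔ i.ker)) (q₂ i J) w
  have hS₂ : S₂.Exact := by
    apply ModBasis.exact_of_exact_on_basis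
    intro W x hx
    obtain ⟨V, hS, hxV, hVW⟩ := hloc W x hx
    refine ⟨V, hxV, hVW, fun s hs => ?_⟩
    have h1 : toFun V s ∈ (D ⊔ i.ker).ideal ⟨V, hS.1⟩ := (q₂_eq_zero_iff hS (toFun V s)).mp hs
    rw [← (D ⊔ i.ker).ker_subschemeι_app ⟨V, hS.1⟩, RingHom.mem_ker] at h1
    obtain ⟨t, ht⟩ := exists_val_eq (D ⊔ i.ker) (toFun V s) h1
    exact ⟨t, ht⟩
  haveI hepi : Epi S₂.g := by
    apply ModBasis.epi_of_surjective_on_basis
    intro W x hx
    obtain ⟨V, hS, hxV, hVW⟩ := hloc W x hx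
    refine ⟨V, hxV, hVW, fun σ => ?_⟩
    obtain ⟨g', hg'⟩ := tS_surj J ⟨i ⁻¹ᵁ V, hS.1.preimage i⟩ σ
    obtain ⟨g, hg⟩ := i.app_surjective V hS.1 g'
    refine ⟨ofFun V g, ?_⟩
    change (q₂ i J).app V (ofFun V g) = σ
    rw [q₂_app]
    rw [← hg'] 
    congr 2
  have hS₁ := EffCart.shortExact_ideal (D ⊔ i.ker)
  haveI := hS₁.epi_g
  have c₁ := hS₁.exact.gIsCokernel
  have c₂ := hS₂.gIsCokernel
  exact ⟨IsColimit.coconePointUniqueUpToIso c₂ c₁⟩

end Iso

section Can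

variable {X C : Scheme.{u}} (i : C ⟶ X) [IsClosedImmersion i] (D : X.IdealSheafData)
  {L : X.Modules} (hL : PicF.IsInvertible L)
  (e₀ : CohB1.tensorMod (ClSub.idealMod D) L ≅ Coh.structureModule X)
  {M' : C.Modules} [M'.IsQuasicoherent]
  (ι' : CohB1.tensorMod M' ((Scheme.Modules.pullback i).obj L) ≅ Coh.structureModule C)

include hL in
theorem small_zeroDiv (W : X.Opens) (x : X) (hxW : x ∈ W) :
    ∃ V : X.Opens, Small i D (zeroDiv ι' (PbBasic.pullHom i (canSec D e₀))) V ∧ x ∈ V ∧ V ≤ W := by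
  obtain ⟨V, ε, hV, hxV, hVW, hg⟩ := exists_affine_isGen_le hL x W hxW
  obtain ⟨ε', hg', h1⟩ := exists_isGen_inv e₀ hg
  have h2 : e₀.inv.app V (ofFun V 1) = tm (ClSub.idealMod D) L V ε' ε := by
    rw [← h1, iso_inv_hom_app]
  have hc : sec (canSec D e₀) V = val D ε' • ε := by
    change (jmap D L).app V (e₀.inv.app V (ofFun V 1)) = _
    rw [h2, jmap_tm]
  have hD : D.ideal ⟨V, hV⟩ = Ideal.span {val D ε'} := by
    ext g
    rw [Ideal.mem_span_singleton']
    constructor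
    · intro hgI
      rw [← D.ker_subschemeι_app ⟨V, hV⟩, RingHom.mem_ker] at hgI
      obtain ⟨s, hs⟩ := exists_val_eq D g hgI
      obtain ⟨a, ha⟩ := hg'.self.exists_coord s
      exact ⟨a, by rw [← hs, ← ha, val_smul]⟩
    · rintro ⟨a, rfl⟩
      have h0 := app_val D (a • ε')
      rw [val_smul] at h0
      rw [← D.ker_subschemeι_app ⟨V, hV⟩, RingHom.mem_ker]
      exact h0
  refine ⟨V, ⟨hV, ?_⟩, hxV, hVW⟩
  have hgM := PbBasic.isGen_pull i hg
  obtain ⟨ε'', hg'', h1''⟩ := exists_isGen_inv ι' hgM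
  have hz := ideal_zeroDiv ι' (hV.preimage i) hg'' h1'' (i.app V (val D ε')) (by
    rw [PbBasic.sec_pullHom, hc, PbBasic.pull_smul])
  rw [hz, hD, Ideal.map_span, Set.image_singleton]

include hL in
/-- `i_* (O_C / Z(i^* s_D)) ≅ O_X / (D + I_C)`. -/
theorem exists_iso_zeroDiv :
    Nonempty ((pushforward i).obj
      (ClSub.quotMod (zeroDiv ι' (PbBasic.pullHom i (canSec D e₀)))) ≅
        ClSub.quotMod (D ⊔ i.ker)) :=
  exists_iso_of_local i D _ (small_zeroDiv i D hL e₀ ι')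

end Can

end Groth.Agent.Lib.Helper7.IntLenB
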