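import Mathlib
import Groth.Prelude
import Groth.Agent.Lib.Helper7.IntLenA
import Groth.Agent.Lib.Helper7.IntLenB
import Groth.Agent.Lib.Helper7.ArSurfDegB
import Groth.Agent.Lib.Helper7.PushLinear

/-!
# Helper library (helper7): the intersection number of an effective divisor with a vertical prime
divisor of an arithmetic surface is the length of the scheme-theoretic intersection (S7926).
-/

set_option autoImplicit false
set_option linter.unusedSectionVars false
set_option linter.style.haveILetI false
universe u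
open CategoryTheory CategoryTheory.Limits AlgebraicGeometry Opposite TopologicalSpace
open Scheme.Modules

namespace Groth.Agent.Lib.Helper7.IntLenC

open Groth.Agent.Lib.Helper3 Groth.Agent.Lib.Helper3.InvMonoidal Groth.Agent.Lib.Helper3.InvTensor
open Groth.Agent.Lib.Helper7.SnapFGA Groth.Agent.Lib.Helper17
open Groth.Agent.Lib.Helper7.ArSurfDeg Groth.Agent.Lib.Helper7.CanSec
open Groth.Agent.Lib.Helper7.NumSec Groth.Agent.Lib.Helper23
open Groth.Agent.Lib.Helper7.RegSec

theorem toGlobal_comp_map {A B : Type u} [CommRing A] [CommRing B] (φ : A →+* B)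
    {Y : Scheme.{u}} (q : Y ⟶ Spec (CommRingCat.of B)) (a : A) :
    Coh.toGlobal (q ≫ Spec.map (CommRingCat.ofHom φ)) a = Coh.toGlobal q (φ a) := by
  have h := Scheme.ΓSpecIso_inv_naturality (CommRingCat.ofHom φ)
  have h2 := congrArg (fun t => t.hom a) h
  change (q ≫ Spec.map (CommRingCat.ofHom φ)).appTop.hom
      ((Scheme.ΓSpecIso (CommRingCat.of A)).inv.hom a) =
    q.appTop.hom ((Scheme.ΓSpecIso (CommRingCat.of B)).inv.hom (φ a))
  rw [Scheme.Hom.comp_appTop]
  exact congrArg q.appTop.hom h2.symm

variable {R : Type u} [CommRing R] [IsDomain R] [IsDiscreteValuationRing R]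
  {X : Over (Spec (CommRingCat.of R))}

/-- an isomorphism of modules induces an `R`-linear equivalence on cohomology. -/
noncomputable def HmapEquivR {M N : X.left.Modules} (e : M ≅ N) (n : ℕ) :
    Coh.HH X.left M n ≃ₗ[R] Coh.HH X.left N n :=
  (T2.HmapEquiv e n).toAddEquiv.toLinearEquiv
    (fun c x => (T2.HmapEquiv e n).map_smul
      (Coh.toGlobal (X.left ↘ Spec (CommRingCat.of R)) c) x)

/-- the `R`-length of the cohomology of a module pushed forward from a vertical prime divisor is
the dimension over the residue field. -/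
theorem length_push (hproper : IsProper X.hom) (Γ : ArSurf.VertComp R X)
    (G : Γ.curve.left.Modules) (hG : Coh.IsCoh G) (p : ℕ) :
    Module.length R (Coh.HH X.left ((pushforward Γ.ι).obj G) p) =
      (Module.finrank (IsLocalRing.ResidueField R) (Coh.HH Γ.curve.left G p) : ℕ∞) := by
  haveI : IsProper Γ.curve.hom := by
    haveI : IsClosedImmersion
        (Spec.map (CommRingCat.ofHom (IsLocalRing.residue R))) :=
      IsClosedImmersion.spec_of_surjective _ IsLocalRing.residue_surjective
    haveI : IsProper (Γ.curve.hom ≫ Spec.map (CommRingCat.ofHom (IsLocalRing.residue R))) := by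
      rw [← Γ.w]
      infer_instance
    exact IsProper.of_comp Γ.curve.hom (Spec.map (CommRingCat.ofHom (IsLocalRing.residue R)))
  haveI : IsProper (Γ.curve.left ↘ Spec (CommRingCat.of (IsLocalRing.ResidueField R))) :=
    ‹IsProper Γ.curve.hom›
  letI : Γ.curve.left.Over (Spec (CommRingCat.of R)) := ⟨Γ.ι ≫ X.hom⟩
  have e := Groth.Agent.Lib.Helper7.PushLinear.pushLinearEquiv Γ.ι G R rfl p
  rw [← e.length_eq]
  haveI : IsScalarTower R (IsLocalRing.ResidueField R) (Coh.HH Γ.curve.left G p) :=
    ⟨fun r a n => by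
      have hr : Coh.toGlobal (Γ.curve.left ↘ Spec (CommRingCat.of R)) r =
          Coh.toGlobal (Γ.curve.left ↘ Spec (CommRingCat.of (IsLocalRing.ResidueField R)))
            (IsLocalRing.residue R r) := by
        change Coh.toGlobal (Γ.ι ≫ X.hom) r = _
        rw [Γ.w]
        exact toGlobal_comp_map (IsLocalRing.residue R) Γ.curve.hom r
      change Coh.toGlobal (Γ.curve.left ↘ Spec (CommRingCat.of (IsLocalRing.ResidueField R)))
          (r • a) • n =
        Coh.toGlobal (Γ.curve.left ↘ Spec (CommRingCat.of R)) r •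
          (Coh.toGlobal (Γ.curve.left ↘ Spec (CommRingCat.of (IsLocalRing.ResidueField R))) a • n)
      rw [hr, Algebra.smul_def, map_mul, mul_smul]
      rfl⟩
  rw [Module.length_eq_of_surjective (R := IsLocalRing.ResidueField R) (S := R)
    IsLocalRing.residue_surjective]
  haveI := T2.finite_HH (IsLocalRing.ResidueField R) G hG p
  exact Module.length_eq_finrank (IsLocalRing.ResidueField R) _

/-- **the intersection number with an effective divisor not containing `Γ` is the length of the
scheme-theoretic intersection.** -/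
theorem inter_eq_lengthH (hproper : IsProper X.hom) (Γ : ArSurf.VertComp R X)
    (I : X.left.IdealSheafData) (hIE : PicF.IsInvertible (ClSub.idealMod I))
    (hΓ : Γ.ι.base (genericPoint ↥Γ.curve.left) ∉ (I.support : Set ↥X.left))
    (L : X.left.Modules) (hL : ClSub.IsInverseOf L (ClSub.idealMod I)) :
    ArSurf.inter R X L Γ = (Models.lengthH R X (ClSub.quotMod (I ⊔ Γ.ι.ker)) 0 : ℤ) := by
  haveI : IsProper Γ.curve.hom := by
    haveI : IsClosedImmersion
        (Spec.map (CommRingCat.ofHom (IsLocalRing.residue R))) :=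
      IsClosedImmersion.spec_of_surjective _ IsLocalRing.residue_surjective
    haveI : IsProper (Γ.curve.hom ≫ Spec.map (CommRingCat.ofHom (IsLocalRing.residue R))) := by
      rw [← Γ.w]
      infer_instance
    exact IsProper.of_comp Γ.curve.hom (Spec.map (CommRingCat.ofHom (IsLocalRing.residue R)))
  haveI : IsProper (Γ.curve.left ↘ Spec (CommRingCat.of (IsLocalRing.ResidueField R))) :=
    ‹IsProper Γ.curve.hom›
  obtain ⟨e⟩ := hL
  have hLinv : PicF.IsInvertible L :=
    isInvertible_of_inverse hIE ⟨braid _ _ ≪≫ e⟩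
  let e₀ : CohB1.tensorMod (ClSub.idealMod I) L ≅ Coh.structureModule X.left := braid _ _ ≪≫ e
  have hgl := PbBasic.genLocus_pullHom Γ.ι hLinv (canSec I e₀)
  have hMinv := PbBasic.isInvertible_pullback Γ.ι hLinv
  have hη : genericPoint ↥Γ.curve.left ∈
      CohB1.genLocus ((Scheme.Modules.pullback Γ.ι).obj L)
        (PbBasic.pullHom Γ.ι (canSec I e₀)) := by
    rw [hgl]
    exact (mem_genLocus_canSec_iff I e₀ hLinv (Γ.ι.base (genericPoint ↥Γ.curve.left))).mpr hΓ
  have ht : PbBasic.pullHom Γ.ι (canSec I e₀) ≠ 0 := by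
    intro h
    rw [h] at hη
    exact notMem_genLocus_zero _ _ hη
  have hd1 : topologicalKrullDim Γ.curve.left ≤ ((1 : ℕ) : WithBot ℕ∞) := by
    rw [Γ.dim_eq]
    norm_cast
  have hinter : ArSurf.inter R X L Γ =
      Curv2.euler (IsLocalRing.ResidueField R) Γ.curve.left
        ((Scheme.Modules.pullback Γ.ι).obj L) -
      Curv2.euler (IsLocalRing.ResidueField R) Γ.curve.left
        (Coh.structureModule Γ.curve.left) := by
    unfold ArSurf.inter ArSurf.curveDeg
    rw [eulerLE_eq _ _ 1 hd1, eulerLE_eq _ _ 1 hd1]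
  obtain ⟨eMM'⟩ := Groth.Agent.Lib.Helper23.Inverse.tensor_dual_iso hMinv
  have hM' := isInvertible_of_inverse hMinv ⟨eMM'⟩
  haveI : (Groth.Agent.Lib.Helper23.Inverse.dual
      ((Scheme.Modules.pullback Γ.ι).obj L)).IsQuasicoherent :=
    InvCoh.isQuasicoherent_of_isInvertible hM'
  have h1 := Groth.Agent.Lib.Helper7.IntLenA.deg_eq_finrank (IsLocalRing.ResidueField R)
    Γ.curve.left Γ.dim_eq _ _ hMinv (braid _ _ ≪≫ eMM') _ ht
  obtain ⟨eQ⟩ := Groth.Agent.Lib.Helper7.IntLenB.exists_iso_zeroDiv Γ.ι I hLinv e₀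
    (braid _ _ ≪≫ eMM')
  have h2 := length_push hproper Γ _ (EffCart.isCoh_quotMod
    (zeroDiv (braid _ _ ≪≫ eMM') (PbBasic.pullHom Γ.ι (canSec I e₀)))) 0
  have h3 := (HmapEquivR (R := R) eQ 0).length_eq
  unfold Models.lengthH
  rw [← h3, h2, hinter, h1]
  simp

end Groth.Agent.Lib.Helper7.IntLenC
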