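import Mathlib
import Groth.Prelude
import Groth.Agent.Lib.Helper7.IntLenC
import Groth.Agent.Lib.Helper23.HilbPG

/-!
# Helper library (helper7): symmetry of the intersection number of two distinct vertical prime
divisors of an arithmetic surface (S8730), and S7926.
-/

set_option autoImplicit false
set_option linter.unusedSectionVars false
set_option linter.style.haveILetI false
universe u
open CategoryTheory CategoryTheory.Limits AlgebraicGeometry Opposite TopologicalSpace
open Scheme.Modules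

namespace Groth.Agent.Lib.Helper7.IntLenD

open Groth.Agent.Lib.Helper17
open Groth.Agent.Lib.Helper7.ArSurfDeg Groth.Agent.Lib.Helper7.IntLenC
open Groth.Agent.Lib.Helper23.HilbP

variable {R : Type u} [CommRing R] [IsDomain R] [IsDiscreteValuationRing R]
  {X : Over (Spec (CommRingCat.of R))}

theorem support_ker_eq_range (Γ : ArSurf.VertComp R X) :
    (Γ.ι.ker.support : Set X.left) = Set.range Γ.ι := by
  rw [Scheme.Hom.support_ker Γ.ι]
  exact Γ.ι.isClosedEmbedding.isClosed_range.closure_eq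

theorem closure_generic (Γ : ArSurf.VertComp R X) :
    closure ({Γ.ι.base (genericPoint Γ.curve.left)} : Set X.left) = Set.range Γ.ι := by
  apply Set.Subset.antisymm
  · apply closure_minimal _ Γ.ι.isClosedEmbedding.isClosed_range
    rw [Set.singleton_subset_iff]
    exact ⟨_, rfl⟩
  · rintro _ ⟨w, rfl⟩
    have h1 : genericPoint Γ.curve.left ⤳ w := genericPoint_specializes w
    exact specializes_iff_mem_closure.mp (h1.map Γ.ι.continuous)

theorem dim_range (Γ : ArSurf.VertComp R X) :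
    topologicalKrullDim (Set.range Γ.ι : Set X.left) = 1 := by
  rw [← support_ker_eq_range]
  exact dim_support_ker Γ

/-- the generic point of a vertical prime divisor does not lie on a different one. -/
theorem generic_notMem_of_ne (Γ₁ Γ₂ : ArSurf.VertComp R X)
    (hne : Set.range Γ₁.ι.base ≠ Set.range Γ₂.ι.base) :
    Γ₁.ι.base (genericPoint Γ₁.curve.left) ∉ (Γ₂.ι.ker.support : Set X.left) := by
  intro hmem
  rw [support_ker_eq_range, ← closure_generic Γ₂] at hmem
  have h21 : Γ₂.ι.base (genericPoint Γ₂.curve.left) ⤳ Γ₁.ι.base (genericPoint Γ₁.curve.left) :=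
    specializes_iff_mem_closure.mpr hmem
  have hcl1 := closure_generic Γ₁
  have hcl2 := closure_generic Γ₂
  have hd1 := dim_range Γ₁
  have hd2 := dim_range Γ₂
  have hη2 : Γ₂.ι.base (genericPoint Γ₂.curve.left) ∈ (Set.range Γ₂.ι : Set X.left) := ⟨_, rfl⟩
  have hc1 : IsClosed (Set.range Γ₁.ι : Set X.left) := Γ₁.ι.isClosedEmbedding.isClosed_range
  have hc2 : IsClosed (Set.range Γ₂.ι : Set X.left) := Γ₂.ι.isClosedEmbedding.isClosed_range
  generalize Γ₁.ι.base (genericPoint Γ₁.curve.left) = η₁ at *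
  generalize Γ₂.ι.base (genericPoint Γ₂.curve.left) = η₂ at *
  by_cases h12 : η₁ ⤳ η₂
  · apply hne
    change (Set.range Γ₁.ι : Set X.left) = Set.range Γ₂.ι
    rw [← hcl1, ← hcl2]
    exact Set.Subset.antisymm (specializes_iff_closure_subset.mp h21)
      (specializes_iff_closure_subset.mp h12)
  · have hle : ((1 : ℕ) : WithBot ℕ∞) ≤ topologicalKrullDim (Set.range Γ₁.ι : Set X.left) := by
      rw [hd1]
      norm_cast
    obtain ⟨y, hy, y', hyy', hny, -⟩ := exists_Ch_mem_of_le_dim hc1 hle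
    have h1y : η₁ ⤳ y := by
      rw [specializes_iff_mem_closure, hcl1]
      exact hy
    have hCh1 : Ch 1 η₁ := ⟨y', h1y.trans hyy', fun h => hny (h.trans h1y), trivial⟩
    have hCh2 : Ch 2 η₂ := Ch.succ h21 h12 hCh1
    have h2 := le_dim_of_Ch_mem hc2 hη2 hCh2
    rw [hd2] at h2
    have h3 : (2 : ℕ) ≤ 1 := by exact_mod_cast h2
    omega

/-- **S7926**. -/
theorem main7926 (hX : ArSurf.IsArithSurface R X) (Γ : ArSurf.VertComp R X)
    (D : X.left.IdealSheafData) (hD : FGA.IsEffCartier D)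
    (hΓD : Γ.ι.base (genericPoint Γ.curve.left) ∉ (D.support : Set X.left))
    (L : X.left.Modules) (hL : ClSub.IsInverseOf L (ClSub.idealMod D)) :
    ArSurf.inter R X L Γ = (Models.lengthH R X (ClSub.quotMod (D ⊔ Γ.ι.ker)) 0 : ℤ) := by
  have hIc : BlowUp.IsEffCartierIdeal D := hD
  exact inter_eq_lengthH (isProper_hom R X hX) Γ D
    ((EffCartMod.isInvertible_idealMod_iff D).mpr hIc) hΓD L hL

/-- **S8730**. -/
theorem main8730 (hX : ArSurf.IsArithSurface R X) (Γ₁ Γ₂ : ArSurf.VertComp R X)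
    (hne : Set.range Γ₁.ι.base ≠ Set.range Γ₂.ι.base)
    (L₁ L₂ : X.left.Modules) (h₁ : ClSub.IsInverseOf L₁ (ClSub.idealMod Γ₁.ι.ker))
    (h₂ : ClSub.IsInverseOf L₂ (ClSub.idealMod Γ₂.ι.ker)) :
    ArSurf.inter R X L₂ Γ₁ = ArSurf.inter R X L₁ Γ₂ := by
  have hp := isProper_hom R X hX
  have hI₁ := (EffCartMod.isInvertible_idealMod_iff _).mpr (isEffCartierIdeal_ker hX Γ₁)
  have hI₂ := (EffCartMod.isInvertible_idealMod_iff _).mpr (isEffCartierIdeal_ker hX Γ₂)
  rw [inter_eq_lengthH hp Γ₁ Γ₂.ι.ker hI₂ (generic_notMem_of_ne Γ₁ Γ₂ hne) L₂ h₂,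
    inter_eq_lengthH hp Γ₂ Γ₁.ι.ker hI₁ (generic_notMem_of_ne Γ₂ Γ₁ hne.symm) L₁ h₁, sup_comm]

end Groth.Agent.Lib.Helper7.IntLenD
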