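import Mathlib
import Groth.Prelude
import Groth.Agent.Lib.Helper7.FibFacA
import Groth.Agent.Lib.Helper7.IntLenD
import Groth.Agent.Lib.Helper1.ModelComp

/-!
# Helper library (helper7): the closed fibre of a scheme over a discrete valuation ring and its
components — preparatory lemmas for the factorization of the ideal of the closed fibre.
-/

set_option autoImplicit false
set_option linter.unusedSectionVars false
set_option linter.style.haveILetI false
universe u
open CategoryTheory CategoryTheory.Limits AlgebraicGeometry Opposite TopologicalSpace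

namespace Groth.Agent.Lib.Helper7.FibFacB

open Groth.Agent.Lib.Helper7.FibFacA Groth.Agent.Lib.Helper7.IntLenC
open Groth.Agent.Lib.Helper7.IntLenD

variable {R : Type u} [CommRing R] [IsDomain R] [IsDiscreteValuationRing R]
  {X : Over (Spec (CommRingCat.of R))}

/-- a scalar as a global function. -/
noncomputable def unif (X : Over (Spec (CommRingCat.of R))) (ϖ : R) : Γ(X.left, ⊤) :=
  Coh.toGlobal X.hom ϖ

/-- its restriction to an open. -/
noncomputable def unifOn (X : Over (Spec (CommRingCat.of R))) (ϖ : R) (V : X.left.Opens) :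
    Γ(X.left, V) :=
  (X.left.presheaf.map (homOfLE (le_top : V ≤ ⊤)).op).hom (unif X ϖ)

/-- a uniformizer vanishes on a vertical prime divisor. -/
theorem appTop_toGlobal_eq_zero (Γ : ArSurf.VertComp R X) (ϖ : R)
    (hϖ : ϖ ∈ IsLocalRing.maximalIdeal R) :
    Γ.ι.appTop.hom (unif X ϖ) = 0 := by
  have h1 : Γ.ι.appTop.hom (unif X ϖ) = Coh.toGlobal (Γ.ι ≫ X.hom) ϖ := by
    unfold unif Coh.toGlobal
    rw [Scheme.Hom.comp_appTop]
    rfl
  rw [h1, Γ.w, toGlobal_comp_map (IsLocalRing.residue R) Γ.curve.hom ϖ,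
    (IsLocalRing.residue_eq_zero_iff ϖ).mpr hϖ]
  exact map_zero _

/-- the restriction of a uniformizer to an affine open lies in the ideal of a vertical prime
divisor. -/
theorem res_toGlobal_mem_ker (Γ : ArSurf.VertComp R X) (ϖ : R)
    (hϖ : ϖ ∈ IsLocalRing.maximalIdeal R) (V : X.left.affineOpens) :
    unifOn X ϖ V.1 ∈ Γ.ι.ker.ideal V := by
  rw [Scheme.Hom.ker_apply, RingHom.mem_ker]
  have hnat := Γ.ι.naturality (homOfLE (le_top : V.1 ≤ ⊤)).op
  have h2 := congrArg (fun ψ => ψ.hom (unif X ϖ)) hnat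
  simp only [CommRingCat.hom_comp, RingHom.coe_comp, Function.comp_apply] at h2
  unfold unifOn
  rw [h2]
  have h3 := appTop_toGlobal_eq_zero Γ ϖ hϖ
  change (Γ.ι.app ⊤).hom (unif X ϖ) = 0 at h3
  rw [h3, map_zero]

/-- the multiplicity of a vertical prime divisor as an order of vanishing. -/
theorem mult_eq_ord (Γ : ArSurf.VertComp R X) (ϖ : R) (hϖ : Irreducible ϖ)
    (V : X.left.Opens) (hξ : Γ.ι.base (genericPoint Γ.curve.left) ∈ V) :
    Models.mult R X Γ =
      (Ring.ord (X.left.presheaf.stalk (Γ.ι.base (genericPoint Γ.curve.left)))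
        ((X.left.presheaf.germ V _ hξ).hom (unifOn X ϖ V))).toNat := by
  have hI : Ideal.map (Models.stalkHom R X (Γ.ι.base (genericPoint Γ.curve.left)))
      (IsLocalRing.maximalIdeal R) =
      Ideal.span {(X.left.presheaf.germ V _ hξ).hom (unifOn X ϖ V)} := by
    rw [hϖ.maximalIdeal_eq, Ideal.map_span, Set.image_singleton]
    congr 2
    unfold Models.stalkHom unifOn unif
    exact (TopCat.Presheaf.germ_res_apply X.left.presheaf (homOfLE (le_top : V ≤ ⊤)) _ hξ
      (Coh.toGlobal X.hom ϖ)).symm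
  unfold Models.mult Models.genPtOf Ring.ord
  rw [hI]

/-- every prime containing a uniformizer on an affine open contains the ideal of one of the
components of the closed fibre. -/
theorem exists_ker_le_of_prime {n : ℕ} (Γ : Fin n → ArSurf.VertComp R X)
    (hcov : ∀ x ∈ Models.specialFibreSet R X, ∃ i, x ∈ Set.range (Γ i).ι.base)
    (ϖ : R) (hϖ : Irreducible ϖ) (V : X.left.affineOpens) (q : Ideal Γ(X.left, V.1))
    (hq : q.IsPrime)
    (hbq : unifOn X ϖ V.1 ∈ q) :
    ∃ j, (Γ j).ι.ker.ideal V ≤ q := by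
  set Φ : X.left.IdealSheafData :=
    Scheme.IdealSheafData.ofIdealTop (Ideal.span {unif X ϖ}) with hΦ
  have hΦV : Φ.ideal V = Ideal.span {unifOn X ϖ V.1} := by
    rw [hΦ, Scheme.IdealSheafData.ofIdealTop_ideal, Ideal.map_span, Set.image_singleton]
    rfl
  have hle : (⨅ j, (Γ j).ι.ker) ≤ Φ.radical := by
    rw [← Scheme.IdealSheafData.vanishingIdeal_support,
      ← Scheme.IdealSheafData.le_support_iff_le_vanishingIdeal]
    intro y hy
    have hy' : y ∈ Models.specialFibreSet R X := by
      rw [Groth.Agent.Lib.Helper1.ModelComp.specialFibreSet_eq R X ϖ hϖ]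
      change y ∈ ((X.left.basicOpen (unif X ϖ) : Set X.left))ᶜ
      have h1 : y ∈ (Φ.support : Set X.left) := hy
      rw [hΦ, Scheme.IdealSheafData.coe_support_ofIdealTop, Scheme.zeroLocus_span,
        Scheme.zeroLocus_singleton] at h1
      exact h1
    obtain ⟨j, hj⟩ := hcov y hy'
    have h2 : y ∈ ((Γ j).ι.ker.support : Set X.left) := by
      rw [support_ker_eq_range]
      exact hj
    have h3 : (Γ j).ι.ker.support ≤ (⨅ j, (Γ j).ι.ker).support :=
      Scheme.IdealSheafData.gc.monotone_l (iInf_le _ j)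
    exact h3 h2
  have hleV : (⨅ j, (Γ j).ι.ker.ideal V) ≤ (Φ.ideal V).radical := by
    have h1 := hle V
    rw [Scheme.IdealSheafData.ideal_iInf] at h1
    simpa using h1
  have h4 : (Φ.ideal V).radical ≤ q := by
    rw [hq.radical_le_iff, hΦV, Ideal.span_singleton_le_iff_mem]
    exact hbq
  have h5 : ∏ j, (Γ j).ι.ker.ideal V ≤ q := by
    refine le_trans Ideal.prod_le_inf ?_
    rw [Finset.inf_univ_eq_iInf]
    exact hleV.trans h4
  obtain ⟨j, -, hj⟩ := (Ideal.IsPrime.prod_le hq).mp h5
  exact ⟨j, hj⟩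

end Groth.Agent.Lib.Helper7.FibFacB
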