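import Mathlib

/-!
# Helper library (helper7): factorization of an element of a Noetherian domain all of whose
minimal primes are principal, and the order of vanishing at such a prime (Mathlib only).
-/

set_option autoImplicit false
open Finset

namespace Groth.Agent.Lib.Helper7.FibRing

section Factor

variable {B : Type*} [CommRing B] [IsDomain B] [IsNoetherianRing B]

/-- a minimal prime over a nonzero principal ideal is minimal over any principal ideal generated
by a nonzero multiple contained in it... here: minimal primes over `(a')` are minimal over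
`(c a')`. -/
theorem mem_minimalPrimes_mul {a' c : B} (ha' : a' ≠ 0) (hc : c ≠ 0) {q : Ideal B}
    (hq : q ∈ (Ideal.span {a'}).minimalPrimes) :
    q ∈ (Ideal.span {c * a'}).minimalPrimes := by
  haveI hqp : q.IsPrime := hq.1.1
  have hle : Ideal.span {c * a'} ≤ q := by
    rw [Ideal.span_singleton_le_iff_mem]
    exact q.mul_mem_left c ((Ideal.span_singleton_le_iff_mem (I := q)).mp hq.1.2)
  refine ⟨⟨hqp, hle⟩, ?_⟩
  rintro p' ⟨hp', hp'a⟩ hp'q
  haveI := hp'
  by_contra hnle
  have hlt : p' < q := lt_of_le_of_ne hp'q (fun h => hnle (h ▸ le_rfl))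
  have hh1 : q.height ≤ 1 :=
    Ideal.height_le_one_of_isPrincipal_of_mem_minimalPrimes (Ideal.span {a'}) q hq
  have hne : p' ≠ ⊥ := by
    intro h
    have : c * a' ∈ p' := (Ideal.span_singleton_le_iff_mem (I := p')).mp hp'a
    rw [h, Ideal.mem_bot] at this
    exact mul_ne_zero hc ha' this
  have hbot : (⊥ : Ideal B) < p' := bot_lt_iff_ne_bot.mpr hne
  have h1 : (⊥ : Ideal B).height < p'.height := Ideal.height_strict_mono_of_isPrime hbot
  have h2 : p'.height < q.height := Ideal.height_strict_mono_of_isPrime hlt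
  rw [Ideal.height_bot] at h1
  have h3 : p'.height < 1 := lt_of_lt_of_le h2 hh1
  rw [ENat.lt_one_iff_eq_zero] at h3
  rw [h3] at h1
  exact lt_irrefl _ h1

/-- **factorization**: a nonzero element all of whose minimal primes are generated by the prime
elements `t j`, `j ∈ s`, is a unit times a product of powers of the `t j`. -/
theorem exists_factorization {ι : Type*} [DecidableEq ι] (s : Finset ι) (t : ι → B)
    (ht : ∀ j ∈ s, Prime (t j)) :
    ∀ a : B, a ≠ 0 →
      (∀ q ∈ (Ideal.span {a}).minimalPrimes, ∃ j ∈ s, q = Ideal.span {t j}) →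
      ∃ (e : ι → ℕ) (u : Bˣ), a = u * ∏ j ∈ s, t j ^ e j := by
  intro a
  induction a using (wellFounded_dvdNotUnit (α := B)).induction with
  | _ a ih =>
    intro ha hmin
    by_cases hu : IsUnit a
    · obtain ⟨u, rfl⟩ := hu
      exact ⟨fun _ => 0, u, by simp⟩
    · have hne : Ideal.span {a} ≠ ⊤ := by
        rw [Ne, Ideal.span_singleton_eq_top]
        exact hu
      obtain ⟨⟨q, hq⟩⟩ := Ideal.nonempty_minimalPrimes hne
      obtain ⟨j, hj, rfl⟩ := hmin q hq
      have haq : a ∈ Ideal.span {t j} := (Ideal.span_singleton_le_iff_mem (I := _)).mp hq.1.2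
      obtain ⟨a', rfl⟩ := Ideal.mem_span_singleton.mp haq
      have htj := ht j hj
      have ha' : a' ≠ 0 := right_ne_zero_of_mul ha
      have hdvd : DvdNotUnit a' (t j * a') := ⟨ha', t j, htj.not_unit, mul_comm _ _⟩
      obtain ⟨e', u, he'⟩ := ih a' hdvd ha' (fun q' hq' =>
        hmin q' (mem_minimalPrimes_mul ha' htj.ne_zero hq'))
      refine ⟨fun i => e' i + if j = i then 1 else 0, u, ?_⟩
      simp only [pow_add, Finset.prod_mul_distrib, Finset.prod_pow_boole, hj, if_true]
      rw [he']
      ring

theorem span_eq_prod {B : Type*} [CommRing B] {ι : Type*} (s : Finset ι) (t : ι → B) (e : ι → ℕ)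
    (u : Bˣ) (a : B) (h : a = u * ∏ j ∈ s, t j ^ e j) :
    Ideal.span {a} = ∏ j ∈ s, Ideal.span {t j} ^ e j := by
  rw [h, Ideal.span_singleton_mul_left_unit u.isUnit]
  simp only [Ideal.span_singleton_pow, Ideal.prod_span_singleton]

end Factor

section Ord

variable {S : Type*} [CommRing S] [IsDomain S] [IsLocalRing S]

theorem ord_generator {τ : S} (hmax : IsLocalRing.maximalIdeal S = Ideal.span {τ}) :
    Ring.ord S τ = 1 := by
  rw [Ring.ord, Module.length_eq_one_iff]
  have : (Ideal.span {τ}).IsMaximal := hmax ▸ IsLocalRing.maximalIdeal.isMaximal S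
  rw [isSimpleModule_iff_isSimpleModule_of_algebraMap_surjective (S := S ⧸ Ideal.span {τ})
    Ideal.Quotient.mk_surjective]
  let := Ideal.Quotient.field (Ideal.span {τ})
  exact instIsSimpleModule _

/-- the order of vanishing of a product of powers at a prime generated by one of the factors,
the other factors being units. -/
theorem ord_eq_of_factorization {ι : Type*} [DecidableEq ι] (s : Finset ι) (τ : ι → S)
    (e : ι → ℕ) (v : S) (hv : IsUnit v) (j : ι) (hj : j ∈ s)
    (hmax : IsLocalRing.maximalIdeal S = Ideal.span {τ j}) (hτ : τ j ≠ 0)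
    (hunit : ∀ i ∈ s, i ≠ j → IsUnit (τ i)) :
    Ring.ord S (v * ∏ i ∈ s, τ i ^ e i) = e j := by
  rw [Ring.ord_mul_of_isUnit_left hv, ← Finset.mul_prod_erase s (fun i => τ i ^ e i) hj]
  have hw : IsUnit (∏ i ∈ s.erase j, τ i ^ e i) := by
    apply Finset.prod_induction _ IsUnit (fun _ _ => IsUnit.mul) isUnit_one
    intro i hi
    exact (hunit i (Finset.mem_of_mem_erase hi) (Finset.ne_of_mem_erase hi)).pow _
  rw [Ring.ord_mul_of_isUnit_right hw,
    Ring.ord_pow (mem_nonZeroDivisors_of_ne_zero hτ), ord_generator hmax]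
  simp

end Ord

end Groth.Agent.Lib.Helper7.FibRing
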