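import Groth.Agent.Lib.Helper7.SubIdealIso
import Groth.Agent.Lib.Helper3.InvMonoidal
import Groth.Agent.Lib.Helper3.InvCoh
import Groth.Agent.Lib.Helper17.PbFlat
import Groth.Agent.Lib.Helper17.EffCartMod

/-!
# Helper library (helper7): the ideal module of a product of two effective Cartier divisors is
the tensor product of the ideal modules.
-/

set_option autoImplicit false
set_option linter.unusedSectionVars false
set_option linter.style.haveILetI false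
universe u
open CategoryTheory CategoryTheory.Limits AlgebraicGeometry TopologicalSpace Opposite
open Scheme.Modules

noncomputable section

namespace Groth.Agent.Lib.Helper7.IdealProd

open Groth.Agent.Lib.Helper3
open QCSec InvGen InvTensor InvMonoidal InvCoh SubIdeal IdealMod
open Groth.Agent.Lib.Helper17.EffCartMod

variable {X : Scheme.{u}} (D₁ D₂ : X.IdealSheafData)

/-- the multiplication map `I₁ ⊗ I₂ ⟶ O_X`. -/
def prodMap : CohB1.tensorMod (ClSub.idealMod D₁) (ClSub.idealMod D₂) ⟶ Coh.structureModule X :=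
  tensorMap (ClSub.idealModι D₁) (ClSub.idealModι D₂) ≫ (unitorL (Coh.structureModule X)).hom

theorem valOf_prodMap_tm (U : X.Opens) (a : Γ(ClSub.idealMod D₁, U))
    (b : Γ(ClSub.idealMod D₂, U)) :
    valOf (prodMap D₁ D₂) (tm _ _ U a b) = val D₁ a * val D₂ b := by
  change toFun U ((unitorL (Coh.structureModule X)).hom.app U
    ((tensorMap (ClSub.idealModι D₁) (ClSub.idealModι D₂)).app U (tm _ _ U a b))) = _
  rw [tensorMap_tm]
  have h := unitorL_hom_tm (Coh.structureModule X) U ((ClSub.idealModι D₂).app U b) (val D₁ a)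
  exact congrArg (toFun U) h

variable {D₁ D₂}

theorem mono_prodMap (h₁ : PicF.IsInvertible (ClSub.idealMod D₁))
    (h₂ : PicF.IsInvertible (ClSub.idealMod D₂)) : Mono (prodMap D₁ D₂) := by
  apply Groth.Agent.Lib.Helper17.PbFlat.mono_of_injective_on_basis
  intro W x hx
  obtain ⟨U₁, e₁, hU₁, hxU₁, hU₁W, hg₁⟩ := exists_affine_isGen_le h₁ x W hx
  obtain ⟨V, e₂, hV, hxV, hVU₁, hg₂⟩ := exists_affine_isGen_le h₂ x U₁ hxU₁
  have hg₁' := hg₁.mono hVU₁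
  refine ⟨V, hxV, hVU₁.trans hU₁W, ?_⟩
  obtain ⟨n1, -⟩ := span_of_isGenAt D₁ ⟨V, hV⟩ _ hg₁'.self
  obtain ⟨n2, -⟩ := span_of_isGenAt D₂ ⟨V, hV⟩ _ hg₂.self
  have hnzd := mul_mem n1 n2
  intro a b hab
  obtain ⟨α, rfl⟩ := (isGen_tm hg₁' hg₂).self.exists_coord a
  obtain ⟨β, rfl⟩ := (isGen_tm hg₁' hg₂).self.exists_coord b
  have h2 : valOf (prodMap D₁ D₂) (α • tm _ _ V (res _ hVU₁ e₁) e₂) =
      valOf (prodMap D₁ D₂) (β • tm _ _ V (res _ hVU₁ e₁) e₂) := congrArg (toFun _) hab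
  rw [valOf_smul, valOf_smul, valOf_prodMap_tm] at h2
  have h3 : (α - β) * (val D₁ (res _ hVU₁ e₁) * val D₂ e₂) = 0 := by rw [sub_mul, h2, sub_self]
  have h4 : α - β = 0 := (mem_nonZeroDivisors_iff.mp hnzd).2 _ h3
  rw [sub_eq_zero.mp h4]

theorem ideal_idealOfSub_prodMap
    [(CohB1.tensorMod (ClSub.idealMod D₁) (ClSub.idealMod D₂)).IsQuasicoherent]
    {V : X.Opens} (hV : IsAffineOpen V) {ε₁ : Γ(ClSub.idealMod D₁, V)}
    {ε₂ : Γ(ClSub.idealMod D₂, V)} (hg₁ : IsGen (ClSub.idealMod D₁) V ε₁)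
    (hg₂ : IsGen (ClSub.idealMod D₂) V ε₂) :
    (idealOfSub (prodMap D₁ D₂)).ideal ⟨V, hV⟩ = (D₁ * D₂).ideal ⟨V, hV⟩ := by
  obtain ⟨-, h1⟩ := span_of_isGenAt D₁ ⟨V, hV⟩ ε₁ hg₁.self
  obtain ⟨-, h2⟩ := span_of_isGenAt D₂ ⟨V, hV⟩ ε₂ hg₂.self
  change _ = D₁.ideal ⟨V, hV⟩ * D₂.ideal ⟨V, hV⟩
  rw [h1, h2, Ideal.span_singleton_mul_span_singleton]
  ext g
  rw [mem_ideal_idealOfSub, Ideal.mem_span_singleton']
  constructor
  · rintro ⟨t, rfl⟩
    obtain ⟨a, rfl⟩ := (isGen_tm hg₁ hg₂).self.exists_coord t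
    exact ⟨a, by rw [valOf_smul, valOf_prodMap_tm]⟩
  · rintro ⟨a, rfl⟩
    exact ⟨a • tm _ _ V ε₁ ε₂, by rw [valOf_smul, valOf_prodMap_tm]⟩

theorem idealOfSub_prodMap_eq (h₁ : PicF.IsInvertible (ClSub.idealMod D₁))
    (h₂ : PicF.IsInvertible (ClSub.idealMod D₂))
    [(CohB1.tensorMod (ClSub.idealMod D₁) (ClSub.idealMod D₂)).IsQuasicoherent] :
    idealOfSub (prodMap D₁ D₂) = D₁ * D₂ := by
  have hcov : ∀ x : X, ∃ V : X.affineOpens, x ∈ V.1 ∧
      (idealOfSub (prodMap D₁ D₂)).ideal V = (D₁ * D₂).ideal V := by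
    intro x
    obtain ⟨U₁, e₁, hU₁, hxU₁, -, hg₁⟩ := exists_affine_isGen_le h₁ x ⊤ trivial
    obtain ⟨V, e₂, hV, hxV, hVU₁, hg₂⟩ := exists_affine_isGen_le h₂ x U₁ hxU₁
    exact ⟨⟨V, hV⟩, hxV, ideal_idealOfSub_prodMap hV (hg₁.mono hVU₁) hg₂⟩
  choose V hxV hV using hcov
  refine Scheme.IdealSheafData.ext_of_iSup_eq_top V ?_ hV
  rw [eq_top_iff]
  intro x _
  exact Opens.mem_iSup.mpr ⟨x, hxV x⟩

/-- **the ideal module of a product of effective Cartier divisors.** -/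
theorem idealMod_mul_iso (h₁ : PicF.IsInvertible (ClSub.idealMod D₁))
    (h₂ : PicF.IsInvertible (ClSub.idealMod D₂)) :
    Nonempty (CohB1.tensorMod (ClSub.idealMod D₁) (ClSub.idealMod D₂) ≅
      ClSub.idealMod (D₁ * D₂)) := by
  haveI : (CohB1.tensorMod (ClSub.idealMod D₁) (ClSub.idealMod D₂)).IsQuasicoherent :=
    isQuasicoherent_of_isInvertible (isInvertible_tensorMod h₁ h₂)
  haveI := mono_prodMap h₁ h₂
  obtain ⟨e⟩ := Groth.Agent.Lib.Helper7.SubIdealIso.idealMod_idealOfSub_iso (prodMap D₁ D₂)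
  exact ⟨e ≪≫ eqToIso (congrArg ClSub.idealMod (idealOfSub_prodMap_eq h₁ h₂))⟩

end Groth.Agent.Lib.Helper7.IdealProd
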