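import Groth.Agent.Lib.Helper3.SubIdeal
import Groth.Agent.Lib.Helper3.ModGlue
import Groth.Agent.Lib.Helper3.GrModComap
import Groth.Agent.Lib.Helper17.EffCartMod

/-!
# A quasi-coherent submodule `j : J ↪ O_X` is the ideal module of `idealOfSub j` (helper7)

* `lift j : J ⟶ ClSub.idealMod (idealOfSub j)` and `isIso_lift` for `j` mono.
-/

set_option autoImplicit false
set_option linter.unusedSectionVars false
universe u
open CategoryTheory CategoryTheory.Limits AlgebraicGeometry TopologicalSpace Opposite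
open Scheme.Modules

noncomputable section

namespace Groth.Agent.Lib.Helper7.SubIdealIso

open Groth.Agent.Lib.Helper3 Groth.Agent.Lib.Helper3.QCSec Groth.Agent.Lib.Helper3.InvGen
  Groth.Agent.Lib.Helper3.SubIdeal Groth.Agent.Lib.Helper3.IdealMod

variable {X : Scheme.{u}} {J : X.Modules} (j : J ⟶ Coh.structureModule X) [J.IsQuasicoherent]

lemma subschemeι_app_valOf {V : X.Opens} (hV : IsAffineOpen V) (t : Γ(J, V)) :
    (idealOfSub j).subschemeι.app V (valOf j t) = 0 := by
  have hmem : valOf j t ∈ (idealOfSub j).ideal ⟨V, hV⟩ :=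
    (mem_ideal_idealOfSub j ⟨V, hV⟩ _).mpr ⟨t, rfl⟩
  have h2 := (Scheme.IdealSheafData.ker_subschemeι_app (idealOfSub j) ⟨V, hV⟩).ge hmem
  exact RingHom.mem_ker.mp h2

lemma comp_toSubscheme : j ≫ ClSub.toSubscheme (idealOfSub j) = 0 := by
  apply ModGlue.hom_ext_of_small (fun V => IsAffineOpen V)
  · intro W x hx
    obtain ⟨V, hV, hxV, hVW⟩ :=
      Opens.isBasis_iff_nbhd.mp (Scheme.isBasis_affineOpens X) hx
    exact ⟨V, hV, hxV, hVW⟩
  · intro V hV t
    change ofFun _ ((idealOfSub j).subschemeι.app V (valOf j t)) = 0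
    rw [subschemeι_app_valOf j hV t]
    rfl

/-- `J ⟶ I_{idealOfSub j}`. -/
def lift : J ⟶ ClSub.idealMod (idealOfSub j) :=
  kernel.lift (ClSub.toSubscheme (idealOfSub j)) j (comp_toSubscheme j)

lemma lift_ι : lift j ≫ ClSub.idealModι (idealOfSub j) = j :=
  kernel.lift_ι _ _ _

lemma val_lift (V : X.Opens) (t : Γ(J, V)) :
    IdealMod.val (idealOfSub j) ((lift j).app V t) = valOf j t :=
  congrArg (fun φ => toFun V (Scheme.Modules.Hom.app φ V t)) (lift_ι j)

theorem isIso_lift [Mono j] : IsIso (lift j) := by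
  apply GrModComap.isIso_of_bijective_on_basis
  intro W x hx
  obtain ⟨V, hV, hxV, hVW⟩ := Opens.isBasis_iff_nbhd.mp (Scheme.isBasis_affineOpens X) hx
  refine ⟨V, hxV, hVW, ?_, ?_⟩
  · intro t t' h
    apply valOf_injective j V
    rw [← val_lift j V t, ← val_lift j V t']
    exact congrArg _ h
  · intro s
    have hg : IdealMod.val (idealOfSub j) s ∈ (idealOfSub j).ideal ⟨V, hV⟩ :=
      (Groth.Agent.Lib.Helper17.EffCartMod.mem_ideal_iff _ ⟨V, hV⟩ _).mpr ⟨s, rfl⟩
    obtain ⟨t, ht⟩ := (mem_ideal_idealOfSub j ⟨V, hV⟩ _).mp hg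
    refine ⟨t, ?_⟩
    apply IdealMod.val_injective
    rw [val_lift]
    exact ht

/-- **A quasi-coherent submodule of `O_X` is the ideal module of its ideal sheaf datum.** -/
theorem idealMod_idealOfSub_iso [Mono j] : Nonempty (J ≅ ClSub.idealMod (idealOfSub j)) := by
  haveI := isIso_lift j
  exact ⟨asIso (lift j)⟩

end Groth.Agent.Lib.Helper7.SubIdealIso
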