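import Mathlib
import Groth.Prelude
import Groth.Agent.Lib.Helper7.FibFacC
import Groth.Agent.Lib.Helper7.IdealProd
import Groth.Agent.Lib.Helper7.SubIdealIso
import Groth.Agent.Lib.Helper23.DegTensor
import Groth.Agent.Lib.Helper3.PbTensor
import Groth.Agent.Lib.Helper3.ModBasis

/-!
# Helper library (helper7): the closed fibre of an arithmetic surface is numerically trivial
(S7921): `Σ_j m_j (Γ_j · Γ_i) = 0`.
-/

set_option autoImplicit false
set_option linter.unusedSectionVars false
set_option linter.style.haveILetI false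
universe u
open CategoryTheory CategoryTheory.Limits AlgebraicGeometry Opposite TopologicalSpace
open Scheme.Modules

namespace Groth.Agent.Lib.Helper7.FibFacD

open Groth.Agent.Lib.Helper3
open QCSec InvGen InvTensor InvMonoidal InvCoh SubIdeal IdealMod
open Groth.Agent.Lib.Helper23 Groth.Agent.Lib.Helper23.Curve

section Principal

variable {X : Scheme.{u}} [IsIntegral X]

/-- an ideal sheaf generated, on an affine cover, by a nonzero global function is trivial as a
module. -/
theorem idealMod_iso_of_principal (F : X.IdealSheafData) (π : Γ(X, ⊤)) (hπ : π ≠ 0)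
    (hloc : ∀ x : X, ∃ V : X.affineOpens, x ∈ V.1 ∧
      F.ideal V = Ideal.span {rres X (le_top : V.1 ≤ ⊤) π}) :
    Nonempty (Coh.structureModule X ≅ ClSub.idealMod F) := by
  haveI : (Coh.structureModule X).IsQuasicoherent := (T2.isCoh_structureModule X).1
  set ψ := InvAmple.globalHom (Coh.structureModule X) (ofFun ⊤ π) with hψ
  have key : ∀ (W : X.Opens) (a : Γ(X, W)),
      valOf ψ (ofFun W a) = a * rres X (le_top : W ≤ ⊤) π := by
    intro W a
    have h1 : ofFun W a = a • ofFun W 1 := by rw [smul_ofFun, mul_one]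
    have h2 : ψ.app W (ofFun W 1) = ofFun W (rres X (le_top : W ≤ ⊤) π) := by
      have h := InvAmple.sec_globalHom (Coh.structureModule X) (ofFun ⊤ π) W
      rw [res_ofFun] at h
      exact h
    change toFun W (ψ.app W (ofFun W a)) = _
    rw [h1, Scheme.Modules.Hom.app_smul, h2, smul_ofFun]
    rfl
  haveI : Mono ψ := by
    apply ModBasis.mono_of_injective_on_basis
    intro W x hx
    refine ⟨W, hx, le_rfl, fun t ht => ?_⟩
    haveI : Nonempty (W : X.Opens) := ⟨⟨x, hx⟩⟩
    have h1 : valOf ψ (ofFun W (toFun W t)) = 0 := by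
      change toFun W (ψ.app W t) = 0
      rw [ht]
      rfl
    rw [key] at h1
    have h2 : rres X (le_top : W ≤ ⊤) π ≠ 0 := fun h0 =>
      hπ (map_injective_of_isIntegral X (homOfLE (le_top : W ≤ ⊤)) (by
        rw [map_zero]
        exact h0))
    rcases mul_eq_zero.mp h1 with h | h
    · exact h
    · exact absurd h h2
  obtain ⟨e⟩ := Groth.Agent.Lib.Helper7.SubIdealIso.idealMod_idealOfSub_iso ψ
  have heq : idealOfSub ψ = F := by
    choose V hxV hV using hloc
    refine Scheme.IdealSheafData.ext_of_iSup_eq_top V ?_ ?_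
    · rw [eq_top_iff]
      intro x _
      exact Opens.mem_iSup.mpr ⟨x, hxV x⟩
    · intro x
      rw [hV x]
      ext g
      rw [mem_ideal_idealOfSub, Ideal.mem_span_singleton']
      constructor
      · rintro ⟨s, rfl⟩
        exact ⟨toFun _ s, (key _ (toFun _ s)).symm⟩
      · rintro ⟨a, rfl⟩
        exact ⟨ofFun _ a, key _ a⟩
  exact ⟨e ≪≫ eqToIso (congrArg ClSub.idealMod heq)⟩

end Principal

section Deg

variable (k : Type u) [Field k] {C : Scheme.{u}} [C.Over (Spec (CommRingCat.of k))]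
  [IsProper (C ↘ Spec (CommRingCat.of k))] [IsIntegral C]
  (hdim : topologicalKrullDim C ≤ 1) {X : Scheme.{u}} (i : C ⟶ X)

/-- the degree of the pullback of the ideal module. -/
noncomputable def δ (D : X.IdealSheafData) : ℤ :=
  Curv2.deg k C ((Scheme.Modules.pullback i).obj (ClSub.idealMod D)) 1

theorem deg_eq_of_iso' {M N : C.Modules} (e : M ≅ N) : Curv2.deg k C M 1 = Curv2.deg k C N 1 := by
  unfold Curv2.deg
  rw [FBC.euler_eq_of_iso' k e]

theorem δ_of_iso (D : X.IdealSheafData) (e : Coh.structureModule X ≅ ClSub.idealMod D) :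
    PicF.IsInvertible (ClSub.idealMod D) ∧ δ k i D = 0 := by
  refine ⟨InvAmple.isInvertible_of_iso e (isInvertible_structureModule X), ?_⟩
  unfold δ
  rw [deg_eq_of_iso' k ((Scheme.Modules.pullback i).mapIso e.symm ≪≫ PbBasic.pbUnit i)]
  exact deg_structureModule k

include hdim in
theorem δ_mul (D₁ D₂ : X.IdealSheafData) (h₁ : PicF.IsInvertible (ClSub.idealMod D₁))
    (h₂ : PicF.IsInvertible (ClSub.idealMod D₂)) :
    PicF.IsInvertible (ClSub.idealMod (D₁ * D₂)) ∧ δ k i (D₁ * D₂) = δ k i D₁ + δ k i D₂ := by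
  obtain ⟨e⟩ := Groth.Agent.Lib.Helper7.IdealProd.idealMod_mul_iso h₁ h₂
  refine ⟨InvAmple.isInvertible_of_iso e (isInvertible_tensorMod h₁ h₂), ?_⟩
  unfold δ
  rw [deg_eq_of_iso' k ((Scheme.Modules.pullback i).mapIso e.symm ≪≫
    PbTensor.pbTensorIso i _ _ h₁ h₂)]
  have h := DegTensor.deg_tw k hdim
    (isFinLocFreeOfRank_one_of_isInvertible (PbBasic.isInvertible_pullback i h₁))
    (PbBasic.isInvertible_pullback i h₂)
  rw [h]
  push_cast
  ring

variable [IsIntegral X]

theorem δ_one : PicF.IsInvertible (ClSub.idealMod (1 : X.IdealSheafData)) ∧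
    δ k i (1 : X.IdealSheafData) = 0 := by
  obtain ⟨e⟩ := idealMod_iso_of_principal (1 : X.IdealSheafData) (1 : Γ(X, ⊤)) one_ne_zero
    (fun x => by
      obtain ⟨V, hV, hxV, -⟩ := Opens.isBasis_iff_nbhd.mp X.isBasis_affineOpens
        (show x ∈ (⊤ : X.Opens) from trivial)
      refine ⟨⟨V, hV⟩, hxV, ?_⟩
      rw [rres_one, Ideal.span_singleton_one]
      rfl)
  exact δ_of_iso k i _ e

include hdim in
theorem δ_pow (D : X.IdealSheafData) (hD : PicF.IsInvertible (ClSub.idealMod D)) (m : ℕ) :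
    PicF.IsInvertible (ClSub.idealMod (D ^ m)) ∧ δ k i (D ^ m) = m * δ k i D := by
  induction m with
  | zero =>
    rw [pow_zero]
    refine ⟨(δ_one k i).1, ?_⟩
    rw [(δ_one k i).2]
    simp
  | succ m ih =>
    rw [pow_succ]
    have h := δ_mul k hdim i (D ^ m) D ih.1 hD
    refine ⟨h.1, ?_⟩
    rw [h.2, ih.2]
    push_cast
    ring

include hdim in
theorem δ_prod {ι : Type*} (s : Finset ι) (D : ι → X.IdealSheafData) (m : ι → ℕ)
    (hD : ∀ j, PicF.IsInvertible (ClSub.idealMod (D j))) :
    PicF.IsInvertible (ClSub.idealMod (∏ j ∈ s, D j ^ m j)) ∧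
      δ k i (∏ j ∈ s, D j ^ m j) = ∑ j ∈ s, (m j : ℤ) * δ k i (D j) := by
  classical
  induction s using Finset.induction_on with
  | empty =>
    rw [Finset.prod_empty, Finset.sum_empty]
    exact δ_one k i
  | insert a s ha ih =>
    rw [Finset.prod_insert ha, Finset.sum_insert ha]
    have hp := δ_pow k hdim i (D a) (hD a) (m a)
    have h := δ_mul k hdim i (D a ^ m a) (∏ j ∈ s, D j ^ m j) hp.1 ih.1
    refine ⟨h.1, ?_⟩
    rw [h.2, hp.2, ih.2]

end Deg

end Groth.Agent.Lib.Helper7.FibFacD
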