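import Mathlib
import Groth.Prelude
import Groth.Agent.Lib.Helper7.FibFacD

/-!
# Helper library (helper7): `Σ_j m_j (Γ_j · Γ_i) = 0` for the components of the closed fibre
(S7921, and the general form used for the regular proper models).
-/

set_option autoImplicit false
set_option linter.unusedSectionVars false
set_option linter.style.haveILetI false
universe u
open CategoryTheory CategoryTheory.Limits AlgebraicGeometry Opposite TopologicalSpace
open Scheme.Modules

namespace Groth.Agent.Lib.Helper7.FibFacE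

open Groth.Agent.Lib.Helper3 Groth.Agent.Lib.Helper3.InvMonoidal Groth.Agent.Lib.Helper3.InvTensor
open Groth.Agent.Lib.Helper7.SnapFGA Groth.Agent.Lib.Helper17
open Groth.Agent.Lib.Helper7.ArSurfDeg Groth.Agent.Lib.Helper23
open Groth.Agent.Lib.Helper7.FibFacB Groth.Agent.Lib.Helper7.FibFacC
open Groth.Agent.Lib.Helper7.FibFacD

variable {R : Type u} [CommRing R] [IsDomain R] [IsDiscreteValuationRing R]
  {X : Over (Spec (CommRingCat.of R))}

/-- the product of the ideals of the components of the closed fibre, with multiplicities, is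
trivial as a module. -/
theorem exists_iso_fibre [IsIntegral X.left] [IsLocallyNoetherian X.left] [Flat X.hom]
    {n : ℕ} (Γ : Fin n → ArSurf.VertComp R X)
    (hdist : ∀ i j, i ≠ j → Set.range (Γ i).ι.base ≠ Set.range (Γ j).ι.base)
    (hcov : ∀ x ∈ Models.specialFibreSet R X, ∃ i, x ∈ Set.range (Γ i).ι.base)
    (hcart : ∀ j, BlowUp.IsEffCartierIdeal (Γ j).ι.ker) :
    Nonempty (Coh.structureModule X.left ≅
      ClSub.idealMod (∏ j, (Γ j).ι.ker ^ Models.mult R X (Γ j))) := by
  obtain ⟨ϖ, hϖ⟩ := IsDiscreteValuationRing.exists_irreducible R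
  have hπ : unif X ϖ ≠ 0 := by
    intro h0
    obtain ⟨x⟩ : Nonempty X.left := inferInstance
    apply Groth.Agent.Lib.Helper1.ModelComp.germ_toGlobal_ne_zero X.hom x ϖ hϖ.ne_zero
    change (X.left.presheaf.germ ⊤ x trivial).hom (unif X ϖ) = 0
    rw [h0, map_zero]
  exact idealMod_iso_of_principal _ (unif X ϖ) hπ (fun x => by
    obtain ⟨V, hxV, hV, -⟩ := exists_local_factor Γ hdist hcov hcart ϖ hϖ x
    exact ⟨V, hxV, hV⟩)

/-- positivity of the multiplicities. -/
theorem mult_pos [IsIntegral X.left] [IsLocallyNoetherian X.left] [Flat X.hom]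
    {n : ℕ} (Γ : Fin n → ArSurf.VertComp R X)
    (hdist : ∀ i j, i ≠ j → Set.range (Γ i).ι.base ≠ Set.range (Γ j).ι.base)
    (hcov : ∀ x ∈ Models.specialFibreSet R X, ∃ i, x ∈ Set.range (Γ i).ι.base)
    (hcart : ∀ j, BlowUp.IsEffCartierIdeal (Γ j).ι.ker) (j : Fin n) :
    0 < Models.mult R X (Γ j) := by
  obtain ⟨ϖ, hϖ⟩ := IsDiscreteValuationRing.exists_irreducible R
  obtain ⟨V, -, -, h⟩ := exists_local_factor Γ hdist hcov hcart ϖ hϖ
    ((Γ j).ι.base (genericPoint (Γ j).curve.left))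
  exact h j ⟨_, rfl⟩

/-- **the closed fibre is numerically trivial.** -/
theorem sum_mult_inter_eq_zero [IsIntegral X.left] [Flat X.hom] (hproper : IsProper X.hom)
    {n : ℕ} (Γ : Fin n → ArSurf.VertComp R X)
    (hdist : ∀ i j, i ≠ j → Set.range (Γ i).ι.base ≠ Set.range (Γ j).ι.base)
    (hcov : ∀ x ∈ Models.specialFibreSet R X, ∃ i, x ∈ Set.range (Γ i).ι.base)
    (hcart : ∀ j, BlowUp.IsEffCartierIdeal (Γ j).ι.ker)
    (L : Fin n → X.left.Modules)
    (hL : ∀ j, ClSub.IsInverseOf (L j) (ClSub.idealMod (Γ j).ι.ker)) (i : Fin n) :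
    ∑ j, (Models.mult R X (Γ j) : ℤ) * ArSurf.inter R X (L j) (Γ i) = 0 := by
  haveI := hproper
  haveI : IsLocallyNoetherian X.left := LocallyOfFiniteType.isLocallyNoetherian X.hom
  haveI : IsProper (Γ i).curve.hom := by
    haveI : IsClosedImmersion
        (Spec.map (CommRingCat.ofHom (IsLocalRing.residue R))) :=
      IsClosedImmersion.spec_of_surjective _ IsLocalRing.residue_surjective
    haveI : IsProper ((Γ i).curve.hom ≫
        Spec.map (CommRingCat.ofHom (IsLocalRing.residue R))) := by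
      rw [← (Γ i).w]
      infer_instance
    exact IsProper.of_comp (Γ i).curve.hom
      (Spec.map (CommRingCat.ofHom (IsLocalRing.residue R)))
  haveI : IsProper ((Γ i).curve.left ↘ Spec (CommRingCat.of (IsLocalRing.ResidueField R))) :=
    ‹IsProper (Γ i).curve.hom›
  have hd1 : topologicalKrullDim (Γ i).curve.left ≤ 1 := by rw [(Γ i).dim_eq]
  have hd1' : topologicalKrullDim (Γ i).curve.left ≤ ((1 : ℕ) : WithBot ℕ∞) := by
    rw [(Γ i).dim_eq]
    norm_cast
  obtain ⟨e⟩ := exists_iso_fibre Γ hdist hcov hcart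
  have hInv : ∀ j, PicF.IsInvertible (ClSub.idealMod (Γ j).ι.ker) := fun j =>
    (EffCartMod.isInvertible_idealMod_iff _).mpr (hcart j)
  have h0 := (δ_of_iso (IsLocalRing.ResidueField R) (Γ i).ι _ e).2
  have h1 := (δ_prod (IsLocalRing.ResidueField R) hd1 (Γ i).ι Finset.univ
    (fun j => (Γ j).ι.ker) (fun j => Models.mult R X (Γ j)) hInv).2
  have hint : ∀ j, ArSurf.inter R X (L j) (Γ i) =
      - δ (IsLocalRing.ResidueField R) (Γ i).ι (Γ j).ι.ker := by
    intro j
    obtain ⟨ej⟩ := hL j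
    have hLinv : PicF.IsInvertible (L j) :=
      isInvertible_of_inverse (hInv j) ⟨braid _ _ ≪≫ ej⟩
    have hMinv := PbBasic.isInvertible_pullback (Γ i).ι hLinv
    have hM'inv := PbBasic.isInvertible_pullback (Γ i).ι (hInv j)
    have hinv : ClSub.IsInverseOf ((Scheme.Modules.pullback (Γ i).ι).obj (L j))
        ((Scheme.Modules.pullback (Γ i).ι).obj (ClSub.idealMod (Γ j).ι.ker)) :=
      ⟨(PbTensor.pbTensorIso (Γ i).ι (L j) _ hLinv (hInv j)).symm ≪≫
        (Scheme.Modules.pullback (Γ i).ι).mapIso ej ≪≫ PbBasic.pbUnit (Γ i).ι⟩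
    have h := DegTensor.deg_of_isInverseOf (IsLocalRing.ResidueField R) hd1 hMinv hM'inv hinv
    unfold ArSurf.inter ArSurf.curveDeg
    rw [eulerLE_eq _ _ 1 hd1', eulerLE_eq _ _ 1 hd1']
    unfold δ
    rw [h]
    unfold Curv2.deg
    push_cast
    ring
  calc ∑ j, (Models.mult R X (Γ j) : ℤ) * ArSurf.inter R X (L j) (Γ i)
      = ∑ j, - ((Models.mult R X (Γ j) : ℤ) *
          δ (IsLocalRing.ResidueField R) (Γ i).ι (Γ j).ι.ker) :=
        Finset.sum_congr rfl (fun j _ => by rw [hint j]; ring)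
    _ = - ∑ j, (Models.mult R X (Γ j) : ℤ) *
          δ (IsLocalRing.ResidueField R) (Γ i).ι (Γ j).ι.ker := Finset.sum_neg_distrib _
    _ = 0 := by rw [← h1, h0, neg_zero]

/-- the components of the closed fibre cover it. -/
theorem hcov_of_isComponentList {n : ℕ} (Γ : Fin n → ArSurf.VertComp R X)
    (hΓ : Models.IsComponentList R X Γ) :
    ∀ x ∈ Models.specialFibreSet R X, ∃ i, x ∈ Set.range (Γ i).ι.base := by
  intro x hx
  obtain ⟨Z, hZ, hxZ⟩ := Groth.Agent.Lib.Helper1.ModelComp.exists_maximal_irreducible_subset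
    (Models.specialFibreSet R X) {x} isIrreducible_singleton (Set.singleton_subset_iff.mpr hx)
  have hZ' : Z ∈ Models.fibreComponents R X := hZ
  rw [← hΓ.2] at hZ'
  obtain ⟨k, rfl⟩ := hZ'
  exact ⟨k, hxZ rfl⟩

/-- **S7921**. -/
theorem main7921 (hX : ArSurf.IsArithSurface R X) {n : ℕ} (Γ : Fin n → ArSurf.VertComp R X)
    (hΓ : Models.IsComponentList R X Γ) (L : Fin n → X.left.Modules)
    (hL : ∀ j, ClSub.IsInverseOf (L j) (ClSub.idealMod (Γ j).ι.ker)) (i : Fin n) :
    ∑ j, (Models.mult R X (Γ j) : ℤ) * ArSurf.inter R X (L j) (Γ i) = 0 := by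
  have hp := isProper_hom R X hX
  haveI : IsIntegral X.left := hX.2.1
  haveI : Flat X.hom := hX.2.2.2.1
  exact sum_mult_inter_eq_zero hp Γ (fun i j hij h => hij (hΓ.1 h))
    (hcov_of_isComponentList Γ hΓ) (fun j => isEffCartierIdeal_ker hX (Γ j)) L hL i

end Groth.Agent.Lib.Helper7.FibFacE
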