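import Mathlib
import Groth.Prelude
import Groth.Agent.Lib.Helper7.IntLenC
import Groth.Agent.Lib.Helper1.ModelComp

/-!
# Helper library (helper7): symmetry of the intersection matrix of the closed fibre of a regular
proper model (S3316).
-/

set_option autoImplicit false
set_option linter.unusedSectionVars false
set_option linter.style.haveILetI false
universe u
open CategoryTheory CategoryTheory.Limits AlgebraicGeometry Opposite TopologicalSpace
open Scheme.Modules

namespace Groth.Agent.Lib.Helper7.IntLenE

open Groth.Agent.Lib.Helper7.IntLenC Groth.Agent.Lib.Helper1.ModelComp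

variable (R : Type u) [CommRing R] [IsDomain R] [IsDiscreteValuationRing R]
  (X : Over (Spec (CommRingCat.of R)))

/-- the intersection matrix of the components of the closed fibre is symmetric. -/
theorem inter_symm (hproper : IsProper X.hom) [Flat X.hom]
    (hreg : ∀ x : X.left, IsRegularLocalRing (X.left.presheaf.stalk x))
    {n : ℕ} (Γ : Fin n → ArSurf.VertComp R X) (hΓ : Models.IsComponentList R X Γ)
    (L : Fin n → X.left.Modules)
    (hL : ∀ i, ClSub.IsInverseOf (L i) (ClSub.idealMod (Γ i).ι.ker)) (i j : Fin n) :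
    ArSurf.inter R X (L j) (Γ i) = ArSurf.inter R X (L i) (Γ j) := by
  by_cases hij : i = j
  · subst hij
    rfl
  haveI := hproper
  haveI : IsLocallyNoetherian X.left := LocallyOfFiniteType.isLocallyNoetherian X.hom
  haveI : CompactSpace X.left := QuasiCompact.compactSpace_of_compactSpace X.hom
  haveI : IsNoetherian X.left := {}
  have hmem : ∀ k, Set.range (Γ k).ι ∈ Models.fibreComponents R X := fun k => by
    rw [← hΓ.2]
    exact ⟨k, rfl⟩
  have hIE : ∀ k, PicF.IsInvertible (ClSub.idealMod (Γ k).ι.ker) := fun k =>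
    (Groth.Agent.Lib.Helper17.EffCartMod.isInvertible_idealMod_iff _).mpr
      (isEffCartierIdeal_ker hreg (Γ k) (hmem k))
  have hgen := genPt_notMem_of_ne (Γ i) (Γ j) (hmem i) (hmem j) (fun h => hij (hΓ.1 h))
  have hgen' := genPt_notMem_of_ne (Γ j) (Γ i) (hmem j) (hmem i) (fun h => hij (hΓ.1 h.symm))
  rw [inter_eq_lengthH hproper (Γ i) (Γ j).ι.ker (hIE j) hgen (L j) (hL j),
    inter_eq_lengthH hproper (Γ j) (Γ i).ι.ker (hIE i) hgen' (L i) (hL i), sup_comm]

end Groth.Agent.Lib.Helper7.IntLenE
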