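import Mathlib
import Groth.Prelude
import Groth.Agent.Lib.Helper7.FibFacE
import Groth.Agent.Lib.Helper7.IntLenE
import Groth.Agent.Lib.Helper1.ModelMult

/-!
# Helper library (helper7): the closed fibre of a regular proper model is numerically trivial
(S3318) — versions of `FibFacD`/`FibFacE` without integrality of the total space, using helper1's
factorization `𝔪_R O_X = ∏ I(Γ_i)^{m_i}`.
-/

set_option autoImplicit false
set_option linter.unusedSectionVars false
set_option linter.style.haveILetI false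
universe u
open CategoryTheory CategoryTheory.Limits AlgebraicGeometry Opposite TopologicalSpace
open Scheme.Modules

namespace Groth.Agent.Lib.Helper7.FibFacF

open Groth.Agent.Lib.Helper3
open QCSec InvGen InvTensor InvMonoidal InvCoh SubIdeal IdealMod
open Groth.Agent.Lib.Helper23 Groth.Agent.Lib.Helper23.Curve
open Groth.Agent.Lib.Helper7.FibFacD

section Principal

variable {X : Scheme.{u}}

/-- an ideal sheaf generated, on an affine cover, by a global function which is a nonzerodivisor on
affine opens is trivial as a module. -/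
theorem idealMod_iso_of_principal' (F : X.IdealSheafData) (π : Γ(X, ⊤))
    (hnzd : ∀ V : X.affineOpens, rres X (le_top : V.1 ≤ ⊤) π ∈ nonZeroDivisors Γ(X, V.1))
    (hloc : ∀ x : X, ∃ V : X.affineOpens, x ∈ V.1 ∧
      F.ideal V = Ideal.span {rres X (le_top : V.1 ≤ ⊤) π}) :
    Nonempty (Coh.structureModule X ≅ ClSub.idealMod F) := by
  haveI : (Coh.structureModule X).IsQuasicoherent := (T2.isCoh_structureModule X).1
  set ψ := InvAmple.globalHom (Coh.structureModule X) (ofFun ⊤ π) with hψ
  have key : ∀ (W : X.Opens) (a : Γ(X, W)),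
      valOf ψ (ofFun W a) = a * rres X (le_top : W ≤ ⊤) π := by
    intro W a
    have h1 : ofFun W a = a • ofFun W 1 := by rw [smul_ofFun, mul_one]
    have h2 : ψ.app W (ofFun W 1) = ofFun W (rres X (le_top : W ≤ ⊤) π) := by
      have h := InvAmple.sec_globalHom (Coh.structureModule X) (ofFun ⊤ π) W
      rw [res_ofFun] at h
      exact h
    change toFun W (ψ.app W (ofFun W a)) = _
    rw [h1, Scheme.Modules.Hom.app_smul, h2, smul_ofFun]
    rfl
  haveI : Mono ψ := by
    apply ModBasis.mono_of_injective_on_basis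
    intro W x hx
    obtain ⟨V, hV, hxV, hVW⟩ := Opens.isBasis_iff_nbhd.mp X.isBasis_affineOpens hx
    refine ⟨V, hxV, hVW, fun t ht => ?_⟩
    have h1 : valOf ψ (ofFun V (toFun V t)) = 0 := by
      change toFun V (ψ.app V t) = 0
      rw [ht]
      rfl
    rw [key] at h1
    exact (mem_nonZeroDivisors_iff_right.mp (hnzd ⟨V, hV⟩)) _ h1
  obtain ⟨e⟩ := Groth.Agent.Lib.Helper7.SubIdealIso.idealMod_idealOfSub_iso ψ
  have heq : idealOfSub ψ = F := by
    choose V hxV hV using hloc
    refine Scheme.IdealSheafData.ext_of_iSup_eq_top V ?_ ?_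
    · rw [eq_top_iff]
      intro x _
      exact Opens.mem_iSup.mpr ⟨x, hxV x⟩
    · intro x
      rw [hV x]
      ext g
      rw [mem_ideal_idealOfSub, Ideal.mem_span_singleton']
      constructor
      · rintro ⟨s, rfl⟩
        exact ⟨toFun _ s, (key _ (toFun _ s)).symm⟩
      · rintro ⟨a, rfl⟩
        exact ⟨ofFun _ a, key _ a⟩
  exact ⟨e ≪≫ eqToIso (congrArg ClSub.idealMod heq)⟩

end Principal

section Deg

variable (k : Type u) [Field k] {C : Scheme.{u}} [C.Over (Spec (CommRingCat.of k))]
  [IsProper (C ↘ Spec (CommRingCat.of k))] [IsIntegral C]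
  (hdim : topologicalKrullDim C ≤ 1) {X : Scheme.{u}} (i : C ⟶ X)

theorem δ_one' : PicF.IsInvertible (ClSub.idealMod (1 : X.IdealSheafData)) ∧
    δ k i (1 : X.IdealSheafData) = 0 := by
  obtain ⟨e⟩ := idealMod_iso_of_principal' (1 : X.IdealSheafData) (1 : Γ(X, ⊤))
    (fun V => by
      rw [rres_one]
      exact one_mem _)
    (fun x => by
      obtain ⟨V, hV, hxV, -⟩ := Opens.isBasis_iff_nbhd.mp X.isBasis_affineOpens
        (show x ∈ (⊤ : X.Opens) from trivial)
      refine ⟨⟨V, hV⟩, hxV, ?_⟩
      rw [rres_one, Ideal.span_singleton_one]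
      rfl)
  exact δ_of_iso k i _ e

include hdim in
theorem δ_pow' (D : X.IdealSheafData) (hD : PicF.IsInvertible (ClSub.idealMod D)) (m : ℕ) :
    PicF.IsInvertible (ClSub.idealMod (D ^ m)) ∧ δ k i (D ^ m) = m * δ k i D := by
  induction m with
  | zero =>
    rw [pow_zero]
    refine ⟨(δ_one' k i).1, ?_⟩
    rw [(δ_one' k i).2]
    simp
  | succ m ih =>
    rw [pow_succ]
    have h := δ_mul k hdim i (D ^ m) D ih.1 hD
    refine ⟨h.1, ?_⟩
    rw [h.2, ih.2]
    push_cast
    ring

include hdim in
theorem δ_prod' {ι : Type*} (s : Finset ι) (D : ι → X.IdealSheafData) (m : ι → ℕ)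
    (hD : ∀ j, PicF.IsInvertible (ClSub.idealMod (D j))) :
    PicF.IsInvertible (ClSub.idealMod (∏ j ∈ s, D j ^ m j)) ∧
      δ k i (∏ j ∈ s, D j ^ m j) = ∑ j ∈ s, (m j : ℤ) * δ k i (D j) := by
  classical
  induction s using Finset.induction_on with
  | empty =>
    rw [Finset.prod_empty, Finset.sum_empty]
    exact δ_one' k i
  | insert a s ha ih =>
    rw [Finset.prod_insert ha, Finset.sum_insert ha]
    have hp := δ_pow' k hdim i (D a) (hD a) (m a)
    have h := δ_mul k hdim i (D a ^ m a) (∏ j ∈ s, D j ^ m j) hp.1 ih.1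
    refine ⟨h.1, ?_⟩
    rw [h.2, hp.2, ih.2]

end Deg

end Groth.Agent.Lib.Helper7.FibFacF
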