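import Mathlib
import Groth.Prelude
import Groth.Agent.Lib.Helper13.ClMon
import Groth.Agent.Lib.Helper7.FibFacF

/-!
# Helper library (helper7): classes of multi-twists in the class monoid, ideal products, and
principal generators of trivial ideal modules.
-/

set_option autoImplicit false
set_option linter.unusedSectionVars false
set_option linter.style.haveILetI false
universe u
open CategoryTheory CategoryTheory.Limits AlgebraicGeometry Opposite TopologicalSpace
open Scheme.Modules

namespace Groth.Agent.Lib.Helper7.MTwA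

open Groth.Agent.Lib.Helper3
open QCSec InvGen InvTensor InvMonoidal InvCoh SubIdeal IdealMod
open Groth.Agent.Lib.Helper13.ClMon

variable {X : Scheme.{u}}

theorem cl_tensorPow (L : X.Modules) (k : ℕ) :
    PicF.cl (CohB1.tensorPow L k) = PicF.cl L ^ k := by
  induction k with
  | zero =>
    rw [pow_zero]
    rfl
  | succ k ih =>
    rw [pow_succ, ← ih]
    rfl

theorem cl_tensorList (l : List X.Modules) :
    PicF.cl (FGA.tensorList l) = (l.map PicF.cl).prod := by
  induction l with
  | nil => rfl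
  | cons M l ih =>
    rw [List.map_cons, List.prod_cons, ← ih]
    rfl

theorem cl_multiTwist {n : ℕ} (L : Fin n → X.Modules) (e : Fin n → ℕ) :
    PicF.cl (FGA.multiTwist L e) = ∏ i, PicF.cl (L i) ^ e i := by
  unfold FGA.multiTwist
  rw [cl_tensorList, Fin.prod_univ_def, List.map_map]
  congr 1
  apply List.map_congr_left
  intro i _
  exact cl_tensorPow (L i) (e i)

theorem cl_eq_one_iff (M : X.Modules) :
    PicF.cl M = 1 ↔ Nonempty (Coh.structureModule X ≅ M) := by
  rw [one_def, cl_eq_iff]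
  exact ⟨fun ⟨e⟩ => ⟨e.symm⟩, fun ⟨e⟩ => ⟨e.symm⟩⟩

theorem cl_mul_eq_one_of_isInverseOf {L I : X.Modules} (h : ClSub.IsInverseOf L I) :
    PicF.cl L * PicF.cl I = 1 := by
  obtain ⟨e⟩ := h
  rw [cl_mul, one_def]
  exact (cl_eq_iff _ _).2 ⟨e⟩

theorem unit_iso_idealMod_one :
    Nonempty (Coh.structureModule X ≅ ClSub.idealMod (1 : X.IdealSheafData)) :=
  Groth.Agent.Lib.Helper7.FibFacF.idealMod_iso_of_principal' (1 : X.IdealSheafData)
    (1 : Γ(X, ⊤))
    (fun V => by
      rw [rres_one]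
      exact one_mem _)
    (fun x => by
      obtain ⟨V, hV, hxV, -⟩ := Opens.isBasis_iff_nbhd.mp X.isBasis_affineOpens
        (show x ∈ (⊤ : X.Opens) from trivial)
      refine ⟨⟨V, hV⟩, hxV, ?_⟩
      rw [rres_one, Ideal.span_singleton_one]
      rfl)

theorem cl_idealMod_one :
    PicF.IsInvertible (ClSub.idealMod (1 : X.IdealSheafData)) ∧
      PicF.cl (ClSub.idealMod (1 : X.IdealSheafData)) = 1 := by
  obtain ⟨e⟩ := unit_iso_idealMod_one (X := X)
  exact ⟨InvAmple.isInvertible_of_iso e (isInvertible_structureModule X),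
    (cl_eq_one_iff _).2 ⟨e⟩⟩

theorem cl_idealMod_mul (D₁ D₂ : X.IdealSheafData)
    (h₁ : PicF.IsInvertible (ClSub.idealMod D₁)) (h₂ : PicF.IsInvertible (ClSub.idealMod D₂)) :
    PicF.IsInvertible (ClSub.idealMod (D₁ * D₂)) ∧
      PicF.cl (ClSub.idealMod (D₁ * D₂)) =
        PicF.cl (ClSub.idealMod D₁) * PicF.cl (ClSub.idealMod D₂) := by
  obtain ⟨e⟩ := Groth.Agent.Lib.Helper7.IdealProd.idealMod_mul_iso h₁ h₂
  refine ⟨InvAmple.isInvertible_of_iso e (isInvertible_tensorMod h₁ h₂), ?_⟩
  rw [cl_mul]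
  exact ((cl_eq_iff _ _).2 ⟨e⟩).symm

theorem cl_idealMod_pow (D : X.IdealSheafData) (hD : PicF.IsInvertible (ClSub.idealMod D))
    (m : ℕ) :
    PicF.IsInvertible (ClSub.idealMod (D ^ m)) ∧
      PicF.cl (ClSub.idealMod (D ^ m)) = PicF.cl (ClSub.idealMod D) ^ m := by
  induction m with
  | zero =>
    rw [pow_zero, pow_zero]
    exact cl_idealMod_one
  | succ m ih =>
    rw [pow_succ, pow_succ]
    have h := cl_idealMod_mul (D ^ m) D ih.1 hD
    refine ⟨h.1, ?_⟩
    rw [h.2, ih.2]

theorem cl_idealMod_prod {ι : Type*} (s : Finset ι) (D : ι → X.IdealSheafData) (m : ι → ℕ)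
    (hD : ∀ j, PicF.IsInvertible (ClSub.idealMod (D j))) :
    PicF.IsInvertible (ClSub.idealMod (∏ j ∈ s, D j ^ m j)) ∧
      PicF.cl (ClSub.idealMod (∏ j ∈ s, D j ^ m j)) =
        ∏ j ∈ s, PicF.cl (ClSub.idealMod (D j)) ^ m j := by
  classical
  induction s using Finset.induction_on with
  | empty =>
    rw [Finset.prod_empty, Finset.prod_empty]
    exact cl_idealMod_one
  | insert a s ha ih =>
    rw [Finset.prod_insert ha, Finset.prod_insert ha]
    have hp := cl_idealMod_pow (D a) (hD a) (m a)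
    have h := cl_idealMod_mul (D a ^ m a) (∏ j ∈ s, D j ^ m j) hp.1 ih.1
    refine ⟨h.1, ?_⟩
    rw [h.2, hp.2, ih.2]

/-- the multi-twist of inverses of ideal modules is inverse to the module of the product ideal. -/
theorem cl_multiTwist_mul_idealMod {n : ℕ} (L : Fin n → X.Modules)
    (D : Fin n → X.IdealSheafData) (hD : ∀ j, PicF.IsInvertible (ClSub.idealMod (D j)))
    (hL : ∀ i, ClSub.IsInverseOf (L i) (ClSub.idealMod (D i))) (e : Fin n → ℕ) :
    PicF.cl (FGA.multiTwist L e) * PicF.cl (ClSub.idealMod (∏ i, D i ^ e i)) = 1 := by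
  rw [cl_multiTwist, (cl_idealMod_prod Finset.univ D e hD).2, ← Finset.prod_mul_distrib]
  apply Finset.prod_eq_one
  intro i _
  rw [← mul_pow, cl_mul_eq_one_of_isInverseOf (hL i), one_pow]

/-- a trivialization of an ideal module gives a global generator of the ideal. -/
theorem exists_generator_of_iso (E : X.IdealSheafData)
    (e : Coh.structureModule X ≅ ClSub.idealMod E) :
    ∃ h : Γ(X, ⊤), ∀ V : X.affineOpens,
      E.ideal V = Ideal.span {rres X (le_top : V.1 ≤ ⊤) h} := by
  set ψ : Coh.structureModule X ⟶ Coh.structureModule X := e.hom ≫ ClSub.idealModι E with hψ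
  set π : Γ(X, ⊤) := toFun ⊤ (sec ψ ⊤) with hπ
  have hψ' : InvAmple.globalHom (Coh.structureModule X) (ofFun ⊤ π) = ψ := globalHom_sec ψ
  have key : ∀ (W : X.Opens) (a : Γ(X, W)),
      valOf ψ (ofFun W a) = a * rres X (le_top : W ≤ ⊤) π := by
    intro W a
    have h1 : ofFun W a = a • ofFun W 1 := by rw [smul_ofFun, mul_one]
    have h2 : ψ.app W (ofFun W 1) = ofFun W (rres X (le_top : W ≤ ⊤) π) := by
      have h := InvAmple.sec_globalHom (Coh.structureModule X) (ofFun ⊤ π) W
      rw [res_ofFun, hψ'] at h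
      exact h
    change toFun W (ψ.app W (ofFun W a)) = _
    rw [h1, Scheme.Modules.Hom.app_smul, h2, smul_ofFun]
    rfl
  have hval : ∀ (W : X.Opens) (s : Γ(Coh.structureModule X, W)),
      valOf ψ s = IdealMod.val E (e.hom.app W s) := by
    intro W s
    rw [IdealMod.val_eq_valOf]
    rfl
  refine ⟨π, fun V => ?_⟩
  ext g
  rw [Ideal.mem_span_singleton', Groth.Agent.Lib.Helper17.EffCartMod.mem_ideal_iff]
  constructor
  · rintro ⟨t, rfl⟩
    refine ⟨toFun _ (e.inv.app V.1 t), ?_⟩
    rw [← key, hval]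
    congr 1
    exact iso_hom_inv_app e V.1 t
  · rintro ⟨a, rfl⟩
    exact ⟨e.hom.app V.1 (ofFun _ a), by rw [← key, hval]⟩

/-- powers of a non-unit nonzerodivisor generate distinct ideals. -/
theorem pow_eq_of_span_eq {A : Type*} [CommRing A] (x : A) (hx : x ∈ nonZeroDivisors A)
    (hu : ¬ IsUnit x) {a b : ℕ} (h : Ideal.span {x ^ a} = Ideal.span {x ^ b}) : a = b := by
  have aux : ∀ a b : ℕ, a < b → Ideal.span {x ^ a} = Ideal.span {x ^ b} → False := by
    intro a b hab h
    have hmem : x ^ a ∈ Ideal.span {x ^ b} := by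
      rw [← h]
      exact Ideal.subset_span rfl
    obtain ⟨y, hy⟩ := Ideal.mem_span_singleton'.mp hmem
    obtain ⟨d, rfl⟩ : ∃ d, b = a + (d + 1) := ⟨b - a - 1, by omega⟩
    have h1 : (y * x ^ (d + 1) - 1) * x ^ a = 0 := by
      rw [sub_mul, one_mul, mul_assoc, ← pow_add, add_comm (d + 1) a, hy, sub_self]
    have h2 := (mem_nonZeroDivisors_iff_right.mp (pow_mem hx a)) _ h1
    have h3 : y * x ^ (d + 1) = 1 := sub_eq_zero.mp h2
    apply hu
    rw [pow_succ, ← mul_assoc] at h3
    exact IsUnit.of_mul_eq_one _ (by rw [mul_comm]; exact h3)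
  rcases lt_trichotomy a b with hab | hab | hab
  · exact (aux a b hab h).elim
  · exact hab
  · exact (aux b a hab h.symm).elim

end Groth.Agent.Lib.Helper7.MTwA
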