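import Mathlib
import Groth.Prelude
import Groth.Agent.Lib.Helper7.GrowthC

/-!
# Helper library (helper7): the lower growth bound `h⁰(L^n) ≥ c n^d` when some `L^m ⊗ A⁻¹` is
effective (with `A` ample) on an integral projective scheme of dimension `d`.
-/

set_option autoImplicit false
set_option linter.unusedSectionVars false
set_option linter.style.haveILetI false
universe u
open CategoryTheory CategoryTheory.Limits AlgebraicGeometry Opposite TopologicalSpace Polynomial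
open Scheme.Modules

namespace Groth.Agent.Lib.Helper7.GrowthD

open Groth.Agent.Lib.Helper3 Groth.Agent.Lib.Helper3.InvMonoidal Groth.Agent.Lib.Helper3.InvTensor
open Groth.Agent.Lib.Helper3.InvGen
open Groth.Agent.Lib.Helper23 Groth.Agent.Lib.Helper23.HilbP Groth.Agent.Lib.Helper23.Snap
open Groth.Agent.Lib.Helper7.SnapFGA Groth.Agent.Lib.Helper7.TwFun
open Groth.Agent.Lib.Helper7.SecDeg Groth.Agent.Lib.Helper7.RegSec
open Groth.Agent.Lib.Helper7.VolMono Groth.Agent.Lib.Helper7.GrowthA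
open Groth.Agent.Lib.Helper7.GrowthB Groth.Agent.Lib.Helper7.GrowthC
open Groth.Agent.Lib.Helper17

section Numeric

theorem poly_lower (Q : ℚ[X]) (d : ℕ) (hd : Q.natDegree = d) (hlc : 0 < Q.leadingCoeff) :
    ∃ c : ℚ, 0 < c ∧ ∃ N : ℕ, ∀ q : ℕ, N ≤ q → c * (q : ℚ) ^ d ≤ Q.eval (q : ℚ) := by
  have hlc' : Q.coeff d = Q.leadingCoeff := by rw [← hd]; rfl
  cases d with
  | zero =>
    refine ⟨Q.leadingCoeff, hlc, 0, fun q _ => ?_⟩
    have hQ : Q = Polynomial.C (Q.coeff 0) := Polynomial.eq_C_of_natDegree_eq_zero hd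
    have h1 : Q.eval (q : ℚ) = Q.coeff 0 := by
      calc Q.eval (q : ℚ) = (Polynomial.C (Q.coeff 0)).eval (q : ℚ) := by rw [← hQ]
        _ = Q.coeff 0 := Polynomial.eval_C
    rw [pow_zero, mul_one, h1, hlc']
  | succ e =>
    obtain ⟨C, hC0, hb⟩ := Groth.Agent.Lib.Helper23.Asymp.exists_bound Q (e + 1) hd
    refine ⟨Q.leadingCoeff / 2, by positivity,
      max 1 ⌈2 ^ (e + 1) * C / Q.leadingCoeff⌉₊, fun q hq => ?_⟩
    have hq1 : (1 : ℚ) ≤ q := by exact_mod_cast le_of_max_le_left hq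
    have hq2 : 2 ^ (e + 1) * C / Q.leadingCoeff ≤ q :=
      (Nat.le_ceil _).trans (by exact_mod_cast le_of_max_le_right hq)
    have h1 := hb q
    rw [hlc', Nat.add_sub_cancel, abs_le] at h1
    have h2 : ((q : ℚ) + 1) ^ e ≤ (2 * q) ^ e :=
      pow_le_pow_left₀ (by positivity) (by linarith) e
    have h4 : 2 ^ (e + 1) * C ≤ q * Q.leadingCoeff := by rwa [div_le_iff₀ hlc] at hq2
    have h5 : C * 2 ^ e ≤ Q.leadingCoeff / 2 * q := by
      rw [pow_succ] at h4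
      linarith
    have h3 : C * (2 * (q : ℚ)) ^ e ≤ Q.leadingCoeff / 2 * (q : ℚ) ^ (e + 1) := by
      calc C * (2 * (q : ℚ)) ^ e = (C * 2 ^ e) * (q : ℚ) ^ e := by rw [mul_pow]; ring
        _ ≤ (Q.leadingCoeff / 2 * q) * (q : ℚ) ^ e :=
            mul_le_mul_of_nonneg_right h5 (by positivity)
        _ = Q.leadingCoeff / 2 * (q : ℚ) ^ (e + 1) := by ring
    have h6 : C * ((q : ℚ) + 1) ^ e ≤ Q.leadingCoeff / 2 * (q : ℚ) ^ (e + 1) :=
      (mul_le_mul_of_nonneg_left h2 hC0).trans h3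
    linarith [h1.1]

theorem hbig_of_frequently (h : ℕ → ℕ) (d : ℕ) (c : ℝ) (hc : 0 < c)
    (hf : ∃ᶠ n : ℕ in Filter.atTop, c * (n : ℝ) ^ d < (h n : ℝ)) :
    ∀ C : ℕ, ∃ m : ℕ, 0 < m ∧ C * (m + 1) ^ d < h m * (m + 1) := by
  intro C
  have hev : ∀ᶠ n : ℕ in Filter.atTop, max 1 ⌈(C : ℝ) * 2 ^ d / c⌉₊ ≤ n :=
    Filter.eventually_ge_atTop _
  obtain ⟨m, hm1, hm2⟩ := (hf.and_eventually hev).exists
  have hm0 : 1 ≤ m := le_of_max_le_left hm2
  refine ⟨m, hm0, ?_⟩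
  have hmr : (1 : ℝ) ≤ m := by exact_mod_cast hm0
  have h1 : (C : ℝ) * 2 ^ d / c ≤ m :=
    (Nat.le_ceil _).trans (by exact_mod_cast le_of_max_le_right hm2)
  have h2 : (C : ℝ) * 2 ^ d ≤ m * c := by rwa [div_le_iff₀ hc] at h1
  have h3 : ((m : ℝ) + 1) ^ d ≤ (2 * m) ^ d :=
    pow_le_pow_left₀ (by positivity) (by linarith) d
  have h4 : (C : ℝ) * ((m : ℝ) + 1) ^ d < (h m : ℝ) * ((m : ℝ) + 1) := by
    calc (C : ℝ) * ((m : ℝ) + 1) ^ d ≤ C * (2 * m) ^ d :=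
          mul_le_mul_of_nonneg_left h3 (Nat.cast_nonneg C)
      _ = (C * 2 ^ d) * (m : ℝ) ^ d := by rw [mul_pow]; ring
      _ ≤ (m * c) * (m : ℝ) ^ d := mul_le_mul_of_nonneg_right h2 (by positivity)
      _ = (c * (m : ℝ) ^ d) * m := by ring
      _ < (h m : ℝ) * m := mul_lt_mul_of_pos_right hm1 (by linarith)
      _ ≤ (h m : ℝ) * ((m : ℝ) + 1) :=
          mul_le_mul_of_nonneg_left (by linarith) (Nat.cast_nonneg _)
  exact_mod_cast h4

end Numeric

variable (k : Type u) [Field k] (X : Scheme.{u}) [X.Over (Spec (CommRingCat.of k))]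
  [IsProper (X ↘ Spec (CommRingCat.of k))]

/-- lower bound for twists of an invertible module by powers of an ample module. -/
theorem exists_lower_twist [IsIntegral X] (d : ℕ) (hdim : topologicalKrullDim X = d)
    {A : X.Modules} (hA : CohB1.IsAmple A) (N : X.Modules) (hN : PicF.IsInvertible N) :
    ∃ c : ℚ, 0 < c ∧ ∃ N₀ : ℕ, ∀ q : ℕ, N₀ ≤ q →
      c * (q : ℚ) ^ d ≤
        (Module.finrank k (Coh.HH X (CohB1.tensorMod N (CohB1.tensorPow A q)) 0) : ℚ) := by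
  haveI : IsNoetherian X := isNoetherian_of_isProper k X
  have hNc : Coh.IsCoh N :=
    ⟨InvCoh.isQuasicoherent_of_isInvertible hN, InvCoh.isFiniteType_of_isInvertible hN⟩
  have h0 : ¬ IsZero N := by
    intro hz
    have h1 := DevBasic.support_eq_empty_of_isZero hz
    rw [support_invertible hN] at h1
    exact Set.univ_nonempty.ne_empty h1
  obtain ⟨Q, hQ⟩ := exists_isHilbPoly k X hA N hNc
  have hdeg : Q.natDegree = d := by
    have h1 := dim_eq_natDegree k hA N hNc h0 hQ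
    rw [support_invertible hN] at h1
    have h2 : topologicalKrullDim ↥(Set.univ : Set X) = topologicalKrullDim X :=
      (Homeomorph.Set.univ X).isHomeomorph.topologicalKrullDim_eq
    rw [h2, hdim] at h1
    exact_mod_cast h1.symm
  have hlc := leadingCoeff_pos k hA N hNc h0 hQ
  obtain ⟨c, hc, N₁, hN₁⟩ := poly_lower Q d hdeg hlc
  obtain ⟨N₂, hN₂⟩ := exists_finrank_eq_eval k X hA N hNc hQ
  refine ⟨c, hc, max N₁ N₂, fun q hq => ?_⟩
  rw [hN₂ q (le_of_max_le_right hq)]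
  exact hN₁ q (le_of_max_le_left hq)

/-- the lower growth bound. -/
theorem exists_lower_bound [IsIntegral X] (d : ℕ) (hdim : topologicalKrullDim X = d)
    {A : X.Modules} (hA : CohB1.IsAmple A) (A' : X.Modules)
    (eA : CohB1.tensorMod A' A ≅ Coh.structureModule X)
    (L : X.Modules) (hL : PicF.IsInvertible L) (m₀ : ℕ) (hm₀ : 0 < m₀)
    (hnt : Nontrivial (Coh.HH X (CohB1.tensorMod A' (CohB1.tensorPow L m₀)) 0)) :
    ∃ c : ℚ, 0 < c ∧ ∃ N : ℕ, ∀ n : ℕ, N ≤ n →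
      c * (n : ℚ) ^ d ≤ (Module.finrank k (Coh.HH X (CohB1.tensorPow L n) 0) : ℚ) := by
  haveI : IsNoetherian X := isNoetherian_of_isProper k X
  have coh : ∀ {M : X.Modules}, PicF.IsInvertible M → Coh.IsCoh M := fun hM =>
    ⟨InvCoh.isQuasicoherent_of_isInvertible hM, InvCoh.isFiniteType_of_isInvertible hM⟩
  have hA' : PicF.IsInvertible A' := isInvertible_of_inverse hA.1 ⟨braid A A' ≪≫ eA⟩
  have hLm₀ := isInvertible_tensorPow hL m₀
  have hE : PicF.IsInvertible (CohB1.tensorMod A' (CohB1.tensorPow L m₀)) :=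
    isInvertible_tensorMod hA' hLm₀
  obtain ⟨s, hs⟩ := exists_section_ne_zero X _ hnt
  let e₀ : CohB1.tensorPow L m₀ ≅
      CohB1.tensorMod A (CohB1.tensorMod A' (CohB1.tensorPow L m₀)) :=
    (unitorL _).symm ≪≫ tensorMapIso (braid A A' ≪≫ eA).symm (Iso.refl _) ≪≫ assoc A A' _
  have hlow : ∀ r : ℕ, ∃ c : ℚ, 0 < c ∧ ∃ N₀ : ℕ, ∀ q : ℕ, N₀ ≤ q →
      c * (q : ℚ) ^ d ≤ (Module.finrank k (Coh.HH X
        (CohB1.tensorMod (CohB1.tensorPow L r) (CohB1.tensorPow A q)) 0) : ℚ) :=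
    fun r => exists_lower_twist k X d hdim hA _ (isInvertible_tensorPow hL r)
  choose c hc N₀ hN₀ using hlow
  obtain ⟨r₀, hr₀, hmin⟩ := Finset.exists_min_image (Finset.range m₀) c
    ⟨0, Finset.mem_range.mpr hm₀⟩
  have key : ∀ n : ℕ, Module.finrank k (Coh.HH X
      (CohB1.tensorMod (CohB1.tensorPow L (n % m₀)) (CohB1.tensorPow A (n / m₀))) 0) ≤
      Module.finrank k (Coh.HH X (CohB1.tensorPow L n) 0) := by
    intro n
    have hn' : n = n % m₀ + m₀ * (n / m₀) := (Nat.mod_add_div n m₀).symm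
    have hEq := isInvertible_tensorPow hE (n / m₀)
    have hpos := finrank_H0_pow_pos k X _ hE s hs (n / m₀)
    obtain ⟨sq, hsq⟩ := exists_section_of_pos k X _ (coh hEq) hpos
    obtain ⟨eEq⟩ := Groth.Agent.Lib.Helper23.Inverse.tensor_dual_iso hEq
    have hT : PicF.IsInvertible (CohB1.tensorMod (CohB1.tensorPow L (n % m₀))
        (CohB1.tensorPow A (n / m₀))) :=
      isInvertible_tensorMod (isInvertible_tensorPow hL _) (isInvertible_tensorPow hA.1 _)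
    have h1 := finrank_H0_le k X _ _ hEq (braid _ _ ≪≫ eEq) sq hsq _ hT
    let e₄ : CohB1.tensorPow L n ≅
        CohB1.tensorMod (CohB1.tensorPow (CohB1.tensorMod A' (CohB1.tensorPow L m₀)) (n / m₀))
          (CohB1.tensorMod (CohB1.tensorPow L (n % m₀)) (CohB1.tensorPow A (n / m₀))) :=
      powCast L hn' ≪≫ (powAdd L (n % m₀) (m₀ * (n / m₀))).symm ≪≫
        tensorMapIso (Iso.refl _)
          ((powMul L m₀ (n / m₀)).symm ≪≫ tensorPowIso e₀ (n / m₀) ≪≫ powTensor A _ (n / m₀)) ≪≫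
        (assoc _ _ _).symm ≪≫ braid _ _
    rw [(FBC.HmapEquivK k e₄ 0).finrank_eq]
    exact h1
  refine ⟨c r₀ / (2 * (m₀ : ℚ)) ^ d, div_pos (hc r₀) (by positivity),
    max (2 * m₀) (m₀ * ((Finset.range m₀).sup N₀ + 1)), fun n hn => ?_⟩
  have hn1 : 2 * m₀ ≤ n := le_of_max_le_left hn
  have hn2 : m₀ * ((Finset.range m₀).sup N₀ + 1) ≤ n := le_of_max_le_right hn
  have hr : n % m₀ < m₀ := Nat.mod_lt n hm₀
  have hq : (Finset.range m₀).sup N₀ ≤ n / m₀ := by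
    have : (Finset.range m₀).sup N₀ + 1 ≤ n / m₀ :=
      (Nat.le_div_iff_mul_le hm₀).mpr (by rw [mul_comm]; exact hn2)
    omega
  have hNr : N₀ (n % m₀) ≤ n / m₀ :=
    (Finset.le_sup (f := N₀) (Finset.mem_range.mpr hr)).trans hq
  have h1 := hN₀ (n % m₀) (n / m₀) hNr
  have h2 := key n
  have h3 : c r₀ ≤ c (n % m₀) := hmin _ (Finset.mem_range.mpr hr)
  have hq' : (n : ℚ) / (2 * m₀) ≤ ((n / m₀ : ℕ) : ℚ) := by
    have hn' : n = n % m₀ + m₀ * (n / m₀) := (Nat.mod_add_div n m₀).symm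
    have h4 : (n : ℚ) = ((n % m₀ : ℕ) : ℚ) + (m₀ : ℚ) * ((n / m₀ : ℕ) : ℚ) := by
      exact_mod_cast hn'
    have hm₀' : (0 : ℚ) < m₀ := by exact_mod_cast hm₀
    rw [div_le_iff₀ (by positivity)]
    have hr' : ((n % m₀ : ℕ) : ℚ) < m₀ := by exact_mod_cast hr
    have hn1' : (2 : ℚ) * m₀ ≤ n := by exact_mod_cast hn1
    have h5 : ((n / m₀ : ℕ) : ℚ) * (2 * (m₀ : ℚ)) = 2 * ((m₀ : ℚ) * ((n / m₀ : ℕ) : ℚ)) := by
      ring
    rw [h5]
    linarith
  have hm₀' : (0 : ℚ) < m₀ := by exact_mod_cast hm₀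
  calc c r₀ / (2 * (m₀ : ℚ)) ^ d * (n : ℚ) ^ d = c r₀ * ((n : ℚ) / (2 * m₀)) ^ d := by
        rw [div_pow]; ring
    _ ≤ c r₀ * (((n / m₀ : ℕ) : ℚ)) ^ d :=
        mul_le_mul_of_nonneg_left (pow_le_pow_left₀ (by positivity) hq' d) (hc r₀).le
    _ ≤ c (n % m₀) * (((n / m₀ : ℕ) : ℚ)) ^ d := mul_le_mul_of_nonneg_right h3 (by positivity)
    _ ≤ _ := h1
    _ ≤ _ := by exact_mod_cast h2

end Groth.Agent.Lib.Helper7.GrowthD
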