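import Mathlib

/-!
# Numeric lemma (Mathlib-only): the normalised upper limit of an eventually "shift-monotone"
sequence can be computed along the multiples of a fixed positive integer.
-/

set_option autoImplicit false

open Filter Topology ENNReal

namespace Groth.Agent.Lib.Helper7.LimsupMulLA

theorem div_eq_ofReal (x : ℕ) (d n : ℕ) (hn : 1 ≤ n) :
    (x : ℝ≥0∞) / (n : ℝ≥0∞) ^ d = ENNReal.ofReal ((x : ℝ) / (n : ℝ) ^ d) := by
  have hn' : (0 : ℝ) < (n : ℝ) := by exact_mod_cast hn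
  have hnpos : (0 : ℝ) < (n : ℝ) ^ d := by positivity
  rw [ENNReal.ofReal_div_of_pos hnpos, ENNReal.ofReal_pow (Nat.cast_nonneg n),
    ENNReal.ofReal_natCast, ENNReal.ofReal_natCast]

theorem eventually_mul_pow_le (t : ℝ) (ht0 : 0 ≤ t) (ht : t < 1) (b d : ℕ) :
    ∀ᶠ n : ℕ in atTop, t * ((n : ℝ) + b) ^ d ≤ (n : ℝ) ^ d := by
  have h1 : Tendsto (fun n : ℕ => t * (1 + (b : ℝ) / n) ^ d) atTop (𝓝 (t * (1 + 0) ^ d)) :=
    (((tendsto_const_div_atTop_nhds_zero_nat (b : ℝ)).const_add 1).pow d).const_mul t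
  have h2 : t * (1 + 0 : ℝ) ^ d < 1 := by simpa using ht
  filter_upwards [h1.eventually (gt_mem_nhds h2), eventually_ge_atTop 1] with n hn hn1
  have hn' : (0 : ℝ) < (n : ℝ) := by exact_mod_cast hn1
  have hnpos : (0 : ℝ) < (n : ℝ) ^ d := by positivity
  have h3 : (1 + (b : ℝ) / n) = ((n : ℝ) + b) / n := by field_simp
  rw [h3, div_pow, ← mul_div_assoc, div_lt_one hnpos] at hn
  exact hn.le

theorem limsup_le_limsup_mul (h : ℕ → ℕ) (d a N₁ : ℕ) (ha : 0 < a)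
    (hmono : ∀ n r : ℕ, N₁ ≤ r → h n ≤ h (n + r)) :
    limsup (fun n : ℕ => (h n : ℝ≥0∞) / (n : ℝ≥0∞) ^ d) atTop ≤
      limsup (fun m : ℕ => (h (a * m) : ℝ≥0∞) / ((a * m : ℕ) : ℝ≥0∞) ^ d) atTop := by
  apply ENNReal.le_of_forall_lt_one_mul_le
  intro t ht
  have httop : t ≠ ⊤ := ne_top_of_lt ht
  rw [← ENNReal.limsup_const_mul_of_ne_top httop]
  set M : ℕ → ℕ := fun n => (n + N₁) / a + 1 with hMdef
  have hMge : ∀ n, n + N₁ < a * M n := fun n => Nat.lt_mul_div_succ (n + N₁) ha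
  have hMle : ∀ n, a * M n ≤ n + N₁ + a := by
    intro n
    have := Nat.mul_div_le (n + N₁) a
    simp only [hMdef, Nat.mul_succ]
    omega
  have hM : Tendsto M atTop atTop := by
    apply tendsto_atTop_mono (f := fun n => n / a)
    · intro n
      simp only [hMdef]
      have : n / a ≤ (n + N₁) / a := Nat.div_le_div_right (Nat.le_add_right n N₁)
      omega
    · exact Nat.tendsto_div_const_atTop ha.ne'
  have ht' : t.toReal < 1 := by
    have := (ENNReal.toReal_lt_toReal httop ENNReal.one_ne_top).mpr ht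
    simpa using this
  have h1 : ∀ᶠ n : ℕ in atTop, t * ((h n : ℝ≥0∞) / (n : ℝ≥0∞) ^ d) ≤
      (h (a * M n) : ℝ≥0∞) / ((a * M n : ℕ) : ℝ≥0∞) ^ d := by
    filter_upwards [eventually_mul_pow_le t.toReal ENNReal.toReal_nonneg ht' (N₁ + a) d,
      eventually_ge_atTop 1] with n hn hn1
    have hn' : (0 : ℝ) < (n : ℝ) := by exact_mod_cast hn1
    have hnpos : (0 : ℝ) < (n : ℝ) ^ d := by positivity
    have hM1 : 1 ≤ a * M n := by have := hMge n; omega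
    have hMpos' : (0 : ℝ) < ((a * M n : ℕ) : ℝ) := by exact_mod_cast hM1
    have hMpos : (0 : ℝ) < ((a * M n : ℕ) : ℝ) ^ d := by positivity
    rw [div_eq_ofReal _ d n hn1, div_eq_ofReal _ d _ hM1, ← ENNReal.ofReal_toReal httop,
      ← ENNReal.ofReal_mul ENNReal.toReal_nonneg]
    apply ENNReal.ofReal_le_ofReal
    have hh : h n ≤ h (a * M n) := by
      have hr : N₁ ≤ a * M n - n := by have := hMge n; omega
      have := hmono n (a * M n - n) hr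
      rwa [Nat.add_sub_cancel' (by have := hMge n; omega)] at this
    have hh' : (h n : ℝ) ≤ (h (a * M n) : ℝ) := by exact_mod_cast hh
    have hMle' : ((a * M n : ℕ) : ℝ) ≤ (n : ℝ) + ((N₁ + a : ℕ) : ℝ) := by
      exact_mod_cast (by have := hMle n; omega : a * M n ≤ n + (N₁ + a))
    have h5 : t.toReal * ((a * M n : ℕ) : ℝ) ^ d ≤ (n : ℝ) ^ d :=
      (mul_le_mul_of_nonneg_left (pow_le_pow_left₀ hMpos'.le hMle' d) ENNReal.toReal_nonneg).trans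
        hn
    rw [le_div_iff₀ hMpos]
    calc t.toReal * ((h n : ℝ) / (n : ℝ) ^ d) * ((a * M n : ℕ) : ℝ) ^ d
        = (h n : ℝ) * (t.toReal * ((a * M n : ℕ) : ℝ) ^ d) / (n : ℝ) ^ d := by ring
      _ ≤ (h n : ℝ) * (n : ℝ) ^ d / (n : ℝ) ^ d :=
          div_le_div_of_nonneg_right (mul_le_mul_of_nonneg_left h5 (Nat.cast_nonneg _)) hnpos.le
      _ = (h n : ℝ) := by field_simp
      _ ≤ (h (a * M n) : ℝ) := hh'
  calc limsup (fun n : ℕ => t * ((h n : ℝ≥0∞) / (n : ℝ≥0∞) ^ d)) atTop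
      ≤ limsup (fun n : ℕ => (h (a * M n) : ℝ≥0∞) / ((a * M n : ℕ) : ℝ≥0∞) ^ d) atTop :=
        limsup_le_limsup h1
    _ = limsup (fun m : ℕ => (h (a * m) : ℝ≥0∞) / ((a * m : ℕ) : ℝ≥0∞) ^ d) (map M atTop) :=
        limsup_comp (fun m : ℕ => (h (a * m) : ℝ≥0∞) / ((a * m : ℕ) : ℝ≥0∞) ^ d) M atTop
    _ ≤ limsup (fun m : ℕ => (h (a * m) : ℝ≥0∞) / ((a * m : ℕ) : ℝ≥0∞) ^ d) atTop :=
        limsup_le_limsup_of_le hM

theorem limsup_mul_le (h : ℕ → ℕ) (d a : ℕ) (ha : 0 < a) :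
    limsup (fun m : ℕ => (h (a * m) : ℝ≥0∞) / ((a * m : ℕ) : ℝ≥0∞) ^ d) atTop ≤
      limsup (fun n : ℕ => (h n : ℝ≥0∞) / (n : ℝ≥0∞) ^ d) atTop := by
  have hM : Tendsto (fun m : ℕ => a * m) atTop atTop :=
    tendsto_atTop_mono (fun m => Nat.le_mul_of_pos_left m ha) tendsto_id
  calc limsup (fun m : ℕ => (h (a * m) : ℝ≥0∞) / ((a * m : ℕ) : ℝ≥0∞) ^ d) atTop
      = limsup (fun n : ℕ => (h n : ℝ≥0∞) / (n : ℝ≥0∞) ^ d) (map (fun m : ℕ => a * m) atTop) :=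
        limsup_comp (fun n : ℕ => (h n : ℝ≥0∞) / (n : ℝ≥0∞) ^ d) (fun m : ℕ => a * m) atTop
    _ ≤ _ := limsup_le_limsup_of_le hM

/-- `h(am)/m^d = a^d · h(am)/(am)^d`. -/
theorem div_pow_eq (x a m d : ℕ) (ha : 0 < a) :
    (x : ℝ≥0∞) / (m : ℝ≥0∞) ^ d =
      (a : ℝ≥0∞) ^ d * ((x : ℝ≥0∞) / ((a * m : ℕ) : ℝ≥0∞) ^ d) := by
  have ha0 : (a : ℝ≥0∞) ^ d ≠ 0 := pow_ne_zero d (by exact_mod_cast ha.ne')
  have hat : (a : ℝ≥0∞) ^ d ≠ ⊤ := ENNReal.pow_ne_top (ENNReal.natCast_ne_top a)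
  rw [Nat.cast_mul, mul_pow, ← mul_div_assoc, ENNReal.mul_div_mul_left _ _ ha0 hat]

end Groth.Agent.Lib.Helper7.LimsupMulLA
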