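import Mathlib
import Groth.Prelude
import Groth.Agent.Lib.Helper7.GrowthD
import Groth.Agent.Lib.Helper7.LimsupMulLA

/-!
# Helper library (helper7): consequences of positive volume

On an integral projective scheme, if `limsup h⁰(L^m)/m^d > 0` then `h⁰(L^n) ≥ c n^d` for all large
`n`; in particular all high powers of `L` are effective, and `h⁰(L^n) ≤ h⁰(L^(n+r))` for `r ≫ 0`.
-/

set_option autoImplicit false
set_option linter.unusedSectionVars false
set_option linter.style.haveILetI false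
universe u
open CategoryTheory CategoryTheory.Limits AlgebraicGeometry Opposite TopologicalSpace
open Scheme.Modules
open scoped ENNReal

namespace Groth.Agent.Lib.Helper7.GrowthE

open Groth.Agent.Lib.Helper3 Groth.Agent.Lib.Helper3.InvMonoidal Groth.Agent.Lib.Helper3.InvTensor
open Groth.Agent.Lib.Helper3.InvGen
open Groth.Agent.Lib.Helper23 Groth.Agent.Lib.Helper23.HilbP
open Groth.Agent.Lib.Helper7.SnapFGA
open Groth.Agent.Lib.Helper7.VolMono Groth.Agent.Lib.Helper7.GrowthA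
open Groth.Agent.Lib.Helper7.GrowthB Groth.Agent.Lib.Helper7.GrowthC
open Groth.Agent.Lib.Helper7.GrowthD Groth.Agent.Lib.Helper7.LimsupMulLA

variable (k : Type u) [Field k] (X : Scheme.{u}) [X.Over (Spec (CommRingCat.of k))]
  [IsProper (X ↘ Spec (CommRingCat.of k))]

/-- positive volume gives the lower growth bound. -/
theorem exists_lower_of_limsup_pos [IsIntegral X] (d : ℕ) (hdim : topologicalKrullDim X = d)
    {A : X.Modules} (hA : CohB1.IsAmple A) (L : X.Modules) (hL : PicF.IsInvertible L)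
    (hvol : 0 < Filter.limsup (fun m : ℕ =>
      (Module.finrank k (Coh.HH X (CohB1.tensorPow L m) 0) : ℝ≥0∞) / (m : ℝ≥0∞) ^ d)
        Filter.atTop) :
    ∃ c : ℚ, 0 < c ∧ ∃ N : ℕ, ∀ n : ℕ, N ≤ n →
      c * (n : ℚ) ^ d ≤ (Module.finrank k (Coh.HH X (CohB1.tensorPow L n) 0) : ℚ) := by
  obtain ⟨r, hr0, hr1, hr2⟩ := ENNReal.lt_iff_exists_real_btwn.mp hvol
  have hrpos : 0 < r := by
    by_contra hneg
    push_neg at hneg
    rw [ENNReal.ofReal_of_nonpos hneg] at hr1
    exact lt_irrefl _ hr1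
  have hfreq := Filter.frequently_lt_of_lt_limsup (by isBoundedDefault) hr2
  have hfreq' : ∃ᶠ n : ℕ in Filter.atTop,
      r * (n : ℝ) ^ d < (Module.finrank k (Coh.HH X (CohB1.tensorPow L n) 0) : ℝ) := by
    refine (hfreq.and_eventually (Filter.eventually_ge_atTop 1)).mono ?_
    rintro n ⟨h1, hn⟩
    have hn' : (0 : ℝ) < (n : ℝ) := by exact_mod_cast hn
    have hnpos : (0 : ℝ) < (n : ℝ) ^ d := by positivity
    rw [div_eq_ofReal _ d n hn, ENNReal.ofReal_lt_ofReal_iff_of_nonneg hr0] at h1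
    rwa [lt_div_iff₀ hnpos] at h1
  have hbig := hbig_of_frequently _ d r hrpos hfreq'
  obtain ⟨eA⟩ := Groth.Agent.Lib.Helper23.Inverse.tensor_dual_iso hA.1
  obtain ⟨m₀, hm₀, hnt⟩ := kodaira k X d hdim hA _ (braid _ _ ≪≫ eA) L hL hbig
  exact exists_lower_bound k X d hdim hA _ (braid _ _ ≪≫ eA) L hL m₀ hm₀ hnt

/-- positive volume makes all high powers effective. -/
theorem exists_pos_of_limsup_pos [IsIntegral X] (d : ℕ) (hdim : topologicalKrullDim X = d)
    {A : X.Modules} (hA : CohB1.IsAmple A) (L : X.Modules) (hL : PicF.IsInvertible L)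
    (hvol : 0 < Filter.limsup (fun m : ℕ =>
      (Module.finrank k (Coh.HH X (CohB1.tensorPow L m) 0) : ℝ≥0∞) / (m : ℝ≥0∞) ^ d)
        Filter.atTop) :
    ∃ N : ℕ, ∀ n : ℕ, N ≤ n → 0 < Module.finrank k (Coh.HH X (CohB1.tensorPow L n) 0) := by
  obtain ⟨c, hc, N, hN⟩ := exists_lower_of_limsup_pos k X d hdim hA L hL hvol
  refine ⟨max N 1, fun n hn => ?_⟩
  have h1 := hN n (le_of_max_le_left hn)
  have hn1 : (0 : ℚ) < (n : ℚ) := by exact_mod_cast le_of_max_le_right hn
  have h2 : (0 : ℚ) < c * (n : ℚ) ^ d := by positivity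
  exact_mod_cast lt_of_lt_of_le h2 h1

/-- `h⁰(L^n) ≤ h⁰(L^(n+r))` when `L^r` is effective. -/
theorem finrank_le_add [IsIntegral X] (L : X.Modules) (hL : PicF.IsInvertible L) (n r : ℕ)
    (hr : 0 < Module.finrank k (Coh.HH X (CohB1.tensorPow L r) 0)) :
    Module.finrank k (Coh.HH X (CohB1.tensorPow L n) 0) ≤
      Module.finrank k (Coh.HH X (CohB1.tensorPow L (n + r)) 0) := by
  haveI : IsNoetherian X := isNoetherian_of_isProper k X
  have hLr := isInvertible_tensorPow hL r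
  have hLrc : Coh.IsCoh (CohB1.tensorPow L r) :=
    ⟨InvCoh.isQuasicoherent_of_isInvertible hLr, InvCoh.isFiniteType_of_isInvertible hLr⟩
  obtain ⟨s, hs⟩ := exists_section_of_pos k X _ hLrc hr
  obtain ⟨eLr⟩ := Groth.Agent.Lib.Helper23.Inverse.tensor_dual_iso hLr
  have h1 := finrank_H0_le k X _ _ hLr (braid _ _ ≪≫ eLr) s hs _ (isInvertible_tensorPow hL n)
  rw [(FBC.HmapEquivK k (braid (CohB1.tensorPow L r) (CohB1.tensorPow L n) ≪≫ powAdd L n r)
    0).finrank_eq] at h1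
  exact h1

/-- homogeneity of the volume. -/
theorem limsup_pow_eq [IsIntegral X] (d : ℕ) (hdim : topologicalKrullDim X = d)
    {A : X.Modules} (hA : CohB1.IsAmple A) (L : X.Modules) (hL : PicF.IsInvertible L)
    (a : ℕ) (ha : 0 < a) :
    Filter.limsup (fun m : ℕ =>
        (Module.finrank k (Coh.HH X (CohB1.tensorPow (CohB1.tensorPow L a) m) 0) : ℝ≥0∞) /
          (m : ℝ≥0∞) ^ d) Filter.atTop =
      (a : ℝ≥0∞) ^ d * Filter.limsup (fun m : ℕ =>
        (Module.finrank k (Coh.HH X (CohB1.tensorPow L m) 0) : ℝ≥0∞) / (m : ℝ≥0∞) ^ d)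
          Filter.atTop := by
  have e1 : ∀ m : ℕ, Module.finrank k (Coh.HH X (CohB1.tensorPow (CohB1.tensorPow L a) m) 0) =
      Module.finrank k (Coh.HH X (CohB1.tensorPow L (a * m)) 0) :=
    fun m => (FBC.HmapEquivK k (powMul L a m) 0).finrank_eq
  have e2 : (fun m : ℕ =>
      (Module.finrank k (Coh.HH X (CohB1.tensorPow (CohB1.tensorPow L a) m) 0) : ℝ≥0∞) /
        (m : ℝ≥0∞) ^ d) = fun m : ℕ => (a : ℝ≥0∞) ^ d *
      ((Module.finrank k (Coh.HH X (CohB1.tensorPow L (a * m)) 0) : ℝ≥0∞) /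
        ((a * m : ℕ) : ℝ≥0∞) ^ d) := by
    funext m
    rw [e1 m]
    exact div_pow_eq _ a m d ha
  rw [e2, ENNReal.limsup_const_mul_of_ne_top (ENNReal.pow_ne_top (ENNReal.natCast_ne_top a))]
  congr 1
  apply le_antisymm
    (limsup_mul_le (fun n => Module.finrank k (Coh.HH X (CohB1.tensorPow L n) 0)) d a ha)
  by_cases hvol : Filter.limsup (fun m : ℕ =>
      (Module.finrank k (Coh.HH X (CohB1.tensorPow L m) 0) : ℝ≥0∞) / (m : ℝ≥0∞) ^ d)
        Filter.atTop = 0
  · rw [hvol]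
    exact zero_le
  · have hpos := pos_iff_ne_zero.mpr hvol
    obtain ⟨N, hN⟩ := exists_pos_of_limsup_pos k X d hdim hA L hL hpos
    exact limsup_le_limsup_mul (fun n => Module.finrank k (Coh.HH X (CohB1.tensorPow L n) 0))
      d a N ha (fun n r hr => finrank_le_add k X L hL n r (hN r hr))

end Groth.Agent.Lib.Helper7.GrowthE
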