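import Mathlib
import Groth.Prelude
import Groth.Agent.Lib.Helper7.GrowthE

/-!
# Helper library (helper7): monomorphisms `A ↪ T` versus sections of `A⁻¹ ⊗ T`
-/

set_option autoImplicit false
set_option linter.unusedSectionVars false
set_option linter.style.haveILetI false
universe u
open CategoryTheory CategoryTheory.Limits AlgebraicGeometry Opposite TopologicalSpace
open Scheme.Modules

namespace Groth.Agent.Lib.Helper7.GrowthG

open Groth.Agent.Lib.Helper3 Groth.Agent.Lib.Helper3.InvMonoidal Groth.Agent.Lib.Helper3.InvTensor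
open Groth.Agent.Lib.Helper3.InvGen
open Groth.Agent.Lib.Helper23 Groth.Agent.Lib.Helper23.HilbP
open Groth.Agent.Lib.Helper7.SnapFGA Groth.Agent.Lib.Helper7.TwFun
open Groth.Agent.Lib.Helper7.SurfSecB
open Groth.Agent.Lib.Helper17

variable {X : Scheme.{u}}

/-- a monomorphism out of an invertible module `A` on a nonempty scheme gives a nonzero section of
`A⁻¹ ⊗ T`. -/
theorem section_of_mono [Nonempty X] {A A' : X.Modules} (hA : PicF.IsInvertible A)
    (eA : CohB1.tensorMod A' A ≅ Coh.structureModule X) (T : X.Modules) (φ : A ⟶ T) [Mono φ] :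
    ∃ s : Coh.structureModule X ⟶ CohB1.tensorMod A' T, s ≠ 0 := by
  have hφ : φ ≠ 0 := by
    intro h0
    have h1 : 𝟙 A = 0 := by
      rw [← cancel_mono φ, Category.id_comp, zero_comp, h0]
    have hz : IsZero A := (IsZero.iff_id_eq_zero A).mpr h1
    have h2 := DevBasic.support_eq_empty_of_isZero hz
    rw [support_invertible hA] at h2
    exact Set.univ_nonempty.ne_empty h2
  haveI := isEquivalence_twR A' A eA
  have hmap : (twR A').map φ ≠ 0 := by
    intro h0
    apply hφ
    apply (twR A').map_injective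
    rw [h0, Functor.map_zero]
  refine ⟨(braid A A' ≪≫ eA).inv ≫ (twR A').map φ ≫ (braid T A').hom, fun h0 => hmap ?_⟩
  have h1 : (twR A').map φ = (braid A A' ≪≫ eA).hom ≫
      ((braid A A' ≪≫ eA).inv ≫ (twR A').map φ ≫ (braid T A').hom) ≫ (braid T A').inv := by
    simp
  rw [h1, h0]
  simp
  rfl

/-- a nonzero section of `A⁻¹ ⊗ T` gives a monomorphism `A ↪ T` (integral schemes, invertible
modules). -/
theorem mono_of_section [IsIntegral X] {A A' : X.Modules} (hA : PicF.IsInvertible A)
    (eA : CohB1.tensorMod A' A ≅ Coh.structureModule X) (T : X.Modules)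
    (hT : PicF.IsInvertible T) (s : Coh.structureModule X ⟶ CohB1.tensorMod A' T) (hs : s ≠ 0) :
    ∃ φ : A ⟶ T, Mono φ := by
  haveI := isEquivalence_twR A A' (braid A A' ≪≫ eA)
  have hmap : (twR A).map s ≠ 0 := by
    intro h0
    apply hs
    apply (twR A).map_injective
    rw [h0, Functor.map_zero]
  let e₁ : CohB1.tensorMod (CohB1.tensorMod A' T) A ≅ T :=
    braid _ A ≪≫ (assoc A A' T).symm ≪≫ tensorMapIso (braid A A' ≪≫ eA) (Iso.refl T) ≪≫
      unitorL T
  have hne : (unitorL A).inv ≫ (twR A).map s ≫ e₁.hom ≠ 0 := by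
    intro h0
    apply hmap
    have h1 : (twR A).map s = (unitorL A).hom ≫
        ((unitorL A).inv ≫ (twR A).map s ≫ e₁.hom) ≫ e₁.inv := by
      simp
    rw [h1, h0]
    simp
    rfl
  exact ⟨_, Groth.Agent.Lib.Helper7.TorsFree.mono_of_ne_zero
    (Groth.Agent.Lib.Helper7.TorsFree.isFinLocFreeOfRank_one_of_isInvertible' hA)
    (Groth.Agent.Lib.Helper7.TorsFree.isFinLocFreeOfRank_one_of_isInvertible' hT) _ hne⟩

end Groth.Agent.Lib.Helper7.GrowthG
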