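import Mathlib
import Groth.Prelude
import Groth.Agent.Lib.Helper7.NefTrivA
import Groth.Agent.Lib.Helper7.GrowthG
import Groth.Agent.Lib.Helper7.PtSec2
import Groth.Agent.Lib.Helper7.SubIdealIso
import Groth.Agent.Lib.Helper7.RedLib
import Groth.Agent.Lib.Helper1.K0Dim2

/-!
# Helper library (helper7): nef modules orthogonal to a class of positive square (surfaces), II

A nef invertible module on an integral projective surface which is orthogonal to an ample module
has degree zero on every integral curve.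
-/

set_option autoImplicit false
set_option linter.unusedSectionVars false
set_option linter.style.haveILetI false
universe u
open CategoryTheory CategoryTheory.Limits AlgebraicGeometry Opposite TopologicalSpace
open Scheme.Modules

namespace Groth.Agent.Lib.Helper7.NefTrivB

open Groth.Agent.Lib.Helper3 Groth.Agent.Lib.Helper3.InvMonoidal Groth.Agent.Lib.Helper3.InvTensor
open Groth.Agent.Lib.Helper3.InvGen Groth.Agent.Lib.Helper3.InvAmple
open Groth.Agent.Lib.Helper3.SubIdeal Groth.Agent.Lib.Helper3.IdealMod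
open Groth.Agent.Lib.Helper23 Groth.Agent.Lib.Helper23.Snap Groth.Agent.Lib.Helper23.HilbP
open Groth.Agent.Lib.Helper7.SnapAlt Groth.Agent.Lib.Helper7.SnapFGA
open Groth.Agent.Lib.Helper7.IntNumPos Groth.Agent.Lib.Helper7.IntNumDiv
open Groth.Agent.Lib.Helper7.SecDeg Groth.Agent.Lib.Helper7.HilbCoeff
open Groth.Agent.Lib.Helper7.SecDegB Groth.Agent.Lib.Helper7.TwFun
open Groth.Agent.Lib.Helper7.SecDegC Groth.Agent.Lib.Helper7.RegSec Groth.Agent.Lib.Helper17
open Groth.Agent.Lib.Helper7.SurfSecC Groth.Agent.Lib.Helper7.SurfIP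
open Groth.Agent.Lib.Helper7.SurfRows Groth.Agent.Lib.Helper7.NefCoh
open Groth.Agent.Lib.Helper7.GrowthA Groth.Agent.Lib.Helper7.GrowthC
open Groth.Agent.Lib.Helper7.NefTrivA Groth.Agent.Lib.Helper7.SubIdealIso

section General

variable {X : Scheme.{u}}

/-- a nonzero section of `A⁻¹ ⊗ T` gives a nonzero map `A ⟶ T`. -/
theorem map_of_section {A A' : X.Modules}
    (eA : CohB1.tensorMod A' A ≅ Coh.structureModule X) (T : X.Modules)
    (s : Coh.structureModule X ⟶ CohB1.tensorMod A' T) (hs : s ≠ 0) :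
    ∃ φ : A ⟶ T, φ ≠ 0 := by
  haveI := isEquivalence_twR A A' (braid A A' ≪≫ eA)
  have hmap : (twR A).map s ≠ 0 := by
    intro h0
    apply hs
    apply (twR A).map_injective
    rw [h0, Functor.map_zero]
  let e₁ : CohB1.tensorMod (CohB1.tensorMod A' T) A ≅ T :=
    braid _ A ≪≫ (assoc A A' T).symm ≪≫ tensorMapIso (braid A A' ≪≫ eA) (Iso.refl T) ≪≫
      unitorL T
  have hne : (unitorL A).inv ≫ (twR A).map s ≫ e₁.hom ≠ 0 := by
    intro h0
    apply hmap
    have h1 : (twR A).map s = (unitorL A).hom ≫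
        ((unitorL A).inv ≫ (twR A).map s ≫ e₁.hom) ≫ e₁.inv := by
      simp
    rw [h1, h0]
    simp
    rfl
  exact ⟨_, hne⟩

end General

variable (k : Type u) [Field k] (X : Scheme.{u}) [X.Over (Spec (CommRingCat.of k))]
  [IsProper (X ↘ Spec (CommRingCat.of k))]

/-- a nonzero coherent module twisted by a high power of an ample module has a nonzero section. -/
theorem exists_section_twist_coh {H : X.Modules} (hH : CohB1.IsAmple H) (F : X.Modules)
    (hF : Coh.IsCoh F) (h0 : ¬ IsZero F) :
    ∃ n₀ : ℕ, ∀ n : ℕ, n₀ ≤ n →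
      0 < Module.finrank k (Coh.HH X (CohB1.tensorMod F (CohB1.tensorPow H n)) 0) := by
  haveI : IsNoetherian X := isNoetherian_of_isProper k X
  obtain ⟨N₁, hN₁⟩ := eventually_pos k X hH F hF h0
  obtain ⟨N₂, hN₂⟩ := Groth.Agent.Lib.Helper7.AmpleSerre.serre_vanishing_of_isAmple k
    (X ↘ Spec (CommRingCat.of k)) hH F hF
  refine ⟨max N₁ N₂, fun n hn => ?_⟩
  have h1 := hN₁ n (le_of_max_le_left hn)
  rw [euler_eq_finrank_h0 k X _ (isCoh_twist X hH.1 hF n) (hN₂ n (le_of_max_le_right hn))] at h1
  have h2 : (0 : ℤ) < (Module.finrank k (Coh.HH X (CohB1.tensorMod F (CohB1.tensorPow H n)) 0) : ℤ) :=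
    h1
  exact_mod_cast h2

include k in
/-- through every proper closed subscheme of an integral projective scheme passes an effective
Cartier divisor whose ideal is a negative power of a given ample module. -/
theorem exists_divisor_through [IsIntegral X] {H H' : X.Modules} (hH : CohB1.IsAmple H)
    (eH : CohB1.tensorMod H H' ≅ Coh.structureModule X) (C : X.IdealSheafData)
    (hC : ¬ IsZero (ClSub.idealMod C)) :
    ∃ (m : ℕ) (Z : X.IdealSheafData), BlowUp.IsEffCartierIdeal Z ∧
      Nonempty (CohB1.tensorPow H' m ≅ ClSub.idealMod Z) ∧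
      ∀ y ∈ (C.support : Set X), y ∈ (Z.support : Set X) := by
  haveI : IsNoetherian X := isNoetherian_of_isProper k X
  have hH' := isInvertible_of_inverse hH.1 ⟨eH⟩
  have hIc : Coh.IsCoh (ClSub.idealMod C) := Groth.Agent.Lib.Helper7.PtDiv.isCoh_idealMod' k C
  obtain ⟨n₀, hn₀⟩ := exists_section_twist_coh k X hH _ hIc hC
  have hpos := hn₀ n₀ le_rfl
  obtain ⟨σ, hσ⟩ : ∃ σ : Coh.structureModule X ⟶
      CohB1.tensorMod (ClSub.idealMod C) (CohB1.tensorPow H n₀), σ ≠ 0 :=
    exists_section_of_pos k X _ (isCoh_twist X hH.1 hIc n₀) hpos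
  have hs : σ ≫ (braid (ClSub.idealMod C) (CohB1.tensorPow H n₀)).hom ≠ 0 := by
    intro h0
    apply hσ
    rw [← cancel_mono (braid (ClSub.idealMod C) (CohB1.tensorPow H n₀)).hom, h0, zero_comp]
  obtain ⟨φ, hφ⟩ := map_of_section (powInv eH n₀) (ClSub.idealMod C) _ hs
  have hA : PicF.IsInvertible (CohB1.tensorPow H' n₀) := isInvertible_tensorPow hH' n₀
  have hj : φ ≫ ClSub.idealModι C ≠ 0 := by
    intro h0
    apply hφ
    rw [← cancel_mono (ClSub.idealModι C), h0, zero_comp]
  haveI : Mono (φ ≫ ClSub.idealModι C) :=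
    Groth.Agent.Lib.Helper7.TorsFree.mono_of_ne_zero
      (Groth.Agent.Lib.Helper7.TorsFree.isFinLocFreeOfRank_one_of_isInvertible' hA)
      (Groth.Agent.Lib.Helper7.TorsFree.isFinLocFreeOfRank_one_of_isInvertible'
        (isInvertible_structureModule X)) _ hj
  haveI : (CohB1.tensorPow H' n₀).IsQuasicoherent := InvCoh.isQuasicoherent_of_isInvertible hA
  obtain ⟨eZ⟩ := idealMod_idealOfSub_iso (φ ≫ ClSub.idealModι C)
  refine ⟨n₀, idealOfSub (φ ≫ ClSub.idealModι C),
    (EffCartMod.isInvertible_idealMod_iff _).mp (isInvertible_of_iso eZ hA), ⟨eZ⟩, ?_⟩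
  intro y hy
  refine mem_support_idealOfSub (φ ≫ ClSub.idealModι C)
    (U := ⟨(C.support : Set X)ᶜ, C.support.isClosed.isOpen_compl⟩) ?_ (fun h => h hy)
  intro W' τ
  have hval : valOf (φ ≫ ClSub.idealModι C) τ = val C (φ.app W' τ) := rfl
  rw [hval]
  have := disjoint_basicOpen_val C (φ.app W' τ)
  simpa using this

/-- positivity of the length at a generic point of the support. -/
theorem length_toNat_pos [IsNoetherian X] (F : X.Modules) (hF : Coh.IsCoh F) (r : ℕ)
    (hcl : IsClosed (CohB1.support F))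
    (hsupp : topologicalKrullDim ↥(CohB1.support F) ≤ (r : WithBot ℕ∞)) (ξ : X)
    (hξ : ξ ∈ CohB1.support F) (hξd : topologicalKrullDim ↥(closure ({ξ} : Set X)) = r) :
    0 < (Module.length (X.presheaf.stalk ξ) (F.presheaf.stalk ξ)).toNat := by
  have htop := Groth.Agent.Lib.Helper1.K0Dim.length_ne_top_of_dim r hcl hsupp F hF
    (Set.Subset.refl _) ξ hξd
  have h0 : Module.length (X.presheaf.stalk ξ) (F.presheaf.stalk ξ) ≠ 0 := by
    intro h
    rw [Module.length_eq_zero_iff] at h
    exact hξ h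
  apply Nat.pos_of_ne_zero
  intro h
  rcases (ENat.toNat_eq_zero.mp h) with h | h
  · exact h0 h
  · exact htop h

/-- a nef module orthogonal to an ample module has degree zero on every integral curve. -/
theorem nef_curve_eq_zero [IsIntegral X] (hdim : topologicalKrullDim X = 2)
    (H : X.Modules) (hH : CohB1.IsAmple H)
    (N : X.Modules) (hN : PicF.IsInvertible N) (hHN : ip k X H N = 0)
    (hnef : ∀ Γ : X.IdealSheafData, IsIntegral Γ.subscheme →
      topologicalKrullDim (Γ.support : Set X) = 1 →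
        0 ≤ Curv2.euler k X (CohB1.tensorMod (ClSub.quotMod Γ) N) -
          Curv2.euler k X (ClSub.quotMod Γ))
    (C : X.IdealSheafData) (hCint : IsIntegral C.subscheme)
    (hCdim : topologicalKrullDim (C.support : Set X) = 1) :
    Curv2.euler k X (CohB1.tensorMod (ClSub.quotMod C) N) -
      Curv2.euler k X (ClSub.quotMod C) = 0 := by
  haveI : IsNoetherian X := isNoetherian_of_isProper k X
  have hd : topologicalKrullDim X ≤ ((2 : ℕ) : WithBot ℕ∞) := by
    rw [hdim]
    norm_cast
  obtain ⟨eH⟩ := Groth.Agent.Lib.Helper23.Inverse.tensor_dual_iso hH.1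
  have hH' := isInvertible_of_inverse hH.1 ⟨eH⟩
  -- the ideal of `C` is nonzero
  have hC0 : ¬ IsZero (ClSub.idealMod C) := by
    intro hz
    have h1 := DevBasic.support_eq_empty_of_isZero hz
    have h2 := DevBasic.support_subset_union _ (EffCart.shortExact_ideal C)
    change CohB1.support (Coh.structureModule X) ⊆
      CohB1.support (ClSub.idealMod C) ∪ CohB1.support (ClSub.quotMod C) at h2
    rw [h1, Set.empty_union, support_invertible (isInvertible_structureModule X),
      DevTest.support_A] at h2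
    have h3 : (C.support : Set X) = Set.univ := Set.eq_univ_of_univ_subset h2
    rw [h3, (Homeomorph.Set.univ X).isHomeomorph.topologicalKrullDim_eq, hdim] at hCdim
    norm_num at hCdim
  obtain ⟨m, Z, hZ, ⟨eZ⟩, hCZ⟩ := exists_divisor_through k X hH eH C hC0
  have hI := (EffCartMod.isInvertible_idealMod_iff Z).mpr hZ
  have h0 : FGA.intNum k X 2 (fun _ : Fin 1 => N) (ClSub.quotMod Z) = 0 := by
    rw [← intNum_cons_ideal k X 2 hd (fun _ : Fin 1 => N) (fun _ => hN) Z hI, ← ip_eq,
      ← ip_iso_left k X eZ N, ip_pow_left k X hd hH' hN, ip_neg_left k X hd hH.1 eH hN, hHN]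
    simp
  have hsupp := dim_support_quotMod_le X hdim Z hZ
  have hQ := EffCart.isCoh_quotMod Z
  obtain ⟨s, hs⟩ := exists_finset k X _ hQ 1 hsupp
  have h1 := intNum_eq_sum k X 2 hd (fun _ : Fin 1 => N) (fun _ => hN) _ hQ hsupp s hs
  rw [h0] at h1
  have hterm : ∀ ξ ∈ s,
      ((Module.length (X.presheaf.stalk ξ) ((ClSub.quotMod Z).presheaf.stalk ξ)).toNat : ℤ) *
      FGA.intNum k X 2 (fun _ : Fin 1 => N) (ClSub.quotMod
        (Scheme.IdealSheafData.vanishingIdeal ⟨closure ({ξ} : Set X), isClosed_closure⟩)) ≤ 0 := by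
    intro ξ hξ
    have hξ' := ((hs ξ).mp hξ).2
    refine mul_nonpos_of_nonneg_of_nonpos (Int.natCast_nonneg _) ?_
    rw [intNum_one k X 2 hd]
    have hirr : IsIrreducible
        ((⟨closure ({ξ} : Set X), isClosed_closure⟩ : TopologicalSpace.Closeds X) : Set X) :=
      isIrreducible_singleton.closure
    have hint := Groth.Agent.Lib.Helper17.DevInt.isIntegral_sub
      (⟨closure ({ξ} : Set X), isClosed_closure⟩ : TopologicalSpace.Closeds X) hirr
    have hdim1 : topologicalKrullDim ((Scheme.IdealSheafData.vanishingIdeal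
        (⟨closure ({ξ} : Set X), isClosed_closure⟩ : TopologicalSpace.Closeds X)).support : Set X)
          = 1 := by
      rw [Scheme.IdealSheafData.coe_support_vanishingIdeal]
      change topologicalKrullDim ↥(closure ({ξ} : Set X)) = 1
      rw [hξ']
      norm_cast
    have := hnef _ hint hdim1
    linarith
  have hz := (Finset.sum_eq_zero_iff_of_nonpos hterm).mp h1.symm
  -- the generic point of `C`
  haveI := hCint
  have hirrC : IsIrreducible (C.support : Set X) := by
    rw [← C.range_subschemeι, ← Set.image_univ]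
    exact (IrreducibleSpace.isIrreducible_univ _).image _ C.subschemeι.continuous.continuousOn
  have hgen := hirrC.isGenericPoint_genericPoint_closure
  set ξ := hirrC.genericPoint with hξdef
  have hξcl : closure ({ξ} : Set X) = (C.support : Set X) := by
    have : closure ({ξ} : Set X) = closure (C.support : Set X) := hgen
    rw [this, C.support.isClosed.closure_eq]
  have hξC : ξ ∈ (C.support : Set X) := by
    rw [← hξcl]
    exact subset_closure (Set.mem_singleton ξ)
  have hξd : topologicalKrullDim ↥(closure ({ξ} : Set X)) = ((1 : ℕ) : WithBot ℕ∞) := by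
    rw [hξcl, hCdim]
    norm_cast
  have hξsupp : ξ ∈ CohB1.support (ClSub.quotMod Z) := by
    rw [DevTest.support_A]
    exact hCZ ξ hξC
  have hξs : ξ ∈ s := (hs ξ).mpr ⟨hξsupp, hξd⟩
  have hcl : IsClosed (CohB1.support (ClSub.quotMod Z)) := by
    rw [DevTest.support_A]
    exact Z.support.isClosed
  have hlen := length_toNat_pos X _ hQ 1 hcl hsupp ξ hξsupp hξd
  have hzξ := hz ξ hξs
  have hlen' : ((Module.length (X.presheaf.stalk ξ)
      ((ClSub.quotMod Z).presheaf.stalk ξ)).toNat : ℤ) ≠ 0 := by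
    exact_mod_cast hlen.ne'
  have hint0 := (mul_eq_zero.mp hzξ).resolve_left hlen'
  have hvan : Scheme.IdealSheafData.vanishingIdeal
      (⟨closure ({ξ} : Set X), isClosed_closure⟩ : TopologicalSpace.Closeds X) = C := by
    have h3 : (⟨closure ({ξ} : Set X), isClosed_closure⟩ : TopologicalSpace.Closeds X) =
        C.support := TopologicalSpace.Closeds.ext hξcl
    rw [h3, Scheme.IdealSheafData.vanishingIdeal_support,
      (Groth.Agent.Lib.Helper7.isReduced_subscheme_iff C).mp inferInstance]
  rw [hvan, intNum_one k X 2 hd] at hint0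
  linarith

end Groth.Agent.Lib.Helper7.NefTrivB
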