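import Mathlib
import Groth.Prelude
import Groth.Agent.Lib.Helper7.GGNef
import Groth.Agent.Lib.Helper7.NefTrivB
import Groth.Agent.Lib.Helper7.RedLib

/-!
# Helper library (helper7): sections vanishing along a curve of negative degree (surfaces)

* `idealModMap` : the map `I_D ⟶ I_E` for `D ≤ E`;
* `le_of_support_subset` : a radical ideal contains every ideal whose support contains its support;
* `exists_section_twist_ideal` : if `L` has a nonzero section and negative degree on the integral
  curve `E`, then `I_E ⊗ L` has a nonzero section;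
* `h0_subsingleton_of_curve` : (S16562) if `(L·E) < -1`, `E² = -1` and `2(H·E) > (L·H)` for a nef
  `H`, then `H⁰(L) = 0`.
-/

set_option autoImplicit false
set_option linter.unusedSectionVars false
set_option linter.style.haveILetI false
universe u
open CategoryTheory CategoryTheory.Limits AlgebraicGeometry Opposite TopologicalSpace
open Scheme.Modules

namespace Groth.Agent.Lib.Helper7.MinusOne

open Groth.Agent.Lib.Helper3 Groth.Agent.Lib.Helper3.InvMonoidal Groth.Agent.Lib.Helper3.InvTensor
open Groth.Agent.Lib.Helper3.InvGen Groth.Agent.Lib.Helper3.InvAmple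
open Groth.Agent.Lib.Helper3.SubIdeal Groth.Agent.Lib.Helper3.IdealMod
open Groth.Agent.Lib.Helper23 Groth.Agent.Lib.Helper23.Snap Groth.Agent.Lib.Helper23.HilbP
open Groth.Agent.Lib.Helper7.SnapAlt Groth.Agent.Lib.Helper7.SnapFGA
open Groth.Agent.Lib.Helper7.IntNumPos Groth.Agent.Lib.Helper7.IntNumDiv
open Groth.Agent.Lib.Helper7.SecDeg Groth.Agent.Lib.Helper7.HilbCoeff
open Groth.Agent.Lib.Helper7.SecDegB Groth.Agent.Lib.Helper7.TwFun
open Groth.Agent.Lib.Helper7.SecDegC Groth.Agent.Lib.Helper7.RegSec Groth.Agent.Lib.Helper17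
open Groth.Agent.Lib.Helper7.SurfSecC Groth.Agent.Lib.Helper7.SurfIP
open Groth.Agent.Lib.Helper7.SurfRows Groth.Agent.Lib.Helper7.NefCoh
open Groth.Agent.Lib.Helper7.NefTrivA Groth.Agent.Lib.Helper7.NumSec

section Ideal

variable {X : Scheme.{u}}

theorem app_eq_zero_of_comp {Y Z : Scheme.{u}} (f : Y ⟶ X) (g : Z ⟶ Y) (f' : Z ⟶ X)
    (h : f' = g ≫ f) (W : X.Opens) (v : Γ(X, W)) (hv : f.app W v = 0) : f'.app W v = 0 := by
  subst h
  change (g.app (f ⁻¹ᵁ W)) (f.app W v) = 0
  rw [hv, map_zero]

theorem idealModι_comp_toSubscheme_of_le {D E : X.IdealSheafData} (h : D ≤ E) :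
    ClSub.idealModι D ≫ ClSub.toSubscheme E = 0 := by
  ext W t
  have h1 : D.subschemeι.app W (val D t) = 0 := app_val D t
  have h2 : E.subschemeι = Scheme.IdealSheafData.inclusion h ≫ D.subschemeι :=
    (Scheme.IdealSheafData.inclusion_subschemeι h).symm
  exact app_eq_zero_of_comp D.subschemeι (Scheme.IdealSheafData.inclusion h) E.subschemeι h2 W
    (val D t) h1

/-- the map of ideal modules induced by an inclusion of ideals. -/
noncomputable def idealModMap {D E : X.IdealSheafData} (h : D ≤ E) :
    ClSub.idealMod D ⟶ ClSub.idealMod E :=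
  kernel.lift (ClSub.toSubscheme E) (ClSub.idealModι D) (idealModι_comp_toSubscheme_of_le h)

theorem idealModMap_ι {D E : X.IdealSheafData} (h : D ≤ E) :
    idealModMap h ≫ ClSub.idealModι E = ClSub.idealModι D :=
  kernel.lift_ι _ _ _

/-- a radical ideal contains every ideal whose support contains its support. -/
theorem le_of_support_subset {D E : X.IdealSheafData} (hE : IsReduced E.subscheme)
    (h : E.support ≤ D.support) : D ≤ E := by
  have h1 : D ≤ D.radical := Scheme.IdealSheafData.le_radical D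
  have h2 : D.radical ≤ E.radical := by
    rw [← Scheme.IdealSheafData.vanishingIdeal_support,
      ← Scheme.IdealSheafData.vanishingIdeal_support]
    exact Scheme.IdealSheafData.vanishingIdeal_antimono h
  rw [(Groth.Agent.Lib.Helper7.isReduced_subscheme_iff E).mp hE] at h2
  exact h1.trans h2

end Ideal

variable (k : Type u) [Field k] (X : Scheme.{u}) [X.Over (Spec (CommRingCat.of k))]
  [IsProper (X ↘ Spec (CommRingCat.of k))]

/-- if `L` has a nonzero section and negative degree on the integral curve `E`, then `I_E ⊗ L`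
has a nonzero section. -/
theorem exists_section_twist_ideal [IsIntegral X] (L : X.Modules) (hL : PicF.IsInvertible L)
    (s : Coh.structureModule X ⟶ L) (hs : s ≠ 0)
    (E : X.IdealSheafData) (hEi : IsIntegral E.subscheme)
    (hE1 : topologicalKrullDim (E.support : Set X) = 1)
    (hneg : Curv2.euler k X (CohB1.tensorMod (ClSub.quotMod E) L) -
      Curv2.euler k X (ClSub.quotMod E) < 0) :
    ∃ s' : Coh.structureModule X ⟶ CohB1.tensorMod (ClSub.idealMod E) L, s' ≠ 0 := by
  haveI := hEi
  letI : E.subscheme.Over (Spec (CommRingCat.of k)) :=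
    ⟨E.subschemeι ≫ (X ↘ Spec (CommRingCat.of k))⟩
  have hov : E.subscheme ↘ Spec (CommRingCat.of k) =
      E.subschemeι ≫ (X ↘ Spec (CommRingCat.of k)) := rfl
  haveI : IsProper (E.subscheme ↘ Spec (CommRingCat.of k)) := by
    show IsProper (E.subschemeι ≫ (X ↘ Spec (CommRingCat.of k)))
    infer_instance
  have hdimC : topologicalKrullDim E.subscheme = 1 := by
    rw [← hE1]
    have hemb : Topology.IsEmbedding E.subschemeι :=
      E.subschemeι.isClosedEmbedding.isEmbedding
    have h1 := hemb.toHomeomorph.isHomeomorph.topologicalKrullDim_eq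
    rw [h1, E.range_subschemeι]
  -- the restriction of `s` to `E` vanishes
  have ht : PbBasic.pullHom E.subschemeι s = 0 := by
    by_contra ht
    have h1 := Groth.Agent.Lib.Helper7.GGNef.euler_le_of_section k E.subscheme hdimC _
      (PbBasic.isInvertible_pullback E.subschemeι hL) _ ht
    have h0 : Curv2.euler k X (ClSub.quotMod E) =
        Curv2.euler k E.subscheme (Coh.structureModule E.subscheme) :=
      Groth.Agent.Lib.Helper7.GGNef.euler_push k X E hov (Coh.structureModule E.subscheme)
    rw [Groth.Agent.Lib.Helper7.GGNef.euler_quotMod_tensor k X E hov L, h0] at hneg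
    linarith
  have hsub : ∀ x ∈ (E.support : Set X), x ∉ CohB1.genLocus L s := by
    intro x hx hxg
    rw [← E.range_subschemeι] at hx
    obtain ⟨w, rfl⟩ := hx
    have hw : w ∈ CohB1.genLocus ((Scheme.Modules.pullback E.subschemeι).obj L)
        (PbBasic.pullHom E.subschemeι s) := by
      rw [PbBasic.genLocus_pullHom E.subschemeι hL s]
      exact hxg
    rw [ht] at hw
    exact notMem_genLocus_zero _ w hw
  obtain ⟨eL⟩ := Groth.Agent.Lib.Helper23.Inverse.tensor_dual_iso hL
  set L' := Groth.Agent.Lib.Helper23.Inverse.dual L with hL'def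
  have hL' : PicF.IsInvertible L' := isInvertible_of_inverse hL ⟨eL⟩
  haveI : L'.IsQuasicoherent := InvCoh.isQuasicoherent_of_isInvertible hL'
  let ι₀ : CohB1.tensorMod L' L ≅ Coh.structureModule X := braid L' L ≪≫ eL
  have hreg := isRegSec_of_ne_zero hL s hs
  obtain ⟨eI⟩ := idealMod_zeroDiv_iso ι₀ hreg
  have hle : zeroDiv ι₀ s ≤ E := le_of_support_subset inferInstance
    (fun x hx => mem_support_zeroDiv ι₀ s hL (hsub x hx))
  let e' : CohB1.tensorMod (ClSub.idealMod (zeroDiv ι₀ s)) L ≅ Coh.structureModule X :=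
    tensorMapIso eI.symm (Iso.refl L) ≪≫ ι₀
  let φ : CohB1.tensorMod (ClSub.idealMod (zeroDiv ι₀ s)) L ⟶
      CohB1.tensorMod (ClSub.idealMod E) L := (twR L).map (idealModMap hle)
  refine ⟨e'.inv ≫ φ, ?_⟩
  intro h0
  have h1 : φ = 0 := by
    have h5 : φ = e'.hom ≫ (e'.inv ≫ φ) := (e'.hom_inv_id_assoc _).symm
    rw [h5, h0, comp_zero]
  haveI := isEquivalence_twR L L' eL
  have h2 : idealModMap hle = 0 := by
    apply (twR L).map_injective
    rw [Functor.map_zero]
    exact h1
  have h3 : ClSub.idealModι (zeroDiv ι₀ s) = 0 := by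
    rw [← idealModMap_ι hle, h2, zero_comp]
  have hz : IsZero (ClSub.idealMod (zeroDiv ι₀ s)) := IsZero.of_mono_eq_zero _ h3
  have hz' : IsZero L' := hz.of_iso eI
  have h4 := DevBasic.support_eq_empty_of_isZero hz'
  rw [support_invertible hL'] at h4
  exact Set.univ_nonempty.ne_empty h4

/-- (S16562) if `(L·E) < -1`, `E² = -1` and `2 (H·E) > (L·H)` for a nef `H`, then `H⁰(L) = 0`. -/
theorem h0_subsingleton_of_curve [IsIntegral X] (hdim : topologicalKrullDim X = 2)
    (H : X.Modules) (hH : PicF.IsInvertible H)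
    (hnef : ∀ Γ : X.IdealSheafData, IsIntegral Γ.subscheme →
      topologicalKrullDim (Γ.support : Set X) = 1 →
        0 ≤ Curv2.euler k X (CohB1.tensorMod (ClSub.quotMod Γ) H) -
          Curv2.euler k X (ClSub.quotMod Γ))
    (L : X.Modules) (hL : PicF.IsInvertible L)
    (E : X.IdealSheafData) (hEi : IsIntegral E.subscheme)
    (hE1 : topologicalKrullDim (E.support : Set X) = 1)
    (hEc : BlowUp.IsEffCartierIdeal E)
    (hEE : FGA.intNum k X 2 ![ClSub.idealMod E, ClSub.idealMod E] (Coh.structureModule X) = -1)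
    (hEH : FGA.intNum k X 2 ![L, H] (Coh.structureModule X) <
      2 * (Curv2.euler k X (CohB1.tensorMod (ClSub.quotMod E) H) -
        Curv2.euler k X (ClSub.quotMod E)))
    (hLE : Curv2.euler k X (CohB1.tensorMod (ClSub.quotMod E) L) -
      Curv2.euler k X (ClSub.quotMod E) < -1) :
    Subsingleton (Coh.HH X L 0) := by
  have hd : topologicalKrullDim X ≤ ((2 : ℕ) : WithBot ℕ∞) := by
    rw [hdim]
    norm_cast
  have hIE : PicF.IsInvertible (ClSub.idealMod E) :=
    (EffCartMod.isInvertible_idealMod_iff E).mpr hEc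
  by_contra hns
  have hnt : Nontrivial (Coh.HH X L 0) := not_subsingleton_iff_nontrivial.mp hns
  obtain ⟨s, hs⟩ := exists_section_ne_zero X L hnt
  have hdeg : ∀ N : X.Modules, PicF.IsInvertible N →
      Curv2.euler k X (CohB1.tensorMod (ClSub.quotMod E) N) - Curv2.euler k X (ClSub.quotMod E) =
        - ip k X (ClSub.idealMod E) N := by
    intro N hN
    rw [ip_ideal k X hd E hIE N hN]
    ring
  have hEE' : ip k X (ClSub.idealMod E) (ClSub.idealMod E) = -1 := hEE
  have hLH : ip k X L H = FGA.intNum k X 2 ![L, H] (Coh.structureModule X) := rfl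
  have h1 := hdeg L hL
  obtain ⟨s₁, hs₁⟩ := exists_section_twist_ideal k X L hL s hs E hEi hE1 (by linarith)
  have hL₁ : PicF.IsInvertible (CohB1.tensorMod (ClSub.idealMod E) L) :=
    isInvertible_tensorMod hIE hL
  have hdeg₁ : Curv2.euler k X (CohB1.tensorMod (ClSub.quotMod E)
      (CohB1.tensorMod (ClSub.idealMod E) L)) - Curv2.euler k X (ClSub.quotMod E) < 0 := by
    rw [hdeg _ hL₁, ip_add_right k X hd hIE hL hIE]
    linarith
  obtain ⟨s₂, hs₂⟩ := exists_section_twist_ideal k X _ hL₁ s₁ hs₁ E hEi hE1 hdeg₁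
  have hL₂ : PicF.IsInvertible (CohB1.tensorMod (ClSub.idealMod E)
      (CohB1.tensorMod (ClSub.idealMod E) L)) := isInvertible_tensorMod hIE hL₁
  have hnn := ip_nonneg_of_section k X hdim _ hL₂ s₂ hs₂ H hH hnef
  rw [ip_add_left k X hd hIE hL₁ hH, ip_add_left k X hd hIE hL hH] at hnn
  have hH' := hdeg H hH
  linarith

end Groth.Agent.Lib.Helper7.MinusOne
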