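import Mathlib
import Groth.Prelude.Def_ArtFun5
import Groth.Prelude.Def_W4sfdMinVersal
import Groth.Agent.Lib.Helper19.ArtFunBasic
import Groth.Agent.Lib.Helper19.ArtFunComplete
import Groth.Agent.Lib.Helper19.ArtFunCRing
import Groth.Agent.S12720

/-!
# Power series rings over coefficient rings (helper7)

* `W 𝔞 j`: the ideal of power series whose coefficient at `e` lies in `𝔞 ^ (j - |e|)`;
  `decomp`: `f = C f₀ + ∑ Xᵢ hᵢ` with control of the `hᵢ`;
* `exists_evNil`, `evNil_unique`: ring homs `R[[X]] → B` with nilpotent values at the variables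
  exist and are determined by their restriction to `R` and the values at the variables;
* for `R` local: `mem_maximalIdeal_iff`, `maximalIdeal_pow_eq_W`, `maximalIdeal_eq_sup`;
* `isAdicComplete`: `R[[X₁..Xₙ]]` is complete for its maximal ideal when `R` is complete local Noetherian;
* `pow R n : CRing Λ k`, and the universal property `exists_hom_art`, `hom_art_unique`,
  `exists_hom_cring`, `hom_cring_unique`;
* `exists_hom_of_isVersal_from_one`: formal lifting for a versal family with prescribed first-order part.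
-/

set_option autoImplicit false
universe u v

open CategoryTheory

namespace Groth.Agent.Lib.Helper7.PowSerCRing

open MvPowerSeries

section W

variable {σ : Type*} {R : Type*} [CommRing R] (𝔞 : Ideal R)

/-- power series whose coefficient at `e` lies in `𝔞 ^ (j - |e|)` -/
def W (j : ℕ) : Ideal (MvPowerSeries σ R) where
  carrier := {f | ∀ e : σ →₀ ℕ, coeff e f ∈ 𝔞 ^ (j - Finsupp.degree e)}
  add_mem' := fun {f g} hf hg e => by rw [map_add]; exact Ideal.add_mem _ (hf e) (hg e)
  zero_mem' := fun e => by rw [map_zero]; exact Ideal.zero_mem _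
  smul_mem' := fun c f hf e => by
    classical
    rw [smul_eq_mul, coeff_mul]
    refine Ideal.sum_mem _ fun p hp => ?_
    have hle : Finsupp.degree p.2 ≤ Finsupp.degree e := by
      rw [Finset.HasAntidiagonal.mem_antidiagonal] at hp
      rw [← hp, map_add]; exact Nat.le_add_left _ _
    exact Ideal.mul_mem_left _ _ (Ideal.pow_le_pow_right (Nat.sub_le_sub_left hle j) (hf p.2))

theorem mem_W {j : ℕ} {f : MvPowerSeries σ R} :
    f ∈ W 𝔞 j ↔ ∀ e : σ →₀ ℕ, coeff e f ∈ 𝔞 ^ (j - Finsupp.degree e) := Iff.rfl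

theorem W_zero : (W 𝔞 0 : Ideal (MvPowerSeries σ R)) = ⊤ := by
  rw [Ideal.eq_top_iff_one, mem_W]
  intro e
  rw [Nat.zero_sub, pow_zero, Ideal.one_eq_top]
  trivial

theorem mem_W_top (j : ℕ) (f : MvPowerSeries σ R) : f ∈ W (⊤ : Ideal R) j := by
  rw [mem_W]
  intro e
  rw [Ideal.top_pow]
  trivial

theorem W_mul_le (a b : ℕ) : W 𝔞 a * W 𝔞 b ≤ (W 𝔞 (a + b) : Ideal (MvPowerSeries σ R)) := by
  classical
  rw [Ideal.mul_le]
  intro f hf g hg
  rw [mem_W] at hf hg ⊢
  intro e
  rw [coeff_mul]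
  refine Ideal.sum_mem _ fun p hp => ?_
  rw [Finset.HasAntidiagonal.mem_antidiagonal] at hp
  have hdeg : Finsupp.degree e = Finsupp.degree p.1 + Finsupp.degree p.2 := by rw [← hp, map_add]
  have h1 := Ideal.mul_mem_mul (hf p.1) (hg p.2)
  rw [← pow_add] at h1
  exact Ideal.pow_le_pow_right (by omega) h1

/-- `f = C f₀ + ∑ Xᵢ hᵢ`, the `hᵢ` one step lower in the filtration -/
theorem decomp [Fintype σ] (j : ℕ) (f : MvPowerSeries σ R) (hf : f ∈ W 𝔞 (j + 1)) :
    ∃ h : σ → MvPowerSeries σ R, (∀ i, h i ∈ W 𝔞 j) ∧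
      f = C (constantCoeff f) + ∑ i, X i * h i := by
  classical
  let G : Finset σ → MvPowerSeries σ R := fun s e => if ∀ i ∈ s, e i = 0 then coeff e f else 0
  have hG : ∀ s e, coeff e (G s) = if ∀ i ∈ s, e i = 0 then coeff e f else 0 := fun s e => rfl
  have key : ∀ s : Finset σ, ∃ h : σ → MvPowerSeries σ R, (∀ i, h i ∈ W 𝔞 j) ∧
      f - G s = ∑ i ∈ s, X i * h i := by
    intro s
    induction s using Finset.induction_on with
    | empty =>
      refine ⟨fun _ => 0, fun i => Ideal.zero_mem _, ?_⟩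
      rw [Finset.sum_empty, sub_eq_zero]
      ext e
      rw [hG]
      simp
    | insert a s has ih =>
      obtain ⟨h, hh, hsum⟩ := ih
      have hu : ∀ m : σ →₀ ℕ, m a = 0 → coeff m (G s - G (insert a s)) = 0 := by
        intro m hm
        rw [map_sub, hG, hG]
        have : (∀ i ∈ insert a s, m i = 0) ↔ (∀ i ∈ s, m i = 0) := by
          rw [Finset.forall_mem_insert]
          exact ⟨fun h => h.2, fun h => ⟨hm, h⟩⟩
        simp only [this, sub_self]
      obtain ⟨q, hq⟩ := X_dvd_iff.mpr hu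
      have hqW : q ∈ W 𝔞 j := by
        rw [mem_W]
        intro m
        have h1 : coeff (Finsupp.single a 1 + m) (G s - G (insert a s)) = coeff m q := by
          rw [hq, X_def, coeff_add_monomial_mul, one_mul]
        rw [← h1, map_sub, hG, hG]
        have hne : ¬ (∀ i ∈ insert a s, (Finsupp.single a 1 + m : σ →₀ ℕ) i = 0) := by
          intro hcon
          have := hcon a (Finset.mem_insert_self a s)
          simp at this
        rw [if_neg hne, sub_zero]
        split_ifs
        · have := (mem_W 𝔞).mp hf (Finsupp.single a 1 + m)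
          rw [map_add, Finsupp.degree_single] at this
          have e1 : j + 1 - (1 + Finsupp.degree m) = j - Finsupp.degree m := by omega
          rwa [e1] at this
        · exact Ideal.zero_mem _
      refine ⟨Function.update h a q, ?_, ?_⟩
      · intro i
        by_cases hi : i = a
        · subst hi; rw [Function.update_self]; exact hqW
        · rw [Function.update_of_ne hi]; exact hh i
      · rw [Finset.sum_insert has, Function.update_self]
        have : ∑ i ∈ s, X i * Function.update h a q i = ∑ i ∈ s, X i * h i := by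
          refine Finset.sum_congr rfl fun i hi => ?_
          rw [Function.update_of_ne (fun hia => has (by rw [← hia]; exact hi))]
        rw [this, ← hsum, ← hq]
        ring
  obtain ⟨h, hh, hsum⟩ := key Finset.univ
  refine ⟨h, hh, ?_⟩
  have hGu : G Finset.univ = C (constantCoeff f) := by
    ext e
    rw [hG, coeff_C]
    by_cases he : e = 0
    · subst he
      have h0 : ∀ i ∈ (Finset.univ : Finset σ), (0 : σ →₀ ℕ) i = 0 := fun i _ => rfl
      rw [if_pos rfl, if_pos h0, coeff_zero_eq_constantCoeff_apply]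
    · rw [if_neg he, if_neg]
      intro hcon
      exact he (Finsupp.ext fun i => hcon i (Finset.mem_univ i))
  rw [← hsum, hGu]; ring

end W

section Eval

/-- evaluation of power series at nilpotent elements -/
theorem exists_evNil {R B : Type*} [CommRing R] [CommRing B] (y : R →+* B) {σ : Type*} [Finite σ]
    (b : σ → B) (hb : ∀ i, IsNilpotent (b i)) :
    ∃ ψ : MvPowerSeries σ R →+* B, (∀ r, ψ (C r) = y r) ∧ ∀ i, ψ (X i) = b i := by
  letI : UniformSpace R := ⊥
  letI : UniformSpace B := ⊥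
  haveI : DiscreteTopology R := ⟨rfl⟩
  haveI : DiscreteTopology B := ⟨rfl⟩
  have ha : HasEval b := by
    refine ⟨fun s => ?_, ?_⟩
    · obtain ⟨n, hn⟩ := hb s
      refine tendsto_atTop_of_eventually_const (i₀ := n) fun m hm => ?_
      exact pow_eq_zero_of_le hm hn
    · rw [Filter.cofinite_eq_bot]; exact Filter.tendsto_bot
  have hy : Continuous y := continuous_of_discreteTopology
  refine ⟨eval₂Hom hy ha, fun r => ?_, fun i => ?_⟩
  · rw [coe_eval₂Hom, eval₂_C]
  · rw [coe_eval₂Hom, eval₂_X]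

theorem evNil_unique {R B : Type*} [CommRing R] [CommRing B] {σ : Type*} [Fintype σ]
    (ψ₁ ψ₂ : MvPowerSeries σ R →+* B) (hC : ∀ r, ψ₁ (C r) = ψ₂ (C r))
    (hX : ∀ i, ψ₁ (X i) = ψ₂ (X i)) (hnil : ∀ i, IsNilpotent (ψ₁ (X i))) : ψ₁ = ψ₂ := by
  classical
  set 𝔟 : Ideal B := Ideal.span (Set.range fun i => ψ₁ (X i)) with h𝔟
  have hfg : 𝔟.FG := Submodule.fg_span (Set.finite_range _)
  have hnilI : IsNilpotent 𝔟 := by
    rw [Ideal.FG.isNilpotent_iff_le_nilradical hfg, h𝔟, Ideal.span_le]
    rintro _ ⟨i, rfl⟩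
    exact mem_nilradical.mpr (hnil i)
  obtain ⟨N, hN⟩ := hnilI
  have key : ∀ n : ℕ, ∀ f : MvPowerSeries σ R, ψ₁ f - ψ₂ f ∈ 𝔟 ^ n := by
    intro n
    induction n with
    | zero => intro f; rw [pow_zero, Ideal.one_eq_top]; trivial
    | succ n ih =>
      intro f
      obtain ⟨h, -, hf⟩ := decomp (⊤ : Ideal R) 0 f (mem_W_top _ f)
      have e1 : ψ₁ f - ψ₂ f = ∑ i, ψ₁ (X i) * (ψ₁ (h i) - ψ₂ (h i)) := by
        have h1 : ψ₁ f = ψ₁ (C (constantCoeff f)) + ∑ i, ψ₁ (X i) * ψ₁ (h i) := by
          conv_lhs => rw [hf]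
          rw [map_add, map_sum]; simp only [map_mul]
        have h2 : ψ₂ f = ψ₁ (C (constantCoeff f)) + ∑ i, ψ₁ (X i) * ψ₂ (h i) := by
          conv_lhs => rw [hf]
          rw [map_add, map_sum, hC]; simp only [map_mul, hX]
        rw [h1, h2, add_sub_add_left_eq_sub, ← Finset.sum_sub_distrib]
        exact Finset.sum_congr rfl fun i _ => (mul_sub _ _ _).symm
      rw [e1, pow_succ']
      exact Ideal.sum_mem _ fun i _ => Ideal.mul_mem_mul (Ideal.subset_span ⟨i, rfl⟩) (ih (h i))
  ext f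
  have h1 := key N f
  rw [hN, Ideal.zero_eq_bot, Ideal.mem_bot] at h1
  exact sub_eq_zero.mp h1

end Eval

section Local

variable {σ : Type*} [Fintype σ] {R : Type*} [CommRing R] [IsLocalRing R]

theorem mem_maximalIdeal_iff (f : MvPowerSeries σ R) :
    f ∈ IsLocalRing.maximalIdeal (MvPowerSeries σ R) ↔
      constantCoeff f ∈ IsLocalRing.maximalIdeal R := by
  rw [IsLocalRing.mem_maximalIdeal, IsLocalRing.mem_maximalIdeal, mem_nonunits_iff,
    mem_nonunits_iff, isUnit_iff_constantCoeff]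

theorem X_mem (i : σ) : (X i : MvPowerSeries σ R) ∈ IsLocalRing.maximalIdeal (MvPowerSeries σ R) := by
  rw [mem_maximalIdeal_iff, constantCoeff_X]
  exact Ideal.zero_mem _

theorem maximalIdeal_eq_W :
    IsLocalRing.maximalIdeal (MvPowerSeries σ R) = W (IsLocalRing.maximalIdeal R) 1 := by
  ext f
  rw [mem_maximalIdeal_iff, mem_W]
  constructor
  · intro hf e
    by_cases he : e = 0
    · subst he
      rw [map_zero, Nat.sub_zero, pow_one, coeff_zero_eq_constantCoeff_apply]; exact hf
    · have : 1 - Finsupp.degree e = 0 := by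
        have := (Finsupp.degree_eq_zero_iff e).not.mpr he
        omega
      rw [this, pow_zero, Ideal.one_eq_top]; trivial
  · intro hf
    have := hf 0
    rwa [map_zero, Nat.sub_zero, pow_one, coeff_zero_eq_constantCoeff_apply] at this

theorem maximalIdeal_pow_le_W (j : ℕ) :
    IsLocalRing.maximalIdeal (MvPowerSeries σ R) ^ j ≤ W (IsLocalRing.maximalIdeal R) j := by
  induction j with
  | zero => rw [W_zero]; exact le_top
  | succ j ih =>
    rw [pow_succ]
    calc IsLocalRing.maximalIdeal (MvPowerSeries σ R) ^ j * IsLocalRing.maximalIdeal (MvPowerSeries σ R)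
        ≤ W (IsLocalRing.maximalIdeal R) j * W (IsLocalRing.maximalIdeal R) 1 :=
          Ideal.mul_mono ih (le_of_eq maximalIdeal_eq_W)
      _ ≤ W (IsLocalRing.maximalIdeal R) (j + 1) := W_mul_le _ j 1

theorem map_C_le : Ideal.map (C : R →+* MvPowerSeries σ R) (IsLocalRing.maximalIdeal R) ≤
    IsLocalRing.maximalIdeal (MvPowerSeries σ R) := by
  rw [Ideal.map_le_iff_le_comap]
  intro r hr
  rw [Ideal.mem_comap, mem_maximalIdeal_iff, constantCoeff_C]; exact hr

theorem C_mem_pow {s : ℕ} {a : R} (ha : a ∈ IsLocalRing.maximalIdeal R ^ s) :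
    (C a : MvPowerSeries σ R) ∈ IsLocalRing.maximalIdeal (MvPowerSeries σ R) ^ s := by
  have h2 := Ideal.mem_map_of_mem (C : R →+* MvPowerSeries σ R) ha
  rw [Ideal.map_pow] at h2
  exact Ideal.pow_right_mono map_C_le s h2

theorem W_le_maximalIdeal_pow (j : ℕ) :
    W (IsLocalRing.maximalIdeal R) j ≤ IsLocalRing.maximalIdeal (MvPowerSeries σ R) ^ j := by
  classical
  induction j with
  | zero => rw [pow_zero, Ideal.one_eq_top]; exact le_top
  | succ j ih =>
    intro f hf
    obtain ⟨h, hh, hfe⟩ := decomp _ j f hf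
    rw [hfe]
    refine Ideal.add_mem _ (C_mem_pow ?_) (Ideal.sum_mem _ fun i _ => ?_)
    · have := (mem_W _).mp hf 0
      rwa [map_zero, Nat.sub_zero, coeff_zero_eq_constantCoeff_apply] at this
    · rw [pow_succ']
      exact Ideal.mul_mem_mul (X_mem i) (ih (hh i))

theorem maximalIdeal_pow_eq_W (j : ℕ) :
    IsLocalRing.maximalIdeal (MvPowerSeries σ R) ^ j = W (IsLocalRing.maximalIdeal R) j :=
  le_antisymm (maximalIdeal_pow_le_W j) (W_le_maximalIdeal_pow j)

theorem maximalIdeal_eq_sup :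
    IsLocalRing.maximalIdeal (MvPowerSeries σ R) =
      Ideal.map (C : R →+* MvPowerSeries σ R) (IsLocalRing.maximalIdeal R) ⊔
        Ideal.span (Set.range (X : σ → MvPowerSeries σ R)) := by
  apply le_antisymm
  · intro f hf
    obtain ⟨h, -, hfe⟩ := decomp (⊤ : Ideal R) 0 f (mem_W_top _ f)
    rw [hfe]
    refine Ideal.add_mem _ (Ideal.mem_sup_left ?_) (Ideal.mem_sup_right ?_)
    · exact Ideal.mem_map_of_mem _ ((mem_maximalIdeal_iff f).mp hf)
    · exact Ideal.sum_mem _ fun i _ => Ideal.mul_mem_right _ _ (Ideal.subset_span ⟨i, rfl⟩)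
  · refine sup_le map_C_le ?_
    rw [Ideal.span_le]
    rintro _ ⟨i, rfl⟩
    exact X_mem i

/-- `R[[X₁..Xₙ]]` is complete for its maximal ideal -/
theorem isAdicComplete [IsNoetherianRing R] [IsAdicComplete (IsLocalRing.maximalIdeal R) R] :
    IsAdicComplete (IsLocalRing.maximalIdeal (MvPowerSeries σ R)) (MvPowerSeries σ R) := by
  haveI : IsNoetherianRing (MvPowerSeries σ R) := inferInstance
  haveI : IsHausdorff (IsLocalRing.maximalIdeal (MvPowerSeries σ R)) (MvPowerSeries σ R) :=
    inferInstance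
  refine { toIsHausdorff := inferInstance, toIsPrecomplete := ⟨?_⟩ }
  intro f hf
  have hcoef : ∀ (e : σ →₀ ℕ) {a b : ℕ}, a ≤ b →
      coeff e (f a) - coeff e (f b) ∈ IsLocalRing.maximalIdeal R ^ (a - Finsupp.degree e) := by
    intro e a b hab
    have h1 : f a - f b ∈ IsLocalRing.maximalIdeal (MvPowerSeries σ R) ^ a := by
      have := hf hab
      rw [SModEq.sub_mem, Ideal.smul_eq_mul, Ideal.mul_top] at this
      exact this
    have h2 := (mem_W _).mp (maximalIdeal_pow_le_W a h1) e
    rwa [map_sub] at h2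
  have hL : ∀ e : σ →₀ ℕ, ∃ L : R, ∀ m,
      coeff e (f (m + Finsupp.degree e)) - L ∈ IsLocalRing.maximalIdeal R ^ m := by
    intro e
    obtain ⟨L, hL⟩ := IsPrecomplete.prec
      (inferInstance : IsPrecomplete (IsLocalRing.maximalIdeal R) R)
      (f := fun m => coeff e (f (m + Finsupp.degree e))) (by
        intro m n hmn
        rw [SModEq.sub_mem, Ideal.smul_eq_mul, Ideal.mul_top]
        have := hcoef e (Nat.add_le_add_right hmn (Finsupp.degree e))
        rwa [Nat.add_sub_cancel] at this)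
    refine ⟨L, fun m => ?_⟩
    have := hL m
    rwa [SModEq.sub_mem, Ideal.smul_eq_mul, Ideal.mul_top] at this
  choose L hL using hL
  refine ⟨(fun e => L e : MvPowerSeries σ R), fun n => ?_⟩
  rw [SModEq.sub_mem, Ideal.smul_eq_mul, Ideal.mul_top]
  apply W_le_maximalIdeal_pow n
  rw [mem_W]
  intro e
  rw [map_sub]
  by_cases hle : Finsupp.degree e ≤ n
  · have := hL e (n - Finsupp.degree e)
    rw [Nat.sub_add_cancel hle] at this
    exact this
  · have : n - Finsupp.degree e = 0 := by omega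
    rw [this, pow_zero, Ideal.one_eq_top]; trivial

end Local

section CRing

open ArtFun ArtFun.Art
open Groth.Agent.Lib.Helper19.ArtFunBasic Groth.Agent.Lib.Helper19.ArtFunCRing

variable {Λ : Type u} {k : Type u} [CommRing Λ] [Field k] [Algebra Λ k]

/-- the augmentation of `R[[X]]` -/
noncomputable def powRes (R : CRing Λ k) (n : ℕ) : MvPowerSeries (Fin n) R.carrier →ₐ[Λ] k :=
  { (R.res : R.carrier →+* k).comp (constantCoeff (σ := Fin n) (R := R.carrier)) with
    commutes' := fun l => by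
      show R.res (constantCoeff (algebraMap Λ (MvPowerSeries (Fin n) R.carrier) l)) = _
      rw [MvPowerSeries.algebraMap_apply, constantCoeff_C, AlgHom.commutes] }

theorem powRes_apply (R : CRing Λ k) (n : ℕ) (f : MvPowerSeries (Fin n) R.carrier) :
    powRes R n f = R.res (constantCoeff f) := rfl

/-- `R[[X₁..Xₙ]]` as a coefficient ring -/
noncomputable abbrev pow (R : CRing Λ k) (n : ℕ) : CRing Λ k :=
  { carrier := MvPowerSeries (Fin n) R.carrier
    res := powRes R n
    res_surjective := fun c => by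
      obtain ⟨r, hr⟩ := R.res_surjective c
      exact ⟨C r, by rw [powRes_apply, constantCoeff_C, hr]⟩
    isAdicComplete := by
      haveI := R.isAdicComplete
      exact isAdicComplete }

theorem isNilpotent_of_mem (B : Art Λ k) {b : B} (hb : b ∈ IsLocalRing.maximalIdeal B) :
    IsNilpotent b := by
  obtain ⟨N, hN⟩ := exists_maximalIdeal_pow_eq_bot B
  refine ⟨N, ?_⟩
  have := Ideal.pow_mem_pow hb N
  rwa [hN, Ideal.mem_bot] at this

/-- homs out of `R[[X]]` into Artinian objects: existence -/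
theorem exists_hom_art (R : CRing Λ k) (n : ℕ) (B : Art Λ k) (y : HomSet R.carrier R.res B)
    (b : Fin n → B) (hb : ∀ i, b i ∈ IsLocalRing.maximalIdeal B) :
    ∃ ψ : HomSet (MvPowerSeries (Fin n) R.carrier) (powRes R n) B,
      (∀ r, ψ.1 (C r) = y.1 r) ∧ ∀ i, ψ.1 (X i) = b i := by
  obtain ⟨ψ₀, hC, hX⟩ := exists_evNil (y.1 : R.carrier →+* B) b
    (fun i => isNilpotent_of_mem B (hb i))
  let ψ : MvPowerSeries (Fin n) R.carrier →ₐ[Λ] B :=
    { ψ₀ with
      commutes' := fun l => by
        show ψ₀ (algebraMap Λ (MvPowerSeries (Fin n) R.carrier) l) = _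
        rw [MvPowerSeries.algebraMap_apply, hC]
        exact y.1.commutes l }
  refine ⟨⟨ψ, ?_⟩, hC, hX⟩
  apply AlgHom.ext
  intro f
  have h := evNil_unique ((B.res : B →+* k).comp ψ₀)
    ((R.res : R.carrier →+* k).comp (constantCoeff (σ := Fin n) (R := R.carrier)))
    (fun r => by
      show B.res (ψ₀ (C r)) = R.res (constantCoeff (C r))
      rw [hC, constantCoeff_C]
      exact AlgHom.congr_fun y.2 r)
    (fun i => by
      show B.res (ψ₀ (X i)) = R.res (constantCoeff (X i))
      rw [hX, constantCoeff_X, map_zero]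
      exact (Art.mem_maximalIdeal_iff B _).mp (hb i))
    (fun i => by
      show IsNilpotent (B.res (ψ₀ (X i)))
      rw [hX, (Art.mem_maximalIdeal_iff B _).mp (hb i)]
      exact IsNilpotent.zero)
  exact RingHom.congr_fun h f

/-- homs out of `R[[X]]` into Artinian objects: uniqueness -/
theorem hom_art_unique (R : CRing Λ k) (n : ℕ) (B : Art Λ k)
    (ψ₁ ψ₂ : HomSet (MvPowerSeries (Fin n) R.carrier) (powRes R n) B)
    (hC : ∀ r, ψ₁.1 (C r) = ψ₂.1 (C r)) (hX : ∀ i, ψ₁.1 (X i) = ψ₂.1 (X i)) : ψ₁ = ψ₂ := by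
  apply Subtype.ext
  apply AlgHom.ext
  intro f
  have h := evNil_unique (ψ₁.1 : MvPowerSeries (Fin n) R.carrier →+* B)
    (ψ₂.1 : MvPowerSeries (Fin n) R.carrier →+* B) hC hX (fun i => by
      apply isNilpotent_of_mem
      rw [Art.mem_maximalIdeal_iff]
      have := AlgHom.congr_fun ψ₁.2 (X i)
      show B.res (ψ₁.1 (X i)) = 0
      rw [show B.res (ψ₁.1 (X i)) = powRes R n (X i) from this, powRes_apply, constantCoeff_X,
        map_zero])
  exact RingHom.congr_fun h f

/-- homs out of `R[[X]]` into coefficient rings: existence -/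
theorem exists_hom_cring (R : CRing Λ k) (n : ℕ) (S : CRing Λ k) (y : R.carrier →ₐ[Λ] S.carrier)
    (hy : S.res.comp y = R.res) (s : Fin n → S.carrier)
    (hs : ∀ i, s i ∈ IsLocalRing.maximalIdeal S.carrier) :
    ∃ ψ : MvPowerSeries (Fin n) R.carrier →ₐ[Λ] S.carrier, S.res.comp ψ = powRes R n ∧
      (∀ r, ψ (C r) = y r) ∧ ∀ i, ψ (X i) = s i := by
  classical
  have hyj : ∀ j, (S.trunc j).res.comp ((S.truncHom j).1.comp y) = R.res := fun j => by
    rw [← AlgHom.comp_assoc, (S.truncHom j).2, hy]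
  have hsj : ∀ j i, (S.truncHom j).1 (s i) ∈ IsLocalRing.maximalIdeal (S.trunc j) := by
    intro j i
    rw [Art.mem_maximalIdeal_iff]
    have := AlgHom.congr_fun (S.truncHom j).2 (s i)
    show (S.trunc j).res ((S.truncHom j).1 (s i)) = 0
    rw [show (S.trunc j).res ((S.truncHom j).1 (s i)) = S.res (s i) from this]
    exact (CRing.mem_maximalIdeal_iff S _).mp (hs i)
  choose γ hγC hγX using fun j => exists_hom_art R n (S.trunc j)
    ⟨(S.truncHom j).1.comp y, hyj j⟩ (fun i => (S.truncHom j).1 (s i)) (hsj j)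
  have hcompat : ∀ j, (S.truncMap j).toAlgHom.comp (γ (j + 1)).1 = (γ j).1 := by
    intro j
    have := hom_art_unique R n (S.trunc j) (HomSet.map (S.truncMap j) (γ (j + 1))) (γ j)
      (fun r => by
        show (S.truncMap j) ((γ (j + 1)).1 (C r)) = (γ j).1 (C r)
        rw [hγC, hγC]; rfl)
      (fun i => by
        show (S.truncMap j) ((γ (j + 1)).1 (X i)) = (γ j).1 (X i)
        rw [hγX, hγX]; rfl)
    exact congrArg Subtype.val this
  let g := Groth.Agent.S12720.limMap S (fun j => (γ j).1) hcompat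
  have hg : ∀ j f, (S.truncHom j).1 (g f) = (γ j).1 f := fun j f =>
    Groth.Agent.S12720.limMap_spec S (fun j => (γ j).1) hcompat j f
  refine ⟨g, ?_, fun r => ?_, fun i => ?_⟩
  · apply AlgHom.ext
    intro f
    have e0 : S.res (g f) = (S.trunc 0).res ((S.truncHom 0).1 (g f)) :=
      (AlgHom.congr_fun (S.truncHom 0).2 (g f)).symm
    show S.res (g f) = powRes R n f
    rw [e0, hg 0 f]
    exact AlgHom.congr_fun (γ 0).2 f
  · apply eq_of_forall_mk_eq S
    intro j
    have := hg j (C r)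
    rw [hγC] at this
    exact this
  · apply eq_of_forall_mk_eq S
    intro j
    have := hg j (X i)
    rw [hγX] at this
    exact this

/-- homs out of `R[[X]]` into coefficient rings: uniqueness -/
theorem hom_cring_unique (R : CRing Λ k) (n : ℕ) (S : CRing Λ k)
    (ψ₁ ψ₂ : MvPowerSeries (Fin n) R.carrier →ₐ[Λ] S.carrier)
    (h₁ : S.res.comp ψ₁ = powRes R n) (h₂ : S.res.comp ψ₂ = powRes R n)
    (hC : ∀ r, ψ₁ (C r) = ψ₂ (C r)) (hX : ∀ i, ψ₁ (X i) = ψ₂ (X i)) : ψ₁ = ψ₂ := by
  apply AlgHom.ext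
  intro f
  apply eq_of_forall_mk_eq S
  intro j
  have hres : ∀ (ψ : MvPowerSeries (Fin n) R.carrier →ₐ[Λ] S.carrier),
      S.res.comp ψ = powRes R n →
      (S.trunc j).res.comp ((S.truncHom j).1.comp ψ) = powRes R n := by
    intro ψ hψ
    rw [← AlgHom.comp_assoc, (S.truncHom j).2, hψ]
  have := hom_art_unique R n (S.trunc j) ⟨(S.truncHom j).1.comp ψ₁, hres ψ₁ h₁⟩
    ⟨(S.truncHom j).1.comp ψ₂, hres ψ₂ h₂⟩
    (fun r => by show (S.truncHom j).1 (ψ₁ (C r)) = (S.truncHom j).1 (ψ₂ (C r)); rw [hC])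
    (fun i => by show (S.truncHom j).1 (ψ₁ (X i)) = (S.truncHom j).1 (ψ₂ (X i)); rw [hX])
  exact AlgHom.congr_fun (congrArg Subtype.val this) f

/-- formal lifting for a versal family with prescribed first-order part -/
theorem exists_hom_of_isVersal_from_one {F : Art Λ k ⥤ Type v} (R : CRing Λ k)
    (ξ : Family R.carrier R.res F) (hξ : IsVersal ξ) (S : CRing Λ k) (η : FormalElt F S)
    (γ₁ : HomSet R.carrier R.res (S.trunc 1)) (hγ₁ : ξ.app _ γ₁ = η.elt 1) :
    ∃ (g : R.carrier →ₐ[Λ] S.carrier) (hg : S.res.comp g = R.res),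
      (ξ.along g hg).toFormalElt = η ∧ (S.truncHom 1).1.comp g = γ₁.1 := by
  classical
  have hstep : ∀ (n : ℕ) (γ : HomSet R.carrier R.res (S.trunc n)), ξ.app _ γ = η.elt n →
      ∃ ψ : HomSet R.carrier R.res (S.trunc (n + 1)),
        HomSet.map (S.truncMap n) ψ = γ ∧ ξ.app _ ψ = η.elt (n + 1) := by
    intro n γ hγ
    exact hξ (S.truncMap n) (Groth.Agent.S12720.truncMap_surjective S n) γ (η.elt (n + 1))
      (by rw [η.compat n, hγ])
  let seq : ∀ n : ℕ,
      {γ : HomSet R.carrier R.res (S.trunc (n + 1)) // ξ.app _ γ = η.elt (n + 1)} :=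
    fun n => Nat.rec ⟨γ₁, hγ₁⟩
      (fun n γ => ⟨(hstep (n + 1) γ.1 γ.2).choose, (hstep (n + 1) γ.1 γ.2).choose_spec.2⟩) n
  have hseq : ∀ n, HomSet.map (S.truncMap (n + 1)) (seq (n + 1)).1 = (seq n).1 := by
    intro n
    exact (hstep (n + 1) (seq n).1 (seq n).2).choose_spec.1
  let γ : ∀ n : ℕ, R.carrier →ₐ[Λ] (S.trunc n) := fun n =>
    match n with
    | 0 => (HomSet.map (S.truncMap 0) γ₁).1
    | n + 1 => (seq n).1.1
  have hγ : ∀ n, (S.truncMap n).toAlgHom.comp (γ (n + 1)) = γ n := by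
    intro n
    cases n with
    | zero => rfl
    | succ n => exact congrArg Subtype.val (hseq n)
  let g := Groth.Agent.S12720.limMap S γ hγ
  have hgn : ∀ n, (S.truncHom n).1.comp g = γ n := by
    intro n
    exact AlgHom.ext (Groth.Agent.S12720.limMap_spec S γ hγ n)
  have hg : S.res.comp g = R.res := by
    have h1 : S.res = (S.trunc 0).res.comp (S.truncHom 0).1 := (S.truncHom 0).2.symm
    rw [h1, AlgHom.comp_assoc, hgn 0]
    exact (HomSet.map (S.truncMap 0) γ₁).2
  refine ⟨g, hg, ?_, hgn 1⟩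
  apply FormalElt.ext'
  intro n
  show ξ.app _ ⟨(S.truncHom n).1.comp g, _⟩ = η.elt n
  cases n with
  | zero =>
    have : (⟨(S.truncHom 0).1.comp g, by rw [← AlgHom.comp_assoc, (S.truncHom 0).2, hg]⟩ :
        HomSet R.carrier R.res (S.trunc 0)) = HomSet.map (S.truncMap 0) γ₁ := Subtype.ext (hgn 0)
    rw [this, ξ.natural, hγ₁, η.compat]
  | succ n =>
    have : (⟨(S.truncHom (n + 1)).1.comp g,
        by rw [← AlgHom.comp_assoc, (S.truncHom (n + 1)).2, hg]⟩ :
        HomSet R.carrier R.res (S.trunc (n + 1))) = (seq n).1 := Subtype.ext (hgn (n + 1))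
    rw [this]
    exact (seq n).2

end CRing

end Groth.Agent.Lib.Helper7.PowSerCRing
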