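import Mathlib

/-!
# One step of EGA 0_III 10.3.1: adjoining one element to the residue field

Given a local ring `B` with a local homomorphism `φ : B →+* K` to a field and `a : K`,
we build a flat local `B`-algebra `B'` with `𝔪_B B' = 𝔪_{B'}` and a local hom `φ' : B' →+* K`
extending `φ` whose range contains `a`.
-/

set_option autoImplicit false
universe u
open IsLocalRing Polynomial

namespace Groth.Agent.Lib.Helper7.ResExt

noncomputable section

variable {B : Type u} [CommRing B] [IsLocalRing B] {K : Type u} [Field K]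

theorem map_eq_zero_of_mem (φ : B →+* K) [IsLocalHom φ] {b : B} (hb : b ∈ maximalIdeal B) :
    φ b = 0 := by
  by_contra h0
  exact (mem_maximalIdeal b).mp hb (isUnit_of_map_unit φ b (isUnit_iff_ne_zero.mpr h0))

theorem step_transc (φ : B →+* K) [IsLocalHom φ] (a : K)
    (htr : ∀ p : B[X], p.eval₂ φ a = 0 → p ∈ Ideal.map (C : B →+* B[X]) (maximalIdeal B)) :
    ∃ (B' : Type u) (_ : CommRing B') (_ : IsLocalRing B') (ψ : B →+* B') (φ' : B' →+* K),
      IsLocalHom φ' ∧ φ'.comp ψ = φ ∧ ψ.Flat ∧
      (maximalIdeal B).map ψ = maximalIdeal B' ∧ a ∈ Set.range φ' ∧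
      (IsNoetherianRing B → IsNoetherianRing B') := by
  obtain ⟨P, hP⟩ : ∃ P : Ideal B[X], P = Ideal.map (C : B →+* B[X]) (maximalIdeal B) := ⟨_, rfl⟩
  haveI hPprime : P.IsPrime := by
    rw [hP]; exact (Ideal.isPrime_map_C_iff_isPrime _).mpr inferInstance
  let ev : B[X] →+* K := eval₂RingHom φ a
  have hevP : ∀ p ∈ P, ev p = 0 := by
    intro p hp
    have hle : P ≤ RingHom.ker ev := by
      rw [hP, Ideal.map_le_iff_le_comap]
      intro b hb
      rw [Ideal.mem_comap, RingHom.mem_ker]
      show eval₂ φ a (C b) = 0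
      rw [eval₂_C]; exact map_eq_zero_of_mem φ hb
    exact hle hp
  have hunit : ∀ s : P.primeCompl, IsUnit (ev s) := by
    intro s
    rw [isUnit_iff_ne_zero]
    intro h0
    exact s.2 (hP ▸ htr s.1 h0)
  let φ' : Localization.AtPrime P →+* K := IsLocalization.lift (M := P.primeCompl) (g := ev) hunit
  let ψ : B →+* Localization.AtPrime P :=
    (algebraMap B[X] (Localization.AtPrime P)).comp (C : B →+* B[X])
  have hφ'alg : ∀ p : B[X], φ' (algebraMap B[X] (Localization.AtPrime P) p) = ev p :=
    fun p => IsLocalization.lift_eq hunit p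
  refine ⟨Localization.AtPrime P, inferInstance, inferInstance, ψ, φ', ?_, ?_, ?_, ?_, ?_, ?_⟩
  · refine ⟨fun y hy => ?_⟩
    obtain ⟨p, s, rfl⟩ := IsLocalization.exists_mk'_eq P.primeCompl y
    have hspec : IsLocalization.mk' (Localization.AtPrime P) p s *
        algebraMap B[X] (Localization.AtPrime P) s = algebraMap B[X] (Localization.AtPrime P) p :=
      IsLocalization.mk'_spec _ p s
    have hne : ev p ≠ 0 := by
      have h1 := congrArg φ' hspec
      rw [map_mul, hφ'alg, hφ'alg] at h1
      rw [← h1]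
      exact mul_ne_zero hy.ne_zero (hunit s).ne_zero
    have hp : p ∈ P.primeCompl := fun hpP => hne (hevP p hpP)
    have hup : IsUnit (algebraMap B[X] (Localization.AtPrime P) p) :=
      IsLocalization.map_units (Localization.AtPrime P) (⟨p, hp⟩ : P.primeCompl)
    rw [← hspec] at hup
    exact isUnit_of_mul_isUnit_left hup
  · ext b
    show φ' (algebraMap B[X] (Localization.AtPrime P) (C b)) = φ b
    rw [hφ'alg]
    show eval₂ φ a (C b) = φ b
    rw [eval₂_C]
  · have h1 : (C : B →+* B[X]).Flat := by
      rw [← Polynomial.algebraMap_eq]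
      exact RingHom.flat_algebraMap_iff.mpr inferInstance
    have h2 : (algebraMap B[X] (Localization.AtPrime P)).Flat :=
      RingHom.flat_algebraMap_iff.mpr (IsLocalization.flat (Localization.AtPrime P) P.primeCompl)
    exact h1.comp h2
  · rw [← Ideal.map_map, ← hP]
    exact IsLocalization.AtPrime.map_eq_maximalIdeal P (Localization.AtPrime P)
  · refine ⟨algebraMap B[X] (Localization.AtPrime P) X, ?_⟩
    rw [hφ'alg]
    show eval₂ φ a X = a
    rw [eval₂_X]
  · intro hN
    exact IsLocalization.isNoetherianRing P.primeCompl (Localization.AtPrime P) inferInstance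

theorem step_alg (φ : B →+* K) [IsLocalHom φ] (a : K)
    (f : B[X]) (hfmonic : f.Monic)
    (hirr : Irreducible (f.map (Ideal.Quotient.mk (maximalIdeal B))))
    (hev : f.eval₂ φ a = 0) :
    ∃ (B' : Type u) (_ : CommRing B') (_ : IsLocalRing B') (ψ : B →+* B') (φ' : B' →+* K),
      IsLocalHom φ' ∧ φ'.comp ψ = φ ∧ ψ.Flat ∧
      (maximalIdeal B).map ψ = maximalIdeal B' ∧ a ∈ Set.range φ' ∧
      (IsNoetherianRing B → IsNoetherianRing B') := by
  haveI : Module.Finite B (AdjoinRoot f) := hfmonic.finite_adjoinRoot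
  haveI : Module.Free B (AdjoinRoot f) := hfmonic.free_adjoinRoot
  have hmax : ((maximalIdeal B).map (algebraMap B (AdjoinRoot f))).IsMaximal := by
    letI : Field (B ⧸ maximalIdeal B) := inferInstanceAs (Field (ResidueField B))
    have e := AdjoinRoot.quotEquivQuotMap f (maximalIdeal B)
    haveI : (Ideal.span {f.map (Ideal.Quotient.mk (maximalIdeal B))}).IsMaximal :=
      PrincipalIdealRing.isMaximal_of_irreducible hirr
    have hfield : IsField ((B ⧸ maximalIdeal B)[X] ⧸
        Ideal.span {f.map (Ideal.Quotient.mk (maximalIdeal B))}) :=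
      (Ideal.Quotient.maximal_ideal_iff_isField_quotient _).mp inferInstance
    exact Ideal.Quotient.maximal_of_isField _ (MulEquiv.isField hfield e.toMulEquiv)
  haveI : IsLocalRing (AdjoinRoot f) := by
    apply IsLocalRing.of_unique_max_ideal
    refine ⟨_, hmax, fun M hM => ?_⟩
    have hc : (M.comap (algebraMap B (AdjoinRoot f))).IsMaximal :=
      Ideal.isMaximal_comap_of_isIntegral_of_isMaximal M
    have hceq : M.comap (algebraMap B (AdjoinRoot f)) = maximalIdeal B :=
      IsLocalRing.eq_maximalIdeal hc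
    have hle : (maximalIdeal B).map (algebraMap B (AdjoinRoot f)) ≤ M := by
      rw [Ideal.map_le_iff_le_comap, hceq]
    exact (hmax.eq_of_le hM.ne_top hle).symm
  have hm₁ : maximalIdeal (AdjoinRoot f) =
      (maximalIdeal B).map (algebraMap B (AdjoinRoot f)) :=
    (IsLocalRing.eq_maximalIdeal hmax).symm
  let φ' : AdjoinRoot f →+* K := AdjoinRoot.lift φ a hev
  have hφof : ∀ x : B, φ' (algebraMap B (AdjoinRoot f) x) = φ x := fun x => AdjoinRoot.lift_of hev
  have hφroot : φ' (AdjoinRoot.root f) = a := AdjoinRoot.lift_root hev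
  have hφm : ∀ b ∈ maximalIdeal (AdjoinRoot f), φ' b = 0 := by
    intro b hb
    rw [hm₁] at hb
    have hle : (maximalIdeal B).map (algebraMap B (AdjoinRoot f)) ≤ RingHom.ker φ' := by
      rw [Ideal.map_le_iff_le_comap]
      intro x hx
      rw [Ideal.mem_comap, RingHom.mem_ker, hφof]
      exact map_eq_zero_of_mem φ hx
    exact hle hb
  refine ⟨AdjoinRoot f, inferInstance, inferInstance, algebraMap B (AdjoinRoot f), φ',
    ?_, ?_, ?_, hm₁.symm, ⟨AdjoinRoot.root f, hφroot⟩, ?_⟩
  · refine ⟨fun b hb => ?_⟩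
    by_contra hnu
    have := hφm b ((IsLocalRing.mem_maximalIdeal b).mpr hnu)
    rw [this] at hb
    exact not_isUnit_zero hb
  · exact RingHom.ext hφof
  · exact RingHom.flat_algebraMap_iff.mpr inferInstance
  · intro hN
    exact IsNoetherianRing.of_finite B (AdjoinRoot f)

theorem step (φ : B →+* K) [IsLocalHom φ] (a : K) :
    ∃ (B' : Type u) (_ : CommRing B') (_ : IsLocalRing B') (ψ : B →+* B') (φ' : B' →+* K),
      IsLocalHom φ' ∧ φ'.comp ψ = φ ∧ ψ.Flat ∧
      (maximalIdeal B).map ψ = maximalIdeal B' ∧ a ∈ Set.range φ' ∧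
      (IsNoetherianRing B → IsNoetherianRing B') := by
  letI : Algebra (ResidueField B) K := (ResidueField.lift φ).toAlgebra
  have hφ : (algebraMap (ResidueField B) K).comp (residue B) = φ :=
    RingHom.ext fun b => ResidueField.lift_residue_apply φ b
  by_cases hint : IsIntegral (ResidueField B) a
  · obtain ⟨f, hfmap, -, hfmonic⟩ := Polynomial.lifts_and_natDegree_eq_and_monic
      (f := residue B) (p := minpoly (ResidueField B) a)
      (Polynomial.mem_lifts_of_surjective residue_surjective _) (minpoly.monic hint)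
    refine step_alg φ a f hfmonic ?_ ?_
    · have : f.map (Ideal.Quotient.mk (maximalIdeal B)) = minpoly (ResidueField B) a := hfmap
      rw [this]; exact minpoly.irreducible hint
    · rw [← hφ, ← Polynomial.eval₂_map, hfmap]
      exact minpoly.aeval (ResidueField B) a
  · refine step_transc φ a fun p hp => ?_
    have h0 : p.map (residue B) = 0 := by
      by_contra hne
      apply hint
      refine (isAlgebraic_iff_isIntegral).mp ⟨p.map (residue B), hne, ?_⟩
      rw [Polynomial.aeval_def, Polynomial.eval₂_map, hφ]; exact hp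
    have hker : p ∈ RingHom.ker (Polynomial.mapRingHom (residue B)) := by
      rw [RingHom.mem_ker]; exact h0
    rw [Polynomial.ker_mapRingHom, IsLocalRing.ker_residue] at hker
    exact hker

end

end Groth.Agent.Lib.Helper7.ResExt
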