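import Mathlib
import Groth.Agent.Lib.Helper7.ResExtStep
import Groth.Agent.Lib.Helper26.DirLimNoeth

/-!
# EGA 0_III 10.3.1: flat local extensions with prescribed residue field

Transfinite tower built with Mathlib's `SmallObject.SuccStruct` iteration in the category
`Over (CommRingCat.of K)`.
-/

set_option autoImplicit false
universe u
open CategoryTheory Limits IsLocalRing

namespace Groth.Agent.Lib.Helper7.ResExt

noncomputable section

variable {K : Type u} [Field K]

/-- The ambient category: commutative rings over `K`. -/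
abbrev Cat (K : Type u) [Field K] := Over (CommRingCat.of K)

/-- A good object: a local ring with a local homomorphism to `K`. -/
def Good (X : Cat K) : Prop :=
  IsLocalRing X.left ∧ ∀ x : X.left, X.hom.hom x ≠ 0 → IsUnit x

/-- A good transition map: flat and the maximal ideal of the source generates that of the target. -/
def Trans {X Y : Cat K} (f : X ⟶ Y) : Prop :=
  f.left.hom.Flat ∧ ∃ (_ : IsLocalRing X.left) (_ : IsLocalRing Y.left),
    (maximalIdeal X.left).map f.left.hom = maximalIdeal Y.left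

/-- The image in `K`. -/
def rng (X : Cat K) : Set K := Set.range X.hom.hom

theorem w_apply {X Y : Cat K} (f : X ⟶ Y) (x : X.left) :
    Y.hom.hom (f.left.hom x) = X.hom.hom x := by
  have h := Over.w f
  have h2 := congrArg (fun g => g.hom x) h
  exact h2

theorem rng_mono {X Y : Cat K} (f : X ⟶ Y) : rng X ⊆ rng Y := by
  rintro _ ⟨x, rfl⟩
  exact ⟨f.left.hom x, w_apply f x⟩

theorem isLocalHom_left {X Y : Cat K} (f : X ⟶ Y) (hX : Good X) : IsLocalHom f.left.hom := by
  refine ⟨fun x hx => hX.2 x ?_⟩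
  rw [← w_apply f x]
  exact (hx.map Y.hom.hom).ne_zero

theorem isLocalHom_hom {X : Cat K} (hX : Good X) : IsLocalHom X.hom.hom :=
  ⟨fun x hx => hX.2 x hx.ne_zero⟩

theorem trans_id {X : Cat K} (hX : Good X) : Trans (𝟙 X) := by
  refine ⟨?_, hX.1, hX.1, ?_⟩
  · show (RingHom.id X.left).Flat
    exact RingHom.Flat.id _
  · show Ideal.map (RingHom.id X.left) _ = _
    exact Ideal.map_id _

theorem trans_comp {X Y Z : Cat K} (f : X ⟶ Y) (g : Y ⟶ Z) (hf : Trans f) (hg : Trans g) :
    Trans (f ≫ g) := by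
  obtain ⟨hf1, hX, hY, hf2⟩ := hf
  obtain ⟨hg1, hY', hZ, hg2⟩ := hg
  refine ⟨?_, hX, hZ, ?_⟩
  · show (g.left.hom.comp f.left.hom).Flat
    exact hf1.comp hg1
  · show Ideal.map (g.left.hom.comp f.left.hom) _ = _
    rw [← Ideal.map_map, hf2, hg2]

theorem trans_eqToHom {X Y : Cat K} (h : X = Y) (hX : Good X) : Trans (eqToHom h) := by
  subst h; exact trans_id hX

theorem good_of_eq {X Y : Cat K} (h : X = Y) (hX : Good X) : Good Y := h ▸ hX

theorem noeth_of_eq {X Y : Cat K} (h : X = Y) (hX : IsNoetherianRing X.left) :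
    IsNoetherianRing Y.left := h ▸ hX

open Classical in
/-- An element of `K` not yet in the image (if there is one). -/
def pick (X : Cat K) : K := if h : ∃ a, a ∉ rng X then h.choose else 0

theorem pick_not_mem {X : Cat K} (h : rng X ≠ Set.univ) : pick X ∉ rng X := by
  have h' : ∃ a, a ∉ rng X := by
    by_contra hne
    push_neg at hne
    exact h (Set.eq_univ_of_forall hne)
  unfold pick
  rw [dif_pos h']
  exact h'.choose_spec

/-- What one step of the tower achieves. -/
def StepProp (X Y : Cat K) (f : X ⟶ Y) : Prop :=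
  Good X → (Good Y ∧ Trans f ∧ (IsNoetherianRing X.left → IsNoetherianRing Y.left) ∧
    pick X ∈ rng Y)

theorem exists_step (X : Cat K) : ∃ (Y : Cat K) (f : X ⟶ Y), StepProp X Y f := by
  by_cases hX : Good X
  · haveI : IsLocalRing X.left := hX.1
    haveI : IsLocalHom (X.hom.hom : X.left →+* K) := isLocalHom_hom hX
    obtain ⟨B', hB'ring, hB'loc, ψ, φ', hφ', hcomp, hflat, hmax, ha, hN⟩ :=
      step (K := K) (X.hom.hom : X.left →+* K) (pick X)
    letI := hB'ring
    refine ⟨Over.mk (CommRingCat.ofHom φ'),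
      Over.homMk (CommRingCat.ofHom ψ : X.left ⟶ CommRingCat.of B') ?_,
      fun _ => ⟨⟨hB'loc, ?_⟩, ⟨hflat, hX.1, hB'loc, hmax⟩, hN, ha⟩⟩
    · exact CommRingCat.hom_ext hcomp
    · intro x hx
      exact isUnit_of_map_unit φ' x (isUnit_iff_ne_zero.mpr hx)
  · exact ⟨X, 𝟙 X, fun h => absurd h hX⟩

/-- The successor structure. -/
def Φ (X₀ : Cat K) : SmallObject.SuccStruct (Cat K) where
  X₀ := X₀
  succ X := (exists_step X).choose
  toSucc X := (exists_step X).choose_spec.choose

theorem stepProp_toSucc (X₀ X : Cat K) : StepProp X ((Φ X₀).succ X) ((Φ X₀).toSucc X) :=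
  (exists_step X).choose_spec.choose_spec

theorem stepProp_of_prop {X₀ X Y : Cat K} (f : X ⟶ Y) (hf : (Φ X₀).prop f) :
    StepProp X Y f := by
  cases hf
  exact stepProp_toSucc X₀ _

section Limit

variable {J : Type u} [LinearOrder J] [OrderBot J] [SuccOrder J] [WellFoundedLT J]

theorem limit_data (F : J ⥤ Cat K) [F.IsWellOrderContinuous] (m : J)
    (hm : Order.IsSuccLimit m) :
    (∀ s : (F.obj m).left, ∃ (i : J) (hi : i < m) (x : (F.obj i).left),
      (F.map (homOfLE hi.le)).left.hom x = s) ∧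
    (∀ (i : J) (hi : i < m) (x : (F.obj i).left), (F.map (homOfLE hi.le)).left.hom x = 0 →
      ∃ (j : J) (hij : i ≤ j) (_ : j < m), (F.map (homOfLE hij)).left.hom x = 0) := by
  have hc := F.isColimitOfIsWellOrderContinuous m hm
  have hc' := isColimitOfPreserves (Over.forget (CommRingCat.of K)) hc
  haveI : Nonempty (Set.Iio m) := hm.nonempty_Iio.to_subtype
  haveI : IsFiltered (Set.Iio m) := inferInstance
  constructor
  · intro s
    obtain ⟨⟨i, hi⟩, x, hx⟩ := Concrete.isColimit_exists_rep _ hc' s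
    exact ⟨i, hi, x, hx⟩
  · intro i hi x hx
    have h0 : ((Over.forget (CommRingCat.of K)).mapCocone
          ((Set.principalSegIio m).cocone F)).ι.app ⟨i, hi⟩ x =
        ((Over.forget (CommRingCat.of K)).mapCocone
          ((Set.principalSegIio m).cocone F)).ι.app ⟨i, hi⟩ 0 := by
      rw [map_zero]; exact hx
    obtain ⟨⟨k, hk⟩, f, g, hfg⟩ := Concrete.isColimit_exists_of_rep_eq _
      (i := ⟨i, hi⟩) (j := ⟨i, hi⟩) hc' x (0 : (F.obj i).left) h0
    exact ⟨k, leOfHom f, hk, hfg.trans (map_zero _)⟩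

theorem map_comp_apply (F : J ⥤ Cat K) {i j k : J} (hij : i ≤ j) (hjk : j ≤ k)
    (x : (F.obj i).left) :
    (F.map (homOfLE hjk)).left.hom ((F.map (homOfLE hij)).left.hom x) =
      (F.map (homOfLE (hij.trans hjk))).left.hom x := by
  have : F.map (homOfLE (hij.trans hjk)) = F.map (homOfLE hij) ≫ F.map (homOfLE hjk) := by
    rw [← F.map_comp]; rfl
  rw [this]; rfl

theorem limit_step (F : J ⥤ Cat K) [F.IsWellOrderContinuous] (a : J) (ha : Order.IsSuccLimit a)
    (hG : ∀ b < a, Good (F.obj b))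
    (hT : ∀ b < a, ∀ i (h : i ≤ b), Trans (F.map (homOfLE h))) :
    Good (F.obj a) ∧
      ((∀ b < a, IsNoetherianRing (F.obj b).left) → IsNoetherianRing (F.obj a).left) ∧
      ∀ i (h : i < a), Trans (F.map (homOfLE h.le)) := by
  obtain ⟨hsurj0, hzero0⟩ := limit_data F a ha
  haveI : Nonempty (Set.Iio a) := ha.nonempty_Iio.to_subtype
  haveI hloc : ∀ i : Set.Iio a, IsLocalRing ((F.obj i.1).left) := fun i => (hG i.1 i.2).1
  let f : ∀ i j : Set.Iio a, i ≤ j → ((F.obj i.1).left →+* (F.obj j.1).left) :=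
    fun i j h => (F.map (homOfLE (show i.1 ≤ j.1 from h))).left.hom
  let φ : ∀ i : Set.Iio a, (F.obj i.1).left →+* (F.obj a).left :=
    fun i => (F.map (homOfLE (le_of_lt i.2))).left.hom
  have hcomp : ∀ (i j k : Set.Iio a) (hij : i ≤ j) (hjk : j ≤ k) (x : (F.obj i.1).left),
      f j k hjk (f i j hij x) = f i k (hij.trans hjk) x :=
    fun i j k hij hjk x => map_comp_apply F _ _ x
  have hlocf : ∀ (i j : Set.Iio a) (h : i ≤ j), IsLocalHom (f i j h) :=
    fun i j h => isLocalHom_left _ (hG i.1 i.2)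
  have hφf : ∀ (i j : Set.Iio a) (h : i ≤ j) (x : (F.obj i.1).left),
      φ j (f i j h x) = φ i x := fun i j h x => map_comp_apply F _ _ x
  have hsurj : ∀ s : (F.obj a).left, ∃ (i : Set.Iio a) (x : (F.obj i.1).left), φ i x = s := by
    intro s
    obtain ⟨i, hi, x, hx⟩ := hsurj0 s
    exact ⟨⟨i, hi⟩, x, hx⟩
  have hzero : ∀ (i : Set.Iio a) (x : (F.obj i.1).left), φ i x = 0 →
      ∃ j, ∃ h : i ≤ j, f i j h x = 0 := by
    intro i x hx
    obtain ⟨j, hij, hj, h0⟩ := hzero0 i.1 i.2 x hx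
    exact ⟨⟨j, hj⟩, hij, h0⟩
  have hmax : ∀ (i j : Set.Iio a) (h : i ≤ j),
      (maximalIdeal ((F.obj i.1).left)).map (f i j h) = maximalIdeal ((F.obj j.1).left) := by
    intro i j h
    obtain ⟨_, _, _, hm⟩ := hT j.1 j.2 i.1 h
    exact hm
  have hflat : ∀ (i j : Set.Iio a) (h : i ≤ j), (f i j h).Flat :=
    fun i j h => (hT j.1 j.2 i.1 h).1
  haveI hSloc : IsLocalRing (F.obj a).left :=
    Groth.Agent.Lib.Helper26.DirLimNoeth.isLocalRing
      (G := fun i : Set.Iio a => ((F.obj i.1).left : Type u)) f hcomp hlocf φ hφf hsurj hzero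
  have hmS := Groth.Agent.Lib.Helper26.DirLimNoeth.map_maximalIdeal
      (G := fun i : Set.Iio a => ((F.obj i.1).left : Type u)) f hcomp hlocf φ hφf hsurj hzero hmax
  have hfl := Groth.Agent.Lib.Helper26.DirLimNoeth.flat_of
      (G := fun i : Set.Iio a => ((F.obj i.1).left : Type u)) f hcomp φ hφf hsurj hzero hflat
  refine ⟨⟨hSloc, ?_⟩, ?_, ?_⟩
  · intro s hs
    obtain ⟨i, x, rfl⟩ := hsurj s
    have hx : (F.obj i.1).hom.hom x ≠ 0 := by
      rw [← w_apply (F.map (homOfLE (le_of_lt i.2))) x]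
      exact hs
    exact ((hG i.1 i.2).2 x hx).map (φ i)
  · intro hN
    haveI : ∀ i : Set.Iio a, IsNoetherianRing ((F.obj i.1).left) := fun i => hN i.1 i.2
    exact Groth.Agent.Lib.Helper26.DirLimNoeth.isNoetherianRing_of_directed
      (G := fun i : Set.Iio a => ((F.obj i.1).left : Type u)) f hcomp hlocf φ hφf hsurj hzero
      hmax hflat
  · intro i hi
    exact ⟨hfl ⟨i, hi⟩, (hG i hi).1, hSloc, hmS ⟨i, hi⟩⟩

theorem main_ind (X₀ : Cat K) (h₀ : Good X₀) (j : J) :
    Good (((Φ X₀).iterationFunctor J).obj j) ∧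
    (IsNoetherianRing X₀.left →
      IsNoetherianRing (((Φ X₀).iterationFunctor J).obj j).left) ∧
      ∀ (i : J) (h : i ≤ j), Trans (((Φ X₀).iterationFunctor J).map (homOfLE h)) := by
  induction j using SuccOrder.limitRecOn with
  | isMin j hj =>
    obtain rfl := hj.eq_bot
    have hb : ((Φ X₀).iterationFunctor J).obj ⊥ = X₀ := ((Φ X₀).iter ⊥).obj_bot
    have hg : Good (((Φ X₀).iterationFunctor J).obj ⊥) := good_of_eq hb.symm h₀
    refine ⟨hg, fun hN => noeth_of_eq hb.symm hN, fun i h => ?_⟩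
    obtain rfl : i = ⊥ := le_bot_iff.mp h
    have : homOfLE h = 𝟙 _ := Subsingleton.elim _ _
    rw [this, CategoryTheory.Functor.map_id]
    exact trans_id hg
  | succ j hj ih =>
    obtain ⟨ihG, ihN, ihT⟩ := ih
    have W := stepProp_of_prop _ ((Φ X₀).prop_iterationFunctor_map_succ j hj) ihG
    obtain ⟨WG, WT, WN, -⟩ := W
    refine ⟨WG, fun hN => WN (ihN hN), fun i h => ?_⟩
    rcases Order.le_succ_iff_eq_or_le.mp h with rfl | hij
    · have : homOfLE h = 𝟙 _ := Subsingleton.elim _ _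
      rw [this, CategoryTheory.Functor.map_id]
      exact trans_id WG
    · have : homOfLE h = homOfLE hij ≫ homOfLE (Order.le_succ j) := Subsingleton.elim _ _
      rw [this, CategoryTheory.Functor.map_comp]
      exact trans_comp _ _ (ihT i hij) WT
  | isSuccLimit j hj ih =>
    obtain ⟨hG, hN, hT⟩ := limit_step ((Φ X₀).iterationFunctor J) j hj
      (fun b hb => (ih b hb).1) (fun b hb => (ih b hb).2.2)
    refine ⟨hG, fun h0 => hN fun b hb => (ih b hb).2.1 h0, fun i h => ?_⟩
    rcases h.eq_or_lt with rfl | hlt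
    · have : homOfLE h = 𝟙 _ := Subsingleton.elim _ _
      rw [this, CategoryTheory.Functor.map_id]
      exact trans_id hG
    · exact hT i hlt

end Limit

/-- Index type for the tower (a copy of `Set K`, free of order instances). -/
structure Idx (K : Type u) : Type u where
  /-- underlying set -/
  s : Set K

theorem exists_tower (X₀ : Cat K) (h₀ : Good X₀) :
    ∃ (Y : Cat K) (f : X₀ ⟶ Y), Good Y ∧ Trans f ∧
      (IsNoetherianRing X₀.left → IsNoetherianRing Y.left) ∧ rng Y = Set.univ := by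
  obtain ⟨hlin, hwf⟩ := exists_wellFoundedLT (Idx K)
  letI := hlin
  haveI := hwf
  haveI : Nonempty (Idx K) := ⟨⟨∅⟩⟩
  letI : OrderBot (Idx K) := WellFoundedLT.toOrderBot (Idx K)
  letI : SuccOrder (WithTop (Idx K)) := SuccOrder.ofLinearWellFoundedLT _
  have hb : ((Φ X₀).iterationFunctor (WithTop (Idx K))).obj ⊥ = X₀ := ((Φ X₀).iter ⊥).obj_bot
  have hall := fun j => main_ind (J := WithTop (Idx K)) X₀ h₀ j
  refine ⟨((Φ X₀).iterationFunctor (WithTop (Idx K))).obj ⊤,
    eqToHom hb.symm ≫ ((Φ X₀).iterationFunctor (WithTop (Idx K))).map (homOfLE bot_le),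
    (hall ⊤).1, ?_, (hall ⊤).2.1, ?_⟩
  · exact trans_comp _ _ (trans_eqToHom hb.symm h₀) ((hall ⊤).2.2 ⊥ bot_le)
  · by_contra hne
    have hne' : ∀ j, rng (((Φ X₀).iterationFunctor (WithTop (Idx K))).obj j) ≠ Set.univ := by
      intro j h
      have h1 := rng_mono (((Φ X₀).iterationFunctor (WithTop (Idx K))).map
        (homOfLE (le_top : j ≤ ⊤)))
      rw [h] at h1
      exact hne (Set.eq_univ_of_univ_subset h1)
    have key : ∀ i i' : Idx K, i < i' →
        pick (((Φ X₀).iterationFunctor (WithTop (Idx K))).obj (i : WithTop (Idx K))) ≠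
        pick (((Φ X₀).iterationFunctor (WithTop (Idx K))).obj (i' : WithTop (Idx K))) := by
      intro i i' hlt heq
      have hlt' : (i : WithTop (Idx K)) < i' := WithTop.coe_lt_coe.mpr hlt
      have hnm : ¬ IsMax (i : WithTop (Idx K)) := not_isMax_of_lt hlt'
      have W := stepProp_of_prop _
        ((Φ X₀).prop_iterationFunctor_map_succ (i : WithTop (Idx K)) hnm) (hall i).1
      have h1 := W.2.2.2
      have h2 := rng_mono (((Φ X₀).iterationFunctor (WithTop (Idx K))).map
        (homOfLE (Order.succ_le_of_lt hlt'))) h1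
      rw [heq] at h2
      exact pick_not_mem (hne' _) h2
    apply Function.cantor_injective
      (fun s : Set K => pick (((Φ X₀).iterationFunctor (WithTop (Idx K))).obj
        ((⟨s⟩ : Idx K) : WithTop (Idx K))))
    intro s t hst
    by_contra hne2
    have hidx : (⟨s⟩ : Idx K) ≠ ⟨t⟩ := fun h => hne2 (congrArg Idx.s h)
    rcases lt_or_gt_of_ne hidx with h | h
    · exact key _ _ h hst
    · exact key _ _ h hst.symm

theorem ker_eq_maximalIdeal {B : Type u} [CommRing B] [IsLocalRing B] (φ : B →+* K)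
    [IsLocalHom φ] : RingHom.ker φ = maximalIdeal B := by
  ext x
  rw [RingHom.mem_ker, mem_maximalIdeal, mem_nonunits_iff]
  constructor
  · intro h hu
    exact (hu.map φ).ne_zero h
  · intro h
    by_contra h0
    exact h (isUnit_of_map_unit φ x (isUnit_iff_ne_zero.mpr h0))

/-- **EGA 0_III 10.3.1**, ring-hom form: a local ring `A` with a local homomorphism to a field `K`
admits a flat local extension `B` with `𝔪_A B = 𝔪_B`, mapping *onto* `K` compatibly
(so the residue field of `B` is `K`); `B` is Noetherian if `A` is. -/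
theorem exists_ext {A : Type u} [CommRing A] [IsLocalRing A] (φ₀ : A →+* K) [IsLocalHom φ₀] :
    ∃ (B : Type u) (_ : CommRing B) (_ : IsLocalRing B) (ψ : A →+* B) (φ : B →+* K),
      IsLocalHom φ ∧ φ.comp ψ = φ₀ ∧ ψ.Flat ∧ (maximalIdeal A).map ψ = maximalIdeal B ∧
      Function.Surjective φ ∧ (IsNoetherianRing A → IsNoetherianRing B) := by
  have h₀ : Good (Over.mk (CommRingCat.ofHom φ₀) : Cat K) :=
    ⟨(inferInstance : IsLocalRing A), fun x hx => isUnit_of_map_unit φ₀ x (isUnit_iff_ne_zero.mpr hx)⟩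
  obtain ⟨Y, f, hY, hT, hN, hr⟩ := exists_tower (Over.mk (CommRingCat.ofHom φ₀) : Cat K) h₀
  obtain ⟨hfl, _, _, hm⟩ := hT
  refine ⟨Y.left, inferInstance, hY.1, f.left.hom, Y.hom.hom, isLocalHom_hom hY,
    RingHom.ext (w_apply f), hfl, hm, ?_, hN⟩
  intro a
  have : a ∈ rng Y := hr ▸ Set.mem_univ a
  exact this

end

end Groth.Agent.Lib.Helper7.ResExt
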