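import Mathlib
import Groth.Agent.Lib.Helper7.ResExtTower
import Groth.Agent.S0542

/-!
# Existence of Cohen rings

For a field `k` of characteristic `p > 0` there is a complete discrete valuation ring with
uniformizer `p` and residue field `k`.
-/

set_option autoImplicit false
universe u
open IsLocalRing

namespace Groth.Agent.Lib.Helper7.CohenExist

/-- A Noetherian local ring whose maximal ideal is generated by a regular element is a DVR. -/
theorem dvr_of_principal {R : Type u} [CommRing R] [IsLocalRing R] [IsNoetherianRing R] (π : R)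
    (hπ : maximalIdeal R = Ideal.span {π}) (hreg : IsSMulRegular R π) :
    ∃ (_ : IsDomain R), IsDiscreteValuationRing R := by
  have hpow_ne : ∀ m : ℕ, π ^ m ≠ 0 := by
    intro m h0
    have hr : IsSMulRegular R (π ^ m) := hreg.pow m
    have h1 : (1 : R) = 0 := hr (by simp [h0])
    exact one_ne_zero h1
  have key : ∀ x : R, x ≠ 0 → ∃ (n : ℕ) (u : R), IsUnit u ∧ x = u * π ^ n := by
    intro x hx
    have hinf : ⨅ i : ℕ, maximalIdeal R ^ i = ⊥ :=
      Ideal.iInf_pow_eq_bot_of_isLocalRing _ Ideal.IsPrime.ne_top'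
    have hex : ∃ n : ℕ, x ∉ maximalIdeal R ^ n := by
      by_contra hall
      push_neg at hall
      have h1 : x ∈ ⨅ i : ℕ, maximalIdeal R ^ i := by
        rw [Ideal.mem_iInf]; exact hall
      rw [hinf] at h1
      exact hx h1
    classical
    obtain ⟨n, hn, hmin⟩ : ∃ n, x ∉ maximalIdeal R ^ n ∧ ∀ m < n, x ∈ maximalIdeal R ^ m :=
      ⟨Nat.find hex, Nat.find_spec hex, fun m hm => by
        by_contra h; exact Nat.find_min hex hm h⟩
    have hn0 : n ≠ 0 := by
      intro h0
      rw [h0, pow_zero, Ideal.one_eq_top] at hn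
      exact hn Submodule.mem_top
    obtain ⟨m, hm⟩ := Nat.exists_eq_succ_of_ne_zero hn0
    have hxm : x ∈ maximalIdeal R ^ m := hmin m (by omega)
    rw [hπ, Ideal.span_singleton_pow, Ideal.mem_span_singleton] at hxm
    obtain ⟨v, hv⟩ := hxm
    refine ⟨m, v, ?_, by rw [hv, mul_comm]⟩
    by_contra hnu
    have hum : v ∈ maximalIdeal R := (mem_maximalIdeal v).mpr hnu
    apply hn
    rw [hm, pow_succ, hv]
    refine Ideal.mul_mem_mul ?_ hum
    rw [hπ, Ideal.span_singleton_pow]
    exact Ideal.mem_span_singleton_self _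
  have hnzd : NoZeroDivisors R := ⟨fun {x y} hxy => by
    by_contra hne
    push_neg at hne
    obtain ⟨a, u, hu, rfl⟩ := key x hne.1
    obtain ⟨b, v, hv, rfl⟩ := key y hne.2
    have h1 : (u * v) * π ^ (a + b) = 0 := by
      rw [← hxy, pow_add]; ring
    have h2 : π ^ (a + b) = 0 := ((hu.mul hv).mul_right_eq_zero).mp h1
    exact hpow_ne _ h2⟩
  haveI : IsDomain R := NoZeroDivisors.to_isDomain R
  have hnf : ¬ IsField R := by
    intro hf
    have h0 : maximalIdeal R = ⊥ := IsLocalRing.isField_iff_maximalIdeal_eq.mp hf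
    have h1 : π ∈ maximalIdeal R := by rw [hπ]; exact Ideal.mem_span_singleton_self π
    rw [h0, Ideal.mem_bot] at h1
    exact hpow_ne 1 (by rw [pow_one, h1])
  have hprinc : (maximalIdeal R).IsPrincipal := ⟨⟨π, hπ⟩⟩
  exact ⟨inferInstance, ((IsDiscreteValuationRing.TFAE R hnf).out 4 0).mp hprinc⟩

/-- A Noetherian local ring in universe `u` with maximal ideal `(p)`, `p` regular, and a local
homomorphism to the given field `k` of characteristic `p`: the localization of `ULift ℤ`. -/
theorem exists_base (p : ℕ) [Fact p.Prime] (k : Type u) [Field k] [CharP k p] :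
    ∃ (A : Type u) (_ : CommRing A) (_ : IsLocalRing A) (φ₀ : A →+* k), IsLocalHom φ₀ ∧
      IsNoetherianRing A ∧ maximalIdeal A = Ideal.span {(p : A)} ∧ IsSMulRegular A (p : A) := by
  let e : ULift.{u} ℤ ≃+* ℤ := ULift.ringEquiv
  let c : ULift.{u} ℤ →+* k := (Int.castRingHom k).comp e.toRingHom
  haveI : (RingHom.ker c).IsPrime := RingHom.ker_isPrime c
  have hPspan : RingHom.ker c = Ideal.span {((p : ℕ) : ULift.{u} ℤ)} := by
    ext x
    rw [RingHom.mem_ker, Ideal.mem_span_singleton]
    show ((e x : ℤ) : k) = 0 ↔ _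
    rw [CharP.intCast_eq_zero_iff k p, ← map_dvd_iff e, map_natCast]
  haveI : IsDomain (ULift.{u} ℤ) := MulEquiv.isDomain ℤ e.toMulEquiv
  haveI : IsNoetherianRing (ULift.{u} ℤ) := isNoetherianRing_of_ringEquiv ℤ e.symm
  have hp0 : ((p : ℕ) : ULift.{u} ℤ) ≠ 0 := by
    intro h
    have h1 := congrArg e h
    rw [map_natCast, map_zero] at h1
    exact (Nat.cast_ne_zero.mpr (Fact.out : p.Prime).ne_zero) h1
  have hunit : ∀ s : (RingHom.ker c).primeCompl, IsUnit (c s) := by
    intro s
    rw [isUnit_iff_ne_zero]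
    intro h0
    exact s.2 (RingHom.mem_ker.mpr h0)
  let φ₀ : Localization.AtPrime (RingHom.ker c) →+* k :=
    IsLocalization.lift (M := (RingHom.ker c).primeCompl) (g := c) hunit
  have hφalg : ∀ x : ULift.{u} ℤ,
      φ₀ (algebraMap _ (Localization.AtPrime (RingHom.ker c)) x) = c x :=
    fun x => IsLocalization.lift_eq hunit x
  refine ⟨Localization.AtPrime (RingHom.ker c), inferInstance, inferInstance, φ₀, ?_, ?_, ?_, ?_⟩
  · refine ⟨fun y hy => ?_⟩
    obtain ⟨x, s, rfl⟩ := IsLocalization.exists_mk'_eq (RingHom.ker c).primeCompl y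
    have hspec : IsLocalization.mk' (Localization.AtPrime (RingHom.ker c)) x s *
        algebraMap _ (Localization.AtPrime (RingHom.ker c)) (s : ULift.{u} ℤ) =
        algebraMap _ (Localization.AtPrime (RingHom.ker c)) x :=
      IsLocalization.mk'_spec _ x s
    have hne : c x ≠ 0 := by
      have h1 := congrArg φ₀ hspec
      rw [map_mul, hφalg, hφalg] at h1
      rw [← h1]
      exact mul_ne_zero hy.ne_zero (hunit s).ne_zero
    have hx : x ∈ (RingHom.ker c).primeCompl := fun hxP => hne (RingHom.mem_ker.mp hxP)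
    have hup : IsUnit (algebraMap _ (Localization.AtPrime (RingHom.ker c)) x) :=
      IsLocalization.map_units (Localization.AtPrime (RingHom.ker c))
        (⟨x, hx⟩ : (RingHom.ker c).primeCompl)
    rw [← hspec] at hup
    exact isUnit_of_mul_isUnit_left hup
  · exact IsLocalization.isNoetherianRing (RingHom.ker c).primeCompl
      (Localization.AtPrime (RingHom.ker c)) inferInstance
  · calc maximalIdeal (Localization.AtPrime (RingHom.ker c))
        = Ideal.map (algebraMap (ULift.{u} ℤ) (Localization.AtPrime (RingHom.ker c)))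
            (RingHom.ker c) :=
          (IsLocalization.AtPrime.map_eq_maximalIdeal (RingHom.ker c)
            (Localization.AtPrime (RingHom.ker c))).symm
      _ = Ideal.map (algebraMap (ULift.{u} ℤ) (Localization.AtPrime (RingHom.ker c)))
            (Ideal.span {((p : ℕ) : ULift.{u} ℤ)}) :=
          congrArg (Ideal.map (algebraMap (ULift.{u} ℤ) (Localization.AtPrime (RingHom.ker c))))
            hPspan
      _ = Ideal.span {((p : ℕ) : Localization.AtPrime (RingHom.ker c))} := by
          rw [Ideal.map_span, Set.image_singleton, map_natCast]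
  · have h1 : IsSMulRegular (ULift.{u} ℤ) ((p : ℕ) : ULift.{u} ℤ) :=
      fun x y h => mul_left_cancel₀ hp0 h
    have h2 := @IsSMulRegular.of_flat (ULift.{u} ℤ) (Localization.AtPrime (RingHom.ker c)) _ _ _
      (IsLocalization.flat (Localization.AtPrime (RingHom.ker c)) (RingHom.ker c).primeCompl)
      _ h1
    rwa [map_natCast] at h2

/-- Existence of Cohen rings. -/
theorem exists_cohen (p : ℕ) [Fact p.Prime] (k : Type u) [Field k] [CharP k p] :
    ∃ (Λ : Type u) (_ : CommRing Λ) (_ : IsLocalRing Λ) (_ : IsDomain Λ),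
      IsDiscreteValuationRing Λ ∧ IsNoetherianRing Λ ∧
      IsAdicComplete (maximalIdeal Λ) Λ ∧ maximalIdeal Λ = Ideal.span {(p : Λ)} ∧
      Nonempty (ResidueField Λ ≃+* k) := by
  obtain ⟨A, hAring, hAloc, φ₀, hφ₀, hAN, hAmax, hAreg⟩ := exists_base p k
  letI := hAring
  haveI := hAloc
  haveI := hφ₀
  obtain ⟨B, hBring, hBloc, ψ, φ, hφ, hcomp, hflat, hmax, hsurj, hN⟩ :=
    Groth.Agent.Lib.Helper7.ResExt.exists_ext φ₀
  letI := hBring
  haveI := hBloc
  haveI := hφ
  haveI hBN : IsNoetherianRing B := hN hAN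
  letI : Algebra A B := ψ.toAlgebra
  haveI : Module.Flat A B := hflat
  have hBmax : maximalIdeal B = Ideal.span {(p : B)} := by
    rw [← hmax, hAmax, Ideal.map_span, Set.image_singleton, map_natCast]
  have hBreg : IsSMulRegular B (p : B) := by
    have h2 := IsSMulRegular.of_flat (S := B) hAreg
    rwa [map_natCast] at h2
  -- the completion
  haveI hΛN : IsNoetherianRing (AdicCompletion (maximalIdeal B) B) :=
    Groth.Agent.S0542.result B (maximalIdeal B) (maximalIdeal B).fg_of_isNoetherianRing
  have hΛmax : maximalIdeal (AdicCompletion (maximalIdeal B) B) =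
      Ideal.span {(p : AdicCompletion (maximalIdeal B) B)} := by
    rw [AdicCompletion.maximalIdeal_eq_map, hBmax, Ideal.map_span, Set.image_singleton,
      map_natCast]
  have hΛreg : IsSMulRegular (AdicCompletion (maximalIdeal B) B)
      (p : AdicCompletion (maximalIdeal B) B) := by
    have h2 := IsSMulRegular.of_flat (S := AdicCompletion (maximalIdeal B) B) hBreg
    rwa [map_natCast] at h2
  obtain ⟨hdom, hdvr⟩ := dvr_of_principal (p : AdicCompletion (maximalIdeal B) B) hΛmax hΛreg
  refine ⟨AdicCompletion (maximalIdeal B) B, inferInstance, inferInstance, hdom, hdvr, hΛN,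
    inferInstance, hΛmax, ⟨?_⟩⟩
  have e1 : ResidueField B ≃+* ResidueField (AdicCompletion (maximalIdeal B) B) :=
    RingEquiv.ofBijective _ (AdicCompletion.residueField_map_bijective B)
  have e2 : ResidueField B ≃+* k :=
    RingEquiv.ofBijective (ResidueField.lift φ) ⟨(ResidueField.lift φ).injective, fun x => by
      obtain ⟨b, rfl⟩ := hsurj x
      exact ⟨residue B b, ResidueField.lift_residue_apply φ b⟩⟩
  exact e1.symm.trans e2

end Groth.Agent.Lib.Helper7.CohenExist
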