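import Mathlib
import Groth.Prelude.Def_Found
import Groth.Agent.Lib.Helper7.CohenExist
import Groth.Agent.S0579
import Groth.Agent.S2456

/-!
# Coefficient rings of complete Noetherian local rings

`exists_coeff R`: for a complete Noetherian local ring `R` there are a complete Noetherian local
domain `Λ` (a field or a Cohen ring) with maximal ideal `(π)`, and a ring map `v : Λ → R` inducing a
surjection onto the residue field, such that `π = 0` or `v π ≠ 0`.
-/

set_option autoImplicit false
universe u

open IsLocalRing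

namespace Groth.Agent.Lib.Helper7.CoeffRing

theorem exists_coeff (R : Type u) [CommRing R] [IsLocalRing R] [IsNoetherianRing R]
    [IsAdicComplete (maximalIdeal R) R] :
    ∃ (Λ : Type u) (_ : CommRing Λ) (_ : IsDomain Λ) (_ : IsLocalRing Λ) (_ : IsNoetherianRing Λ)
      (_ : IsAdicComplete (maximalIdeal Λ) Λ) (v : Λ →+* R) (π : Λ),
      (IsField Λ ∨ CAlg.IsCohenRing Λ) ∧ Function.Surjective ((residue R).comp v) ∧
      maximalIdeal Λ = Ideal.span {π} ∧ (π = 0 ∨ v π ≠ 0) := by
  classical
  have hfield : ∀ s : ResidueField R →+* R, (∀ y, residue R (s y) = y) →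
      ∃ (Λ : Type u) (_ : CommRing Λ) (_ : IsDomain Λ) (_ : IsLocalRing Λ)
        (_ : IsNoetherianRing Λ) (_ : IsAdicComplete (maximalIdeal Λ) Λ) (v : Λ →+* R) (π : Λ),
        (IsField Λ ∨ CAlg.IsCohenRing Λ) ∧ Function.Surjective ((residue R).comp v) ∧
        maximalIdeal Λ = Ideal.span {π} ∧ (π = 0 ∨ v π ≠ 0) := by
    intro s hs
    refine ⟨ResidueField R, inferInstance, inferInstance, inferInstance, inferInstance,
      inferInstance, s, 0, Or.inl (Field.toIsField _), ?_, ?_, Or.inl rfl⟩
    · intro y
      exact ⟨y, hs y⟩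
    · rw [IsLocalRing.maximalIdeal_eq_bot, Ideal.span_singleton_eq_bot.mpr rfl]
  by_cases h0 : CharZero (ResidueField R)
  · obtain ⟨s, hs⟩ := Groth.Agent.S0579.result R
    exact hfield s (fun y => congrArg (fun g : ResidueField R →+* ResidueField R => g y) hs)
  · obtain ⟨p, hp⟩ := CharP.exists (ResidueField R)
    have hp0 : p ≠ 0 := by
      intro hh
      subst hh
      exact h0 (CharP.charP_to_charZero _)
    haveI : Fact p.Prime :=
      ⟨(CharP.char_is_prime_or_zero (ResidueField R) p).resolve_right hp0⟩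
    obtain ⟨Λ, hring, hloc, hdom, hdvr, hN, hcompl, hmax, ⟨e⟩⟩ :=
      Groth.Agent.Lib.Helper7.CohenExist.exists_cohen p (ResidueField R)
    letI := hring
    haveI := hloc
    haveI := hN
    haveI := hcompl
    haveI := hdom
    haveI := hdvr
    have hcohen : CAlg.IsCohenRing Λ := ⟨hdom, hdvr, hcompl, p, (Fact.out : p.Prime), hmax⟩
    haveI : IsLocalRing (R ⧸ maximalIdeal R) :=
      inferInstanceAs (IsLocalRing (ResidueField R))
    let u : Λ →+* R ⧸ maximalIdeal R := e.toRingHom.comp (residue Λ)
    haveI : IsLocalHom u := by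
      refine ⟨fun a ha => ?_⟩
      by_contra hnu
      have h1 : residue Λ a = 0 :=
        (residue_eq_zero_iff a).mpr ((mem_maximalIdeal a).mpr hnu)
      have h2 : u a = 0 := by
        show e (residue Λ a) = 0
        rw [h1, map_zero]
      rw [h2] at ha
      exact not_isUnit_zero ha
    obtain ⟨v, hv, hvu⟩ := Groth.Agent.S2456.result (W := Λ) (C := R) (Or.inr hcohen)
      (maximalIdeal R) Ideal.IsPrime.ne_top' u
    have hvu' : ∀ a : Λ, residue R (v a) = e (residue Λ a) :=
      fun a => congrArg (fun g : Λ →+* R ⧸ maximalIdeal R => g a) hvu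
    have hvsurj : Function.Surjective ((residue R).comp v) := by
      intro y
      obtain ⟨a, ha⟩ := residue_surjective (e.symm y)
      refine ⟨a, ?_⟩
      rw [RingHom.comp_apply, hvu', ha, RingEquiv.apply_symm_apply]
    by_cases hvp : v (p : Λ) = 0
    · -- equal characteristic: build a coefficient field
      have hkill : ∀ a ∈ maximalIdeal Λ, v a = 0 := by
        intro a ha
        rw [hmax, Ideal.mem_span_singleton'] at ha
        obtain ⟨b, rfl⟩ := ha
        rw [map_mul, hvp, mul_zero]
      let σ₀ : ResidueField Λ →+* R :=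
        Ideal.Quotient.lift (maximalIdeal Λ) v hkill
      have hσ₀ : ∀ a : Λ, σ₀ (residue Λ a) = v a := fun a =>
        Ideal.Quotient.lift_mk _ _ _
      let σ : ResidueField R →+* R := σ₀.comp e.symm.toRingHom
      refine hfield σ (fun y => ?_)
      obtain ⟨a, ha⟩ := residue_surjective (e.symm y)
      show residue R (σ₀ (e.symm y)) = y
      rw [← ha, hσ₀, hvu', ha, RingEquiv.apply_symm_apply]
    · exact ⟨Λ, hring, hdom, hloc, hN, hcompl, v, (p : Λ), Or.inr hcohen, hvsurj, hmax,
        Or.inr hvp⟩

end Groth.Agent.Lib.Helper7.CoeffRing
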