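import Mathlib
import Groth.Agent.Lib.Helper7.PowSerCRing

/-!
# Power series presentations of complete local rings over a complete local coefficient ring

* `exists_powser_hom`: ring homs `Λ[[X₁..Xₙ]] → R` with prescribed values in `I` at the variables,
  for `R` `I`-adically complete.
* `powser_surjective`: such a hom is surjective if the `xᵢ` generate the maximal ideal of `R`
  and `Λ → R ⧸ 𝔪` is surjective (`Λ` complete local Noetherian).
-/

set_option autoImplicit false
universe u

open IsLocalRing MvPowerSeries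

namespace Groth.Agent.Lib.Helper7.CohenStruct7

theorem eq_of_forall_mk_eq {R : Type*} [CommRing R] (I : Ideal R) [IsHausdorff I R] {a b : R}
    (h : ∀ j : ℕ, Ideal.Quotient.mk (I ^ j) a = Ideal.Quotient.mk (I ^ j) b) : a = b := by
  rw [← sub_eq_zero]
  apply IsHausdorff.haus (inferInstance : IsHausdorff I R)
  intro n
  rw [SModEq.zero, smul_eq_mul, Ideal.mul_top, ← Ideal.Quotient.eq]
  exact h n

theorem exists_powser_hom {Λ R : Type*} [CommRing Λ] [CommRing R] (I : Ideal R)
    [IsAdicComplete I R] (v : Λ →+* R) {n : ℕ} (x : Fin n → R) (hx : ∀ i, x i ∈ I) :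
    ∃ ψ : MvPowerSeries (Fin n) Λ →+* R, (∀ r, ψ (C r) = v r) ∧ ∀ i, ψ (X i) = x i := by
  have hnil : ∀ (j : ℕ) (i : Fin n), IsNilpotent (Ideal.Quotient.mk (I ^ j) (x i)) := by
    intro j i
    refine ⟨j, ?_⟩
    rw [← map_pow, Ideal.Quotient.eq_zero_iff_mem]
    exact Ideal.pow_mem_pow (hx i) j
  choose f hfC hfX using fun j : ℕ => Groth.Agent.Lib.Helper7.PowSerCRing.exists_evNil
    ((Ideal.Quotient.mk (I ^ j)).comp v) (fun i => Ideal.Quotient.mk (I ^ j) (x i)) (hnil j)
  have hf : ∀ {m k : ℕ} (hle : m ≤ k), (Ideal.Quotient.factorPow I hle).comp (f k) = f m := by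
    intro m k hle
    apply Groth.Agent.Lib.Helper7.PowSerCRing.evNil_unique
    · intro r
      rw [RingHom.comp_apply, hfC, hfC]
      rfl
    · intro i
      rw [RingHom.comp_apply, hfX, hfX]
      rfl
    · intro i
      rw [RingHom.comp_apply, hfX]
      exact (hnil k i).map _
  refine ⟨IsAdicComplete.liftRingHom I f hf, fun r => ?_, fun i => ?_⟩
  · apply eq_of_forall_mk_eq I
    intro j
    rw [IsAdicComplete.mk_liftRingHom, hfC]
    rfl
  · apply eq_of_forall_mk_eq I
    intro j
    rw [IsAdicComplete.mk_liftRingHom, hfX]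

theorem map_maximalIdeal_le {Λ R : Type*} [CommRing Λ] [IsLocalRing Λ] [CommRing R] [IsLocalRing R]
    (v : Λ →+* R) (hv : Function.Surjective ((residue R).comp v)) :
    (maximalIdeal Λ).map v ≤ maximalIdeal R := by
  have hmax : (RingHom.ker ((residue R).comp v)).IsMaximal :=
    RingHom.ker_isMaximal_of_surjective _ hv
  have hker : RingHom.ker ((residue R).comp v) = maximalIdeal Λ := IsLocalRing.eq_maximalIdeal hmax
  rw [Ideal.map_le_iff_le_comap]
  intro a ha
  rw [← hker, RingHom.mem_ker, RingHom.comp_apply] at ha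
  rw [Ideal.mem_comap]
  exact (residue_eq_zero_iff _).mp ha

theorem powser_surjective {Λ R : Type*} [CommRing Λ] [IsLocalRing Λ] [IsNoetherianRing Λ]
    [IsAdicComplete (maximalIdeal Λ) Λ] [CommRing R] [IsLocalRing R]
    [IsHausdorff (maximalIdeal R) R] (v : Λ →+* R)
    (hv : Function.Surjective ((residue R).comp v)) {n : ℕ} (x : Fin n → R)
    (hgen : Ideal.span (Set.range x) = maximalIdeal R)
    (ψ : MvPowerSeries (Fin n) Λ →+* R) (hC : ∀ r, ψ (C r) = v r) (hX : ∀ i, ψ (X i) = x i) :
    Function.Surjective ψ := by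
  haveI := Groth.Agent.Lib.Helper7.PowSerCRing.isAdicComplete (σ := Fin n) (R := Λ)
  have hmap : (maximalIdeal (MvPowerSeries (Fin n) Λ)).map ψ = maximalIdeal R := by
    rw [Groth.Agent.Lib.Helper7.PowSerCRing.maximalIdeal_eq_sup, Ideal.map_sup, Ideal.map_map,
      Ideal.map_span, ← Set.range_comp]
    have h1 : ψ.comp (C : Λ →+* MvPowerSeries (Fin n) Λ) = v := RingHom.ext hC
    have h2 : (ψ ∘ (X : Fin n → MvPowerSeries (Fin n) Λ)) = x := funext hX
    rw [h1, h2, hgen]
    exact sup_eq_right.mpr (map_maximalIdeal_le v hv)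
  haveI : IsHausdorff ((maximalIdeal (MvPowerSeries (Fin n) Λ)).map ψ) R := by
    rw [hmap]; infer_instance
  apply surjective_of_mk_map_comp_surjective ψ (I := maximalIdeal (MvPowerSeries (Fin n) Λ))
  intro y
  obtain ⟨r, rfl⟩ := Ideal.Quotient.mk_surjective y
  obtain ⟨c, hc⟩ := hv (residue R r)
  refine ⟨C c, ?_⟩
  rw [RingHom.comp_apply, hC, Ideal.Quotient.eq, hmap]
  rw [RingHom.comp_apply] at hc
  have h3 : residue R (v c - r) = 0 := by rw [map_sub, hc, sub_self]
  exact (residue_eq_zero_iff _).mp h3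

end Groth.Agent.Lib.Helper7.CohenStruct7
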