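import Mathlib
import Groth.Agent.Lib.Helper7.CohenStruct7
import Groth.Agent.Lib.Helper26.CompleteFinite
import Groth.Agent.Lib.Helper12.IntegralDim
import Groth.Agent.Lib.Helper22.SOP

/-!
# Finiteness and injectivity of maps from power series rings over a complete local coefficient ring

* `finite_of_isFiniteLength'`: finite length modules over a local ring `B` are finite over `P` when
  `P → B → κ(B)` is surjective.
* `finite_of_complete`: "complete Nakayama" for ring maps `ψ : P → A` into a Noetherian local ring,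
  `P` `I`-adically precomplete, `I A` being `𝔪_A`-primary.
* `ringKrullDim_powser_le`: `dim Λ[[X₁..X_m]] ≤ m + 1` (`≤ m` if `Λ` is a field).
* `injective_of_isIntegral_of_dim`.
* `exists_sop'`: systems of parameters containing a given element of a local domain.
-/

set_option autoImplicit false
universe u

open IsLocalRing MvPowerSeries

namespace Groth.Agent.Lib.Helper7.CohenFinite

/-- A module of finite length over a local ring `B` is finite over `P` when `P → κ(B)` is
surjective. -/
theorem finite_of_isFiniteLength' (P B : Type*) [CommRing P] [CommRing B] [IsLocalRing B]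
    [Algebra P B] (hs : Function.Surjective ((residue B).comp (algebraMap P B)))
    {M : Type*} [AddCommGroup M] [Module B M] (h : IsFiniteLength B M) :
    ∀ [Module P M] [IsScalarTower P B M], Module.Finite P M := by
  induction h with
  | of_subsingleton =>
    intro _ _
    exact Module.Finite.of_finite
  | @of_simple_quotient M _ _ N hsimp _ ih =>
    intro _ _
    obtain ⟨I, hI, ⟨e⟩⟩ := isSimpleModule_iff_quot_maximal.mp hsimp
    have hIm : I = maximalIdeal B := IsLocalRing.eq_maximalIdeal hI
    subst hIm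
    haveI h1 : Module.Finite P (B ⧸ maximalIdeal B) := by
      let g : P →ₗ[P] (B ⧸ maximalIdeal B) :=
        ((maximalIdeal B).mkQ.restrictScalars P).comp (Algebra.linearMap P B)
      refine Module.Finite.of_surjective g ?_
      intro y
      obtain ⟨a, ha⟩ := hs y
      exact ⟨a, ha⟩
    haveI h2 : Module.Finite P (M ⧸ N) :=
      Module.Finite.equiv (e.restrictScalars P).symm
    haveI h3 : Module.Finite P N := ih
    constructor
    apply Submodule.fg_of_fg_map_of_fg_inf_ker (N.mkQ.restrictScalars P)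
    · rw [Submodule.map_top, LinearMap.range_eq_top.mpr]
      · exact Module.Finite.fg_top
      · exact N.mkQ_surjective
    · rw [top_inf_eq]
      have hker : LinearMap.ker (N.mkQ.restrictScalars P) = N.restrictScalars P := by
        ext x
        simp
      rw [hker]
      have := (Module.Finite.iff_fg (N := N.restrictScalars P)).mp h3
      exact this

/-- "Complete Nakayama" for ring maps. -/
theorem finite_of_complete {P A : Type*} [CommRing P] [CommRing A] [IsLocalRing A]
    [IsNoetherianRing A] (I : Ideal P) [IsPrecomplete I P] (ψ : P →+* A)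
    (hres : Function.Surjective ((residue A).comp ψ))
    (hJm : I.map ψ ≤ maximalIdeal A)
    (hrad : maximalIdeal A ≤ (I.map ψ).radical) : ψ.Finite := by
  letI := ψ.toAlgebra
  show Module.Finite P A
  have hmap' : I.map (algebraMap P A) = I.map ψ := rfl
  haveI hH : IsHausdorff I A := by
    rw [← IsHausdorff.map_algebraMap_iff (S := A), hmap']
    exact IsHausdorff.of_le_jacobson (I.map ψ) A
      (hJm.trans (by rw [IsLocalRing.jacobson_eq_maximalIdeal ⊥ bot_ne_top]))
  apply Groth.Agent.Lib.Helper26.CompleteFinite.finite_of_isHausdorff_of_fg_quotient I A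
  have hdim0 : Ring.KrullDimLE 0 (A ⧸ I.map ψ) := by
    rw [Ring.krullDimLE_zero_iff]
    intro q hq
    have hp : (q.comap (Ideal.Quotient.mk (I.map ψ))).IsPrime := Ideal.comap_isPrime _ q
    have hJp : I.map ψ ≤ q.comap (Ideal.Quotient.mk (I.map ψ)) := by
      intro x hx
      rw [Ideal.mem_comap, Ideal.Quotient.eq_zero_iff_mem.mpr hx]
      exact q.zero_mem
    have hpm : q.comap (Ideal.Quotient.mk (I.map ψ)) = maximalIdeal A :=
      le_antisymm (IsLocalRing.le_maximalIdeal hp.ne_top)
        (hrad.trans ((Ideal.IsPrime.radical_le_iff hp).mpr hJp))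
    have : q = (maximalIdeal A).map (Ideal.Quotient.mk (I.map ψ)) := by
      rw [← hpm, Ideal.map_comap_of_surjective _ Ideal.Quotient.mk_surjective]
    rw [this]
    exact Ideal.IsMaximal.map_of_surjective_of_ker_le Ideal.Quotient.mk_surjective
      (by rw [Ideal.mk_ker]; exact hJm)
  haveI : IsArtinianRing (A ⧸ I.map ψ) :=
    isArtinianRing_iff_isNoetherianRing_krullDimLE_zero.mpr ⟨inferInstance, hdim0⟩
  haveI : IsArtinian A (A ⧸ I.map ψ) :=
    isArtinian_of_surjective_algebraMap (R := A ⧸ I.map ψ) (S := A) Ideal.Quotient.mk_surjective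
  have hfl : IsFiniteLength A (A ⧸ I.map ψ) :=
    isFiniteLength_iff_isNoetherian_isArtinian.mpr ⟨inferInstance, inferInstance⟩
  have hres' : Function.Surjective ((residue A).comp (algebraMap P A)) := hres
  haveI hfin : Module.Finite P (A ⧸ I.map ψ) := finite_of_isFiniteLength' P A hres' hfl
  have hsm : (I • ⊤ : Submodule P A) = (I.map ψ).restrictScalars P := by
    rw [Ideal.smul_top_eq_map, hmap']
  let e1 := Submodule.quotEquivOfEq _ _ hsm
  let e2 := Submodule.Quotient.restrictScalarsEquiv P (I.map ψ)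
  exact Module.Finite.equiv (e1.trans e2).symm

/-- A map from `Λ[[X₁..Xₙ]]` (`Λ` complete Noetherian local) to a Noetherian local ring which is
surjective on residue fields and such that the extension of the maximal ideal is primary to the
maximal ideal, is finite. -/
theorem finite_of_primary' {Λ A : Type*} [CommRing Λ] [IsLocalRing Λ] [IsNoetherianRing Λ]
    [IsAdicComplete (maximalIdeal Λ) Λ] [CommRing A] [IsLocalRing A] [IsNoetherianRing A] {n : ℕ}
    (ψ : MvPowerSeries (Fin n) Λ →+* A)
    (hres : Function.Surjective ((residue A).comp ψ))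
    (hrad : maximalIdeal A ≤ ((maximalIdeal (MvPowerSeries (Fin n) Λ)).map ψ).radical) :
    ψ.Finite := by
  haveI : IsAdicComplete (maximalIdeal (MvPowerSeries (Fin n) Λ)) (MvPowerSeries (Fin n) Λ) :=
    Groth.Agent.Lib.Helper7.PowSerCRing.isAdicComplete
  exact finite_of_complete (maximalIdeal (MvPowerSeries (Fin n) Λ)) ψ hres
    (Groth.Agent.Lib.Helper7.CohenStruct7.map_maximalIdeal_le ψ hres) hrad

/-- the image of the maximal ideal of `Λ[[X]]` -/
theorem map_maximalIdeal_eq {Λ R : Type*} [CommRing Λ] [IsLocalRing Λ] [CommRing R]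
    (v : Λ →+* R) {n : ℕ} (x : Fin n → R) (ψ : MvPowerSeries (Fin n) Λ →+* R)
    (hC : ∀ r, ψ (C r) = v r) (hX : ∀ i, ψ (X i) = x i) (π : Λ)
    (hπ : maximalIdeal Λ = Ideal.span {π}) :
    (maximalIdeal (MvPowerSeries (Fin n) Λ)).map ψ = Ideal.span (insert (v π) (Set.range x)) := by
  have h1 : ψ.comp (C : Λ →+* MvPowerSeries (Fin n) Λ) = v := RingHom.ext hC
  have h2 : (ψ ∘ (X : Fin n → MvPowerSeries (Fin n) Λ)) = x := funext hX
  rw [Groth.Agent.Lib.Helper7.PowSerCRing.maximalIdeal_eq_sup, Ideal.map_sup, Ideal.map_map, hπ,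
    Ideal.map_span, Ideal.map_span, ← Set.range_comp, Set.image_singleton, Ideal.span_insert,
    h1, h2]

/-- `dim Λ[[X₁..X_m]] ≤ m + 1` when the maximal ideal of `Λ` is principal; `≤ m` if it is zero. -/
theorem ringKrullDim_powser_le {Λ : Type*} [CommRing Λ] [IsLocalRing Λ] [IsNoetherianRing Λ]
    (π : Λ) (hπ : maximalIdeal Λ = Ideal.span {π}) (m ε : ℕ) (hε : π = 0 ∨ 1 ≤ ε) :
    ringKrullDim (MvPowerSeries (Fin m) Λ) ≤ ((m + ε : ℕ) : WithBot ℕ∞) := by
  classical
  have h1 := ringKrullDim_le_spanFinrank_maximalIdeal (MvPowerSeries (Fin m) Λ)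
  have hgen : maximalIdeal (MvPowerSeries (Fin m) Λ) =
      Ideal.span (insert (C π) (Set.range (X : Fin m → MvPowerSeries (Fin m) Λ))) := by
    rw [Groth.Agent.Lib.Helper7.PowSerCRing.maximalIdeal_eq_sup, hπ, Ideal.map_span,
      Set.image_singleton, Ideal.span_insert]
  have hr : (Set.range (X : Fin m → MvPowerSeries (Fin m) Λ)).ncard ≤ m := by
    rw [← Set.image_univ]
    refine (Set.ncard_image_le Set.finite_univ).trans ?_
    rw [Set.ncard_univ, Nat.card_fin]
  have h2 : (maximalIdeal (MvPowerSeries (Fin m) Λ)).spanFinrank ≤ m + ε := by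
    rcases hε with h0 | h1
    · rw [hgen, h0, map_zero, Ideal.span_insert_zero]
      exact (Submodule.spanFinrank_span_le_ncard_of_finite (Set.finite_range _)).trans
        (hr.trans (Nat.le_add_right _ _))
    · rw [hgen]
      refine (Submodule.spanFinrank_span_le_ncard_of_finite
        ((Set.finite_range _).insert _)).trans ?_
      refine (Set.ncard_insert_le _ _).trans ?_
      omega
  exact h1.trans (by exact_mod_cast h2)

/-- An integral map from a domain of dimension `≤ N` to a ring of dimension `≥ N` is injective. -/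
theorem injective_of_isIntegral_of_dim {P R : Type*} [CommRing P] [IsDomain P] [CommRing R]
    (ψ : P →+* R) (hint : ψ.IsIntegral) (N : ℕ) (hP : ringKrullDim P ≤ (N : WithBot ℕ∞))
    (hR : (N : WithBot ℕ∞) ≤ ringKrullDim R) : Function.Injective ψ := by
  rw [injective_iff_map_eq_zero]
  intro f hf
  by_contra hne
  have hnzd : f ∈ nonZeroDivisors P := mem_nonZeroDivisors_of_ne_zero hne
  have h1 := ringKrullDim_quotient_succ_le_of_nonZeroDivisor hnzd
  have hker : Ideal.span {f} ≤ RingHom.ker ψ := by
    rw [Ideal.span_le, Set.singleton_subset_iff]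
    exact hf
  let φ : P ⧸ Ideal.span {f} →+* R :=
    Ideal.Quotient.lift (Ideal.span {f}) ψ (fun a ha => hker ha)
  have hφ : φ.IsIntegral := by
    apply RingHom.IsIntegral.tower_top (Ideal.Quotient.mk (Ideal.span {f})) φ
    have : φ.comp (Ideal.Quotient.mk (Ideal.span {f})) = ψ := by
      ext x
      simp [φ]
    rw [this]
    exact hint
  letI := φ.toAlgebra
  haveI : Algebra.IsIntegral (P ⧸ Ideal.span {f}) R := ⟨hφ⟩
  have h2 : ringKrullDim R ≤ ringKrullDim (P ⧸ Ideal.span {f}) :=
    Groth.Agent.Lib.Helper12.ringKrullDim_le_of_isIntegral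
  have h4 : (N : WithBot ℕ∞) + 1 ≤ N :=
    (add_le_add_left (hR.trans h2) 1).trans (h1.trans hP)
  have h5 : ((N + 1 : ℕ) : WithBot ℕ∞) ≤ (N : ℕ) := by exact_mod_cast h4
  have h6 : N + 1 ≤ N := by exact_mod_cast h5
  omega

/-- Systems of parameters of a Noetherian local domain containing a prescribed element `t` of the
maximal ideal (if `t ≠ 0`). -/
theorem exists_sop' {R : Type u} [CommRing R] [IsDomain R] [IsLocalRing R] [IsNoetherianRing R]
    (t : R) (ht : t ∈ maximalIdeal R) (ε : ℕ) (hε : (t = 0 ∧ ε = 0) ∨ (t ≠ 0 ∧ ε = 1)) :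
    ∃ (m : ℕ) (x : Fin m → R), (∀ i, x i ∈ maximalIdeal R) ∧
      maximalIdeal R ≤ (Ideal.span (insert t (Set.range x))).radical ∧
      ((m + ε : ℕ) : WithBot ℕ∞) ≤ ringKrullDim R := by
  classical
  rcases hε with ⟨ht0, rfl⟩ | ⟨ht0, rfl⟩
  · obtain ⟨s, hs_min, hs_card⟩ :=
      Ideal.exists_finset_card_eq_height_of_isNoetherianRing (maximalIdeal R)
    let e : s ≃ Fin s.card := s.equivFin
    let x : Fin s.card → R := fun i => (e.symm i : R)
    have hrange : Set.range x = (s : Set R) := by
      ext a
      constructor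
      · rintro ⟨i, rfl⟩
        exact (e.symm i).2
      · intro ha
        exact ⟨e ⟨a, ha⟩, by simp [x]⟩
    have hle : Ideal.span (s : Set R) ≤ maximalIdeal R := hs_min.1.2
    refine ⟨s.card, x, fun i => hle (Ideal.subset_span (e.symm i).2), ?_, ?_⟩
    · rw [ht0, Ideal.span_insert_zero, hrange, ← Ideal.sInf_minimalPrimes]
      refine le_sInf fun Q hQ => ?_
      exact hs_min.2 ⟨hQ.1.1, hQ.1.2⟩ (IsLocalRing.le_maximalIdeal hQ.1.1.ne_top)
    · rw [add_zero, ← IsLocalRing.maximalIdeal_height_eq_ringKrullDim, ← hs_card]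
      exact le_rfl
  · have hne : (maximalIdeal R).height ≠ ⊤ := Ideal.height_ne_top Ideal.IsPrime.ne_top'
    obtain ⟨d, hdh⟩ := ENat.ne_top_iff_exists.mp hne
    have hd : ringKrullDim R = (d : WithBot ℕ∞) := by
      rw [← IsLocalRing.maximalIdeal_height_eq_ringKrullDim, ← hdh]
      rfl
    have hlt : (⊥ : Ideal R) < maximalIdeal R := by
      refine lt_of_le_of_ne bot_le (fun h => ht0 ?_)
      rw [← h] at ht
      exact (Ideal.mem_bot).mp ht
    have h2 := Ideal.height_add_one_le_of_lt_of_isPrime hlt
    have hd1 : 1 ≤ d := by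
      have h3 : (1 : ℕ∞) ≤ (d : ℕ∞) := by
        rw [hdh]
        exact le_trans le_add_self h2
      exact_mod_cast h3
    have hmin : ∀ p ∈ minimalPrimes R, t ∉ p := by
      intro p hp
      rw [IsDomain.minimalPrimes_eq_singleton_bot, Set.mem_singleton_iff] at hp
      rw [hp]
      exact ht0
    obtain ⟨g, hg, hrad⟩ := Groth.Agent.Lib.Helper22.SOP.exists_sop d hd hd1 t hmin
      (maximalIdeal R) ⟨1, (pow_one _).le⟩
    refine ⟨d - 1, g, hg, hrad, ?_⟩
    rw [hd]
    have hdd : d - 1 + 1 = d := by omega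
    rw [hdd]

end Groth.Agent.Lib.Helper7.CohenFinite
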