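import Groth.Agent.Lib.Helper2.Mon.ProjClosed
import Groth.Agent.Lib.Helper7.PushLinear
import Groth.Agent.Lib.Helper7.Gaeta1
import Groth.Agent.S0019
import Groth.Agent.S2357

/-!
# Transfer between a closed subscheme `i : X ⟶ P^n_k` and `P^n_k` (helper7)

* `pushTw`: `i_*F ⊗ O(d) ≅ i_*(F ⊗ i^*O(d))` (projection formula, helper2).
* `sub_iff`, `finrank_eq`: the cohomology of `F(d)` on `X` and of `(i_*F)(d)` on `P^n_k`.
* `isCoh_push`: `i_*F` is coherent.
* `exists_push_ses`: a sequence `0 → F(-1) → F → G → 0` on `X` gives one on `P^n_k`.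
-/

set_option autoImplicit false
universe u
open CategoryTheory CategoryTheory.Limits AlgebraicGeometry TopologicalSpace Opposite
open Scheme.Modules

noncomputable section

namespace Groth.Agent.Lib.Helper7.ClTransfer

open Groth.Agent.Lib.Helper3 Groth.Agent.Lib.Helper3.InvMonoidal

variable {n : ℕ} (k : Type u) [Field k] {X : Scheme.{u}} (i : X ⟶ CohB1.ProjSpace n k)
  [IsClosedImmersion i]

/-- projection formula: `i_*F ⊗ O(d) ≅ i_*(F(d))`. -/
def pushTw (F : X.Modules) (d : ℤ) :
    CohB1.tensorMod ((Scheme.Modules.pushforward i).obj F) (Twist.twistProjSpace n k d) ≅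
      (Scheme.Modules.pushforward i).obj (Pic13.twistOn k i F d) :=
  Groth.Agent.Lib.Helper2.Mon.projIso i F (Twist.twistProjSpace n k d)

lemma isCoh_push (F : X.Modules) (hF : Coh.IsCoh F) :
    Coh.IsCoh ((Scheme.Modules.pushforward i).obj F) := by
  haveI : IsNoetherian (CohB1.ProjSpace n k) :=
    Groth.Agent.S2357.result (CohB1.polyGrading n k)
  exact Groth.Agent.S0019.result i F hF

lemma sub_iff (F : X.Modules) (d : ℤ) (q : ℕ) :
    Subsingleton (Coh.HH X (Pic13.twistOn k i F d) q) ↔
      Subsingleton (Coh.HH (CohB1.ProjSpace n k)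
        (CohB1.tensorMod ((Scheme.Modules.pushforward i).obj F)
          (Twist.twistProjSpace n k d)) q) := by
  have e := PushLinear.pushEquiv i (Pic13.twistOn k i F d) q
  constructor
  · intro h
    have h2 : Subsingleton (Coh.HH (CohB1.ProjSpace n k)
        ((Scheme.Modules.pushforward i).obj (Pic13.twistOn k i F d)) q) :=
      e.symm.toEquiv.subsingleton
    exact TwFun.subsingleton_HH_of_iso (pushTw k i F d) q h2
  · intro h
    have h2 : Subsingleton (Coh.HH (CohB1.ProjSpace n k)
        ((Scheme.Modules.pushforward i).obj (Pic13.twistOn k i F d)) q) :=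
      TwFun.subsingleton_HH_of_iso (pushTw k i F d).symm q h
    exact e.toEquiv.subsingleton

/-- a sequence `0 → F(-1) → F → G → 0` on `X` gives `ι' : (i_*F)(-1) ↪ i_*F` with cokernel
`i_*G`. -/
lemma exists_push_ses {F G : X.Modules} (f : Pic13.twistOn k i F (-1) ⟶ F) (g : F ⟶ G)
    (hfg : f ≫ g = 0) (hS : (ShortComplex.mk f g hfg).ShortExact) :
    ∃ ι' : CohB1.tensorMod ((Scheme.Modules.pushforward i).obj F)
        (Twist.twistProjSpace n k (-1)) ⟶ (Scheme.Modules.pushforward i).obj F,
      Mono ι' ∧ Nonempty (cokernel ι' ≅ (Scheme.Modules.pushforward i).obj G) := by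
  have hS' := hS.map_of_exact (Scheme.Modules.pushforward i)
  haveI : Mono ((Scheme.Modules.pushforward i).map f) := hS'.mono_f
  haveI : Epi ((ShortComplex.mk f g hfg).map (Scheme.Modules.pushforward i)).g := hS'.epi_g
  refine ⟨(pushTw k i F (-1)).hom ≫ (Scheme.Modules.pushforward i).map f, mono_comp _ _, ⟨?_⟩⟩
  exact cokernelEpiComp _ _ ≪≫
    (cokernelIsCokernel ((Scheme.Modules.pushforward i).map f)).coconePointUniqueUpToIso
      hS'.exact.gIsCokernel

variable [X.Over (Spec (CommRingCat.of k))]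

lemma finrank_eq (hi : i ≫ CohB1.ProjSpace.toSpec n k = X ↘ Spec (CommRingCat.of k))
    (F : X.Modules) (d : ℤ) (q : ℕ) :
    Module.finrank k (Coh.HH X (Pic13.twistOn k i F d) q) =
      Module.finrank k (Coh.HH (CohB1.ProjSpace n k)
        (CohB1.tensorMod ((Scheme.Modules.pushforward i).obj F)
          (Twist.twistProjSpace n k d)) q) := by
  rw [PushLinear.finrank_push i (Pic13.twistOn k i F d) k hi.symm q]
  exact (Gaeta.finrank_HH_of_iso k (pushTw k i F d) q).symm

end Groth.Agent.Lib.Helper7.ClTransfer
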