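import Mathlib
import Groth.Prelude.Def_ModSite
import Groth.Prelude.Def_CxOX
import Groth.Prelude.Def_DCoh4
import Groth.Prelude.Def_FlatMod2
import Groth.Agent.Lib.Helper13.ModSiteUnitor
import Groth.Agent.Lib.Helper13.ModSiteFlatSES
import Groth.Agent.Lib.Helper13.ModSiteHomRestr
import Groth.Agent.Lib.Helper13.ProjFormulaLF
import Groth.Agent.Lib.Helper13.PCohNoeth

/-!
# The internal hom out of a finite locally free module is exact (helper7)

* `Pn n`, `adjP n`: the self-adjoint functor `T ↦ T^n`.
* `tensorFreeIso`: `- ⊗ O^n ≅ (-)^n` on a small ringed site.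
* `epi_sheafHom_map_of_free`: `Hom_O(M, -)` preserves epimorphisms for `M ≅ O^n`.
* `epi_restr_iff`, `restrFreeIso`: bridge between restriction to the slice site and restriction to
  the open subscheme.
* `preservesFiniteColimits_sheafHom`: `DCoh.sheafHom A` is right exact for `A` finite locally free.
-/

set_option autoImplicit false
universe u v
open CategoryTheory CategoryTheory.Limits Opposite

noncomputable section

namespace Groth.Agent.Lib.Helper7.FreeHomExact

open Groth.Agent.Lib.Helper13

attribute [local instance] Abelian.hasFiniteBiproducts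

section Pn

variable {A : Type u} [Category.{v} A] [Preadditive A] [HasFiniteBiproducts A] (n : ℕ)

/-- `T ↦ T^n`. -/
def Pn : A ⥤ A where
  obj T := ⨁ fun _ : Fin n => T
  map t := biproduct.map fun _ => t
  map_id T := by
    apply biproduct.hom_ext'
    intro j
    simp
  map_comp f g := by
    apply biproduct.hom_ext'
    intro j
    simp

/-- `(-)^n` is self-adjoint. -/
def adjP : Pn (A := A) n ⊣ Pn n :=
  Adjunction.mkOfHomEquiv
    { homEquiv := fun T N =>
        { toFun := fun f => biproduct.lift fun i => biproduct.ι (fun _ : Fin n => T) i ≫ f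
          invFun := fun h => biproduct.desc fun i => h ≫ biproduct.π (fun _ : Fin n => N) i
          left_inv := fun f => by
            apply biproduct.hom_ext'
            intro j
            erw [biproduct.ι_desc, biproduct.lift_π]
          right_inv := fun h => by
            apply biproduct.hom_ext
            intro j
            erw [biproduct.lift_π, biproduct.ι_desc]
            rfl }
      homEquiv_naturality_left_symm := by
        intro T' T N f g
        apply biproduct.hom_ext'
        intro j
        change biproduct.ι (fun _ : Fin n => T') j ≫ (biproduct.desc fun i => (f ≫ g) ≫ biproduct.π (fun _ : Fin n => N) i) =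
          biproduct.ι (fun _ : Fin n => T') j ≫ (biproduct.map fun _ => f) ≫ (biproduct.desc fun i => g ≫ biproduct.π (fun _ : Fin n => N) i)
        erw [biproduct.ι_desc, biproduct.ι_map_assoc, biproduct.ι_desc, Category.assoc]
      homEquiv_naturality_right := by
        intro T N N' f g
        apply biproduct.hom_ext
        intro j
        change (biproduct.lift fun i => biproduct.ι (fun _ : Fin n => T) i ≫ f ≫ g) ≫ biproduct.π (fun _ : Fin n => N') j =
          ((biproduct.lift fun i => biproduct.ι (fun _ : Fin n => T) i ≫ f) ≫ (biproduct.map fun _ => g)) ≫ biproduct.π (fun _ : Fin n => N') j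
        erw [biproduct.lift_π, Category.assoc, biproduct.map_π, biproduct.lift_π_assoc, Category.assoc] }

theorem pn_map_epi {T T' : A} (t : T ⟶ T') [Epi t] : Epi ((Pn n).map t) := by
  change Epi (biproduct.map fun _ : Fin n => t)
  infer_instance

end Pn

section Site

variable {C : Type u} [SmallCategory C] {J : GrothendieckTopology C} (O : Sheaf J CommRingCat.{u})

/-- `T ⊗ O^n ≅ T^n`, naturally in `T`. -/
def tensorFreeIso (n : ℕ) :
    (ModSite.tensorBi O).flip.obj (⨁ fun _ : Fin n => ModSite.unit O) ≅
      Pn (A := ModSite.Mod O) n :=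
  NatIso.ofComponents
    (fun T => ((ModSite.tensorBi O).obj T).mapBiproduct (fun _ : Fin n => ModSite.unit O) ≪≫
      biproduct.mapIso (fun _ => (ModSiteUnitor.rightUnitorIso O).app T))
    (by
      intro T T' t
      apply biproduct.hom_ext
      intro j
      have h1 := ((ModSite.tensorBi O).map t).naturality
        (biproduct.π (fun _ : Fin n => ModSite.unit O) j)
      have h2 := (ModSiteUnitor.rightUnitorIso O).hom.naturality t
      simp only [Functor.flip_obj_map, Functor.id_map] at h2
      simp only [Functor.flip_obj_map, Iso.trans_hom, biproduct.mapIso_hom,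
        Functor.mapBiproduct_hom, Category.assoc, biproduct.map_π, Pn,
        Iso.app_hom]
      erw [biproduct.lift_π_assoc, biproduct.map_π_assoc, biproduct.lift_π_assoc]
      rw [← Category.assoc, ← h1, Category.assoc, h2])

/-- `Hom_O(M, -)` preserves epimorphisms when `M` is free of finite rank. -/
theorem epi_sheafHom_map_of_free (n : ℕ) (M : ModSite.Mod O)
    (e : M ≅ ∐ fun _ : Fin n => ModSite.unit O) [ModSite.HasSheafHom M]
    {B B' : ModSite.Mod O} (g : B ⟶ B') [Epi g] : Epi ((ModSite.sheafHom M).map g) := by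
  let e' : M ≅ ⨁ fun _ : Fin n => ModSite.unit O := e ≪≫ (biproduct.isoCoproduct _).symm
  let isoL : (ModSite.tensorBi O).flip.obj M ≅ Pn n :=
    (ModSite.tensorBi O).flip.mapIso e' ≪≫ tensorFreeIso O n
  let isoR : ModSite.sheafHom M ≅ Pn n :=
    Adjunction.rightAdjointUniq (ModSite.sheafHomAdj M) ((adjP n).ofNatIsoLeft isoL.symm)
  have h : (ModSite.sheafHom M).map g = isoR.hom.app B ≫ (Pn n).map g ≫ isoR.inv.app B' := by
    rw [← Category.assoc, ← isoR.hom.naturality g, Category.assoc, Iso.hom_inv_id_app,
      Category.comp_id]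
  rw [h]
  have e1 : Epi (isoR.hom.app B) := inferInstance
  have e2 : Epi (isoR.inv.app B') := inferInstance
  have e3 := pn_map_epi n g
  exact epi_comp' e1 (epi_comp' e3 e2)

end Site

section Generic

variable {C₁ : Type*} [Category C₁] {C₂ : Type*} [Category C₂] {C₃ : Type*} [Category C₃]

theorem epi_map_of_natIso {F G : C₁ ⥤ C₂} (e : F ≅ G) {M N : C₁} (φ : M ⟶ N)
    (h : Epi (F.map φ)) : Epi (G.map φ) := by
  have h2 : G.map φ = e.inv.app M ≫ F.map φ ≫ e.hom.app N := by
    rw [e.hom.naturality φ, Iso.inv_hom_id_app_assoc]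
  rw [h2]
  exact epi_comp' inferInstance (epi_comp' h inferInstance)

theorem epi_comp_map {F : C₁ ⥤ C₂} (E : C₂ ⥤ C₃) [E.PreservesEpimorphisms] {M N : C₁}
    (φ : M ⟶ N) (h : Epi (F.map φ)) : Epi ((F ⋙ E).map φ) := by
  have := h
  exact (inferInstance : Epi (E.map (F.map φ)))

theorem epi_of_comp_map {F : C₁ ⥤ C₂} (E : C₂ ⥤ C₃) [E.ReflectsEpimorphisms] {M N : C₁}
    (φ : M ⟶ N) (h : Epi ((F ⋙ E).map φ)) : Epi (F.map φ) :=
  E.epi_of_epi_map h

end Generic

section Scheme

open AlgebraicGeometry AlgebraicGeometry.Scheme.Modules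

variable {X : Scheme.{u}}

/-- epimorphisms of `O_X`-modules can be tested locally -/
theorem epi_of_locally {M N : X.Modules} (φ : M ⟶ N)
    (h : ∀ y : X, ∃ V : X.Opens, y ∈ V ∧ Epi ((restrictFunctor V.ι).map φ)) : Epi φ := by
  apply Preadditive.epi_of_isZero_cokernel
  apply PCohNoeth.isZero_of_locally
  intro y
  obtain ⟨V, hyV, hV⟩ := h y
  refine ⟨V, hyV, ?_⟩
  exact IsZero.of_iso (isZero_cokernel_of_epi _) (PreservesCokernel.iso (restrictFunctor V.ι) φ)

set_option backward.isDefEq.respectTransparency false in
/-- bridge: a morphism is epi after restriction to the slice site iff it is epi after restriction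
to the open subscheme -/
theorem epi_restr_iff (V : X.Opens) {M N : X.Modules} (φ : M ⟶ N) :
    Epi ((ModSite.restr X.sheaf V).map φ) ↔ Epi ((restrictFunctor V.ι).map φ) := by
  constructor
  · intro h
    have h0 : Epi ((SheafOfModules.overFunctor X.ringCatSheaf V).map φ) := h
    exact epi_map_of_natIso (overFunctorEquiv V) φ (epi_comp_map (overEquiv V).functor φ h0)
  · intro h
    have h1 := epi_map_of_natIso (overFunctorEquiv V).symm φ h
    exact epi_of_comp_map (overEquiv V).functor φ h1

/-- bridge: a trivialisation over the open subscheme `V` gives one over the slice site -/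
def restrFreeIso (V : X.Opens) (A : X.Modules) (n : ℕ)
    (φ : A.restrict V.ι ≅ FlatMod.freeMod (↑V) n) :
    (ModSite.restr X.sheaf V).obj A ≅ ∐ fun _ : Fin n => ModSite.unit (X.sheaf.over V) := by
  let E := overEquiv V
  let i1 : (SheafOfModules.overFunctor X.ringCatSheaf V).obj A ≅
      E.inverse.obj (E.functor.obj ((SheafOfModules.overFunctor X.ringCatSheaf V).obj A)) :=
    E.unitIso.app _
  let i2 : E.functor.obj ((SheafOfModules.overFunctor X.ringCatSheaf V).obj A) ≅
      (restrictFunctor V.ι).obj A := (overFunctorEquiv V).app A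
  let i4 := PreservesCoproduct.iso E.inverse
    (fun _ : Fin n => Coh.structureModule ((V : X.Opens) : Scheme.{u}))
  let i5 : E.inverse.obj (Coh.structureModule ((V : X.Opens) : Scheme.{u})) ≅
      SheafOfModules.unit _ :=
    TopologicalSpace.Opens.sheafOfModulesEquivOverInverseUnit V X.ringCatSheaf
  exact i1 ≪≫ E.inverse.mapIso (i2 ≪≫ φ) ≪≫ i4 ≪≫ Sigma.mapIso (fun _ => i5)

set_option backward.isDefEq.respectTransparency false in
/-- the internal hom out of a finite locally free module preserves epimorphisms (site version) -/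
theorem epi_sheafHom_map_of_isFinLocFree (A : X.Modules) (hA : FlatMod.IsFinLocFree A)
    [ModSite.HasSheafHom (O := X.sheaf) A] {B B' : X.Modules} (g : B ⟶ B') [Epi g] :
    Epi ((ModSite.sheafHom (O := X.sheaf) A).map g) := by
  apply epi_of_locally
  intro y
  obtain ⟨V, n, hyV, ⟨φ⟩⟩ := hA y
  refine ⟨V, hyV, ?_⟩
  rw [← epi_restr_iff]
  have : ModSite.HasSheafHom ((ModSite.restr X.sheaf V).obj A) := ModSiteTensor.hasSheafHom _ _
  let r := ModSiteHomRestr.restrSheafHomIso X.sheaf V A
  have hg0 : Epi ((restrictFunctor V.ι).map g) := inferInstance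
  have hg : Epi ((ModSite.restr X.sheaf V).map g) := (epi_restr_iff V g).mpr hg0
  have h1 : Epi ((ModSite.sheafHom ((ModSite.restr X.sheaf V).obj A)).map
      ((ModSite.restr X.sheaf V).map g)) :=
    epi_sheafHom_map_of_free (X.sheaf.over V) n _ (restrFreeIso V A n φ) _
  have h2 : Epi ((ModSite.restr X.sheaf V ⋙
      ModSite.sheafHom ((ModSite.restr X.sheaf V).obj A)).map g) := h1
  exact epi_map_of_natIso r.symm g h2

set_option backward.isDefEq.respectTransparency false in
/-- `Hom_{O_X}(A, -)` is right exact for `A` finite locally free. -/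
theorem preservesFiniteColimits_sheafHom (A : X.Modules) (hA : FlatMod.IsFinLocFree A)
    [DCoh.HasSheafHom A] : PreservesFiniteColimits (DCoh.sheafHom A) := by
  have : ModSite.HasSheafHom (O := X.sheaf) A := ModSiteTensor.hasSheafHom X.sheaf A
  let iso : DCoh.sheafHom A ≅ ModSite.sheafHom (O := X.sheaf) A :=
    Adjunction.rightAdjointUniq
      ((DCoh.sheafHomAdj A).ofNatIsoLeft (ProjFormulaLF.braidIso A))
      (ModSite.sheafHomAdj (O := X.sheaf) A)
  have hepi : ∀ {B B' : X.Modules} (g : B ⟶ B'), Epi g → Epi ((DCoh.sheafHom A).map g) := by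
    intro B B' g hg
    have h1 := epi_sheafHom_map_of_isFinLocFree A hA g
    exact epi_map_of_natIso iso.symm g h1
  have : (DCoh.sheafHom A).Additive := (DCoh.sheafHomAdj A).right_adjoint_additive
  have hfl : PreservesFiniteLimits (DCoh.sheafHom A) := by
    have : (DCoh.sheafHom A).IsRightAdjoint := (DCoh.sheafHomAdj A).isRightAdjoint
    infer_instance
  refine ((Functor.preservesFiniteColimits_tfae (DCoh.sheafHom A)).out 0 3).mp ?_
  intro S hS
  have := (Functor.preservesFiniteLimits_iff_forall_exact_map_and_mono (DCoh.sheafHom A)).mp hfl S hS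
  exact ⟨this.1, hepi S.g hS.epi_g⟩

end Scheme

end Groth.Agent.Lib.Helper7.FreeHomExact
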