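import Groth.Agent.Lib.Helper7.CurvePair2
import Groth.Agent.Lib.Helper3.GlobGen
import Groth.Agent.Lib.Helper3.FreeSec

/-!
# CurveGG: invertible modules of degree `≥ 2g` on a proper integral curve are globally generated
-/
set_option autoImplicit false
universe u
open CategoryTheory CategoryTheory.Limits Opposite TopologicalSpace AlgebraicGeometry
open Scheme.Modules

noncomputable section

namespace Groth.Agent.Lib.Helper7.CurvePair

open Groth.Agent.Lib.Helper3 Groth.Agent.Lib.Helper3.QCSec Groth.Agent.Lib.Helper3.InvGen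
  Groth.Agent.Lib.Helper3.IdealMod Groth.Agent.Lib.Helper3.InvMonoidal
  Groth.Agent.Lib.Helper3.InvTensor Groth.Agent.Lib.Helper7.TwFun
open Groth.Agent.Lib.Helper23.T2 Groth.Agent.Lib.Helper23.Curve Groth.Agent.Lib.Helper23.Twist
  Groth.Agent.Lib.Helper23.TwE Groth.Agent.Lib.Helper23.TensorPts Groth.Agent.Lib.Helper23.EffCart
  Groth.Agent.Lib.Helper23.Dev

variable {X : Scheme.{u}}

/-- an invertible module without base points is globally generated. -/
theorem isGloballyGenerated_of_forall_mem_genLocus {L : X.Modules} (hL : PicF.IsInvertible L)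
    (h : ∀ y : X, ∃ m : Γ(L, ⊤), y ∈ CohB1.genLocus L (InvAmple.globalHom L m)) :
    Curv2.IsGloballyGenerated L := by
  haveI := InvCoh.isQuasicoherent_of_isInvertible hL
  refine Groth.Agent.Lib.Helper3.GlobGen.isGloballyGenerated_of_span L
    (fun m : Γ(L, ⊤) => m) (fun y => ?_)
  obtain ⟨m, hm⟩ := h y
  obtain ⟨W, hyW, hW⟩ := (mem_genLocus_iff _ y).mp hm
  obtain ⟨U, hU, hyU, hUW⟩ := Opens.isBasis_iff_nbhd.mp X.isBasis_affineOpens hyW
  refine ⟨U, hU, hyU, ?_⟩
  have hg : IsGenAt L U (res L (le_top : U ≤ ⊤) m) := by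
    have h1 := hW U hUW
    rwa [res_sec, InvAmple.sec_globalHom] at h1
  rw [eq_top_iff]
  intro t _
  obtain ⟨a, ha⟩ := hg.exists_coord t
  rw [← ha]
  exact Submodule.smul_mem _ a (Submodule.subset_span ⟨m, rfl⟩)

lemma topologicalKrullDim_singleton_le_zero {T : Type*} [TopologicalSpace T] (x : T) :
    topologicalKrullDim (({x} : Set T) : Type _) ≤ 0 := by
  haveI : Subsingleton (({x} : Set T) : Type _) := ⟨fun a b => Subtype.ext (a.2.trans b.2.symm)⟩
  haveI : Subsingleton (IrreducibleCloseds (({x} : Set T) : Type _)) := ⟨fun Z1 Z2 => by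
    apply IrreducibleCloseds.ext
    ext y
    obtain ⟨z1, hz1⟩ := Z1.isIrreducible.nonempty
    obtain ⟨z2, hz2⟩ := Z2.isIrreducible.nonempty
    constructor
    · intro _
      rwa [Subsingleton.elim y z2]
    · intro _
      rwa [Subsingleton.elim y z1]⟩
  exact Order.krullDim_nonpos_of_subsingleton

variable (k : Type u) [Field k] [X.Over (Spec (CommRingCat.of k))]
  [IsProper (X ↘ Spec (CommRingCat.of k))] [IsIntegral X]

/-- `deg L ≥ 2g - 1` forces `H¹(L) = 0` (with `h⁰(O) = 1` as a hypothesis). -/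
theorem h1_vanish_of_deg_ge' (hdim : topologicalKrullDim X ≤ 1)
    (h0 : Module.finrank k (Coh.HH X (Coh.structureModule X) 0) = 1)
    {L : X.Modules} (hL : PicF.IsInvertible L)
    (hdeg : 2 * (Curv2.genus k X : ℤ) - 1 ≤ Curv2.deg k X L 1) :
    Subsingleton (Coh.HH X L 1) := by
  by_contra hns
  rw [not_subsingleton_iff_nontrivial] at hns
  have hle := h0_le_genus_of_h1_nontrivial k hdim hL hns
  have hrr := riemann_roch k hdim h0 hL
  haveI := isNoetherian_of_isProper k X
  haveI : Module.Finite k (Coh.HH X L 1) := finite_HH k L (isCoh_of_isInvertible hL) 1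
  have hpos : 0 < Module.finrank k (Coh.HH X L 1) := Module.finrank_pos
  have h2 : (Module.finrank k (Coh.HH X L 0) : ℤ) ≤ (Curv2.genus k X : ℤ) := by exact_mod_cast hle
  have h3 : (0 : ℤ) < (Module.finrank k (Coh.HH X L 1) : ℤ) := by exact_mod_cast hpos
  linarith

/-- at a closed point some global section of `L` generates, if `deg L ≥ 2g`. -/
theorem exists_mem_genLocus_of_closed (hdim : topologicalKrullDim X ≤ 1)
    (h0 : Module.finrank k (Coh.HH X (Coh.structureModule X) 0) = 1)
    {L : X.Modules} (hL : PicF.IsInvertible L)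
    (hdeg : 2 * (Curv2.genus k X : ℤ) ≤ Curv2.deg k X L 1) (x : X)
    (hxc : IsClosed ({x} : Set X)) :
    ∃ m : Γ(L, ⊤), x ∈ CohB1.genLocus L (InvAmple.globalHom L m) := by
  by_contra hcon
  push Not at hcon
  haveI := isNoetherian_of_isProper k X
  have hE := isFinLocFreeOfRank_one_of_isInvertible hL
  let Zc : Closeds X := ⟨{x}, hxc⟩
  let Z : X.IdealSheafData := Scheme.IdealSheafData.vanishingIdeal Zc
  have hsupp : (Z.support : Set X) = {x} := Scheme.IdealSheafData.coe_support_vanishingIdeal Zc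
  have hZ : topologicalKrullDim (Z.support : Set X) ≤ 0 := by
    rw [hsupp]
    exact topologicalKrullDim_singleton_le_zero x
  have hS := shortExact_ideal Z
  have hS' := shortExact_twE hE _ hS
  -- sections of `L` all come from `I ⊗ L`
  have hsec : ∀ m : Γ(L, ⊤), ∃ n : Γ(CohB1.tensorMod (ClSub.idealMod Z) L, ⊤),
      (unitorL L).hom.app ⊤ (((twR L).map (ClSub.idealModι Z)).app ⊤ n) = m := by
    intro m
    have hC : ((twR L).map (ClSub.toSubscheme Z)).app ⊤ ((unitorL L).inv.app ⊤ m) = 0 := by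
      apply ModBasis.eq_zero_of_locally_zero
      intro y' _
      obtain ⟨U, e, hU, hy'U, -, hg⟩ := exists_affine_isGen_le hL y' ⊤ trivial
      refine ⟨U, le_top, hy'U, ?_⟩
      obtain ⟨a, ha⟩ := hg.self.exists_coord (res L (le_top : U ≤ ⊤) m)
      have hbo : CohB1.genLocus L (InvAmple.globalHom L m) ⊓ U = X.basicOpen a :=
        genLocus_inf_eq_basicOpen _ hg a (by rw [InvAmple.sec_globalHom, ha])
      have hxa : x ∉ X.basicOpen a := fun hx => hcon m ((hbo.symm ▸ hx : x ∈ _ ⊓ U).1)
      have haZ : a ∈ Z.ideal ⟨U, hU⟩ := by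
        change a ∈ (Scheme.IdealSheafData.vanishingIdeal Zc).ideal ⟨U, hU⟩
        rw [Scheme.IdealSheafData.vanishingIdeal_ideal, PrimeSpectrum.mem_vanishingIdeal]
        intro q hq
        by_contra haq
        apply hxa
        have hq' : hU.fromSpec q = x := hq
        have h1 : q ∈ hU.fromSpec ⁻¹ᵁ X.basicOpen a := by
          rw [hU.fromSpec_preimage_basicOpen]
          exact haq
        rw [← hq']
        exact h1
      have hq : (ClSub.toSubscheme Z).app U (ofFun U a) = 0 := by
        have h2 : a ∈ RingHom.ker (Z.subschemeι.app U).hom := by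
          rw [Z.ker_subschemeι_app ⟨U, hU⟩]
          exact haZ
        exact h2
      have e1 : res (CohB1.tensorMod (Coh.structureModule X) L) (le_top : U ≤ ⊤)
          ((unitorL L).inv.app ⊤ m) = tm (Coh.structureModule X) L U (ofFun U a) e := by
        rw [← QCExact.app_res' (unitorL L).inv (le_top : U ≤ ⊤) m, ← ha,
          ← unitorL_hom_tm L U e a, iso_inv_hom_app]
      have e2 : ((twR L).map (ClSub.toSubscheme Z)).app U
          (tm (Coh.structureModule X) L U (ofFun U a) e) = 0 := by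
        rw [tw_app_tm, hq]
        exact tm_zero_left _ _ _ e
      have e3 := QCExact.app_res' ((twR L).map (ClSub.toSubscheme Z)) (le_top : U ≤ ⊤)
        ((unitorL L).inv.app ⊤ m)
      exact e3.symm.trans ((congrArg (((twR L).map (ClSub.toSubscheme Z)).app U) e1).trans e2)
    haveI : Mono ((ShortComplex.mk (ClSub.idealModι Z) (ClSub.toSubscheme Z)
        (kernel.condition (ClSub.toSubscheme Z))).map (twR L)).f := hS'.mono_f
    obtain ⟨n, hn⟩ := QCExact.exact_sections _ hS'.exact ⊤ ((unitorL L).inv.app ⊤ m) hC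
    refine ⟨n, ?_⟩
    have hn' : ((twR L).map (ClSub.idealModι Z)).app ⊤ n = (unitorL L).inv.app ⊤ m := hn
    rw [hn', iso_hom_inv_app]
  -- the embedding `I ⊗ L → L`
  let j1 : CohB1.tensorMod (ClSub.idealMod Z) L ⟶ CohB1.tensorMod (Coh.structureModule X) L :=
    (twR L).map (ClSub.idealModι Z)
  haveI : Mono j1 := mono_twE hE _
  let j : CohB1.tensorMod (ClSub.idealMod Z) L ⟶ L := j1 ≫ (unitorL L).hom
  haveI : Mono j := mono_comp _ _
  have hMcoh : Coh.IsCoh (CohB1.tensorMod (ClSub.idealMod Z) L) :=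
    isCoh_tensor X (isCoh_idealMod k Z) (isCoh_of_isInvertible hL)
  have hsurjH : Function.Surjective (Groth.Agent.Lib.Helper7.CohFinite.HmapL k j 0) := by
    intro w
    obtain ⟨n, hn⟩ := hsec (H0equiv L w)
    refine ⟨(H0equiv _).symm n, ?_⟩
    have h1 := H0equiv_symm_naturality j n
    have h2 : Γmap j n = H0equiv L w := hn
    change Hmap j 0 ((H0equiv _).symm n) = w
    rw [h1, h2, LinearEquiv.symm_apply_apply]
  haveI : Module.Finite k (Coh.HH X (CohB1.tensorMod (ClSub.idealMod Z) L) 0) :=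
    finite_HH k _ hMcoh 0
  have hrange := LinearMap.finrank_range_le (Groth.Agent.Lib.Helper7.CohFinite.HmapL k j 0)
  rw [LinearMap.range_eq_top.mpr hsurjH, finrank_top] at hrange
  -- numbers
  have hA : Subsingleton (Coh.HH X L 1) := h1_vanish_of_deg_ge' k hdim h0 hL (by linarith)
  have hrr := riemann_roch k hdim h0 hL
  have e1L : Module.finrank k (Coh.HH X L 1) = 0 := Module.finrank_zero_of_subsingleton
  rw [e1L] at hrr
  push_cast at hrr
  have hχ := euler_ideal_tensor k hdim h0 hL Z hZ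
  have hχ2 := euler_eq_h0_sub_h1 k hdim _ hMcoh
  have he : 0 < Module.finrank k (Coh.HH X (ClSub.quotMod Z) 0) := by
    haveI : Module.Finite k (Coh.HH X (ClSub.quotMod Z) 0) := finite_HH k _ (isCoh_quotMod Z) 0
    haveI : Nontrivial (Coh.HH X (ClSub.quotMod Z) 0) := by
      have hx : x ∈ Set.range Z.subschemeι := by
        rw [Z.range_subschemeι, hsupp]
        rfl
      obtain ⟨z, hz⟩ := hx
      have h1 : Nontrivial Γ(Z.subscheme, Z.subschemeι ⁻¹ᵁ ⊤) :=
        @Scheme.component_nontrivial Z.subscheme (Z.subschemeι ⁻¹ᵁ ⊤) ⟨⟨z, trivial⟩⟩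
      have h2 : Nontrivial (Γm (ClSub.quotMod Z)) := h1
      exact (H0equiv (ClSub.quotMod Z)).toEquiv.nontrivial
    exact Module.finrank_pos
  have h0ML : (Module.finrank k (Coh.HH X L 0) : ℤ) ≤
      (Module.finrank k (Coh.HH X (CohB1.tensorMod (ClSub.idealMod Z) L) 0) : ℤ) := by
    exact_mod_cast hrange
  have he' : (0 : ℤ) < (Module.finrank k (Coh.HH X (ClSub.quotMod Z) 0) : ℤ) := by
    exact_mod_cast he
  have h1M : (0 : ℤ) < (Module.finrank k (Coh.HH X (CohB1.tensorMod (ClSub.idealMod Z) L) 1) : ℤ) := by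
    linarith
  have h1M' : 0 < Module.finrank k (Coh.HH X (CohB1.tensorMod (ClSub.idealMod Z) L) 1) := by
    exact_mod_cast h1M
  have hnt : Nontrivial (Coh.HH X (CohB1.tensorMod (ClSub.idealMod Z) L) 1) :=
    Module.nontrivial_of_finrank_pos (R := k) h1M'
  have hle := h0_le_genus_of_h1_nontrivial_of_mono k hdim hL j hnt
  have hle' : (Module.finrank k (Coh.HH X (CohB1.tensorMod (ClSub.idealMod Z) L) 0) : ℤ) ≤
      (Curv2.genus k X : ℤ) := by exact_mod_cast hle
  linarith

/-- S1533 -/
theorem isGloballyGenerated_of_deg_ge (hdim : topologicalKrullDim X ≤ 1)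
    (h0 : Module.finrank k (Coh.HH X (Coh.structureModule X) 0) = 1)
    {L : X.Modules} (hL : PicF.IsInvertible L)
    (hdeg : 2 * (Curv2.genus k X : ℤ) ≤ Curv2.deg k X L 1) :
    Curv2.IsGloballyGenerated L := by
  haveI := isNoetherian_of_isProper k X
  apply isGloballyGenerated_of_forall_mem_genLocus hL
  intro y
  obtain ⟨x, hx, hxc⟩ := (isClosed_closure (s := ({y} : Set X))).exists_closed_singleton
    ⟨y, subset_closure rfl⟩
  obtain ⟨m, hm⟩ := exists_mem_genLocus_of_closed k hdim h0 hL hdeg x hxc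
  refine ⟨m, ?_⟩
  have hspec : y ⤳ x := specializes_iff_mem_closure.mpr hx
  exact hspec.mem_open (CohB1.genLocus L _).isOpen hm

end Groth.Agent.Lib.Helper7.CurvePair
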