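import Groth.Agent.Lib.Helper7.RankTwoC
import Groth.Agent.Lib.Helper23.StableEnd

/-!
# RankTwoD: invertible submodules of maximal degree; rank two modules on curves of genus one
-/
set_option autoImplicit false
set_option linter.style.haveILetI false
universe u
open CategoryTheory CategoryTheory.Limits AlgebraicGeometry TopologicalSpace Opposite
open Scheme.Modules

noncomputable section

namespace Groth.Agent.Lib.Helper7.RankTwo

open Groth.Agent.Lib.Helper3 Groth.Agent.Lib.Helper3.QCSec Groth.Agent.Lib.Helper3.InvGen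
  Groth.Agent.Lib.Helper3.IdealMod Groth.Agent.Lib.Helper3.InvMonoidal
  Groth.Agent.Lib.Helper3.InvTensor Groth.Agent.Lib.Helper7.TwFun
open Groth.Agent.Lib.Helper23.T2 Groth.Agent.Lib.Helper23.Curve Groth.Agent.Lib.Helper23.Twist
  Groth.Agent.Lib.Helper23.TwE Groth.Agent.Lib.Helper23.EffCart Groth.Agent.Lib.Helper23.Inverse
  Groth.Agent.Lib.Helper7.CurvePair Groth.Agent.Lib.Helper23 Groth.Agent.Lib.Helper7.PtDiv
  Groth.Agent.Lib.Helper13.SerreCrit1 Groth.Agent.Lib.Helper7.CohFinite

variable {X : Scheme.{u}}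

variable (k : Type u) [Field k] [X.Over (Spec (CommRingCat.of k))]

/-- an endomorphism which is a scalar on the underlying abelian sheaf is a scalar -/
theorem eq_smul_id_of_toSheaf {E : X.Modules} (φ : E ⟶ E) (c : k)
    (h : (SheafOfModules.toSheaf X.ringCatSheaf).map φ =
      Coh.smulAb E (Coh.toGlobal (X ↘ Spec (CommRingCat.of k)) c)) : φ = c • 𝟙 E := by
  apply (SheafOfModules.toSheaf X.ringCatSheaf).map_injective
  rw [h, KLin.smul_id]
  rfl

theorem toSheaf_smul_id {E : X.Modules} (c : k) :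
    (SheafOfModules.toSheaf X.ringCatSheaf).map (c • 𝟙 E) =
      Coh.smulAb E (Coh.toGlobal (X ↘ Spec (CommRingCat.of k)) c) := by
  rw [KLin.smul_id]
  rfl

/-- a nonzero endomorphism of square zero is not a scalar -/
theorem not_scalar_of_sq_zero {E : X.Modules} (φ : E ⟶ E) (hφ : φ ≠ 0) (h2 : φ ≫ φ = 0)
    (c : k) : φ ≠ c • 𝟙 E := by
  intro h
  by_cases hc : c = 0
  · apply hφ
    rw [h, hc, zero_smul]
  · have h3 : (c * c) • 𝟙 E = 0 := by
      rw [← h2, h, Linear.smul_comp, Linear.comp_smul, Category.comp_id, smul_smul]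
    have h4 : 𝟙 E = 0 := by
      have := congrArg (fun ψ => (c * c)⁻¹ • ψ) h3
      simp only [smul_smul, smul_zero] at this
      rwa [inv_mul_cancel₀ (mul_ne_zero hc hc), one_smul] at this
    apply hφ
    rw [← Category.comp_id φ, h4, comp_zero]

/-- an idempotent endomorphism other than `0` and `1` is not a scalar -/
theorem not_scalar_of_idempotent {E : X.Modules} (φ : E ⟶ E) (hφ0 : φ ≠ 0) (hφ1 : φ ≠ 𝟙 E)
    (h2 : φ ≫ φ = φ) (c : k) : φ ≠ c • 𝟙 E := by
  intro h
  have h3 : (c * c) • 𝟙 E = c • 𝟙 E := by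
    have h4 := h2
    rw [h] at h4
    rwa [Linear.smul_comp, Linear.comp_smul, Category.comp_id, smul_smul] at h4
  have h5 : (c * c - c) • 𝟙 E = 0 := by rw [sub_smul, h3, sub_self]
  by_cases hc : c * c - c = 0
  · have hc' : c * (c - 1) = 0 := by rw [← hc]; ring
    rcases mul_eq_zero.mp hc' with h0 | h1
    · apply hφ0
      rw [h, h0, zero_smul]
    · apply hφ1
      rw [h, sub_eq_zero.mp h1, one_smul]
  · have h4 : 𝟙 E = 0 := by
      have := congrArg (fun ψ => (c * c - c)⁻¹ • ψ) h5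
      simp only [smul_smul, smul_zero] at this
      rwa [inv_mul_cancel₀ hc, one_smul] at this
    apply hφ0
    rw [← Category.comp_id φ, h4, comp_zero]

variable [IsProper (X ↘ Spec (CommRingCat.of k))] [IsIntegral X]

/-- an invertible submodule of maximal degree of an indecomposable rank two module -/
theorem exists_max_sub [IsAlgClosed k] [Smooth (X ↘ Spec (CommRingCat.of k))]
    (hdim : topologicalKrullDim X = 1)
    (hreg : ∀ x : X, IsRegularLocalRing (X.presheaf.stalk x)) {E : X.Modules}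
    (hE : FlatMod.IsFinLocFreeOfRank 2 E)
    (hind : ∀ (E₁ E₂ : X.Modules), Nonempty (E ≅ E₁ ⊞ E₂) → IsZero E₁ ∨ IsZero E₂) :
    ∃ (L : X.Modules) (ι : L ⟶ E), PicF.IsInvertible L ∧ Mono ι ∧
      ∀ (L' : X.Modules) (ι' : L' ⟶ E), PicF.IsInvertible L' → Mono ι' →
        Curv2.deg k X L' 1 ≤ Curv2.deg k X L 1 := by
  let P : ℤ → Prop := fun n => ∃ (L : X.Modules) (ι : L ⟶ E), PicF.IsInvertible L ∧ Mono ι ∧
    Curv2.deg k X L 1 = n
  have hbdd : ∃ b : ℤ, ∀ z : ℤ, P z → z ≤ b := by
    refine ⟨(Curv2.deg k X E 2 + 2 * (Curv2.genus k X : ℤ) - 2) / 2, ?_⟩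
    rintro z ⟨L, ι, hL, hι, rfl⟩
    haveI := hι
    have := two_mul_deg_le_of_indecomposable k hdim.le hE hind hL ι
    omega
  have hne : ∃ z : ℤ, P z := by
    obtain ⟨L, ι, hL, hι, -⟩ := exists_invertible_sub_deg_ge k hdim hreg hE
    exact ⟨_, L, ι, hL, hι, rfl⟩
  obtain ⟨ub, ⟨L, ι, hL, hι, hdL⟩, hmax⟩ := Int.exists_greatest_of_bdd hbdd hne
  refine ⟨L, ι, hL, hι, fun L' ι' hL' hι' => ?_⟩
  rw [hdL]
  exact hmax _ ⟨L', ι', hL', hι', rfl⟩

/-- twisting by the inverse of an invertible submodule of maximal degree gives a normalized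
module -/
theorem normalized_of_max_sub [IsAlgClosed k] [Smooth (X ↘ Spec (CommRingCat.of k))]
    (hdim : topologicalKrullDim X = 1) {E L N : X.Modules}
    (hE : FlatMod.IsFinLocFreeOfRank 2 E) (hL : PicF.IsInvertible L) (hN : PicF.IsInvertible N)
    (e : CohB1.tensorMod L N ≅ Coh.structureModule X) (ι : L ⟶ E) [Mono ι]
    (hmax : ∀ (L' : X.Modules) (ι' : L' ⟶ E), PicF.IsInvertible L' → Mono ι' →
        Curv2.deg k X L' 1 ≤ Curv2.deg k X L 1) :
    Nontrivial (Coh.HH X (CohB1.tensorMod E N) 0) ∧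
    ∀ M : X.Modules, PicF.IsInvertible M → Curv2.deg k X M 1 < 0 →
      Subsingleton (Coh.HH X (CohB1.tensorMod (CohB1.tensorMod E N) M) 0) := by
  haveI := isNoetherian_of_isProper k X
  have h0 := GeomH0.finrank_H0_eq_one_of_isAlgClosed k X
  have hdN := DegTensor.deg_of_isInverseOf k hdim.le hL hN ⟨e⟩
  constructor
  · let j : CohB1.tensorMod L N ⟶ CohB1.tensorMod E N := (twR N).map ι
    haveI : Mono j := mono_tw hN ι
    have hinj := HmapL_injective_of_mono k j
    haveI : Nontrivial (Coh.HH X (Coh.structureModule X) 0) :=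
      Module.nontrivial_of_finrank_pos (R := k) (by omega)
    haveI : Nontrivial (Coh.HH X (CohB1.tensorMod L N) 0) :=
      (FBC.HmapEquivK k e 0).toEquiv.nontrivial
    exact hinj.nontrivial
  · intro M hM hdM
    by_contra hns
    rw [not_subsingleton_iff_nontrivial] at hns
    haveI := hns
    have hNM := isInvertible_tensorMod hN hM
    haveI : Nontrivial (Coh.HH X (CohB1.tensorMod E (CohB1.tensorMod N M)) 0) :=
      (FBC.HmapEquivK k (assoc E N M).symm 0).toEquiv.nontrivial
    have hEN' := isFinLocFreeOfRank_tensor hNM hE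
    obtain ⟨x, hx⟩ := exists_ne (0 : Coh.HH X (CohB1.tensorMod E (CohB1.tensorMod N M)) 0)
    have hm0 : H0equiv _ x ≠ 0 :=
      fun h => hx ((H0equiv _).injective (h.trans (map_zero _).symm))
    have hs := globalHom_ne_zero _ (H0equiv _ x) hm0
    have hO1 := isFinLocFreeOfRank_one_of_isInvertible (isInvertible_structureModule X)
    obtain ⟨a, b, -, -, hab, -, hb0, ha0, -, -⟩ := VBMaps.map_analysis k hdim.le hO1 hEN'
      (InvAmple.globalHom _ (H0equiv _ x))
    have hb : b ≠ 0 := fun h => hs (hb0 h)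
    have ha : a = 0 := by omega
    haveI : Mono (InvAmple.globalHom (CohB1.tensorMod E (CohB1.tensorMod N M)) (H0equiv _ x)) :=
      (ha0 ha).1
    obtain ⟨L'', hL'', hinv⟩ := exists_isInverseOf hNM
    have hdL'' := DegTensor.deg_of_isInverseOf k hdim.le hNM hL'' hinv
    obtain ⟨e''⟩ := hinv
    obtain ⟨ι'', hι''⟩ := exists_mono_of_twisted_section hL'' e''
      (InvAmple.globalHom (CohB1.tensorMod E (CohB1.tensorMod N M)) (H0equiv _ x))
    have h5 := hmax L'' ι'' hL'' hι''
    have hdNM := DegTensor.deg_tw k hdim.le (isFinLocFreeOfRank_one_of_isInvertible hN) hM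
    rw [hdL'', hdNM, hdN] at h5
    push_cast at h5
    linarith

/-- an indecomposable rank two module on a curve of genus one is semistable -/
theorem semistable_of_indecomposable_genus_one [IsAlgClosed k]
    [Smooth (X ↘ Spec (CommRingCat.of k))] (hdim : topologicalKrullDim X = 1)
    (hg : Curv2.genus k X = 1) {E : X.Modules} (hE : FlatMod.IsFinLocFreeOfRank 2 E)
    (hind : ∀ (E₁ E₂ : X.Modules), Nonempty (E ≅ E₁ ⊞ E₂) → IsZero E₁ ∨ IsZero E₂)
    (F : X.Modules) (r' : ℕ) (i : F ⟶ E) (hi : Mono i) (hr' : 0 < r')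
    (hF : FlatMod.IsFinLocFreeOfRank r' F) :
    Curv2.deg k X F r' * (2 : ℤ) ≤ Curv2.deg k X E 2 * (r' : ℤ) := by
  haveI := hi
  haveI : Nonempty X := inferInstance
  have hle : r' ≤ 2 := VBMaps.rank_le_of_mono hF hE i
  interval_cases r'
  · have hFinv := HiggsInv.isInvertible_of_rank_one hF
    have h := two_mul_deg_le_of_indecomposable k hdim.le hE hind hFinv i
    rw [hg] at h
    push_cast at h ⊢
    linarith
  · have h3 := (VBMaps.deg_le_of_mono_same_rank k hdim.le hF hE i).1
    push_cast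
    linarith

/-- an indecomposable rank two module of even degree on a curve of genus one is a self-extension
of an invertible module -/
theorem exists_selfext_of_indecomposable_even [IsAlgClosed k]
    [Smooth (X ↘ Spec (CommRingCat.of k))] (hdim : topologicalKrullDim X = 1)
    (hreg : ∀ x : X, IsRegularLocalRing (X.presheaf.stalk x))
    (hg : Curv2.genus k X = 1) {E : X.Modules} (hE : FlatMod.IsFinLocFreeOfRank 2 E)
    (hind : ∀ (E₁ E₂ : X.Modules), Nonempty (E ≅ E₁ ⊞ E₂) → IsZero E₁ ∨ IsZero E₂)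
    (heven : Even (Curv2.deg k X E 2)) :
    ∃ (M : X.Modules) (i : M ⟶ E) (q : E ⟶ M) (w : i ≫ q = 0), PicF.IsInvertible M ∧
      (ShortComplex.mk i q w).ShortExact := by
  haveI := isNoetherian_of_isProper k X
  haveI : Nonempty X := inferInstance
  have h0 := GeomH0.finrank_H0_eq_one_of_isAlgClosed k X
  obtain ⟨L, ι, hL, hι, hmax⟩ := exists_max_sub k hdim hreg hE hind
  haveI := hι
  obtain ⟨N, hN, hLN⟩ := exists_isInverseOf hL
  have hdN := DegTensor.deg_of_isInverseOf k hdim.le hL hN hLN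
  obtain ⟨e⟩ := hLN
  obtain ⟨hnt, hneg⟩ := normalized_of_max_sub k hdim hE hL hN e ι hmax
  have hEN := isFinLocFreeOfRank_tensor hN hE
  have hdEN := DegTensor.deg_tw k hdim.le hE hN
  have hup : Curv2.deg k X (CohB1.tensorMod E N) 2 ≤ 1 := by
    by_contra hlt
    push Not at hlt
    have hcoh := isCoh_of_isFinLocFreeOfRank hEN
    have hχ := euler_eq_h0_sub_h1 k hdim.le _ hcoh
    have hO := euler_structureModule k hdim.le h0
    have hχ2 : Curv2.euler k X (CohB1.tensorMod E N) =
        Curv2.deg k X (CohB1.tensorMod E N) 2 +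
          2 * Curv2.euler k X (Coh.structureModule X) := by
      unfold Curv2.deg
      push_cast
      ring
    rw [hO, hg] at hχ2
    rw [hχ2] at hχ
    push_cast at hχ
    have hnn : (0 : ℤ) ≤ (Module.finrank k (Coh.HH X (CohB1.tensorMod E N) 1) : ℤ) :=
      Int.natCast_nonneg _
    have h2 : 2 ≤ Module.finrank k (Coh.HH X (CohB1.tensorMod E N) 0) := by
      have : (2 : ℤ) ≤ (Module.finrank k (Coh.HH X (CohB1.tensorMod E N) 0) : ℤ) := by linarith
      exact_mod_cast this
    have h3 := deg_eq_zero_of_two_le_h0 k hdim hreg hEN hneg h2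
    omega
  have hlow := two_mul_deg_le_of_indecomposable k hdim.le hE hind hL ι
  rw [hg] at hlow
  push_cast at hlow
  have hdeq : Curv2.deg k X E 2 = 2 * Curv2.deg k X L 1 := by
    rw [hdEN, hdN] at hup
    push_cast at hup
    obtain ⟨c, hc⟩ := heven
    omega
  have hL1 := isFinLocFreeOfRank_one_of_isInvertible hL
  obtain ⟨G', C', i', p, w, u, c, hS, hui, hG', hC', hrank, hdle, hdE, -⟩ :=
    Sat.exists_saturation k hdim.le hL1 hE ι
  have hc : c = 1 := by omega
  subst hc
  have hG'inv := HiggsInv.isInvertible_of_rank_one hG'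
  have hC'inv := HiggsInv.isInvertible_of_rank_one hC'
  haveI : Mono i' := hS.mono_f
  have hG'le := hmax G' i' hG'inv inferInstance
  have hdG' : Curv2.deg k X G' 1 = Curv2.deg k X L 1 := le_antisymm hG'le hdle
  have hdC' : Curv2.deg k X C' 1 = Curv2.deg k X G' 1 := by linarith
  obtain ⟨N', hN', hCN⟩ := exists_isInverseOf hC'inv
  have hdN' := DegTensor.deg_of_isInverseOf k hdim.le hC'inv hN' hCN
  obtain ⟨e'⟩ := hCN
  have hGN := isInvertible_tensorMod hG'inv hN'
  have hdGN := DegTensor.deg_tw k hdim.le (isFinLocFreeOfRank_one_of_isInvertible hG'inv) hN'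
  have h1 : Nontrivial (Coh.HH X (CohB1.tensorMod G' N') 1) := by
    by_contra hns
    rw [not_nontrivial_iff_subsingleton] at hns
    obtain ⟨iso⟩ := exists_iso_biprod_of_h1 i' p w hS hN' e' hns
    rcases hind _ _ ⟨iso⟩ with hz | hz
    · exact not_isZero_of_isInvertible
        (isInvertible_tensorMod (isInvertible_tensorMod hG'inv hN') hC'inv) hz
    · exact not_isZero_of_isInvertible
        (isInvertible_tensorMod (isInvertible_tensorMod hC'inv hN') hC'inv) hz
  have hrr := riemann_roch k hdim.le h0 hGN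
  rw [hdGN, hdN', hg] at hrr
  push_cast at hrr
  haveI : Module.Finite k (Coh.HH X (CohB1.tensorMod G' N') 1) :=
    finite_HH k _ (isCoh_of_isInvertible hGN) 1
  haveI : Module.Finite k (Coh.HH X (CohB1.tensorMod G' N') 0) :=
    finite_HH k _ (isCoh_of_isInvertible hGN) 0
  have hpos1 : 0 < Module.finrank k (Coh.HH X (CohB1.tensorMod G' N') 1) := Module.finrank_pos
  have hpos0 : 0 < Module.finrank k (Coh.HH X (CohB1.tensorMod G' N') 0) := by
    have : (0 : ℤ) < (Module.finrank k (Coh.HH X (CohB1.tensorMod G' N') 0) : ℤ) := by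
      have hp : (0 : ℤ) < (Module.finrank k (Coh.HH X (CohB1.tensorMod G' N') 1) : ℤ) := by
        exact_mod_cast hpos1
      linarith
    exact_mod_cast this
  haveI : Nontrivial (Coh.HH X (CohB1.tensorMod G' N') 0) :=
    Module.nontrivial_of_finrank_pos (R := k) hpos0
  obtain ⟨x, hx⟩ := exists_ne (0 : Coh.HH X (CohB1.tensorMod G' N') 0)
  have hm0 : H0equiv _ x ≠ 0 :=
    fun h => hx ((H0equiv _).injective (h.trans (map_zero _).symm))
  have hs := globalHom_ne_zero _ (H0equiv _ x) hm0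
  obtain ⟨-, hiso⟩ := deg_le_of_map k hdim.le (isInvertible_structureModule X) hGN _ hs
  haveI := hiso (by
    rw [DegTensor.deg_structureModule_one, hdGN, hdN', hdC']
    push_cast
    ring)
  let φ : Coh.structureModule X ≅ CohB1.tensorMod G' N' :=
    asIso (InvAmple.globalHom _ (H0equiv _ x))
  let iso₁ : CohB1.tensorMod (CohB1.tensorMod G' N') C' ≅ G' :=
    cancelIso N' C' (braid N' C' ≪≫ e') G'
  let iso₂ : CohB1.tensorMod (CohB1.tensorMod G' N') C' ≅ C' :=
    (twR C').mapIso φ.symm ≪≫ unitorL C'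
  let ψ : C' ≅ G' := iso₂.symm ≪≫ iso₁
  have w' : i' ≫ (p ≫ ψ.hom) = 0 := by rw [← Category.assoc, w, zero_comp]
  refine ⟨G', i', p ≫ ψ.hom, w', hG'inv, ?_⟩
  let eS : ShortComplex.mk i' p w ≅ ShortComplex.mk i' (p ≫ ψ.hom) w' :=
    ShortComplex.isoMk (Iso.refl _) (Iso.refl _) ψ
      (by
        change 𝟙 G' ≫ i' = i' ≫ 𝟙 E
        rw [Category.id_comp, Category.comp_id])
      (by
        change 𝟙 E ≫ (p ≫ ψ.hom) = p ≫ ψ.hom
        rw [Category.id_comp])
  exact ShortComplex.shortExact_of_iso eS hS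

end Groth.Agent.Lib.Helper7.RankTwo
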