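import Groth.Agent.Lib.Helper7.PtDiv
import Groth.Agent.Lib.Helper7.CurveGG
import Groth.Agent.Lib.Helper23.PushIso
import Groth.Agent.Lib.Helper23.EffCartDeg

/-!
# PtSec: sections of an invertible module vanishing at a closed point, and `H⁰(I_P ⊗ L)`
-/
set_option autoImplicit false
set_option linter.style.haveILetI false
universe u
open CategoryTheory CategoryTheory.Limits AlgebraicGeometry TopologicalSpace Opposite
open Scheme.Modules

noncomputable section

namespace Groth.Agent.Lib.Helper7.PtDiv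

open Groth.Agent.Lib.Helper3 Groth.Agent.Lib.Helper3.QCSec Groth.Agent.Lib.Helper3.InvGen
  Groth.Agent.Lib.Helper3.IdealMod Groth.Agent.Lib.Helper3.InvMonoidal
  Groth.Agent.Lib.Helper3.InvTensor Groth.Agent.Lib.Helper7.TwFun
open Groth.Agent.Lib.Helper23.T2 Groth.Agent.Lib.Helper23.Curve Groth.Agent.Lib.Helper23.Twist
  Groth.Agent.Lib.Helper23.TwE Groth.Agent.Lib.Helper23.TensorPts Groth.Agent.Lib.Helper23.EffCart
  Groth.Agent.Lib.Helper23.Dev Groth.Agent.Lib.Helper7.CurvePair Groth.Agent.Lib.Helper23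

variable {X : Scheme.{u}}

/-- a global section of `L` which does not generate at the closed point `P` comes from
`I_P ⊗ L` -/
theorem exists_lift_of_notMem_genLocus (P : X) (hP : IsClosed ({P} : Set X)) {L : X.Modules}
    (hL : PicF.IsInvertible L) (m : Γ(L, ⊤))
    (hm : P ∉ CohB1.genLocus L (InvAmple.globalHom L m)) :
    ∃ n : Γ(CohB1.tensorMod (ClSub.idealMod
        (Scheme.IdealSheafData.vanishingIdeal ⟨{P}, hP⟩)) L, ⊤),
      (jmap (Scheme.IdealSheafData.vanishingIdeal ⟨{P}, hP⟩) L).app ⊤ n = m := by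
  have hE := isFinLocFreeOfRank_one_of_isInvertible hL
  let Zc : Closeds X := ⟨{P}, hP⟩
  let Z : X.IdealSheafData := Scheme.IdealSheafData.vanishingIdeal Zc
  have hS := shortExact_ideal Z
  have hS' := shortExact_twE hE _ hS
  have hC : ((twR L).map (ClSub.toSubscheme Z)).app ⊤ ((unitorL L).inv.app ⊤ m) = 0 := by
    apply ModBasis.eq_zero_of_locally_zero
    intro y' _
    obtain ⟨U, e, hU, hy'U, -, hg⟩ := exists_affine_isGen_le hL y' ⊤ trivial
    refine ⟨U, le_top, hy'U, ?_⟩
    obtain ⟨a, ha⟩ := hg.self.exists_coord (res L (le_top : U ≤ ⊤) m)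
    have hbo : CohB1.genLocus L (InvAmple.globalHom L m) ⊓ U = X.basicOpen a :=
      genLocus_inf_eq_basicOpen _ hg a (by rw [InvAmple.sec_globalHom, ha])
    have hxa : P ∉ X.basicOpen a := fun hx => hm ((hbo.symm ▸ hx : P ∈ _ ⊓ U).1)
    have haZ : a ∈ Z.ideal ⟨U, hU⟩ := by
      change a ∈ (Scheme.IdealSheafData.vanishingIdeal Zc).ideal ⟨U, hU⟩
      rw [Scheme.IdealSheafData.vanishingIdeal_ideal, PrimeSpectrum.mem_vanishingIdeal]
      intro q hq
      by_contra haq
      apply hxa
      have hq' : hU.fromSpec q = P := hq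
      have h1 : q ∈ hU.fromSpec ⁻¹ᵁ X.basicOpen a := by
        rw [hU.fromSpec_preimage_basicOpen]
        exact haq
      rw [← hq']
      exact h1
    have hq : (ClSub.toSubscheme Z).app U (ofFun U a) = 0 := by
      have h2 : a ∈ RingHom.ker (Z.subschemeι.app U).hom := by
        rw [Z.ker_subschemeι_app ⟨U, hU⟩]
        exact haZ
      exact h2
    have e1 : res (CohB1.tensorMod (Coh.structureModule X) L) (le_top : U ≤ ⊤)
        ((unitorL L).inv.app ⊤ m) = tm (Coh.structureModule X) L U (ofFun U a) e := by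
      rw [← QCExact.app_res' (unitorL L).inv (le_top : U ≤ ⊤) m, ← ha,
        ← unitorL_hom_tm L U e a, iso_inv_hom_app]
    have e2 : ((twR L).map (ClSub.toSubscheme Z)).app U
        (tm (Coh.structureModule X) L U (ofFun U a) e) = 0 := by
      rw [tw_app_tm, hq]
      exact tm_zero_left _ _ _ e
    have e3 := QCExact.app_res' ((twR L).map (ClSub.toSubscheme Z)) (le_top : U ≤ ⊤)
      ((unitorL L).inv.app ⊤ m)
    exact e3.symm.trans ((congrArg (((twR L).map (ClSub.toSubscheme Z)).app U) e1).trans e2)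
  haveI : Mono ((ShortComplex.mk (ClSub.idealModι Z) (ClSub.toSubscheme Z)
      (kernel.condition (ClSub.toSubscheme Z))).map (twR L)).f := hS'.mono_f
  obtain ⟨n, hn⟩ := QCExact.exact_sections _ hS'.exact ⊤ ((unitorL L).inv.app ⊤ m) hC
  refine ⟨n, ?_⟩
  have hn' : ((twR L).map (ClSub.idealModι Z)).app ⊤ n = (unitorL L).inv.app ⊤ m := hn
  change (unitorL L).hom.app ⊤ (((twR L).map (ClSub.idealModι Z)).app ⊤ n) = m
  rw [hn', iso_hom_inv_app]

/-- the image in `L` of a section of `I ⊗ L` generates at no point of the support of `I` -/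
theorem notMem_genLocus_jmap (I : X.IdealSheafData) (P : X) (hPI : P ∈ I.support)
    {L : X.Modules} (hL : PicF.IsInvertible L)
    (n : Γ(CohB1.tensorMod (ClSub.idealMod I) L, ⊤)) :
    P ∉ CohB1.genLocus L (InvAmple.globalHom L ((jmap I L).app ⊤ n)) := by
  intro hmem
  obtain ⟨W, hPW, hW⟩ := (mem_genLocus_iff _ P).mp hmem
  obtain ⟨U, e, hU, hPU, hUW, hg⟩ := exists_affine_isGen_le hL P W hPW
  obtain ⟨t, ht⟩ := tm_gen_surjective (ClSub.idealMod I) L hg U le_rfl
    (res _ (le_top : U ≤ ⊤) n)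
  dsimp only at ht
  rw [res_self] at ht
  have hj : res L (le_top : U ≤ ⊤) ((jmap I L).app ⊤ n) = val I t • e := by
    rw [← QCExact.app_res', ← ht, jmap_tm]
  have hgm : IsGenAt L U (res L (le_top : U ≤ ⊤) ((jmap I L).app ⊤ n)) := by
    have h1 := hW U hUW
    rwa [res_sec, InvAmple.sec_globalHom] at h1
  obtain ⟨a, ha⟩ := hgm.exists_coord e
  rw [hj, smul_smul] at ha
  have h2 : a * val I t = 1 := hg.self.smul_inj (by rw [ha, one_smul])
  have hu : IsUnit (val I t) := IsUnit.of_mul_eq_one a (by rw [mul_comm]; exact h2)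
  have hb := disjoint_basicOpen_val I t
  have hPb : P ∈ X.basicOpen (val I t) := by
    rw [X.basicOpen_of_isUnit hu]
    exact hPU
  exact Set.disjoint_left.mp hb hPb hPI

variable (k : Type u) [Field k] [X.Over (Spec (CommRingCat.of k))]

set_option backward.isDefEq.respectTransparency false in
theorem HmapL_injective_of_mono {M N : X.Modules} (φ : M ⟶ N) [Mono φ] :
    Function.Injective (Groth.Agent.Lib.Helper7.CohFinite.HmapL k φ 0) := by
  intro x y hxy
  have h1 : Hmap φ 0 x = Hmap φ 0 y := hxy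
  have h2 := congrArg (H0equiv N) h1
  rw [H0equiv_naturality, H0equiv_naturality] at h2
  have h3 : φ.app ⊤ (H0equiv M x) = φ.app ⊤ (H0equiv M y) := h2
  exact (H0equiv M).injective (QCExact.injective_sections φ ⊤ h3)

set_option backward.isDefEq.respectTransparency false in
theorem HmapL_surjective_of_sections {M N : X.Modules} (φ : M ⟶ N)
    (h : ∀ m : Γ(N, ⊤), ∃ n : Γ(M, ⊤), φ.app ⊤ n = m) :
    Function.Surjective (Groth.Agent.Lib.Helper7.CohFinite.HmapL k φ 0) := by
  intro w
  obtain ⟨n, hn⟩ := h (H0equiv N w)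
  refine ⟨(H0equiv M).symm n, ?_⟩
  have h1 := H0equiv_symm_naturality φ n
  have h2 : Γmap φ n = H0equiv N w := hn
  change Hmap φ 0 ((H0equiv M).symm n) = w
  rw [h1, h2, LinearEquiv.symm_apply_apply]

set_option backward.isDefEq.respectTransparency false in
theorem exists_section_of_mem_range_HmapL {M N : X.Modules} (φ : M ⟶ N) (m : Γ(N, ⊤))
    (h : (H0equiv N).symm m ∈ LinearMap.range (Groth.Agent.Lib.Helper7.CohFinite.HmapL k φ 0)) :
    ∃ n : Γ(M, ⊤), φ.app ⊤ n = m := by
  obtain ⟨y, hy⟩ := h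
  have h1 : Hmap φ 0 y = (H0equiv N).symm m := hy
  have h2 := congrArg (H0equiv N) h1
  rw [H0equiv_naturality, LinearEquiv.apply_symm_apply] at h2
  exact ⟨H0equiv M y, h2⟩

variable [IsProper (X ↘ Spec (CommRingCat.of k))] [IsIntegral X]

/-- `h⁰(L) ≤ h⁰(I_Z ⊗ L) + h⁰(O_Z)` for `Z` supported at finitely many closed points -/
theorem h0_le_h0_ideal_tensor_add {L : X.Modules} (hL : PicF.IsInvertible L)
    (Z : X.IdealSheafData) (hfin : (Z.support : Set X).Finite)
    (hpt : ∀ z ∈ (Z.support : Set X), IsClosed ({z} : Set X)) :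
    Module.finrank k (Coh.HH X L 0) ≤
      Module.finrank k (Coh.HH X (CohB1.tensorMod (ClSub.idealMod Z) L) 0) +
        Module.finrank k (Coh.HH X (ClSub.quotMod Z) 0) := by
  haveI := isNoetherian_of_isProper k X
  have hE := isFinLocFreeOfRank_one_of_isInvertible hL
  have hQcoh : Coh.IsCoh (ClSub.quotMod Z) := isCoh_quotMod Z
  have hIcoh : Coh.IsCoh (ClSub.idealMod Z) := isCoh_idealMod k Z
  have hLcoh := isCoh_of_isInvertible hL
  have hOcoh : Coh.IsCoh (Coh.structureModule X) :=
    Groth.Agent.Lib.Helper23.T2.isCoh_structureModule X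
  have hvan : ∀ V : X.Opens, Disjoint (V : Set X) (Z.support : Set X) →
      ∀ t : Γ(ClSub.quotMod Z, V), t = 0 := fun V hV t => quotMod_eq_zero_of_disjoint Z V hV t
  let D : X.Opens := ⟨(Z.support : Set X)ᶜ, Z.support.isClosed.isOpen_compl⟩
  have hFD : ∀ V : X.Opens, V ≤ D → ∀ t : Γ(ClSub.quotMod Z, V), t = 0 := by
    intro V hV t
    apply hvan V _ t
    rw [Set.disjoint_left]
    intro p hp hpZ
    exact hV hp hpZ
  have hT := Groth.Agent.Lib.Helper23.TmBasis.tensor_eq_zero_of_vanishes (ClSub.quotMod Z) L D hFD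
  have hle : ∀ V : X.Opens, Disjoint (V : Set X) (Z.support : Set X) → V ≤ D := by
    intro V hV p hp
    exact Set.disjoint_left.mp hV hp
  have hflQ : IsFlq (ClSub.quotMod Z) := isFlq_of_vanishing_off_finite _ _ hfin hpt hvan
  have hflT : IsFlq (CohB1.tensorMod (ClSub.quotMod Z) L) :=
    isFlq_of_vanishing_off_finite _ _ hfin hpt (fun V hV t => hT V (hle V hV) t)
  have hTcoh : Coh.IsCoh (CohB1.tensorMod (ClSub.quotMod Z) L) := isCoh_tensor X hQcoh hLcoh
  have hMcoh : Coh.IsCoh (CohB1.tensorMod (ClSub.idealMod Z) L) := isCoh_tensor X hIcoh hLcoh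
  have hOLcoh : Coh.IsCoh (CohB1.tensorMod (Coh.structureModule X) L) :=
    isCoh_tensor X hOcoh hLcoh
  have h3 := euler_tensor_of_vanishing k X _ hQcoh _ Z.support.isClosed hfin hpt hvan 1 L hE
  rw [euler_eq_finrank_of_isFlq k X _ hTcoh hflT, euler_eq_finrank_of_isFlq k X _ hQcoh hflQ]
    at h3
  have h3' : Module.finrank k (Coh.HH X (CohB1.tensorMod (ClSub.quotMod Z) L) 0) =
      Module.finrank k (Coh.HH X (ClSub.quotMod Z) 0) := by
    have : (Module.finrank k (Coh.HH X (CohB1.tensorMod (ClSub.quotMod Z) L) 0) : ℤ) =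
        (Module.finrank k (Coh.HH X (ClSub.quotMod Z) 0) : ℤ) := by
      rw [h3]; push_cast; ring
    exact_mod_cast this
  have hS := shortExact_ideal Z
  have hS' := shortExact_twE hE _ hS
  let f : Coh.HH X (CohB1.tensorMod (ClSub.idealMod Z) L) 0 →ₗ[k]
      Coh.HH X (CohB1.tensorMod (Coh.structureModule X) L) 0 :=
    Groth.Agent.Lib.Helper7.CohFinite.HmapL k ((twR L).map (ClSub.idealModι Z)) 0
  let g : Coh.HH X (CohB1.tensorMod (Coh.structureModule X) L) 0 →ₗ[k]
      Coh.HH X (CohB1.tensorMod (ClSub.quotMod Z) L) 0 :=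
    Groth.Agent.Lib.Helper7.CohFinite.HmapL k ((twR L).map (ClSub.toSubscheme Z)) 0
  have hex : LinearMap.ker g ≤ LinearMap.range f := by
    intro x hx
    obtain ⟨y, hy⟩ := Groth.Agent.Lib.Helper7.CohFinite.exact_mid k _ hS' 0 x hx
    exact ⟨y, hy⟩
  haveI : Module.Finite k (Coh.HH X (CohB1.tensorMod (ClSub.idealMod Z) L) 0) :=
    finite_HH k _ hMcoh 0
  haveI : Module.Finite k (Coh.HH X (CohB1.tensorMod (Coh.structureModule X) L) 0) :=
    finite_HH k _ hOLcoh 0
  haveI : Module.Finite k (Coh.HH X (CohB1.tensorMod (ClSub.quotMod Z) L) 0) :=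
    finite_HH k _ hTcoh 0
  have h5 := LinearMap.finrank_range_add_finrank_ker g
  have h6 : Module.finrank k (LinearMap.ker g) ≤ Module.finrank k (LinearMap.range f) :=
    Submodule.finrank_mono hex
  have h7 := LinearMap.finrank_range_le f
  have h8 : Module.finrank k (LinearMap.range g) ≤
      Module.finrank k (Coh.HH X (CohB1.tensorMod (ClSub.quotMod Z) L) 0) :=
    Submodule.finrank_le _
  have h9 := (FBC.HmapEquivK k (unitorL L) 0).finrank_eq
  omega

/-- the structure sheaf of the image of a section has `h⁰ = 1` -/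
theorem finrank_h0_quotMod_ker_of_section (x : Spec (CommRingCat.of k) ⟶ X)
    (hx : x ≫ (X ↘ Spec (CommRingCat.of k)) = 𝟙 _) :
    Module.finrank k (Coh.HH X (ClSub.quotMod x.ker) 0) = 1 := by
  haveI : IsNoetherian X := isNoetherian_of_isProper k X
  haveI : IsClosedImmersion x := by
    haveI : IsClosedImmersion (x ≫ (X ↘ Spec (CommRingCat.of k))) := by rw [hx]; infer_instance
    exact IsClosedImmersion.of_comp x (X ↘ Spec (CommRingCat.of k))
  letI : x.ker.subscheme.Over (Spec (CommRingCat.of k)) :=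
    ⟨x.ker.subschemeι ≫ (X ↘ Spec (CommRingCat.of k))⟩
  haveI : IsProper (x.ker.subscheme ↘ Spec (CommRingCat.of k)) := by
    show IsProper (x.ker.subschemeι ≫ (X ↘ Spec (CommRingCat.of k)))
    infer_instance
  haveI : (Coh.structureModule x.ker.subscheme).IsQuasicoherent :=
    (isCoh_structureModule _).1
  obtain ⟨e⟩ := Groth.Agent.Lib.Helper23.PushIso.nonempty_equiv x.ker.subschemeι k rfl
    (fun V hV => Groth.Agent.Lib.Helper23.FBC.isAffineHom_ι_of_isSeparated k V hV) 0
    (Coh.structureModule x.ker.subscheme)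
  rw [← e.finrank_eq]
  haveI : Nonempty x.ker.subscheme := ⟨x.toImage default⟩
  haveI : IsIntegral x.ker.subscheme := isIntegral_of_isOpenImmersion (inv x.toImage)
  refine finrank_H0_eq_one_of_section k x.toImage ?_
  show x.toImage ≫ (x.imageι ≫ (X ↘ Spec (CommRingCat.of k))) = 𝟙 _
  rw [← Category.assoc, x.toImage_imageι]
  exact hx

/-- over an algebraically closed field, the structure sheaf of a reduced closed point has
`h⁰ = 1` -/
theorem finrank_h0_quotMod_closedPoint [IsAlgClosed k] (P : X) (hP : IsClosed ({P} : Set X)) :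
    Module.finrank k (Coh.HH X
      (ClSub.quotMod (Scheme.IdealSheafData.vanishingIdeal ⟨{P}, hP⟩)) 0) = 1 := by
  have hx : pointOfClosedPoint (X ↘ Spec (CommRingCat.of k)) P hP ≫
      (X ↘ Spec (CommRingCat.of k)) = 𝟙 _ := pointOfClosedPoint_comp _ P hP
  have hr : Set.range (pointOfClosedPoint (X ↘ Spec (CommRingCat.of k)) P hP) = {P} := by
    ext z
    constructor
    · rintro ⟨a, rfl⟩
      exact pointOfClosedPoint_apply _ P hP a
    · intro hz
      exact ⟨default, (pointOfClosedPoint_apply _ P hP default).trans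
        (Set.mem_singleton_iff.mp hz).symm⟩
  rw [← ker_eq_vanishingIdeal_of_range _ P hP hr]
  exact finrank_h0_quotMod_ker_of_section k _ hx

/-- if some global section of `L` generates at the closed point `P`, then
`h⁰(I_P ⊗ L) + 1 = h⁰(L)` -/
theorem h0_ideal_tensor_add_one [IsAlgClosed k] {L : X.Modules} (hL : PicF.IsInvertible L)
    (P : X) (hP : IsClosed ({P} : Set X)) (m : Γ(L, ⊤))
    (hm : P ∈ CohB1.genLocus L (InvAmple.globalHom L m)) :
    Module.finrank k (Coh.HH X (CohB1.tensorMod (ClSub.idealMod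
      (Scheme.IdealSheafData.vanishingIdeal ⟨{P}, hP⟩)) L) 0) + 1 =
      Module.finrank k (Coh.HH X L 0) := by
  haveI := isNoetherian_of_isProper k X
  have hE := isFinLocFreeOfRank_one_of_isInvertible hL
  let Zc : Closeds X := ⟨{P}, hP⟩
  let Z : X.IdealSheafData := Scheme.IdealSheafData.vanishingIdeal Zc
  have hsupp : (Z.support : Set X) = {P} := Scheme.IdealSheafData.coe_support_vanishingIdeal Zc
  have hPZ : P ∈ Z.support := by
    show P ∈ (Z.support : Set X)
    rw [hsupp]; rfl
  have hfin : (Z.support : Set X).Finite := by rw [hsupp]; exact Set.finite_singleton P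
  have hpt : ∀ z ∈ (Z.support : Set X), IsClosed ({z} : Set X) := by
    intro z hz
    rw [hsupp] at hz
    rw [Set.mem_singleton_iff.mp hz]
    exact hP
  have hnum := h0_le_h0_ideal_tensor_add k hL Z hfin hpt
  have hQ1 : Module.finrank k (Coh.HH X (ClSub.quotMod Z) 0) = 1 :=
    finrank_h0_quotMod_closedPoint k P hP
  let j1 : CohB1.tensorMod (ClSub.idealMod Z) L ⟶ CohB1.tensorMod (Coh.structureModule X) L :=
    (twR L).map (ClSub.idealModι Z)
  haveI : Mono j1 := mono_twE hE _
  haveI : Mono (jmap Z L) := by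
    show Mono (j1 ≫ (unitorL L).hom)
    exact mono_comp _ _
  have hinj := HmapL_injective_of_mono k (jmap Z L)
  have hMcoh : Coh.IsCoh (CohB1.tensorMod (ClSub.idealMod Z) L) :=
    isCoh_tensor X (isCoh_idealMod k Z) (isCoh_of_isInvertible hL)
  haveI : Module.Finite k (Coh.HH X (CohB1.tensorMod (ClSub.idealMod Z) L) 0) :=
    finite_HH k _ hMcoh 0
  haveI : Module.Finite k (Coh.HH X L 0) := finite_HH k _ (isCoh_of_isInvertible hL) 0
  have hne : LinearMap.range (Groth.Agent.Lib.Helper7.CohFinite.HmapL k (jmap Z L) 0) ≠ ⊤ := by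
    intro htop
    obtain ⟨n, hn⟩ := exists_section_of_mem_range_HmapL k (jmap Z L) m
      (by rw [htop]; exact Submodule.mem_top)
    have h1 := notMem_genLocus_jmap Z P hPZ hL n
    rw [hn] at h1
    exact h1 hm
  have hlt := Submodule.finrank_lt hne
  rw [LinearMap.finrank_range_of_inj hinj] at hlt
  change Module.finrank k (Coh.HH X (CohB1.tensorMod (ClSub.idealMod Z) L) 0) + 1 =
    Module.finrank k (Coh.HH X L 0)
  omega

/-- if `h⁰(I_P ⊗ L) < h⁰(L)` then some global section of `L` generates at `P` -/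
theorem exists_mem_genLocus_of_h0_lt {L : X.Modules} (hL : PicF.IsInvertible L)
    (P : X) (hP : IsClosed ({P} : Set X))
    (h : Module.finrank k (Coh.HH X (CohB1.tensorMod (ClSub.idealMod
      (Scheme.IdealSheafData.vanishingIdeal ⟨{P}, hP⟩)) L) 0) <
      Module.finrank k (Coh.HH X L 0)) :
    ∃ m : Γ(L, ⊤), P ∈ CohB1.genLocus L (InvAmple.globalHom L m) := by
  by_contra hcon
  push Not at hcon
  haveI := isNoetherian_of_isProper k X
  have hMcoh : Coh.IsCoh (CohB1.tensorMod (ClSub.idealMod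
      (Scheme.IdealSheafData.vanishingIdeal ⟨{P}, hP⟩)) L) :=
    isCoh_tensor X (isCoh_idealMod k _) (isCoh_of_isInvertible hL)
  haveI : Module.Finite k (Coh.HH X (CohB1.tensorMod (ClSub.idealMod
      (Scheme.IdealSheafData.vanishingIdeal ⟨{P}, hP⟩)) L) 0) := finite_HH k _ hMcoh 0
  have hsurj := HmapL_surjective_of_sections k
    (jmap (Scheme.IdealSheafData.vanishingIdeal ⟨{P}, hP⟩) L)
    (fun m => exists_lift_of_notMem_genLocus P hP hL m (hcon m))
  have hrange := LinearMap.finrank_range_le (Groth.Agent.Lib.Helper7.CohFinite.HmapL k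
    (jmap (Scheme.IdealSheafData.vanishingIdeal ⟨{P}, hP⟩) L) 0)
  rw [LinearMap.range_eq_top.mpr hsurj, finrank_top] at hrange
  omega

end Groth.Agent.Lib.Helper7.PtDiv
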