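import Groth.Agent.Lib.Helper7.RegSecAmple

/-!
# Regular sections are monomorphisms; regular sections on quasi-affine Noetherian schemes (helper7)
-/

set_option autoImplicit false
set_option linter.unusedSectionVars false
set_option linter.style.haveILetI false
universe u
open CategoryTheory CategoryTheory.Limits AlgebraicGeometry TopologicalSpace Opposite
open Scheme.Modules

noncomputable section

namespace Groth.Agent.Lib.Helper7.RegSecMono

open Groth.Agent.Lib.Helper3
open QCSec InvGen InvTensor InvMonoidal InvAmple InvCoh SubIdeal IdealMod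
open Groth.Agent.Lib.Helper7.RegSec Groth.Agent.Lib.Helper7.AssFinite

variable {X : Scheme.{u}}

/-- a regular section `O_X ⟶ M` is a monomorphism. -/
theorem mono_of_isRegSec {M : X.Modules} {s : Coh.structureModule X ⟶ M} (hreg : IsRegSec s) :
    Mono s := by
  apply Groth.Agent.Lib.Helper17.PbFlat.mono_of_injective_on_basis
  intro W x hx
  obtain ⟨U, ε, c, hU, hxU, hg, hc, hs⟩ := hreg x
  obtain ⟨f, hfle, hxf⟩ := hU.exists_basicOpen_le (V := W ⊓ U) ⟨x, hx, hxU⟩ hxU
  have hVU : X.basicOpen f ≤ U := X.basicOpen_le f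
  refine ⟨X.basicOpen f, hxf, hfle.trans inf_le_left, ?_⟩
  have hsec : sec s (X.basicOpen f) = rres X hVU c • res M hVU ε := by
    rw [← res_sec s hVU, hs, res_smul]
  have hnzd := rres_mem_nonZeroDivisors hU f hc
  intro a b hab
  have ha : s.app (X.basicOpen f) a = (toFun _ a * rres X hVU c) • res M hVU ε := by
    have := app_eq_smul_sec s (X.basicOpen f) (toFun _ a)
    rw [hsec, ← mul_smul] at this
    exact this
  have hb : s.app (X.basicOpen f) b = (toFun _ b * rres X hVU c) • res M hVU ε := by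
    have := app_eq_smul_sec s (X.basicOpen f) (toFun _ b)
    rw [hsec, ← mul_smul] at this
    exact this
  rw [ha, hb] at hab
  have h2 := (hg _ hVU).smul_inj hab
  have h3 : (toFun _ a - toFun _ b) * rres X hVU c = 0 := by rw [sub_mul, h2, sub_self]
  have h4 : toFun _ a - toFun _ b = 0 := (mem_nonZeroDivisors_iff.mp hnzd).2 _ h3
  exact sub_eq_zero.mp h4

theorem exists_section_gen_assPts [IsNoetherian X] {L : X.Modules} (hA : CohB1.IsAmple L)
    {M : X.Modules} (hM : PicF.IsInvertible M) {E : Set X} (hE : E.Finite) :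
    ∃ N₀ : ℕ, ∀ m : ℕ, N₀ ≤ m →
      ∃ s : Coh.structureModule X ⟶ CohB1.tensorMod M (CohB1.tensorPow L m),
        (∀ y ∈ assPts X, y ∈ CohB1.genLocus _ s) ∧ ∀ x ∈ E, x ∈ CohB1.genLocus _ s := by
  haveI : CompactSpace X := hA.2.1
  haveI : QuasiSeparatedSpace X := inferInstance
  have hP : (E ∪ assPts X).Finite := hE.union finite_assPts
  haveI : Finite ↥(E ∪ assPts X) := hP.to_subtype
  obtain ⟨N₀, hN₀⟩ := Groth.Agent.Lib.Helper7.AvoidGen.exists_section_gen_at_points hA hM
    (fun p : ↥(E ∪ assPts X) => p.1)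
  refine ⟨N₀, fun m hm => ?_⟩
  obtain ⟨s, hs⟩ := hN₀ m hm
  exact ⟨s, fun y hy => hs ⟨y, Or.inr hy⟩, fun x hx => hs ⟨x, Or.inl hx⟩⟩

/-- On a quasi-affine Noetherian scheme every invertible module has a regular section generating
at finitely many given points. -/
theorem exists_regular_section_of_quasiAffine [IsNoetherian X] [X.IsQuasiAffine] {L : X.Modules}
    (hL : PicF.IsInvertible L) {E : Set X} (hE : E.Finite) :
    ∃ φ : Coh.structureModule X ⟶ L, IsRegSec φ ∧ ∀ x ∈ E, x ∈ CohB1.genLocus L φ := by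
  have hA : CohB1.IsAmple (Coh.structureModule X) := isQuasiAffine_iff_isAmple_unit.mp inferInstance
  obtain ⟨N₀, h⟩ := exists_section_gen_assPts hA hL hE
  obtain ⟨s, hs1, hs2⟩ := h N₀ le_rfl
  let κ : CohB1.tensorMod L (CohB1.tensorPow (Coh.structureModule X) N₀) ≅ L :=
    tensorMapIso (Iso.refl L) (powUnit X N₀) ≪≫ SecTwist.unitorR L
  refine ⟨s ≫ κ.hom, ?_, ?_⟩
  · apply Groth.Agent.Lib.Helper7.RegSecAmple.isRegSec_of_assPts hL
    intro y hy
    rw [genLocus_comp_iso]
    exact hs1 y hy
  · intro x hx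
    rw [genLocus_comp_iso]
    exact hs2 x hx

end Groth.Agent.Lib.Helper7.RegSecMono
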