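import Groth.Agent.Lib.Helper7.GGNodal

/-!
# TensorRExact: tensoring with an arbitrary module is right exact (on quasi-coherent modules)
-/
set_option autoImplicit false
set_option linter.style.haveILetI false
universe u
open CategoryTheory CategoryTheory.Limits AlgebraicGeometry TopologicalSpace Opposite
open Scheme.Modules TensorProduct

noncomputable section

namespace Groth.Agent.Lib.Helper7.TensorRExact

open Groth.Agent.Lib.Helper3 Groth.Agent.Lib.Helper3.QCSec Groth.Agent.Lib.Helper3.InvGen
  Groth.Agent.Lib.Helper3.IdealMod Groth.Agent.Lib.Helper3.InvMonoidal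
  Groth.Agent.Lib.Helper3.InvTensor Groth.Agent.Lib.Helper7.TwFun
open Groth.Agent.Lib.Helper23.T2 Groth.Agent.Lib.Helper23.Curve Groth.Agent.Lib.Helper23.Twist
  Groth.Agent.Lib.Helper23.TwE Groth.Agent.Lib.Helper23.EffCart
  Groth.Agent.Lib.Helper23 Groth.Agent.Lib.Helper7.CohFinite Groth.Agent.Lib.Helper7.GGNodal

variable {X : Scheme.{u}}

/-- a complex which is locally exact on sections is exact -/
theorem exact_of_locally_exact (S : ShortComplex X.Modules)
    (h : ∀ (W : X.Opens) (s : Γ(S.X₂, W)), S.g.app W s = 0 → ∀ x : X, x ∈ W →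
      ∃ (V : X.Opens) (hVW : V ≤ W), x ∈ V ∧ ∃ t : Γ(S.X₁, V), S.f.app V t = res S.X₂ hVW s) :
    S.Exact := by
  rw [S.exact_iff_epi_toCycles]
  apply QCExact.epi_of_locally_surjective
  intro W c x hx
  have h1 : S.g.app W (S.iCycles.app W c) = 0 := by
    have := congrArg (fun φ => φ.app W c) S.iCycles_g
    exact this
  obtain ⟨V, hVW, hxV, t, ht⟩ := h W _ h1 x hx
  refine ⟨V, hVW, hxV, t, ?_⟩
  apply QCExact.injective_sections S.iCycles V
  have := congrArg (fun φ => φ.app V t) S.toCycles_i
  exact this.trans (ht.trans (QCExact.app_res' S.iCycles hVW c).symm)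

/-- the map on sections over `V`, linear over `Rg X V` -/
def linRg {F G : X.Modules} (p : F ⟶ G) (V : X.Opens) :
    ((CohB1.toPMod F).obj (op V)) →ₗ[Rg X V] ((CohB1.toPMod G).obj (op V)) where
  toFun := p.app V
  map_add' a b := _root_.map_add _ a b
  map_smul' r a := Scheme.Modules.Hom.app_smul p r a

theorem linRg_apply {F G : X.Modules} (p : F ⟶ G) (V : X.Opens)
    (a : (CohB1.toPMod F).obj (op V)) : linRg p V a = p.app V a := rfl

/-- `toTensor` intertwines `p ⊗ J` with `p(V) ⊗ id` -/
theorem tw_app_toTensor {F G : X.Modules} (J : X.Modules) (p : F ⟶ G) (V : X.Opens)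
    (y : ↑((CohB1.tensorPre F J).obj (op V))) :
    ((twR J).map p).app V (((SecTwist.toTensor F J).app (op V)).hom y) =
      ((SecTwist.toTensor G J).app (op V)).hom
        (LinearMap.rTensor ((CohB1.toPMod J).obj (op V)) (linRg p V) y) := by
  refine tensor_ind (R := Rg X V) (M := (CohB1.toPMod F).obj (op V))
    (N := (CohB1.toPMod J).obj (op V))
    (fun y => ((twR J).map p).app V (((SecTwist.toTensor F J).app (op V)).hom y) =
      ((SecTwist.toTensor G J).app (op V)).hom
        (LinearMap.rTensor ((CohB1.toPMod J).obj (op V)) (linRg p V) y)) ?_ ?_ ?_ y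
  · have h1 : ((SecTwist.toTensor F J).app (op V)).hom 0 = 0 := _root_.map_zero _
    have h2 : LinearMap.rTensor ((CohB1.toPMod J).obj (op V)) (linRg p V) 0 = 0 :=
      _root_.map_zero _
    have h3 : ((SecTwist.toTensor G J).app (op V)).hom 0 = 0 := _root_.map_zero _
    exact ((congrArg (((twR J).map p).app V) h1).trans (QCExact.app_zero _ V)).trans
      ((congrArg ((SecTwist.toTensor G J).app (op V)).hom h2).trans h3).symm
  · intro m n
    exact tw_app_tm p V m n
  · intro a b ha hb
    have h1 : ((SecTwist.toTensor F J).app (op V)).hom (a + b) =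
        ((SecTwist.toTensor F J).app (op V)).hom a + ((SecTwist.toTensor F J).app (op V)).hom b :=
      _root_.map_add _ a b
    have h2 : LinearMap.rTensor ((CohB1.toPMod J).obj (op V)) (linRg p V) (a + b) =
        LinearMap.rTensor ((CohB1.toPMod J).obj (op V)) (linRg p V) a +
          LinearMap.rTensor ((CohB1.toPMod J).obj (op V)) (linRg p V) b := _root_.map_add _ a b
    have h3 := _root_.map_add ((SecTwist.toTensor G J).app (op V)).hom
      (LinearMap.rTensor ((CohB1.toPMod J).obj (op V)) (linRg p V) a)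
      (LinearMap.rTensor ((CohB1.toPMod J).obj (op V)) (linRg p V) b)
    refine ((congrArg (((twR J).map p).app V) h1).trans (QCExact.app_add _ V _ _)).trans ?_
    rw [ha, hb]
    exact ((congrArg ((SecTwist.toTensor G J).app (op V)).hom h2).trans h3).symm

/-- `toTensor` commutes with restriction -/
theorem res_toTensor (F J : X.Modules) {A B : X.Opens} (h : A ≤ B)
    (y : ↑((CohB1.tensorPre F J).obj (op B))) :
    res (CohB1.tensorMod F J) h (((SecTwist.toTensor F J).app (op B)).hom y) =
      ((SecTwist.toTensor F J).app (op A)).hom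
        (((CohB1.tensorPre F J).map (homOfLE h).op).hom y) :=
  (PresheafOfModules.naturality_apply (SecTwist.toTensor F J) (homOfLE h).op y).symm

/-- restriction of the presheaf tensor product commutes with `p ⊗ id` -/
theorem pre_map_rTensor {F G : X.Modules} (J : X.Modules) (p : F ⟶ G) {A B : X.Opens}
    (h : A ≤ B) (y : ↑((CohB1.tensorPre F J).obj (op B))) :
    ((CohB1.tensorPre G J).map (homOfLE h).op).hom
        (LinearMap.rTensor ((CohB1.toPMod J).obj (op B)) (linRg p B) y) =
      LinearMap.rTensor ((CohB1.toPMod J).obj (op A)) (linRg p A)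
        (((CohB1.tensorPre F J).map (homOfLE h).op).hom y) := by
  refine tensor_ind (R := Rg X B) (M := (CohB1.toPMod F).obj (op B))
    (N := (CohB1.toPMod J).obj (op B))
    (fun y => ((CohB1.tensorPre G J).map (homOfLE h).op).hom
        (LinearMap.rTensor ((CohB1.toPMod J).obj (op B)) (linRg p B) y) =
      LinearMap.rTensor ((CohB1.toPMod J).obj (op A)) (linRg p A)
        (((CohB1.tensorPre F J).map (homOfLE h).op).hom y)) ?_ ?_ ?_ y
  · have e1 : LinearMap.rTensor ((CohB1.toPMod J).obj (op B)) (linRg p B) 0 = 0 :=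
      _root_.map_zero _
    have e2 : ((CohB1.tensorPre G J).map (homOfLE h).op).hom 0 = 0 := _root_.map_zero _
    have e3 : ((CohB1.tensorPre F J).map (homOfLE h).op).hom 0 = 0 := _root_.map_zero _
    have e4 : LinearMap.rTensor ((CohB1.toPMod J).obj (op A)) (linRg p A) 0 = 0 :=
      _root_.map_zero _
    exact ((congrArg ((CohB1.tensorPre G J).map (homOfLE h).op).hom e1).trans e2).trans
      ((congrArg (LinearMap.rTensor ((CohB1.toPMod J).obj (op A)) (linRg p A)) e3).trans e4).symm
  · intro m n
    have h1 := pre_map_tmul F J h m n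
    have h2 := pre_map_tmul G J h (p.app B m) n
    have h3 : p.app A (res F h m) = res G h (p.app B m) := QCExact.app_res' p h m
    rw [LinearMap.rTensor_tmul]
    refine h2.trans ?_
    rw [h1, LinearMap.rTensor_tmul]
    exact congrArg (fun t => t ⊗ₜ[Rg X A] (show (CohB1.toPMod J).obj (op A) from res J h n))
      h3.symm
  · intro a b ha hb
    have e1 : LinearMap.rTensor ((CohB1.toPMod J).obj (op B)) (linRg p B) (a + b) =
        LinearMap.rTensor ((CohB1.toPMod J).obj (op B)) (linRg p B) a +
          LinearMap.rTensor ((CohB1.toPMod J).obj (op B)) (linRg p B) b := _root_.map_add _ a b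
    have e2 := _root_.map_add ((CohB1.tensorPre G J).map (homOfLE h).op).hom
      (LinearMap.rTensor ((CohB1.toPMod J).obj (op B)) (linRg p B) a)
      (LinearMap.rTensor ((CohB1.toPMod J).obj (op B)) (linRg p B) b)
    have e3 : ((CohB1.tensorPre F J).map (homOfLE h).op).hom (a + b) =
        ((CohB1.tensorPre F J).map (homOfLE h).op).hom a +
          ((CohB1.tensorPre F J).map (homOfLE h).op).hom b := _root_.map_add _ a b
    have e4 := _root_.map_add (LinearMap.rTensor ((CohB1.toPMod J).obj (op A)) (linRg p A))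
      (((CohB1.tensorPre F J).map (homOfLE h).op).hom a)
      (((CohB1.tensorPre F J).map (homOfLE h).op).hom b)
    refine ((congrArg ((CohB1.tensorPre G J).map (homOfLE h).op).hom e1).trans e2).trans ?_
    refine (congrArg₂ (· + ·) ha hb).trans ?_
    exact ((congrArg (LinearMap.rTensor ((CohB1.toPMod J).obj (op A)) (linRg p A)) e3).trans
      e4).symm

/-- functoriality of the restriction maps of the presheaf tensor product -/
theorem pre_map_comp (F J : X.Modules) {A B C : X.Opens} (hAB : A ≤ B) (hBC : B ≤ C)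
    (y : ↑((CohB1.tensorPre F J).obj (op C))) :
    ((CohB1.tensorPre F J).map (homOfLE hAB).op).hom
        (((CohB1.tensorPre F J).map (homOfLE hBC).op).hom y) =
      ((CohB1.tensorPre F J).map (homOfLE (hAB.trans hBC)).op).hom y := by
  refine tensor_ind (R := Rg X C) (M := (CohB1.toPMod F).obj (op C))
    (N := (CohB1.toPMod J).obj (op C))
    (fun y => ((CohB1.tensorPre F J).map (homOfLE hAB).op).hom
        (((CohB1.tensorPre F J).map (homOfLE hBC).op).hom y) =
      ((CohB1.tensorPre F J).map (homOfLE (hAB.trans hBC)).op).hom y) ?_ ?_ ?_ y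
  · have e1 : ((CohB1.tensorPre F J).map (homOfLE hBC).op).hom 0 = 0 := _root_.map_zero _
    have e2 : ((CohB1.tensorPre F J).map (homOfLE hAB).op).hom 0 = 0 := _root_.map_zero _
    have e3 : ((CohB1.tensorPre F J).map (homOfLE (hAB.trans hBC)).op).hom 0 = 0 :=
      _root_.map_zero _
    exact ((congrArg ((CohB1.tensorPre F J).map (homOfLE hAB).op).hom e1).trans e2).trans e3.symm
  · intro m n
    have h1 := pre_map_tmul F J hBC m n
    have h2 := pre_map_tmul F J hAB (res F hBC m) (res J hBC n)
    have h3 := pre_map_tmul F J (hAB.trans hBC) m n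
    have e1 : res F hAB (res F hBC m) = res F (hAB.trans hBC) m := res_res F hAB hBC m
    have e2 : res J hAB (res J hBC n) = res J (hAB.trans hBC) n := res_res J hAB hBC n
    refine ((congrArg ((CohB1.tensorPre F J).map (homOfLE hAB).op).hom h1).trans h2).trans ?_
    refine Eq.trans ?_ h3.symm
    exact congrArg₂ (fun (a : (CohB1.toPMod F).obj (op A)) (b : (CohB1.toPMod J).obj (op A)) =>
      a ⊗ₜ[Rg X A] b) e1 e2
  · intro a b ha hb
    have e1 : ((CohB1.tensorPre F J).map (homOfLE hBC).op).hom (a + b) =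
        ((CohB1.tensorPre F J).map (homOfLE hBC).op).hom a +
          ((CohB1.tensorPre F J).map (homOfLE hBC).op).hom b := _root_.map_add _ a b
    have e2 := _root_.map_add ((CohB1.tensorPre F J).map (homOfLE hAB).op).hom
      (((CohB1.tensorPre F J).map (homOfLE hBC).op).hom a)
      (((CohB1.tensorPre F J).map (homOfLE hBC).op).hom b)
    have e3 : ((CohB1.tensorPre F J).map (homOfLE (hAB.trans hBC)).op).hom (a + b) =
        ((CohB1.tensorPre F J).map (homOfLE (hAB.trans hBC)).op).hom a +
          ((CohB1.tensorPre F J).map (homOfLE (hAB.trans hBC)).op).hom b := _root_.map_add _ a b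
    refine ((congrArg ((CohB1.tensorPre F J).map (homOfLE hAB).op).hom e1).trans e2).trans ?_
    exact (congrArg₂ (· + ·) ha hb).trans e3.symm

theorem exists_rTensor_lift {R M₁ M₂ M₃ N : Type*} [CommRing R] [AddCommGroup M₁] [Module R M₁]
    [AddCommGroup M₂] [Module R M₂] [AddCommGroup M₃] [Module R M₃] [AddCommGroup N] [Module R N]
    (f : M₁ →ₗ[R] M₂) (g : M₂ →ₗ[R] M₃) (hex : Function.Exact f g) (hg : Function.Surjective g)
    (y : M₂ ⊗[R] N) (hy : LinearMap.rTensor N g y = 0) : ∃ z, LinearMap.rTensor N f z = y :=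
  (rTensor_exact N hex hg y).1 hy

/-- tensoring a short exact sequence (with quasi-coherent kernel) with an arbitrary module is exact
in the middle -/
theorem exact_twR (J : X.Modules) (S : ShortComplex X.Modules) (hS : S.ShortExact)
    [S.X₁.IsQuasicoherent] : (S.map (twR J)).Exact := by
  haveI := hS.mono_f
  apply exact_of_locally_exact
  intro W s hs x hx
  have hs' : ((twR J).map S.g).app W s = 0 := hs
  obtain ⟨V₁, hV₁, hxV₁, y₁, hy₁⟩ := exists_local_rep S.X₂ J W s x hx
  obtain ⟨U₁, hU₁aff, hxU₁, hU₁V₁⟩ :=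
    Opens.isBasis_iff_nbhd.mp X.isBasis_affineOpens hxV₁
  have hy : ((SecTwist.toTensor S.X₂ J).app (op U₁)).hom
      (((CohB1.tensorPre S.X₂ J).map (homOfLE hU₁V₁).op).hom y₁) =
      res ((twR J).obj S.X₂) (hU₁V₁.trans hV₁) s :=
    (res_toTensor S.X₂ J hU₁V₁ y₁).symm.trans
      ((congrArg (res ((twR J).obj S.X₂) hU₁V₁) hy₁).trans (res_res _ _ _ _))
  have h2 : ((SecTwist.toTensor S.X₃ J).app (op U₁)).hom
      (LinearMap.rTensor ((CohB1.toPMod J).obj (op U₁)) (linRg S.g U₁)
        (((CohB1.tensorPre S.X₂ J).map (homOfLE hU₁V₁).op).hom y₁)) = 0 :=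
    (tw_app_toTensor J S.g U₁ _).symm.trans
      ((congrArg (((twR J).map S.g).app U₁) hy).trans
        ((QCExact.app_res' ((twR J).map S.g) (hU₁V₁.trans hV₁) s).trans
          ((congrArg (res ((twR J).obj S.X₃) (hU₁V₁.trans hV₁)) hs').trans (res_zero _ _))))
  obtain ⟨V₂, hV₂, hxV₂, h3⟩ := local_inj S.X₃ J U₁ _ h2 x hxU₁
  obtain ⟨U₂, hU₂aff, hxU₂, hU₂V₂⟩ :=
    Opens.isBasis_iff_nbhd.mp X.isBasis_affineOpens hxV₂
  have h4 : LinearMap.rTensor ((CohB1.toPMod J).obj (op U₂)) (linRg S.g U₂)
      (((CohB1.tensorPre S.X₂ J).map (homOfLE (hU₂V₂.trans hV₂)).op).hom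
        (((CohB1.tensorPre S.X₂ J).map (homOfLE hU₁V₁).op).hom y₁)) = 0 := by
    have e0 : ((CohB1.tensorPre S.X₃ J).map (homOfLE hU₂V₂).op).hom 0 = 0 := _root_.map_zero _
    exact (pre_map_rTensor J S.g (hU₂V₂.trans hV₂) _).symm.trans
      ((pre_map_comp S.X₃ J hU₂V₂ hV₂ _).symm.trans
        ((congrArg ((CohB1.tensorPre S.X₃ J).map (homOfLE hU₂V₂).op).hom h3).trans e0))
  have hex : Function.Exact (linRg S.f U₂) (linRg S.g U₂) := by
    intro b
    constructor
    · intro hb
      exact QCExact.exact_sections S hS.exact U₂ b hb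
    · rintro ⟨a, rfl⟩
      exact QCExact.app_f_g_apply S U₂ a
  have hsurj : Function.Surjective (linRg S.g U₂) :=
    QCExact.surjective_app_of_isAffineOpen S hS hU₂aff
  obtain ⟨z, hz⟩ := exists_rTensor_lift _ _ hex hsurj _ h4
  refine ⟨U₂, (hU₂V₂.trans hV₂).trans (hU₁V₁.trans hV₁), hxU₂,
    ((SecTwist.toTensor S.X₁ J).app (op U₂)).hom z, ?_⟩
  refine (tw_app_toTensor J S.f U₂ z).trans ?_
  rw [hz]
  exact (res_toTensor S.X₂ J (hU₂V₂.trans hV₂) _).symm.trans
    ((congrArg (res ((twR J).obj S.X₂) (hU₂V₂.trans hV₂)) hy).trans (res_res _ _ _ _))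

/-- tensoring a short exact sequence of quasi-coherent modules with an arbitrary module: the
sequence `X₁ ⊗ J → X₂ ⊗ J → X₃ ⊗ J → 0` is exact -/
theorem exact_epi_twR (J : X.Modules) (S : ShortComplex X.Modules) (hS : S.ShortExact)
    [S.X₁.IsQuasicoherent] : (S.map (twR J)).Exact ∧ Epi (S.map (twR J)).g := by
  haveI := hS.epi_g
  exact ⟨exact_twR J S hS, epi_twR J S.g⟩

end Groth.Agent.Lib.Helper7.TensorRExact
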