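import Groth.Agent.Lib.Helper7.RegPush
import Groth.Agent.Lib.Helper3.VARel
import Groth.Agent.Lib.Helper3.FreeBasis

/-!
# Large twists of finite locally free sheaves on `P^n_Y` have finite locally free direct image
-/

set_option autoImplicit false
set_option linter.unusedSectionVars false
set_option linter.style.haveILetI false
universe u
open CategoryTheory CategoryTheory.Limits AlgebraicGeometry TopologicalSpace Opposite
open Scheme.Modules

noncomputable section

namespace Groth.Agent.Lib.Helper7.RegPush2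

open Groth.Agent.Lib.Helper3 Groth.Agent.Lib.Helper13 Groth.Agent.Lib.Helper2
open InvMonoidal PnOver

open QCSec InvGen InvTensor FreeBasis in
/-- tensoring a finite locally free module with an invertible one. -/
theorem isFinLocFree_tensor {X : Scheme.{u}} {L : X.Modules} (hL : PicF.IsInvertible L)
    {M : X.Modules} (hM : FlatMod.IsFinLocFree M) :
    FlatMod.IsFinLocFree (CohB1.tensorMod M L) := by
  intro x
  obtain ⟨U₁, r, hx₁, ⟨φ⟩⟩ := hM x
  obtain ⟨b, hb⟩ := exists_isBasis_of_iso φ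
  obtain ⟨U, e, -, hxU, hUU₁, hg⟩ := exists_affine_isGen_le hL x U₁ hx₁
  refine ⟨U, r, hxU,
    nonempty_iso_of_isBasis (e := fun i => tm M L U (res M hUU₁ (b i)) e) ?_⟩
  intro V hV
  have hbV : IsBasisAt M V (fun i => res M (hV.trans hUU₁) (b i)) := hb V (hV.trans hUU₁)
  have hbij := tm_gen_bijective M L hg V hV
  have hfun : (fun a : Fin r → Γ(X, V) =>
        ∑ i, a i • res (CohB1.tensorMod M L) hV (tm M L U (res M hUU₁ (b i)) e)) =
      (fun t : Γ(M, V) => tm M L V t (res L hV e)) ∘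
        (fun a : Fin r → Γ(X, V) => ∑ i, a i • res M (hV.trans hUU₁) (b i)) := by
    funext a
    simp only [Function.comp]
    rw [tm_sum_left]
    refine Finset.sum_congr rfl fun i _ => ?_
    rw [tm_smul_left, tm_res, res_res]
  unfold IsBasisAt
  rw [hfun]
  exact hbij.comp hbV

variable (n : ℕ) (Y : Scheme.{u})

/-- `O_{P^n_Y}(m) ≅ O_{P^n_Y}(1)^{⊗ m}`. -/
def twistOverPowIso (m : ℕ) :
    Twist.twistOver n Y (m : ℤ) ≅ CohB1.tensorPow (Twist.twistOver n Y 1) m :=
  (Scheme.Modules.pullback (qq n Y)).mapIso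
      (TwistMul.powIso (Mumford.hU n (ULift.{u} ℤ) 1) m) ≪≫
    PbTensor.pbPowIso (qq n Y) _
      (Groth.Agent.Lib.Helper7.TwProj.isInvertible_twist (Mumford.hU n (ULift.{u} ℤ)) 1) m

/-- `F ⊗ O(1)^{⊗ m} ≅ F(m)`. -/
def twFIso (m : ℕ) (F : (CohB1.ProjSpaceOver n Y).Modules) :
    CohB1.tensorMod F (CohB1.tensorPow (Twist.twistOver n Y 1) m) ≅ KRR.twF n Y (m : ℤ) F :=
  tensorMapIso (Iso.refl F) (twistOverPowIso n Y m).symm ≪≫ braid _ _

/-- relative Serre vanishing on `P^n_Y`. -/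
theorem exists_vanishing_twF [IsNoetherian Y] (F : (CohB1.ProjSpaceOver n Y).Modules)
    (hF : Coh.IsCoh F) :
    ∃ m₀ : ℕ, ∀ m : ℕ, m₀ ≤ m → ∀ i : ℕ, 1 ≤ i →
      IsZero ((Coh.RpushAb (pp n Y) i).obj (Coh.toAb (KRR.twF n Y (m : ℤ) F))) := by
  haveI := Groth.Agent.Lib.Helper8.ProperAtDvr.isProper_toBase n Y
  obtain ⟨n₀, hn₀⟩ := RelAmpleVan.relAmple_vanishing (pp n Y) (Twist.twistOver n Y 1)
    (isInvertible_twistOver n Y 1)
    (fun W hW => (VARel.isRelAmple_twistOver n Y).2 ⟨W, hW⟩) F hF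
  refine ⟨n₀, fun m hm i hi => ?_⟩
  exact (hn₀ m hm i hi).of_iso ((Coh.RpushAb (pp n Y) i).mapIso
    ((SerreCrit1.TT _).mapIso (twFIso n Y m F).symm))

/-- large twists of a finite locally free sheaf have finite locally free direct image. -/
theorem exists_isFinLocFree_push_twF [IsNoetherian Y] (F : (CohB1.ProjSpaceOver n Y).Modules)
    (hF : FlatMod.IsFinLocFree F) :
    ∃ m₀ : ℕ, ∀ m : ℕ, m₀ ≤ m →
      FlatMod.IsFinLocFree ((Scheme.Modules.pushforward (pp n Y)).obj (KRR.twF n Y (m : ℤ) F)) := by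
  obtain ⟨m₀, hm₀⟩ := exists_vanishing_twF n Y F (RegPush.isCoh_of_isFinLocFree hF)
  refine ⟨m₀, fun m hm => ?_⟩
  refine RegPush.isFinLocFree_push n Y _ ?_ (hm₀ m hm)
  exact LocFreeCrit.isFinLocFree_of_iso (braid F (Twist.twistOver n Y (m : ℤ)))
    (isFinLocFree_tensor (isInvertible_twistOver n Y (m : ℤ)) hF)

end Groth.Agent.Lib.Helper7.RegPush2
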