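import Groth.Agent.Lib.Helper7.PnCech
import Groth.Agent.Lib.Helper13.ProjCover
import Groth.Agent.Lib.Helper13.ProfiniteAcyclic
import Groth.Agent.S0013

/-!
# Vanishing of the cohomology of `O(d)` on projective space
-/

set_option autoImplicit false
universe u
open CategoryTheory CategoryTheory.Limits AlgebraicGeometry TopologicalSpace Opposite
open Scheme.Modules MvPolynomial

noncomputable section

namespace Groth.Agent.Lib.Helper7.PnCech

open PnLaurent PnSections Groth.Agent.Lib.Helper3 Groth.Agent.Lib.Helper3.TwistBasic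
  Groth.Agent.Lib.Helper3.QCSec Groth.Agent.Lib.Helper13 Groth.Agent.Lib.Helper13.CechBasic
  Groth.Agent.Lib.Helper13.CechLocal

variable (n : ℕ) (R : Type u) [CommRing R]

theorem prod_Vu_eq {m : ℕ} (i : Fin (m + 1) → Idx.{u} n) :
    ∏ᶜ (Vu n R ∘ i) = Proj.basicOpen (CohB1.polyGrading n R)
      (monomial (cvec fun k => (i k).down) (1 : R)) := by
  rw [prod_eq_iInf]
  exact iInf_V_eq (fun k => (i k).down)

theorem alphaNat_injective (d : ℤ) {m : ℕ} (i : Fin (m + 1) → Idx.{u} n) :
    Function.Injective ((alphaNat n R d).app (op (∏ᶜ (Vu n R ∘ i)))).hom := by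
  rw [injective_iff_map_eq_zero]
  intro x hx
  have hW := prod_Vu_eq n R i
  have h0 : alpha d (∏ᶜ (Vu n R ∘ i)) x.1 = 0 := hx
  have := alpha_injective (cvec_ne_zero _)
    (fun y hy => by rw [hW]; exact (Proj.mem_basicOpen _ _ _).mpr hy)
    (fun e he => ⟨(x.2 e he).1, (x.2 e he).2.1⟩) h0
  exact Subtype.ext this

theorem alphaNat_surjective (d : ℤ) {m : ℕ} (i : Fin (m + 1) → Idx.{u} n)
    (h : -((n : ℤ) + 1) < d ∨ ¬ Function.Surjective (fun k => (i k).down)) :
    Function.Surjective ((alphaNat n R d).app (op (∏ᶜ (Vu n R ∘ i)))).hom := by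
  intro t
  have hW := prod_Vu_eq n R i
  obtain ⟨F, hF, hFt⟩ := alpha_surjective (cvec_ne_zero _) hW t
  have hgood : F ∈ good R d (SW n R (∏ᶜ (Vu n R ∘ i))) := by
    intro e he
    obtain ⟨h1, h2⟩ := hF e he
    refine ⟨h1, fun l hl => ?_, ?_⟩
    · obtain ⟨k, hk⟩ := (cvec_apply_ne_zero _ l).mp (h2 l hl)
      change ∏ᶜ (Vu n R ∘ i) ≤ V n R l
      rw [prod_eq_iInf, ← hk]
      exact iInf_le (fun k => Vu n R (i k)) k
    · by_contra hall
      push Not at hall
      rcases h with h | h
      · have h3 : ∑ l, e l ≤ ∑ l : Fin (n + 1), (-1 : ℤ) :=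
          Finset.sum_le_sum fun l _ => by have := hall l; omega
        rw [Finset.sum_const, Finset.card_univ, Fintype.card_fin, nsmul_eq_mul] at h3
        push_cast at h3
        omega
      · apply h
        intro l
        obtain ⟨k, hk⟩ := (cvec_apply_ne_zero _ l).mp (h2 l (hall l))
        exact ⟨k, hk⟩
  exact ⟨⟨F, hgood⟩, hFt⟩

theorem isZero_cech_twist (d : ℤ) (m : ℕ) (h : -((n : ℤ) + 1) < d ∨ m + 2 ≤ n) :
    IsZero ((cx (Vu n R) (Twist.twist (CohB1.polyGrading n R) d).presheaf).homology (m + 1)) := by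
  refine isZero_homology_of_transfer (Vu n R) (alphaNat n R d) m (fun i => ?_)
    (fun i => alphaNat_injective n R d i) (isZero_homology_PL n R d m)
  refine alphaNat_surjective n R d i ?_
  rcases h with h | h
  · exact Or.inl h
  · right
    intro hs
    have := Fintype.card_le_of_surjective _ hs
    simp only [Fintype.card_fin] at this
    omega

theorem iSup_Vu : ⨆ j, Vu n R j = ⊤ := by
  have hcov : ⨆ j : Fin (n + 1), V n R j = ⊤ :=
    Proj.iSup_basicOpen_eq_top' (CohB1.polyGrading n R) _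
      (fun j => ⟨1, MvPolynomial.isHomogeneous_X R j⟩) (ProjCover.adjoin_X_eq_top n R)
  exact top_unique (hcov.symm.le.trans (iSup_le fun j => le_iSup_of_le (ULift.up j) le_rfl))

theorem isAffineOpen_V (j : Fin (n + 1)) : IsAffineOpen (V n R j) :=
  Proj.isAffineOpen_basicOpen (CohB1.polyGrading n R) (MvPolynomial.X j) (m := 1)
    (MvPolynomial.isHomogeneous_X R j) one_pos

theorem isAffineOpen_biInf (s : Finset (Idx.{u} n)) (hs : s.Nonempty) :
    IsAffineOpen (⨅ i ∈ s, Vu n R i) := by
  classical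
  induction s using Finset.induction_on with
  | empty => exact absurd hs (by simp)
  | insert a s ha ih =>
    rw [Finset.iInf_insert]
    by_cases hs' : s.Nonempty
    · exact (isAffineOpen_V n R a.down).inf (ih hs')
    · rw [Finset.not_nonempty_iff_eq_empty] at hs'
      subst hs'
      simp only [Finset.notMem_empty, iInf_false, iInf_top, inf_top_eq]
      exact isAffineOpen_V n R a.down

/-- `H^{m+1}(P^n, O(d)) = 0` if `d > -(n+1)` or `m + 1 < n`. -/
theorem subsingleton_HH_twist (d : ℤ) (m : ℕ) (h : -((n : ℤ) + 1) < d ∨ m + 2 ≤ n) :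
    Subsingleton (Coh.HH (Proj (CohB1.polyGrading n R))
      (Twist.twist (CohB1.polyGrading n R) d) (m + 1)) := by
  haveI : Coh.IsQCoh (Twist.twist (CohB1.polyGrading n R) d) :=
    GrTildeSelf.isQuasicoherent_twist d
  obtain ⟨e⟩ := Groth.Agent.S0013.result (Proj (CohB1.polyGrading n R)) (Vu n R) (iSup_Vu n R)
    (isAffineOpen_biInf n R) (Twist.twist (CohB1.polyGrading n R) d) (m + 1)
  haveI : Subsingleton ↑(CohB1.cechH (Vu n R) (Twist.twist (CohB1.polyGrading n R) d) (m + 1)) :=
    AddCommGrpCat.subsingleton_of_isZero (isZero_cech_twist n R d m h)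
  exact e.symm.toEquiv.subsingleton

/-- `H^q(P^n, F) = 0` for `q > n` and `F` quasi-coherent. -/
theorem subsingleton_HH_of_gt (M : (Proj (CohB1.polyGrading n R)).Modules) [M.IsQuasicoherent]
    (q : ℕ) (hq : n < q) : Subsingleton (Coh.HH (Proj (CohB1.polyGrading n R)) M q) := by
  have h := ProjCover.projSpace_vanish n R M q hq
  have hT : CategoryTheory.Limits.IsTerminal (⊤ : (Proj (CohB1.polyGrading n R)).Opens) :=
    CategoryTheory.Limits.isTerminalTop
  exact (ProfiniteAcyclic.HEquivHU
    (Opens.grothendieckTopology (Proj (CohB1.polyGrading n R))) hT (Coh.toAb M)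
      q).toEquiv.subsingleton_congr.2 h

end Groth.Agent.Lib.Helper7.PnCech
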