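import Mathlib
import Groth.Prelude
import Groth.Agent.Lib.Helper3.Cocycle
import Groth.Agent.Lib.Helper3.TwistBasic
import Groth.Agent.Lib.Helper26.PicUFD2
import Groth.Agent.Lib.Helper14.Dehomog
import Groth.Agent.Lib.Helper5.InvMod
import Groth.Agent.Lib.Helper7.PnVanish
import Groth.Agent.S3557

/-!
# The Picard group of projective space over a UFD (helper7)

* `gen`: the generic point of `P^n_R` (`R` a domain), `kap`, `kapt`: values of functions and of
  sections of `O(d)` at the generic point, in the fraction field of `R[x_0..x_n]`.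
* `isFU_kap_of_isUnit`: a unit on `D₊(f)` is a unit of `R[x][1/f]`.
* `exists_gen_chart`: an invertible module is trivial on the standard charts (`R` a UFD).
* `exists_iso_twist`: every invertible module on `P^n_R`, `R` a UFD, is some `O(d)`.
-/
set_option autoImplicit false
set_option linter.style.haveILetI false
set_option linter.unusedSectionVars false
universe u
open CategoryTheory CategoryTheory.Limits AlgebraicGeometry TopologicalSpace Opposite
open Scheme.Modules MvPolynomial

noncomputable section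

namespace Groth.Agent.Lib.Helper7.PicPn

open Groth.Agent.Lib.Helper3 Groth.Agent.Lib.Helper3.QCSec Groth.Agent.Lib.Helper3.InvGen
  Groth.Agent.Lib.Helper3.TwistBasic Groth.Agent.Lib.Helper26.UFDUnits
  Groth.Agent.Lib.Helper7.PnSections Groth.Agent.Lib.Helper7.PnCech

variable (n : ℕ) (R : Type u) [CommRing R] [IsDomain R]

/-- the fraction field of the polynomial ring. -/
abbrev KK : Type u := FractionRing (MvPolynomial (Fin (n + 1)) R)

/-- the generic point of `P^n_R`. -/
def gen : Proj (CohB1.polyGrading n R) :=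
  show ProjectiveSpectrum (CohB1.polyGrading n R) from
  { asHomogeneousIdeal := ⊥
    isPrime := by
      rw [HomogeneousIdeal.toIdeal_bot]
      exact Ideal.isPrime_bot
    not_irrelevant_le := by
      intro h
      have hX : (X 0 : MvPolynomial (Fin (n + 1)) R) ∈
          HomogeneousIdeal.irrelevant (CohB1.polyGrading n R) :=
        HomogeneousIdeal.mem_irrelevant_of_mem _ one_pos (isHomogeneous_X R 0)
      have h1 : (X 0 : MvPolynomial (Fin (n + 1)) R) ∈
          (⊥ : HomogeneousIdeal (CohB1.polyGrading n R)).toIdeal := h hX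
      rw [HomogeneousIdeal.toIdeal_bot] at h1
      exact X_ne_zero (0 : Fin (n + 1)) ((Submodule.mem_bot _).mp h1) }

lemma notMem_gen_iff (f : MvPolynomial (Fin (n + 1)) R) :
    f ∉ (gen n R).asHomogeneousIdeal ↔ f ≠ 0 := by
  show ¬ (f ∈ (⊥ : HomogeneousIdeal (CohB1.polyGrading n R)).toIdeal) ↔ _
  rw [HomogeneousIdeal.toIdeal_bot, Submodule.mem_bot]

lemma gen_mem_basicOpen {f : MvPolynomial (Fin (n + 1)) R} (hf : f ≠ 0) :
    gen n R ∈ Proj.basicOpen (CohB1.polyGrading n R) f :=
  (Proj.mem_basicOpen (CohB1.polyGrading n R) f _).mpr ((notMem_gen_iff n R f).mpr hf)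

lemma gen_mem_of_mem {U : (Proj (CohB1.polyGrading n R)).Opens}
    {x : Proj (CohB1.polyGrading n R)} (hx : x ∈ U) : gen n R ∈ U := by
  obtain ⟨_, ⟨f, rfl⟩, hxf, hfU⟩ :=
    Opens.isBasis_iff_nbhd.mp (Proj.isBasis_basicOpen (CohB1.polyGrading n R)) hx
  apply hfU
  apply gen_mem_basicOpen
  rintro rfl
  rw [Proj.basicOpen_zero] at hxf
  exact hxf

lemma gen_mem_V (i : Fin (n + 1)) : gen n R ∈ V n R i :=
  gen_mem_basicOpen n R (X_ne_zero i)

instance isPrime_gen : (gen n R).asHomogeneousIdeal.toIdeal.IsPrime :=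
  ProjectiveSpectrum.isPrime (show ProjectiveSpectrum (CohB1.polyGrading n R) from gen n R)

/-- the embedding of the local ring at the generic point into the fraction field. -/
def jgen : Twist.Loc (CohB1.polyGrading n R) (gen n R) →+* KK n R :=
  IsLocalization.lift (M := (gen n R).asHomogeneousIdeal.toIdeal.primeCompl)
    (g := algebraMap (MvPolynomial (Fin (n + 1)) R) (KK n R)) (fun y => by
      have hy : (y : MvPolynomial (Fin (n + 1)) R) ≠ 0 := (notMem_gen_iff n R _).mp y.2
      exact IsUnit.mk0 _ ((map_ne_zero_iff _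
        (IsFractionRing.injective (MvPolynomial (Fin (n + 1)) R) (KK n R))).mpr hy))

lemma jgen_mk (a : MvPolynomial (Fin (n + 1)) R)
    (s : (gen n R).asHomogeneousIdeal.toIdeal.primeCompl) :
    jgen n R (Localization.mk a s) * algebraMap (MvPolynomial (Fin (n + 1)) R) (KK n R) s =
      algebraMap (MvPolynomial (Fin (n + 1)) R) (KK n R) a := by
  rw [Localization.mk_eq_mk']
  unfold jgen
  have h := (IsLocalization.lift_mk'_spec (M := (gen n R).asHomogeneousIdeal.toIdeal.primeCompl)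
    (S := Twist.Loc (CohB1.polyGrading n R) (gen n R))
    (g := algebraMap (MvPolynomial (Fin (n + 1)) R) (KK n R))
    (hg := fun y => by
      have hy : (y : MvPolynomial (Fin (n + 1)) R) ≠ 0 := (notMem_gen_iff n R _).mp y.2
      exact IsUnit.mk0 _ ((map_ne_zero_iff _
        (IsFractionRing.injective (MvPolynomial (Fin (n + 1)) R) (KK n R))).mpr hy))
    a _ s).mp rfl
  rw [h, mul_comm]

lemma jgen_injective : Function.Injective (jgen n R) := by
  unfold jgen
  rw [IsLocalization.lift_injective_iff]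
  intro x y
  constructor
  · intro h
    have hM : (gen n R).asHomogeneousIdeal.toIdeal.primeCompl ≤
        nonZeroDivisors (MvPolynomial (Fin (n + 1)) R) := fun z hz =>
      mem_nonZeroDivisors_of_ne_zero ((notMem_gen_iff n R z).mp hz)
    have : x = y := IsLocalization.injective
      (Twist.Loc (CohB1.polyGrading n R) (gen n R)) hM h
    rw [this]
  · intro h
    rw [IsFractionRing.injective (MvPolynomial (Fin (n + 1)) R) (KK n R) h]

variable {n R}

/-- the value of a function at the generic point. -/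
def kap {U : (Proj (CohB1.polyGrading n R)).Opens} (h : gen n R ∈ U) :
    Γ(Proj (CohB1.polyGrading n R), U) →+* KK n R where
  toFun c := jgen n R (fval c ⟨gen n R, h⟩)
  map_one' := by rw [fval_one, map_one]
  map_mul' c c' := by rw [fval_mul, map_mul]
  map_zero' := by rw [fval_zero, map_zero]
  map_add' c c' := by rw [fval_add, map_add]

lemma kap_apply {U : (Proj (CohB1.polyGrading n R)).Opens} (h : gen n R ∈ U)
    (c : Γ(Proj (CohB1.polyGrading n R), U)) :
    kap h c = jgen n R (fval c ⟨gen n R, h⟩) := rfl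

lemma kap_res {U V : (Proj (CohB1.polyGrading n R)).Opens} (hVU : V ≤ U) (hV : gen n R ∈ V)
    (c : Γ(Proj (CohB1.polyGrading n R), U)) :
    kap hV (rres (Proj (CohB1.polyGrading n R)) hVU c) = kap (hVU hV) c := rfl

lemma kap_eq_zero {U : (Proj (CohB1.polyGrading n R)).Opens} (h : gen n R ∈ U)
    (c : Γ(Proj (CohB1.polyGrading n R), U)) (hc : kap h c = 0) : c = 0 := by
  apply fval_ext
  intro x
  rw [fval_zero]
  obtain ⟨V, hxV, hVU, i, j, a, s, hs, -, hv⟩ := isLocFrac_fval c x
  have hgV : gen n R ∈ V := gen_mem_of_mem n R hxV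
  have h1 : fval c ⟨gen n R, h⟩ = Localization.mk a.1 ⟨s.1, hs ⟨gen n R, hgV⟩⟩ :=
    hv ⟨gen n R, hgV⟩
  have h2 : jgen n R (Localization.mk a.1 ⟨s.1, hs ⟨gen n R, hgV⟩⟩) = 0 := by
    rw [← h1]; exact hc
  have h3 := jgen_mk n R a.1 ⟨s.1, hs ⟨gen n R, hgV⟩⟩
  rw [h2, zero_mul] at h3
  have ha : a.1 = 0 := (map_eq_zero_iff _
    (IsFractionRing.injective (MvPolynomial (Fin (n + 1)) R) (KK n R))).mp h3.symm
  refine (hv ⟨x.1, hxV⟩).trans ?_
  rw [ha, Localization.mk_zero]

lemma kap_injective {U : (Proj (CohB1.polyGrading n R)).Opens} (h : gen n R ∈ U) :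
    Function.Injective (kap (n := n) (R := R) h) := by
  rw [injective_iff_map_eq_zero]
  exact kap_eq_zero h

lemma kap_form {U : (Proj (CohB1.polyGrading n R)).Opens} (h : gen n R ∈ U)
    (c : Γ(Proj (CohB1.polyGrading n R), U)) :
    ∃ (p : ℕ) (a s : MvPolynomial (Fin (n + 1)) R), a.IsHomogeneous p ∧ s.IsHomogeneous p ∧
      s ≠ 0 ∧ kap h c * algebraMap (MvPolynomial (Fin (n + 1)) R) (KK n R) s =
        algebraMap (MvPolynomial (Fin (n + 1)) R) (KK n R) a := by
  obtain ⟨V, hgV, hVU, i, j, a, s, hs, hdeg, hv⟩ := isLocFrac_fval c ⟨gen n R, h⟩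
  have h1 : fval c ⟨gen n R, h⟩ = Localization.mk a.1 ⟨s.1, hs ⟨gen n R, hgV⟩⟩ :=
    hv ⟨gen n R, hgV⟩
  have h3 := jgen_mk n R a.1 ⟨s.1, hs ⟨gen n R, hgV⟩⟩
  have hs0 : s.1 ≠ 0 := (notMem_gen_iff n R _).mp (hs ⟨gen n R, hgV⟩)
  rcases hdeg with hd | h0
  · have hij : i = j := by omega
    subst hij
    refine ⟨i, a.1, s.1, a.2, s.2, hs0, ?_⟩
    rw [kap_apply, h1]
    exact h3
  · refine ⟨j, 0, s.1, isHomogeneous_zero _ _ _, s.2, hs0, ?_⟩
    rw [kap_apply, h1, h0, Localization.mk_zero, map_zero, zero_mul, map_zero]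

/-- the value of a section of `O(d)` at the generic point. -/
def kapt {d : ℤ} {U : (Proj (CohB1.polyGrading n R)).Opens} (h : gen n R ∈ U)
    (t : Γ(Twist.twist (CohB1.polyGrading n R) d, U)) : KK n R :=
  jgen n R (val t ⟨gen n R, h⟩)

lemma kapt_smul {d : ℤ} {U : (Proj (CohB1.polyGrading n R)).Opens} (h : gen n R ∈ U)
    (c : Γ(Proj (CohB1.polyGrading n R), U))
    (t : Γ(Twist.twist (CohB1.polyGrading n R) d, U)) :
    kapt h (c • t) = kap h c * kapt h t := by
  unfold kapt
  rw [val_smul, map_mul]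
  rfl

lemma kapt_res {d : ℤ} {U V : (Proj (CohB1.polyGrading n R)).Opens} (hVU : V ≤ U)
    (hV : gen n R ∈ V) (t : Γ(Twist.twist (CohB1.polyGrading n R) d, U)) :
    kapt hV (res (Twist.twist (CohB1.polyGrading n R) d) hVU t) = kapt (hVU hV) t := rfl

lemma kapt_frac {U : (Proj (CohB1.polyGrading n R)).Opens} (h : gen n R ∈ U) {i j : ℕ}
    (a : (CohB1.polyGrading n R) i) (b : (CohB1.polyGrading n R) j)
    (hb : ∀ x : U, b.1 ∉ x.1.asHomogeneousIdeal) (d : ℤ) (hd : (i : ℤ) = j + d) :
    kapt h (frac U a b hb d hd) * algebraMap (MvPolynomial (Fin (n + 1)) R) (KK n R) b.1 =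
      algebraMap (MvPolynomial (Fin (n + 1)) R) (KK n R) a.1 :=
  jgen_mk n R a.1 ⟨b.1, hb ⟨gen n R, h⟩⟩

/-- a unit function on `D₊(f)` is a unit of `R[x][1/f]`. -/
theorem isFU_kap_of_isUnit {f : MvPolynomial (Fin (n + 1)) R} {m : ℕ}
    (f_deg : f ∈ (CohB1.polyGrading n R) m) (hm : 0 < m) (hf : f ≠ 0)
    (u : Γ(Proj (CohB1.polyGrading n R), Proj.basicOpen (CohB1.polyGrading n R) f))
    (hu : IsUnit u) : IsFU f (kap (gen_mem_basicOpen n R hf) u) := by
  have hgen := gen_mem_basicOpen n R hf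
  let e := Proj.basicOpenIsoAway (CohB1.polyGrading n R) f f_deg hm
  let w : HomogeneousLocalization.Away (CohB1.polyGrading n R) f := e.inv.hom u
  have hw : IsUnit w := hu.map e.inv.hom
  have huw : (Proj.awayToSection (CohB1.polyGrading n R) f).hom w = u := by
    have h1 : (e.inv ≫ e.hom).hom u = u := by rw [e.inv_hom_id]; rfl
    exact h1
  have hg : ∀ y : Submonoid.powers f,
      IsUnit (algebraMap (MvPolynomial (Fin (n + 1)) R) (KK n R) y) := by
    rintro ⟨_, k, rfl⟩
    exact IsUnit.mk0 _ ((map_ne_zero_iff _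
      (IsFractionRing.injective (MvPolynomial (Fin (n + 1)) R) (KK n R))).mpr
        (pow_ne_zero k hf))
  let ρ : Localization.Away f →+* KK n R := IsLocalization.lift (M := Submonoid.powers f) hg
  have hρ : ∀ r, ρ (algebraMap (MvPolynomial (Fin (n + 1)) R) (Localization.Away f) r) =
      algebraMap (MvPolynomial (Fin (n + 1)) R) (KK n R) r := fun r => IsLocalization.lift_eq hg r
  have hval : IsUnit (w.val : Localization.Away f) :=
    hw.map (algebraMap (HomogeneousLocalization.Away (CohB1.polyGrading n R) f)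
      (Localization.Away f))
  have hFU : IsFU f (ρ w.val) := isFU_map_of_isUnit f ρ hρ hval
  have hle : Submonoid.powers f ≤ (gen n R).asHomogeneousIdeal.toIdeal.primeCompl :=
    Submonoid.powers_le.mpr hgen
  have h1 : fval ((Proj.awayToSection (CohB1.polyGrading n R) f).hom w) ⟨gen n R, hgen⟩ =
      IsLocalization.map (M := Submonoid.powers f)
        (T := (gen n R).asHomogeneousIdeal.toIdeal.primeCompl)
        (Twist.Loc (CohB1.polyGrading n R) (gen n R))
        (RingHom.id (MvPolynomial (Fin (n + 1)) R)) hle w.val :=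
    ProjectiveSpectrum.Proj.awayToSection_apply (CohB1.polyGrading n R) f w ⟨gen n R, hgen⟩
  have h2 : (jgen n R).comp (IsLocalization.map (M := Submonoid.powers f)
        (T := (gen n R).asHomogeneousIdeal.toIdeal.primeCompl)
        (Twist.Loc (CohB1.polyGrading n R) (gen n R))
        (RingHom.id (MvPolynomial (Fin (n + 1)) R)) hle) = ρ := by
    apply IsLocalization.ringHom_ext (Submonoid.powers f)
    refine RingHom.ext fun r => ?_
    have e1 : IsLocalization.map (M := Submonoid.powers f)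
        (T := (gen n R).asHomogeneousIdeal.toIdeal.primeCompl)
        (Twist.Loc (CohB1.polyGrading n R) (gen n R))
        (RingHom.id (MvPolynomial (Fin (n + 1)) R)) hle
        (algebraMap (MvPolynomial (Fin (n + 1)) R) (Localization.Away f) r) =
        algebraMap (MvPolynomial (Fin (n + 1)) R)
          (Twist.Loc (CohB1.polyGrading n R) (gen n R)) r := IsLocalization.map_eq hle r
    have e2 : jgen n R (algebraMap (MvPolynomial (Fin (n + 1)) R)
          (Twist.Loc (CohB1.polyGrading n R) (gen n R)) r) =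
        algebraMap (MvPolynomial (Fin (n + 1)) R) (KK n R) r := IsLocalization.lift_eq _ r
    show jgen n R (IsLocalization.map (M := Submonoid.powers f)
        (T := (gen n R).asHomogeneousIdeal.toIdeal.primeCompl)
        (Twist.Loc (CohB1.polyGrading n R) (gen n R))
        (RingHom.id (MvPolynomial (Fin (n + 1)) R)) hle
        (algebraMap (MvPolynomial (Fin (n + 1)) R) (Localization.Away f) r)) =
      ρ (algebraMap (MvPolynomial (Fin (n + 1)) R) (Localization.Away f) r)
    rw [e1, e2, hρ]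
  have h3 : kap hgen u = ρ w.val := by
    rw [kap_apply, ← huw, h1, ← h2]
    rfl
  rw [h3]
  exact hFU

/-- units of `R[x][1/x_i]` are `c x_i^k`. -/
theorem isFU_X_form (i : Fin (n + 1)) {h : KK n R}
    (hh : IsFU (X i : MvPolynomial (Fin (n + 1)) R) h) :
    ∃ (c : R) (_ : IsUnit c) (p q : ℕ),
      h * algebraMap (MvPolynomial (Fin (n + 1)) R) (KK n R) (X i ^ q) =
        algebraMap (MvPolynomial (Fin (n + 1)) R) (KK n R) (C c * X i ^ p) := by
  obtain ⟨a, b, ⟨N, hN⟩, ⟨M, hM⟩, hab⟩ := hh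
  have hpr : Prime (X i : MvPolynomial (Fin (n + 1)) R) := X_prime
  obtain ⟨p, -, hp⟩ := (dvd_prime_pow hpr N).mp hN
  obtain ⟨q, -, hq⟩ := (dvd_prime_pow hpr M).mp hM
  obtain ⟨va, hva⟩ := hp
  obtain ⟨vb, hvb⟩ := hq
  obtain ⟨r, hr, hrC⟩ := (isUnit_iff_eq_C_of_isReduced).mp (vb * va⁻¹).isUnit
  refine ⟨r, hr, p, q, ?_⟩
  have h2 : a * (vb : MvPolynomial (Fin (n + 1)) R) = C r * X i ^ p := by
    rw [← hrC, ← hva, Units.val_mul]
    have hv : ((va⁻¹ : (MvPolynomial (Fin (n + 1)) R)ˣ) : MvPolynomial (Fin (n + 1)) R) *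
        (va : MvPolynomial (Fin (n + 1)) R) = 1 := Units.inv_mul va
    calc a * (vb : MvPolynomial (Fin (n + 1)) R)
        = (vb : MvPolynomial (Fin (n + 1)) R) * a *
          (((va⁻¹ : (MvPolynomial (Fin (n + 1)) R)ˣ) : MvPolynomial (Fin (n + 1)) R) *
            (va : MvPolynomial (Fin (n + 1)) R)) := by rw [hv]; ring
      _ = _ := by ring
  rw [← hvb, map_mul, ← mul_assoc, hab, ← map_mul, h2]

variable (n R)

instance isIntegral_proj : IsIntegral (Proj (CohB1.polyGrading n R)) := by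
  have hX : (X (0 : Fin (n + 1)) : MvPolynomial (Fin (n + 1)) R) ∈
      (HomogeneousIdeal.irrelevant (CohB1.polyGrading n R)).toIdeal :=
    HomogeneousIdeal.mem_irrelevant_of_mem _ one_pos (isHomogeneous_X R 0)
  exact (Groth.Agent.S3557.result (CohB1.polyGrading n R) (fun f _ hf => hf.eq_zero)).mpr
    ⟨⟨_, hX, X_ne_zero _⟩, fun f _ g _ h => mul_eq_zero.mp h⟩

variable [UniqueFactorizationMonoid R]

/-- an invertible module on `P^n_R`, `R` a UFD, is trivial on the standard charts. -/
theorem exists_gen_chart (L : (Proj (CohB1.polyGrading n R)).Modules)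
    (hL : PicF.IsInvertible L) (i : Fin (n + 1)) :
    ∃ e : Γ(L, V n R i), IsGen L (V n R i) e := by
  haveI : Nonempty (V n R i) := ⟨⟨gen n R, gen_mem_V n R i⟩⟩
  haveI : IsAffine ((V n R i : (Proj (CohB1.polyGrading n R)).Opens) : Scheme.{u}) :=
    isAffineOpen_V n R i
  have hufd : UniqueFactorizationMonoid
      Γ(((V n R i : (Proj (CohB1.polyGrading n R)).Opens) : Scheme.{u}), ⊤) := by
    let e1 : MvPolynomial {j : Fin (n + 1) // j ≠ i} R ≃+*
        HomogeneousLocalization.Away (CohB1.polyGrading n R) (X i) :=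
      RingEquiv.ofBijective (Groth.Agent.Lib.Helper14.Dehomog.Φ n R i)
        (Groth.Agent.Lib.Helper14.Dehomog.Φ_bijective n R i)
    let e2 : HomogeneousLocalization.Away (CohB1.polyGrading n R) (X i) ≃+*
        Γ(Proj (CohB1.polyGrading n R), Proj.basicOpen (CohB1.polyGrading n R) (X i)) :=
      (Proj.basicOpenIsoAway (CohB1.polyGrading n R) (X i)
        (isHomogeneous_X R i) one_pos).commRingCatIsoToRingEquiv
    let e3 : Γ(((V n R i : (Proj (CohB1.polyGrading n R)).Opens) : Scheme.{u}), ⊤) ≃+*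
        Γ(Proj (CohB1.polyGrading n R), V n R i) :=
      (V n R i).topIso.commRingCatIsoToRingEquiv
    exact ((e1.trans e2).trans e3.symm).toMulEquiv.uniqueFactorizationMonoid inferInstance
  have hLi : PicF.IsInvertible (L.restrict (V n R i).ι) :=
    Groth.Agent.Lib.Helper5.isInvertible_restrict hL _
  have hLi' : PicF.IsInvertible ((L.restrict (V n R i).ι).restrict
      (⊤ : ((V n R i : (Proj (CohB1.polyGrading n R)).Opens) : Scheme.{u}).Opens).ι) :=
    Groth.Agent.Lib.Helper5.isInvertible_restrict hLi _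
  obtain ⟨φ⟩ := Groth.Agent.Lib.Helper26.PicUFD.picTrivial hufd ⊤ _ hLi'
  obtain ⟨e0, he0⟩ := exists_isGen_of_iso φ
  obtain ⟨ψ⟩ := Groth.Agent.Lib.Helper26.PicUFD.nonempty_iso_of_glue (L.restrict (V n R i).ι)
    (fun _ : PUnit.{u + 1} =>
      (⊤ : ((V n R i : (Proj (CohB1.polyGrading n R)).Opens) : Scheme.{u}).Opens))
    (le_iSup_of_le PUnit.unit le_rfl) (fun _ => e0) (fun _ => he0) (fun _ _ => rfl)
  exact exists_isGen_of_iso ψ

/-- **`Pic(P^n_R) = ℤ`** for a UFD `R`: every invertible module is a twisting sheaf. -/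
theorem exists_iso_twist (L : (Proj (CohB1.polyGrading n R)).Modules)
    (hL : PicF.IsInvertible L) :
    ∃ d : ℤ, Nonempty (L ≅ Twist.twist (CohB1.polyGrading n R) d) := by
  classical
  have hgen0 : ∀ i : Idx.{u} n, ∃ e : Γ(L, Vu n R i), IsGen L (Vu n R i) e :=
    fun i => exists_gen_chart n R L hL i.down
  choose e he using hgen0
  have hg1 : ∀ i : Idx.{u} n, gen n R ∈ Vu n R i := fun i => gen_mem_V n R i.down
  have hg2 : ∀ i j : Idx.{u} n, gen n R ∈ Vu n R i ⊓ Vu n R j := fun i j => ⟨hg1 i, hg1 j⟩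
  have hη0 : ∀ i j : Idx.{u} n, ∃ u : Γ(Proj (CohB1.polyGrading n R), Vu n R i ⊓ Vu n R j),
      IsUnit u ∧ res L (inf_le_left : Vu n R i ⊓ Vu n R j ≤ Vu n R i) (e i) =
        u • res L (inf_le_right : Vu n R i ⊓ Vu n R j ≤ Vu n R j) (e j) :=
    fun i j => (he j _ inf_le_right).exists_unit (he i _ inf_le_left)
  choose η hηu hη using hη0
  obtain ⟨g, hg⟩ : ∃ g : Idx.{u} n → Idx.{u} n → KK n R,
      ∀ i j, g i j = kap (hg2 i j) (η i j) := ⟨_, fun _ _ => rfl⟩
  have hX0 : ∀ i : Idx.{u} n, (X i.down : MvPolynomial (Fin (n + 1)) R) ≠ 0 :=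
    fun i => X_ne_zero _
  -- units on overlaps
  have hgFU : ∀ i j : Idx.{u} n,
      IsFU ((X i.down : MvPolynomial (Fin (n + 1)) R) * X j.down) (g i j) := by
    intro i j
    have hE : Proj.basicOpen (CohB1.polyGrading n R)
        ((X i.down : MvPolynomial (Fin (n + 1)) R) * X j.down) = Vu n R i ⊓ Vu n R j :=
      Proj.basicOpen_mul _ _ _
    have hne : (X i.down : MvPolynomial (Fin (n + 1)) R) * X j.down ≠ 0 :=
      mul_ne_zero (hX0 i) (hX0 j)
    have hdeg : (X i.down : MvPolynomial (Fin (n + 1)) R) * X j.down ∈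
        (CohB1.polyGrading n R) (1 + 1) :=
      (isHomogeneous_X R i.down).mul (isHomogeneous_X R j.down)
    have h1 := isFU_kap_of_isUnit hdeg (by norm_num) hne
      (rres (Proj (CohB1.polyGrading n R)) (le_of_eq hE) (η i j))
      (rres_isUnit (le_of_eq hE) (hηu i j))
    rw [kap_res] at h1
    rw [hg]
    exact h1
  -- cocycle
  have hcoc : ∀ i j k : Idx.{u} n, g i j * g j k = g i k := by
    intro i j k
    have hTi : Vu n R i ⊓ Vu n R j ⊓ Vu n R k ≤ Vu n R i := inf_le_left.trans inf_le_left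
    have hTj : Vu n R i ⊓ Vu n R j ⊓ Vu n R k ≤ Vu n R j := inf_le_left.trans inf_le_right
    have hTk : Vu n R i ⊓ Vu n R j ⊓ Vu n R k ≤ Vu n R k := inf_le_right
    have hgT : gen n R ∈ Vu n R i ⊓ Vu n R j ⊓ Vu n R k := ⟨⟨hg1 i, hg1 j⟩, hg1 k⟩
    have e1 := Cocycle.trans_on (Vu n R) e η hη i j _ hTi hTj
    have e2 := Cocycle.trans_on (Vu n R) e η hη j k _ hTj hTk
    have e3 := Cocycle.trans_on (Vu n R) e η hη i k _ hTi hTk
    have e4 : rres (Proj (CohB1.polyGrading n R)) (le_inf hTi hTk) (η i k) =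
        rres (Proj (CohB1.polyGrading n R)) (le_inf hTi hTj) (η i j) *
          rres (Proj (CohB1.polyGrading n R)) (le_inf hTj hTk) (η j k) := by
      apply (he k _ hTk).smul_inj
      rw [mul_smul, ← e2, ← e1, ← e3]
    have e5 := congrArg (kap hgT) e4
    rw [map_mul, kap_res, kap_res, kap_res] at e5
    rw [hg, hg, hg]
    exact e5.symm
  obtain ⟨h, hFU, hrel⟩ := exists_coboundary
    (fun i : Idx.{u} n => (X i.down : MvPolynomial (Fin (n + 1)) R)) hX0 g hgFU hcoc
  have hh0 : ∀ i, h i ≠ 0 := fun i => (hFU i).ne_zero (hX0 i)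
  have hform : ∀ i : Idx.{u} n, ∃ (c : R) (_ : IsUnit c) (p q : ℕ),
      h i * algebraMap (MvPolynomial (Fin (n + 1)) R) (KK n R) (X i.down ^ q) =
        algebraMap (MvPolynomial (Fin (n + 1)) R) (KK n R) (C c * X i.down ^ p) :=
    fun i => isFU_X_form i.down (hFU i)
  choose c hc p q hpq using hform
  have hinj := IsFractionRing.injective (MvPolynomial (Fin (n + 1)) R) (KK n R)
  -- the degrees agree
  have hdeg : ∀ i j : Idx.{u} n, (p i : ℤ) - q i = (p j : ℤ) - q j := by
    intro i j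
    obtain ⟨r, a, s, ha, hs, hs0, has⟩ := kap_form (hg2 i j) (η i j)
    rw [← hg] at has
    have key : C (c j) * X j.down ^ p j * a * X i.down ^ q i =
        C (c i) * X i.down ^ p i * X j.down ^ q j * s := by
      apply hinj
      have e1 : algebraMap (MvPolynomial (Fin (n + 1)) R) (KK n R)
          (C (c j) * X j.down ^ p j * a * X i.down ^ q i) =
          (h j * algebraMap (MvPolynomial (Fin (n + 1)) R) (KK n R) (X j.down ^ q j)) *
            (g i j * algebraMap (MvPolynomial (Fin (n + 1)) R) (KK n R) s) *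
              algebraMap (MvPolynomial (Fin (n + 1)) R) (KK n R) (X i.down ^ q i) := by
        rw [hpq j, has, ← map_mul, ← map_mul]
      have e2 : algebraMap (MvPolynomial (Fin (n + 1)) R) (KK n R)
          (C (c i) * X i.down ^ p i * X j.down ^ q j * s) =
          (h i * algebraMap (MvPolynomial (Fin (n + 1)) R) (KK n R) (X i.down ^ q i)) *
            algebraMap (MvPolynomial (Fin (n + 1)) R) (KK n R) (X j.down ^ q j) *
              algebraMap (MvPolynomial (Fin (n + 1)) R) (KK n R) s := by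
        rw [hpq i, ← map_mul, ← map_mul]
      rw [e1, e2, ← hrel i j]
      ring
    have hL1 : (C (c j) * X j.down ^ p j * a * X i.down ^ q i :
        MvPolynomial (Fin (n + 1)) R).IsHomogeneous (p j + r + q i) :=
      ((isHomogeneous_C_mul_X_pow (c j) j.down (p j)).mul ha).mul
        (isHomogeneous_X_pow i.down (q i))
    have hL2 : (C (c i) * X i.down ^ p i * X j.down ^ q j * s :
        MvPolynomial (Fin (n + 1)) R).IsHomogeneous (p i + q j + r) :=
      ((isHomogeneous_C_mul_X_pow (c i) i.down (p i)).mul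
        (isHomogeneous_X_pow j.down (q j))).mul hs
    have hne : (C (c i) * X i.down ^ p i * X j.down ^ q j * s :
        MvPolynomial (Fin (n + 1)) R) ≠ 0 :=
      mul_ne_zero (mul_ne_zero (mul_ne_zero
        ((map_ne_zero_iff _ (C_injective _ _)).mpr (hc i).ne_zero)
        (pow_ne_zero _ (hX0 i))) (pow_ne_zero _ (hX0 j))) hs0
    rw [← key] at hL2 hne
    have := hL1.inj_right hL2 hne
    omega
  obtain ⟨m, hm⟩ : ∃ m : ℤ, m = (p ⟨0⟩ : ℤ) - q ⟨0⟩ := ⟨_, rfl⟩
  obtain ⟨P, Q, hPQ⟩ : ∃ P Q : ℕ, (P : ℤ) = Q + m := ⟨m.toNat, (-m).toNat, by omega⟩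
  have hh : ∀ i : Idx.{u} n,
      h i * algebraMap (MvPolynomial (Fin (n + 1)) R) (KK n R) (X i.down ^ Q) =
        algebraMap (MvPolynomial (Fin (n + 1)) R) (KK n R) (C (c i) * X i.down ^ P) := by
    intro i
    have hi : p i + Q = P + q i := by
      have := hdeg i ⟨0⟩
      omega
    have hne : algebraMap (MvPolynomial (Fin (n + 1)) R) (KK n R) (X i.down ^ q i) ≠ 0 :=
      (map_ne_zero_iff _ hinj).mpr (pow_ne_zero _ (hX0 i))
    apply mul_right_cancel₀ hne
    calc h i * algebraMap (MvPolynomial (Fin (n + 1)) R) (KK n R) (X i.down ^ Q) *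
          algebraMap (MvPolynomial (Fin (n + 1)) R) (KK n R) (X i.down ^ q i)
        = (h i * algebraMap (MvPolynomial (Fin (n + 1)) R) (KK n R) (X i.down ^ q i)) *
          algebraMap (MvPolynomial (Fin (n + 1)) R) (KK n R) (X i.down ^ Q) := by ring
      _ = algebraMap (MvPolynomial (Fin (n + 1)) R) (KK n R) (C (c i) * X i.down ^ (p i + Q)) := by
          rw [hpq i, ← map_mul, pow_add, mul_assoc]
      _ = algebraMap (MvPolynomial (Fin (n + 1)) R) (KK n R) (C (c i) * X i.down ^ P) *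
          algebraMap (MvPolynomial (Fin (n + 1)) R) (KK n R) (X i.down ^ q i) := by
          rw [hi, ← map_mul, pow_add, mul_assoc]
  refine ⟨m, ?_⟩
  -- generators of `O(m)`
  have hXv : ∀ (i : Idx.{u} n) (x : Vu n R i),
      (X i.down : MvPolynomial (Fin (n + 1)) R) ∉ x.1.asHomogeneousIdeal :=
    fun i x => (mem_V n R).mp x.2
  have hbv : ∀ (i : Idx.{u} n) (x : Vu n R i),
      (X i.down ^ Q : MvPolynomial (Fin (n + 1)) R) ∉ x.1.asHomogeneousIdeal :=
    fun i x hmem => hXv i x (x.1.isPrime.mem_of_pow_mem Q hmem)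
  have hav : ∀ (i : Idx.{u} n) (x : Vu n R i),
      (C (c i) * X i.down ^ P : MvPolynomial (Fin (n + 1)) R) ∉ x.1.asHomogeneousIdeal := by
    intro i x hmem
    rcases x.1.isPrime.mem_or_mem hmem with h1 | h1
    · exact x.1.isPrime.ne_top (Ideal.eq_top_of_isUnit_mem _ h1 ((hc i).map C))
    · exact hXv i x (x.1.isPrime.mem_of_pow_mem P h1)
  obtain ⟨s', hs'def⟩ : ∃ s' : ∀ i : Idx.{u} n,
      Γ(Twist.twist (CohB1.polyGrading n R) m, Vu n R i),
      ∀ i, s' i = frac (Vu n R i)
        (⟨C (c i) * X i.down ^ P, isHomogeneous_C_mul_X_pow (c i) i.down P⟩ :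
          (CohB1.polyGrading n R) P)
        (⟨X i.down ^ Q, isHomogeneous_X_pow i.down Q⟩ : (CohB1.polyGrading n R) Q)
        (hbv i) m hPQ := ⟨_, fun _ => rfl⟩
  have hs' : ∀ i, IsGen (Twist.twist (CohB1.polyGrading n R) m) (Vu n R i) (s' i) := by
    intro i
    rw [hs'def]
    exact isGen_frac _ _ _ (hav i) (hbv i) m hPQ
  have hks : ∀ i, kapt (hg1 i) (s' i) = h i := by
    intro i
    have h1 := kapt_frac (hg1 i)
      (⟨C (c i) * X i.down ^ P, isHomogeneous_C_mul_X_pow (c i) i.down P⟩ :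
        (CohB1.polyGrading n R) P)
      (⟨X i.down ^ Q, isHomogeneous_X_pow i.down Q⟩ : (CohB1.polyGrading n R) Q)
      (hbv i) m hPQ
    rw [← hs'def] at h1
    have hne : algebraMap (MvPolynomial (Fin (n + 1)) R) (KK n R) (X i.down ^ Q) ≠ 0 :=
      (map_ne_zero_iff _ hinj).mpr (pow_ne_zero _ (hX0 i))
    exact mul_right_cancel₀ hne (h1.trans (hh i).symm)
  have hη' : ∀ i j : Idx.{u} n,
      res (Twist.twist (CohB1.polyGrading n R) m)
        (inf_le_left : Vu n R i ⊓ Vu n R j ≤ Vu n R i) (s' i) =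
      η i j • res (Twist.twist (CohB1.polyGrading n R) m)
        (inf_le_right : Vu n R i ⊓ Vu n R j ≤ Vu n R j) (s' j) := by
    intro i j
    obtain ⟨η', hη'⟩ := (hs' j _ inf_le_right).exists_coord
      (res (Twist.twist (CohB1.polyGrading n R) m)
        (inf_le_left : Vu n R i ⊓ Vu n R j ≤ Vu n R i) (s' i))
    have h1 := congrArg (kapt (hg2 i j)) hη'
    rw [kapt_smul, kapt_res, kapt_res, hks, hks] at h1
    have h2 : kap (hg2 i j) η' = kap (hg2 i j) (η i j) := by
      apply mul_right_cancel₀ (hh0 j)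
      rw [h1, ← hg, mul_comm, hrel i j]
    rw [← kap_injective (hg2 i j) h2]
    exact hη'.symm
  exact Cocycle.nonempty_iso_of_units (Vu n R) (iSup_Vu n R) e s' he hs' η η hη hη'
    (fun _ => 1) (fun i j => by simp only [Units.val_one, rres_one, mul_one, one_mul])

end Groth.Agent.Lib.Helper7.PicPn
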