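import Mathlib
import Groth.Agent.S0542
import Groth.Agent.Lib.Helper7.CohenStruct7

/-!
# Limits in completions of Noetherian local rings, and the induced map on completions

* `mem_maximalIdeal_pow_iff`, `exists_limit` (limits of Cauchy sequences, staying in the extension
  of a given ideal: ideals of the completion are closed).
* `complMap : Â →ₐ[A] B̂` for a local homomorphism `A → B` of Noetherian local rings.
* `surjective_of_map_maximalIdeal_eq`.
* `exists_node_hom`: the surjection `Â[[x,y]]/(xy - α) → B̂` built from approximating sequences.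
-/

set_option autoImplicit false
universe u

open IsLocalRing

namespace Groth.Agent.Lib.Helper7.ComplLim

theorem surjective_of_map_maximalIdeal_eq {P R : Type*} [CommRing P] [IsLocalRing P]
    [IsPrecomplete (maximalIdeal P) P] [CommRing R] [IsLocalRing R]
    [IsHausdorff (maximalIdeal R) R] (ψ : P →+* R)
    (hmap : (maximalIdeal P).map ψ = maximalIdeal R)
    (hres : Function.Surjective ((residue R).comp ψ)) : Function.Surjective ψ := by
  haveI : IsHausdorff ((maximalIdeal P).map ψ) R := by
    rw [hmap]; infer_instance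
  apply surjective_of_mk_map_comp_surjective ψ (I := maximalIdeal P)
  intro y
  obtain ⟨r, rfl⟩ := Ideal.Quotient.mk_surjective y
  obtain ⟨c, hc⟩ := hres (residue R r)
  refine ⟨c, ?_⟩
  rw [RingHom.comp_apply, Ideal.Quotient.eq, hmap]
  rw [RingHom.comp_apply] at hc
  have h3 : residue R (ψ c - r) = 0 := by rw [map_sub, hc, sub_self]
  exact (residue_eq_zero_iff _).mp h3

section single

variable (R : Type u) [CommRing R] [IsNoetherianRing R] [IsLocalRing R]

theorem isNoetherianRing_compl : IsNoetherianRing (AdicCompletion (maximalIdeal R) R) :=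
  Groth.Agent.S0542.result R (maximalIdeal R) (Ideal.fg_of_isNoetherianRing _)

variable {R}

theorem smul_top_eq (I : Ideal R) : (I • ⊤ : Submodule R R) = I := Ideal.mul_top I

theorem mem_maximalIdeal_pow_iff (x : AdicCompletion (maximalIdeal R) R) (n : ℕ) :
    x ∈ maximalIdeal (AdicCompletion (maximalIdeal R) R) ^ n ↔
      AdicCompletion.evalₐ (maximalIdeal R) n x = 0 := by
  have fg : (maximalIdeal R).FG := Ideal.fg_of_isNoetherianRing _
  rw [AdicCompletion.maximalIdeal_eq_map, ← Ideal.map_pow, ← Submodule.restrictScalars_mem R,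
    ← Ideal.smul_top_eq_map, AdicCompletion.pow_smul_top_eq_ker_eval fg, LinearMap.mem_ker]
  constructor
  · intro h
    rw [← AdicCompletion.factor_eval_eq_evalₐ _ x (le_of_eq (Ideal.mul_top _)), h, map_zero]
  · intro h
    rw [← AdicCompletion.factor_evalₐ_eq_eval _ x (le_of_eq (Ideal.mul_top _).symm), h, map_zero]

theorem evalₐ_algebraMap (n : ℕ) (x : R) :
    AdicCompletion.evalₐ (maximalIdeal R) n
      (algebraMap R (AdicCompletion (maximalIdeal R) R) x) =
        Ideal.Quotient.mk (maximalIdeal R ^ n) x :=
  AdicCompletion.evalₐ_of (maximalIdeal R) n x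

theorem mk_sub_algebraMap_mem (c : AdicCompletion.AdicCauchySequence (maximalIdeal R) R) (n : ℕ) :
    AdicCompletion.mk (maximalIdeal R) R c -
      algebraMap R (AdicCompletion (maximalIdeal R) R) (c n) ∈
      maximalIdeal (AdicCompletion (maximalIdeal R) R) ^ n := by
  rw [mem_maximalIdeal_pow_iff, map_sub, AdicCompletion.evalₐ_mk, evalₐ_algebraMap, sub_self]

/-- ideals of the completion are closed: the limit of a sequence which is constant modulo `J₀`
differs from the terms by an element of `J₀ R̂`. -/
theorem mk_sub_algebraMap_mem_map (J₀ : Ideal R)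
    (c : AdicCompletion.AdicCauchySequence (maximalIdeal R) R) (hc : ∀ n, c n - c 0 ∈ J₀) :
    AdicCompletion.mk (maximalIdeal R) R c -
      algebraMap R (AdicCompletion (maximalIdeal R) R) (c 0) ∈
      J₀.map (algebraMap R (AdicCompletion (maximalIdeal R) R)) := by
  haveI := isNoetherianRing_compl R
  rw [← Ideal.Quotient.eq_zero_iff_mem]
  refine IsHausdorff.haus (inferInstance :
    IsHausdorff (maximalIdeal (AdicCompletion (maximalIdeal R) R))
      (AdicCompletion (maximalIdeal R) R ⧸
        J₀.map (algebraMap R (AdicCompletion (maximalIdeal R) R)))) _ (fun n => ?_)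
  rw [SModEq.zero]
  have h1 : algebraMap R (AdicCompletion (maximalIdeal R) R) (c n) -
      algebraMap R (AdicCompletion (maximalIdeal R) R) (c 0) ∈
      J₀.map (algebraMap R (AdicCompletion (maximalIdeal R) R)) := by
    rw [← map_sub]
    exact Ideal.mem_map_of_mem _ (hc n)
  have h2 : Ideal.Quotient.mk (J₀.map (algebraMap R (AdicCompletion (maximalIdeal R) R)))
      (AdicCompletion.mk (maximalIdeal R) R c -
        algebraMap R (AdicCompletion (maximalIdeal R) R) (c 0)) =
      Ideal.Quotient.mk (J₀.map (algebraMap R (AdicCompletion (maximalIdeal R) R)))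
      (AdicCompletion.mk (maximalIdeal R) R c -
        algebraMap R (AdicCompletion (maximalIdeal R) R) (c n)) := by
    rw [Ideal.Quotient.eq]
    have h : (AdicCompletion.mk (maximalIdeal R) R c -
        algebraMap R (AdicCompletion (maximalIdeal R) R) (c 0)) -
      (AdicCompletion.mk (maximalIdeal R) R c -
        algebraMap R (AdicCompletion (maximalIdeal R) R) (c n)) =
      algebraMap R (AdicCompletion (maximalIdeal R) R) (c n) -
        algebraMap R (AdicCompletion (maximalIdeal R) R) (c 0) := by ring
    rw [h]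
    exact h1
  rw [h2]
  have h3 := mk_sub_algebraMap_mem c n
  have h4 : ∀ y : AdicCompletion (maximalIdeal R) R,
      Ideal.Quotient.mk (J₀.map (algebraMap R (AdicCompletion (maximalIdeal R) R))) y =
        y • (1 : AdicCompletion (maximalIdeal R) R ⧸
          J₀.map (algebraMap R (AdicCompletion (maximalIdeal R) R))) := by
    intro y
    rw [Algebra.smul_def, mul_one, Ideal.Quotient.algebraMap_eq]
  rw [h4]
  exact Submodule.smul_mem_smul h3 Submodule.mem_top

/-- limits of sequences in a Noetherian local ring -/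
theorem exists_limit (J₀ : Ideal R) (f : ℕ → R)
    (hf : ∀ n, f (n + 1) - f n ∈ maximalIdeal R ^ n) (hJ : ∀ n, f (n + 1) - f n ∈ J₀) :
    ∃ L : AdicCompletion (maximalIdeal R) R,
      (∀ n, AdicCompletion.evalₐ (maximalIdeal R) n L =
        Ideal.Quotient.mk (maximalIdeal R ^ n) (f n)) ∧
      L - algebraMap R (AdicCompletion (maximalIdeal R) R) (f 0) ∈
        J₀.map (algebraMap R (AdicCompletion (maximalIdeal R) R)) := by
  have hc : ∀ n, f n ≡ f (n + 1) [SMOD (maximalIdeal R ^ n • ⊤ : Submodule R R)] := fun n => by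
    rw [SModEq.sub_mem, smul_top_eq, ← neg_sub]
    exact neg_mem (hf n)
  let c := AdicCompletion.AdicCauchySequence.mk (maximalIdeal R) R f hc
  refine ⟨AdicCompletion.mk (maximalIdeal R) R c, fun n => ?_, ?_⟩
  · rw [AdicCompletion.evalₐ_mk]
    rfl
  · have hc0 : ∀ n, c n - c 0 ∈ J₀ := by
      intro n
      show f n - f 0 ∈ J₀
      induction n with
      | zero => rw [sub_self]; exact J₀.zero_mem
      | succ n ih =>
        have : f (n + 1) - f 0 = (f (n + 1) - f n) + (f n - f 0) := by ring
        rw [this]
        exact J₀.add_mem (hJ n) ih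
    exact mk_sub_algebraMap_mem_map J₀ c hc0

end single

section pair

variable {A B : Type u} [CommRing A] [IsLocalRing A] [IsNoetherianRing A]
    [CommRing B] [IsLocalRing B] [IsNoetherianRing B] [Algebra A B] [IsLocalHom (algebraMap A B)]

theorem map_le : (maximalIdeal A).map (algebraMap A B) ≤ maximalIdeal B := by
  have h : IsLocalHom (algebraMap A B) := inferInstance
  exact ((IsLocalRing.local_hom_TFAE (algebraMap A B)).out 0 2).mp h

theorem map_pow_le (n : ℕ) : (maximalIdeal A ^ n).map (algebraMap A B) ≤ maximalIdeal B ^ n := by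
  rw [Ideal.map_pow]
  exact Ideal.pow_right_mono map_le n

theorem ker_aux (n : ℕ) :
    ∀ a ∈ maximalIdeal A ^ n, Algebra.ofId A (B ⧸ maximalIdeal B ^ n) a = 0 := by
  intro a ha
  show algebraMap A (B ⧸ maximalIdeal B ^ n) a = 0
  rw [IsScalarTower.algebraMap_apply A B (B ⧸ maximalIdeal B ^ n), Ideal.Quotient.algebraMap_eq,
    Ideal.Quotient.eq_zero_iff_mem]
  exact map_pow_le n (Ideal.mem_map_of_mem _ ha)

/-- the components of the induced map on completions -/
noncomputable def fAux (n : ℕ) :
    AdicCompletion (maximalIdeal A) A →ₐ[A] B ⧸ maximalIdeal B ^ n :=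
  (Ideal.Quotient.liftₐ (maximalIdeal A ^ n) (Algebra.ofId A (B ⧸ maximalIdeal B ^ n))
    (ker_aux n)).comp (AdicCompletion.evalₐ (maximalIdeal A) n)

theorem fAux_apply (n : ℕ) (x : AdicCompletion (maximalIdeal A) A) (a : A)
    (hx : AdicCompletion.evalₐ (maximalIdeal A) n x = Ideal.Quotient.mk (maximalIdeal A ^ n) a) :
    fAux (B := B) n x = Ideal.Quotient.mk (maximalIdeal B ^ n) (algebraMap A B a) := by
  show Ideal.Quotient.liftₐ (maximalIdeal A ^ n) (Algebra.ofId A (B ⧸ maximalIdeal B ^ n))
    (ker_aux n) (AdicCompletion.evalₐ (maximalIdeal A) n x) = _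
  rw [hx]
  rfl

theorem fAux_compat {m n : ℕ} (hle : m ≤ n) :
    (Ideal.Quotient.factorₐ A (Ideal.pow_le_pow_right hle)).comp (fAux (B := B) n) =
      fAux (B := B) m := by
  apply AlgHom.ext
  intro x
  obtain ⟨c, rfl⟩ := AdicCompletion.mk_surjective (maximalIdeal A) A x
  rw [AlgHom.comp_apply, fAux_apply (A := A) (B := B) n _ (c n) (AdicCompletion.evalₐ_mk _ n c),
    fAux_apply (A := A) (B := B) m _ (c m) (AdicCompletion.evalₐ_mk _ m c)]
  show Ideal.Quotient.mk (maximalIdeal B ^ m) (algebraMap A B (c n)) =
    Ideal.Quotient.mk (maximalIdeal B ^ m) (algebraMap A B (c m))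
  rw [Ideal.Quotient.eq, ← map_sub]
  refine map_pow_le (A := A) (B := B) m (Ideal.mem_map_of_mem _ ?_)
  have h := c.property hle
  rw [SModEq.sub_mem, smul_top_eq] at h
  rw [← neg_sub]
  exact neg_mem h

/-- the map on completions induced by a local homomorphism of Noetherian local rings -/
noncomputable def complMap :
    AdicCompletion (maximalIdeal A) A →ₐ[A] AdicCompletion (maximalIdeal B) B :=
  AdicCompletion.liftAlgHom (maximalIdeal B) (fun n => fAux (B := B) n)
    (fun hle => fAux_compat hle)

theorem evalₐ_complMap (n : ℕ) (x : AdicCompletion (maximalIdeal A) A) (a : A)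
    (hx : AdicCompletion.evalₐ (maximalIdeal A) n x = Ideal.Quotient.mk (maximalIdeal A ^ n) a) :
    AdicCompletion.evalₐ (maximalIdeal B) n (complMap (B := B) x) =
      Ideal.Quotient.mk (maximalIdeal B ^ n) (algebraMap A B a) := by
  rw [complMap, AdicCompletion.evalₐ_liftAlgHom]
  exact fAux_apply n x a hx

theorem map_maximalIdeal_complMap :
    (maximalIdeal (AdicCompletion (maximalIdeal A) A)).map
      ((complMap (A := A) (B := B) : AdicCompletion (maximalIdeal A) A →ₐ[A]
        AdicCompletion (maximalIdeal B) B) : AdicCompletion (maximalIdeal A) A →+*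
        AdicCompletion (maximalIdeal B) B) =
      (maximalIdeal A).map (algebraMap A (AdicCompletion (maximalIdeal B) B)) := by
  rw [AdicCompletion.maximalIdeal_eq_map, Ideal.map_map, AlgHom.comp_algebraMap]

end pair

end Groth.Agent.Lib.Helper7.ComplLim
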