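import Groth.Agent.Lib.Helper23.CurveH
import Groth.Agent.Lib.Helper23.GeomH0
import Groth.Agent.Lib.Helper23.FBC2
import Groth.Agent.Lib.Helper7.CohFinite

/-!
# CurvePair: the multiplication pairing `H⁰(L) × Hⁿ(O) → Hⁿ(L)` and `h⁰(L) ≤ g` when `H¹(L) ≠ 0`
-/
set_option autoImplicit false
universe u
open CategoryTheory CategoryTheory.Limits Opposite TopologicalSpace AlgebraicGeometry
open Groth.Agent.Lib.Helper3 Groth.Agent.Lib.Helper3.QCSec Groth.Agent.Lib.Helper3.InvGen
open Groth.Agent.Lib.Helper23.T2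

noncomputable section

namespace Groth.Agent.Lib.Helper7.CurvePair

section LA

/-- if every nonzero `w` gives a surjection `V → V'` (`V' ≠ 0`), then `dim W ≤ dim V`. -/
lemma finrank_le_of_forall_surjective {k W V V' : Type*} [Field k] [AddCommGroup W] [Module k W]
    [AddCommGroup V] [Module k V] [AddCommGroup V'] [Module k V'] [Nontrivial V']
    [FiniteDimensional k V]
    (Φ : W →ₗ[k] V →ₗ[k] V') (h : ∀ w, w ≠ 0 → Function.Surjective (Φ w)) :
    Module.finrank k W ≤ Module.finrank k V := by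
  obtain ⟨v, hv⟩ := exists_ne (0 : V')
  obtain ⟨l, hl⟩ : ∃ l : Module.Dual k V', l v ≠ 0 := by
    by_contra hcon
    push Not at hcon
    exact hv ((Module.forall_dual_apply_eq_zero_iff k v).1 hcon)
  let Ψ : W →ₗ[k] Module.Dual k V :=
    { toFun := fun w => l ∘ₗ Φ w
      map_add' := fun a b => by ext x; simp
      map_smul' := fun c a => by ext x; simp }
  have hinj : Function.Injective Ψ := by
    rw [injective_iff_map_eq_zero]
    intro w hw
    by_contra hw0
    obtain ⟨x, hx⟩ := h w hw0 v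
    have h1 : Ψ w x = l v := by
      change l (Φ w x) = l v
      rw [hx]
    rw [hw] at h1
    exact hl h1.symm
  calc Module.finrank k W ≤ Module.finrank k (Module.Dual k V) :=
        LinearMap.finrank_le_finrank_of_injective hinj
    _ = Module.finrank k V := Subspace.dual_finrank_eq

end LA

variable {X : Scheme.{u}}

lemma TT_map_smulModΓ (M : X.Modules) (r : Coh.Γtop X) :
    (Groth.Agent.Lib.Helper13.SerreCrit1.TT X).map (Formal.smulModΓ M r) = Coh.smulAb M r := rfl

lemma Hmap_smulModΓ (M : X.Modules) (r : Coh.Γtop X) (n : ℕ) (x : Coh.HH X M n) :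
    Hmap (Formal.smulModΓ M r) n x = r • x := by
  rw [Hmap_apply, TT_map_smulModΓ]
  rfl

lemma hom_ext_sec {L : X.Modules} (s t : Coh.structureModule X ⟶ L)
    (h : sec s ⊤ = sec t ⊤) : s = t := by
  apply L.unitHomEquiv.injective
  apply PresheafOfModules.sections_ext
  intro U
  have h1 : (L.unitHomEquiv s).val U = sec s U.unop := rfl
  have h2 : (L.unitHomEquiv t).val U = sec t U.unop := rfl
  rw [h1, h2, ← res_sec s (le_top : U.unop ≤ ⊤), ← res_sec t (le_top : U.unop ≤ ⊤), h]

lemma sec_globalHom_top (L : X.Modules) (m : Γ(L, ⊤)) : sec (InvAmple.globalHom L m) ⊤ = m := by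
  rw [InvAmple.sec_globalHom, res_self]

lemma globalHom_add (L : X.Modules) (a b : Γ(L, ⊤)) :
    InvAmple.globalHom L (a + b) = InvAmple.globalHom L a + InvAmple.globalHom L b := by
  apply hom_ext_sec
  rw [sec_add, sec_globalHom_top, sec_globalHom_top, sec_globalHom_top]

lemma globalHom_ne_zero (L : X.Modules) (m : Γ(L, ⊤)) (hm : m ≠ 0) :
    InvAmple.globalHom L m ≠ 0 := by
  intro hs
  apply hm
  have h1 := sec_globalHom_top L m
  rw [hs] at h1
  rw [← h1]
  rfl

lemma resTop_top' (r : Coh.Γtop X) :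
    X.presheaf.map (homOfLE (le_top : (⊤ : X.Opens) ≤ ⊤)).op r = r := by
  have h : (homOfLE (le_top : (⊤ : X.Opens) ≤ ⊤)).op = 𝟙 (op (⊤ : X.Opens)) := rfl
  rw [h, X.presheaf.map_id]
  rfl

set_option backward.isDefEq.respectTransparency false in
lemma globalHom_smul (L : X.Modules) (r : Γ(X, ⊤)) (m : Γ(L, ⊤)) :
    InvAmple.globalHom L (r • m) = InvAmple.globalHom L m ≫ Formal.smulModΓ L r := by
  apply hom_ext_sec
  rw [sec_comp, sec_globalHom_top, sec_globalHom_top, KLin.smulModΓ_app_apply]
  exact congrArg (fun t : Γ(X, ⊤) => t • m) (resTop_top' r).symm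

variable (k : Type u) [Field k] [X.Over (Spec (CommRingCat.of k))]

set_option backward.isDefEq.respectTransparency false in
/-- the multiplication pairing `H⁰(L) × Hⁿ(O) → Hⁿ(L)`, `k`-bilinear. -/
def pairL (L : X.Modules) (n : ℕ) :
    Coh.HH X L 0 →ₗ[k] (Coh.HH X (Coh.structureModule X) n →ₗ[k] Coh.HH X L n) where
  toFun w := Groth.Agent.Lib.Helper7.CohFinite.HmapL k (InvAmple.globalHom L (H0equiv L w)) n
  map_add' a b := by
    ext x
    change Hmap (InvAmple.globalHom L (H0equiv L (a + b))) n x =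
      Hmap (InvAmple.globalHom L (H0equiv L a)) n x + Hmap (InvAmple.globalHom L (H0equiv L b)) n x
    calc Hmap (InvAmple.globalHom L (H0equiv L (a + b))) n x
        = Hmap (InvAmple.globalHom L (H0equiv L a) + InvAmple.globalHom L (H0equiv L b)) n x :=
          congrArg (fun φ => Hmap φ n x)
            ((congrArg (InvAmple.globalHom L) (map_add (H0equiv L) a b)).trans
              (globalHom_add L (H0equiv L a) (H0equiv L b)))
      _ = _ := Groth.Agent.Lib.Helper23.FBC.Hmap_add _ _ n x
  map_smul' c a := by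
    ext x
    change Hmap (InvAmple.globalHom L
        (H0equiv L (Coh.toGlobal (X ↘ Spec (CommRingCat.of k)) c • a))) n x =
      Coh.toGlobal (X ↘ Spec (CommRingCat.of k)) c • Hmap (InvAmple.globalHom L (H0equiv L a)) n x
    calc Hmap (InvAmple.globalHom L
          (H0equiv L (Coh.toGlobal (X ↘ Spec (CommRingCat.of k)) c • a))) n x
        = Hmap (InvAmple.globalHom L (H0equiv L a) ≫
            Formal.smulModΓ L (Coh.toGlobal (X ↘ Spec (CommRingCat.of k)) c)) n x :=
          congrArg (fun φ => Hmap φ n x)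
            ((congrArg (InvAmple.globalHom L)
              (map_smul (H0equiv L) (Coh.toGlobal (X ↘ Spec (CommRingCat.of k)) c) a)).trans
              (globalHom_smul L (Coh.toGlobal (X ↘ Spec (CommRingCat.of k)) c) (H0equiv L a)))
      _ = _ := by rw [Hmap_comp, Hmap_smulModΓ]

lemma pairL_apply (L : X.Modules) (n : ℕ) (w : Coh.HH X L 0)
    (x : Coh.HH X (Coh.structureModule X) n) :
    pairL k L n w x = Hmap (InvAmple.globalHom L (H0equiv L w)) n x := rfl

/-- on a proper integral curve, `H¹(L) ≠ 0` forces `h⁰(L) ≤ g`. -/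
theorem h0_le_genus_of_h1_nontrivial [IsProper (X ↘ Spec (CommRingCat.of k))] [IsIntegral X]
    (hdim : topologicalKrullDim X ≤ 1) {L : X.Modules} (hL : PicF.IsInvertible L)
    (h1 : Nontrivial (Coh.HH X L 1)) :
    Module.finrank k (Coh.HH X L 0) ≤ Curv2.genus k X := by
  haveI := Groth.Agent.Lib.Helper23.Curve.isNoetherian_of_isProper k X
  haveI : Module.Finite k (Coh.HH X (Coh.structureModule X) 1) :=
    finite_HH k _ (Groth.Agent.Lib.Helper23.T2.isCoh_structureModule X) 1
  refine finrank_le_of_forall_surjective (pairL k L 1) ?_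
  intro w hw y
  have hm0 : H0equiv L w ≠ 0 := fun h0 => hw ((H0equiv L).injective (by rw [map_zero]; exact h0))
  have hσ := globalHom_ne_zero L (H0equiv L w) hm0
  obtain ⟨hmono, hcohQ, hfl, -⟩ := Groth.Agent.Lib.Helper23.Curve.invertible_map k hdim
    (Groth.Agent.Lib.Helper3.InvGen.isInvertible_structureModule X) hL _ hσ
  haveI := hmono
  have hQ : Subsingleton (HHm (cokernel (InvAmple.globalHom L (H0equiv L w))) 1) :=
    acyclic_of_isFlq hfl 0
  have hy : Hmap (cokernel.π (InvAmple.globalHom L (H0equiv L w))) 1 y = 0 := hQ.elim _ _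
  obtain ⟨z, hz⟩ := exact₂ (Groth.Agent.Lib.Helper23.Curve.cokerSC _)
    (Groth.Agent.Lib.Helper23.Curve.cokerSC_shortExact (InvAmple.globalHom L (H0equiv L w))) 1 y hy
  exact ⟨z, hz⟩

/-- on a proper integral curve over an algebraically closed field, `deg L ≥ 2g - 1` forces
`H¹(L) = 0`. -/
theorem h1_vanish_of_deg_ge [IsAlgClosed k] [IsProper (X ↘ Spec (CommRingCat.of k))] [IsIntegral X]
    (hdim : topologicalKrullDim X ≤ 1) {L : X.Modules} (hL : PicF.IsInvertible L)
    (hdeg : 2 * (Curv2.genus k X : ℤ) - 1 ≤ Curv2.deg k X L 1) :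
    Subsingleton (Coh.HH X L 1) := by
  by_contra hns
  rw [not_subsingleton_iff_nontrivial] at hns
  haveI : IsReduced X := inferInstance
  haveI : ConnectedSpace X := inferInstance
  have h0 := Groth.Agent.Lib.Helper23.GeomH0.finrank_H0_eq_one_of_isAlgClosed k X
  have hle := h0_le_genus_of_h1_nontrivial k hdim hL hns
  have hrr := Groth.Agent.Lib.Helper23.Curve.riemann_roch k hdim h0 hL
  haveI := Groth.Agent.Lib.Helper23.Curve.isNoetherian_of_isProper k X
  haveI : Module.Finite k (Coh.HH X L 1) :=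
    finite_HH k L (Groth.Agent.Lib.Helper23.Curve.isCoh_of_isInvertible hL) 1
  have hpos : 0 < Module.finrank k (Coh.HH X L 1) := Module.finrank_pos
  have h2 : (Module.finrank k (Coh.HH X L 0) : ℤ) ≤ (Curv2.genus k X : ℤ) := by exact_mod_cast hle
  have h3 : (0 : ℤ) < (Module.finrank k (Coh.HH X L 1) : ℤ) := by exact_mod_cast hpos
  linarith

end Groth.Agent.Lib.Helper7.CurvePair
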