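import Mathlib
import Groth.Prelude.Def_EGA4b
import Groth.Agent.Lib.Helper14.NormalRing

/-!
# Normal homomorphisms / geometrically reduced fibres under quasi-finite base change (helper7)
-/

set_option autoImplicit false
universe u

namespace Groth.Agent.Lib.Helper7.FibreLoc

open TensorProduct

theorem isGeomNormal_of_algEquiv {k S S' : Type u} [Field k] [CommRing S] [CommRing S']
    [Algebra k S] [Algebra k S'] (e : S ≃ₐ[k] S') (h : EGA4.IsGeomNormal k S) :
    EGA4.IsGeomNormal k S' := by
  intro k' _ _ hfin
  exact Groth.Agent.Lib.Helper14.isNormalRing_of_ringEquiv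
    (Algebra.TensorProduct.congr (AlgEquiv.refl : k' ≃ₐ[k] k') e).toRingEquiv (h k' hfin)

theorem isGeomNormal_tensor_of_finite (k K S : Type u) [Field k] [Field K] [CommRing S]
    [Algebra k K] [Module.Finite k K] [Algebra k S] (h : EGA4.IsGeomNormal k S) :
    EGA4.IsGeomNormal K (K ⊗[k] S) := by
  intro k' _ _ hfin
  letI : Algebra k k' := ((algebraMap K k').comp (algebraMap k K)).toAlgebra
  haveI : IsScalarTower k K k' := IsScalarTower.of_algebraMap_eq (fun _ => rfl)
  haveI : Module.Finite k k' := Module.Finite.trans K k'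
  exact Groth.Agent.Lib.Helper14.isNormalRing_of_ringEquiv
    (Algebra.TensorProduct.cancelBaseChange k K k' k' S).symm.toRingEquiv (h k' inferInstance)

theorem isNormalHom_of_algEquiv {R S S' : Type u} [CommRing R] [CommRing S] [CommRing S']
    [Algebra R S] [Algebra R S'] (e : S ≃ₐ[R] S') (h : EGA4.IsNormalHom R S) :
    EGA4.IsNormalHom R S' := by
  haveI := h.1
  refine ⟨Module.Flat.of_linearEquiv e.toLinearEquiv.symm, fun p hp => ?_⟩
  let e' : p.Fiber S ≃ₐ[p.ResidueField] p.Fiber S' :=
    Algebra.TensorProduct.congr (AlgEquiv.refl : p.ResidueField ≃ₐ[p.ResidueField] p.ResidueField)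
      e
  exact isGeomNormal_of_algEquiv e' (h.2 p)

theorem isNormalHom_baseChange_of_quasiFinite (A B A' : Type u) [CommRing A] [CommRing B]
    [CommRing A'] [Algebra A B] [Algebra A A'] [Algebra.QuasiFinite A A']
    (h : EGA4.IsNormalHom A B) : EGA4.IsNormalHom A' (A' ⊗[A] B) := by
  haveI := h.1
  refine ⟨inferInstance, fun P hP => ?_⟩
  let p := P.under A
  letI := Localization.AtPrime.algebraOfLiesOver p P
  let e : P.Fiber (A' ⊗[A] B) ≃ₐ[P.ResidueField] P.ResidueField ⊗[p.ResidueField] (p.Fiber B) :=
    (Algebra.TensorProduct.cancelBaseChange _ _ _ _ _).trans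
      (Algebra.TensorProduct.cancelBaseChange _ _ _ _ _).symm
  haveI hfin : Module.Finite p.ResidueField P.ResidueField := inferInstance
  exact isGeomNormal_of_algEquiv e.symm
    (isGeomNormal_tensor_of_finite p.ResidueField P.ResidueField _ (h.2 p))

theorem isGeomRed_of_algEquiv {k S S' : Type u} [Field k] [CommRing S] [CommRing S']
    [Algebra k S] [Algebra k S'] (e : S ≃ₐ[k] S') [Algebra.IsGeometricallyReduced k S] :
    Algebra.IsGeometricallyReduced k S' :=
  Algebra.IsGeometricallyReduced.of_injective (e.symm : S' →ₐ[k] S) e.symm.injective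

theorem isGeomRed_tensor_of_finite (k K S : Type u) [Field k] [Field K] [CommRing S]
    [Algebra k K] [Module.Finite k K] [Algebra k S] [Algebra.IsGeometricallyReduced k S] :
    Algebra.IsGeometricallyReduced K (K ⊗[k] S) := by
  rw [Algebra.isGeometricallyReduced_field_iff]
  haveI : Algebra.IsAlgebraic k K := Algebra.IsAlgebraic.of_finite k K
  haveI : Algebra.IsAlgebraic k (AlgebraicClosure K) :=
    Algebra.IsAlgebraic.trans k K (AlgebraicClosure K)
  haveI : IsReduced (AlgebraicClosure K ⊗[k] S) := inferInstance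
  exact isReduced_of_injective
    (Algebra.TensorProduct.cancelBaseChange k K (AlgebraicClosure K) (AlgebraicClosure K) S)
    (Algebra.TensorProduct.cancelBaseChange k K (AlgebraicClosure K)
      (AlgebraicClosure K) S).injective

/-- geometrically reduced fibres are preserved by quasi-finite base change. -/
theorem geomRedFibres_baseChange_of_quasiFinite (A B A' : Type u) [CommRing A] [CommRing B]
    [CommRing A'] [Algebra A B] [Algebra A A'] [Algebra.QuasiFinite A A']
    (h : ∀ (p : Ideal A) [p.IsPrime], Algebra.IsGeometricallyReduced p.ResidueField (p.Fiber B))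
    (P : Ideal A') [P.IsPrime] :
    Algebra.IsGeometricallyReduced P.ResidueField (P.Fiber (A' ⊗[A] B)) := by
  let p := P.under A
  letI := Localization.AtPrime.algebraOfLiesOver p P
  let e : P.Fiber (A' ⊗[A] B) ≃ₐ[P.ResidueField] P.ResidueField ⊗[p.ResidueField] (p.Fiber B) :=
    (Algebra.TensorProduct.cancelBaseChange _ _ _ _ _).trans
      (Algebra.TensorProduct.cancelBaseChange _ _ _ _ _).symm
  haveI hfin : Module.Finite p.ResidueField P.ResidueField := inferInstance
  haveI := h p
  haveI := isGeomRed_tensor_of_finite p.ResidueField P.ResidueField (p.Fiber B)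
  exact isGeomRed_of_algEquiv (S := P.ResidueField ⊗[p.ResidueField] (p.Fiber B))
    (S' := P.Fiber (A' ⊗[A] B)) e.symm

end Groth.Agent.Lib.Helper7.FibreLoc
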