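import Mathlib
import Groth.Prelude.Def_Found
import Groth.Prelude.Def_EGA41
import Groth.Agent.Lib.Helper7.CohenExist
import Groth.Agent.Lib.Helper7.CohenStruct7
import Groth.Agent.Lib.Helper7.CohenFinite
import Groth.Agent.Lib.Helper7.PowSerCRing
import Groth.Agent.Lib.Helper26.RegularCompletion
import Groth.Agent.Lib.Helper26.RegularRing
import Groth.Agent.Lib.Helper4.RegCM
import Groth.Agent.S0579
import Groth.Agent.S2456
import Groth.Agent.S2082

/-!
# Flat Cohen presentations of local homomorphisms of complete Noetherian local rings (helper7)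

* `exists_coeff_strict`: a coefficient ring `Λ → R` which is a field when the residue characteristic
  `p` is `0` and a Cohen ring when `p > 0`, with `𝔪_Λ = (p)` and `dim Λ = 0` resp. `1`;
* `le_ringKrullDim_powser`: `dim Λ + N ≤ dim Λ[[X₁..X_N]]`;
* `powser_hom_ext`: uniqueness of ring maps out of `Λ[[X]]` into a separated local ring;
* `quotient_regular`: a quotient `S/I` with `I` generated by `N` elements, `dim S ≥ r + N` and
  `𝔪_S = I + (y₁..y_r)` is regular of dimension `r`;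
* `exists_lift`: lifting a coefficient ring along a surjection of complete local rings;
* `flat_regular`: `Λ[[X₁..X_n]] → Λ'[[Y₁..Y_r, X₁..X_n]]` is flat with regular closed fibre;
* `exists_pres`: the presentation theorem.
-/

set_option autoImplicit false
universe u

open IsLocalRing MvPowerSeries

namespace Groth.Agent.Lib.Helper7.CohenPres

open Groth.Agent.Lib.Helper7

theorem exists_coeff_strict (R : Type u) [CommRing R] [IsLocalRing R] [IsNoetherianRing R]
    [IsAdicComplete (maximalIdeal R) R] (p : ℕ) [hp : CharP (ResidueField R) p] :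
    ∃ (Λ : Type u) (_ : CommRing Λ) (_ : IsDomain Λ) (_ : IsLocalRing Λ) (_ : IsNoetherianRing Λ)
      (_ : IsPrincipalIdealRing Λ) (_ : IsAdicComplete (maximalIdeal Λ) Λ) (v : Λ →+* R),
      EGA41.IsCohenRingEGA Λ ∧ ((p = 0 ∧ IsField Λ) ∨ (p ≠ 0 ∧ CAlg.IsCohenRing Λ)) ∧
      Function.Surjective ((residue R).comp v) ∧ maximalIdeal Λ = Ideal.span {(p : Λ)} ∧
      ringKrullDim Λ = ((if p = 0 then 0 else 1 : ℕ) : WithBot ℕ∞) := by
  classical
  by_cases hp0 : p = 0
  · subst hp0
    haveI : CharZero (ResidueField R) := CharP.charP_to_charZero _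
    obtain ⟨s, hs⟩ := Groth.Agent.S0579.result R
    have hs' : ∀ y, residue R (s y) = y := fun y =>
      congrArg (fun g : ResidueField R →+* ResidueField R => g y) hs
    refine ⟨ResidueField R, inferInstance, inferInstance, inferInstance, inferInstance,
      inferInstance, inferInstance, s, Or.inl ⟨Field.toIsField _, inferInstance⟩,
      Or.inl ⟨rfl, Field.toIsField _⟩, ?_, ?_, ?_⟩
    · intro y
      exact ⟨y, hs' y⟩
    · rw [IsLocalRing.maximalIdeal_eq_bot, Nat.cast_zero, Ideal.span_singleton_eq_bot.mpr rfl]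
    · rw [if_pos rfl, Nat.cast_zero]
      exact ringKrullDim_eq_zero_of_field _
  · haveI : Fact p.Prime :=
      ⟨(CharP.char_is_prime_or_zero (ResidueField R) p).resolve_right hp0⟩
    obtain ⟨Λ, hring, hloc, hdom, hdvr, hN, hcompl, hmax, ⟨e⟩⟩ :=
      Groth.Agent.Lib.Helper7.CohenExist.exists_cohen p (ResidueField R)
    letI := hring
    haveI := hloc
    haveI := hN
    haveI := hcompl
    haveI := hdom
    haveI := hdvr
    have hcohen : CAlg.IsCohenRing Λ := ⟨hdom, hdvr, hcompl, p, (Fact.out : p.Prime), hmax⟩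
    haveI : IsLocalRing (R ⧸ maximalIdeal R) :=
      inferInstanceAs (IsLocalRing (ResidueField R))
    let u : Λ →+* R ⧸ maximalIdeal R := e.toRingHom.comp (residue Λ)
    haveI : IsLocalHom u := by
      refine ⟨fun a ha => ?_⟩
      by_contra hnu
      have h1 : residue Λ a = 0 :=
        (residue_eq_zero_iff a).mpr ((mem_maximalIdeal a).mpr hnu)
      have h2 : u a = 0 := by
        show e (residue Λ a) = 0
        rw [h1, map_zero]
      rw [h2] at ha
      exact not_isUnit_zero ha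
    obtain ⟨v, hv, hvu⟩ := Groth.Agent.S2456.result (W := Λ) (C := R) (Or.inr hcohen)
      (maximalIdeal R) Ideal.IsPrime.ne_top' u
    have hvu' : ∀ a : Λ, residue R (v a) = e (residue Λ a) :=
      fun a => congrArg (fun g : Λ →+* R ⧸ maximalIdeal R => g a) hvu
    have hvsurj : Function.Surjective ((residue R).comp v) := by
      intro y
      obtain ⟨a, ha⟩ := residue_surjective (e.symm y)
      refine ⟨a, ?_⟩
      rw [RingHom.comp_apply, hvu', ha, RingEquiv.apply_symm_apply]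
    refine ⟨Λ, hring, hdom, hloc, hN, inferInstance, hcompl, v, Or.inr hcohen,
      Or.inr ⟨hp0, hcohen⟩, hvsurj, hmax, ?_⟩
    rw [if_neg hp0, Nat.cast_one]
    exact IsPrincipalIdealRing.ringKrullDim_eq_one Λ (IsDiscreteValuationRing.not_isField Λ)

theorem le_ringKrullDim_powser (Λ : Type*) [CommRing Λ] (N : ℕ) :
    ringKrullDim Λ + (N : WithBot ℕ∞) ≤ ringKrullDim (MvPowerSeries (Fin N) Λ) := by
  induction N with
  | zero =>
    rw [Nat.cast_zero, add_zero]
    exact (ringKrullDim_eq_of_ringEquiv (MvPowerSeries.isEmptyEquiv (Fin 0) Λ).toRingEquiv).ge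
  | succ N ih =>
    have h1 := ringKrullDim_eq_of_ringEquiv (MvPowerSeries.finSuccEquiv Λ N).toRingEquiv
    have h2 := ringKrullDim_succ_le_ringKrullDim_powerseries (R := MvPowerSeries (Fin N) Λ)
    rw [h1]
    calc ringKrullDim Λ + ((N + 1 : ℕ) : WithBot ℕ∞) = (ringKrullDim Λ + N) + 1 := by
          rw [Nat.cast_add, Nat.cast_one, add_assoc]
      _ ≤ ringKrullDim (MvPowerSeries (Fin N) Λ) + 1 := add_le_add ih le_rfl
      _ ≤ _ := h2

theorem powser_hom_ext {Λ B : Type*} [CommRing Λ] [CommRing B] [IsLocalRing B]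
    [IsHausdorff (maximalIdeal B) B] {n : ℕ} (f g : MvPowerSeries (Fin n) Λ →+* B)
    (hC : ∀ r, f (C r) = g (C r)) (hX : ∀ i, f (X i) = g (X i))
    (hm : ∀ i, f (X i) ∈ maximalIdeal B) : f = g := by
  apply RingHom.ext
  intro a
  apply Groth.Agent.Lib.Helper7.CohenStruct7.eq_of_forall_mk_eq (maximalIdeal B)
  intro j
  have h := Groth.Agent.Lib.Helper7.PowSerCRing.evNil_unique
    ((Ideal.Quotient.mk (maximalIdeal B ^ j)).comp f)
    ((Ideal.Quotient.mk (maximalIdeal B ^ j)).comp g)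
    (fun r => by rw [RingHom.comp_apply, RingHom.comp_apply, hC])
    (fun i => by rw [RingHom.comp_apply, RingHom.comp_apply, hX])
    (fun i => ⟨j, by
      rw [RingHom.comp_apply, ← map_pow, Ideal.Quotient.eq_zero_iff_mem]
      exact Ideal.pow_mem_pow (hm i) j⟩)
  exact congrArg (fun h : MvPowerSeries (Fin n) Λ →+* B ⧸ maximalIdeal B ^ j => h a) h

theorem quotient_regular {S : Type*} [CommRing S] [IsLocalRing S] [IsNoetherianRing S]
    (I : Ideal S) (hI : I ≤ maximalIdeal S) (N r : ℕ) (hN : I.spanFinrank ≤ N)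
    (hdim : ((r + N : ℕ) : WithBot ℕ∞) ≤ ringKrullDim S) (y : Fin r → S)
    (hym : ∀ i, y i ∈ maximalIdeal S)
    (hy : maximalIdeal S ≤ I ⊔ Ideal.span (Set.range y)) :
    IsRegularLocalRing (S ⧸ I) ∧ ringKrullDim (S ⧸ I) = (r : WithBot ℕ∞) := by
  classical
  have hItop : I ≠ ⊤ := fun h =>
    (maximalIdeal.isMaximal S).ne_top (top_le_iff.mp (h ▸ hI))
  haveI : Nontrivial (S ⧸ I) := Ideal.Quotient.nontrivial_iff.mpr hItop
  haveI : IsLocalRing (S ⧸ I) :=
    IsLocalRing.of_surjective' (Ideal.Quotient.mk I) Ideal.Quotient.mk_surjective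
  have hsup : maximalIdeal S = I ⊔ Ideal.span (Set.range y) :=
    le_antisymm hy (sup_le hI (Ideal.span_le.mpr (by rintro _ ⟨i, rfl⟩; exact hym i)))
  have hcomap : (maximalIdeal (S ⧸ I)).comap (Ideal.Quotient.mk I) = maximalIdeal S :=
    IsLocalRing.eq_maximalIdeal
      (Ideal.comap_isMaximal_of_surjective _ Ideal.Quotient.mk_surjective)
  have hmap : maximalIdeal (S ⧸ I) = Ideal.span (Set.range (Ideal.Quotient.mk I ∘ y)) := by
    rw [← Ideal.map_comap_of_surjective (Ideal.Quotient.mk I) Ideal.Quotient.mk_surjective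
      (maximalIdeal (S ⧸ I)), hcomap, hsup, Ideal.map_sup, Ideal.map_quotient_self, bot_sup_eq,
      Ideal.map_span, ← Set.range_comp]
  have hr : (Set.range (Ideal.Quotient.mk I ∘ y)).ncard ≤ r := by
    rw [← Set.image_univ]
    refine (Set.ncard_image_le Set.finite_univ).trans ?_
    rw [Set.ncard_univ, Nat.card_fin]
  have hsp : (maximalIdeal (S ⧸ I)).spanFinrank ≤ r := by
    rw [hmap]
    exact (Submodule.spanFinrank_span_le_ncard_of_finite (Set.finite_range _)).trans hr
  have h1 : ringKrullDim S ≤ ringKrullDim (S ⧸ I) + (I.spanFinrank : WithBot ℕ∞) :=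
    ringKrullDim_le_ringKrullDim_quotient_add_spanFinrank I
      (by rw [IsLocalRing.ringJacobson_eq_maximalIdeal]; exact hI)
  have h2 : ringKrullDim (S ⧸ I) ≤ ((maximalIdeal (S ⧸ I)).spanFinrank : WithBot ℕ∞) :=
    ringKrullDim_le_spanFinrank_maximalIdeal (S ⧸ I)
  have h3 : ringKrullDim (S ⧸ I) ≤ (r : WithBot ℕ∞) := h2.trans (by exact_mod_cast hsp)
  obtain ⟨d, hd⟩ : ∃ d : ℕ, ringKrullDim (S ⧸ I) = (d : WithBot ℕ∞) := by
    have hnn : (0 : WithBot ℕ∞) ≤ ringKrullDim (S ⧸ I) := ringKrullDim_nonneg_of_nontrivial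
    generalize ringKrullDim (S ⧸ I) = x at h3 hnn
    induction x using WithBot.recBotCoe with
    | bot => exact absurd hnn (not_le_of_gt (WithBot.bot_lt_coe (0 : ℕ∞)))
    | coe e =>
      have he : e ≤ (r : ℕ∞) := by exact_mod_cast h3
      lift e to ℕ using ne_top_of_le_ne_top (ENat.coe_ne_top r) he
      exact ⟨e, rfl⟩
  rw [hd] at h1 h3
  have hdr : d ≤ r := by exact_mod_cast h3
  have h4 : ((r + N : ℕ) : WithBot ℕ∞) ≤ ((d + N : ℕ) : WithBot ℕ∞) := by
    refine hdim.trans (h1.trans ?_)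
    rw [Nat.cast_add]
    exact add_le_add le_rfl (by exact_mod_cast hN)
  have h5 : r + N ≤ d + N := by exact_mod_cast h4
  have hdr' : d = r := by omega
  refine ⟨IsRegularLocalRing.of_spanFinrank_maximalIdeal_le _ ?_, ?_⟩
  · rw [hd, hdr']
    exact_mod_cast hsp
  · rw [hd, hdr']

theorem exists_lift {Λ S B : Type u} [CommRing Λ] [IsLocalRing Λ] (hΛ : EGA41.IsCohenRingEGA Λ)
    [CommRing S] [IsLocalRing S] [IsNoetherianRing S] [IsAdicComplete (maximalIdeal S) S]
    [CommRing B] [IsLocalRing B] (σ : S →+* B) (hσ : Function.Surjective σ) (w : Λ →+* B)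
    (hw : ∀ a ∈ maximalIdeal Λ, w a ∈ maximalIdeal B) :
    ∃ t : Λ →+* S, ∀ a, σ (t a) = w a := by
  have hJ : RingHom.ker σ ≠ ⊤ := RingHom.ker_ne_top σ
  obtain ⟨e, he⟩ : ∃ e : S ⧸ RingHom.ker σ ≃+* B, ∀ s, e (Ideal.Quotient.mk _ s) = σ s :=
    ⟨RingHom.quotientKerEquivOfSurjective hσ,
      fun s => RingHom.quotientKerEquivOfSurjective_apply_mk hσ s⟩
  haveI : IsLocalRing (S ⧸ RingHom.ker σ) := e.symm.isLocalRing
  let u : Λ →+* S ⧸ RingHom.ker σ := e.symm.toRingHom.comp w
  have hu : ∀ a, e (u a) = w a := fun a => e.apply_symm_apply _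
  haveI : IsLocalHom u := by
    refine ⟨fun a ha => ?_⟩
    by_contra hnu
    have h2 : w a ∈ maximalIdeal B := hw a ((mem_maximalIdeal a).mpr hnu)
    have h3 : IsUnit (e (u a)) := ha.map e
    rw [hu] at h3
    exact ((mem_maximalIdeal _).mp h2) h3
  obtain ⟨t, -, ht⟩ := Groth.Agent.S2456.result (W := Λ) (C := S) hΛ (RingHom.ker σ) hJ u
  refine ⟨t, fun a => ?_⟩
  have h1 : Ideal.Quotient.mk (RingHom.ker σ) (t a) = u a :=
    congrArg (fun g : Λ →+* S ⧸ RingHom.ker σ => g a) ht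
  rw [← he (t a), h1]
  exact hu a

theorem flat_regular {Λ Λ' : Type u} [CommRing Λ] [CommRing Λ'] [IsDomain Λ] [IsDomain Λ']
    [IsLocalRing Λ] [IsLocalRing Λ'] [IsNoetherianRing Λ] [IsNoetherianRing Λ']
    [IsPrincipalIdealRing Λ] [IsPrincipalIdealRing Λ']
    (p ε : ℕ) (hε : p = 0 ∨ 1 ≤ ε)
    (hΛmax : maximalIdeal Λ = Ideal.span {(p : Λ)})
    (hΛ'max : maximalIdeal Λ' = Ideal.span {(p : Λ')})
    (hΛdim : ringKrullDim Λ = (ε : WithBot ℕ∞)) (hΛ'dim : ringKrullDim Λ' = (ε : WithBot ℕ∞))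
    (n r : ℕ) (τ : MvPowerSeries (Fin n) Λ →+* MvPowerSeries (Fin (r + n)) Λ')
    (hτX : ∀ i, τ (X i) = X (Fin.natAdd r i)) :
    τ.Flat ∧ IsRegularRing (MvPowerSeries (Fin (r + n)) Λ' ⧸
      (maximalIdeal (MvPowerSeries (Fin n) Λ)).map τ) := by
  classical
  haveI : IsRegularRing Λ := Groth.Agent.Lib.Helper26.RegularRing.isRegularRing_of_isRegularLocalRing Λ
  haveI : IsRegularRing Λ' := Groth.Agent.Lib.Helper26.RegularRing.isRegularRing_of_isRegularLocalRing Λ'
  haveI : IsRegularRing (MvPowerSeries (Fin n) Λ) :=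
    Groth.Agent.Lib.Helper26.RegularCompletion.isRegularRing_mvPowerSeries Λ n
  haveI : IsRegularRing (MvPowerSeries (Fin (r + n)) Λ') :=
    Groth.Agent.Lib.Helper26.RegularCompletion.isRegularRing_mvPowerSeries Λ' (r + n)
  haveI hRreg : IsRegularLocalRing (MvPowerSeries (Fin n) Λ) :=
    IsRegularLocalRing.of_isRegularRing_of_isLocalRing _
  haveI hSreg : IsRegularLocalRing (MvPowerSeries (Fin (r + n)) Λ') :=
    IsRegularLocalRing.of_isRegularRing_of_isLocalRing _
  -- dimensions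
  have hR_le := Groth.Agent.Lib.Helper7.CohenFinite.ringKrullDim_powser_le (p : Λ) hΛmax n ε
    (hε.imp (fun h => by rw [h, Nat.cast_zero]) id)
  have hR_ge := le_ringKrullDim_powser Λ n
  rw [hΛdim] at hR_ge
  have hR : ringKrullDim (MvPowerSeries (Fin n) Λ) = ((n + ε : ℕ) : WithBot ℕ∞) := by
    refine le_antisymm hR_le ?_
    have e1 : n + ε = ε + n := by omega
    rw [e1, Nat.cast_add]
    exact hR_ge
  have hS_le := Groth.Agent.Lib.Helper7.CohenFinite.ringKrullDim_powser_le (p : Λ') hΛ'max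
    (r + n) ε (hε.imp (fun h => by rw [h, Nat.cast_zero]) id)
  have hS_ge := le_ringKrullDim_powser Λ' (r + n)
  rw [hΛ'dim] at hS_ge
  have hS : ringKrullDim (MvPowerSeries (Fin (r + n)) Λ') =
      ((r + n + ε : ℕ) : WithBot ℕ∞) := by
    refine le_antisymm hS_le ?_
    have e1 : r + n + ε = ε + (r + n) := by omega
    rw [e1, Nat.cast_add]
    exact hS_ge
  -- the ideal
  have hIeq : (maximalIdeal (MvPowerSeries (Fin n) Λ)).map τ =
      Ideal.span (insert ((p : ℕ) : MvPowerSeries (Fin (r + n)) Λ')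
        (Set.range fun i : Fin n => (X (Fin.natAdd r i) : MvPowerSeries (Fin (r + n)) Λ'))) := by
    have h := Groth.Agent.Lib.Helper7.CohenFinite.map_maximalIdeal_eq
      (τ.comp (C : Λ →+* MvPowerSeries (Fin n) Λ))
      (fun i : Fin n => (X (Fin.natAdd r i) : MvPowerSeries (Fin (r + n)) Λ')) τ
      (fun a => rfl) hτX (p : Λ) hΛmax
    rw [h, map_natCast]
  have hpmem : ((p : ℕ) : MvPowerSeries (Fin (r + n)) Λ') ∈
      maximalIdeal (MvPowerSeries (Fin (r + n)) Λ') := by
    rw [Groth.Agent.Lib.Helper7.PowSerCRing.mem_maximalIdeal_iff, map_natCast, hΛ'max]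
    exact Ideal.mem_span_singleton_self _
  have hI_le : (maximalIdeal (MvPowerSeries (Fin n) Λ)).map τ ≤
      maximalIdeal (MvPowerSeries (Fin (r + n)) Λ') := by
    rw [hIeq, Ideal.span_le]
    intro s hs
    rcases hs with rfl | ⟨i, rfl⟩
    · exact hpmem
    · exact Groth.Agent.Lib.Helper7.PowSerCRing.X_mem _
  have hτloc : IsLocalHom τ := ((IsLocalRing.local_hom_TFAE τ).out 0 2).mpr hI_le
  have hrn : (Set.range fun i : Fin n =>
      (X (Fin.natAdd r i) : MvPowerSeries (Fin (r + n)) Λ')).ncard ≤ n := by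
    rw [← Set.image_univ]
    refine (Set.ncard_image_le Set.finite_univ).trans ?_
    rw [Set.ncard_univ, Nat.card_fin]
  have hN : ((maximalIdeal (MvPowerSeries (Fin n) Λ)).map τ).spanFinrank ≤ n + ε := by
    rw [hIeq]
    rcases hε with h0 | h1
    · rw [h0, Nat.cast_zero, Ideal.span_insert_zero]
      exact (Submodule.spanFinrank_span_le_ncard_of_finite (Set.finite_range _)).trans
        (hrn.trans (Nat.le_add_right _ _))
    · refine (Submodule.spanFinrank_span_le_ncard_of_finite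
        ((Set.finite_range _).insert _)).trans ?_
      refine (Set.ncard_insert_le _ _).trans ?_
      omega
  have hmS : maximalIdeal (MvPowerSeries (Fin (r + n)) Λ') =
      Ideal.span {((p : ℕ) : MvPowerSeries (Fin (r + n)) Λ')} ⊔
        Ideal.span (Set.range (X : Fin (r + n) → MvPowerSeries (Fin (r + n)) Λ')) := by
    rw [Groth.Agent.Lib.Helper7.PowSerCRing.maximalIdeal_eq_sup, hΛ'max, Ideal.map_span,
      Set.image_singleton, map_natCast]
  have hy : maximalIdeal (MvPowerSeries (Fin (r + n)) Λ') ≤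
      (maximalIdeal (MvPowerSeries (Fin n) Λ)).map τ ⊔
        Ideal.span (Set.range fun i : Fin r =>
          (X (Fin.castAdd n i) : MvPowerSeries (Fin (r + n)) Λ')) := by
    rw [hmS]
    refine sup_le ?_ ?_
    · rw [Ideal.span_le, Set.singleton_subset_iff]
      refine Ideal.mem_sup_left ?_
      rw [hIeq]
      exact Ideal.subset_span (Set.mem_insert _ _)
    · rw [Ideal.span_le]
      rintro _ ⟨j, rfl⟩
      refine Fin.addCases (motive := fun j => (X j : MvPowerSeries (Fin (r + n)) Λ') ∈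
        ((maximalIdeal (MvPowerSeries (Fin n) Λ)).map τ ⊔
          Ideal.span (Set.range fun i : Fin r =>
            (X (Fin.castAdd n i) : MvPowerSeries (Fin (r + n)) Λ')) :
              Ideal (MvPowerSeries (Fin (r + n)) Λ'))) (fun i => ?_) (fun i => ?_) j
      · exact Ideal.mem_sup_right (Ideal.subset_span ⟨i, rfl⟩)
      · refine Ideal.mem_sup_left ?_
        rw [hIeq]
        exact Ideal.subset_span (Set.mem_insert_of_mem _ ⟨i, rfl⟩)
  obtain ⟨hQreg, hQdim⟩ := quotient_regular ((maximalIdeal (MvPowerSeries (Fin n) Λ)).map τ)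
    hI_le (n + ε) r hN (le_of_eq (by rw [hS, Nat.add_assoc]))
    (fun i : Fin r => (X (Fin.castAdd n i) : MvPowerSeries (Fin (r + n)) Λ'))
    (fun i => Groth.Agent.Lib.Helper7.PowSerCRing.X_mem _) hy
  have hflat : τ.Flat := by
    letI : Algebra (MvPowerSeries (Fin n) Λ) (MvPowerSeries (Fin (r + n)) Λ') := τ.toAlgebra
    haveI : IsLocalHom (algebraMap (MvPowerSeries (Fin n) Λ)
      (MvPowerSeries (Fin (r + n)) Λ')) := hτloc
    haveI : LocCoh.IsCohenMacaulayLocalRing (MvPowerSeries (Fin (r + n)) Λ') :=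
      Groth.Agent.Lib.Helper4.RegCM.isCohenMacaulayLocalRing _
    have hdimeq : ringKrullDim (MvPowerSeries (Fin (r + n)) Λ') =
        ringKrullDim (MvPowerSeries (Fin n) Λ) +
          ringKrullDim (MvPowerSeries (Fin (r + n)) Λ' ⧸
            (maximalIdeal (MvPowerSeries (Fin n) Λ)).map
              (algebraMap (MvPowerSeries (Fin n) Λ) (MvPowerSeries (Fin (r + n)) Λ'))) := by
      rw [hS, hR]
      show _ = _ + ringKrullDim (MvPowerSeries (Fin (r + n)) Λ' ⧸
        (maximalIdeal (MvPowerSeries (Fin n) Λ)).map τ)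
      rw [hQdim, ← Nat.cast_add]
      congr 1
      omega
    exact Groth.Agent.S2082.result hdimeq
  exact ⟨hflat, Groth.Agent.Lib.Helper26.RegularRing.isRegularRing_of_isRegularLocalRing _⟩

theorem exists_pres {A B : Type u} [CommRing A] [CommRing B]
    [IsLocalRing A] [IsLocalRing B] [IsNoetherianRing A] [IsNoetherianRing B]
    [IsAdicComplete (maximalIdeal A) A] [IsAdicComplete (maximalIdeal B) B]
    [Algebra A B] [IsLocalHom (algebraMap A B)] :
    ∃ (Λ Λ' : Type u) (_ : CommRing Λ) (_ : CommRing Λ') (_ : IsLocalRing Λ) (n m : ℕ)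
      (ρ : MvPowerSeries (Fin n) Λ →+* A) (σ : MvPowerSeries (Fin m) Λ' →+* B)
      (τ : MvPowerSeries (Fin n) Λ →+* MvPowerSeries (Fin m) Λ'),
      ((CharZero (ResidueField A) ∧ IsField Λ ∧ IsField Λ') ∨
        (¬ CharZero (ResidueField A) ∧ CAlg.IsCohenRing Λ ∧ CAlg.IsCohenRing Λ')) ∧
        Function.Surjective ρ ∧ Function.Surjective σ ∧ σ.comp τ = (algebraMap A B).comp ρ ∧
        τ.Flat ∧ IsRegularRing (MvPowerSeries (Fin m) Λ' ⧸
          (maximalIdeal (MvPowerSeries (Fin n) Λ)).map τ) := by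
  classical
  obtain ⟨p, hpA⟩ := CharP.exists (ResidueField A)
  haveI := hpA
  haveI hpB : CharP (ResidueField B) p :=
    charP_of_injective_ringHom (ResidueField.map (algebraMap A B)).injective p
  obtain ⟨Λ, hΛring, hΛdom, hΛloc, hΛN, hΛpid, hΛc, v, hΛega, hΛcase, hvsurj, hΛmax, hΛdim⟩ :=
    exists_coeff_strict A p
  obtain ⟨Λ', hΛ'ring, hΛ'dom, hΛ'loc, hΛ'N, hΛ'pid, hΛ'c, v', hΛ'ega, hΛ'case, hv'surj,
    hΛ'max, hΛ'dim⟩ := exists_coeff_strict B p
  letI := hΛring
  haveI := hΛdom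
  haveI := hΛloc
  haveI := hΛN
  haveI := hΛpid
  haveI := hΛc
  letI := hΛ'ring
  haveI := hΛ'dom
  haveI := hΛ'loc
  haveI := hΛ'N
  haveI := hΛ'pid
  haveI := hΛ'c
  obtain ⟨ε, hε⟩ : ∃ ε : ℕ, ε = if p = 0 then 0 else 1 := ⟨_, rfl⟩
  rw [← hε] at hΛdim hΛ'dim
  have hεp : p = 0 ∨ 1 ≤ ε := by
    by_cases h0 : p = 0
    · exact Or.inl h0
    · right
      rw [hε, if_neg h0]
  have hcase : (CharZero (ResidueField A) ∧ IsField Λ ∧ IsField Λ') ∨
      (¬ CharZero (ResidueField A) ∧ CAlg.IsCohenRing Λ ∧ CAlg.IsCohenRing Λ') := by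
    rcases hΛcase with ⟨h0, hf⟩ | ⟨h0, hc⟩
    · rcases hΛ'case with ⟨_, hf'⟩ | ⟨h0', _⟩
      · left
        haveI : CharP (ResidueField A) 0 := h0 ▸ hpA
        exact ⟨CharP.charP_to_charZero _, hf, hf'⟩
      · exact absurd h0 h0'
    · rcases hΛ'case with ⟨h0', _⟩ | ⟨_, hc'⟩
      · exact absurd h0' h0
      · right
        refine ⟨fun hcz => h0 ?_, hc, hc'⟩
        haveI := hcz
        exact CharP.eq (ResidueField A) hpA (CharP.ofCharZero _)
  have hφmem : ∀ a ∈ maximalIdeal A, algebraMap A B a ∈ maximalIdeal B := by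
    intro a ha
    rw [mem_maximalIdeal, mem_nonunits_iff] at ha ⊢
    exact fun hu => ha (isUnit_of_map_unit (algebraMap A B) a hu)
  -- generators of the maximal ideal of `A`
  obtain ⟨n, gA, hgA'⟩ := Submodule.fg_iff_exists_fin_generating_family.mp
    (maximalIdeal A).fg_of_isNoetherianRing
  have hgA : Ideal.span (Set.range gA) = maximalIdeal A := hgA'
  have hgAmem : ∀ i, gA i ∈ maximalIdeal A := fun i => by
    rw [← hgA]
    exact Ideal.subset_span ⟨i, rfl⟩
  obtain ⟨ρ, hρC, hρX⟩ := Groth.Agent.Lib.Helper7.CohenStruct7.exists_powser_hom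
    (maximalIdeal A) v gA hgAmem
  have hρsurj : Function.Surjective ρ :=
    Groth.Agent.Lib.Helper7.CohenStruct7.powser_surjective v hvsurj gA hgA ρ hρC hρX
  -- generators of the maximal ideal of `B`
  obtain ⟨r, gB, hgB'⟩ := Submodule.fg_iff_exists_fin_generating_family.mp
    (maximalIdeal B).fg_of_isNoetherianRing
  have hgB : Ideal.span (Set.range gB) = maximalIdeal B := hgB'
  have hgBmem : ∀ i, gB i ∈ maximalIdeal B := fun i => by
    rw [← hgB]
    exact Ideal.subset_span ⟨i, rfl⟩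
  let x : Fin (r + n) → B := Fin.append gB (fun i => algebraMap A B (gA i))
  have hxl : ∀ i : Fin r, x (Fin.castAdd n i) = gB i := fun i => Fin.append_left _ _ i
  have hxr : ∀ i : Fin n, x (Fin.natAdd r i) = algebraMap A B (gA i) :=
    fun i => Fin.append_right _ _ i
  have hxmem : ∀ j, x j ∈ maximalIdeal B := by
    intro j
    refine Fin.addCases (motive := fun j => x j ∈ maximalIdeal B) (fun i => ?_) (fun i => ?_) j
    · rw [hxl]
      exact hgBmem i
    · rw [hxr]
      exact hφmem _ (hgAmem i)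
  have hxgen : Ideal.span (Set.range x) = maximalIdeal B := by
    apply le_antisymm
    · rw [Ideal.span_le]
      rintro _ ⟨j, rfl⟩
      exact hxmem j
    · rw [← hgB, Ideal.span_le]
      rintro _ ⟨i, rfl⟩
      exact Ideal.subset_span ⟨Fin.castAdd n i, hxl i⟩
  obtain ⟨σ, hσC, hσX⟩ := Groth.Agent.Lib.Helper7.CohenStruct7.exists_powser_hom
    (maximalIdeal B) v' x hxmem
  have hσsurj : Function.Surjective σ :=
    Groth.Agent.Lib.Helper7.CohenStruct7.powser_surjective v' hv'surj x hxgen σ hσC hσX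
  -- lifting the coefficient ring
  have hwmem : ∀ a ∈ maximalIdeal Λ, ((algebraMap A B).comp v) a ∈ maximalIdeal B :=
    fun a ha => hφmem _ (Groth.Agent.Lib.Helper7.CohenStruct7.map_maximalIdeal_le v hvsurj
      (Ideal.mem_map_of_mem v ha))
  haveI : IsAdicComplete (maximalIdeal (MvPowerSeries (Fin (r + n)) Λ'))
      (MvPowerSeries (Fin (r + n)) Λ') := Groth.Agent.Lib.Helper7.PowSerCRing.isAdicComplete
  obtain ⟨t₀, ht₀'⟩ := exists_lift hΛega σ hσsurj ((algebraMap A B).comp v) hwmem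
  have ht₀ : ∀ a, σ (t₀ a) = algebraMap A B (v a) := ht₀'
  obtain ⟨τ, hτC, hτX'⟩ := Groth.Agent.Lib.Helper7.CohenStruct7.exists_powser_hom
    (maximalIdeal (MvPowerSeries (Fin (r + n)) Λ')) t₀
    (fun i : Fin n => (X (Fin.natAdd r i) : MvPowerSeries (Fin (r + n)) Λ'))
    (fun i => Groth.Agent.Lib.Helper7.PowSerCRing.X_mem _)
  have hτX : ∀ i : Fin n, τ (X i) = X (Fin.natAdd r i) := hτX'
  have hcomm : σ.comp τ = (algebraMap A B).comp ρ := by
    apply powser_hom_ext
    · intro a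
      rw [RingHom.comp_apply, RingHom.comp_apply, hτC, ht₀, hρC]
    · intro i
      rw [RingHom.comp_apply, RingHom.comp_apply, hτX, hσX, hρX, hxr]
    · intro i
      rw [RingHom.comp_apply, hτX, hσX]
      exact hxmem _
  obtain ⟨hflat, hreg⟩ := flat_regular p ε hεp hΛmax hΛ'max hΛdim hΛ'dim n r τ hτX
  exact ⟨Λ, Λ', hΛring, hΛ'ring, hΛloc, n, r + n, ρ, σ, τ, hcase, hρsurj, hσsurj, hcomm,
    hflat, hreg⟩

end Groth.Agent.Lib.Helper7.CohenPres
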