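import Mathlib
import Groth.Prelude.Def_Found
import Groth.Prelude.Def_EGA41
import Groth.Agent.Lib.Helper7.CohenPres
import Groth.Agent.Lib.Helper7.ComplLim
import Groth.Agent.Lib.Helper9.RegLocal
import Groth.Agent.Lib.Helper15.ComplSurj

/-!
# Flat complete local algebras with prescribed regular closed fibre (helper7)

* `exists_one_tmul`, `one_tmul_eq_zero`: elements of `A' ⊗[P] M` when `P → A'` is surjective;
* `flat_of_surjective_base`: base change of flatness along a surjection, in "unbundled" form;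
* `tensor_residue_equiv`: `κ(A) ⊗[A] B ≃ₐ B₀` from a surjection `B → B₀` with kernel `𝔪_A B`;
* `flat_regular'`: `flat_regular` with the dimension of the closed fibre;
* `exists_flat_lift`: over a complete Noetherian local ring `A'`, a complete regular local ring `B₀`
  with `A' → κ → B₀` lifts to a flat complete local `A'`-algebra `B` with `B/𝔪_{A'}B ≅ B₀`;
* `exists_flat_with_fibre`: the same over any Noetherian local ring (EGA 0_IV 19.7.1.3-type).
-/

set_option autoImplicit false
universe u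

open IsLocalRing MvPowerSeries TensorProduct

namespace Groth.Agent.Lib.Helper7.CohenPres2

open Groth.Agent.Lib.Helper7 Groth.Agent.Lib.Helper7.CohenPres

theorem exists_one_tmul {P A' M : Type*} [CommRing P] [CommRing A'] [Algebra P A']
    [AddCommGroup M] [Module P M] (hs : Function.Surjective (algebraMap P A'))
    (z : A' ⊗[P] M) : ∃ m : M, z = (1 : A') ⊗ₜ[P] m := by
  induction z using TensorProduct.induction_on with
  | zero => exact ⟨0, (TensorProduct.tmul_zero _ _).symm⟩
  | tmul c m =>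
    obtain ⟨a, rfl⟩ := hs c
    refine ⟨a • m, ?_⟩
    rw [Algebra.algebraMap_eq_smul_one, TensorProduct.smul_tmul]
  | add x y hx hy =>
    obtain ⟨m, rfl⟩ := hx
    obtain ⟨m', rfl⟩ := hy
    exact ⟨m + m', (TensorProduct.tmul_add _ _ _).symm⟩

theorem one_tmul_eq_zero {P A' M : Type*} [CommRing P] [CommRing A'] [Algebra P A']
    [AddCommGroup M] [Module P M] (m : M)
    (hm : m ∈ (RingHom.ker (algebraMap P A') • ⊤ : Submodule P M)) :
    (1 : A') ⊗ₜ[P] m = 0 := by
  refine Submodule.smul_induction_on hm ?_ ?_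
  · intro a ha n _
    rw [← TensorProduct.smul_tmul, ← Algebra.algebraMap_eq_smul_one, (RingHom.mem_ker).mp ha,
      TensorProduct.zero_tmul]
  · intro x y hx hy
    rw [TensorProduct.tmul_add, hx, hy, add_zero]

theorem flat_of_surjective_base {P Q A' B : Type u} [CommRing P] [CommRing Q] [CommRing A']
    [CommRing B] [Algebra P Q] [Module.Flat P Q] [Algebra P A'] [Algebra A' B] [Algebra Q B]
    [Algebra P B] [IsScalarTower P A' B] [IsScalarTower P Q B]
    (hρ : Function.Surjective (algebraMap P A')) (hq : Function.Surjective (algebraMap Q B))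
    (hker : RingHom.ker (algebraMap Q B) ≤
      (RingHom.ker (algebraMap P A')).map (algebraMap P Q)) :
    Module.Flat A' B := by
  let f : Q →ₗ[P] B := (IsScalarTower.toAlgHom P Q B).toLinearMap
  let F : A' ⊗[P] Q →ₗ[A'] B := f.liftBaseChange A'
  have hF : ∀ q, F ((1 : A') ⊗ₜ[P] q) = algebraMap Q B q := fun q => by
    show (1 : A') • f q = _
    rw [one_smul]
    rfl
  have hinj : Function.Injective F := by
    rw [injective_iff_map_eq_zero]
    intro z hz
    obtain ⟨q, rfl⟩ := exists_one_tmul hρ z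
    rw [hF] at hz
    have hq1 : q ∈ (RingHom.ker (algebraMap P A')).map (algebraMap P Q) := hker hz
    apply one_tmul_eq_zero
    rw [Ideal.smul_top_eq_map, Submodule.restrictScalars_mem]
    exact hq1
  have hsurj : Function.Surjective F := fun b => by
    obtain ⟨q, rfl⟩ := hq b
    exact ⟨(1 : A') ⊗ₜ[P] q, hF q⟩
  exact Module.Flat.of_linearEquiv (LinearEquiv.ofBijective F ⟨hinj, hsurj⟩).symm

theorem tensor_residue_equiv {A B B₀ : Type u} [CommRing A] [IsLocalRing A] [CommRing B]
    [Algebra A B] [CommRing B₀] [Algebra (ResidueField A) B₀] (β : B →+* B₀)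
    (hβsurj : Function.Surjective β)
    (hβ : ∀ a, β (algebraMap A B a) = algebraMap (ResidueField A) B₀ (residue A a))
    (hker : RingHom.ker β ≤ (maximalIdeal A).map (algebraMap A B)) :
    Nonempty (ResidueField A ⊗[A] B ≃ₐ[ResidueField A] B₀) := by
  letI : Algebra A B₀ :=
    ((algebraMap (ResidueField A) B₀).comp (algebraMap A (ResidueField A))).toAlgebra
  haveI : IsScalarTower A (ResidueField A) B₀ := IsScalarTower.of_algebraMap_eq' rfl
  let βₐ : B →ₐ[A] B₀ := { β with commutes' := fun a => hβ a }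
  let Φ : ResidueField A ⊗[A] B →ₐ[ResidueField A] B₀ :=
    Algebra.TensorProduct.lift (Algebra.ofId (ResidueField A) B₀) βₐ
      (fun _ _ => Commute.all _ _)
  have hΦ : ∀ b, Φ ((1 : ResidueField A) ⊗ₜ[A] b) = β b := fun b => by
    show Φ ((1 : ResidueField A) ⊗ₜ[A] b) = βₐ b
    rw [Algebra.TensorProduct.lift_tmul, map_one, one_mul]
  have hkres : RingHom.ker (algebraMap A (ResidueField A)) = maximalIdeal A :=
    IsLocalRing.ker_residue
  have hinj : Function.Injective Φ := by
    rw [injective_iff_map_eq_zero]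
    intro z hz
    obtain ⟨b, rfl⟩ := exists_one_tmul (IsLocalRing.residue_surjective (R := A)) z
    rw [hΦ] at hz
    have hb1 : b ∈ (maximalIdeal A).map (algebraMap A B) := hker hz
    apply one_tmul_eq_zero
    rw [hkres, Ideal.smul_top_eq_map, Submodule.restrictScalars_mem]
    exact hb1
  have hsurj : Function.Surjective Φ := fun y => by
    obtain ⟨b, rfl⟩ := hβsurj y
    exact ⟨(1 : ResidueField A) ⊗ₜ[A] b, hΦ b⟩
  exact ⟨AlgEquiv.ofBijective Φ ⟨hinj, hsurj⟩⟩

theorem flat_regular' {Λ Λ' : Type u} [CommRing Λ] [CommRing Λ'] [IsDomain Λ] [IsDomain Λ']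
    [IsLocalRing Λ] [IsLocalRing Λ'] [IsNoetherianRing Λ] [IsNoetherianRing Λ']
    [IsPrincipalIdealRing Λ] [IsPrincipalIdealRing Λ']
    (p ε : ℕ) (hε : p = 0 ∨ 1 ≤ ε)
    (hΛmax : maximalIdeal Λ = Ideal.span {(p : Λ)})
    (hΛ'max : maximalIdeal Λ' = Ideal.span {(p : Λ')})
    (hΛdim : ringKrullDim Λ = (ε : WithBot ℕ∞)) (hΛ'dim : ringKrullDim Λ' = (ε : WithBot ℕ∞))
    (n r : ℕ) (τ : MvPowerSeries (Fin n) Λ →+* MvPowerSeries (Fin (r + n)) Λ')
    (hτX : ∀ i, τ (X i) = X (Fin.natAdd r i)) :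
    τ.Flat ∧ IsRegularLocalRing (MvPowerSeries (Fin (r + n)) Λ' ⧸
      (maximalIdeal (MvPowerSeries (Fin n) Λ)).map τ) ∧
      ringKrullDim (MvPowerSeries (Fin (r + n)) Λ' ⧸
        (maximalIdeal (MvPowerSeries (Fin n) Λ)).map τ) = (r : WithBot ℕ∞) := by
  classical
  haveI : IsRegularRing Λ := Groth.Agent.Lib.Helper26.RegularRing.isRegularRing_of_isRegularLocalRing Λ
  haveI : IsRegularRing Λ' := Groth.Agent.Lib.Helper26.RegularRing.isRegularRing_of_isRegularLocalRing Λ'
  haveI : IsRegularRing (MvPowerSeries (Fin n) Λ) :=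
    Groth.Agent.Lib.Helper26.RegularCompletion.isRegularRing_mvPowerSeries Λ n
  haveI : IsRegularRing (MvPowerSeries (Fin (r + n)) Λ') :=
    Groth.Agent.Lib.Helper26.RegularCompletion.isRegularRing_mvPowerSeries Λ' (r + n)
  haveI hRreg : IsRegularLocalRing (MvPowerSeries (Fin n) Λ) :=
    IsRegularLocalRing.of_isRegularRing_of_isLocalRing _
  haveI hSreg : IsRegularLocalRing (MvPowerSeries (Fin (r + n)) Λ') :=
    IsRegularLocalRing.of_isRegularRing_of_isLocalRing _
  -- dimensions
  have hR_le := Groth.Agent.Lib.Helper7.CohenFinite.ringKrullDim_powser_le (p : Λ) hΛmax n ε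
    (hε.imp (fun h => by rw [h, Nat.cast_zero]) id)
  have hR_ge := le_ringKrullDim_powser Λ n
  rw [hΛdim] at hR_ge
  have hR : ringKrullDim (MvPowerSeries (Fin n) Λ) = ((n + ε : ℕ) : WithBot ℕ∞) := by
    refine le_antisymm hR_le ?_
    have e1 : n + ε = ε + n := by omega
    rw [e1, Nat.cast_add]
    exact hR_ge
  have hS_le := Groth.Agent.Lib.Helper7.CohenFinite.ringKrullDim_powser_le (p : Λ') hΛ'max
    (r + n) ε (hε.imp (fun h => by rw [h, Nat.cast_zero]) id)
  have hS_ge := le_ringKrullDim_powser Λ' (r + n)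
  rw [hΛ'dim] at hS_ge
  have hS : ringKrullDim (MvPowerSeries (Fin (r + n)) Λ') =
      ((r + n + ε : ℕ) : WithBot ℕ∞) := by
    refine le_antisymm hS_le ?_
    have e1 : r + n + ε = ε + (r + n) := by omega
    rw [e1, Nat.cast_add]
    exact hS_ge
  -- the ideal
  have hIeq : (maximalIdeal (MvPowerSeries (Fin n) Λ)).map τ =
      Ideal.span (insert ((p : ℕ) : MvPowerSeries (Fin (r + n)) Λ')
        (Set.range fun i : Fin n => (X (Fin.natAdd r i) : MvPowerSeries (Fin (r + n)) Λ'))) := by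
    have h := Groth.Agent.Lib.Helper7.CohenFinite.map_maximalIdeal_eq
      (τ.comp (C : Λ →+* MvPowerSeries (Fin n) Λ))
      (fun i : Fin n => (X (Fin.natAdd r i) : MvPowerSeries (Fin (r + n)) Λ')) τ
      (fun a => rfl) hτX (p : Λ) hΛmax
    rw [h, map_natCast]
  have hpmem : ((p : ℕ) : MvPowerSeries (Fin (r + n)) Λ') ∈
      maximalIdeal (MvPowerSeries (Fin (r + n)) Λ') := by
    rw [Groth.Agent.Lib.Helper7.PowSerCRing.mem_maximalIdeal_iff, map_natCast, hΛ'max]
    exact Ideal.mem_span_singleton_self _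
  have hI_le : (maximalIdeal (MvPowerSeries (Fin n) Λ)).map τ ≤
      maximalIdeal (MvPowerSeries (Fin (r + n)) Λ') := by
    rw [hIeq, Ideal.span_le]
    intro s hs
    rcases hs with rfl | ⟨i, rfl⟩
    · exact hpmem
    · exact Groth.Agent.Lib.Helper7.PowSerCRing.X_mem _
  have hτloc : IsLocalHom τ := ((IsLocalRing.local_hom_TFAE τ).out 0 2).mpr hI_le
  have hrn : (Set.range fun i : Fin n =>
      (X (Fin.natAdd r i) : MvPowerSeries (Fin (r + n)) Λ')).ncard ≤ n := by
    rw [← Set.image_univ]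
    refine (Set.ncard_image_le Set.finite_univ).trans ?_
    rw [Set.ncard_univ, Nat.card_fin]
  have hN : ((maximalIdeal (MvPowerSeries (Fin n) Λ)).map τ).spanFinrank ≤ n + ε := by
    rw [hIeq]
    rcases hε with h0 | h1
    · rw [h0, Nat.cast_zero, Ideal.span_insert_zero]
      exact (Submodule.spanFinrank_span_le_ncard_of_finite (Set.finite_range _)).trans
        (hrn.trans (Nat.le_add_right _ _))
    · refine (Submodule.spanFinrank_span_le_ncard_of_finite
        ((Set.finite_range _).insert _)).trans ?_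
      refine (Set.ncard_insert_le _ _).trans ?_
      omega
  have hmS : maximalIdeal (MvPowerSeries (Fin (r + n)) Λ') =
      Ideal.span {((p : ℕ) : MvPowerSeries (Fin (r + n)) Λ')} ⊔
        Ideal.span (Set.range (X : Fin (r + n) → MvPowerSeries (Fin (r + n)) Λ')) := by
    rw [Groth.Agent.Lib.Helper7.PowSerCRing.maximalIdeal_eq_sup, hΛ'max, Ideal.map_span,
      Set.image_singleton, map_natCast]
  have hy : maximalIdeal (MvPowerSeries (Fin (r + n)) Λ') ≤
      (maximalIdeal (MvPowerSeries (Fin n) Λ)).map τ ⊔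
        Ideal.span (Set.range fun i : Fin r =>
          (X (Fin.castAdd n i) : MvPowerSeries (Fin (r + n)) Λ')) := by
    rw [hmS]
    refine sup_le ?_ ?_
    · rw [Ideal.span_le, Set.singleton_subset_iff]
      refine Ideal.mem_sup_left ?_
      rw [hIeq]
      exact Ideal.subset_span (Set.mem_insert _ _)
    · rw [Ideal.span_le]
      rintro _ ⟨j, rfl⟩
      refine Fin.addCases (motive := fun j => (X j : MvPowerSeries (Fin (r + n)) Λ') ∈
        ((maximalIdeal (MvPowerSeries (Fin n) Λ)).map τ ⊔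
          Ideal.span (Set.range fun i : Fin r =>
            (X (Fin.castAdd n i) : MvPowerSeries (Fin (r + n)) Λ')) :
              Ideal (MvPowerSeries (Fin (r + n)) Λ'))) (fun i => ?_) (fun i => ?_) j
      · exact Ideal.mem_sup_right (Ideal.subset_span ⟨i, rfl⟩)
      · refine Ideal.mem_sup_left ?_
        rw [hIeq]
        exact Ideal.subset_span (Set.mem_insert_of_mem _ ⟨i, rfl⟩)
  obtain ⟨hQreg, hQdim⟩ := quotient_regular ((maximalIdeal (MvPowerSeries (Fin n) Λ)).map τ)
    hI_le (n + ε) r hN (le_of_eq (by rw [hS, Nat.add_assoc]))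
    (fun i : Fin r => (X (Fin.castAdd n i) : MvPowerSeries (Fin (r + n)) Λ'))
    (fun i => Groth.Agent.Lib.Helper7.PowSerCRing.X_mem _) hy
  have hflat : τ.Flat := by
    letI : Algebra (MvPowerSeries (Fin n) Λ) (MvPowerSeries (Fin (r + n)) Λ') := τ.toAlgebra
    haveI : IsLocalHom (algebraMap (MvPowerSeries (Fin n) Λ)
      (MvPowerSeries (Fin (r + n)) Λ')) := hτloc
    haveI : LocCoh.IsCohenMacaulayLocalRing (MvPowerSeries (Fin (r + n)) Λ') :=
      Groth.Agent.Lib.Helper4.RegCM.isCohenMacaulayLocalRing _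
    have hdimeq : ringKrullDim (MvPowerSeries (Fin (r + n)) Λ') =
        ringKrullDim (MvPowerSeries (Fin n) Λ) +
          ringKrullDim (MvPowerSeries (Fin (r + n)) Λ' ⧸
            (maximalIdeal (MvPowerSeries (Fin n) Λ)).map
              (algebraMap (MvPowerSeries (Fin n) Λ) (MvPowerSeries (Fin (r + n)) Λ'))) := by
      rw [hS, hR]
      show _ = _ + ringKrullDim (MvPowerSeries (Fin (r + n)) Λ' ⧸
        (maximalIdeal (MvPowerSeries (Fin n) Λ)).map τ)
      rw [hQdim, ← Nat.cast_add]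
      congr 1
      omega
    exact Groth.Agent.S2082.result hdimeq
  exact ⟨hflat, hQreg, hQdim⟩


theorem exists_flat_lift {A' B₀ : Type u} [CommRing A'] [IsLocalRing A'] [IsNoetherianRing A']
    [IsAdicComplete (maximalIdeal A') A'] [CommRing B₀] [IsRegularLocalRing B₀]
    [IsAdicComplete (maximalIdeal B₀) B₀] (g : A' →+* B₀)
    (hg : ∀ a ∈ maximalIdeal A', g a = 0) :
    ∃ (B : Type u) (_ : CommRing B) (_ : IsLocalRing B) (_ : IsNoetherianRing B)
      (_ : IsAdicComplete (maximalIdeal B) B) (ψ : A' →+* B) (β : B →+* B₀),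
      IsLocalHom ψ ∧ ψ.Flat ∧ Function.Surjective β ∧ β.comp ψ = g ∧
        RingHom.ker β = (maximalIdeal A').map ψ := by
  classical
  obtain ⟨p, hpA⟩ := CharP.exists (ResidueField A')
  haveI := hpA
  let gk : ResidueField A' →+* ResidueField B₀ :=
    Ideal.Quotient.lift (maximalIdeal A') ((residue B₀).comp g) (fun a ha => by
      rw [RingHom.comp_apply, hg a ha, map_zero])
  haveI hpB : CharP (ResidueField B₀) p := charP_of_injective_ringHom gk.injective p
  obtain ⟨Λ, hΛring, hΛdom, hΛloc, hΛN, hΛpid, hΛc, v, hΛega, -, hvsurj, hΛmax, hΛdim⟩ :=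
    exists_coeff_strict A' p
  obtain ⟨Λ', hΛ'ring, hΛ'dom, hΛ'loc, hΛ'N, hΛ'pid, hΛ'c, v', -, -, hv'surj,
    hΛ'max, hΛ'dim⟩ := exists_coeff_strict B₀ p
  letI := hΛring
  haveI := hΛdom
  haveI := hΛloc
  haveI := hΛN
  haveI := hΛpid
  haveI := hΛc
  letI := hΛ'ring
  haveI := hΛ'dom
  haveI := hΛ'loc
  haveI := hΛ'N
  haveI := hΛ'pid
  haveI := hΛ'c
  obtain ⟨ε, hε⟩ : ∃ ε : ℕ, ε = if p = 0 then 0 else 1 := ⟨_, rfl⟩
  rw [← hε] at hΛdim hΛ'dim
  have hεp : p = 0 ∨ 1 ≤ ε := by
    by_cases h0 : p = 0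
    · exact Or.inl h0
    · right
      rw [hε, if_neg h0]
  -- presentation of `A'`
  obtain ⟨n, gA, hgA'⟩ := Submodule.fg_iff_exists_fin_generating_family.mp
    (maximalIdeal A').fg_of_isNoetherianRing
  have hgA : Ideal.span (Set.range gA) = maximalIdeal A' := hgA'
  have hgAmem : ∀ i, gA i ∈ maximalIdeal A' := fun i => by
    rw [← hgA]
    exact Ideal.subset_span ⟨i, rfl⟩
  obtain ⟨ρ, hρC, hρX⟩ := Groth.Agent.Lib.Helper7.CohenStruct7.exists_powser_hom
    (maximalIdeal A') v gA hgAmem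
  have hρsurj : Function.Surjective ρ :=
    Groth.Agent.Lib.Helper7.CohenStruct7.powser_surjective v hvsurj gA hgA ρ hρC hρX
  have hρres : Function.Surjective ((residue A').comp ρ) :=
    (IsLocalRing.residue_surjective).comp hρsurj
  -- a regular system of parameters of `B₀`
  obtain ⟨d, hd⟩ := Groth.Agent.Lib.Helper4.RegCM.exists_nat_ringKrullDim B₀
  obtain ⟨t, htspan, -⟩ := Groth.Agent.Lib.Helper4.RegCM.exists_regular_system B₀ d hd
  have htmem : ∀ i, t i ∈ maximalIdeal B₀ := fun i => by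
    rw [← htspan]
    exact Ideal.subset_span ⟨i, rfl⟩
  let x : Fin (d + n) → B₀ := Fin.append t (fun _ => 0)
  have hxl : ∀ i : Fin d, x (Fin.castAdd n i) = t i := fun i => Fin.append_left _ _ i
  have hxr : ∀ i : Fin n, x (Fin.natAdd d i) = 0 := fun i => Fin.append_right _ _ i
  have hxmem : ∀ j, x j ∈ maximalIdeal B₀ := by
    intro j
    refine Fin.addCases (motive := fun j => x j ∈ maximalIdeal B₀) (fun i => ?_) (fun i => ?_) j
    · rw [hxl]
      exact htmem i
    · rw [hxr]
      exact Ideal.zero_mem _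
  have hxgen : Ideal.span (Set.range x) = maximalIdeal B₀ := by
    apply le_antisymm
    · rw [Ideal.span_le]
      rintro _ ⟨j, rfl⟩
      exact hxmem j
    · rw [← htspan, Ideal.span_le]
      rintro _ ⟨i, rfl⟩
      exact Ideal.subset_span ⟨Fin.castAdd n i, hxl i⟩
  obtain ⟨σ, hσC, hσX⟩ := Groth.Agent.Lib.Helper7.CohenStruct7.exists_powser_hom
    (maximalIdeal B₀) v' x hxmem
  have hσsurj : Function.Surjective σ :=
    Groth.Agent.Lib.Helper7.CohenStruct7.powser_surjective v' hv'surj x hxgen σ hσC hσX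
  -- lifting the coefficient ring
  have hwmem : ∀ a ∈ maximalIdeal Λ, (g.comp v) a ∈ maximalIdeal B₀ := fun a ha => by
    have h1 : v a ∈ maximalIdeal A' :=
      Groth.Agent.Lib.Helper7.CohenStruct7.map_maximalIdeal_le v hvsurj
        (Ideal.mem_map_of_mem v ha)
    rw [RingHom.comp_apply, hg _ h1]
    exact Ideal.zero_mem _
  haveI : IsAdicComplete (maximalIdeal (MvPowerSeries (Fin (d + n)) Λ'))
      (MvPowerSeries (Fin (d + n)) Λ') := Groth.Agent.Lib.Helper7.PowSerCRing.isAdicComplete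
  obtain ⟨t₀, ht₀'⟩ := exists_lift hΛega σ hσsurj (g.comp v) hwmem
  have ht₀ : ∀ a, σ (t₀ a) = g (v a) := ht₀'
  obtain ⟨τ, hτC, hτX'⟩ := Groth.Agent.Lib.Helper7.CohenStruct7.exists_powser_hom
    (maximalIdeal (MvPowerSeries (Fin (d + n)) Λ')) t₀
    (fun i : Fin n => (X (Fin.natAdd d i) : MvPowerSeries (Fin (d + n)) Λ'))
    (fun i => Groth.Agent.Lib.Helper7.PowSerCRing.X_mem _)
  have hτX : ∀ i : Fin n, τ (X i) = X (Fin.natAdd d i) := hτX'
  have hcomm : σ.comp τ = g.comp ρ := by
    apply powser_hom_ext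
    · intro a
      rw [RingHom.comp_apply, RingHom.comp_apply, hτC, ht₀, hρC]
    · intro i
      rw [RingHom.comp_apply, RingHom.comp_apply, hτX, hσX, hρX, hxr, hg _ (hgAmem i)]
    · intro i
      rw [RingHom.comp_apply, hτX, hσX]
      exact hxmem _
  obtain ⟨hflat, hFreg, hFdim⟩ := flat_regular' p ε hεp hΛmax hΛ'max hΛdim hΛ'dim n d τ hτX
  -- the kernel of `σ`
  have hτker : (maximalIdeal (MvPowerSeries (Fin n) Λ)).map τ ≤ RingHom.ker σ := by
    rw [Ideal.map_le_iff_le_comap]
    intro f hf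
    rw [Ideal.mem_comap, RingHom.mem_ker]
    have h1 : ρ f ∈ maximalIdeal A' :=
      Groth.Agent.Lib.Helper7.CohenStruct7.map_maximalIdeal_le ρ hρres
        (Ideal.mem_map_of_mem ρ hf)
    have h2 : σ (τ f) = g (ρ f) :=
      congrArg (fun h : MvPowerSeries (Fin n) Λ →+* B₀ => h f) hcomm
    rw [h2, hg _ h1]
  have hkerσ : RingHom.ker σ = (maximalIdeal (MvPowerSeries (Fin n) Λ)).map τ := by
    refine le_antisymm ?_ hτker
    haveI := hFreg
    haveI : IsDomain (MvPowerSeries (Fin (d + n)) Λ' ⧸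
        (maximalIdeal (MvPowerSeries (Fin n) Λ)).map τ) :=
      Groth.Agent.Lib.Helper9.RegLocal.isDomain_of_isRegularLocalRing _
    let σ' : MvPowerSeries (Fin (d + n)) Λ' ⧸
        (maximalIdeal (MvPowerSeries (Fin n) Λ)).map τ →+* B₀ :=
      Ideal.Quotient.lift _ σ (fun q hq => RingHom.mem_ker.mp (hτker hq))
    have hσ'surj : Function.Surjective σ' :=
      Ideal.Quotient.lift_surjective_of_surjective _ _ hσsurj
    have hσ'inj : Function.Injective σ' :=
      Groth.Agent.Lib.Helper7.CohenFinite.injective_of_isIntegral_of_dim σ'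
        (RingHom.isIntegral_of_surjective σ' hσ'surj) d hFdim.le hd.ge
    intro q hq
    have h1 : σ' (Ideal.Quotient.mk _ q) = 0 := by
      rw [Ideal.Quotient.lift_mk]
      exact hq
    have h2 := hσ'inj (h1.trans (map_zero σ').symm)
    exact Ideal.Quotient.eq_zero_iff_mem.mp h2
  have hmapρ : (maximalIdeal (MvPowerSeries (Fin n) Λ)).map ρ = maximalIdeal A' := by
    have hcomap : (maximalIdeal A').comap ρ = maximalIdeal (MvPowerSeries (Fin n) Λ) :=
      IsLocalRing.eq_maximalIdeal (Ideal.comap_isMaximal_of_surjective ρ hρsurj)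
    rw [← hcomap, Ideal.map_comap_of_surjective ρ hρsurj]
  -- the ring `B`
  have hkerρ : RingHom.ker ρ ≤ maximalIdeal (MvPowerSeries (Fin n) Λ) :=
    IsLocalRing.le_maximalIdeal (RingHom.ker_ne_top ρ)
  have hJle : (RingHom.ker ρ).map τ ≤ RingHom.ker σ := (Ideal.map_mono hkerρ).trans hτker
  have hkerσm : RingHom.ker σ ≤ maximalIdeal (MvPowerSeries (Fin (d + n)) Λ') :=
    IsLocalRing.le_maximalIdeal (RingHom.ker_ne_top σ)
  have hJtop : (RingHom.ker ρ).map τ ≠ ⊤ := fun h =>
    (RingHom.ker_ne_top σ) (top_le_iff.mp (h ▸ hJle))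
  haveI : Nontrivial (MvPowerSeries (Fin (d + n)) Λ' ⧸ (RingHom.ker ρ).map τ) :=
    Ideal.Quotient.nontrivial_iff.mpr hJtop
  haveI hBloc : IsLocalRing (MvPowerSeries (Fin (d + n)) Λ' ⧸ (RingHom.ker ρ).map τ) :=
    IsLocalRing.of_surjective' (Ideal.Quotient.mk _) Ideal.Quotient.mk_surjective
  have hBc : IsAdicComplete
      (maximalIdeal (MvPowerSeries (Fin (d + n)) Λ' ⧸ (RingHom.ker ρ).map τ))
      (MvPowerSeries (Fin (d + n)) Λ' ⧸ (RingHom.ker ρ).map τ) := by
    have h := Groth.Agent.Lib.Helper15.CS.isAdicComplete_quotient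
      (maximalIdeal (MvPowerSeries (Fin (d + n)) Λ')) ((RingHom.ker ρ).map τ)
    have hcomap : (maximalIdeal (MvPowerSeries (Fin (d + n)) Λ' ⧸ (RingHom.ker ρ).map τ)).comap
        (Ideal.Quotient.mk ((RingHom.ker ρ).map τ)) =
          maximalIdeal (MvPowerSeries (Fin (d + n)) Λ') :=
      IsLocalRing.eq_maximalIdeal
        (Ideal.comap_isMaximal_of_surjective _ Ideal.Quotient.mk_surjective)
    have h2 : (maximalIdeal (MvPowerSeries (Fin (d + n)) Λ')).map
        (algebraMap (MvPowerSeries (Fin (d + n)) Λ')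
          (MvPowerSeries (Fin (d + n)) Λ' ⧸ (RingHom.ker ρ).map τ)) =
        maximalIdeal (MvPowerSeries (Fin (d + n)) Λ' ⧸ (RingHom.ker ρ).map τ) := by
      show (maximalIdeal (MvPowerSeries (Fin (d + n)) Λ')).map
        (Ideal.Quotient.mk ((RingHom.ker ρ).map τ)) = _
      rw [← hcomap, Ideal.map_comap_of_surjective _ Ideal.Quotient.mk_surjective]
    rw [h2] at h
    exact h
  let ψ : A' →+* MvPowerSeries (Fin (d + n)) Λ' ⧸ (RingHom.ker ρ).map τ :=
    (Ideal.quotientMap ((RingHom.ker ρ).map τ) τ Ideal.le_comap_map).comp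
      (RingHom.quotientKerEquivOfSurjective hρsurj).symm.toRingHom
  have hψ : ∀ f, ψ (ρ f) = Ideal.Quotient.mk ((RingHom.ker ρ).map τ) (τ f) := by
    intro f
    show Ideal.quotientMap ((RingHom.ker ρ).map τ) τ Ideal.le_comap_map
      ((RingHom.quotientKerEquivOfSurjective hρsurj).symm (ρ f)) = _
    rw [RingHom.quotientKerEquivOfSurjective_symm_apply, Ideal.quotientMap_mk]
  let β : MvPowerSeries (Fin (d + n)) Λ' ⧸ (RingHom.ker ρ).map τ →+* B₀ :=
    Ideal.Quotient.lift ((RingHom.ker ρ).map τ) σ hJle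
  have hβmk : ∀ q, β (Ideal.Quotient.mk _ q) = σ q := fun q => Ideal.Quotient.lift_mk _ _ _
  have hβsurj : Function.Surjective β :=
    Ideal.Quotient.lift_surjective_of_surjective _ _ hσsurj
  have hβψ : β.comp ψ = g := by
    apply RingHom.ext
    intro a
    obtain ⟨f, rfl⟩ := hρsurj a
    rw [RingHom.comp_apply, hψ, hβmk]
    exact congrArg (fun h : MvPowerSeries (Fin n) Λ →+* B₀ => h f) hcomm
  have hψρ : ψ.comp ρ = (Ideal.Quotient.mk ((RingHom.ker ρ).map τ)).comp τ :=
    RingHom.ext hψ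
  have hβker : RingHom.ker β = (maximalIdeal A').map ψ := by
    rw [← hmapρ, Ideal.map_map, hψρ, ← Ideal.map_map, ← hkerσ]
    exact Ideal.ker_quotient_lift σ hJle
  have hψloc : IsLocalHom ψ := by
    apply ((IsLocalRing.local_hom_TFAE ψ).out 0 2).mpr
    rw [← hβker]
    exact IsLocalRing.le_maximalIdeal (RingHom.ker_ne_top β)
  have hψflat : ψ.Flat := by
    letI : Algebra (MvPowerSeries (Fin n) Λ) (MvPowerSeries (Fin (d + n)) Λ') := τ.toAlgebra
    haveI : Module.Flat (MvPowerSeries (Fin n) Λ) (MvPowerSeries (Fin (d + n)) Λ') := hflat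
    letI : Algebra (MvPowerSeries (Fin n) Λ) A' := ρ.toAlgebra
    letI : Algebra A' (MvPowerSeries (Fin (d + n)) Λ' ⧸ (RingHom.ker ρ).map τ) := ψ.toAlgebra
    haveI : IsScalarTower (MvPowerSeries (Fin n) Λ) A'
        (MvPowerSeries (Fin (d + n)) Λ' ⧸ (RingHom.ker ρ).map τ) :=
      IsScalarTower.of_algebraMap_eq (fun f => (hψ f).symm)
    refine flat_of_surjective_base (P := MvPowerSeries (Fin n) Λ)
      (Q := MvPowerSeries (Fin (d + n)) Λ') (A' := A')
      (B := MvPowerSeries (Fin (d + n)) Λ' ⧸ (RingHom.ker ρ).map τ) hρsurj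
      Ideal.Quotient.mk_surjective ?_
    show RingHom.ker (Ideal.Quotient.mk ((RingHom.ker ρ).map τ)) ≤ (RingHom.ker ρ).map τ
    rw [Ideal.mk_ker]
  exact ⟨_, inferInstance, hBloc, inferInstance, hBc, ψ, β, hψloc, hψflat, hβsurj, hβψ, hβker⟩

theorem exists_flat_with_fibre {A : Type u} [CommRing A] [IsLocalRing A] [IsNoetherianRing A]
    (B₀ : Type u) [CommRing B₀] [IsRegularLocalRing B₀] [IsAdicComplete (maximalIdeal B₀) B₀]
    [Algebra (ResidueField A) B₀] :
    ∃ (B : Type u) (_ : CommRing B) (_ : IsLocalRing B) (_ : IsNoetherianRing B)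
      (_ : Algebra A B) (_ : IsLocalHom (algebraMap A B)),
      IsAdicComplete (maximalIdeal B) B ∧ Module.Flat A B ∧
        Nonempty (ResidueField A ⊗[A] B ≃ₐ[ResidueField A] B₀) := by
  haveI : IsNoetherianRing (AdicCompletion (maximalIdeal A) A) :=
    Groth.Agent.Lib.Helper7.ComplLim.isNoetherianRing_compl A
  let ev : AdicCompletion (maximalIdeal A) A →+* ResidueField A :=
    (AdicCompletion.evalOneₐ (maximalIdeal A)).toRingHom
  have hev : ∀ a : A, ev (algebraMap A (AdicCompletion (maximalIdeal A) A) a) = residue A a :=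
    fun a => AlgHom.commutes (AdicCompletion.evalOneₐ (maximalIdeal A)) a
  have hevker : ∀ y ∈ maximalIdeal (AdicCompletion (maximalIdeal A) A), ev y = 0 := by
    intro y hy
    rw [AdicCompletion.maximalIdeal_eq_map,
      ← AdicCompletion.ker_evalOneₐ_eq_map _ (maximalIdeal A).fg_of_isNoetherianRing] at hy
    exact hy
  obtain ⟨B, hBring, hBloc, hBN, hBc, ψ, β, hψloc, hψflat, hβsurj, hβψ, hβker⟩ :=
    exists_flat_lift ((algebraMap (ResidueField A) B₀).comp ev) (fun y hy => by
      rw [RingHom.comp_apply, hevker y hy, map_zero])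
  letI := hBring
  haveI := hBloc
  haveI := hBN
  letI : Algebra (AdicCompletion (maximalIdeal A) A) B := ψ.toAlgebra
  letI algAB : Algebra A B :=
    (ψ.comp (algebraMap A (AdicCompletion (maximalIdeal A) A))).toAlgebra
  haveI : IsScalarTower A (AdicCompletion (maximalIdeal A) A) B :=
    IsScalarTower.of_algebraMap_eq' rfl
  haveI : Module.Flat (AdicCompletion (maximalIdeal A) A) B := hψflat
  haveI hloc : IsLocalHom (algebraMap A B) := by
    haveI := hψloc
    exact RingHom.isLocalHom_comp ψ (algebraMap A (AdicCompletion (maximalIdeal A) A))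
  refine ⟨B, hBring, hBloc, hBN, algAB, hloc, hBc,
    Module.Flat.trans A (AdicCompletion (maximalIdeal A) A) B, ?_⟩
  apply tensor_residue_equiv β hβsurj
  · intro a
    have h1 : β (ψ (algebraMap A (AdicCompletion (maximalIdeal A) A) a)) =
        ((algebraMap (ResidueField A) B₀).comp ev)
          (algebraMap A (AdicCompletion (maximalIdeal A) A) a) :=
      congrArg (fun h : AdicCompletion (maximalIdeal A) A →+* B₀ =>
        h (algebraMap A (AdicCompletion (maximalIdeal A) A) a)) hβψ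
    show β (ψ (algebraMap A (AdicCompletion (maximalIdeal A) A) a)) = _
    rw [h1, RingHom.comp_apply, hev]
  · rw [hβker, AdicCompletion.maximalIdeal_eq_map, Ideal.map_map]
    exact le_rfl

end Groth.Agent.Lib.Helper7.CohenPres2
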