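import Mathlib
import Groth.Agent.Lib.Helper15.SmallExt

set_option autoImplicit false

universe u
open IsLocalRing

namespace Groth.Agent.Lib.Helper7.FlatFS

open Groth.Agent.Lib.Helper15

/-- Closed-fibre formal smoothness, phrased as a lifting property for `A`-algebras killed by the
maximal ideal of `A`. -/
def FibreLift (A B : Type u) [CommRing A] [CommRing B] [IsLocalRing A] [IsLocalRing B]
    [Algebra A B] : Prop :=
  ∀ (C₀ : Type u) [CommRing C₀] [Algebra A C₀],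
    (∀ a ∈ maximalIdeal A, algebraMap A C₀ a = 0) → ∀ J₀ : Ideal C₀, J₀ ^ 2 = ⊥ →
    ∀ ψ : B →ₐ[A] C₀ ⧸ J₀, (∃ k : ℕ, ∀ x ∈ maximalIdeal B ^ k, ψ x = 0) →
      ∃ χ : B →ₐ[A] C₀, (Ideal.Quotient.mkₐ A J₀).comp χ = ψ

/-- An extension `E → B` is the pull-back of `E/K → (E/K)/(image of ker)` when `ker ⊓ K = ⊥`;
hence a lift to `E/K` produces a section. -/
theorem exists_section_of_lift {A B E : Type*} [CommRing A] [CommRing B] [CommRing E]
    [Algebra A B] [Algebra A E]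
    (p₁ : E →ₐ[A] B) (hp₁ : Function.Surjective p₁) (K : Ideal E)
    (hK : RingHom.ker p₁ ⊓ K = ⊥) (χ₀ : B →ₐ[A] E ⧸ K)
    (hχ₀ : ∀ e : E, ∃ i ∈ RingHom.ker p₁, χ₀ (p₁ e) = Ideal.Quotient.mk K (e + i)) :
    ∃ s : B →ₐ[A] E, p₁.comp s = AlgHom.id A B := by
  have hex : ∀ b, ∃ e, p₁ e = b ∧ Ideal.Quotient.mk K e = χ₀ b := by
    intro b
    obtain ⟨e', rfl⟩ := hp₁ b
    obtain ⟨i, hi, h⟩ := hχ₀ e'
    refine ⟨e' + i, ?_, h.symm⟩
    rw [map_add, RingHom.mem_ker.mp hi, add_zero]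
  choose s hs1 hs2 using hex
  have huniq : ∀ b e, p₁ e = b → Ideal.Quotient.mk K e = χ₀ b → e = s b := by
    intro b e h1 h2
    have h3 : e - s b ∈ RingHom.ker p₁ ⊓ K := by
      refine ⟨?_, ?_⟩
      · show e - s b ∈ RingHom.ker p₁
        rw [RingHom.mem_ker, map_sub, h1, hs1, sub_self]
      · show e - s b ∈ K
        rw [← Ideal.Quotient.eq_zero_iff_mem, map_sub, h2, hs2, sub_self]
    rw [hK] at h3
    exact sub_eq_zero.mp ((Submodule.mem_bot _).mp h3)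
  refine ⟨{ toFun := s, map_one' := ?_, map_mul' := ?_, map_zero' := ?_, map_add' := ?_,
            commutes' := ?_ }, ?_⟩
  · exact (huniq 1 1 (map_one _) (by rw [map_one, map_one])).symm
  · intro x y
    exact (huniq (x * y) (s x * s y) (by rw [map_mul, hs1, hs1])
      (by rw [map_mul, hs2, hs2, map_mul])).symm
  · exact (huniq 0 0 (map_zero _) (by rw [map_zero, map_zero])).symm
  · intro x y
    exact (huniq (x + y) (s x + s y) (by rw [map_add, hs1, hs1])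
      (by rw [map_add, hs2, hs2, map_add])).symm
  · intro a
    exact (huniq _ (algebraMap A E a) (AlgHom.commutes _ _)
      (by rw [AlgHom.commutes]; rfl)).symm
  · ext b
    exact hs1 b

/-- Flatness of `B` over `A` makes the kernel of an extension `E → B` meet `𝔪E` trivially, when
`𝔪` kills the kernel. -/
theorem ker_inf_map_eq_bot {A B E : Type*} [CommRing A] [CommRing B] [CommRing E] [Algebra A B]
    [Algebra A E] [Module.Flat A B] (p₁ : E →ₐ[A] B) (hp₁ : Function.Surjective p₁)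
    (𝔪 : Ideal A)
    (hkill : ∀ a ∈ 𝔪, ∀ i ∈ RingHom.ker p₁, algebraMap A E a * i = 0) :
    RingHom.ker p₁ ⊓ 𝔪.map (algebraMap A E) = ⊥ := by
  rw [eq_bot_iff]
  rintro x ⟨hx1, hx2⟩
  rw [Submodule.mem_bot]
  have hx2' : x ∈ Submodule.span E (algebraMap A E '' (𝔪 : Set A)) := hx2
  obtain ⟨n, f, g, hfg⟩ := Submodule.mem_span_set'.mp hx2'
  have hg : ∀ i, ∃ a ∈ 𝔪, algebraMap A E a = (g i : E) := fun i => (g i).2
  choose a ha hag using hg
  have hx : x = ∑ i, a i • f i := by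
    rw [← hfg]
    refine Finset.sum_congr rfl fun i _ => ?_
    rw [← hag i, smul_eq_mul, Algebra.smul_def, mul_comm]
  have h0 : ∑ i, a i • p₁ (f i) = 0 := by
    have h : p₁ x = 0 := hx1
    rw [hx, map_sum] at h
    simpa only [map_smul] using h
  obtain ⟨k, a', y, hy1, hy2⟩ := Module.Flat.isTrivialRelation_of_sum_smul_eq_zero (R := A) (M := B)
    (f := a) (x := fun i => p₁ (f i)) h0
  choose y' hy' using fun j => hp₁ (y j)
  have hker : ∀ i, f i - ∑ j, a' i j • y' j ∈ RingHom.ker p₁ := by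
    intro i
    have hy1i : p₁ (f i) = ∑ j, a' i j • y j := hy1 i
    rw [RingHom.mem_ker, map_sub, map_sum, hy1i, sub_eq_zero]
    refine Finset.sum_congr rfl fun j _ => ?_
    rw [map_smul, hy']
  have key : x = ∑ i, a i • (f i - ∑ j, a' i j • y' j) + ∑ j, (∑ i, a i * a' i j) • y' j := by
    rw [hx]
    have h1 : ∀ i, a i • (f i - ∑ j, a' i j • y' j)
        = a i • f i - ∑ j, (a i * a' i j) • y' j := by
      intro i
      rw [smul_sub, Finset.smul_sum]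
      simp only [mul_smul]
    simp only [h1, Finset.sum_sub_distrib, Finset.sum_smul]
    rw [Finset.sum_comm]
    exact (sub_add_cancel _ _).symm
  rw [key]
  have h2 : ∀ i, a i • (f i - ∑ j, a' i j • y' j) = 0 := by
    intro i
    rw [Algebra.smul_def]
    exact hkill (a i) (ha i) _ (hker i)
  simp only [h2, hy2, zero_smul, Finset.sum_const_zero, add_zero]

/-- Artin–Rees consequence. -/
theorem exists_pow_inf_sup_le {E : Type*} [CommRing E] [IsNoetherianRing E] (𝔫 I 𝔞 : Ideal E)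
    (hnI : ∀ r ∈ 𝔫, ∀ i ∈ I, r * i = 0) :
    ∃ c : ℕ, ∀ n, c < n → 𝔫 ^ n ⊓ (I ⊔ 𝔞) ≤ 𝔞 := by
  obtain ⟨c, hc⟩ := Ideal.exists_pow_inf_eq_pow_smul 𝔫 (I ⊔ 𝔞 : Submodule E E)
  refine ⟨c, fun n hn x hx => ?_⟩
  have h1 : x ∈ (𝔫 ^ n • ⊤ ⊓ (I ⊔ 𝔞 : Submodule E E) : Submodule E E) := by
    refine ⟨?_, hx.2⟩
    have := Submodule.smul_mem_smul hx.1 (Submodule.mem_top : (1 : E) ∈ (⊤ : Submodule E E))
    rw [show x • (1 : E) = x from mul_one x] at this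
    exact this
  rw [hc n hn.le] at h1
  refine (Submodule.smul_le.mpr ?_) h1
  intro r hr m hm
  have hr' : r ∈ 𝔫 := Ideal.pow_le_self (by omega) hr
  obtain ⟨i, hi, y, hy, rfl⟩ := Submodule.mem_sup.mp hm.2
  rw [smul_eq_mul, mul_add, hnI r hr' i hi, zero_add]
  exact 𝔞.mul_mem_left r hy

theorem exists_pow_ker_inf_eq_bot {E : Type*} [CommRing E] [IsNoetherianRing E] (𝔫 I 𝔞 : Ideal E)
    (hnI : ∀ r ∈ 𝔫, ∀ i ∈ I, r * i = 0) (hI𝔞 : I ⊓ 𝔞 = ⊥) :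
    ∃ c : ℕ, ∀ n, c < n → I ⊓ (𝔞 ⊔ 𝔫 ^ n) = ⊥ := by
  obtain ⟨c, hc⟩ := exists_pow_inf_sup_le 𝔫 I 𝔞 hnI
  refine ⟨c, fun n hn => ?_⟩
  rw [eq_bot_iff]
  rintro x ⟨hxI, hx⟩
  obtain ⟨y, hy, z, hz, rfl⟩ := Submodule.mem_sup.mp hx
  have hz' : z ∈ 𝔞 := by
    apply hc n hn
    refine ⟨hz, ?_⟩
    have h : z = (y + z) + (-y) := by ring
    rw [h]
    exact Submodule.add_mem_sup hxI (𝔞.neg_mem hy)
  rw [← hI𝔞]
  exact ⟨hxI, 𝔞.add_mem hy hz'⟩

theorem isNoetherianRing_of_sq_zero_ker {E B : Type*} [CommRing E] [CommRing B]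
    [IsNoetherianRing B] (f : E →+* B) (hf : Function.Surjective f) (hfg : (RingHom.ker f).FG)
    (hsq : RingHom.ker f ^ 2 = ⊥) : IsNoetherianRing E := by
  apply IsNoetherianRing.of_prime
  intro P hP
  have hle : RingHom.ker f ≤ P :=
    Ideal.IsPrime.le_of_pow_le (show RingHom.ker f ^ 2 ≤ P by rw [hsq]; exact bot_le)
  refine Ideal.fg_of_fg_map_of_fg_inf_ker_of_surjective (f := f) ?_ ?_ hf
  · exact IsNoetherian.noetherian _
  · rw [inf_eq_right.mpr hle]; exact hfg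

/-- Key splitting lemma: an `A`-algebra extension `E → B` whose kernel is principal and killed by
the preimage of the maximal ideal splits, when `B` is flat over `A` with formally smooth closed
fibre. -/
theorem exists_section {A B E : Type u} [CommRing A] [CommRing B] [CommRing E] [IsLocalRing A]
    [IsLocalRing B] [Algebra A B] [Algebra A E] [IsLocalHom (algebraMap A B)]
    [IsNoetherianRing B] [Module.Flat A B]
    (H₀ : FibreLift A B) (p₁ : E →ₐ[A] B) (hp₁ : Function.Surjective p₁) (i₀ : E)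
    (hker : RingHom.ker p₁ = Ideal.span {i₀})
    (hi₀ : ∀ e : E, p₁ e ∈ maximalIdeal B → e * i₀ = 0) :
    ∃ s : B →ₐ[A] E, p₁.comp s = AlgHom.id A B := by
  obtain ⟨𝔫, h𝔫⟩ : ∃ 𝔫 : Ideal E, 𝔫 = (maximalIdeal B).comap p₁ := ⟨_, rfl⟩
  obtain ⟨𝔞, h𝔞⟩ : ∃ 𝔞 : Ideal E, 𝔞 = (maximalIdeal A).map (algebraMap A E) := ⟨_, rfl⟩
  have hmem𝔫 : ∀ e, e ∈ 𝔫 ↔ p₁ e ∈ maximalIdeal B := by
    intro e; rw [h𝔫, Ideal.mem_comap]
  have hnI : ∀ r ∈ 𝔫, ∀ i ∈ RingHom.ker p₁, r * i = 0 := by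
    intro r hr i hi
    rw [hker] at hi
    obtain ⟨e, rfl⟩ := Ideal.mem_span_singleton'.mp hi
    rw [mul_left_comm, hi₀ r ((hmem𝔫 r).mp hr), mul_zero]
  have hI𝔫 : RingHom.ker p₁ ≤ 𝔫 := by
    intro i hi
    rw [hmem𝔫, RingHom.mem_ker.mp hi]
    exact zero_mem _
  have hI2 : RingHom.ker p₁ ^ 2 = ⊥ := by
    rw [eq_bot_iff, sq, Ideal.mul_le]
    intro a ha b hb
    rw [hnI a (hI𝔫 ha) b hb]
    exact zero_mem _
  haveI : IsNoetherianRing E := by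
    refine isNoetherianRing_of_sq_zero_ker p₁.toRingHom hp₁ ?_ hI2
    show (RingHom.ker p₁).FG
    rw [hker]
    exact ⟨{i₀}, by simp⟩
  have h𝔞𝔫 : 𝔞 ≤ 𝔫 := by
    rw [h𝔞, Ideal.map_le_iff_le_comap]
    intro a ha
    rw [Ideal.mem_comap, hmem𝔫, AlgHom.commutes]
    exact map_nonunit (algebraMap A B) a ha
  have hI𝔞 : RingHom.ker p₁ ⊓ 𝔞 = ⊥ := by
    rw [h𝔞]
    exact ker_inf_map_eq_bot p₁ hp₁ (maximalIdeal A)
      (fun a ha i hi => hnI _ (h𝔞𝔫 (h𝔞 ▸ Ideal.mem_map_of_mem _ ha)) i hi)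
  obtain ⟨c, hc⟩ := exists_pow_ker_inf_eq_bot 𝔫 (RingHom.ker p₁) 𝔞 hnI hI𝔞
  obtain ⟨K, hKdef⟩ : ∃ K : Ideal E, K = 𝔞 ⊔ 𝔫 ^ (c + 1) := ⟨_, rfl⟩
  have hK : RingHom.ker p₁ ⊓ K = ⊥ := by
    rw [hKdef]; exact hc (c + 1) (Nat.lt_succ_self c)
  have h𝔞K : 𝔞 ≤ K := hKdef ▸ le_sup_left
  have h𝔫K : 𝔫 ^ (c + 1) ≤ K := hKdef ▸ le_sup_right
  obtain ⟨J₀, hJ₀def⟩ : ∃ J₀ : Ideal (E ⧸ K), J₀ = (RingHom.ker p₁).map (Ideal.Quotient.mk K) :=
    ⟨_, rfl⟩
  have hJ₀2 : J₀ ^ 2 = ⊥ := by rw [hJ₀def, ← Ideal.map_pow, hI2, Ideal.map_bot]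
  have hA0 : ∀ a ∈ maximalIdeal A, algebraMap A (E ⧸ K) a = 0 := by
    intro a ha
    show Ideal.Quotient.mk K (algebraMap A E a) = 0
    exact Ideal.Quotient.eq_zero_iff_mem.mpr (h𝔞K (h𝔞 ▸ Ideal.mem_map_of_mem _ ha))
  have hkillI : RingHom.ker p₁.toRingHom ≤
      RingHom.ker ((Ideal.Quotient.mkₐ A J₀).comp (Ideal.Quotient.mkₐ A K)).toRingHom := by
    intro x hx
    rw [RingHom.mem_ker]
    show Ideal.Quotient.mk J₀ (Ideal.Quotient.mk K x) = 0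
    rw [Ideal.Quotient.eq_zero_iff_mem, hJ₀def]
    exact Ideal.mem_map_of_mem _ hx
  obtain ⟨ψ, hψ⟩ : ∃ ψ : B →ₐ[A] (E ⧸ K) ⧸ J₀,
      ∀ e, ψ (p₁ e) = Ideal.Quotient.mk J₀ (Ideal.Quotient.mk K e) :=
    ⟨AlgHom.liftOfSurjective p₁ hp₁ _ hkillI,
      fun e => AlgHom.liftOfSurjective_apply p₁ hp₁ _ hkillI e⟩
  have hψk : ∀ x ∈ maximalIdeal B ^ (c + 1), ψ x = 0 := by
    intro x hx
    have h1 : maximalIdeal B ^ (c + 1) = (𝔫 ^ (c + 1)).map p₁ := by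
      rw [Ideal.map_pow, h𝔫, Ideal.map_comap_of_surjective p₁ hp₁]
    rw [h1] at hx
    obtain ⟨z, hz, rfl⟩ := (Ideal.mem_map_iff_of_surjective p₁ hp₁).mp hx
    rw [hψ, Ideal.Quotient.eq_zero_iff_mem.mpr (h𝔫K hz), map_zero]
  obtain ⟨χ₀, hχ₀⟩ := H₀ (E ⧸ K) hA0 J₀ hJ₀2 ψ ⟨c + 1, hψk⟩
  apply exists_section_of_lift p₁ hp₁ K hK χ₀
  intro e
  obtain ⟨e', he'⟩ := Ideal.Quotient.mk_surjective (χ₀ (p₁ e))
  have h1 : Ideal.Quotient.mk J₀ (Ideal.Quotient.mk K e') =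
      Ideal.Quotient.mk J₀ (Ideal.Quotient.mk K e) := by
    rw [he', ← hψ e, ← hχ₀]
    rfl
  rw [Ideal.Quotient.eq, hJ₀def, ← map_sub] at h1
  obtain ⟨i, hi, hie⟩ := (Ideal.mem_map_iff_of_surjective _ Ideal.Quotient.mk_surjective).mp h1
  refine ⟨i, hi, ?_⟩
  rw [← he', map_add, hie, map_sub]
  ring

/-- **EGA 0_IV 19.7.1 (b ⇒ a), small-extension form.** -/
theorem smallLift_of_flat {A B : Type u} [CommRing A] [CommRing B] [IsLocalRing A] [IsLocalRing B]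
    [Algebra A B] [IsLocalHom (algebraMap A B)] [IsNoetherianRing B] [Module.Flat A B]
    (H₀ : FibreLift A B) : SmallExt.SmallLift A B := by
  intro C _ _ _ _ _ J hJ2 hJlen _ u _ hbij
  haveI hsimple : IsSimpleModule C ↥J := Module.length_eq_one_iff.mp hJlen
  have hann : Module.annihilator C ↥J = maximalIdeal C :=
    IsLocalRing.eq_maximalIdeal (IsSimpleModule.annihilator_isMaximal (R := C) (M := ↥J))
  have hmJ : ∀ c ∈ maximalIdeal C, ∀ j ∈ J, c * j = 0 := by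
    intro c hc j hj
    rw [← hann] at hc
    have := Module.mem_annihilator.mp hc ⟨j, hj⟩
    exact congrArg Subtype.val this
  haveI : Nontrivial ↥J := IsSimpleModule.nontrivial C ↥J
  obtain ⟨m₀, hm₀⟩ := exists_ne (0 : ↥J)
  have hgen : ∀ j ∈ J, ∃ c : C, j = c * m₀.1 := by
    intro j hj
    obtain ⟨c, hc⟩ := IsSimpleModule.toSpanSingleton_surjective C hm₀ ⟨j, hj⟩
    exact ⟨c, (congrArg Subtype.val hc).symm⟩
  have hJm : J ≤ maximalIdeal C :=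
    Ideal.IsPrime.le_of_pow_le (show J ^ 2 ≤ maximalIdeal C by rw [hJ2]; exact bot_le)
  haveI := SmallExt.isLocalHom_mk J hJm
  have hπunit : ∀ c : C, IsUnit (Ideal.Quotient.mk J c) → IsUnit c :=
    fun c hc => (isUnit_map_iff (Ideal.Quotient.mk J) c).mp hc
  have huunit : ∀ b : B, IsUnit (u b) → IsUnit b :=
    fun b hb => (isUnit_map_iff u.toRingHom b).mp hb
  -- the fibre product
  obtain ⟨E, hE⟩ : ∃ E : Subalgebra A (B × C), ∀ x, x ∈ E ↔ u x.1 = Ideal.Quotient.mk J x.2 :=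
    ⟨AlgHom.equalizer (u.comp (AlgHom.fst A B C))
      ((Ideal.Quotient.mkₐ A J).comp (AlgHom.snd A B C)), fun x => Iff.rfl⟩
  obtain ⟨p₁, hp₁⟩ : ∃ p₁ : ↥E →ₐ[A] B, ∀ x, p₁ x = x.1.1 :=
    ⟨(AlgHom.fst A B C).comp E.val, fun _ => rfl⟩
  obtain ⟨p₂, hp₂⟩ : ∃ p₂ : ↥E →ₐ[A] C, ∀ x, p₂ x = x.1.2 :=
    ⟨(AlgHom.snd A B C).comp E.val, fun _ => rfl⟩
  have hcomm : ∀ x : ↥E, u (p₁ x) = Ideal.Quotient.mk J (p₂ x) := by
    intro x
    rw [hp₁, hp₂]
    exact (hE x.1).mp x.2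
  have hp₁s : Function.Surjective p₁ := by
    intro b
    obtain ⟨c, hc⟩ := Ideal.Quotient.mk_surjective (u b)
    exact ⟨⟨(b, c), (hE _).mpr hc.symm⟩, hp₁ _⟩
  -- residue surjectivity
  have hres : ∀ c : C, ∃ e : ↥E, c - p₂ e ∈ maximalIdeal C := by
    intro c
    obtain ⟨x, hx⟩ := hbij.2 (residue (C ⧸ J) (Ideal.Quotient.mk J c))
    obtain ⟨b, rfl⟩ := residue_surjective x
    rw [ResidueField.map_residue] at hx
    obtain ⟨c', hc'⟩ := Ideal.Quotient.mk_surjective (u b)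
    refine ⟨⟨(b, c'), (hE _).mpr hc'.symm⟩, ?_⟩
    rw [hp₂]
    show c - c' ∈ maximalIdeal C
    rw [mem_maximalIdeal, mem_nonunits_iff]
    intro hunit
    have h1 : IsUnit (Ideal.Quotient.mk J (c - c')) := hunit.map _
    have h2 : residue (C ⧸ J) (Ideal.Quotient.mk J (c - c')) = 0 := by
      rw [map_sub, map_sub, hc', ← hx]
      exact sub_self _
    rw [residue_eq_zero_iff, mem_maximalIdeal, mem_nonunits_iff] at h2
    exact h2 h1
  have hm₀mem : ((0 : B), m₀.1) ∈ E := by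
    rw [hE]
    show u 0 = Ideal.Quotient.mk J m₀.1
    rw [map_zero, Ideal.Quotient.eq_zero_iff_mem.mpr m₀.2]
  obtain ⟨i₀, hi₀def⟩ : ∃ i₀ : ↥E, i₀ = ⟨((0 : B), m₀.1), hm₀mem⟩ := ⟨_, rfl⟩
  have hi₀1 : i₀.1.1 = 0 := by rw [hi₀def]
  have hi₀2 : i₀.1.2 = m₀.1 := by rw [hi₀def]
  have hmul1 : ∀ e : ↥E, (e * i₀).1.1 = 0 := by
    intro e
    show e.1.1 * i₀.1.1 = 0
    rw [hi₀1, mul_zero]
  have hmul2 : ∀ e : ↥E, (e * i₀).1.2 = p₂ e * m₀.1 := by
    intro e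
    show e.1.2 * i₀.1.2 = _
    rw [hi₀2, hp₂]
  have hker : RingHom.ker p₁ = Ideal.span {i₀} := by
    apply le_antisymm
    · intro x hx
      have hx1 : x.1.1 = 0 := by rw [← hp₁]; exact RingHom.mem_ker.mp hx
      have hx2 : x.1.2 ∈ J := by
        rw [← Ideal.Quotient.eq_zero_iff_mem, ← (hE x.1).mp x.2, hx1, map_zero]
      obtain ⟨c, hc⟩ := hgen _ hx2
      obtain ⟨e, he⟩ := hres c
      refine Ideal.mem_span_singleton'.mpr ⟨e, ?_⟩
      apply Subtype.ext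
      apply Prod.ext
      · rw [hmul1, hx1]
      · rw [hmul2, hc]
        have := hmJ _ he m₀.1 m₀.2
        linear_combination (-1 : C) * this
    · rw [Ideal.span_singleton_le_iff_mem, RingHom.mem_ker, hp₁, hi₀1]
  have hi₀kill : ∀ e : ↥E, p₁ e ∈ maximalIdeal B → e * i₀ = 0 := by
    intro e he
    have h2 : p₂ e ∈ maximalIdeal C := by
      rw [mem_maximalIdeal, mem_nonunits_iff]
      intro hunit
      have h3 : IsUnit (u (p₁ e)) := by rw [hcomm]; exact hunit.map _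
      exact he (huunit _ h3)
    apply Subtype.ext
    apply Prod.ext
    · rw [hmul1]; rfl
    · rw [hmul2, hmJ _ h2 m₀.1 m₀.2]; rfl
  obtain ⟨s, hs⟩ := exists_section H₀ p₁ hp₁s i₀ hker hi₀kill
  refine ⟨p₂.comp s, AlgHom.ext fun b => ?_⟩
  show Ideal.Quotient.mk J (p₂ (s b)) = u b
  rw [← hcomm]
  have := AlgHom.congr_fun hs b
  exact congrArg u this

/-- **EGA 0_IV 19.7.1 (b ⇒ a).** A flat local homomorphism of local rings with Noetherian target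
whose closed fibre is formally smooth is formally smooth for the adic topology. -/
theorem adic_of_flat {A B : Type u} [CommRing A] [CommRing B] [IsLocalRing A] [IsLocalRing B]
    [Algebra A B] [IsLocalHom (algebraMap A B)] [IsNoetherianRing B] [Module.Flat A B]
    (H₀ : FibreLift A B) : CAlgX.IsAdicFormallySmooth A B (maximalIdeal B) :=
  SmallExt.adic_of_smallLift (smallLift_of_flat H₀)

end Groth.Agent.Lib.Helper7.FlatFS
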