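import Mathlib
import Groth.Agent.Lib.Helper7.FlatFS
import Groth.Agent.Lib.Helper7.CohenPres2
import Groth.Agent.Lib.Helper6.FlatKer
import Groth.Agent.Lib.Helper15.ComplSurj
import Groth.Agent.S4537
import Groth.Agent.S2462
import Groth.Agent.S2471

set_option autoImplicit false

universe u
open IsLocalRing TensorProduct

namespace Groth.Agent.Lib.Helper7.FlatFS

section Transfer

variable {A A₀ B B₀ : Type u} [CommRing A] [CommRing A₀] [CommRing B] [CommRing B₀]
  [IsLocalRing A] [IsLocalRing A₀] [IsLocalRing B] [IsLocalRing B₀]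
  [Algebra A A₀] [Algebra A B] [Algebra A₀ B₀] [Algebra A B₀] [IsScalarTower A A₀ B₀]

/-- Transfer of the closed-fibre lifting property along a base change by a surjection. -/
theorem fibreLift_of_surjective (hA : Function.Surjective (algebraMap A A₀))
    (β : B →ₐ[A] B₀) (hβ : Function.Surjective β)
    (hβk : RingHom.ker β ≤ (RingHom.ker (algebraMap A A₀)).map (algebraMap A B))
    (h : FibreLift A₀ B₀) : FibreLift A B := by
  intro C₀ _ _ h0 J₀ hJ₀ ψ hk
  obtain ⟨k, hk⟩ := hk
  have hkerm : RingHom.ker (algebraMap A A₀) ≤ maximalIdeal A :=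
    IsLocalRing.le_maximalIdeal (RingHom.ker_ne_top _)
  let φ : A₀ →+* C₀ := RingHom.liftOfSurjective (algebraMap A A₀) hA
    ⟨algebraMap A C₀, fun a ha => RingHom.mem_ker.mpr (h0 a (hkerm ha))⟩
  have hφ : ∀ a, φ (algebraMap A A₀ a) = algebraMap A C₀ a :=
    fun a => RingHom.liftOfSurjective_comp_apply _ hA _ a
  letI : Algebra A₀ C₀ := φ.toAlgebra
  haveI : IsScalarTower A A₀ C₀ := IsScalarTower.of_algebraMap_eq (fun a => (hφ a).symm)
  have h0' : ∀ a ∈ maximalIdeal A₀, algebraMap A₀ C₀ a = 0 := by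
    intro a₀ ha₀
    obtain ⟨a, rfl⟩ := hA a₀
    have ha : a ∈ maximalIdeal A := by
      by_contra hn
      rw [mem_maximalIdeal, mem_nonunits_iff, not_not] at hn
      exact ha₀ (hn.map _)
    show φ (algebraMap A A₀ a) = 0
    rw [hφ]
    exact h0 a ha
  have hker : RingHom.ker β.toRingHom ≤ RingHom.ker ψ.toRingHom := by
    intro x hx
    have hx' := hβk hx
    have hle : (RingHom.ker (algebraMap A A₀)).map (algebraMap A B) ≤
        RingHom.ker ψ.toRingHom := by
      rw [Ideal.map_le_iff_le_comap]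
      intro a ha
      rw [Ideal.mem_comap, RingHom.mem_ker]
      show ψ (algebraMap A B a) = 0
      rw [AlgHom.commutes]
      show Ideal.Quotient.mk J₀ (algebraMap A C₀ a) = 0
      rw [h0 a (hkerm ha), map_zero]
    exact hle hx'
  obtain ⟨ψA, hψA⟩ : ∃ ψA : B₀ →ₐ[A] C₀ ⧸ J₀, ∀ b, ψA (β b) = ψ b :=
    ⟨AlgHom.liftOfSurjective β hβ ψ hker, fun b => AlgHom.liftOfSurjective_apply β hβ ψ hker b⟩
  obtain ⟨ψ₀, hψ₀⟩ : ∃ ψ₀ : B₀ →ₐ[A₀] C₀ ⧸ J₀, ∀ y, ψ₀ y = ψA y :=
    ⟨AlgHom.extendScalarsOfSurjective hA ψA, fun _ => rfl⟩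
  have hψ₀k : ∀ y ∈ maximalIdeal B₀ ^ k, ψ₀ y = 0 := by
    intro y hy
    rw [← IsLocalRing.map_maximalIdeal_of_surjective β.toRingHom hβ, ← Ideal.map_pow] at hy
    obtain ⟨x, hx, rfl⟩ := (Ideal.mem_map_iff_of_surjective β.toRingHom hβ).mp hy
    rw [hψ₀]
    show ψA (β x) = 0
    rw [hψA, hk x hx]
  obtain ⟨χ₀, hχ₀⟩ := h C₀ h0' J₀ hJ₀ ψ₀ ⟨k, hψ₀k⟩
  refine ⟨(χ₀.restrictScalars A).comp β, AlgHom.ext fun b => ?_⟩
  show Ideal.Quotient.mk J₀ (χ₀ (β b)) = ψ b
  have h1 : Ideal.Quotient.mk J₀ (χ₀ (β b)) = ψ₀ (β b) := AlgHom.congr_fun hχ₀ (β b)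
  rw [h1, hψ₀, hψA]

theorem fibreLift_base_of_surjective (hA : Function.Surjective (algebraMap A A₀))
    (β : B →ₐ[A] B₀) (hβ : Function.Surjective β)
    (hβk : RingHom.ker β ≤ (RingHom.ker (algebraMap A A₀)).map (algebraMap A B))
    (h : FibreLift A B) : FibreLift A₀ B₀ := by
  intro C₀ _ _ h0 J₀ hJ₀ ψ₀ hk
  obtain ⟨k, hk⟩ := hk
  letI : Algebra A C₀ := ((algebraMap A₀ C₀).comp (algebraMap A A₀)).toAlgebra
  haveI : IsScalarTower A A₀ C₀ := IsScalarTower.of_algebraMap_eq (fun _ => rfl)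
  have h0' : ∀ a ∈ maximalIdeal A, algebraMap A C₀ a = 0 := by
    intro a ha
    show algebraMap A₀ C₀ (algebraMap A A₀ a) = 0
    apply h0
    rw [← IsLocalRing.map_maximalIdeal_of_surjective (algebraMap A A₀) hA]
    exact Ideal.mem_map_of_mem _ ha
  obtain ⟨ψ, hψ⟩ : ∃ ψ : B →ₐ[A] C₀ ⧸ J₀, ∀ b, ψ b = ψ₀ (β b) :=
    ⟨(ψ₀.restrictScalars A).comp β, fun _ => rfl⟩
  have hψk : ∀ x ∈ maximalIdeal B ^ k, ψ x = 0 := by
    intro x hx
    rw [hψ]
    apply hk
    rw [← IsLocalRing.map_maximalIdeal_of_surjective β.toRingHom hβ, ← Ideal.map_pow]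
    exact Ideal.mem_map_of_mem _ hx
  obtain ⟨χ, hχ⟩ := h C₀ h0' J₀ hJ₀ ψ ⟨k, hψk⟩
  have hker : RingHom.ker β.toRingHom ≤ RingHom.ker χ.toRingHom := by
    intro x hx
    have hx' := hβk hx
    have hle : (RingHom.ker (algebraMap A A₀)).map (algebraMap A B) ≤
        RingHom.ker χ.toRingHom := by
      rw [Ideal.map_le_iff_le_comap]
      intro a ha
      rw [Ideal.mem_comap, RingHom.mem_ker]
      show χ (algebraMap A B a) = 0
      rw [AlgHom.commutes]
      show algebraMap A₀ C₀ (algebraMap A A₀ a) = 0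
      rw [RingHom.mem_ker.mp ha, map_zero]
    exact hle hx'
  obtain ⟨χA, hχA⟩ : ∃ χA : B₀ →ₐ[A] C₀, ∀ b, χA (β b) = χ b :=
    ⟨AlgHom.liftOfSurjective β hβ χ hker, fun b => AlgHom.liftOfSurjective_apply β hβ χ hker b⟩
  refine ⟨AlgHom.extendScalarsOfSurjective hA χA, AlgHom.ext fun y => ?_⟩
  obtain ⟨b, rfl⟩ := hβ y
  show Ideal.Quotient.mk J₀ (χA (β b)) = ψ₀ (β b)
  rw [hχA, ← hψ]
  exact AlgHom.congr_fun hχ b

end Transfer

theorem fibreLift_field_iff {κ B₀ : Type u} [Field κ] [CommRing B₀] [IsLocalRing B₀]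
    [Algebra κ B₀] :
    FibreLift κ B₀ ↔ CAlgX.IsAdicFormallySmooth κ B₀ (maximalIdeal B₀) := by
  constructor
  · intro h C _ _ J hJ ψ hk
    refine h C (fun a ha => ?_) J hJ ψ hk
    rw [IsLocalRing.maximalIdeal_eq_bot] at ha
    rw [(Submodule.mem_bot _).mp ha, map_zero]
  · intro h C _ _ _ J hJ ψ hk
    exact h C J hJ ψ hk

theorem fibreLift_of_adic {A B : Type u} [CommRing A] [CommRing B] [IsLocalRing A]
    [IsLocalRing B] [Algebra A B] (h : CAlgX.IsAdicFormallySmooth A B (maximalIdeal B)) :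
    FibreLift A B := fun C _ _ _ J hJ ψ hk => h C J hJ ψ hk

theorem fibreLift_of_ega {A B : Type u} [CommRing A] [CommRing B] [IsLocalRing A]
    [IsLocalRing B] [Algebra A B]
    (h : EGA41.IsFormallySmoothAdic A (maximalIdeal A) B (maximalIdeal B)) :
    FibreLift A B := by
  intro C _ _ h0 J hJ ψ hk
  refine h C J ⟨2, hJ⟩ ⟨1, ?_⟩ ψ hk
  rw [pow_one, eq_bot_iff, Ideal.map_le_iff_le_comap]
  intro a ha
  rw [Ideal.mem_comap, h0 a ha]
  exact Submodule.zero_mem _

/-- General form of `tensor_residue_equiv`. -/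
theorem tensor_equiv_of_surjective {P A' B B₁ : Type u} [CommRing P] [CommRing A'] [CommRing B]
    [CommRing B₁] [Algebra P A'] [Algebra P B] [Algebra A' B₁] [Algebra P B₁]
    [IsScalarTower P A' B₁]
    (hs : Function.Surjective (algebraMap P A')) (β : B →ₐ[P] B₁) (hβs : Function.Surjective β)
    (hker : RingHom.ker β ≤ (RingHom.ker (algebraMap P A')).map (algebraMap P B)) :
    ∃ e : A' ⊗[P] B ≃ₐ[A'] B₁, ∀ b, e ((1 : A') ⊗ₜ[P] b) = β b := by
  let Φ : A' ⊗[P] B →ₐ[A'] B₁ :=
    Algebra.TensorProduct.lift (Algebra.ofId A' B₁) β (fun _ _ => Commute.all _ _)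
  have hΦ : ∀ b, Φ ((1 : A') ⊗ₜ[P] b) = β b := fun b => by
    rw [Algebra.TensorProduct.lift_tmul, map_one, one_mul]
  have hinj : Function.Injective Φ := by
    rw [injective_iff_map_eq_zero]
    intro z hz
    obtain ⟨b, rfl⟩ := CohenPres2.exists_one_tmul hs z
    rw [hΦ] at hz
    have hb1 : b ∈ (RingHom.ker (algebraMap P A')).map (algebraMap P B) := hker hz
    apply CohenPres2.one_tmul_eq_zero
    rw [Ideal.smul_top_eq_map, Submodule.restrictScalars_mem]
    exact hb1
  have hsurj : Function.Surjective Φ := fun y => by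
    obtain ⟨b, rfl⟩ := hβs y
    exact ⟨(1 : A') ⊗ₜ[P] b, hΦ b⟩
  exact ⟨AlgEquiv.ofBijective Φ ⟨hinj, hsurj⟩, hΦ⟩

theorem mem_map_of_one_tmul_eq_zero {P A' B : Type u} [CommRing P] [CommRing A'] [CommRing B]
    [Algebra P A'] [Algebra P B] (hs : Function.Surjective (algebraMap P A')) (b : B)
    (h : (1 : A') ⊗ₜ[P] b = 0) :
    b ∈ (RingHom.ker (algebraMap P A')).map (algebraMap P B) := by
  obtain ⟨I, hI⟩ : ∃ I : Ideal B, I = (RingHom.ker (algebraMap P A')).map (algebraMap P B) :=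
    ⟨_, rfl⟩
  rw [← hI]
  let φ : A' →+* B ⧸ I := RingHom.liftOfSurjective (algebraMap P A') hs
    ⟨(Ideal.Quotient.mk I).comp (algebraMap P B), fun p hp => by
      rw [RingHom.mem_ker, RingHom.comp_apply, Ideal.Quotient.eq_zero_iff_mem, hI]
      exact Ideal.mem_map_of_mem _ hp⟩
  have hφ : ∀ p, φ (algebraMap P A' p) = Ideal.Quotient.mk I (algebraMap P B p) :=
    fun p => RingHom.liftOfSurjective_comp_apply _ hs _ p
  letI : Algebra A' (B ⧸ I) := φ.toAlgebra
  haveI : IsScalarTower P A' (B ⧸ I) := IsScalarTower.of_algebraMap_eq (fun p => (hφ p).symm)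
  obtain ⟨e, he⟩ := tensor_equiv_of_surjective hs (Ideal.Quotient.mkₐ P I)
    (Ideal.Quotient.mkₐ_surjective P I) (by
      intro x hx
      rw [← hI]
      exact Ideal.Quotient.eq_zero_iff_mem.mp (RingHom.mem_ker.mp hx))
  have h1 := he b
  rw [h, map_zero] at h1
  exact Ideal.Quotient.eq_zero_iff_mem.mp h1.symm

theorem isAdicComplete_quot {B : Type*} [CommRing B] [IsLocalRing B] [IsNoetherianRing B]
    [IsAdicComplete (maximalIdeal B) B] (I : Ideal B) [IsLocalRing (B ⧸ I)] :
    IsAdicComplete (maximalIdeal (B ⧸ I)) (B ⧸ I) := by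
  have h := Groth.Agent.Lib.Helper15.CS.isAdicComplete_quotient (maximalIdeal B) I
  have h2 : (maximalIdeal B).map (algebraMap B (B ⧸ I)) = maximalIdeal (B ⧸ I) :=
    IsLocalRing.map_maximalIdeal_of_surjective (Ideal.Quotient.mk I) Ideal.Quotient.mk_surjective
  rw [h2] at h
  exact h

/-- Comparison lemma: a formally smooth complete local `A`-algebra `N` and a flat complete local
`A`-algebra `M` with the same reduction modulo `J` are isomorphic. -/
theorem exists_algEquiv_of_fs_of_flat {A N M D : Type u} [CommRing A] (J : Ideal A)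
    [CommRing N] [IsLocalRing N] [IsNoetherianRing N] [Algebra A N]
    [IsAdicComplete (maximalIdeal N) N]
    [CommRing M] [IsLocalRing M] [IsNoetherianRing M] [Algebra A M]
    [IsAdicComplete (maximalIdeal M) M] [Module.Flat A M] [CommRing D] [Algebra A D]
    (hJN : J.map (algebraMap A N) ≤ maximalIdeal N)
    (hJM : J.map (algebraMap A M) ≤ maximalIdeal M)
    (hfs : CAlgX.IsAdicFormallySmooth A N (maximalIdeal N))
    (βN : N →ₐ[A] D) (βM : M →ₐ[A] D) (hβN : Function.Surjective βN)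
    (hβM : Function.Surjective βM)
    (hkN : RingHom.ker βN ≤ J.map (algebraMap A N))
    (hkM : RingHom.ker βM ≤ J.map (algebraMap A M)) :
    ∃ v : N ≃ₐ[A] M, ∀ n, βM (v n) = βN n := by
  classical
  have hkMtop : RingHom.ker βM ≠ ⊤ := fun h =>
    (maximalIdeal.isMaximal M).ne_top (top_le_iff.mp (h ▸ hkM.trans hJM))
  obtain ⟨u, hu⟩ : ∃ u : N →ₐ[A] M ⧸ RingHom.ker βM,
      ∀ n m, βM m = βN n → u n = Ideal.Quotient.mk _ m := by
    refine ⟨(Ideal.quotientKerAlgEquivOfSurjective hβM).symm.toAlgHom.comp βN, ?_⟩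
    intro n m h
    show (Ideal.quotientKerAlgEquivOfSurjective hβM).symm (βN n) = _
    rw [← h]
    exact Ideal.quotientKerAlgEquivOfSurjective_symm_apply hβM m
  have hfs' : EGA41.IsFormallySmoothAdic A ⊥ N (maximalIdeal N) :=
    (Groth.Agent.S4537.result _).mp hfs
  obtain ⟨v, hv1, hv2⟩ := Groth.Agent.S2462.result (⊥ : Ideal A) (maximalIdeal N) hfs'
    (by rw [Ideal.map_bot]; exact bot_le) (RingHom.ker βM) hkMtop u (by
      rw [Ideal.map_le_iff_le_comap]
      intro n hn
      rw [Ideal.mem_comap]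
      obtain ⟨m, hm⟩ := hβM (βN n)
      show u n ∈ _
      rw [hu n m hm]
      apply Ideal.mem_map_of_mem
      rw [mem_maximalIdeal, mem_nonunits_iff]
      intro hunit
      have h1 : IsUnit (βN n) := hm ▸ hunit.map βM
      obtain ⟨d, hd⟩ := h1.exists_right_inv
      obtain ⟨n', rfl⟩ := hβN d
      have h2 : n * n' - 1 ∈ RingHom.ker βN := by
        rw [RingHom.mem_ker, map_sub, map_mul, hd, map_one, sub_self]
      have h3 : n * n' - 1 ∈ maximalIdeal N := hJN (hkN h2)
      have h4 : n * n' ∈ maximalIdeal N := Ideal.mul_mem_right _ _ hn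
      have h5 : (1 : N) ∈ maximalIdeal N := by
        have h6 := Ideal.sub_mem _ h4 h3
        rwa [sub_sub_cancel] at h6
      exact (maximalIdeal.isMaximal N).ne_top ((Ideal.eq_top_iff_one _).mpr h5))
  have hvβ : ∀ n, βM (v n) = βN n := by
    intro n
    have h1 : Ideal.Quotient.mk _ (v n) = u n := AlgHom.congr_fun hv2 n
    obtain ⟨m, hm⟩ := hβM (βN n)
    rw [hu n m hm, Ideal.Quotient.eq] at h1
    have h2 := RingHom.mem_ker.mp h1
    rw [map_sub, sub_eq_zero] at h2
    rw [h2, hm]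
  have hmapJ : (J.map (algebraMap A N)).map v.toRingHom = J.map (algebraMap A M) := by
    rw [Ideal.map_map]
    congr 1
    ext a
    exact v.commutes a
  have hvsurj : Function.Surjective v := by
    haveI : IsHausdorff ((maximalIdeal N).map v.toRingHom) M :=
      IsHausdorff.of_le_jacobson _ _ (by
        rw [IsLocalRing.jacobson_eq_maximalIdeal ⊥ bot_ne_top]; exact hv1)
    apply surjective_of_mk_map_comp_surjective (I := maximalIdeal N) v.toRingHom
    intro y
    obtain ⟨y', rfl⟩ := Ideal.Quotient.mk_surjective y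
    obtain ⟨n, hn⟩ := hβN (βM y')
    refine ⟨n, ?_⟩
    show Ideal.Quotient.mk _ (v n) = Ideal.Quotient.mk _ y'
    rw [Ideal.Quotient.eq]
    have h1 : v n - y' ∈ RingHom.ker βM := by
      rw [RingHom.mem_ker, map_sub, hvβ, hn, sub_self]
    have h2 := hkM h1
    rw [← hmapJ] at h2
    exact Ideal.map_mono hJN h2
  have hker_le : RingHom.ker v ≤ J.map (algebraMap A N) := by
    intro x hx
    apply hkN
    rw [RingHom.mem_ker, ← hvβ, RingHom.mem_ker.mp hx, map_zero]
  have hker : RingHom.ker v = ⊥ := by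
    have h1 := Groth.Agent.Lib.Helper6.FlatKer.ker_le_mul_ker_of_flat J v hvsurj hker_le
    refine Submodule.eq_bot_of_le_smul_of_le_jacobson_bot (J.map (algebraMap A N))
      (RingHom.ker v) (IsNoetherian.noetherian _) ?_ ?_
    · rw [smul_eq_mul]; exact h1
    · rw [IsLocalRing.jacobson_eq_maximalIdeal ⊥ bot_ne_top]; exact hJN
  have hvinj : Function.Injective v := (RingHom.injective_iff_ker_eq_bot v).mpr hker
  exact ⟨AlgEquiv.ofBijective v ⟨hvinj, hvsurj⟩, hvβ⟩

/-- A flat complete local lift of a complete regular local ring `F` over a Noetherian local ring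
`A`, along a ring map `A → F` killing the maximal ideal. -/
theorem exists_flat_lift' {A F : Type u} [CommRing A] [IsLocalRing A] [IsNoetherianRing A]
    [CommRing F] [IsRegularLocalRing F] [IsAdicComplete (maximalIdeal F) F] (g₀ : A →+* F)
    (hg₀ : ∀ a ∈ maximalIdeal A, g₀ a = 0) :
    ∃ (B : Type u) (_ : CommRing B) (_ : IsLocalRing B) (_ : IsNoetherianRing B)
      (_ : Algebra A B) (_ : IsLocalHom (algebraMap A B)) (β : B →+* F),
      IsAdicComplete (maximalIdeal B) B ∧ Module.Flat A B ∧ Function.Surjective β ∧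
        (∀ a, β (algebraMap A B a) = g₀ a) ∧
        RingHom.ker β = (maximalIdeal A).map (algebraMap A B) := by
  haveI : IsNoetherianRing (AdicCompletion (maximalIdeal A) A) :=
    Groth.Agent.Lib.Helper7.ComplLim.isNoetherianRing_compl A
  let ev : AdicCompletion (maximalIdeal A) A →+* A ⧸ maximalIdeal A :=
    (AdicCompletion.evalOneₐ (maximalIdeal A)).toRingHom
  have hev : ∀ a : A, ev (algebraMap A (AdicCompletion (maximalIdeal A) A) a) =
      Ideal.Quotient.mk _ a :=
    fun a => AlgHom.commutes (AdicCompletion.evalOneₐ (maximalIdeal A)) a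
  have hevker : ∀ y ∈ maximalIdeal (AdicCompletion (maximalIdeal A) A), ev y = 0 := by
    intro y hy
    rw [AdicCompletion.maximalIdeal_eq_map,
      ← AdicCompletion.ker_evalOneₐ_eq_map _ (maximalIdeal A).fg_of_isNoetherianRing] at hy
    exact hy
  let g : AdicCompletion (maximalIdeal A) A →+* F :=
    (Ideal.Quotient.lift (maximalIdeal A) g₀ hg₀).comp ev
  have hg : ∀ a : A, g (algebraMap A (AdicCompletion (maximalIdeal A) A) a) = g₀ a := by
    intro a
    have h1 : g (algebraMap A (AdicCompletion (maximalIdeal A) A) a) =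
        Ideal.Quotient.lift (maximalIdeal A) g₀ hg₀
          (ev (algebraMap A (AdicCompletion (maximalIdeal A) A) a)) := rfl
    rw [h1, hev, Ideal.Quotient.lift_mk]
  obtain ⟨B, hBring, hBloc, hBN, hBc, ψ, β, hψloc, hψflat, hβsurj, hβψ, hβker⟩ :=
    CohenPres2.exists_flat_lift g (fun y hy => by
      show Ideal.Quotient.lift (maximalIdeal A) g₀ hg₀ (ev y) = 0
      rw [hevker y hy, map_zero])
  letI := hBring
  haveI := hBloc
  haveI := hBN
  letI : Algebra (AdicCompletion (maximalIdeal A) A) B := ψ.toAlgebra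
  letI algAB : Algebra A B :=
    (ψ.comp (algebraMap A (AdicCompletion (maximalIdeal A) A))).toAlgebra
  haveI : IsScalarTower A (AdicCompletion (maximalIdeal A) A) B :=
    IsScalarTower.of_algebraMap_eq' rfl
  haveI : Module.Flat (AdicCompletion (maximalIdeal A) A) B := hψflat
  haveI hloc : IsLocalHom (algebraMap A B) := by
    haveI := hψloc
    exact RingHom.isLocalHom_comp ψ (algebraMap A (AdicCompletion (maximalIdeal A) A))
  refine ⟨B, hBring, hBloc, hBN, algAB, hloc, β, hBc,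
    Module.Flat.trans A (AdicCompletion (maximalIdeal A) A) B, hβsurj, ?_, ?_⟩
  · intro a
    have h1 : β (ψ (algebraMap A (AdicCompletion (maximalIdeal A) A) a)) =
        g (algebraMap A (AdicCompletion (maximalIdeal A) A) a) :=
      congrArg (fun h : AdicCompletion (maximalIdeal A) A →+* F =>
        h (algebraMap A (AdicCompletion (maximalIdeal A) A) a)) hβψ
    show β (ψ (algebraMap A (AdicCompletion (maximalIdeal A) A) a)) = _
    rw [h1, hg]
  · rw [hβker, AdicCompletion.maximalIdeal_eq_map, Ideal.map_map]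
    rfl

/-- The closed fibre of an `A`-algebra with the fibre lifting property is a regular local ring. -/
theorem isRegularLocalRing_of_fibreLift {A N F : Type u} [CommRing A] [IsLocalRing A]
    [CommRing N] [IsLocalRing N] [Algebra A N]
    [CommRing F] [IsLocalRing F] [IsNoetherianRing F] [Algebra A F]
    (h : FibreLift A N) (β : N →ₐ[A] F) (hβ : Function.Surjective β)
    (hβk : RingHom.ker β ≤ (maximalIdeal A).map (algebraMap A N))
    (hF : ∀ a ∈ maximalIdeal A, algebraMap A F a = 0) :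
    IsRegularLocalRing F := by
  have hres : Function.Surjective (algebraMap A (ResidueField A)) :=
    IsLocalRing.residue_surjective
  have hkres : RingHom.ker (algebraMap A (ResidueField A)) = maximalIdeal A :=
    IsLocalRing.ker_residue
  let φ : ResidueField A →+* F := RingHom.liftOfSurjective (algebraMap A (ResidueField A)) hres
    ⟨algebraMap A F, fun a ha => RingHom.mem_ker.mpr (hF a (hkres ▸ ha))⟩
  have hφ : ∀ a, φ (algebraMap A (ResidueField A) a) = algebraMap A F a :=
    fun a => RingHom.liftOfSurjective_comp_apply _ hres _ a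
  letI : Algebra (ResidueField A) F := φ.toAlgebra
  haveI : IsScalarTower A (ResidueField A) F :=
    IsScalarTower.of_algebraMap_eq (fun a => (hφ a).symm)
  have h1 : FibreLift (ResidueField A) F :=
    fibreLift_base_of_surjective hres β hβ (by rw [hkres]; exact hβk) h
  exact ((Groth.Agent.S2471.result).mp (fibreLift_field_iff.mp h1)).1

end Groth.Agent.Lib.Helper7.FlatFS
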