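import Mathlib

/-!
# Helper library (helper7): an open immersion `Spec A ⟶ Spec B` induced by a surjection `B → A`
is cut out by an idempotent (Mathlib only; for helper14, S5318)
-/

set_option autoImplicit false
universe u
open CategoryTheory AlgebraicGeometry

namespace Groth.Agent.Lib.Helper7.OpenImmAnn

theorem exists_annihilating_of_isOpenImmersion {B A : CommRingCat.{u}} (φ : B ⟶ A)
    (hφ : Function.Surjective φ.hom) [IsOpenImmersion (Spec.map φ)] :
    ∃ e : B, φ.hom e = 1 ∧ ∀ x, φ.hom x = 0 → x * e = 0 := by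
  set f := Spec.map φ with hf
  -- the range is clopen
  have hrange : Set.range f = Set.range (PrimeSpectrum.comap φ.hom) := rfl
  have hclopen : IsClopen (Set.range f) := by
    refine ⟨?_, f.isOpenEmbedding.isOpen_range⟩
    rw [hrange, range_comap_of_surjective _ _ hφ]
    exact PrimeSpectrum.isClosed_zeroLocus _
  obtain ⟨e, he, hs⟩ := PrimeSpectrum.isClopen_iff.mp hclopen
  refine ⟨e, ?_, ?_⟩
  · -- `φ e` is an idempotent unit
    have hid : IsIdempotentElem (φ.hom e) := he.map φ.hom
    have hu : IsUnit (φ.hom e) := by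
      by_contra hnu
      obtain ⟨m, hm, hem⟩ := exists_max_ideal_of_mem_nonunits hnu
      let q : PrimeSpectrum A := ⟨m, hm.isPrime⟩
      have hq : PrimeSpectrum.comap φ.hom q ∈ Set.range f := by
        rw [hrange]
        exact ⟨q, rfl⟩
      rw [hs] at hq
      exact hq hem
    obtain ⟨v, hv⟩ := hu
    have h1 : (↑v⁻¹ : A) * (φ.hom e * φ.hom e) = ↑v⁻¹ * φ.hom e := by rw [hid.eq]
    rw [← hv, ← mul_assoc, Units.inv_mul, one_mul] at h1
    rw [← hv]
    exact h1
  · intro x hx
    set e' : Γ(Spec B, ⊤) := (Scheme.ΓSpecIso B).inv e with he'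
    set V : (Spec B).Opens := (Spec B).basicOpen e' with hV
    have hVle : V ≤ f.opensRange := by
      intro p hp
      rw [hV, he', basicOpen_eq_of_affine] at hp
      change p ∈ Set.range f
      rw [hs]
      exact hp
    haveI : IsIso (f.app V) := f.isIso_app V hVle
    set x' : Γ(Spec B, ⊤) := (Scheme.ΓSpecIso B).inv x with hx'
    -- `f.appTop x' = 0`
    have h0 : f.appTop x' = 0 := by
      have hn := Scheme.ΓSpecIso_inv_naturality φ
      have h4 := congrArg (fun g => g.hom x) hn
      simp only [CommRingCat.hom_comp, RingHom.comp_apply] at h4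
      rw [hx, map_zero] at h4
      exact h4.symm
    -- restrict to `V`
    have hres : (Spec B).presheaf.map (homOfLE (le_top : V ≤ ⊤)).op x' = 0 := by
      have hinj : Function.Injective (f.app V) :=
        (ConcreteCategory.bijective_of_isIso (f.app V)).1
      apply hinj
      rw [map_zero]
      have hnat := f.naturality (homOfLE (le_top : V ≤ ⊤)).op
      have h5 := congrArg (fun g => g.hom x') hnat
      simp only [CommRingCat.hom_comp, RingHom.comp_apply] at h5
      rw [h5]
      have h6 : f.app ⊤ x' = 0 := h0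
      rw [h6, map_zero]
    -- localization
    haveI : IsLocalization.Away e' Γ(Spec B, (Spec B).basicOpen e') :=
      (isAffineOpen_top (Spec B)).isLocalization_basicOpen e'
    have hz : algebraMap Γ(Spec B, ⊤) Γ(Spec B, (Spec B).basicOpen e') x' = 0 := hres
    obtain ⟨⟨m, n, rfl⟩, hm⟩ :=
      (IsLocalization.map_eq_zero_iff (Submonoid.powers e') _ x').mp hz
    -- transport back to `B`
    have hB : e ^ n * x = 0 := by
      have h7 : (Scheme.ΓSpecIso B).hom (e' ^ n * x') = 0 := by
        rw [show e' ^ n * x' = 0 from hm, map_zero]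
      rw [map_mul, map_pow, he', hx'] at h7
      simpa using h7
    rcases Nat.eq_zero_or_pos n with hn0 | hnpos
    · rw [hn0, pow_zero, one_mul] at hB
      rw [hB, zero_mul]
    · obtain ⟨k, rfl⟩ : ∃ k, n = k + 1 := Nat.exists_eq_succ_of_ne_zero hnpos.ne'
      rw [he.pow_succ_eq] at hB
      rw [mul_comm]
      exact hB

end Groth.Agent.Lib.Helper7.OpenImmAnn
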