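import Mathlib
import Groth.Agent.Lib.Helper7.SyzFree

/-!
# Projective dimension under restriction of scalars (helper7)

* `exists_nat_pd`: a nonzero object of finite projective dimension has `pd = a` for a natural `a`.
* `hasProjectiveDimensionLT_of_free_over`: finite free `Q`-modules have `pd_R ≤ pd_R Q`.
* `pd_restrict_le`: `pd_R X ≤ pd_R Q + pd_Q X` for finite modules over a Noetherian local `Q`.
-/

set_option autoImplicit false
universe u

namespace Groth.Agent.Lib.Helper7.PdRestrict

open CategoryTheory Abelian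

lemma exists_nat_pd {C : Type*} [Category C] [Abelian C] (X : C) (hne : ¬ Limits.IsZero X)
    (hfin : projectiveDimension X ≠ ⊤) :
    ∃ a : ℕ, projectiveDimension X = a ∧ HasProjectiveDimensionLT X (a + 1) ∧
      ¬ HasProjectiveDimensionLT X a := by
  obtain ⟨n, hn⟩ := (projectiveDimension_ne_top_iff X).1 hfin
  classical
  have hex : ∃ k, HasProjectiveDimensionLT X k := ⟨n + 1, hn⟩
  have h0 : Nat.find hex ≠ 0 := by
    intro h
    have := Nat.find_spec hex
    rw [h] at this
    haveI := this
    exact hne (isZero_of_hasProjectiveDimensionLT_zero X)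
  obtain ⟨a, ha⟩ : ∃ a, Nat.find hex = a + 1 := ⟨Nat.find hex - 1, by omega⟩
  have h1 : HasProjectiveDimensionLT X (a + 1) := ha ▸ Nat.find_spec hex
  have h2 : ¬ HasProjectiveDimensionLT X a := Nat.find_min hex (by omega)
  refine ⟨a, ?_, h1, h2⟩
  apply le_antisymm
  · exact (projectiveDimension_le_iff X a).2 h1
  · exact (projectiveDimension_ge_iff X a).2 h2

lemma hasProjectiveDimensionLT_of_free_over (R : Type u) [CommRing R] (Q : Type u) [CommRing Q]
    [Algebra R Q] (n : ℕ) (hQ : HasProjectiveDimensionLT (ModuleCat.of R Q) n)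
    (X : Type u) [AddCommGroup X] [Module Q X] [Module R X] [IsScalarTower R Q X]
    [Module.Free Q X] [Module.Finite Q X] :
    HasProjectiveDimensionLT (ModuleCat.of R X) n := by
  classical
  let κ := Module.Free.chooseBasis Q X
  rw [hasProjectiveDimensionLT_iff]
  intro i hi Y z
  have hid : 𝟙 (ModuleCat.of R X) = ∑ l, ModuleCat.ofHom ((κ.coord l).restrictScalars R) ≫
      ModuleCat.ofHom ((LinearMap.toSpanSingleton Q X (κ l)).restrictScalars R) := by
    apply ModuleCat.hom_ext
    rw [ModuleCat.hom_id, ModuleCat.hom_sum]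
    apply LinearMap.ext
    intro x
    simp only [LinearMap.id_apply, LinearMap.sum_apply, ModuleCat.hom_comp, ModuleCat.hom_ofHom,
      LinearMap.comp_apply, LinearMap.restrictScalars_apply, LinearMap.toSpanSingleton_apply,
      Module.Basis.coord_apply]
    exact (κ.sum_repr x).symm
  have hz : z = (Ext.mk₀ (𝟙 (ModuleCat.of R X))).comp z (zero_add i) := (Ext.mk₀_id_comp z).symm
  rw [hz, hid, Ext.mk₀_sum, Ext.sum_comp]
  refine Finset.sum_eq_zero (fun l _ => ?_)
  rw [← Ext.mk₀_comp_mk₀_assoc]
  have h0 : (Ext.mk₀ (ModuleCat.ofHom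
      ((LinearMap.toSpanSingleton Q X (κ l)).restrictScalars R))).comp z (zero_add i) = 0 :=
    Ext.eq_zero_of_hasProjectiveDimensionLT _ n hi
  rw [h0, Ext.comp_zero]

theorem pd_restrict_le (R : Type u) [CommRing R] (Q : Type u) [CommRing Q] [IsLocalRing Q]
    [IsNoetherianRing Q] [Algebra R Q] (a : ℕ)
    (hQ : HasProjectiveDimensionLT (ModuleCat.of R Q) (a + 1)) :
    ∀ (s : ℕ) (X : Type u) [AddCommGroup X] [Module Q X] [Module R X] [IsScalarTower R Q X]
      [Module.Finite Q X], HasProjectiveDimensionLT (ModuleCat.of Q X) (s + 1) →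
      HasProjectiveDimensionLT (ModuleCat.of R X) (a + s + 1) := by
  intro s
  induction s with
  | zero =>
    intro X _ _ _ _ _ h
    haveI : Module.Free Q X := SyzFree.free_of_hasProjectiveDimensionLT_one Q X h
    exact hasProjectiveDimensionLT_of_free_over R Q (a + 1) hQ X
  | succ s ih =>
    intro X _ _ _ _ _ h
    obtain ⟨b, p, hp⟩ := Module.Finite.exists_fin' Q X
    let K := LinearMap.ker p
    let SQ : ShortComplex (ModuleCat.{u} Q) :=
      ModuleCat.shortComplexOfCompEqZero K.subtype p
        (LinearMap.exact_subtype_ker_map p).linearMap_comp_eq_zero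
    have hSQ : SQ.ShortExact := ModuleCat.shortComplex_shortExact SQ
      (LinearMap.exact_subtype_ker_map p) K.injective_subtype hp
    have hFQ : HasProjectiveDimensionLT SQ.X₂ (s + 1) := by
      haveI : Projective (ModuleCat.of Q (Fin b → Q)) :=
        (IsProjective.iff_projective (R := Q) (Fin b → Q)).1 inferInstance
      exact hasProjectiveDimensionLT_of_ge (ModuleCat.of Q (Fin b → Q)) 1 (s + 1) (by omega)
    have hKQ : HasProjectiveDimensionLT (ModuleCat.of Q K) (s + 1) :=
      hSQ.hasProjectiveDimensionLT_X₁ (s + 1) hFQ h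
    have hKR : HasProjectiveDimensionLT (ModuleCat.of R K) (a + s + 1) := ih K hKQ
    have hex : Function.Exact (K.subtype.restrictScalars R) (p.restrictScalars R) :=
      LinearMap.exact_subtype_ker_map p
    let SR : ShortComplex (ModuleCat.{u} R) :=
      ModuleCat.shortComplexOfCompEqZero (K.subtype.restrictScalars R) (p.restrictScalars R)
        hex.linearMap_comp_eq_zero
    have hSR : SR.ShortExact := ModuleCat.shortComplex_shortExact SR hex
      K.injective_subtype hp
    have hFR : HasProjectiveDimensionLT SR.X₂ (a + s + 1 + 1) := by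
      haveI := hasProjectiveDimensionLT_of_free_over R Q (a + 1) hQ (Fin b → Q)
      exact hasProjectiveDimensionLT_of_ge (ModuleCat.of R (Fin b → Q)) (a + 1) _ (by omega)
    exact hSR.hasProjectiveDimensionLT_X₃ (a + s + 1) hKR hFR

lemma map_maximalIdeal_quotient (R : Type u) [CommRing R] [IsLocalRing R] (I : Ideal R)
    [IsLocalRing (R ⧸ I)] :
    (IsLocalRing.maximalIdeal R).map (algebraMap R (R ⧸ I)) = IsLocalRing.maximalIdeal (R ⧸ I) := by
  have hsurj : Function.Surjective (algebraMap R (R ⧸ I)) := Ideal.Quotient.mk_surjective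
  have hcomap : (IsLocalRing.maximalIdeal (R ⧸ I)).comap (algebraMap R (R ⧸ I)) =
      IsLocalRing.maximalIdeal R := by
    haveI : ((IsLocalRing.maximalIdeal (R ⧸ I)).comap (algebraMap R (R ⧸ I))).IsMaximal :=
      Ideal.comap_isMaximal_of_surjective _ hsurj
    exact IsLocalRing.eq_maximalIdeal inferInstance
  rw [← hcomap, Ideal.map_comap_of_surjective _ hsurj]

end Groth.Agent.Lib.Helper7.PdRestrict
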