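import Mathlib
import Groth.Prelude.Def_ega3
import Groth.Agent.Lib.Helper7.TorLES
import Groth.Agent.Lib.Helper7.TorTors2
import Groth.Agent.Lib.Helper7.TorBasic
set_option autoImplicit false
universe u
open CategoryTheory CategoryTheory.Limits TensorProduct

namespace Groth.Agent.Lib.Helper7

section diag
variable {A B : Type u} [CommRing A] [CommRing B] [Algebra A B]

/-- if `B ⊗[A] B → B` is flat then its kernel is a pure ideal: every element `a` of the kernel
is of the form `a * y` with `y` in the kernel. -/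
lemma exists_eq_mul_of_flat_lmul (hμ : (Algebra.TensorProduct.lmul' A (S := B)).Flat)
    (a : B ⊗[A] B) (ha : Algebra.TensorProduct.lmul' A a = 0) :
    ∃ y : B ⊗[A] B, Algebra.TensorProduct.lmul' A y = 0 ∧ a = a * y := by
  letI : Algebra (B ⊗[A] B) B := (Algebra.TensorProduct.lmul' A (S := B)).toRingHom.toAlgebra
  haveI : Module.Flat (B ⊗[A] B) B := hμ
  let φ : (B ⊗[A] B) →ₗ[B ⊗[A] B] B := Algebra.linearMap (B ⊗[A] B) B
  have hφ : Function.Surjective φ := by
    intro b
    refine ⟨b ⊗ₜ[A] (1 : B), ?_⟩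
    show Algebra.TensorProduct.lmul' A (b ⊗ₜ[A] (1 : B)) = b
    rw [Algebra.TensorProduct.lmul'_apply_tmul, mul_one]
  haveI : Ideal.Pure (LinearMap.ker φ : Ideal (B ⊗[A] B)) :=
    Module.Flat.of_linearEquiv (φ.quotKerEquivOfSurjective hφ)
  have haI : a ∈ (LinearMap.ker φ : Ideal (B ⊗[A] B)) := ha
  obtain ⟨y, hy, hxy⟩ := Ideal.exists_eq_mul_of_pure haI
  exact ⟨y, hy, hxy⟩

section action
variable (A) (N X : Type u) [AddCommGroup N] [Module A N] [Module B N] [IsScalarTower A B N]
  [AddCommGroup X] [Module A X] [Module B X] [IsScalarTower A B X]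

/-- left action of `B` on `N ⊗[A] X`. -/
noncomputable def ΘL : B →ₐ[A] Module.End A (N ⊗[A] X) :=
  (Module.End.rTensorAlgHom A N X).comp (Algebra.lsmul A A N)

/-- right action of `B` on `N ⊗[A] X`. -/
noncomputable def ΘR : B →ₐ[A] Module.End A (N ⊗[A] X) :=
  (Module.End.lTensorAlgHom A X N).comp (Algebra.lsmul A A X)

lemma ΘL_apply_tmul (b : B) (n : N) (x : X) : ΘL A N X b (n ⊗ₜ[A] x) = (b • n) ⊗ₜ[A] x := rfl

lemma ΘR_apply_tmul (b : B) (n : N) (x : X) : ΘR A N X b (n ⊗ₜ[A] x) = n ⊗ₜ[A] (b • x) := rfl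

lemma Θ_commute (b b' : B) : Commute (ΘL A N X b) (ΘR A N X b') := by
  show ΘL A N X b * ΘR A N X b' = ΘR A N X b' * ΘL A N X b
  apply TensorProduct.ext'
  intro n x
  rfl

/-- the action of `B ⊗[A] B` on `N ⊗[A] X`. -/
noncomputable def Θ : B ⊗[A] B →ₐ[A] Module.End A (N ⊗[A] X) :=
  Algebra.TensorProduct.lift (ΘL A N X) (ΘR A N X) (fun b b' => Θ_commute A N X b b')

lemma Θ_tmul_apply (b b' : B) (n : N) (x : X) :
    Θ A N X (b ⊗ₜ[A] b') (n ⊗ₜ[A] x) = (b • n) ⊗ₜ[A] (b' • x) := by
  unfold Θ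
  rw [Algebra.TensorProduct.lift_tmul, Module.End.mul_apply, ΘR_apply_tmul, ΘL_apply_tmul]

lemma Θ_gen (b : B) (n : N) (x : X) :
    Θ A N X (b ⊗ₜ[A] (1 : B) - (1 : B) ⊗ₜ[A] b) (n ⊗ₜ[A] x) =
      (b • n) ⊗ₜ[A] x - n ⊗ₜ[A] (b • x) := by
  rw [map_sub, LinearMap.sub_apply, Θ_tmul_apply, Θ_tmul_apply, one_smul, one_smul]

lemma Θ_left (b : B) (v : N ⊗[A] X) : Θ A N X (b ⊗ₜ[A] (1 : B)) v = b • v := by
  induction v using TensorProduct.induction_on with
  | zero => rw [map_zero, smul_zero]
  | tmul n x => rw [Θ_tmul_apply, one_smul, TensorProduct.smul_tmul']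
  | add v₁ v₂ h₁ h₂ => rw [map_add, h₁, h₂, smul_add]

variable {X} in
lemma Θ_natural {Y : Type u} [AddCommGroup Y] [Module A Y] [Module B Y] [IsScalarTower A B Y]
    (f : X →ₗ[B] Y) (c : B ⊗[A] B) (w : N ⊗[A] X) :
    LinearMap.lTensor N (f.restrictScalars A) (Θ A N X c w) =
      Θ A N Y c (LinearMap.lTensor N (f.restrictScalars A) w) := by
  induction c using TensorProduct.induction_on with
  | zero => simp only [map_zero, LinearMap.zero_apply]
  | tmul b b' =>
    induction w using TensorProduct.induction_on with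
    | zero => simp only [map_zero]
    | tmul n x =>
      rw [Θ_tmul_apply, LinearMap.lTensor_tmul, LinearMap.lTensor_tmul, Θ_tmul_apply,
        LinearMap.restrictScalars_apply, LinearMap.restrictScalars_apply, map_smul]
    | add w₁ w₂ h₁ h₂ => simp only [map_add, h₁, h₂]
  | add c₁ c₂ h₁ h₂ => simp only [map_add, LinearMap.add_apply, h₁, h₂]

lemma q_Θ (c : B ⊗[A] B) (w : N ⊗[A] X) :
    TensorProduct.mapOfCompatibleSMul B A B N X (Θ A N X c w) =
      (Algebra.TensorProduct.lmul' A c) • TensorProduct.mapOfCompatibleSMul B A B N X w := by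
  induction c using TensorProduct.induction_on with
  | zero => simp only [map_zero, LinearMap.zero_apply, zero_smul]
  | tmul b b' =>
    induction w using TensorProduct.induction_on with
    | zero => simp only [map_zero, smul_zero]
    | tmul n x =>
      rw [Θ_tmul_apply, TensorProduct.mapOfCompatibleSMul_tmul,
        TensorProduct.mapOfCompatibleSMul_tmul, Algebra.TensorProduct.lmul'_apply_tmul, mul_smul,
        ← TensorProduct.tmul_smul, TensorProduct.smul_tmul']
    | add w₁ w₂ h₁ h₂ => simp only [map_add, smul_add, h₁, h₂]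
  | add c₁ c₂ h₁ h₂ => simp only [map_add, LinearMap.add_apply, add_smul, h₁, h₂]

lemma exists_fix_of_mem_span (hμ : (Algebra.TensorProduct.lmul' A (S := B)).Flat)
    (v : N ⊗[A] X)
    (hv : v ∈ Submodule.span B
      {z | ∃ (b : B) (n : N) (x : X), (b • n) ⊗ₜ[A] x - n ⊗ₜ[A] (b • x) = z}) :
    ∃ a' : B ⊗[A] B, Algebra.TensorProduct.lmul' A a' = 0 ∧ Θ A N X a' v = v := by
  induction hv using Submodule.span_induction with
  | mem v h =>
    obtain ⟨b, n, x, rfl⟩ := h
    have ha : Algebra.TensorProduct.lmul' A (b ⊗ₜ[A] (1 : B) - (1 : B) ⊗ₜ[A] b) = 0 := by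
      rw [map_sub, Algebra.TensorProduct.lmul'_apply_tmul,
        Algebra.TensorProduct.lmul'_apply_tmul, mul_one, one_mul, sub_self]
    obtain ⟨y₀, hy₀, he⟩ := exists_eq_mul_of_flat_lmul hμ _ ha
    refine ⟨y₀, hy₀, ?_⟩
    rw [← Θ_gen]
    have h1 : Θ A N X y₀ (Θ A N X (b ⊗ₜ[A] (1 : B) - (1 : B) ⊗ₜ[A] b) (n ⊗ₜ[A] x)) =
        Θ A N X (y₀ * (b ⊗ₜ[A] (1 : B) - (1 : B) ⊗ₜ[A] b)) (n ⊗ₜ[A] x) := by
      rw [map_mul, Module.End.mul_apply]
    rw [h1, mul_comm, ← he]
  | zero => exact ⟨0, map_zero _, map_zero _⟩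
  | add v₁ v₂ _ _ h₁ h₂ =>
    obtain ⟨a₁, ha₁, hf₁⟩ := h₁
    obtain ⟨a₂, ha₂, hf₂⟩ := h₂
    refine ⟨a₁ + a₂ - a₁ * a₂, by
      rw [map_sub, map_add, map_mul, ha₁, ha₂, mul_zero, add_zero, sub_zero], ?_⟩
    have e1 : Θ A N X (a₁ * a₂) v₁ = Θ A N X a₂ v₁ := by
      rw [mul_comm, map_mul, Module.End.mul_apply, hf₁]
    have e2 : Θ A N X (a₁ * a₂) v₂ = Θ A N X a₁ v₂ := by
      rw [map_mul, Module.End.mul_apply, hf₂]
    have hΘ : Θ A N X (a₁ + a₂ - a₁ * a₂) = Θ A N X a₁ + Θ A N X a₂ - Θ A N X (a₁ * a₂) := by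
      rw [map_sub, map_add]
    rw [hΘ, LinearMap.sub_apply, LinearMap.add_apply, map_add, map_add, map_add, hf₁, hf₂, e1, e2]
    abel
  | smul b v _ h =>
    obtain ⟨a', ha', hf⟩ := h
    refine ⟨a', ha', ?_⟩
    have h1 : Θ A N X a' (b • v) = Θ A N X (a' * (b ⊗ₜ[A] (1 : B))) v := by
      rw [map_mul, Module.End.mul_apply, Θ_left]
    have h2 : Θ A N X (a' * (b ⊗ₜ[A] (1 : B))) v = b • Θ A N X a' v := by
      rw [mul_comm, map_mul, Module.End.mul_apply, Θ_left]
    rw [h1, h2, hf]

end action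

/-- Stacks 092D, injectivity form. -/
theorem lTensor_injective_of_flat_lmul (hμ : (Algebra.TensorProduct.lmul' A (S := B)).Flat)
    (N : Type u) [AddCommGroup N] [Module A N] [Module B N] [IsScalarTower A B N]
    [Module.Flat A N]
    {X Y : Type u} [AddCommGroup X] [Module A X] [Module B X] [IsScalarTower A B X]
    [AddCommGroup Y] [Module A Y] [Module B Y] [IsScalarTower A B Y]
    (f : X →ₗ[B] Y) (hf : Function.Injective f) :
    Function.Injective (LinearMap.lTensor N f) := by
  rw [injective_iff_map_eq_zero]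
  intro z hz
  obtain ⟨w, rfl⟩ := TensorProduct.mapOfCompatibleSMul_surjective B A B N X z
  have hnat : ∀ w : N ⊗[A] X,
      TensorProduct.mapOfCompatibleSMul B A B N Y
        (LinearMap.lTensor N (f.restrictScalars A) w) =
      LinearMap.lTensor N f (TensorProduct.mapOfCompatibleSMul B A B N X w) := by
    intro w
    induction w using TensorProduct.induction_on with
    | zero => simp only [map_zero]
    | tmul n x => rfl
    | add w₁ w₂ h₁ h₂ => simp only [map_add, h₁, h₂]
  have hv : LinearMap.lTensor N (f.restrictScalars A) w ∈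
      LinearMap.ker (TensorProduct.mapOfCompatibleSMul B A B N Y) := by
    rw [LinearMap.mem_ker, hnat, hz]
  rw [TensorProduct.AlgebraTensorModule.ker_mapOfCompatibleSMul] at hv
  obtain ⟨a', ha', hfix⟩ := exists_fix_of_mem_span A N Y hμ _ hv
  have hinj : Function.Injective (LinearMap.lTensor N (f.restrictScalars A)) :=
    Module.Flat.lTensor_preserves_injective_linearMap _ hf
  have hw : Θ A N X a' w = w := by
    apply hinj
    rw [Θ_natural, hfix]
  rw [← hw, q_Θ, ha', zero_smul]

/-- Stacks 092D: if `B ⊗[A] B → B` is flat, a `B`-module which is flat over `A` is flat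
over `B`. -/
theorem flat_of_flat_lmul (hμ : (Algebra.TensorProduct.lmul' A (S := B)).Flat)
    (N : Type u) [AddCommGroup N] [Module A N] [Module B N] [IsScalarTower A B N]
    [Module.Flat A N] : Module.Flat B N := by
  rw [Module.Flat.iff_lTensor_injective']
  intro J
  exact lTensor_injective_of_flat_lmul hμ N J.subtype J.injective_subtype

lemma flat_finsupp_of_flat (N : Type u) [Module.Flat A B] : Module.Flat A (N →₀ B) := by
  classical exact Module.Flat.of_linearEquiv (finsuppLEquivDirectSum A B N)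

/-- syzygy step for `tor_isZero_ascends`. -/
theorem tor_isZero_ascends_step (d : ℕ)
    (ih : ∀ (N : Type u) [AddCommGroup N] [Module A N] [Module B N] [IsScalarTower A B N],
      (∀ (M : Type u) [AddCommGroup M] [Module A M] (p : ℕ), d < p →
        IsZero (((Tor (ModuleCat.{u} A) p).obj (ModuleCat.of A N)).obj (ModuleCat.of A M))) →
      ∀ (N' : Type u) [AddCommGroup N'] [Module B N'] (p : ℕ), d < p →
        IsZero (((Tor (ModuleCat.{u} B) p).obj (ModuleCat.of B N)).obj (ModuleCat.of B N')))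
    (N F : Type u) [AddCommGroup N] [Module A N] [Module B N] [IsScalarTower A B N]
    [AddCommGroup F] [Module A F] [Module B F] [IsScalarTower A B F]
    [Module.Flat A F] [Module.Flat B F] (π : F →ₗ[B] N) (hπ : Function.Surjective π)
    (h : ∀ (M : Type u) [AddCommGroup M] [Module A M] (p : ℕ), d + 1 < p →
        IsZero (((Tor (ModuleCat.{u} A) p).obj (ModuleCat.of A N)).obj (ModuleCat.of A M)))
    (N' : Type u) [AddCommGroup N'] [Module B N'] (p : ℕ) (hp : d + 1 < p) :
    IsZero (((Tor (ModuleCat.{u} B) p).obj (ModuleCat.of B N)).obj (ModuleCat.of B N')) := by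
  have hexA : Function.Exact ((LinearMap.ker π).subtype.restrictScalars A)
      (π.restrictScalars A) := by
    intro y
    exact LinearMap.exact_subtype_ker_map π y
  have hinjA : Function.Injective ((LinearMap.ker π).subtype.restrictScalars A) :=
    Submodule.injective_subtype _
  have hsurjA : Function.Surjective (π.restrictScalars A) := hπ
  have hK : ∀ (M : Type u) [AddCommGroup M] [Module A M] (p : ℕ), d < p →
      IsZero (((Tor (ModuleCat.{u} A) p).obj
        (ModuleCat.of A (LinearMap.ker π))).obj (ModuleCat.of A M)) := by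
    intro M _ _ p hp
    obtain ⟨k, rfl⟩ : ∃ k, p = k + 1 := ⟨p - 1, by omega⟩
    obtain ⟨e⟩ := nonempty_Tor_shift' (A := A) (X₁ := ↥(LinearMap.ker π)) (X₂ := F) (X₃ := N)
      ((LinearMap.ker π).subtype.restrictScalars A) (π.restrictScalars A) hinjA hexA hsurjA
      (ModuleCat.of A M) k
    exact isZero_of_linearEquiv e.symm (h M (k + 2) (by omega))
  have hB := ih (LinearMap.ker π) hK N'
  obtain ⟨k, rfl⟩ : ∃ k, p = k + 2 := ⟨p - 2, by omega⟩
  obtain ⟨e⟩ := nonempty_Tor_shift' (A := B) (X₁ := ↥(LinearMap.ker π)) (X₂ := F) (X₃ := N)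
    (LinearMap.ker π).subtype π (Submodule.injective_subtype _)
    (LinearMap.exact_subtype_ker_map π) hπ (ModuleCat.of B N') k
  exact isZero_of_linearEquiv e (hB (k + 1) (by omega))

/-- weak dimension ascends along weakly étale maps (Tor form). -/
theorem tor_isZero_ascends [Module.Flat A B]
    (hμ : (Algebra.TensorProduct.lmul' A (S := B)).Flat) (d : ℕ) :
    ∀ (N : Type u) [AddCommGroup N] [Module A N] [Module B N] [IsScalarTower A B N],
      (∀ (M : Type u) [AddCommGroup M] [Module A M] (p : ℕ), d < p →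
        IsZero (((Tor (ModuleCat.{u} A) p).obj (ModuleCat.of A N)).obj (ModuleCat.of A M))) →
      ∀ (N' : Type u) [AddCommGroup N'] [Module B N'] (p : ℕ), d < p →
        IsZero (((Tor (ModuleCat.{u} B) p).obj (ModuleCat.of B N)).obj (ModuleCat.of B N')) := by
  induction d with
  | zero =>
    intro N _ _ _ _ h N' _ _ p hp
    haveI : Module.Flat A N := by
      apply flat_of_forall_Tor1_quot
      intro J
      obtain ⟨e⟩ := nonempty_Tor_equiv_flip (ModuleCat.of A (A ⧸ J)) (ModuleCat.of A N) 1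
      haveI := ModuleCat.subsingleton_of_isZero (h (A ⧸ J) 1 Nat.one_pos)
      exact e.toEquiv.subsingleton
    haveI : Module.Flat B N := flat_of_flat_lmul hμ N
    haveI := Tor_subsingleton_of_flat_left (ModuleCat.of B N) (ModuleCat.of B N')
      (inferInstance : Module.Flat B N) p hp
    exact ModuleCat.isZero_of_subsingleton _
  | succ d ih =>
    intro N _ _ _ _ h N' _ _ p hp
    haveI : Module.Flat A (N →₀ B) := flat_finsupp_of_flat N
    exact tor_isZero_ascends_step d ih N (N →₀ B) (Finsupp.linearCombination B (id : N → N))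
      (Finsupp.linearCombination_id_surjective B N) h N' p hp

end diag

end Groth.Agent.Lib.Helper7
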