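import Mathlib
set_option autoImplicit false
universe u
open CategoryTheory TensorProduct

namespace Groth.Agent.Lib.Helper7

/-- over a ring all of whose ideals are flat, submodules of flat modules are flat. -/
theorem flat_submodule_of_forall_ideal_flat {A M : Type u} [CommRing A] [AddCommGroup M]
    [Module A M] (hA : ∀ I : Ideal A, Module.Flat A I) [Module.Flat A M] (N : Submodule A M) :
    Module.Flat A N := by
  rw [Module.Flat.iff_lTensor_injective']
  intro I
  haveI := hA I
  have h1 : Function.Injective (LinearMap.rTensor I N.subtype) :=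
    Module.Flat.rTensor_preserves_injective_linearMap _ N.injective_subtype
  have h2 : Function.Injective (LinearMap.lTensor M I.subtype) :=
    Module.Flat.lTensor_preserves_injective_linearMap _ I.injective_subtype
  have hcomp : (LinearMap.rTensor A N.subtype).comp (LinearMap.lTensor N I.subtype) =
      (LinearMap.lTensor M I.subtype).comp (LinearMap.rTensor I N.subtype) := by
    rw [LinearMap.rTensor_comp_lTensor, LinearMap.lTensor_comp_rTensor]
  have h3 : Function.Injective
      ((LinearMap.rTensor A N.subtype).comp (LinearMap.lTensor N I.subtype)) := by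
    rw [hcomp, LinearMap.coe_comp]; exact h2.comp h1
  rw [LinearMap.coe_comp] at h3
  exact Function.Injective.of_comp h3

/-- Stacks 092S. -/
theorem integrallyClosedIn_of_flat_epi_weakDimOne (A B : Type u) [CommRing A] [CommRing B]
    [Algebra A B] (hA : ∀ I : Ideal A, Module.Flat A I) [Module.Flat A B]
    (hinj : Function.Injective (algebraMap A B))
    (hepi : Epi (CommRingCat.ofHom (algebraMap A B))) : IsIntegrallyClosedIn A B := by
  rw [isIntegrallyClosedIn_iff]
  refine ⟨hinj, ?_⟩
  intro x hx
  have hB : ∀ b : B, (1 : B) ⊗ₜ[A] b = b ⊗ₜ[A] 1 :=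
    (Algebra.isEpi_iff_forall_one_tmul_eq A B).mp (CommRingCat.epi_iff_epi.mp hepi)
  haveI : Module.Finite A (Algebra.adjoin A {x}) := Algebra.finite_adjoin_simple_of_isIntegral hx
  haveI : Module.Flat A (Algebra.adjoin A {x}) :=
    flat_submodule_of_forall_ideal_flat hA (Subalgebra.toSubmodule (Algebra.adjoin A {x}))
  have hmapinj : Function.Injective (TensorProduct.map (Algebra.adjoin A {x}).val.toLinearMap
      (Algebra.adjoin A {x}).val.toLinearMap) :=
    TensorProduct.map_injective_of_flat_flat _ _ Subtype.val_injective Subtype.val_injective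
  haveI : Algebra.IsEpi A (Algebra.adjoin A {x}) := by
    rw [Algebra.isEpi_iff_forall_one_tmul_eq]
    intro s
    apply hmapinj
    rw [TensorProduct.map_tmul, TensorProduct.map_tmul]
    exact hB s
  have hsurj : Function.Surjective (algebraMap A (Algebra.adjoin A {x})) :=
    Algebra.isEpi_iff_surjective_algebraMap_of_finite.mp inferInstance
  obtain ⟨a, ha⟩ := hsurj ⟨x, Algebra.subset_adjoin (Set.mem_singleton x)⟩
  exact ⟨a, congrArg Subtype.val ha⟩

end Groth.Agent.Lib.Helper7
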