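import Mathlib
import Groth.Agent.Lib.Helper7.WeakDimOne
import Groth.Agent.Lib.Helper7.WEtaleFlat
import Groth.Agent.S7143
set_option autoImplicit false
universe u
open CategoryTheory CategoryTheory.Limits TensorProduct

namespace Groth.Agent.Lib.Helper7

/-- ring-hom characterisation of epimorphisms of commutative rings. -/
lemma epi_ofHom_iff {R S : Type u} [CommRing R] [CommRing S] (f : R →+* S) :
    Epi (CommRingCat.ofHom f) ↔
      ∀ (T : Type u) [CommRing T] (α β : S →+* T), α.comp f = β.comp f → α = β := by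
  constructor
  · intro h T _ α β hαβ
    have h1 : CommRingCat.ofHom f ≫ CommRingCat.ofHom α =
        CommRingCat.ofHom f ≫ CommRingCat.ofHom β := by
      rw [← CommRingCat.ofHom_comp, ← CommRingCat.ofHom_comp, hαβ]
    have h2 := (cancel_epi (CommRingCat.ofHom f)).mp h1
    exact congrArg CommRingCat.Hom.hom h2
  · intro h
    constructor
    intro T α β hαβ
    apply CommRingCat.hom_ext
    apply h T α.hom β.hom
    have h3 := congrArg CommRingCat.Hom.hom hαβ
    simpa using h3

/-- ring-hom form of `integrallyClosedIn_of_flat_epi_weakDimOne`. -/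
theorem mem_range_of_isIntegralElem_of_flat_epi {A B : Type u} [CommRing A] [CommRing B]
    (φ : A →+* B) (hA : ∀ I : Ideal A, Module.Flat A I) (hflat : φ.Flat)
    (hinj : Function.Injective φ) (hepi : Epi (CommRingCat.ofHom φ)) (x : B)
    (hx : φ.IsIntegralElem x) : ∃ a, φ a = x := by
  letI := φ.toAlgebra
  haveI : Module.Flat A B := hflat
  have h1 := integrallyClosedIn_of_flat_epi_weakDimOne A B hA hinj hepi
  rw [isIntegrallyClosedIn_iff] at h1
  exact h1.2 hx

/-- over a ring all of whose ideals are flat, `Tor_p` vanishes for `p > 1`. -/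
theorem tor_isZero_of_forall_ideal_flat {V : Type u} [CommRing V]
    (hV : ∀ I : Ideal V, Module.Flat V I)
    (N M : Type u) [AddCommGroup N] [Module V N] [AddCommGroup M] [Module V M] (p : ℕ)
    (hp : 1 < p) :
    IsZero (((Tor (ModuleCat.{u} V) p).obj (ModuleCat.of V N)).obj (ModuleCat.of V M)) := by
  obtain ⟨k, rfl⟩ : ∃ k, p = k + 2 := ⟨p - 2, by omega⟩
  have hπ : Function.Surjective (Finsupp.linearCombination V (id : N → N)) :=
    Finsupp.linearCombination_id_surjective V N
  haveI : Module.Flat V (LinearMap.ker (Finsupp.linearCombination V (id : N → N))) :=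
    flat_submodule_of_forall_ideal_flat hV _
  obtain ⟨e⟩ := nonempty_Tor_shift' (A := V)
    (X₁ := ↥(LinearMap.ker (Finsupp.linearCombination V (id : N → N)))) (X₂ := N →₀ V) (X₃ := N)
    (LinearMap.ker (Finsupp.linearCombination V (id : N → N))).subtype
    (Finsupp.linearCombination V (id : N → N)) (Submodule.injective_subtype _)
    (LinearMap.exact_subtype_ker_map _) hπ (ModuleCat.of V M) k
  haveI := Tor_subsingleton_of_flat_left
    (ModuleCat.of V (LinearMap.ker (Finsupp.linearCombination V (id : N → N))))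
    (ModuleCat.of V M) inferInstance (k + 1) (Nat.succ_pos k)
  exact isZero_of_linearEquiv e (ModuleCat.isZero_of_subsingleton _)

/-- weak dimension `≤ 1` ascends along weakly étale maps (ideal form). -/
theorem ideals_flat_of_weaklyEtale (V W : Type u) [CommRing V] [CommRing W] [Algebra V W]
    [Algebra.WeaklyEtale V W] (hV : ∀ I : Ideal V, Module.Flat V I) (J : Ideal W) :
    Module.Flat W J := by
  have hW : ∀ (N N' : Type u) [AddCommGroup N] [Module W N] [AddCommGroup N'] [Module W N']
      (p : ℕ), 1 < p →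
      IsZero (((Tor (ModuleCat.{u} W) p).obj (ModuleCat.of W N)).obj (ModuleCat.of W N')) := by
    intro N N' _ _ _ _ p hp
    letI : Module V N := Module.compHom N (algebraMap V W)
    haveI : IsScalarTower V W N := IsScalarTower.of_algebraMap_smul (fun r x => rfl)
    exact tor_isZero_ascends (Algebra.WeaklyEtale.flat_lmul' V W) 1 N
      (fun M _ _ q hq => tor_isZero_of_forall_ideal_flat hV N M q hq) N' p hp
  apply flat_of_forall_Tor1_quot
  intro J'
  obtain ⟨e1⟩ := nonempty_Tor_equiv_flip (ModuleCat.of W (W ⧸ J')) (ModuleCat.of W J) 1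
  obtain ⟨e2⟩ := nonempty_Tor_shift' (A := W) (X₁ := ↥J) (X₂ := W) (X₃ := W ⧸ J)
    J.subtype J.mkQ J.injective_subtype (LinearMap.exact_subtype_mkQ J)
    (Submodule.mkQ_surjective J) (ModuleCat.of W (W ⧸ J')) 0
  haveI := ModuleCat.subsingleton_of_isZero (hW (W ⧸ J) (W ⧸ J') (0 + 2) (by norm_num))
  haveI := e2.symm.toEquiv.subsingleton
  exact e1.toEquiv.subsingleton

section aux

variable (A V L B : Type u) [CommRing A] [CommRing V] [CommRing L] [CommRing B]
  [Algebra A V] [Algebra A L] [Algebra V L] [IsScalarTower A V L] [Algebra A B]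

/-- the base change `V ⊗ B → L ⊗ B`. -/
noncomputable def bcMap : V ⊗[A] B →ₐ[A] L ⊗[A] B :=
  Algebra.TensorProduct.map (IsScalarTower.toAlgHom A V L) (AlgHom.id A B)

variable {A V L B}

lemma bcMap_tmul (v : V) (b : B) :
    bcMap A V L B (v ⊗ₜ[A] b) = algebraMap V L v ⊗ₜ[A] b := by
  simp [bcMap]

lemma bcMap_eq_rTensor (x : V ⊗[A] B) :
    bcMap A V L B x = LinearMap.rTensor B (IsScalarTower.toAlgHom A V L).toLinearMap x := by
  induction x using TensorProduct.induction_on with
  | zero => simp only [map_zero]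
  | tmul v b => rw [bcMap_tmul, LinearMap.rTensor_tmul]; rfl
  | add x y hx hy => simp only [map_add, hx, hy]

lemma bcMap_injective [Module.Flat A B] (h : Function.Injective (algebraMap V L)) :
    Function.Injective (bcMap A V L B) := by
  have h1 : Function.Injective
      (LinearMap.rTensor B (IsScalarTower.toAlgHom A V L).toLinearMap) :=
    Module.Flat.rTensor_preserves_injective_linearMap _ (fun x y hxy => h hxy)
  intro x y hxy
  apply h1
  rw [← bcMap_eq_rTensor, ← bcMap_eq_rTensor, hxy]

lemma bcMap_epi (hepi : Epi (CommRingCat.ofHom (algebraMap V L))) :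
    Epi (CommRingCat.ofHom (bcMap A V L B).toRingHom) := by
  rw [epi_ofHom_iff] at hepi ⊢
  intro T _ α β hαβ
  have h1 : ∀ w : V ⊗[A] B, α (bcMap A V L B w) = β (bcMap A V L B w) :=
    fun w => RingHom.congr_fun hαβ w
  have h2 : α.comp (Algebra.TensorProduct.includeLeftRingHom : L →+* L ⊗[A] B) =
      β.comp Algebra.TensorProduct.includeLeftRingHom := by
    apply hepi
    ext v
    have h3 := h1 (v ⊗ₜ[A] (1 : B))
    rw [bcMap_tmul] at h3
    exact h3
  apply RingHom.ext
  intro x
  induction x using TensorProduct.induction_on with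
  | zero => rw [map_zero, map_zero]
  | tmul l b =>
    have e : l ⊗ₜ[A] b = (l ⊗ₜ[A] (1 : B)) * bcMap A V L B ((1 : V) ⊗ₜ[A] b) := by
      rw [bcMap_tmul, map_one, Algebra.TensorProduct.tmul_mul_tmul, mul_one, one_mul]
    rw [e, map_mul, map_mul, h1]
    congr 1
    exact RingHom.congr_fun h2 l
  | add x y hx hy => rw [map_add, map_add, hx, hy]

end aux

section cart

variable {A K V L B : Type u} [CommRing A] [CommRing K] [CommRing V] [CommRing L] [CommRing B]
  [Algebra A K] [Algebra A V] [Algebra A L] [Algebra V L] [Algebra K L] [IsScalarTower A V L]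
  [IsScalarTower A K L] [Algebra A B]

variable (A K V) in
/-- `a ↦ (a, a)`. -/
noncomputable def cartι : A →ₗ[A] V × K := (Algebra.linearMap A V).prod (Algebra.linearMap A K)

variable (A K V L) in
/-- `(v, k) ↦ v - k`. -/
noncomputable def cartδ : V × K →ₗ[A] L :=
  (IsScalarTower.toAlgHom A V L).toLinearMap.coprod (-(IsScalarTower.toAlgHom A K L).toLinearMap)

lemma cart_exact
    (hcart : ∀ (v : V) (k : K), algebraMap V L v = algebraMap K L k →
      ∃ a : A, algebraMap A V a = v ∧ algebraMap A K a = k) :
    Function.Exact (cartι A K V) (cartδ A K V L) := by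
  intro x
  constructor
  · intro hx
    obtain ⟨v, k⟩ := x
    have h1 : algebraMap V L v + -(algebraMap K L k) = 0 := hx
    have h2 : algebraMap V L v = algebraMap K L k := by
      rw [← sub_eq_add_neg, sub_eq_zero] at h1
      exact h1
    obtain ⟨a, ha1, ha2⟩ := hcart v k h2
    exact ⟨a, Prod.ext ha1 ha2⟩
  · rintro ⟨a, rfl⟩
    show algebraMap V L (algebraMap A V a) + -(algebraMap K L (algebraMap A K a)) = 0
    rw [← IsScalarTower.algebraMap_apply, ← IsScalarTower.algebraMap_apply, add_neg_cancel]

lemma exists_of_cartesian [Module.Flat A B]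
    (hcart : ∀ (v : V) (k : K), algebraMap V L v = algebraMap K L k →
      ∃ a : A, algebraMap A V a = v ∧ algebraMap A K a = k)
    (w : V ⊗[A] B) (z : K ⊗[A] B) (hwz : bcMap A V L B w = bcMap A K L B z) :
    ∃ b : B, (1 : K) ⊗ₜ[A] b = z := by
  have hexB : Function.Exact (LinearMap.rTensor B (cartι A K V))
      (LinearMap.rTensor B (cartδ A K V L)) := Module.Flat.rTensor_exact B (cart_exact hcart)
  have e1 : (cartδ A K V L).comp (LinearMap.inl A V K) =
      (IsScalarTower.toAlgHom A V L).toLinearMap := LinearMap.coprod_inl _ _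
  have e2 : (cartδ A K V L).comp (LinearMap.inr A V K) =
      -(IsScalarTower.toAlgHom A K L).toLinearMap := LinearMap.coprod_inr _ _
  have e3 : (LinearMap.snd A V K).comp (cartι A K V) = Algebra.linearMap A K :=
    LinearMap.snd_prod _ _
  have ht : LinearMap.rTensor B (cartδ A K V L)
      (LinearMap.rTensor B (LinearMap.inl A V K) w + LinearMap.rTensor B (LinearMap.inr A V K) z)
      = 0 := by
    rw [map_add, ← LinearMap.rTensor_comp_apply, ← LinearMap.rTensor_comp_apply, e1, e2,
      LinearMap.rTensor_neg, LinearMap.neg_apply, ← bcMap_eq_rTensor, ← bcMap_eq_rTensor, hwz,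
      add_neg_cancel]
  obtain ⟨s, hs⟩ := (hexB _).mp ht
  have hz : LinearMap.rTensor B (LinearMap.snd A V K)
      (LinearMap.rTensor B (LinearMap.inl A V K) w + LinearMap.rTensor B (LinearMap.inr A V K) z)
      = z := by
    rw [map_add, ← LinearMap.rTensor_comp_apply, ← LinearMap.rTensor_comp_apply,
      LinearMap.snd_comp_inl, LinearMap.snd_comp_inr, LinearMap.rTensor_zero,
      LinearMap.zero_apply, zero_add, LinearMap.rTensor_id, LinearMap.id_apply]
  refine ⟨TensorProduct.lid A B s, ?_⟩
  rw [← hz, ← hs, ← LinearMap.rTensor_comp_apply, e3]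
  obtain ⟨b, rfl⟩ : ∃ b, s = (1 : A) ⊗ₜ[A] b :=
    ⟨TensorProduct.lid A B s, by
      rw [← TensorProduct.lid_symm_apply, LinearEquiv.symm_apply_apply]⟩
  rw [TensorProduct.lid_tmul, one_smul, LinearMap.rTensor_tmul, Algebra.linearMap_apply, map_one]

theorem exists_tmul_eq_of_integral [Algebra.WeaklyEtale A B]
    (hV : ∀ I : Ideal V, Module.Flat V I) [Module.Flat V L]
    (hginj : Function.Injective (algebraMap V L))
    (hgepi : Epi (CommRingCat.ofHom (algebraMap V L)))
    (hcart : ∀ (v : V) (k : K), algebraMap V L v = algebraMap K L k →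
      ∃ a : A, algebraMap A V a = v ∧ algebraMap A K a = k)
    (z : K ⊗[A] B)
    (hz : (Algebra.TensorProduct.includeRight : B →ₐ[A] K ⊗[A] B).toRingHom.IsIntegralElem z) :
    ∃ b : B, (1 : K) ⊗ₜ[A] b = z := by
  have hW : ∀ J : Ideal (V ⊗[A] B), Module.Flat (V ⊗[A] B) J :=
    ideals_flat_of_weaklyEtale V (V ⊗[A] B) hV
  have hflat : (bcMap A V L B).toRingHom.Flat := by
    have hf : (IsScalarTower.toAlgHom A V L).Flat := by
      show RingHom.Flat (algebraMap V L)
      exact RingHom.flat_algebraMap_iff.mpr inferInstance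
    have hg : (AlgHom.id A B).Flat := RingHom.Flat.of_bijective Function.bijective_id
    exact RingHom.Flat.tensorProductMap hf hg
  obtain ⟨p, hpm, hp0⟩ := hz
  have hc : (bcMap A V L B).toRingHom.comp
      (Algebra.TensorProduct.includeRight : B →ₐ[A] V ⊗[A] B).toRingHom =
      (bcMap A K L B).toRingHom.comp
        (Algebra.TensorProduct.includeRight : B →ₐ[A] K ⊗[A] B).toRingHom := by
    ext b
    show bcMap A V L B ((1 : V) ⊗ₜ[A] b) = bcMap A K L B ((1 : K) ⊗ₜ[A] b)
    rw [bcMap_tmul, bcMap_tmul, map_one, map_one]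
  have hint : (bcMap A V L B).toRingHom.IsIntegralElem (bcMap A K L B z) := by
    refine ⟨p.map (Algebra.TensorProduct.includeRight : B →ₐ[A] V ⊗[A] B).toRingHom,
      hpm.map _, ?_⟩
    rw [Polynomial.eval₂_map, hc]
    have h1 := Polynomial.hom_eval₂ p
      (Algebra.TensorProduct.includeRight : B →ₐ[A] K ⊗[A] B).toRingHom
      (bcMap A K L B).toRingHom z
    rw [hp0, map_zero] at h1
    exact h1.symm
  obtain ⟨w, hw⟩ := mem_range_of_isIntegralElem_of_flat_epi (bcMap A V L B).toRingHom hW hflat
    (bcMap_injective hginj) (bcMap_epi hgepi) _ hint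
  exact exists_of_cartesian hcart w z hw

end cart

/-- Stacks 092W: weakly étale algebras over a normal domain are integrally closed in their
generic fibre. -/
theorem integrallyClosedIn_of_weaklyEtale_normal (A : Type u) [CommRing A] [IsDomain A]
    [IsIntegrallyClosed A] (K : Type u) [Field K] [Algebra A K] [IsFractionRing A K]
    (B : Type u) [CommRing B] [Algebra A B] [Algebra.WeaklyEtale A B] :
    IsIntegrallyClosedIn B (B ⊗[A] K) := by
  obtain ⟨V, L, iV, iL, f, g, h, hcomm, hV, hgflat, hginj, hgepi, hcart⟩ :=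
    Groth.Agent.S7143.result A K
  letI : Algebra A V := f.toAlgebra
  letI : Algebra V L := g.toAlgebra
  letI : Algebra A L := (g.comp f).toAlgebra
  letI : Algebra K L := h.toAlgebra
  haveI : IsScalarTower A V L := IsScalarTower.of_algebraMap_eq (fun _ => rfl)
  haveI : IsScalarTower A K L :=
    IsScalarTower.of_algebraMap_eq (fun a => RingHom.congr_fun hcomm a)
  haveI : Module.Flat V L := hgflat
  rw [isIntegrallyClosedIn_iff]
  constructor
  · intro x y hxy
    simp only [Algebra.TensorProduct.algebraMap_apply, Algebra.algebraMap_self,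
      RingHom.id_apply] at hxy
    exact Algebra.TensorProduct.includeLeft_injective (S := A)
      (FaithfulSMul.algebraMap_injective A K) hxy
  · intro x hx
    obtain ⟨p, hpm, hp0⟩ := hx
    have hcc : (Algebra.TensorProduct.comm A B K).toAlgHom.toRingHom.comp
        (algebraMap B (B ⊗[A] K)) =
        (Algebra.TensorProduct.includeRight : B →ₐ[A] K ⊗[A] B).toRingHom := by
      ext b
      show Algebra.TensorProduct.comm A B K (algebraMap B (B ⊗[A] K) b) = (1 : K) ⊗ₜ[A] b
      rw [Algebra.TensorProduct.algebraMap_apply, Algebra.algebraMap_self, RingHom.id_apply,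
        Algebra.TensorProduct.comm_tmul]
    have hz : (Algebra.TensorProduct.includeRight : B →ₐ[A] K ⊗[A] B).toRingHom.IsIntegralElem
        (Algebra.TensorProduct.comm A B K x) := by
      refine ⟨p, hpm, ?_⟩
      have h1 := Polynomial.hom_eval₂ p (algebraMap B (B ⊗[A] K))
        (Algebra.TensorProduct.comm A B K).toAlgHom.toRingHom x
      rw [hp0, map_zero, hcc] at h1
      exact h1.symm
    obtain ⟨b, hb⟩ := exists_tmul_eq_of_integral (A := A) (K := K) (V := V) (L := L) (B := B)
      hV hginj hgepi (fun v k hvk => (hcart v k hvk).exists) _ hz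
    refine ⟨b, ?_⟩
    apply (Algebra.TensorProduct.comm A B K).injective
    rw [← hb, Algebra.TensorProduct.algebraMap_apply, Algebra.algebraMap_self, RingHom.id_apply,
      Algebra.TensorProduct.comm_tmul]

end Groth.Agent.Lib.Helper7
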