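import Mathlib
import Groth.Agent.Lib.Helper7.WEtaleFlat
import Groth.Agent.Lib.Helper11.AbsFlat
set_option autoImplicit false
universe u
open CategoryTheory CategoryTheory.Limits TensorProduct

namespace Groth.Agent.Lib.Helper7

/-- a module over a quotient `S` of `R` which is flat over `R` is flat over `S`. -/
theorem flat_of_surjective_of_flat {R S M : Type u} [CommRing R] [CommRing S] [Algebra R S]
    (hs : Function.Surjective (algebraMap R S)) [AddCommGroup M] [Module R M] [Module S M]
    [IsScalarTower R S M] [Module.Flat R M] : Module.Flat S M := by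
  rw [Module.Flat.iff_lTensor_injective']
  intro J
  haveI c1 : TensorProduct.CompatibleSMul R S M J := .of_algebraMap_surjective _ _ hs
  haveI c2 : TensorProduct.CompatibleSMul R S M S := .of_algebraMap_surjective _ _ hs
  rw [injective_iff_map_eq_zero]
  intro z hz
  have hnat : ∀ z : M ⊗[S] J,
      TensorProduct.mapOfCompatibleSMul R S R M S (LinearMap.lTensor M J.subtype z) =
      LinearMap.lTensor M (J.subtype.restrictScalars R)
        (TensorProduct.mapOfCompatibleSMul R S R M J z) := by
    intro z
    induction z using TensorProduct.induction_on with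
    | zero => simp only [map_zero]
    | tmul m x => rfl
    | add z₁ z₂ h₁ h₂ => simp only [map_add, h₁, h₂]
  have hinj : Function.Injective (LinearMap.lTensor M (J.subtype.restrictScalars R)) :=
    Module.Flat.lTensor_preserves_injective_linearMap _ J.injective_subtype
  have h0 : TensorProduct.mapOfCompatibleSMul R S R M J z = 0 := by
    apply hinj
    rw [← hnat, hz, map_zero, map_zero]
  have hback : ∀ z : M ⊗[S] J, TensorProduct.mapOfCompatibleSMul S R R M J
      (TensorProduct.mapOfCompatibleSMul R S R M J z) = z := by
    intro z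
    induction z using TensorProduct.induction_on with
    | zero => simp only [map_zero]
    | tmul m x => rfl
    | add z₁ z₂ h₁ h₂ => simp only [map_add, h₁, h₂]
  rw [← hback z, h0, map_zero]

/-- ring-hom form of `flat_of_surjective_of_flat`. -/
theorem ringHom_flat_of_surjective_of_comp {R S M : Type u} [CommRing R] [CommRing S]
    [CommRing M] (f : R →+* S) (g : S →+* M) (hs : Function.Surjective f)
    (h : (g.comp f).Flat) : g.Flat := by
  letI := f.toAlgebra
  letI := g.toAlgebra
  letI := (g.comp f).toAlgebra
  haveI : IsScalarTower R S M := IsScalarTower.of_algebraMap_eq (fun _ => rfl)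
  haveI : Module.Flat R M := h
  exact flat_of_surjective_of_flat (R := R) (S := S) (M := M) hs

/-- Stacks 092L: an algebra map between weakly étale `A`-algebras is weakly étale. -/
theorem weaklyEtale_of_algHom (A B C : Type u) [CommRing A] [CommRing B] [CommRing C]
    [Algebra A B] [Algebra A C] [Algebra B C] [IsScalarTower A B C] [Algebra.WeaklyEtale A B]
    [Algebra.WeaklyEtale A C] : Algebra.WeaklyEtale B C := by
  haveI : Module.Flat B C := flat_of_flat_lmul (Algebra.WeaklyEtale.flat_lmul' A B) C
  refine ⟨inferInstance, ?_⟩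
  have hC := Algebra.WeaklyEtale.flat_lmul' A C
  have hψ : Function.Surjective (Algebra.TensorProduct.mapOfCompatibleSMul B A A C C) :=
    Algebra.TensorProduct.mapOfCompatibleSMul_surjective B A A C C
  have hcomp : ∀ z : C ⊗[A] C, Algebra.TensorProduct.lmul' B (S := C)
      (Algebra.TensorProduct.mapOfCompatibleSMul B A A C C z) =
      Algebra.TensorProduct.lmul' A (S := C) z := by
    intro z
    induction z using TensorProduct.induction_on with
    | zero => simp only [map_zero]
    | tmul c c' =>
      rw [Algebra.TensorProduct.mapOfCompatibleSMul_tmul, Algebra.TensorProduct.lmul'_apply_tmul,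
        Algebra.TensorProduct.lmul'_apply_tmul]
    | add z₁ z₂ h₁ h₂ => simp only [map_add, h₁, h₂]
  have hcompeq : (Algebra.TensorProduct.lmul' B (S := C)).toRingHom.comp
      (Algebra.TensorProduct.mapOfCompatibleSMul B A A C C).toRingHom =
      (Algebra.TensorProduct.lmul' A (S := C)).toRingHom := RingHom.ext hcomp
  have hC' : ((Algebra.TensorProduct.lmul' B (S := C)).toRingHom.comp
      (Algebra.TensorProduct.mapOfCompatibleSMul B A A C C).toRingHom).Flat := by
    rw [hcompeq]; exact hC
  exact ringHom_flat_of_surjective_of_comp _ _ hψ hC'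

/-- Stacks 092I-type: a weakly étale algebra over a reduced ring is reduced. -/
theorem isReduced_of_weaklyEtale (A B : Type u) [CommRing A] [CommRing B] [Algebra A B]
    [IsReduced A] [Algebra.WeaklyEtale A B] : IsReduced B := by
  have hP : ∀ a : (∀ p : PrimeSpectrum A, p.asIdeal.ResidueField),
      ∃ b : (∀ p : PrimeSpectrum A, p.asIdeal.ResidueField), a = a * a * b :=
    fun a => ⟨fun p => (a p)⁻¹, funext fun p => (mul_self_mul_inv (a p)).symm⟩
  have hfld : ∀ (q : Ideal (∀ p : PrimeSpectrum A, p.asIdeal.ResidueField)) [q.IsPrime],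
      IsField (Localization.AtPrime q) := by
    intro q _
    obtain ⟨hred, hmax⟩ := Groth.Agent.Lib.Helper11.isReduced_and_maximal_of_vnr hP
    haveI := hred
    exact Groth.Agent.Lib.Helper11.isField_localization_of_reduced_of_maximal hmax q
  have hinj : Function.Injective
      (algebraMap A (∀ p : PrimeSpectrum A, p.asIdeal.ResidueField)) := by
    rw [injective_iff_map_eq_zero]
    intro a ha
    have hmem : a ∈ nilradical A := by
      rw [nilradical_eq_sInf, Ideal.mem_sInf]
      intro J hJ
      haveI hJp : J.IsPrime := hJ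
      have h1 : algebraMap A (J.ResidueField) a = 0 := congrFun ha ⟨J, hJp⟩
      exact Ideal.algebraMap_residueField_eq_zero.mp h1
    rw [nilradical_eq_zero] at hmem
    exact hmem
  have hQ : ∀ a : (∀ p : PrimeSpectrum A, p.asIdeal.ResidueField) ⊗[A] B,
      ∃ b, a = a * a * b := by
    intro a
    haveI : Module.Flat (∀ p : PrimeSpectrum A, p.asIdeal.ResidueField)
        (((∀ p : PrimeSpectrum A, p.asIdeal.ResidueField) ⊗[A] B) ⧸ Ideal.span {a}) :=
      Groth.Agent.Lib.Helper11.flat_of_isField_localization hfld _
    haveI : Module.Flat ((∀ p : PrimeSpectrum A, p.asIdeal.ResidueField) ⊗[A] B)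
        (((∀ p : PrimeSpectrum A, p.asIdeal.ResidueField) ⊗[A] B) ⧸ Ideal.span {a}) :=
      flat_of_flat_lmul (Algebra.WeaklyEtale.flat_lmul'
        (∀ p : PrimeSpectrum A, p.asIdeal.ResidueField)
        ((∀ p : PrimeSpectrum A, p.asIdeal.ResidueField) ⊗[A] B)) _
    exact Groth.Agent.Lib.Helper11.exists_eq_mul_self_mul_of_flat a
  haveI : IsReduced ((∀ p : PrimeSpectrum A, p.asIdeal.ResidueField) ⊗[A] B) :=
    (Groth.Agent.Lib.Helper11.isReduced_and_maximal_of_vnr hQ).1
  exact isReduced_of_injective
    (Algebra.TensorProduct.includeRight :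
      B →ₐ[A] (∀ p : PrimeSpectrum A, p.asIdeal.ResidueField) ⊗[A] B)
    (Algebra.TensorProduct.includeRight_injective hinj)

end Groth.Agent.Lib.Helper7
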