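import Mathlib
import Groth.Prelude.Def_ega3
import Groth.Agent.Lib.Helper7.TorBalance3
import Groth.Agent.Lib.Helper7.CxElem
set_option autoImplicit false
universe u
open CategoryTheory CategoryTheory.Limits MonoidalCategory TensorProduct

namespace Groth.Agent.Lib.Helper7

/-- a resolution of `M` by finite free modules given by matrices. -/
structure MatRes (R : Type u) [CommRing R] (M : Type u) [AddCommGroup M] [Module R M] where
  rk : ℕ → ℕ
  d : (i : ℕ) → Matrix (Fin (rk i)) (Fin (rk (i + 1))) R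
  aug : (Fin (rk 0) → R) →ₗ[R] M
  aug_surjective : Function.Surjective aug
  exact_zero : LinearMap.ker aug = LinearMap.range (Matrix.mulVecLin (d 0))
  exact_succ : ∀ i : ℕ,
    LinearMap.ker (Matrix.mulVecLin (d i)) = LinearMap.range (Matrix.mulVecLin (d (i + 1)))

variable {R : Type u} [CommRing R]

lemma rTensor_mulVecLin_eq_zero (𝔪 : Ideal R) {m n : ℕ} (D : Matrix (Fin m) (Fin n) R)
    (hD : ∀ a b, D a b ∈ 𝔪) :
    LinearMap.rTensor (R ⧸ 𝔪) (Matrix.mulVecLin D) = 0 := by
  classical
  apply TensorProduct.ext'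
  intro v c
  show (D.mulVec v) ⊗ₜ[R] c = 0
  rw [pi_eq_sum_univ' (D.mulVec v), TensorProduct.sum_tmul]
  refine Finset.sum_eq_zero fun a _ => ?_
  rw [TensorProduct.smul_tmul]
  have h1 : D.mulVec v a ∈ 𝔪 := by
    show ∑ b, D a b * v b ∈ 𝔪
    exact Ideal.sum_mem _ fun b _ => Ideal.mul_mem_right _ _ (hD a b)
  have h2 : (D.mulVec v a) • c = 0 := by
    rw [Algebra.smul_def, Ideal.Quotient.algebraMap_eq, Ideal.Quotient.eq_zero_iff_mem.mpr h1,
      zero_mul]
  rw [h2, TensorProduct.tmul_zero]

lemma length_pi_quot_maximal (𝔪 : Ideal R) [h𝔪 : 𝔪.IsMaximal] (n : ℕ) :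
    Module.length R (Fin n → R ⧸ 𝔪) = n := by
  haveI : IsSimpleModule R (R ⧸ 𝔪) := isSimpleModule_iff_isCoatom.mpr (Ideal.isMaximal_def.mp h𝔪)
  rw [Module.length_pi_of_fintype, Finset.sum_const, Finset.card_univ, Fintype.card_fin,
    Module.length_eq_one, nsmul_one]

namespace MatRes
variable {M : Type u} [AddCommGroup M] [Module R M] (F : MatRes R M)

lemma d_comp_d (i : ℕ) (v : Fin (F.rk (i + 1 + 1)) → R) :
    Matrix.mulVecLin (F.d i) (Matrix.mulVecLin (F.d (i + 1)) v) = 0 := by
  have h : Matrix.mulVecLin (F.d (i + 1)) v ∈ LinearMap.ker (Matrix.mulVecLin (F.d i)) := by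
    rw [F.exact_succ i]
    exact ⟨v, rfl⟩
  exact h

/-- the complex of free modules. -/
noncomputable def cx : ChainComplex (ModuleCat.{u} R) ℕ :=
  ChainComplex.of (fun i => ModuleCat.of R (Fin (F.rk i) → R))
    (fun i => ModuleCat.ofHom (Matrix.mulVecLin (F.d i)))
    (fun i => by
      apply ModuleCat.hom_ext
      apply LinearMap.ext
      intro v
      exact F.d_comp_d i v)

lemma cx_d (i : ℕ) : F.cx.d (i + 1) i = ModuleCat.ofHom (Matrix.mulVecLin (F.d i)) := by
  unfold cx
  exact ChainComplex.of_d (fun i => ModuleCat.of R (Fin (F.rk i) → R))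
    (fun i => ModuleCat.ofHom (Matrix.mulVecLin (F.d i))) i

/-- it is a flat resolution. -/
noncomputable def flatRes : FlatRes F.cx (ModuleCat.of R M) where
  ε := ModuleCat.ofHom F.aug
  flat := fun i => (inferInstance : Module.Flat R (Fin (F.rk i) → R))
  exactAt := fun i => by
    rw [HomologicalComplex.exactAt_iff' _ (i + 1 + 1) (i + 1) i (ChainComplex.prev ℕ (i + 1))
      (ChainComplex.next_nat_succ i), ShortComplex.moduleCat_exact_iff_range_eq_ker]
    show LinearMap.range (F.cx.d (i + 1 + 1) (i + 1)).hom = LinearMap.ker (F.cx.d (i + 1) i).hom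
    rw [F.cx_d (i + 1), F.cx_d i]
    exact (F.exact_succ i).symm
  ε_surj := F.aug_surjective
  ε_exact := by
    show Function.Exact (F.cx.d (0 + 1) 0).hom _
    rw [F.cx_d 0]
    exact LinearMap.exact_iff.mpr F.exact_zero

/-- `Tor_i(R/𝔪, M)` for a resolution that is minimal with respect to `𝔪`. -/
theorem tor_equiv (𝔪 : Ideal R) (hmin : ∀ i a b, F.d i a b ∈ 𝔪) (i : ℕ) :
    Nonempty (((Tor (ModuleCat.{u} R) i).obj (ModuleCat.of R (R ⧸ 𝔪))).obj (ModuleCat.of R M)
      ≃ₗ[R] (Fin (F.rk i) → R ⧸ 𝔪)) := by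
  classical
  obtain ⟨e1⟩ := nonempty_Tor_equiv_T_of_flatRes_right F.flatRes (ModuleCat.of R (R ⧸ 𝔪)) i
  have hd : ∀ a b, (CohIII.tensorObj F.cx (ModuleCat.of R (R ⧸ 𝔪))).d a b = 0 := by
    intro a b
    by_cases hab : (ComplexShape.down ℕ).Rel a b
    · have hab' : b + 1 = a := hab
      subst hab'
      apply ModuleCat.hom_ext
      rw [tensorObj_d, F.cx_d b]
      exact rTensor_mulVecLin_eq_zero 𝔪 (F.d b) (hmin b)
    · exact (CohIII.tensorObj F.cx (ModuleCat.of R (R ⧸ 𝔪))).shape a b hab
  let e2 : (CohIII.tensorObj F.cx (ModuleCat.of R (R ⧸ 𝔪))).homology i ≅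
      (CohIII.tensorObj F.cx (ModuleCat.of R (R ⧸ 𝔪))).X i :=
    (ShortComplex.LeftHomologyData.ofZeros
      ((CohIII.tensorObj F.cx (ModuleCat.of R (R ⧸ 𝔪))).sc i) (hd _ _) (hd _ _)).homologyIso
  have e3 : ((CohIII.tensorObj F.cx (ModuleCat.of R (R ⧸ 𝔪))).X i) ≃ₗ[R]
      ((Fin (F.rk i) → R) ⊗[R] (R ⧸ 𝔪)) := LinearEquiv.refl R _
  exact ⟨e1.trans (e2.toLinearEquiv.trans (e3.trans ((TensorProduct.comm R _ _).trans
    (TensorProduct.piScalarRight R R (R ⧸ 𝔪) (Fin (F.rk i))))))⟩

theorem length_tor (𝔪 : Ideal R) [𝔪.IsMaximal] (hmin : ∀ i a b, F.d i a b ∈ 𝔪) (i : ℕ) :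
    Module.length R (((Tor (ModuleCat.{u} R) i).obj (ModuleCat.of R (R ⧸ 𝔪))).obj
      (ModuleCat.of R M)) = F.rk i := by
  obtain ⟨e⟩ := F.tor_equiv 𝔪 hmin i
  rw [e.length_eq, length_pi_quot_maximal]

/-- the syzygy modules. -/
noncomputable def syz : ℕ → ModuleCat.{u} R
  | 0 => ModuleCat.of R M
  | j + 1 => ModuleCat.of R (LinearMap.range (Matrix.mulVecLin (F.d j)))

lemma projective_free (n : ℕ) : Projective (ModuleCat.of R (Fin n → R)) :=
  (IsProjective.iff_projective _).mp inferInstance

lemma syz_step (j m : ℕ) (h : HasProjectiveDimensionLT (F.syz (j + 1)) m) :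
    HasProjectiveDimensionLT (F.syz j) (m + 1) := by
  cases j with
  | zero =>
    let S : ShortComplex (ModuleCat.{u} R) := ModuleCat.shortComplexOfCompEqZero
      (LinearMap.range (Matrix.mulVecLin (F.d 0))).subtype F.aug (by
        apply LinearMap.ext
        intro x
        have hx : (x : Fin (F.rk 0) → R) ∈ LinearMap.ker F.aug := by
          rw [F.exact_zero]
          exact x.2
        exact hx)
    have hex : Function.Exact (LinearMap.range (Matrix.mulVecLin (F.d 0))).subtype F.aug :=
      LinearMap.exact_iff.mpr (by rw [Submodule.range_subtype]; exact F.exact_zero)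
    have hS : S.ShortExact := ModuleCat.shortComplex_shortExact S hex
      (Submodule.subtype_injective _) F.aug_surjective
    haveI : Projective S.X₂ := projective_free (F.rk 0)
    have h2 : HasProjectiveDimensionLT S.X₂ (m + 1) :=
      hasProjectiveDimensionLT_of_ge S.X₂ 1 (m + 1) (by omega)
    exact hS.hasProjectiveDimensionLT_X₃ m h h2
  | succ j =>
    let S : ShortComplex (ModuleCat.{u} R) := ModuleCat.shortComplexOfCompEqZero
      (LinearMap.range (Matrix.mulVecLin (F.d (j + 1)))).subtype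
      (Matrix.mulVecLin (F.d j)).rangeRestrict (by
        apply LinearMap.ext
        intro x
        apply Subtype.ext
        have hx : (x : Fin (F.rk (j + 1)) → R) ∈ LinearMap.ker (Matrix.mulVecLin (F.d j)) := by
          rw [F.exact_succ j]
          exact x.2
        exact hx)
    have hex : Function.Exact (LinearMap.range (Matrix.mulVecLin (F.d (j + 1)))).subtype
        (Matrix.mulVecLin (F.d j)).rangeRestrict :=
      LinearMap.exact_iff.mpr (by
        rw [Submodule.range_subtype, LinearMap.ker_rangeRestrict]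
        exact F.exact_succ j)
    have hS : S.ShortExact := ModuleCat.shortComplex_shortExact S hex
      (Submodule.subtype_injective _) (LinearMap.surjective_rangeRestrict _)
    haveI : Projective S.X₂ := projective_free (F.rk (j + 1))
    have h2 : HasProjectiveDimensionLT S.X₂ (m + 1) :=
      hasProjectiveDimensionLT_of_ge S.X₂ 1 (m + 1) (by omega)
    exact hS.hasProjectiveDimensionLT_X₃ m h h2

/-- a matrix resolution of length `≤ n` bounds the projective dimension. -/
theorem hasProjectiveDimensionLT_of_rk_eq_zero (n : ℕ) (h : F.rk (n + 1) = 0) :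
    HasProjectiveDimensionLT (ModuleCat.of R M) (n + 1) := by
  have key : ∀ m j : ℕ, j + m = n + 1 → HasProjectiveDimensionLT (F.syz j) m := by
    intro m
    induction m with
    | zero =>
      intro j hj
      obtain rfl : j = n + 1 := by omega
      haveI : IsEmpty (Fin (F.rk (n + 1))) := by
        rw [h]
        exact Fin.isEmpty'
      have hsub : Subsingleton (LinearMap.range (Matrix.mulVecLin (F.d n))) := by
        constructor
        rintro ⟨_, v, rfl⟩ ⟨_, w, rfl⟩
        rw [Subsingleton.elim v w]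
      have hz : IsZero (F.syz (n + 1)) := by
        show IsZero (ModuleCat.of R (LinearMap.range (Matrix.mulVecLin (F.d n))))
        exact ModuleCat.isZero_of_subsingleton _
      exact hz.hasProjectiveDimensionLT_zero
    | succ m ih =>
      intro j hj
      exact F.syz_step j m (ih (j + 1) (by omega))
  exact key (n + 1) 0 (by omega)

end MatRes

end Groth.Agent.Lib.Helper7
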