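import Mathlib
import Groth.Prelude.Def_GrSyz
import Groth.Agent.Lib.Helper7.MatRes
import Groth.Agent.Lib.Helper7.TorPd
set_option autoImplicit false
universe u v
open CategoryTheory

namespace Groth.Agent.Lib.Helper7

/-- the irrelevant ideal of the standard grading is the kernel of the constant coefficient. -/
theorem irrel_stdGr_eq_ker (k : Type u) [Field k] (σ : Type v) :
    (GrSyz.irrel (GrSyz.stdGr k σ)).toIdeal =
      RingHom.ker (MvPolynomial.constantCoeff (R := k) (σ := σ)) := by
  apply le_antisymm
  · show Ideal.span {p | ∃ n : ℤ, 0 < n ∧ p ∈ GrSyz.stdGr k σ n} ≤ _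
    rw [Ideal.span_le]
    rintro p ⟨n, hn, hp⟩
    rw [SetLike.mem_coe, RingHom.mem_ker]
    by_contra h0
    have hp' : p.IsWeightedHomogeneous (fun _ : σ => (1 : ℤ)) n := hp
    have h0' : MvPolynomial.coeff 0 p ≠ 0 := h0
    have h1 := hp' h0'
    rw [map_zero] at h1
    omega
  · intro p hp
    rw [RingHom.mem_ker] at hp
    have key : ∀ q : MvPolynomial σ k, q - MvPolynomial.C (MvPolynomial.constantCoeff q) ∈
        (GrSyz.irrel (GrSyz.stdGr k σ)).toIdeal := by
      intro q
      induction q using MvPolynomial.induction_on with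
      | C a =>
        rw [MvPolynomial.constantCoeff_C, sub_self]
        exact Ideal.zero_mem _
      | add p q hp hq =>
        have h2 : p + q - MvPolynomial.C (MvPolynomial.constantCoeff (p + q)) =
            (p - MvPolynomial.C (MvPolynomial.constantCoeff p)) +
              (q - MvPolynomial.C (MvPolynomial.constantCoeff q)) := by
          rw [map_add, map_add]
          ring
        rw [h2]
        exact Ideal.add_mem _ hp hq
      | mul_X p i _ =>
        have h1 : MvPolynomial.constantCoeff (p * MvPolynomial.X i) = 0 := by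
          rw [map_mul, MvPolynomial.constantCoeff_X, mul_zero]
        rw [h1, map_zero, sub_zero]
        apply Ideal.mul_mem_left
        show MvPolynomial.X i ∈ Ideal.span {p | ∃ n : ℤ, 0 < n ∧ p ∈ GrSyz.stdGr k σ n}
        apply Ideal.subset_span
        exact ⟨1, one_pos, MvPolynomial.isWeightedHomogeneous_X _ _ i⟩
    have h3 := key p
    rwa [hp, map_zero, sub_zero] at h3

theorem irrel_stdGr_isMaximal (k : Type u) [Field k] (σ : Type v) :
    ((GrSyz.irrel (GrSyz.stdGr k σ)).toIdeal).IsMaximal := by
  rw [irrel_stdGr_eq_ker]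
  exact RingHom.ker_isMaximal_of_surjective _
    (fun a => ⟨MvPolynomial.C a, MvPolynomial.constantCoeff_C _ a⟩)

/-- S15436: ranks of a minimal graded free resolution are the lengths of `Tor_i(k, M)`. -/
theorem length_tor_eq_rk (k : Type u) [Field k] (r : ℕ)
    (M : Type u) [AddCommGroup M] [Module k M] [Module (MvPolynomial (Fin (r + 1)) k) M]
    (ℳ : ℤ → Submodule k M) [DirectSum.Decomposition ℳ]
    [SetLike.GradedSMul (GrSyz.stdGr k (Fin (r + 1))) ℳ]
    (F : GrSyz.FreeRes (GrSyz.stdGr k (Fin (r + 1))) ℳ)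
    (hF : F.IsMinimal (GrSyz.irrel (GrSyz.stdGr k (Fin (r + 1)))).toIdeal) (i : ℕ) :
    Module.length (MvPolynomial (Fin (r + 1)) k)
        (((CategoryTheory.Tor (ModuleCat.{u} (MvPolynomial (Fin (r + 1)) k)) i).obj
            (ModuleCat.of (MvPolynomial (Fin (r + 1)) k) ((MvPolynomial (Fin (r + 1)) k) ⧸
              (GrSyz.irrel (GrSyz.stdGr k (Fin (r + 1)))).toIdeal))).obj
          (ModuleCat.of (MvPolynomial (Fin (r + 1)) k) M)) = (F.rk i : ℕ∞) := by
  haveI := irrel_stdGr_isMaximal k (Fin (r + 1))
  let G : MatRes (MvPolynomial (Fin (r + 1)) k) M :=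
    { rk := F.rk
      d := F.d
      aug := Fintype.linearCombination _ F.aug
      aug_surjective := F.aug_surjective
      exact_zero := F.exact_zero
      exact_succ := F.exact_succ }
  exact G.length_tor _ hF i

/-- S15430: the length of a minimal graded free resolution is the projective dimension. -/
theorem hasLengthLE_iff_hasProjectiveDimensionLE (k : Type u) [Field k] (r : ℕ)
    (M : Type u) [AddCommGroup M] [Module k M] [Module (MvPolynomial (Fin (r + 1)) k) M]
    (ℳ : ℤ → Submodule k M) [DirectSum.Decomposition ℳ]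
    [SetLike.GradedSMul (GrSyz.stdGr k (Fin (r + 1))) ℳ]
    (F : GrSyz.FreeRes (GrSyz.stdGr k (Fin (r + 1))) ℳ)
    (hF : F.IsMinimal (GrSyz.irrel (GrSyz.stdGr k (Fin (r + 1)))).toIdeal) (n : ℕ) :
    F.HasLengthLE n ↔
      CategoryTheory.HasProjectiveDimensionLE (ModuleCat.of (MvPolynomial (Fin (r + 1)) k) M) n := by
  haveI := irrel_stdGr_isMaximal k (Fin (r + 1))
  let G : MatRes (MvPolynomial (Fin (r + 1)) k) M :=
    { rk := F.rk
      d := F.d
      aug := Fintype.linearCombination _ F.aug
      aug_surjective := F.aug_surjective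
      exact_zero := F.exact_zero
      exact_succ := F.exact_succ }
  constructor
  · intro h
    exact G.hasProjectiveDimensionLT_of_rk_eq_zero n (h (n + 1) (Nat.lt_succ_self n))
  · intro h i hi
    have hz := Tor_isZero_of_hasProjectiveDimensionLT
      (ModuleCat.of (MvPolynomial (Fin (r + 1)) k) ((MvPolynomial (Fin (r + 1)) k) ⧸
        (GrSyz.irrel (GrSyz.stdGr k (Fin (r + 1)))).toIdeal)) n
      (ModuleCat.of (MvPolynomial (Fin (r + 1)) k) M) h i hi
    have hl := G.length_tor _ hF i
    haveI := ModuleCat.subsingleton_of_isZero hz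
    rw [Module.length_eq_zero] at hl
    have hl' : ((F.rk i : ℕ) : ℕ∞) = 0 := hl.symm
    exact_mod_cast hl'

end Groth.Agent.Lib.Helper7
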