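import Mathlib

set_option autoImplicit false

namespace Groth.Agent.Lib.Helper7

open DirectSum

section Graded

variable {R A : Type*} [CommRing R] [CommRing A] [Algebra R A] (𝒜 : ℕ → Submodule R A) [GradedAlgebra 𝒜]

/-- HD: induction principle for a homogeneous element of degree `m` lying in the ideal spanned by
homogeneous elements. -/
theorem homog_span_induction {E : Set A} (P : A → Prop) (h0 : P 0)
    (hadd : ∀ x y, P x → P y → P (x + y)) {m : ℕ}
    (hE : ∀ e ∈ E, ∃ d : ℕ, e ∈ 𝒜 d ∧ (d ≤ m → ∀ a ∈ 𝒜 (m - d), P (a * e)))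
    {x : A} (hx : x ∈ 𝒜 m) (hxE : x ∈ Ideal.span E) : P x := by
  have key : ∀ y ∈ Ideal.span E, ∀ b : A, P (decompose 𝒜 (b * y) m : A) := by
    intro y hy
    refine Submodule.span_induction (p := fun y _ => ∀ b : A, P (decompose 𝒜 (b * y) m : A))
      ?_ ?_ ?_ ?_ hy
    · intro e he b
      obtain ⟨d, hd, hP⟩ := hE e he
      by_cases hdm : d ≤ m
      · rw [coe_decompose_mul_of_right_mem_of_le 𝒜 hd hdm]
        exact hP hdm _ (SetLike.coe_mem _)
      · rw [coe_decompose_mul_of_right_mem_of_not_le 𝒜 hd hdm]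
        exact h0
    · intro b; simpa using h0
    · intro y z _ _ hy hz b
      rw [mul_add, decompose_add, DirectSum.add_apply, Submodule.coe_add]
      exact hadd _ _ (hy b) (hz b)
    · intro a y _ hy b
      rw [smul_eq_mul, ← mul_assoc]
      exact hy (b * a)
  have := key x hxE 1
  rwa [one_mul, decompose_of_mem_same 𝒜 hx] at this

theorem adjoin_eq_top_of_irrelevant_eq_span {E : Set A} (hE : ∀ e ∈ E, ∃ d : ℕ, 0 < d ∧ e ∈ 𝒜 d)
    (h : (HomogeneousIdeal.irrelevant 𝒜).toIdeal = Ideal.span E) :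
    Algebra.adjoin (𝒜 0) E = ⊤ := by
  have key : ∀ m : ℕ, ∀ x ∈ 𝒜 m, x ∈ Algebra.adjoin (𝒜 0) E := by
    intro m
    induction m using Nat.strong_induction_on with
    | _ m ih =>
      intro x hx
      rcases Nat.eq_zero_or_pos m with rfl | hm
      · exact Subalgebra.algebraMap_mem _ (⟨x, hx⟩ : 𝒜 0)
      · have hxE : x ∈ (HomogeneousIdeal.irrelevant 𝒜).toIdeal :=
          HomogeneousIdeal.mem_irrelevant_of_mem 𝒜 hm hx
        rw [h] at hxE
        refine homog_span_induction 𝒜 (· ∈ Algebra.adjoin (𝒜 0) E) (zero_mem _)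
          (fun _ _ => add_mem) ?_ hx hxE
        intro e he
        obtain ⟨d, hd0, hd⟩ := hE e he
        refine ⟨d, hd, fun hdm a ha => ?_⟩
        exact mul_mem (ih (m - d) (by omega) a ha) (Algebra.subset_adjoin he)
  rw [eq_top_iff]
  intro x _
  classical
  rw [← sum_support_decompose 𝒜 x]
  exact sum_mem fun i _ => key i _ (SetLike.coe_mem _)

theorem irrelevant_eq_span_of_adjoin_eq_top {E : Set A} (hE : ∀ e ∈ E, ∃ d : ℕ, 0 < d ∧ e ∈ 𝒜 d)
    (h : Algebra.adjoin (𝒜 0) E = ⊤) :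
    (HomogeneousIdeal.irrelevant 𝒜).toIdeal = Ideal.span E := by
  have hle : Ideal.span E ≤ (HomogeneousIdeal.irrelevant 𝒜).toIdeal := by
    rw [Ideal.span_le]
    intro e he
    obtain ⟨d, hd0, hd⟩ := hE e he
    exact HomogeneousIdeal.mem_irrelevant_of_mem 𝒜 hd0 hd
  refine le_antisymm ?_ hle
  have key : ∀ x ∈ Algebra.adjoin (𝒜 0) E, ∃ c ∈ 𝒜 0, ∃ y ∈ Ideal.span E, x = c + y := by
    intro x hx
    induction hx using Algebra.adjoin_induction with
    | mem x hx => exact ⟨0, zero_mem _, x, Ideal.subset_span hx, (zero_add x).symm⟩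
    | algebraMap r => exact ⟨r, r.2, 0, zero_mem _, by simp⟩
    | add x y _ _ hx hy =>
      obtain ⟨c, hc, u, hu, rfl⟩ := hx
      obtain ⟨c', hc', u', hu', rfl⟩ := hy
      exact ⟨c + c', add_mem hc hc', u + u', add_mem hu hu', by ring⟩
    | mul x y _ _ hx hy =>
      obtain ⟨c, hc, u, hu, rfl⟩ := hx
      obtain ⟨c', hc', u', hu', rfl⟩ := hy
      refine ⟨c * c', ?_, c * u' + u * c' + u * u', ?_, by ring⟩
      · simpa using SetLike.mul_mem_graded hc hc'
      · exact add_mem (add_mem (Ideal.mul_mem_left _ _ hu') (Ideal.mul_mem_right _ _ hu))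
          (Ideal.mul_mem_left _ _ hu')
  intro x hx
  obtain ⟨c, hc, y, hy, rfl⟩ := key x (h ▸ Algebra.mem_top)
  have hc0 : c ∈ (HomogeneousIdeal.irrelevant 𝒜).toIdeal := by
    have := (HomogeneousIdeal.irrelevant 𝒜).toIdeal.sub_mem hx (hle hy)
    simpa using this
  have : c = 0 := by
    have h1 : GradedRing.proj 𝒜 0 c = 0 := hc0
    rwa [GradedRing.proj_apply, decompose_of_mem_same 𝒜 hc] at h1
  rw [this, zero_add]; exact hy

theorem irrelevant_fg_iff_finiteType :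
    (HomogeneousIdeal.irrelevant 𝒜).toIdeal.FG ↔ Algebra.FiniteType (𝒜 0) A := by
  classical
  constructor
  · rintro ⟨F, hF⟩
    let F' : Finset A :=
      F.biUnion fun f => (decompose 𝒜 f).support.image fun i => (decompose 𝒜 f i : A)
    have hmemF' : ∀ e, e ∈ (F' : Set A) ↔ ∃ f ∈ F, ∃ i ∈ (decompose 𝒜 f).support,
        (decompose 𝒜 f i : A) = e := by
      intro e
      simp [F']
    have hF'E : ∀ e ∈ (F' : Set A), ∃ d : ℕ, 0 < d ∧ e ∈ 𝒜 d := by
      intro e he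
      obtain ⟨f, hf, i, hi, rfl⟩ := (hmemF' e).mp he
      refine ⟨i, Nat.pos_of_ne_zero ?_, SetLike.coe_mem _⟩
      rintro rfl
      have hfirr : f ∈ (HomogeneousIdeal.irrelevant 𝒜).toIdeal := hF ▸ Ideal.subset_span hf
      have h0 : (decompose 𝒜 f 0 : A) = 0 := hfirr
      rw [DFinsupp.mem_support_toFun] at hi
      exact hi (Subtype.ext h0)
    have hspan : (HomogeneousIdeal.irrelevant 𝒜).toIdeal = Ideal.span (F' : Set A) := by
      apply le_antisymm
      · rw [← hF, Ideal.span_le]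
        intro f hf
        rw [SetLike.mem_coe, ← sum_support_decompose 𝒜 f]
        exact sum_mem fun i hi => Ideal.subset_span ((hmemF' _).mpr ⟨f, hf, i, hi, rfl⟩)
      · rw [Ideal.span_le]
        intro e he
        obtain ⟨d, hd0, hd⟩ := hF'E e he
        exact HomogeneousIdeal.mem_irrelevant_of_mem 𝒜 hd0 hd
    exact ⟨⟨F', adjoin_eq_top_of_irrelevant_eq_span 𝒜 hF'E hspan⟩⟩
  · intro h
    obtain ⟨s, hs, hs'⟩ := GradedAlgebra.exists_finset_adjoin_eq_top_and_homogeneous_ne_zero 𝒜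
    have hE : ∀ e ∈ (s : Set A), ∃ d : ℕ, 0 < d ∧ e ∈ 𝒜 d := fun e he => by
      obtain ⟨n, hn, h⟩ := hs' e he
      exact ⟨n, Nat.pos_of_ne_zero hn, h⟩
    exact ⟨s, (irrelevant_eq_span_of_adjoin_eq_top 𝒜 hE hs).symm⟩

theorem isNoetherianRing_iff_degZero_and_finiteType :
    IsNoetherianRing A ↔ IsNoetherianRing (𝒜 0) ∧ Algebra.FiniteType (𝒜 0) A := by
  constructor
  · intro h
    exact ⟨inferInstance, (irrelevant_fg_iff_finiteType 𝒜).mp (IsNoetherian.noetherian _)⟩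
  · rintro ⟨h0, hft⟩
    exact Algebra.FiniteType.isNoetherianRing (𝒜 0) A

/-- Finite homogeneous generating data for the irrelevant ideal. -/
theorem exists_finset_irrelevant_eq_span [Algebra.FiniteType (𝒜 0) A] :
    ∃ (s : Finset A) (deg : A → ℕ), (∀ e ∈ s, 0 < deg e ∧ e ∈ 𝒜 (deg e)) ∧
      (HomogeneousIdeal.irrelevant 𝒜).toIdeal = Ideal.span (s : Set A) := by
  obtain ⟨s, hs, hs'⟩ := GradedAlgebra.exists_finset_adjoin_eq_top_and_homogeneous_ne_zero 𝒜
  choose! deg hdeg using hs'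
  refine ⟨s, deg, fun e he => ⟨Nat.pos_of_ne_zero (hdeg e he).1, (hdeg e he).2⟩, ?_⟩
  exact irrelevant_eq_span_of_adjoin_eq_top 𝒜
    (fun e he => ⟨deg e, Nat.pos_of_ne_zero (hdeg e he).1, (hdeg e he).2⟩) hs

theorem exists_degree_le_irrelevant_pow [Algebra.FiniteType (𝒜 0) A] (n : ℕ) :
    ∃ m₀ : ℕ, ∀ m : ℕ, m₀ ≤ m →
      (𝒜 m : Set A) ⊆ ((HomogeneousIdeal.irrelevant 𝒜).toIdeal ^ n : Ideal A) := by
  obtain ⟨s, deg, hs, hspan⟩ := exists_finset_irrelevant_eq_span 𝒜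
  induction n with
  | zero => exact ⟨0, fun m _ x _ => by simp⟩
  | succ n ih =>
    obtain ⟨m₀, hm₀⟩ := ih
    refine ⟨m₀ + s.sup deg + 1, fun m hm x hx => ?_⟩
    have hxE : x ∈ (HomogeneousIdeal.irrelevant 𝒜).toIdeal :=
      HomogeneousIdeal.mem_irrelevant_of_mem 𝒜 (by omega) hx
    rw [hspan] at hxE
    change x ∈ ((HomogeneousIdeal.irrelevant 𝒜).toIdeal ^ (n + 1) : Ideal A)
    refine homog_span_induction 𝒜
      (· ∈ ((HomogeneousIdeal.irrelevant 𝒜).toIdeal ^ (n + 1) : Ideal A)) (zero_mem _)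
      (fun _ _ => add_mem) ?_ hx hxE
    intro e he
    refine ⟨deg e, (hs e he).2, fun hdm a ha => ?_⟩
    rw [pow_succ]
    refine Ideal.mul_mem_mul (hm₀ (m - deg e) ?_ ha)
      (HomogeneousIdeal.mem_irrelevant_of_mem 𝒜 (hs e he).1 (hs e he).2)
    have : deg e ≤ s.sup deg := Finset.le_sup he
    omega

theorem exists_mul_le [Algebra.FiniteType (𝒜 0) A] (d : ℕ) (hd : 0 < d) :
    ∃ q : ℕ, 0 < q ∧ d ∣ q ∧ ∃ N₀ : ℕ, ∀ n : ℕ, N₀ ≤ n → 𝒜 (n + q) ≤ 𝒜 q * 𝒜 n := by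
  classical
  obtain ⟨s, deg, hs, hspan⟩ := exists_finset_irrelevant_eq_span 𝒜
  set q := d * ∏ e ∈ s, deg e with hq
  have hqpos : 0 < q := Nat.mul_pos hd (Finset.prod_pos fun e he => (hs e he).1)
  have hdvd : ∀ e ∈ s, deg e ∣ q := fun e he => Dvd.dvd.mul_left (Finset.dvd_prod_of_mem deg he) d
  let g : A → A := fun e => e ^ (q / deg e)
  have hg : ∀ e ∈ s, g e ∈ 𝒜 q := by
    intro e he
    have := SetLike.pow_mem_graded (q / deg e) (hs e he).2
    rwa [smul_eq_mul, Nat.div_mul_cancel (hdvd e he)] at this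
  let J : Ideal A := Ideal.span (g '' (s : Set A))
  have hrad : (HomogeneousIdeal.irrelevant 𝒜).toIdeal ≤ J.radical := by
    rw [hspan, Ideal.span_le]
    intro e he
    exact ⟨q / deg e, Ideal.subset_span ⟨e, he, rfl⟩⟩
  have hfg : (HomogeneousIdeal.irrelevant 𝒜).toIdeal.FG := ⟨s, hspan.symm⟩
  obtain ⟨N, hN⟩ := Ideal.exists_pow_le_of_le_radical_of_fg hrad hfg
  obtain ⟨m₀, hm₀⟩ := exists_degree_le_irrelevant_pow 𝒜 N
  refine ⟨q, hqpos, Dvd.intro _ rfl, m₀, fun n hn x hx => ?_⟩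
  have hxJ : x ∈ J := hN (hm₀ (n + q) (by omega) hx)
  refine homog_span_induction 𝒜 (· ∈ 𝒜 q * 𝒜 n) (zero_mem _) (fun _ _ => add_mem) ?_ hx hxJ
  rintro _ ⟨e, he, rfl⟩
  refine ⟨q, hg e he, fun _ a ha => ?_⟩
  rw [Nat.add_sub_cancel] at ha
  exact Submodule.mul_mem_mul_rev (hg e he) ha

end Graded

end Groth.Agent.Lib.Helper7
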