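import Groth.Agent.Lib.Helper7.GradedLib2

set_option autoImplicit false

namespace Groth.Agent.Lib.Helper7

open DirectSum

section Veronese

variable {R A : Type*} [CommRing R] [CommRing A] [Algebra R A] (𝒜 : ℕ → Submodule R A) [GradedAlgebra 𝒜]

/-- The degree `n` part as a submodule over the degree-zero subring. -/
def degSubmodule (n : ℕ) : Submodule (𝒜 0) A where
  carrier := 𝒜 n
  add_mem' := add_mem
  zero_mem' := zero_mem _
  smul_mem' c x hx := by
    rw [Algebra.smul_def]
    have := SetLike.mul_mem_graded c.2 hx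
    rwa [zero_add] at this

theorem mem_degSubmodule {n : ℕ} {x : A} : x ∈ degSubmodule 𝒜 n ↔ x ∈ 𝒜 n := Iff.rfl

theorem degSubmodule_fg [Algebra.FiniteType (𝒜 0) A] (n : ℕ) : (degSubmodule 𝒜 n).FG := by
  classical
  obtain ⟨s, deg, hs, hspan⟩ := exists_finset_irrelevant_eq_span 𝒜
  induction n using Nat.strong_induction_on with
  | _ n ih =>
    rcases Nat.eq_zero_or_pos n with rfl | hn
    · refine ⟨{1}, le_antisymm ?_ ?_⟩
      · rw [Submodule.span_le]
        intro x hx
        rw [Finset.coe_singleton, Set.mem_singleton_iff] at hx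
        subst hx
        exact (SetLike.GradedOne.one_mem : (1 : A) ∈ 𝒜 0)
      · intro x hx
        have : x = (⟨x, hx⟩ : 𝒜 0) • (1 : A) := by rw [Algebra.smul_def]; simp
        rw [this]
        exact Submodule.smul_mem _ _ (Submodule.subset_span (by simp))
    · let S : Submodule (𝒜 0) A := s.sup fun e =>
        if deg e ≤ n then (degSubmodule 𝒜 (n - deg e)).map (LinearMap.mulRight (𝒜 0) e) else ⊥
      have hS : degSubmodule 𝒜 n = S := by
        apply le_antisymm
        · intro x hx
          have hxE : x ∈ (HomogeneousIdeal.irrelevant 𝒜).toIdeal :=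
            HomogeneousIdeal.mem_irrelevant_of_mem 𝒜 hn hx
          rw [hspan] at hxE
          refine homog_span_induction 𝒜 (· ∈ S) (zero_mem _) (fun _ _ => add_mem) ?_ hx hxE
          intro e he
          refine ⟨deg e, (hs e he).2, fun hdm a ha => ?_⟩
          refine (Finset.le_sup (f := fun e => if deg e ≤ n then
            (degSubmodule 𝒜 (n - deg e)).map (LinearMap.mulRight (𝒜 0) e) else ⊥) he) ?_
          rw [if_pos hdm]
          exact ⟨a, ha, rfl⟩
        · refine Finset.sup_le fun e he => ?_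
          split_ifs with hdm
          · rintro _ ⟨a, ha, rfl⟩
            have := SetLike.mul_mem_graded (show a ∈ 𝒜 (n - deg e) from ha) (hs e he).2
            rw [Nat.sub_add_cancel hdm] at this
            exact this
          · exact bot_le
      rw [hS]
      refine Submodule.fg_finset_sup _ _ fun e he => ?_
      split_ifs with hdm
      · exact (ih (n - deg e) (by have := (hs e he).1; omega)).map _
      · exact Submodule.fg_bot

variable {B : Type*} [CommRing B] [Algebra R B] (ℬ : ℕ → Submodule R B) [GradedAlgebra ℬ]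
  (d : ℕ) (φ : B →ₐ[R] A)

section
variable {𝒜 ℬ d φ}

theorem veronese_map_mem (hdeg : ∀ n : ℕ, Submodule.map φ.toLinearMap (ℬ n) = 𝒜 (n * d))
    {n : ℕ} {x : B} (hx : x ∈ ℬ n) : φ x ∈ 𝒜 (n * d) := by
  rw [← hdeg n]; exact Submodule.mem_map_of_mem hx

theorem veronese_exists_preimage (hdeg : ∀ n : ℕ, Submodule.map φ.toLinearMap (ℬ n) = 𝒜 (n * d))
    {n : ℕ} {a : A} (ha : a ∈ 𝒜 (n * d)) : ∃ x ∈ ℬ n, φ x = a := by
  rw [← hdeg n] at ha; exact ha

theorem veronese_mem_of_map_mem (hφ : Function.Injective φ)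
    (hdeg : ∀ n : ℕ, Submodule.map φ.toLinearMap (ℬ n) = 𝒜 (n * d))
    {n : ℕ} {x : B} (hx : φ x ∈ 𝒜 (n * d)) : x ∈ ℬ n := by
  obtain ⟨y, hy, hxy⟩ := veronese_exists_preimage hdeg hx
  rwa [← hφ hxy]

end

theorem veronese_irrelevant_fg [Algebra.FiniteType (𝒜 0) A] (hd : 0 < d)
    (hφ : Function.Injective φ)
    (hdeg : ∀ n : ℕ, Submodule.map φ.toLinearMap (ℬ n) = 𝒜 (n * d)) :
    (HomogeneousIdeal.irrelevant ℬ).toIdeal.FG := by
  classical
  obtain ⟨q, hq, ⟨q', rfl⟩, N₀, hN₀⟩ := exists_mul_le 𝒜 d hd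
  have hq' : 0 < q' := Nat.pos_of_mul_pos_left hq |> fun h => by
    rcases Nat.eq_zero_or_pos q' with h0 | h0
    · subst h0; simp at hq
    · exact h0
  -- B-side product decomposition
  have hB : ∀ n : ℕ, N₀ ≤ n → ℬ (n + q') ≤ ℬ q' * ℬ n := by
    intro n hn x hx
    have h1 : φ x ∈ 𝒜 (n * d + d * q') := by
      have := veronese_map_mem hdeg hx
      rwa [show (n + q') * d = n * d + d * q' by ring] at this
    have h2 := hN₀ (n * d) (le_trans hn (Nat.le_mul_of_pos_right n hd)) h1
    rw [show d * q' = q' * d by ring, ← hdeg q', ← hdeg n, ← Submodule.map_mul] at h2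
    obtain ⟨y, hy, hxy⟩ := h2
    rwa [← hφ hxy]
  choose F hF using fun n => degSubmodule_fg 𝒜 (n * d)
  let G : Finset B := (Finset.Icc 1 (N₀ + q')).biUnion fun n => (F n).preimage φ hφ.injOn
  have hmemG : ∀ g, g ∈ G ↔ ∃ n, (1 ≤ n ∧ n ≤ N₀ + q') ∧ φ g ∈ F n := by
    intro g; simp [G]
  have hFmem : ∀ n, ∀ f ∈ F n, f ∈ 𝒜 (n * d) := by
    intro n f hf
    have : f ∈ Submodule.span (𝒜 0) (F n : Set A) := Submodule.subset_span hf
    rw [hF n] at this
    exact this
  refine ⟨G, le_antisymm ?_ ?_⟩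
  · rw [Ideal.span_le]
    intro g hg
    obtain ⟨n, ⟨hn1, -⟩, hgF⟩ := (hmemG g).mp hg
    exact HomogeneousIdeal.mem_irrelevant_of_mem ℬ hn1
      (veronese_mem_of_map_mem hφ hdeg (hFmem n _ hgF))
  · rw [HomogeneousIdeal.irrelevant_eq_span, Ideal.span_le]
    intro x hx
    simp only [Set.mem_iUnion, SetLike.mem_coe, exists_prop] at hx
    obtain ⟨n, hn, hx⟩ := hx
    induction n using Nat.strong_induction_on generalizing x with
    | _ n ih =>
      by_cases hle : n ≤ N₀ + q'
      · -- small degree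
        have h1 : φ x ∈ degSubmodule 𝒜 (n * d) := veronese_map_mem hdeg hx
        rw [← hF n] at h1
        have key : ∀ a ∈ Submodule.span (𝒜 0) (F n : Set A),
            ∃ y ∈ Ideal.span (G : Set B), φ y = a := by
          intro a ha
          induction ha using Submodule.span_induction with
          | mem f hf =>
            obtain ⟨g, hg, rfl⟩ := veronese_exists_preimage hdeg (hFmem n f hf)
            exact ⟨g, Ideal.subset_span ((hmemG g).mpr ⟨n, ⟨hn, hle⟩, hf⟩), rfl⟩
          | zero => exact ⟨0, zero_mem _, map_zero _⟩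
          | add a b _ _ ha hb =>
            obtain ⟨y, hy, rfl⟩ := ha
            obtain ⟨z, hz, rfl⟩ := hb
            exact ⟨y + z, add_mem hy hz, map_add _ _ _⟩
          | smul c a _ ha =>
            obtain ⟨y, hy, rfl⟩ := ha
            obtain ⟨b, hb, hbc⟩ := veronese_exists_preimage (n := 0) (a := (c : A)) hdeg
              (by rw [Nat.zero_mul]; exact c.2)
            refine ⟨b * y, Ideal.mul_mem_left _ _ hy, ?_⟩
            rw [map_mul, hbc, Algebra.smul_def]; rfl
        obtain ⟨y, hy, hxy⟩ := key _ h1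
        rw [← hφ hxy]; exact hy
      · -- large degree
        obtain ⟨n', rfl⟩ : ∃ n', n = n' + q' := ⟨n - q', by omega⟩
        have h2 := hB n' (by omega) hx
        refine Submodule.mul_induction_on h2 ?_ ?_
        · intro u _ v hv
          exact Ideal.mul_mem_left _ _ (ih n' (by omega) (by omega) hv)
        · intro u v hu hv
          exact add_mem hu hv

theorem veronese_finiteType [Algebra.FiniteType (𝒜 0) A] (hd : 0 < d)
    (hφ : Function.Injective φ)
    (hdeg : ∀ n : ℕ, Submodule.map φ.toLinearMap (ℬ n) = 𝒜 (n * d)) :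
    Algebra.FiniteType (ℬ 0) B :=
  (irrelevant_fg_iff_finiteType ℬ).mp (veronese_irrelevant_fg 𝒜 ℬ d φ hd hφ hdeg)

/-- The ring hom `ℬ 0 → 𝒜 0` induced by `φ`. -/
def veroneseZero (hdeg : ∀ n : ℕ, Submodule.map φ.toLinearMap (ℬ n) = 𝒜 (n * d)) :
    ℬ 0 →+* 𝒜 0 where
  toFun x := ⟨φ x, by have := veronese_map_mem hdeg x.2; simpa using this⟩
  map_one' := Subtype.ext (by simp)
  map_mul' x y := Subtype.ext (by simp)
  map_zero' := Subtype.ext (by simp)
  map_add' x y := Subtype.ext (by simp)

theorem veronese_isNoetherianRing [IsNoetherianRing A] (hd : 0 < d)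
    (hφ : Function.Injective φ)
    (hdeg : ∀ n : ℕ, Submodule.map φ.toLinearMap (ℬ n) = 𝒜 (n * d)) :
    IsNoetherianRing B := by
  obtain ⟨h0, hft⟩ := (isNoetherianRing_iff_degZero_and_finiteType 𝒜).mp ‹_›
  have hftB := veronese_finiteType 𝒜 ℬ d φ hd hφ hdeg
  have hbij : Function.Bijective (veroneseZero 𝒜 ℬ d φ hdeg) := by
    constructor
    · intro x y hxy
      have : φ x = φ y := congrArg Subtype.val hxy
      exact Subtype.ext (hφ this)
    · intro a
      obtain ⟨x, hx, hxa⟩ := veronese_exists_preimage (n := 0) (a := (a : A)) hdeg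
        (by rw [Nat.zero_mul]; exact a.2)
      exact ⟨⟨x, hx⟩, Subtype.ext hxa⟩
  have h0B : IsNoetherianRing (ℬ 0) :=
    isNoetherianRing_of_ringEquiv (𝒜 0) (RingEquiv.ofBijective _ hbij).symm
  exact (isNoetherianRing_iff_degZero_and_finiteType ℬ).mpr ⟨h0B, hftB⟩

end Veronese

end Groth.Agent.Lib.Helper7
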