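import Mathlib
import Groth.Agent.Lib.Helper7.AusBuch
import Groth.Agent.Lib.Helper7.PdRestrict
import Groth.Agent.Lib.Helper7.SyzFree
import Groth.Agent.Lib.Helper29.ProjDimBC
import Groth.Agent.Lib.Helper4.Davis

/-!
# Rank constancy for modules with finite free resolutions; ideals of finite projective dimension
contain nonzerodivisors (helper7)

* `RankConst M χ`: at every prime `P` at which `M_P` is free, its rank is `χ`.
* `Good M`: finite projective dimension + rank constancy (this is what a finite free resolution
  gives).  `Good.of_surjective`: if `g : F → M` is onto with `F` finite free and `ker g` good,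
  then `M` is good.  `good_of_local`: over a Noetherian local ring, finite modules of finite
  projective dimension are good.
* `not_le_of_mem_associatedPrimes`, `exists_nonZeroDivisor_mem`: a nonzero good ideal of a
  Noetherian ring is contained in no associated prime of the ring / contains a nonzerodivisor.
-/

set_option autoImplicit false
universe u

open CategoryTheory TensorProduct IsLocalRing

namespace Groth.Agent.Lib.Helper7.FFRRank

variable {R : Type u} [CommRing R]

variable (R) in
/-- rank constancy at the primes where the localization is free. -/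
def RankConst (M : Type u) [AddCommGroup M] [Module R M] (χ : ℤ) : Prop :=
  ∀ (P : Ideal R) [P.IsPrime],
    Module.Free (Localization.AtPrime P) (Localization.AtPrime P ⊗[R] M) →
    (Module.finrank (Localization.AtPrime P) (Localization.AtPrime P ⊗[R] M) : ℤ) = χ

omit [CommRing R] in
lemma nontrivial_of_isPrime {R : Type*} [CommRing R] (P : Ideal R) [hP : P.IsPrime] :
    Nontrivial R := by
  by_contra h
  rw [not_nontrivial_iff_subsingleton] at h
  exact hP.ne_top (Subsingleton.elim _ _)

lemma rankConst_of_free (M : Type u) [AddCommGroup M] [Module R M] [Module.Free R M]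
    [Module.Finite R M] : RankConst R M (Module.finrank R M) := by
  intro P _ _
  haveI := nontrivial_of_isPrime P
  rw [Module.finrank_baseChange]

lemma RankConst.of_surjective {F M : Type u} [AddCommGroup F] [Module R F] [AddCommGroup M]
    [Module R M] [Module.Free R F] [Module.Finite R F] (g : F →ₗ[R] M)
    (hg : Function.Surjective g) {χ : ℤ} (h : RankConst R ↥(LinearMap.ker g) χ) :
    RankConst R M (Module.finrank R F - χ) := by
  intro P _ hfree
  haveI := hfree
  haveI := nontrivial_of_isPrime P
  let f : ↥(LinearMap.ker g) →ₗ[R] F := (LinearMap.ker g).subtype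
  have hf : Function.Injective f := Submodule.injective_subtype _
  have hex : Function.Exact f g := LinearMap.exact_subtype_ker_map g
  let f' := f.baseChange (Localization.AtPrime P)
  let g' := g.baseChange (Localization.AtPrime P)
  have hf' : Function.Injective f' :=
    Module.Flat.lTensor_preserves_injective_linearMap (M := Localization.AtPrime P) f hf
  have hg' : Function.Surjective g' := LinearMap.lTensor_surjective (Localization.AtPrime P) hg
  have hex' : Function.Exact f' g' := lTensor_exact (Localization.AtPrime P) hex hg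
  obtain ⟨l, hl⟩ := Module.projective_lifting_property g' LinearMap.id hg'
  let e := (hex'.splitSurjectiveEquiv hf' ⟨l, hl⟩).1
  have hsurj : Function.Surjective ((LinearMap.fst (Localization.AtPrime P) _ _).comp
      e.toLinearMap) := by
    intro k
    exact ⟨e.symm (k, 0), by simp⟩
  haveI : Module.Finite (Localization.AtPrime P)
      (Localization.AtPrime P ⊗[R] ↥(LinearMap.ker g)) :=
    Module.Finite.of_surjective _ hsurj
  haveI : Module.Projective (Localization.AtPrime P)
      (Localization.AtPrime P ⊗[R] ↥(LinearMap.ker g)) :=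
    Module.Projective.of_split
      (e.symm.toLinearMap.comp (LinearMap.inl (Localization.AtPrime P) _ _))
      ((LinearMap.fst (Localization.AtPrime P) _ _).comp e.toLinearMap)
      (by ext x; simp)
  have hKfree : Module.Free (Localization.AtPrime P)
      (Localization.AtPrime P ⊗[R] ↥(LinearMap.ker g)) := Module.free_of_flat_of_isLocalRing
  haveI := hKfree
  have h1 := h P hKfree
  haveI : Module.Finite (Localization.AtPrime P) (Localization.AtPrime P ⊗[R] M) :=
    Module.Finite.of_surjective g' hg'
  have h2 : Module.finrank (Localization.AtPrime P) (Localization.AtPrime P ⊗[R] F) =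
      Module.finrank (Localization.AtPrime P) (Localization.AtPrime P ⊗[R] ↥(LinearMap.ker g)) +
      Module.finrank (Localization.AtPrime P) (Localization.AtPrime P ⊗[R] M) := by
    rw [e.finrank_eq, Module.finrank_prod]
  have h3 : Module.finrank (Localization.AtPrime P) (Localization.AtPrime P ⊗[R] F) =
      Module.finrank R F := Module.finrank_baseChange
  rw [← h1, ← h3, h2]
  push_cast
  ring

variable (R) in
/-- finite projective dimension together with rank constancy. -/
structure Good (M : Type u) [AddCommGroup M] [Module R M] : Prop where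
  pd : ∃ n : ℕ, HasProjectiveDimensionLT (ModuleCat.of R M) n
  rk : ∃ χ : ℤ, RankConst R M χ

lemma good_of_free (M : Type u) [AddCommGroup M] [Module R M] [Module.Free R M]
    [Module.Finite R M] : Good R M := by
  refine ⟨⟨1, ?_⟩, ⟨_, rankConst_of_free M⟩⟩
  haveI : Projective (ModuleCat.of R M) := (IsProjective.iff_projective (R := R) M).1 inferInstance
  exact projective_iff_hasProjectiveDimensionLT_one.mp inferInstance

lemma Good.of_surjective {F M : Type u} [AddCommGroup F] [Module R F] [AddCommGroup M]
    [Module R M] [Module.Free R F] [Module.Finite R F] (g : F →ₗ[R] M)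
    (hg : Function.Surjective g) (h : Good R ↥(LinearMap.ker g)) : Good R M := by
  obtain ⟨⟨n, hn⟩, ⟨χ, hχ⟩⟩ := h
  refine ⟨⟨n + 1, ?_⟩, ⟨_, hχ.of_surjective g hg⟩⟩
  let S : ShortComplex (ModuleCat.{u} R) :=
    ModuleCat.shortComplexOfCompEqZero (LinearMap.ker g).subtype g
      (LinearMap.exact_subtype_ker_map g).linearMap_comp_eq_zero
  have hS : S.ShortExact := ModuleCat.shortComplex_shortExact S
    (LinearMap.exact_subtype_ker_map g) (LinearMap.ker g).injective_subtype hg
  haveI : Projective (ModuleCat.of R F) := (IsProjective.iff_projective (R := R) F).1 inferInstance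
  have hF : HasProjectiveDimensionLT S.X₂ (n + 1) :=
    hasProjectiveDimensionLT_of_ge (ModuleCat.of R F) 1 (n + 1) (by omega)
  exact hS.hasProjectiveDimensionLT_X₃ n hn hF

/-- Over a Noetherian local ring every finite module of finite projective dimension is good. -/
theorem good_of_local [IsNoetherianRing R] [IsLocalRing R] :
    ∀ (n : ℕ) (M : Type u) [AddCommGroup M] [Module R M] [Module.Finite R M],
      HasProjectiveDimensionLT (ModuleCat.of R M) n → Good R M := by
  intro n
  induction n with
  | zero =>
    intro M _ _ _ h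
    have hz : Limits.IsZero (ModuleCat.of R M) := isZero_of_hasProjectiveDimensionLT_zero _
    haveI : Subsingleton M := ModuleCat.isZero_of_iff_subsingleton.1 hz
    exact good_of_free M
  | succ n ih =>
    intro M _ _ _ h
    cases n with
    | zero =>
      haveI : Module.Free R M := SyzFree.free_of_hasProjectiveDimensionLT_one R M h
      exact good_of_free M
    | succ n =>
      obtain ⟨b, p, hp, -⟩ := AusBuch.exists_minimal_presentation R M
      let S : ShortComplex (ModuleCat.{u} R) :=
        ModuleCat.shortComplexOfCompEqZero (LinearMap.ker p).subtype p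
          (LinearMap.exact_subtype_ker_map p).linearMap_comp_eq_zero
      have hS : S.ShortExact := ModuleCat.shortComplex_shortExact S
        (LinearMap.exact_subtype_ker_map p) (LinearMap.ker p).injective_subtype hp
      haveI : Projective (ModuleCat.of R (Fin b → R)) :=
        (IsProjective.iff_projective (R := R) (Fin b → R)).1 inferInstance
      have hF : HasProjectiveDimensionLT S.X₂ (n + 1) :=
        hasProjectiveDimensionLT_of_ge (ModuleCat.of R (Fin b → R)) 1 (n + 1) (by omega)
      have hK : HasProjectiveDimensionLT (ModuleCat.of R ↥(LinearMap.ker p)) (n + 1) :=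
        hS.hasProjectiveDimensionLT_X₁ (n + 1) hF h
      exact Good.of_surjective p hp (ih ↥(LinearMap.ker p) hK)

section Noeth

variable [IsNoetherianRing R]

/-- At an associated prime `Q` of `R` (so `depth R_Q = 0`), a finite module of finite projective
dimension is free (Auslander–Buchsbaum). -/
theorem free_localization_of_mem_associatedPrimes (Q : Ideal R) [Q.IsPrime]
    (hQ : Q ∈ associatedPrimes R R) (M : Type u) [AddCommGroup M] [Module R M] [Module.Finite R M]
    (n : ℕ) (hpd : HasProjectiveDimensionLT (ModuleCat.of R M) n) :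
    Module.Free (Localization.AtPrime Q) (Localization.AtPrime Q ⊗[R] M) := by
  have hpd1 : HasProjectiveDimensionLT (ModuleCat.of R M) (n + 1) :=
    hasProjectiveDimensionLT_of_ge _ n (n + 1) (by omega)
  have hpdQ : HasProjectiveDimensionLT (ModuleCat.of (Localization.AtPrime Q)
      (Localization.AtPrime Q ⊗[R] M)) (n + 1) :=
    Groth.Agent.Lib.Helper29.ProjDimBC.hasProjectiveDimensionLT_baseChange n M hpd1
  by_cases hnt : Nontrivial (Localization.AtPrime Q ⊗[R] M)
  · have hne : ¬ Limits.IsZero (ModuleCat.of (Localization.AtPrime Q)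
        (Localization.AtPrime Q ⊗[R] M)) := by
      rw [ModuleCat.isZero_of_iff_subsingleton]
      exact not_subsingleton _
    have hfin : projectiveDimension (ModuleCat.of (Localization.AtPrime Q)
        (Localization.AtPrime Q ⊗[R] M)) ≠ ⊤ :=
      (projectiveDimension_ne_top_iff _).2 ⟨n, hpdQ⟩
    obtain ⟨a, -, ha1, ha2⟩ := PdRestrict.exists_nat_pd _ hne hfin
    have hAB := AusBuch.depth_eq_add (Localization.AtPrime Q) a
      (Localization.AtPrime Q ⊗[R] M) ha1 ha2
    have hmem : maximalIdeal (Localization.AtPrime Q) ∈
        associatedPrimes (Localization.AtPrime Q) (Localization.AtPrime Q) := by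
      apply Module.associatedPrimes.mem_associatedPrimes_of_comap_mem_associatedPrimes_of_isLocalizedModule
        Q.primeCompl (Algebra.linearMap R (Localization.AtPrime Q))
      have : (maximalIdeal (Localization.AtPrime Q)).comap
          (algebraMap R (Localization.AtPrime Q)) = Q := Localization.AtPrime.under_maximalIdeal
      rw [this]
      exact hQ
    have hd0 : LocCoh.depth (Localization.AtPrime Q) (Localization.AtPrime Q) = 0 :=
      Groth.Agent.Lib.Helper4.depth_eq_zero_iff_maximalIdeal_mem_associatedPrimes.2 hmem
    rw [hd0] at hAB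
    have ha0 : a = 0 := by
      have h1 : (a : ℕ∞) ≤ 0 := by rw [hAB]; exact le_self_add
      have h2 : a ≤ 0 := by exact_mod_cast h1
      omega
    subst ha0
    exact SyzFree.free_of_hasProjectiveDimensionLT_one _ _ ha1
  · rw [not_nontrivial_iff_subsingleton] at hnt
    haveI := hnt
    exact Module.Free.of_subsingleton _ _

omit [IsNoetherianRing R] in
lemma subsingleton_of_free_of_smul_eq_zero {S : Type*} [CommRing S] {N : Type*}
    [AddCommGroup N] [Module S N] [Module.Free S N] (c : S) (hc : c ≠ 0)
    (h : ∀ t : N, c • t = 0) : Subsingleton N := by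
  classical
  by_contra hN
  rw [not_subsingleton_iff_nontrivial] at hN
  haveI := hN
  let b := Module.Free.chooseBasis S N
  obtain ⟨i⟩ := b.index_nonempty
  apply hc
  have h1 := congrArg (fun t => b.repr t i) (h (b i))
  simp only [map_smul, Module.Basis.repr_self, Finsupp.smul_apply, Finsupp.single_eq_same,
    smul_eq_mul, mul_one, map_zero, Finsupp.coe_zero, Pi.zero_apply] at h1
  exact h1

omit [IsNoetherianRing R] in
/-- If `I ≤ Q = ann z` then `I_Q` is killed by the nonzero element `z/1`; so if free it is zero. -/
lemma subsingleton_localization_of_le (I Q : Ideal R) [Q.IsPrime] (z : R)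
    (hz : Q = (⊥ : Submodule R R).colon {z}) (hIQ : I ≤ Q)
    (hfree : Module.Free (Localization.AtPrime Q) (Localization.AtPrime Q ⊗[R] ↥I)) :
    Subsingleton (Localization.AtPrime Q ⊗[R] ↥I) := by
  haveI := hfree
  apply subsingleton_of_free_of_smul_eq_zero (algebraMap R (Localization.AtPrime Q) z)
  · intro h0
    obtain ⟨s, hs⟩ := (IsLocalization.map_eq_zero_iff Q.primeCompl (Localization.AtPrime Q) z).1 h0
    apply s.2
    have h2 : (s : R) ∈ (⊥ : Submodule R R).colon {z} := by
      rw [Submodule.mem_colon_singleton]
      exact (Submodule.mem_bot R).2 hs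
    exact (SetLike.ext_iff.1 hz (s : R)).2 h2
  · intro t
    induction t using TensorProduct.induction_on with
    | zero => exact smul_zero _
    | tmul r x =>
      rw [algebraMap_smul, ← TensorProduct.tmul_smul]
      have hx0 : z • x = 0 := by
        apply Subtype.ext
        have h1 : (x : R) ∈ (⊥ : Submodule R R).colon {z} :=
          (SetLike.ext_iff.1 hz (x : R)).1 (hIQ x.2)
        rw [Submodule.mem_colon_singleton] at h1
        have h2 : (x : R) * z = 0 := (Submodule.mem_bot R).1 h1
        show z * (x : R) = 0
        rw [mul_comm]; exact h2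
      rw [hx0, TensorProduct.tmul_zero]
    | add a b ha hb => rw [smul_add, ha, hb, add_zero]

omit [IsNoetherianRing R] in
lemma mem_nonZeroDivisors_of_isSMulRegular {x : R} (h : IsSMulRegular R x) :
    x ∈ nonZeroDivisors R := by
  have key : ∀ y, x * y = 0 → y = 0 := fun y hy =>
    h (show x • y = x • (0 : R) by rw [smul_eq_mul, hy, smul_zero])
  exact mem_nonZeroDivisors_iff.2 ⟨key, fun y hy => key y (by rwa [mul_comm])⟩

/-- A nonzero ideal of finite projective dimension with rank constancy is contained in no
associated prime of the ring. -/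
theorem not_le_of_mem_associatedPrimes (I : Ideal R) (hI : I ≠ ⊥) (hg : Good R ↥I)
    (Q : Ideal R) (hQ : Q ∈ associatedPrimes R R) : ¬ I ≤ Q := by
  intro hIQ
  obtain ⟨⟨n, hpd⟩, ⟨χ, hχ⟩⟩ := hg
  have hQ' := hQ
  rw [associatedPrimes, Set.mem_setOf_eq, isAssociatedPrime_iff] at hQ'
  obtain ⟨hQp, z, hz⟩ := hQ'
  haveI := hQp
  have hfreeQ := free_localization_of_mem_associatedPrimes Q hQ ↥I n hpd
  have hsub := subsingleton_localization_of_le I Q z hz hIQ hfreeQ
  have hχ0 : χ = 0 := by
    rw [← hχ Q hfreeQ]
    haveI := hfreeQ
    haveI := hsub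
    rw [Module.finrank_eq_zero_of_subsingleton]
    rfl
  apply hI
  rw [eq_bot_iff]
  intro x hx
  by_contra hx0
  have hx0' : x ≠ 0 := fun h => hx0 ((Submodule.mem_bot R).2 h)
  obtain ⟨Q', hQ', hle⟩ := exists_le_isAssociatedPrime_of_isNoetherianRing R x hx0'
  haveI := hQ'.isPrime
  have hfree' := free_localization_of_mem_associatedPrimes Q' hQ' ↥I n hpd
  haveI := hfree'
  have hrk := hχ Q' hfree'
  rw [hχ0] at hrk
  have hrk' : Module.finrank (Localization.AtPrime Q') (Localization.AtPrime Q' ⊗[R] ↥I) = 0 := by
    exact_mod_cast hrk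
  haveI : Subsingleton (Localization.AtPrime Q' ⊗[R] ↥I) :=
    (Module.finrank_eq_zero_iff_of_free _ _).1 hrk'
  have h0 : (1 : Localization.AtPrime Q') ⊗ₜ[R] (⟨x, hx⟩ : ↥I) = 0 := Subsingleton.elim _ _
  let φ : Localization.AtPrime Q' ⊗[R] ↥I →ₗ[R] Localization.AtPrime Q' :=
    (TensorProduct.rid R (Localization.AtPrime Q')).toLinearMap ∘ₗ
      (I.subtype.lTensor (Localization.AtPrime Q'))
  have h1 : φ ((1 : Localization.AtPrime Q') ⊗ₜ[R] (⟨x, hx⟩ : ↥I)) =
      algebraMap R (Localization.AtPrime Q') x := by
    simp only [φ, LinearMap.coe_comp, LinearEquiv.coe_coe, Function.comp_apply,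
      LinearMap.lTensor_tmul, Submodule.subtype_apply, TensorProduct.rid_tmul]
    rw [Algebra.smul_def, mul_one]
  rw [h0, map_zero] at h1
  obtain ⟨s, hs⟩ := (IsLocalization.map_eq_zero_iff Q'.primeCompl (Localization.AtPrime Q') x).1
    h1.symm
  apply s.2
  apply hle
  rw [Submodule.mem_colon_singleton]
  exact (Submodule.mem_bot R).2 hs

theorem exists_nonZeroDivisor_mem (I : Ideal R) (hI : I ≠ ⊥) (hg : Good R ↥I) :
    ∃ x ∈ I, x ∈ nonZeroDivisors R := by
  haveI : Nontrivial R := by
    by_contra hne
    rw [not_nontrivial_iff_subsingleton] at hne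
    exact hI (Subsingleton.elim _ _)
  by_contra hcon
  have h1 : ∀ x ∈ I, ¬ IsSMulRegular R x := fun x hx hreg =>
    hcon ⟨x, hx, mem_nonZeroDivisors_of_isSMulRegular hreg⟩
  obtain ⟨Q, hQ, hIQ⟩ :=
    (Groth.Agent.Lib.Helper4.forall_not_isSMulRegular_iff_exists_le_associatedPrime I).1 h1
  exact not_le_of_mem_associatedPrimes I hI hg Q hQ hIQ

/-- Davis + the above: a coset `y + I^2` (`y ∈ I`) of a nonzero good ideal contains a
nonzerodivisor. -/
theorem exists_isSMulRegular_add_sq (I : Ideal R) (hI : I ≠ ⊥) (hg : Good R ↥I) (y : R) :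
    ∃ z ∈ I ^ 2, IsSMulRegular R (y + z) := by
  classical
  haveI : Nontrivial R := by
    by_contra hne
    rw [not_nontrivial_iff_subsingleton] at hne
    exact hI (Subsingleton.elim _ _)
  have hfin : (associatedPrimes R R).Finite := associatedPrimes.finite R R
  obtain ⟨z, hz, hzp⟩ := Groth.Agent.Lib.Helper4.exists_add_notMem_of_forall_not_le y (I ^ 2)
    hfin.toFinset (fun p hp => ((hfin.mem_toFinset).1 hp).isPrime)
    (fun p hp _ hle => by
      have hp' := (hfin.mem_toFinset).1 hp
      haveI := hp'.isPrime
      exact not_le_of_mem_associatedPrimes I hI hg p hp'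
        ((Ideal.IsPrime.pow_le_iff (by norm_num)).1 hle))
  refine ⟨z, hz, ?_⟩
  by_contra hreg
  have hmem : y + z ∈ ({r : R | IsSMulRegular R r})ᶜ := hreg
  rw [← biUnion_associatedPrimes_eq_compl_regular] at hmem
  simp only [Set.mem_iUnion] at hmem
  obtain ⟨p, hp, hyp⟩ := hmem
  exact hzp p ((hfin.mem_toFinset).2 hp) hyp

end Noeth

end Groth.Agent.Lib.Helper7.FFRRank
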