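import Mathlib
import Groth.Agent.Lib.Helper7.FFRRank
import Groth.Agent.Lib.Helper9.QuotRegPD

/-!
# Vasconcelos' theorem, local form (helper7)

`R` Noetherian local, `I` a proper ideal of finite projective dimension, `y_1 … y_r ∈ I` and
`R`-linear `ψ_1 … ψ_r : I → R/I` with `ψ_i(y_j) = δ_ij`.  Then there is a (weakly) regular
sequence `x_i ≡ y_i mod I²`  (`exists_regular_lift`).

Main steps: `hasProjectiveDimensionLT_quotient` (if `x ∈ I` is a nonzerodivisor and `ψ x = 1`,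
then `I/(x)` is a direct summand of `I/xI`, hence has finite projective dimension over `R/(x)`),
`exists_descend` (functionals killing `x` descend to `I/(x) → (R/x)/(I/x)`).
-/

set_option autoImplicit false
universe u

open CategoryTheory IsLocalRing RingTheory.Sequence
open scoped Pointwise

namespace Groth.Agent.Lib.Helper7.Vasc

open Groth.Agent.Lib.Helper7.FFRRank

section General

variable {R : Type u} [CommRing R]

lemma lift_surj {A B C : Type*} [AddCommGroup A] [Module R A] [AddCommGroup B] [Module R B]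
    [AddCommGroup C] [Module R C] (q : A →ₗ[R] B) (hq : Function.Surjective q) (f : A →ₗ[R] C)
    (h : ∀ a, q a = 0 → f a = 0) : ∃ g : B →ₗ[R] C, ∀ a, g (q a) = f a := by
  refine ⟨(Submodule.liftQ (LinearMap.ker q) f
    (fun a ha => LinearMap.mem_ker.2 (h a (LinearMap.mem_ker.1 ha)))) ∘ₗ
      (LinearMap.quotKerEquivOfSurjective q hq).symm.toLinearMap, fun a => ?_⟩
  rw [LinearMap.comp_apply, LinearEquiv.coe_coe, LinearMap.quotKerEquivOfSurjective_symm_apply,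
    Submodule.liftQ_apply]

lemma map_eq_zero_of_mem_sq (I : Ideal R) (ψ : ↥I →ₗ[R] R ⧸ I) (w : R) (hw : w ∈ I ^ 2)
    (hwI : w ∈ I) : ψ ⟨w, hwI⟩ = 0 := by
  have key : I ^ 2 ≤ Submodule.map I.subtype (LinearMap.ker ψ) := by
    rw [pow_two, Ideal.mul_le]
    intro a ha b hb
    refine ⟨⟨a * b, I.mul_mem_left a hb⟩, ?_, rfl⟩
    rw [SetLike.mem_coe, LinearMap.mem_ker]
    have h1 : (⟨a * b, I.mul_mem_left a hb⟩ : ↥I) = a • (⟨b, hb⟩ : ↥I) := rfl
    rw [h1, map_smul, Algebra.smul_def]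
    have h2 : algebraMap R (R ⧸ I) a = 0 := Ideal.Quotient.eq_zero_iff_mem.2 ha
    rw [h2, zero_mul]
  obtain ⟨v, hv, hvw⟩ := key hw
  have h3 : v = ⟨w, hwI⟩ := Subtype.ext hvw
  rw [← h3]
  exact LinearMap.mem_ker.1 hv

lemma map_quotient_ne_top (I J : Ideal R) (hJ : J ≤ I) (hI : I ≠ ⊤) :
    I.map (algebraMap R (R ⧸ J)) ≠ ⊤ := by
  intro h
  have h1 : (1 : R ⧸ J) ∈ I.map (algebraMap R (R ⧸ J)) := h ▸ Submodule.mem_top
  obtain ⟨a, ha, ha1⟩ := (Ideal.mem_map_iff_of_surjective (algebraMap R (R ⧸ J))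
    Ideal.Quotient.mk_surjective).1 h1
  have h2 : a - 1 ∈ J := Ideal.Quotient.eq.1 ha1
  apply hI
  rw [Ideal.eq_top_iff_one]
  have h3 := I.sub_mem ha (hJ h2)
  simpa using h3

lemma smul_top_eq_span (x : R) : x • (⊤ : Submodule R R) = Ideal.span {x} := by
  rw [← Submodule.ideal_span_singleton_smul, smul_eq_mul, Ideal.mul_top]

/-- the quotient ring `R/(x)`. -/
abbrev Rq (x : R) : Type u := R ⧸ Ideal.span {x}

/-- the image of `I` in `R/(x)`. -/
abbrev Iq (I : Ideal R) (x : R) : Ideal (Rq x) := I.map (algebraMap R (Rq x))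

/-- `xI` as a submodule of `I`. -/
abbrev Nq (I : Ideal R) (x : R) : Submodule R ↥I := Ideal.span {x} • ⊤

/-- the surjection `I → I/(x)`. -/
noncomputable def qmap (I : Ideal R) (x : R) : ↥I →ₗ[R] ↥(Iq I x) := Algebra.idealMap (Rq x) I

lemma qmap_surjective (I : Ideal R) (x : R) : Function.Surjective (qmap I x) := by
  rintro ⟨b, hb⟩
  obtain ⟨a, ha, rfl⟩ := (Ideal.mem_map_iff_of_surjective (algebraMap R (Rq x))
    Ideal.Quotient.mk_surjective).1 hb
  exact ⟨⟨a, ha⟩, Subtype.ext rfl⟩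

lemma qmap_eq_zero_iff (I : Ideal R) (x : R) (hxI : x ∈ I) (a : ↥I) :
    qmap I x a = 0 ↔ ∃ r : R, a = r • (⟨x, hxI⟩ : ↥I) := by
  constructor
  · intro h
    have h1 : algebraMap R (Rq x) (a : R) = 0 := congrArg Subtype.val h
    have h2 : (a : R) ∈ Ideal.span {x} := Ideal.Quotient.eq_zero_iff_mem.1 h1
    obtain ⟨r, hr⟩ := Ideal.mem_span_singleton'.1 h2
    exact ⟨r, Subtype.ext hr.symm⟩
  · rintro ⟨r, rfl⟩
    apply Subtype.ext
    show algebraMap R (Rq x) (r * x) = 0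
    exact Ideal.Quotient.eq_zero_iff_mem.2
      (Ideal.mul_mem_left _ r (Ideal.mem_span_singleton_self x))

/-- **Vasconcelos' lemma.** -/
theorem hasProjectiveDimensionLT_quotient [IsNoetherianRing R] (I : Ideal R) (x : R)
    (hxI : x ∈ I) (hreg : IsSMulRegular R x) (ψ : ↥I →ₗ[R] R ⧸ I) (hψ : ψ ⟨x, hxI⟩ = 1) (n : ℕ)
    (hpd : HasProjectiveDimensionLT (ModuleCat.of R ↥I) n) :
    HasProjectiveDimensionLT (ModuleCat.of (Rq x) ↥(Iq I x)) n := by
  have hregI : IsSMulRegular ↥I x := by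
    intro a b hab
    apply Subtype.ext
    apply hreg
    exact congrArg Subtype.val hab
  have hE : HasProjectiveDimensionLT (ModuleCat.of (Rq x) (↥I ⧸ Nq I x)) n :=
    Groth.Agent.Lib.Helper9.hasProjectiveDimensionLT_quot x hreg n ↥I hregI hpd
  haveI := Groth.Agent.Lib.Helper9.isScalarTower_quot_smul_top (Ideal.span {x}) ↥I
  have hxN : ∀ (r : R) (_ : r ∈ I), r • (⟨x, hxI⟩ : ↥I) ∈ Nq I x := by
    intro r hr
    rw [Groth.Agent.Lib.Helper9.mem_span_singleton_smul_top]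
    exact ⟨⟨r, hr⟩, Subtype.ext (mul_comm x r)⟩
  let μ : R ⧸ I →ₗ[R] (↥I ⧸ Nq I x) :=
    Submodule.liftQ I ((Nq I x).mkQ ∘ₗ LinearMap.toSpanSingleton R ↥I ⟨x, hxI⟩)
      (fun r hr => by
        rw [LinearMap.mem_ker, LinearMap.comp_apply, LinearMap.toSpanSingleton_apply]
        exact (Submodule.Quotient.mk_eq_zero (Nq I x)).2 (hxN r hr))
  have hμ : ∀ r : R, μ (Ideal.Quotient.mk I r) = (Nq I x).mkQ (r • (⟨x, hxI⟩ : ↥I)) :=
    fun r => rfl
  let π₁ : ↥I →ₗ[R] (↥I ⧸ Nq I x) := (Nq I x).mkQ - μ ∘ₗ ψ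
  have hq0 : qmap I x ⟨x, hxI⟩ = 0 :=
    (qmap_eq_zero_iff I x hxI _).2 ⟨1, (one_smul _ _).symm⟩
  have hπ₁ : ∀ a, qmap I x a = 0 → π₁ a = 0 := by
    intro a ha
    obtain ⟨r, rfl⟩ := (qmap_eq_zero_iff I x hxI a).1 ha
    show (Nq I x).mkQ (r • (⟨x, hxI⟩ : ↥I)) - μ (ψ (r • (⟨x, hxI⟩ : ↥I))) = 0
    rw [map_smul ψ, hψ]
    have h1 : r • (1 : R ⧸ I) = Ideal.Quotient.mk I r := by
      rw [Algebra.smul_def, mul_one]; rfl
    rw [h1, hμ, sub_self]
  obtain ⟨iR, hiR⟩ := lift_surj (qmap I x) (qmap_surjective I x) π₁ hπ₁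
  let pR : (↥I ⧸ Nq I x) →ₗ[R] ↥(Iq I x) := Submodule.liftQ (Nq I x) (qmap I x) (by
    intro m hm
    rw [Groth.Agent.Lib.Helper9.mem_span_singleton_smul_top] at hm
    obtain ⟨y, rfl⟩ := hm
    rw [LinearMap.mem_ker]
    exact (qmap_eq_zero_iff I x hxI _).2 ⟨(y : R), Subtype.ext (mul_comm x y)⟩)
  have hpR : ∀ a, pR ((Nq I x).mkQ a) = qmap I x a := fun a => rfl
  have hpμ : ∀ c, pR (μ c) = 0 := by
    intro c
    obtain ⟨r, rfl⟩ := Ideal.Quotient.mk_surjective c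
    rw [hμ, hpR, map_smul, hq0, smul_zero]
  have hcomp : ∀ b, pR (iR b) = b := by
    intro b
    obtain ⟨a, rfl⟩ := qmap_surjective I x b
    rw [hiR]
    show pR ((Nq I x).mkQ a - μ (ψ a)) = _
    rw [map_sub, hpR, hpμ, sub_zero]
  have hsurj : Function.Surjective (algebraMap R (Rq x)) := Ideal.Quotient.mk_surjective
  let i' : ↥(Iq I x) →ₗ[Rq x] (↥I ⧸ Nq I x) := iR.extendScalarsOfSurjective hsurj
  let p' : (↥I ⧸ Nq I x) →ₗ[Rq x] ↥(Iq I x) := pR.extendScalarsOfSurjective hsurj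
  have hret : Retract (ModuleCat.of (Rq x) ↥(Iq I x)) (ModuleCat.of (Rq x) (↥I ⧸ Nq I x)) :=
    { i := ModuleCat.ofHom i'
      r := ModuleCat.ofHom p'
      retract := by
        apply ModuleCat.hom_ext
        apply LinearMap.ext
        intro b
        exact hcomp b }
  haveI := hE
  exact hret.hasProjectiveDimensionLT n

/-- functionals on `I` killing `x` descend to `I/(x)`. -/
theorem exists_descend (I : Ideal R) (x : R) (hxI : x ∈ I) (φ : ↥I →ₗ[R] R ⧸ I)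
    (hφ : φ ⟨x, hxI⟩ = 0) :
    ∃ φ' : ↥(Iq I x) →ₗ[Rq x] (Rq x ⧸ Iq I x), ∀ (a : R) (ha : a ∈ I),
      (φ ⟨a, ha⟩ = 0 → φ' ⟨algebraMap R (Rq x) a, Ideal.mem_map_of_mem _ ha⟩ = 0) ∧
      (φ ⟨a, ha⟩ = 1 → φ' ⟨algebraMap R (Rq x) a, Ideal.mem_map_of_mem _ ha⟩ = 1) := by
  let ε : R ⧸ I →ₗ[R] (Rq x ⧸ Iq I x) :=
    Submodule.liftQ I (Algebra.linearMap R (Rq x ⧸ Iq I x))
      (fun r hr => by
        rw [LinearMap.mem_ker, Algebra.linearMap_apply,
          IsScalarTower.algebraMap_apply R (Rq x) (Rq x ⧸ Iq I x)]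
        exact Ideal.Quotient.eq_zero_iff_mem.2 (Ideal.mem_map_of_mem _ hr))
  have hε1 : ε 1 = 1 := by
    have h1 : (1 : R ⧸ I) = Submodule.Quotient.mk (1 : R) := rfl
    rw [h1, Submodule.liftQ_apply, Algebra.linearMap_apply, map_one]
  have hkill : ∀ a, qmap I x a = 0 → (ε ∘ₗ φ) a = 0 := by
    intro a ha
    obtain ⟨r, rfl⟩ := (qmap_eq_zero_iff I x hxI a).1 ha
    rw [LinearMap.comp_apply, map_smul, hφ, smul_zero, map_zero]
  obtain ⟨Φ, hΦ⟩ := lift_surj (qmap I x) (qmap_surjective I x) (ε ∘ₗ φ) hkill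
  have hsurj : Function.Surjective (algebraMap R (Rq x)) := Ideal.Quotient.mk_surjective
  refine ⟨Φ.extendScalarsOfSurjective hsurj, fun a ha => ⟨fun h => ?_, fun h => ?_⟩⟩
  · have h2 := hΦ ⟨a, ha⟩
    rw [LinearMap.comp_apply, h, map_zero] at h2
    exact h2
  · have h2 := hΦ ⟨a, ha⟩
    rw [LinearMap.comp_apply, h, hε1] at h2
    exact h2

end General

/-- **Vasconcelos, local form.** -/
theorem exists_regular_lift : ∀ (r : ℕ) (R : Type u) [CommRing R] [IsNoetherianRing R]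
    [IsLocalRing R] (I : Ideal R) (_ : I ≠ ⊤) (n : ℕ)
    (_ : HasProjectiveDimensionLT (ModuleCat.of R ↥I) n)
    (y : Fin r → R) (hy : ∀ i, y i ∈ I) (ψ : Fin r → (↥I →ₗ[R] R ⧸ I))
    (_ : ∀ i j, ψ i ⟨y j, hy j⟩ = if i = j then 1 else 0),
    ∃ x : Fin r → R, (∀ i, x i - y i ∈ I ^ 2) ∧ IsWeaklyRegular R (List.ofFn x) := by
  intro r
  induction r with
  | zero =>
    intro R _ _ _ I _ n _ y hy ψ _
    refine ⟨fun i => i.elim0, fun i => i.elim0, ?_⟩
    rw [List.ofFn_zero]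
    exact IsWeaklyRegular.nil R R
  | succ r ih =>
    intro R _ _ _ I hI n hpd y hy ψ hψ
    have hI0 : I ≠ ⊥ := by
      rintro rfl
      have h1 := hψ 0 0
      rw [if_pos rfl] at h1
      have h2 : (⟨y 0, hy 0⟩ : ↥(⊥ : Ideal R)) = 0 := Subsingleton.elim _ _
      rw [h2, map_zero] at h1
      haveI : Nontrivial (R ⧸ (⊥ : Ideal R)) := Ideal.Quotient.nontrivial_iff.2 hI
      exact zero_ne_one h1
    have hgood : Good R ↥I := good_of_local n ↥I hpd
    obtain ⟨z, hz, hreg⟩ := exists_isSMulRegular_add_sq I hI0 hgood (y 0)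
    have hzI : z ∈ I := Ideal.pow_le_self (by norm_num) hz
    have hx0I : y 0 + z ∈ I := I.add_mem (hy 0) hzI
    have hψx0 : ∀ i, ψ i ⟨y 0 + z, hx0I⟩ = if i = 0 then 1 else 0 := by
      intro i
      have h1 : (⟨y 0 + z, hx0I⟩ : ↥I) = ⟨y 0, hy 0⟩ + ⟨z, hzI⟩ := rfl
      rw [h1, map_add, hψ i 0, map_eq_zero_of_mem_sq I (ψ i) z hz hzI, add_zero]
    have hspan : Ideal.span {y 0 + z} ≤ I := (Ideal.span_singleton_le_iff_mem _).2 hx0I
    have hI' : Iq I (y 0 + z) ≠ ⊤ := map_quotient_ne_top I _ hspan hI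
    haveI : Nontrivial (Rq (y 0 + z)) :=
      Ideal.Quotient.nontrivial_iff.2 (fun h => hI (top_le_iff.1 (h ▸ hspan)))
    haveI : IsLocalRing (Rq (y 0 + z)) :=
      IsLocalRing.of_surjective' (Ideal.Quotient.mk _) Ideal.Quotient.mk_surjective
    have hpd' : HasProjectiveDimensionLT (ModuleCat.of (Rq (y 0 + z)) ↥(Iq I (y 0 + z))) n :=
      hasProjectiveDimensionLT_quotient I (y 0 + z) hx0I hreg (ψ 0)
        (by rw [hψx0 0, if_pos rfl]) n hpd
    have hdesc : ∀ j : Fin r, ∃ φ' : ↥(Iq I (y 0 + z)) →ₗ[Rq (y 0 + z)]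
        (Rq (y 0 + z) ⧸ Iq I (y 0 + z)), ∀ (a : R) (ha : a ∈ I),
        (ψ j.succ ⟨a, ha⟩ = 0 →
          φ' ⟨algebraMap R (Rq (y 0 + z)) a, Ideal.mem_map_of_mem _ ha⟩ = 0) ∧
        (ψ j.succ ⟨a, ha⟩ = 1 →
          φ' ⟨algebraMap R (Rq (y 0 + z)) a, Ideal.mem_map_of_mem _ ha⟩ = 1) :=
      fun j => exists_descend I (y 0 + z) hx0I (ψ j.succ)
        (by rw [hψx0 j.succ, if_neg (Fin.succ_ne_zero j)])
    choose ψ' hψ' using hdesc
    obtain ⟨x', hx'1, hx'2⟩ := ih (Rq (y 0 + z)) (Iq I (y 0 + z)) hI' n hpd'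
      (fun j => algebraMap R (Rq (y 0 + z)) (y j.succ))
      (fun j => Ideal.mem_map_of_mem _ (hy j.succ)) ψ' (by
        intro i j
        by_cases hij : i = j
        · rw [if_pos hij]
          exact (hψ' i _ (hy j.succ)).2 (by rw [hψ i.succ j.succ, if_pos (by rw [hij])])
        · rw [if_neg hij]
          exact (hψ' i _ (hy j.succ)).1
            (by rw [hψ i.succ j.succ, if_neg (fun h => hij (Fin.succ_injective _ h))]))
    have hlift : ∀ j : Fin r, ∃ w ∈ I ^ 2,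
        algebraMap R (Rq (y 0 + z)) (y j.succ + w) = x' j := by
      intro j
      have h1 := hx'1 j
      have h2 : Iq I (y 0 + z) ^ 2 = (I ^ 2).map (algebraMap R (Rq (y 0 + z))) :=
        (Ideal.map_pow _ _ _).symm
      rw [h2] at h1
      obtain ⟨w, hw, hw'⟩ := (Ideal.mem_map_iff_of_surjective
        (algebraMap R (Rq (y 0 + z))) Ideal.Quotient.mk_surjective).1 h1
      exact ⟨w, hw, by rw [map_add, hw']; ring⟩
    choose w hw hw' using hlift
    refine ⟨Fin.cons (y 0 + z) (fun j => y j.succ + w j), ?_, ?_⟩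
    · intro i
      refine Fin.cases ?_ (fun j => ?_) i
      · rw [Fin.cons_zero]
        simpa using hz
      · rw [Fin.cons_succ]
        simpa using hw j
    · rw [List.ofFn_succ]
      simp only [Fin.cons_zero, Fin.cons_succ]
      rw [isWeaklyRegular_cons_iff]
      refine ⟨hreg, ?_⟩
      have h3 : IsWeaklyRegular (Rq (y 0 + z))
          ((List.ofFn fun j => y j.succ + w j).map (algebraMap R (Rq (y 0 + z)))) := by
        rw [List.map_ofFn]
        have h4 : (algebraMap R (Rq (y 0 + z))) ∘ (fun j => y j.succ + w j) = x' := funext hw'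
        rw [h4]
        exact hx'2
      rw [isWeaklyRegular_map_algebraMap_iff] at h3
      exact (LinearEquiv.isWeaklyRegular_congr
        (Submodule.quotEquivOfEq _ _ (smul_top_eq_span (y 0 + z))) _).2 h3

/-- a weakly regular sequence inside a proper ideal is regular. -/
theorem isRegular_of_mem {R : Type u} [CommRing R] (I : Ideal R) (hI : I ≠ ⊤) (rs : List R)
    (hrs : ∀ a ∈ rs, a ∈ I) (h : IsWeaklyRegular R rs) : IsRegular R rs := by
  refine ⟨h, fun htop => hI ?_⟩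
  rw [eq_top_iff]
  have h1 : (Ideal.ofList rs • ⊤ : Submodule R R) ≤ I := by
    rw [smul_eq_mul, Ideal.mul_top, Ideal.ofList, Ideal.span_le]
    intro a ha
    exact hrs a ha
  exact htop ▸ h1

end Groth.Agent.Lib.Helper7.Vasc
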