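import Mathlib
import Groth.Agent.Lib.Helper7.Vasc

/-!
# Vasconcelos' theorem: localisation lemmas (helper7)

* `projective_cotangent_map`: projectivity of the conormal module `I/I²` over `R/I` passes to a
  localisation `S = M⁻¹R` (for `J = IS`).
* `exists_regular_generators_local`: over a Noetherian local ring, a proper ideal of finite
  projective dimension with projective conormal module is generated by a regular sequence.
-/

set_option autoImplicit false
universe u

open CategoryTheory IsLocalRing RingTheory.Sequence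

namespace Groth.Agent.Lib.Helper7.VascLoc

open Groth.Agent.Lib.Helper7.Vasc

theorem projective_cotangent_map {R : Type u} [CommRing R] (I : Ideal R)
    [Module.Finite (R ⧸ I) I.Cotangent] [Module.Projective (R ⧸ I) I.Cotangent]
    (M : Submonoid R) (S : Type u) [CommRing S] [Algebra R S] [IsLocalization M S] :
    Module.Projective (S ⧸ I.map (algebraMap R S)) (I.map (algebraMap R S)).Cotangent := by
  classical
  obtain ⟨k, f, g, -, -, hfg⟩ :=
    Module.Finite.exists_comp_eq_id_of_projective (R ⧸ I) I.Cotangent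
  have hbc : IsBaseChange S (Algebra.idealMap S I) := IsLocalizedModule.isBaseChange M S _
  let θ : I.Cotangent →ₗ[R] (I.map (algebraMap R S)).Cotangent :=
    Ideal.mapCotangent I (I.map (algebraMap R S)) (Algebra.ofId R S) Ideal.le_comap_map
  have hθ : ∀ a : ↥I, θ (I.toCotangent a) =
      (I.map (algebraMap R S)).toCotangent (Algebra.idealMap S I a) := fun a => rfl
  let εlin : R ⧸ I →ₗ[R] S ⧸ I.map (algebraMap R S) :=
    Submodule.liftQ I (Algebra.linearMap R (S ⧸ I.map (algebraMap R S))) (fun r hr => by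
      rw [LinearMap.mem_ker, Algebra.linearMap_apply,
        IsScalarTower.algebraMap_apply R S (S ⧸ I.map (algebraMap R S))]
      exact Ideal.Quotient.eq_zero_iff_mem.2 (Ideal.mem_map_of_mem _ hr))
  have hεmk : ∀ r : R, εlin (Ideal.Quotient.mk I r) =
      algebraMap R (S ⧸ I.map (algebraMap R S)) r := fun r => rfl
  have hθsmul : ∀ (c : R ⧸ I) (m : I.Cotangent), θ (c • m) = εlin c • θ m := by
    intro c m
    obtain ⟨r, rfl⟩ := Ideal.Quotient.mk_surjective c
    have h1 : (Ideal.Quotient.mk I r) • m = r • m := algebraMap_smul (R ⧸ I) r m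
    rw [h1, map_smul, hεmk, IsScalarTower.algebraMap_apply R S (S ⧸ I.map (algebraMap R S)),
      algebraMap_smul (S ⧸ I.map (algebraMap R S)), algebraMap_smul S]
  let G : Fin k → (↥I →ₗ[R] S ⧸ I.map (algebraMap R S)) := fun l =>
    εlin ∘ₗ (((LinearMap.proj l : (Fin k → R ⧸ I) →ₗ[R ⧸ I] R ⧸ I) ∘ₗ g).restrictScalars R) ∘ₗ
      I.toCotangent
  have hG : ∀ l (a : ↥I), G l a = εlin (g (I.toCotangent a) l) := fun l a => rfl
  let γ : ↥(I.map (algebraMap R S)) →ₗ[S] (Fin k → S ⧸ I.map (algebraMap R S)) :=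
    LinearMap.pi (fun l => hbc.lift (G l))
  have hγ : ∀ (a : ↥I) (l : Fin k), γ (Algebra.idealMap S I a) l = εlin (g (I.toCotangent a) l) :=
    fun a l => by
      show hbc.lift (G l) (Algebra.idealMap S I a) = _
      rw [hbc.lift_eq, hG]
  have hγmul : ∀ b b' : ↥(I.map (algebraMap R S)), γ (b * b') = 0 := by
    intro b b'
    have h1 : b * b' = (b : S) • b' := rfl
    rw [h1, map_smul]
    funext l
    rw [Pi.smul_apply, Pi.zero_apply, Algebra.smul_def]
    have h2 : algebraMap S (S ⧸ I.map (algebraMap R S)) (b : S) = 0 :=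
      Ideal.Quotient.eq_zero_iff_mem.2 b.2
    rw [h2, zero_mul]
  let iS : (I.map (algebraMap R S)).Cotangent →ₗ[S ⧸ I.map (algebraMap R S)]
      (Fin k → S ⧸ I.map (algebraMap R S)) :=
    (Ideal.Cotangent.lift γ hγmul).extendScalarsOfSurjective Ideal.Quotient.mk_surjective
  have hiS : ∀ b, iS ((I.map (algebraMap R S)).toCotangent b) = γ b := fun b => rfl
  let v : Fin k → (I.map (algebraMap R S)).Cotangent := fun l => θ (f (Pi.single l 1))
  let sS : (Fin k → S ⧸ I.map (algebraMap R S)) →ₗ[S ⧸ I.map (algebraMap R S)]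
      (I.map (algebraMap R S)).Cotangent := Fintype.linearCombination _ v
  have hmain : (sS.restrictScalars S) ∘ₗ γ = (I.map (algebraMap R S)).toCotangent := by
    apply hbc.algHom_ext
    intro a
    rw [LinearMap.comp_apply, LinearMap.restrictScalars_apply]
    show Fintype.linearCombination _ v (γ (Algebra.idealMap S I a)) = _
    rw [Fintype.linearCombination_apply, ← hθ]
    have h1 : I.toCotangent a = f (g (I.toCotangent a)) := by
      have := LinearMap.congr_fun hfg (I.toCotangent a)
      exact this.symm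
    conv_rhs => rw [h1, pi_eq_sum_univ' (g (I.toCotangent a))]
    rw [map_sum, map_sum]
    refine Finset.sum_congr rfl fun l _ => ?_
    rw [hγ, map_smul, hθsmul]
  refine Module.Projective.of_split iS sS ?_
  apply LinearMap.ext
  intro c
  obtain ⟨b, rfl⟩ := (I.map (algebraMap R S)).toCotangent_surjective c
  rw [LinearMap.comp_apply, hiS]
  exact LinearMap.congr_fun hmain b

/-- Over a Noetherian local ring, a proper ideal of finite projective dimension whose conormal
module is projective is generated by a (weakly) regular sequence. -/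
theorem exists_regular_generators_local {S : Type u} [CommRing S] [IsNoetherianRing S]
    [IsLocalRing S] (J : Ideal S) (hJ : J ≠ ⊤) (n : ℕ)
    (hpd : HasProjectiveDimensionLT (ModuleCat.of S ↥J) n)
    [Module.Projective (S ⧸ J) J.Cotangent] :
    ∃ (r : ℕ) (x : Fin r → S), IsWeaklyRegular S (List.ofFn x) ∧
      Ideal.span (Set.range x) = J := by
  classical
  haveI : Nontrivial (S ⧸ J) := Ideal.Quotient.nontrivial_iff.2 hJ
  haveI : IsLocalRing (S ⧸ J) :=
    IsLocalRing.of_surjective' (Ideal.Quotient.mk J) Ideal.Quotient.mk_surjective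
  haveI : Module.Finite S J.Cotangent :=
    Module.Finite.of_surjective J.toCotangent J.toCotangent_surjective
  haveI : Module.Finite (S ⧸ J) J.Cotangent := Module.Finite.of_restrictScalars_finite S (S ⧸ J) _
  haveI : Module.Free (S ⧸ J) J.Cotangent := Module.free_of_flat_of_isLocalRing
  let b := Module.finBasis (S ⧸ J) J.Cotangent
  have hyex : ∀ j : Fin (Module.finrank (S ⧸ J) J.Cotangent), ∃ y : S, ∃ hy : y ∈ J,
      J.toCotangent ⟨y, hy⟩ = b j := by
    intro j
    obtain ⟨⟨y, hy⟩, h⟩ := Ideal.toCotangent_surjective J (b j)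
    exact ⟨y, hy, h⟩
  choose y hy hy' using hyex
  let ψ : Fin (Module.finrank (S ⧸ J) J.Cotangent) → (↥J →ₗ[S] S ⧸ J) := fun i =>
    ((b.coord i).restrictScalars S) ∘ₗ J.toCotangent
  have hψ : ∀ i j, ψ i ⟨y j, hy j⟩ = if i = j then 1 else 0 := by
    intro i j
    show b.coord i (J.toCotangent ⟨y j, hy j⟩) = _
    rw [hy' j, Module.Basis.coord_apply, Module.Basis.repr_self, Finsupp.single_apply]
    by_cases hij : i = j
    · rw [if_pos hij.symm, if_pos hij]
    · rw [if_neg (fun h => hij h.symm), if_neg hij]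
  obtain ⟨x, hx1, hx2⟩ := exists_regular_lift _ S J hJ n hpd y hy ψ hψ
  have hxJ : ∀ i, x i ∈ J := fun i => by
    have h1 := J.add_mem (Ideal.pow_le_self (by norm_num) (hx1 i)) (hy i)
    simpa using h1
  refine ⟨_, x, hx2, ?_⟩
  have hcl : ∀ i, J.toCotangent ⟨x i, hxJ i⟩ = b i := by
    intro i
    rw [← hy' i, Ideal.toCotangent_eq]
    exact hx1 i
  apply le_antisymm
  · rw [Ideal.span_le]
    rintro _ ⟨i, rfl⟩
    exact hxJ i
  · apply Submodule.le_of_le_smul_of_le_jacobson_bot (I := J) (IsNoetherian.noetherian J)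
    · rw [IsLocalRing.jacobson_eq_maximalIdeal ⊥ bot_ne_top]
      exact IsLocalRing.le_maximalIdeal hJ
    · intro c hc
      have hs : ∀ i, ∃ s : S, Ideal.Quotient.mk J s = b.repr (J.toCotangent ⟨c, hc⟩) i :=
        fun i => Ideal.Quotient.mk_surjective _
      choose s hs' using hs
      have h1 : J.toCotangent ⟨c, hc⟩ =
          J.toCotangent (∑ i, s i • (⟨x i, hxJ i⟩ : ↥J)) := by
        rw [map_sum]
        conv_lhs => rw [← b.sum_repr (J.toCotangent ⟨c, hc⟩)]
        refine Finset.sum_congr rfl fun i _ => ?_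
        rw [map_smul, hcl i, ← hs' i]
        exact algebraMap_smul (S ⧸ J) (s i) (b i)
      rw [Ideal.toCotangent_eq] at h1
      have h2 : ((∑ i, s i • (⟨x i, hxJ i⟩ : ↥J) : ↥J) : S) ∈ Ideal.span (Set.range x) := by
        rw [AddSubmonoidClass.coe_finsetSum]
        refine Ideal.sum_mem _ fun i _ => ?_
        exact Ideal.mul_mem_left _ _ (Ideal.subset_span ⟨i, rfl⟩)
      have h3 : c = ((∑ i, s i • (⟨x i, hxJ i⟩ : ↥J) : ↥J) : S) +
          (c - ((∑ i, s i • (⟨x i, hxJ i⟩ : ↥J) : ↥J) : S)) := by ring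
      rw [h3]
      refine Submodule.add_mem_sup h2 ?_
      rw [smul_eq_mul, ← pow_two]
      exact h1

end Groth.Agent.Lib.Helper7.VascLoc
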