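import Groth.Agent.Lib.Helper7.PnExtB
import Groth.Agent.Lib.Helper13.ExtAdj
import Groth.Agent.Lib.Helper13.ProjFormulaLF
import Groth.Agent.Lib.Helper13.StalkPd
import Groth.Agent.Lib.Helper5.ExtUnitHRing
import Groth.Agent.Lib.Helper2.Mon.PullTensor

/-!
# `Ext^p(F, B) ≃ₗ H^p(X, Hom(F, B))` for `F` finite locally free (helper7)

Assuming that the internal Hom `DCoh.sheafHom F` preserves finite colimits (true for `F` finite
locally free), the adjunction `F ⊗ - ⊣ Hom(F, -)` gives linear isomorphisms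
`Ext^p(F, B) ≃ₗ[A] H^p(X, Hom(F, B))`.  On `P^r_k` this gives Serre duality for finite locally free
modules in the form `H^i(F)^∨ ≃ₗ H^{r-i}(Hom(F, ω))`.
-/

set_option autoImplicit false
universe u
open CategoryTheory CategoryTheory.Limits AlgebraicGeometry TopologicalSpace Opposite
open Scheme.Modules

noncomputable section

namespace Groth.Agent.Lib.Helper7.SheafHomExt

open Groth.Agent.Lib.Helper3 Groth.Agent.Lib.Helper3.QCSec Groth.Agent.Lib.Helper3.InvGen
  Groth.Agent.Lib.Helper3.InvTensor Groth.Agent.Lib.Helper3.InvMonoidal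
  Groth.Agent.Lib.Helper7.TwFun Groth.Agent.Lib.Helper7.CohFinite Groth.Agent.Lib.Helper7.MulSurj
  Groth.Agent.Lib.Helper13 Groth.Agent.Lib.Helper13.SerreCrit1
  Groth.Agent.Lib.Helper13.DeltaFun Groth.Agent.Lib.Helper13.ExtAdj
  Groth.Agent.Lib.Helper13.ProjFormulaLF Groth.Agent.Lib.Helper2.Mon

section General

variable {X : Scheme.{u}} (A : Type u) [CommRing A] [X.Over (Spec (CommRingCat.of A))]
  (F : X.Modules)

/-- tensoring on the left commutes with scalar multiplication. -/
lemma TL_smulMod (N : X.Modules) (a : A) :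
    (DCoh.tensorBi.obj F).map (Formal.smulMod A N a) =
      Formal.smulMod A ((DCoh.tensorBi.obj F).obj N) a := by
  rw [tensorBi_obj_map]
  change tensorMap (𝟙 F) (Formal.smulMod A N a) = Formal.smulMod A (CohB1.tensorMod F N) a
  apply tensor_hom_ext
  intro U m n
  rw [tensorMap_tm, id_app']
  change tm F N U m ((Formal.smulModΓ N _).app U n) =
    (Formal.smulModΓ (CohB1.tensorMod F N) _).app U (tm F N U m n)
  rw [KLin.smulModΓ_app_apply, KLin.smulModΓ_app_apply, tm_smul_right]

variable [DCoh.HasSheafHom F]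

/-- the internal Hom commutes with scalar multiplication. -/
lemma sheafHom_smulMod (N : X.Modules) (a : A) :
    (DCoh.sheafHom F).map (Formal.smulMod A N a) =
      Formal.smulMod A ((DCoh.sheafHom F).obj N) a := by
  apply ((DCoh.sheafHomAdj F).homEquiv _ _).symm.injective
  have h1 : ((DCoh.sheafHomAdj F).homEquiv _ _).symm
      ((DCoh.sheafHom F).map (Formal.smulMod A N a)) =
      (DCoh.sheafHomAdj F).counit.app N ≫ Formal.smulMod A N a := by
    have := (DCoh.sheafHomAdj F).homEquiv_naturality_right_symm (𝟙 ((DCoh.sheafHom F).obj N))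
      (Formal.smulMod A N a)
    rw [Category.id_comp] at this
    rw [this, Adjunction.homEquiv_counit, CategoryTheory.Functor.map_id, Category.id_comp]
  have h2 : ((DCoh.sheafHomAdj F).homEquiv _ _).symm
      (Formal.smulMod A ((DCoh.sheafHom F).obj N) a) =
      (DCoh.sheafHomAdj F).counit.app N ≫ Formal.smulMod A N a := by
    rw [Adjunction.homEquiv_counit, TL_smulMod]
    exact (KLin.comp_smulModΓ _ _).symm
  rw [h1, h2]

lemma sheafHom_map_smul_id (N : X.Modules) (a : A) :
    (DCoh.sheafHom F).map (a • 𝟙 N) = a • 𝟙 ((DCoh.sheafHom F).obj N) := by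
  rw [KLin.smul_id, KLin.smul_id, sheafHom_smulMod]

end General

section Main

open Abelian

variable {X : Scheme.{u}} (A : Type u) [CommRing A] [X.Over (Spec (CommRingCat.of A))]
  (F : X.Modules) [DCoh.HasSheafHom F] [HasExt.{u} X.Modules]

/-- `Ext^p(F, B) ≃ₗ H^p(X, Hom(F, B))` for `F` finite locally free, assuming that the internal Hom
is right exact. -/
theorem nonempty_ext_linearEquiv (hF : FlatMod.IsFinLocFree F)
    [PreservesFiniteColimits (DCoh.sheafHom F)] (B : X.Modules) (p : ℕ) :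
    Nonempty (Ext F B p ≃ₗ[A] Coh.HH X ((DCoh.sheafHom F).obj B) p) := by
  haveI : EnoughInjectives X.Modules := ModGrothendieck.enoughInjectives X.ringCatSheaf
  haveI : (DCoh.sheafHom F).Additive := (DCoh.sheafHomAdj F).right_adjoint_additive
  haveI : PreservesFiniteLimits (DCoh.sheafHom F) := inferInstance
  haveI : PreservesFiniteLimits (TL F) := pfl_TL F hF
  have hR : ∀ I : X.Modules, Injective I → Injective ((DCoh.sheafHom F).obj I) := fun I hI =>
    Injective.injective_of_adjoint (DCoh.sheafHomAdj F) I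
  obtain ⟨e, he, -, hb⟩ := Groth.Agent.Lib.Helper5.ExtUnitHRing.exists_comparison X.ringCatSheaf
  let ρ : (DCoh.tensorBi.obj F).obj (Coh.structureModule X) ≅ F := SecTwist.unitorR F
  let φ2 : Ext ((DCoh.tensorBi.obj F).obj (Coh.structureModule X)) B p →+
      Ext (Coh.structureModule X) ((DCoh.sheafHom F).obj B) p :=
    extAdjMap (DCoh.sheafHomAdj F) (Coh.structureModule X) B p
  let φ3 : Ext (Coh.structureModule X) ((DCoh.sheafHom F).obj B) p →+
      Coh.HH X ((DCoh.sheafHom F).obj B) p := e ((DCoh.sheafHom F).obj B) p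
  let Φ : Ext F B p →+ Coh.HH X ((DCoh.sheafHom F).obj B) p :=
    φ3.comp (φ2.comp (extIsoLeft ρ B p).toAddMonoidHom)
  have hbij : Function.Bijective Φ :=
    (hb _ p).comp ((extAdjMap_bijective (DCoh.sheafHomAdj F) hR (Coh.structureModule X) p B).comp
      (extIsoLeft ρ B p).bijective)
  have hlin : ∀ (a : A) (x : Ext F B p), Φ (a • x) = a • Φ x := by
    intro a x
    rw [Ext.smul_eq_comp_mk₀]
    change φ3 (φ2 ((Ext.mk₀ ρ.hom).comp (x.comp (Ext.mk₀ (a • 𝟙 B)) (add_zero p)) (zero_add p))) = _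
    have h1 : (Ext.mk₀ ρ.hom).comp (x.comp (Ext.mk₀ (a • 𝟙 B)) (add_zero p)) (zero_add p) =
        ((Ext.mk₀ ρ.hom).comp x (zero_add p)).comp (Ext.mk₀ (a • 𝟙 B)) (add_zero p) :=
      (Ext.comp_assoc_of_third_deg_zero _ _ _ _).symm
    rw [h1]
    have h2 := extAdjMap_comp (DCoh.sheafHomAdj F) (Coh.structureModule X)
      ((Ext.mk₀ ρ.hom).comp x (zero_add p)) (Ext.mk₀ (a • 𝟙 B)) (add_zero p)
    rw [Ext.mapExactFunctor_mk₀, sheafHom_map_smul_id] at h2
    change φ3 (extAdjMap (DCoh.sheafHomAdj F) (Coh.structureModule X) B p _) = _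
    rw [h2, KLin.smul_id ((DCoh.sheafHom F).obj B) a]
    exact he.natural (Formal.smulMod A ((DCoh.sheafHom F).obj B) a) p
      (extAdjMap (DCoh.sheafHomAdj F) (Coh.structureModule X) B p
        ((Ext.mk₀ ρ.hom).comp x (zero_add p)))
  exact ⟨{ AddEquiv.ofBijective Φ hbij with map_smul' := hlin }⟩

end Main

section Pn

variable (r : ℕ) (k : Type u) [Field k]

/-- Serre duality on `P^r_k` for a finite locally free module, assuming that its internal Hom is
right exact. -/
theorem serre_duality_locFree (F : (CohB1.ProjSpace r k).Modules) (hF : FlatMod.IsFinLocFree F)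
    [DCoh.HasSheafHom F] [PreservesFiniteColimits (DCoh.sheafHom F)] (i : ℕ) (hi : i ≤ r) :
    Nonempty (Module.Dual k (Coh.HH (CohB1.ProjSpace r k) F i) ≃ₗ[k]
      Coh.HH (CohB1.ProjSpace r k)
        ((DCoh.sheafHom F).obj (Twist.twistProjSpace r k (-((r : ℤ) + 1)))) (r - i)) := by
  haveI : EnoughInjectives (CohB1.ProjSpace r k).Modules :=
    ModGrothendieck.enoughInjectives (CohB1.ProjSpace r k).ringCatSheaf
  haveI : HasExt.{u} (CohB1.ProjSpace r k).Modules := hasExt_of_enoughInjectives _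
  have hcoh : Coh.IsCoh F := StalkPd.coh_of_lf hF
  obtain ⟨e1⟩ := Groth.Agent.Lib.Helper7.PnExt.ext_linearEquiv r k (r - i) (Nat.sub_le r i) F hcoh
  obtain ⟨e2⟩ := nonempty_ext_linearEquiv k F hF (Twist.twistProjSpace r k (-((r : ℤ) + 1))) (r - i)
  have hsub : r - (r - i) = i := Nat.sub_sub_self hi
  rw [hsub] at e1
  exact ⟨e1.symm.trans e2⟩

end Pn

end Groth.Agent.Lib.Helper7.SheafHomExt
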