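import Mathlib

/-!
# Helper library (helper7): negative definite integer matrices with non-negative off-diagonal
entries (Mathlib only)

If `A` is a symmetric integer matrix, negative definite on integer vectors, with non-negative
off-diagonal entries, and `b ≥ 0`, then `A a = - m b` has a solution with `m > 0` and `a ≥ 0`
integral.
-/

set_option autoImplicit false

namespace Groth.Agent.Lib.Helper7.MMatrixLA

open Finset

/-- clearing denominators. -/
theorem exists_int_scale {r : ℕ} (v : Fin r → ℚ) :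
    ∃ (N : ℕ) (a : Fin r → ℤ), 0 < N ∧ ∀ i, (a i : ℚ) = (N : ℚ) * v i := by
  refine ⟨∏ i, (v i).den, fun i => (v i).num * ((∏ j ∈ univ.erase i, (v j).den : ℕ) : ℤ), ?_, ?_⟩
  · exact Finset.prod_pos fun i _ => (v i).den_pos
  · intro i
    have h1 : (∏ j, (v j).den : ℕ) = (v i).den * ∏ j ∈ univ.erase i, (v j).den :=
      (Finset.mul_prod_erase univ (fun j => (v j).den) (mem_univ i)).symm
    have h2 : ((v i).num : ℚ) = v i * ((v i).den : ℚ) := (Rat.mul_den_eq_num (v i)).symm
    rw [h1]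
    push_cast
    rw [h2]
    ring

variable {r : ℕ} (A : Fin r → Fin r → ℤ)

/-- negative definiteness passes from integer to rational vectors. -/
theorem negDef_rat (hneg : ∀ a : Fin r → ℤ, a ≠ 0 → ∑ i, ∑ j, a i * a j * A i j < 0)
    (v : Fin r → ℚ) (hv : v ≠ 0) : ∑ i, ∑ j, v i * v j * (A i j : ℚ) < 0 := by
  obtain ⟨N, a, hN, ha⟩ := exists_int_scale v
  have hN' : (0 : ℚ) < (N : ℚ) := by exact_mod_cast hN
  have ha0 : a ≠ 0 := by
    intro h
    apply hv
    funext i
    have h1 := ha i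
    rw [h] at h1
    simp only [Pi.zero_apply, Int.cast_zero] at h1
    have h2 : v i = 0 := by
      rcases mul_eq_zero.mp h1.symm with h3 | h3
      · exact absurd h3 hN'.ne'
      · exact h3
    simpa using h2
  have h1 := hneg a ha0
  have h2 : ((∑ i, ∑ j, a i * a j * A i j : ℤ) : ℚ) < 0 := by exact_mod_cast h1
  push_cast at h2
  have h3 : ∑ i, ∑ j, (a i : ℚ) * (a j : ℚ) * (A i j : ℚ) =
      (N : ℚ) ^ 2 * ∑ i, ∑ j, v i * v j * (A i j : ℚ) := by
    rw [Finset.mul_sum]
    refine Finset.sum_congr rfl fun i _ => ?_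
    rw [Finset.mul_sum]
    refine Finset.sum_congr rfl fun j _ => ?_
    rw [ha i, ha j]
    ring
  rw [h3] at h2
  have h4 : (0 : ℚ) < (N : ℚ) ^ 2 := by positivity
  by_contra hcon
  push Not at hcon
  have := mul_nonneg h4.le hcon
  linarith

/-- the rational system `A x = -b` is solvable. -/
theorem exists_rat_solution (hneg : ∀ a : Fin r → ℤ, a ≠ 0 → ∑ i, ∑ j, a i * a j * A i j < 0)
    (b : Fin r → ℚ) : ∃ x : Fin r → ℚ, ∀ i, ∑ j, (A i j : ℚ) * x j = - b i := by
  let M : Matrix (Fin r) (Fin r) ℚ := fun i j => (A i j : ℚ)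
  have hinj : Function.Injective (Matrix.mulVecLin M) := by
    rw [← LinearMap.ker_eq_bot, LinearMap.ker_eq_bot']
    intro v hv
    by_contra hv0
    have h1 := negDef_rat A hneg v hv0
    have h2 : ∀ i, ∑ j, (A i j : ℚ) * v j = 0 := by
      intro i
      have := congrFun hv i
      simpa [Matrix.mulVecLin_apply, Matrix.mulVec, dotProduct, M] using this
    have h3 : ∑ i, ∑ j, v i * v j * (A i j : ℚ) = 0 := by
      refine Finset.sum_eq_zero fun i _ => ?_
      have : ∑ j, v i * v j * (A i j : ℚ) = v i * ∑ j, (A i j : ℚ) * v j := by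
        rw [Finset.mul_sum]
        refine Finset.sum_congr rfl fun j _ => ?_
        ring
      rw [this, h2 i, mul_zero]
    linarith
  have hsurj : Function.Surjective (Matrix.mulVecLin M) :=
    LinearMap.injective_iff_surjective.mp hinj
  obtain ⟨x, hx⟩ := hsurj (fun i => - b i)
  refine ⟨x, fun i => ?_⟩
  have := congrFun hx i
  simpa [Matrix.mulVecLin_apply, Matrix.mulVec, dotProduct, M] using this

/-- the solution is non-negative. -/
theorem solution_nonneg (hoff : ∀ i j, i ≠ j → 0 ≤ A i j)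
    (hneg : ∀ a : Fin r → ℤ, a ≠ 0 → ∑ i, ∑ j, a i * a j * A i j < 0)
    (b : Fin r → ℚ) (hb : ∀ i, 0 ≤ b i) (x : Fin r → ℚ)
    (hx : ∀ i, ∑ j, (A i j : ℚ) * x j = - b i) : ∀ i, 0 ≤ x i := by
  set xm : Fin r → ℚ := fun i => max (- x i) 0 with hxm
  set xp : Fin r → ℚ := fun i => max (x i) 0 with hxp
  have hxm0 : ∀ i, 0 ≤ xm i := fun i => le_max_right _ _
  have hxp0 : ∀ i, 0 ≤ xp i := fun i => le_max_right _ _
  have hdec : ∀ i, x i = xp i - xm i := by
    intro i
    simp only [hxm, hxp]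
    rcases le_total (x i) 0 with h | h
    · rw [max_eq_right h, max_eq_left (by linarith)]
      ring
    · rw [max_eq_left h, max_eq_right (by linarith)]
      ring
  have hprod : ∀ i, xm i * xp i = 0 := by
    intro i
    simp only [hxm, hxp]
    rcases le_total (x i) 0 with h | h
    · rw [max_eq_right h, mul_zero]
    · rw [max_eq_right (by linarith : - x i ≤ 0), zero_mul]
  by_contra hcon
  push Not at hcon
  obtain ⟨i₀, hi₀⟩ := hcon
  have hxm_ne : xm ≠ 0 := by
    intro h
    have h1 := congrFun h i₀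
    simp only [hxm, Pi.zero_apply] at h1
    have h2 : - x i₀ ≤ 0 := by
      have := le_max_left (- x i₀) 0
      rw [h1] at this
      exact this
    linarith
  have hQ := negDef_rat A hneg xm hxm_ne
  -- `Σ_i xm_i (A x)_i = - Σ_i xm_i b_i ≤ 0`
  have h1 : ∑ i, xm i * ∑ j, (A i j : ℚ) * x j ≤ 0 := by
    refine Finset.sum_nonpos fun i _ => ?_
    rw [hx i]
    have := mul_nonneg (hxm0 i) (hb i)
    linarith
  -- expansion
  have h2 : ∑ i, xm i * ∑ j, (A i j : ℚ) * x j =
      ∑ i, ∑ j, xm i * (A i j : ℚ) * xp j - ∑ i, ∑ j, xm i * xm j * (A i j : ℚ) := by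
    rw [← Finset.sum_sub_distrib]
    refine Finset.sum_congr rfl fun i _ => ?_
    rw [Finset.mul_sum, ← Finset.sum_sub_distrib]
    refine Finset.sum_congr rfl fun j _ => ?_
    rw [hdec j]
    ring
  have h3 : 0 ≤ ∑ i, ∑ j, xm i * (A i j : ℚ) * xp j := by
    refine Finset.sum_nonneg fun i _ => Finset.sum_nonneg fun j _ => ?_
    by_cases hij : i = j
    · subst hij
      have : xm i * (A i i : ℚ) * xp i = (xm i * xp i) * (A i i : ℚ) := by ring
      rw [this, hprod i, zero_mul]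
    · have hA : (0 : ℚ) ≤ (A i j : ℚ) := by exact_mod_cast hoff i j hij
      exact mul_nonneg (mul_nonneg (hxm0 i) hA) (hxp0 j)
  linarith

/-- **the M-matrix lemma.** -/
theorem exists_nonneg_solution (hoff : ∀ i j, i ≠ j → 0 ≤ A i j)
    (hneg : ∀ a : Fin r → ℤ, a ≠ 0 → ∑ i, ∑ j, a i * a j * A i j < 0)
    (b : Fin r → ℤ) (hb : ∀ i, 0 ≤ b i) :
    ∃ (m : ℕ) (a : Fin r → ℕ), 0 < m ∧ ∀ i, ∑ j, A i j * (a j : ℤ) = - (m : ℤ) * b i := by
  obtain ⟨x, hx⟩ := exists_rat_solution A hneg (fun i => (b i : ℚ))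
  have hx0 := solution_nonneg A hoff hneg (fun i => (b i : ℚ))
    (fun i => by exact_mod_cast hb i) x hx
  obtain ⟨N, a, hN, ha⟩ := exists_int_scale x
  have hN' : (0 : ℚ) < (N : ℚ) := by exact_mod_cast hN
  have ha0 : ∀ i, 0 ≤ a i := by
    intro i
    have h1 : (0 : ℚ) ≤ (a i : ℚ) := by
      rw [ha i]
      exact mul_nonneg hN'.le (hx0 i)
    exact_mod_cast h1
  refine ⟨N, fun i => (a i).toNat, hN, fun i => ?_⟩
  have h1 : ∀ j, (((a j).toNat : ℕ) : ℤ) = a j := fun j => Int.toNat_of_nonneg (ha0 j)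
  simp only [h1]
  have h2 : ((∑ j, A i j * a j : ℤ) : ℚ) = ((- (N : ℤ) * b i : ℤ) : ℚ) := by
    push_cast
    have h3 : ∑ j, (A i j : ℚ) * (a j : ℚ) = (N : ℚ) * ∑ j, (A i j : ℚ) * x j := by
      rw [Finset.mul_sum]
      refine Finset.sum_congr rfl fun j _ => ?_
      rw [ha j]
      ring
    rw [h3, hx i]
    ring
  exact_mod_cast h2

end Groth.Agent.Lib.Helper7.MMatrixLA
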