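import Mathlib
import Groth.Prelude
import Groth.Agent.Lib.Helper7.CanSec
import Groth.Agent.Lib.Helper7.CurveCartier
import Groth.Agent.Lib.Helper7.MinusOne
import Groth.Agent.Lib.Helper7.MMatrixLA
import Groth.Agent.Lib.Helper12.SchemeDimFT3

/-!
# Helper library (helper7): curves with negative definite intersection matrix (S18458)

* `ip_multiTwist` : bilinearity of the intersection pairing over `FGA.multiTwist`;
* `deg_nonneg_of_section` : a section not vanishing at the generic point of an integral curve gives
  non-negative degree on it;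
* `generic_notMem_support_of_ne`, `ip_nonneg_of_ne` : distinct integral curves meet non-negatively;
* `deg_pos_of_ample`, `ip_self_pos_of_ample`;
* `main18458`.
-/

set_option autoImplicit false
set_option linter.unusedSectionVars false
set_option linter.style.haveILetI false
universe u
open CategoryTheory CategoryTheory.Limits AlgebraicGeometry Opposite TopologicalSpace
open Scheme.Modules

namespace Groth.Agent.Lib.Helper7.NegDefNef

open Groth.Agent.Lib.Helper3 Groth.Agent.Lib.Helper3.InvMonoidal Groth.Agent.Lib.Helper3.InvTensor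
open Groth.Agent.Lib.Helper3.InvGen Groth.Agent.Lib.Helper3.InvAmple
open Groth.Agent.Lib.Helper23 Groth.Agent.Lib.Helper23.Snap Groth.Agent.Lib.Helper23.HilbP
open Groth.Agent.Lib.Helper7.SnapAlt Groth.Agent.Lib.Helper7.SnapFGA
open Groth.Agent.Lib.Helper7.IntNumPos Groth.Agent.Lib.Helper7.IntNumDiv
open Groth.Agent.Lib.Helper7.SecDeg Groth.Agent.Lib.Helper7.HilbCoeff
open Groth.Agent.Lib.Helper7.SecDegB Groth.Agent.Lib.Helper7.TwFun
open Groth.Agent.Lib.Helper7.SecDegC Groth.Agent.Lib.Helper17
open Groth.Agent.Lib.Helper7.SurfIP Groth.Agent.Lib.Helper7.NefCoh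
open Groth.Agent.Lib.Helper7.NefTrivA Groth.Agent.Lib.Helper7.NumSec
open Groth.Agent.Lib.Helper7.CanSec Groth.Agent.Lib.Helper7.GGNef
open Groth.Agent.Lib.Helper12 Groth.Agent.Lib.Helper12.SchemeDimFT

variable (k : Type u) [Field k] (X : Scheme.{u}) [X.Over (Spec (CommRingCat.of k))]
  [IsProper (X ↘ Spec (CommRingCat.of k))]

theorem isInvertible_multiTwist {r : ℕ} (N : Fin r → X.Modules)
    (hN : ∀ i, PicF.IsInvertible (N i)) (a : Fin r → ℕ) :
    PicF.IsInvertible (FGA.multiTwist N a) := by
  unfold FGA.multiTwist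
  apply isInvertible_tensorList
  intro M hM
  obtain ⟨i, -, rfl⟩ := List.mem_map.mp hM
  exact isInvertible_tensorPow (hN i) (a i)

section Bilin

variable (hd : topologicalKrullDim X ≤ ((2 : ℕ) : WithBot ℕ∞))
include hd

theorem ip_unit_left (C : X.Modules) : ip k X (Coh.structureModule X) C = 0 := by
  rw [ip_eq]
  exact intNum_cons_trivial k X 2 (Iso.refl _) _ _

theorem ip_tensorList (C : X.Modules) (hC : PicF.IsInvertible C) :
    ∀ (l : List X.Modules), (∀ N ∈ l, PicF.IsInvertible N) →
      ip k X (FGA.tensorList l) C = (l.map fun N => ip k X N C).sum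
  | [], _ => by
    simp only [List.map_nil, List.sum_nil]
    exact ip_unit_left k X hd C
  | N :: l, h => by
    have hN := h N List.mem_cons_self
    have hl : ∀ N' ∈ l, PicF.IsInvertible N' := fun N' hN' => h N' (List.mem_cons_of_mem _ hN')
    change ip k X (CohB1.tensorMod N (FGA.tensorList l)) C = _
    rw [ip_add_left k X hd hN (isInvertible_tensorList l hl) hC, ip_tensorList C hC l hl]
    simp only [List.map_cons, List.sum_cons]

theorem ip_multiTwist {r : ℕ} (N : Fin r → X.Modules) (hN : ∀ i, PicF.IsInvertible (N i))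
    (a : Fin r → ℕ) (C : X.Modules) (hC : PicF.IsInvertible C) :
    ip k X (FGA.multiTwist N a) C = ∑ i, (a i : ℤ) * ip k X (N i) C := by
  unfold FGA.multiTwist
  rw [ip_tensorList k X hd C hC _ (by
    intro M hM
    obtain ⟨i, -, rfl⟩ := List.mem_map.mp hM
    exact isInvertible_tensorPow (hN i) (a i)), List.map_map, Fin.sum_univ_def]
  congr 1
  apply List.map_congr_left
  intro i _
  exact ip_pow_left k X hd (hN i) hC (a i)

/-- degree on a curve via the pairing with its ideal. -/
theorem deg_eq_neg_ip (D : X.IdealSheafData) (hID : PicF.IsInvertible (ClSub.idealMod D))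
    (N : X.Modules) (hN : PicF.IsInvertible N) :
    Curv2.euler k X (CohB1.tensorMod (ClSub.quotMod D) N) - Curv2.euler k X (ClSub.quotMod D) =
      - ip k X (ClSub.idealMod D) N := by
  rw [ip_ideal k X hd D hID N hN]
  ring

end Bilin

section Curves

/-- the closure of the generic point of an integral closed subscheme is its support. -/
theorem closure_generic (D : X.IdealSheafData) [IsIntegral D.subscheme] :
    closure ({D.subschemeι (genericPoint D.subscheme)} : Set X) = (D.support : Set X) := by
  apply Set.Subset.antisymm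
  · apply closure_minimal _ D.support.isClosed
    rw [Set.singleton_subset_iff, ← D.range_subschemeι]
    exact ⟨_, rfl⟩
  · intro x hx
    rw [← D.range_subschemeι] at hx
    obtain ⟨w, rfl⟩ := hx
    have h1 : genericPoint D.subscheme ⤳ w := genericPoint_specializes w
    exact specializes_iff_mem_closure.mp (h1.map D.subschemeι.continuous)

/-- a section not vanishing at the generic point of an integral curve gives non-negative degree. -/
theorem deg_nonneg_of_section (D : X.IdealSheafData) (hDi : IsIntegral D.subscheme)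
    (hD1 : topologicalKrullDim (D.support : Set X) = 1) (N : X.Modules)
    (hN : PicF.IsInvertible N) (s : Coh.structureModule X ⟶ N)
    (hs : D.subschemeι (genericPoint D.subscheme) ∈ CohB1.genLocus N s) :
    0 ≤ Curv2.euler k X (CohB1.tensorMod (ClSub.quotMod D) N) -
      Curv2.euler k X (ClSub.quotMod D) := by
  haveI := hDi
  letI : D.subscheme.Over (Spec (CommRingCat.of k)) :=
    ⟨D.subschemeι ≫ (X ↘ Spec (CommRingCat.of k))⟩
  have hov : D.subscheme ↘ Spec (CommRingCat.of k) =
      D.subschemeι ≫ (X ↘ Spec (CommRingCat.of k)) := rfl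
  haveI : IsProper (D.subscheme ↘ Spec (CommRingCat.of k)) := by
    show IsProper (D.subschemeι ≫ (X ↘ Spec (CommRingCat.of k)))
    infer_instance
  have hdimC : topologicalKrullDim D.subscheme = 1 := by
    rw [← hD1]
    have hemb : Topology.IsEmbedding D.subschemeι :=
      D.subschemeι.isClosedEmbedding.isEmbedding
    have h1 := hemb.toHomeomorph.isHomeomorph.topologicalKrullDim_eq
    rw [h1, D.range_subschemeι]
  rw [euler_quotMod_tensor k X D hov N]
  have h0 : Curv2.euler k X (ClSub.quotMod D) =
      Curv2.euler k D.subscheme (Coh.structureModule D.subscheme) :=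
    euler_push k X D hov (Coh.structureModule D.subscheme)
  rw [h0]
  have hgl := PbBasic.genLocus_pullHom D.subschemeι hN s
  have hx : genericPoint D.subscheme ∈
      CohB1.genLocus ((Scheme.Modules.pullback D.subschemeι).obj N)
        (PbBasic.pullHom D.subschemeι s) := by
    rw [hgl]
    exact hs
  have ht : PbBasic.pullHom D.subschemeι s ≠ 0 := by
    intro h
    rw [h] at hx
    exact notMem_genLocus_zero _ _ hx
  have := euler_le_of_section k D.subscheme hdimC _
    (PbBasic.isInvertible_pullback D.subschemeι hN) _ ht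
  linarith

include k in
/-- the generic point of an integral curve does not lie on a different integral curve. -/
theorem generic_notMem_support_of_ne (D E : X.IdealSheafData) (hDi : IsIntegral D.subscheme)
    (hD1 : topologicalKrullDim (D.support : Set X) = 1) (hEi : IsIntegral E.subscheme)
    (hE1 : topologicalKrullDim (E.support : Set X) = 1) (hne : D ≠ E) :
    D.subschemeι (genericPoint D.subscheme) ∉ (E.support : Set X) := by
  haveI := hDi
  haveI := hEi
  intro hmem
  have hclD := closure_generic X D
  have hclE := closure_generic X E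
  generalize D.subschemeι (genericPoint D.subscheme) = ξD at hclD hmem
  generalize E.subschemeι (genericPoint E.subscheme) = ξE at hclE
  have hspec : ξE ⤳ ξD := by
    rw [specializes_iff_mem_closure, hclE]
    exact hmem
  have htD : ((tr k X ξD : ℕ) : WithBot ℕ∞) = 1 := by
    rw [← topologicalKrullDim_closure_singleton k X ξD, hclD, hD1]
  have htE : ((tr k X ξE : ℕ) : WithBot ℕ∞) = 1 := by
    rw [← topologicalKrullDim_closure_singleton k X ξE, hclE, hE1]
  have htD' : tr k X ξD = 1 := by exact_mod_cast htD
  have htE' : tr k X ξE = 1 := by exact_mod_cast htE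
  have heq : ξE = ξD := by
    by_contra hne'
    have := tr_lt_of_specializes k X ξE ξD hspec hne'
    omega
  have hsupp : D.support = E.support := by
    apply TopologicalSpace.Closeds.ext
    rw [← hclD, ← hclE, heq]
  apply hne
  have hDr := (Groth.Agent.Lib.Helper7.isReduced_subscheme_iff D).mp inferInstance
  have hEr := (Groth.Agent.Lib.Helper7.isReduced_subscheme_iff E).mp inferInstance
  rw [← hDr, ← hEr, ← Scheme.IdealSheafData.vanishingIdeal_support,
    ← Scheme.IdealSheafData.vanishingIdeal_support, hsupp]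

variable [IsIntegral X]

/-- distinct integral curves meet non-negatively. -/
theorem ip_nonneg_of_ne (hdim : topologicalKrullDim X = 2) (D E : X.IdealSheafData)
    (hDi : IsIntegral D.subscheme) (hD1 : topologicalKrullDim (D.support : Set X) = 1)
    (hEi : IsIntegral E.subscheme) (hE1 : topologicalKrullDim (E.support : Set X) = 1)
    (hID : PicF.IsInvertible (ClSub.idealMod D)) (hIE : PicF.IsInvertible (ClSub.idealMod E))
    (hne : D ≠ E) : 0 ≤ ip k X (ClSub.idealMod D) (ClSub.idealMod E) := by
  have hd : topologicalKrullDim X ≤ ((2 : ℕ) : WithBot ℕ∞) := by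
    rw [hdim]
    norm_cast
  obtain ⟨eE⟩ := Groth.Agent.Lib.Helper23.Inverse.tensor_dual_iso hIE
  have hE' := isInvertible_of_inverse hIE ⟨eE⟩
  have hgen := generic_notMem_support_of_ne k X D E hDi hD1 hEi hE1 hne
  have hs := (mem_genLocus_canSec_iff E eE hE' _).mpr hgen
  have h1 := deg_nonneg_of_section k X D hDi hD1 _ hE' (canSec E eE) hs
  rw [deg_eq_neg_ip k X hd D hID _ hE', ip_neg_right k X hd hIE eE hID] at h1
  linarith

/-- an ample module has positive degree on every integral curve. -/
theorem deg_pos_of_ample (hdim : topologicalKrullDim X = 2) (H : X.Modules)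
    (hH : CohB1.IsAmple H) (D : X.IdealSheafData)
    (hD1 : topologicalKrullDim (D.support : Set X) = 1)
    (hID : PicF.IsInvertible (ClSub.idealMod D)) :
    0 < Curv2.euler k X (CohB1.tensorMod (ClSub.quotMod D) H) -
      Curv2.euler k X (ClSub.quotMod D) := by
  haveI : IsNoetherian X := isNoetherian_of_isProper k X
  have hd : topologicalKrullDim X ≤ ((2 : ℕ) : WithBot ℕ∞) := by
    rw [hdim]
    norm_cast
  obtain ⟨eH⟩ := Groth.Agent.Lib.Helper23.Inverse.tensor_dual_iso hH.1
  have hH' := isInvertible_of_inverse hH.1 ⟨eH⟩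
  have hdimQ : topologicalKrullDim (CohB1.support (ClSub.quotMod D)) = ((1 : ℕ) : WithBot ℕ∞) := by
    rw [DevTest.support_A, hD1]
    norm_cast
  have hpos := intNum_pos k X 2 hd 1 (fun _ => H)
    (fun _ => Groth.Agent.Lib.Helper23.Inverse.dual H) (fun _ => hH) (fun _ => ⟨eH⟩)
    (ClSub.quotMod D) (EffCart.isCoh_quotMod D) hdimQ
  rw [intNum_one k X 2 hd] at hpos
  rw [deg_eq_neg_ip k X hd D hID H hH.1]
  have h2 := ip_ideal k X hd D hID _ hH'
  have h3 := ip_neg_right k X hd hH.1 eH hID
  linarith

/-- an ample module has positive self-intersection. -/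
theorem ip_self_pos_of_ample (hdim : topologicalKrullDim X = 2) (H : X.Modules)
    (hH : CohB1.IsAmple H) : 0 < ip k X H H := by
  haveI : IsNoetherian X := isNoetherian_of_isProper k X
  have hd : topologicalKrullDim X ≤ ((2 : ℕ) : WithBot ℕ∞) := by
    rw [hdim]
    norm_cast
  obtain ⟨eH⟩ := Groth.Agent.Lib.Helper23.Inverse.tensor_dual_iso hH.1
  have hO := T2.isCoh_structureModule X
  have hsuppO : CohB1.support (Coh.structureModule X) = Set.univ :=
    support_invertible (isInvertible_structureModule X)
  have hdimO2 : topologicalKrullDim (CohB1.support (Coh.structureModule X)) =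
      ((2 : ℕ) : WithBot ℕ∞) := by
    rw [hsuppO, (Homeomorph.Set.univ X).isHomeomorph.topologicalKrullDim_eq, hdim]
    norm_cast
  have hHH' : 0 < ip k X (Groth.Agent.Lib.Helper23.Inverse.dual H)
      (Groth.Agent.Lib.Helper23.Inverse.dual H) := by
    refine intNum_pos k X 2 hd 2 ![H, H] ![_, _] ?_ ?_ _ hO hdimO2
    · intro i
      fin_cases i <;> exact hH
    · intro i
      fin_cases i <;> exact ⟨eH⟩
  rw [← ip_inv k X hd hH.1 eH hH.1 eH]
  exact hHH'

/-- **S18458**: a nef and big invertible module orthogonal to exactly a given negative definite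
configuration of curves. -/
theorem main18458 [Smooth (X ↘ Spec (CommRingCat.of k))] (hdim : topologicalKrullDim X = 2)
    (hproj : ∃ H : X.Modules, CohB1.IsAmple H)
    (r : ℕ) (C : Fin r → X.IdealSheafData) (hC : Function.Injective C)
    (hCi : ∀ i, IsIntegral (C i).subscheme)
    (hCd : ∀ i, topologicalKrullDim ((C i).support : Set X) = 1)
    (hneg : ∀ a : Fin r → ℤ, a ≠ 0 →
      ∑ i, ∑ j, a i * a j * FGA.intNum k X 2
        ![(ClSub.idealMod (C i)), (ClSub.idealMod (C j))] (Coh.structureModule X) < 0) :
    ∃ L : X.Modules, PicF.IsInvertible L ∧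
      (∀ D : X.IdealSheafData, IsIntegral D.subscheme →
        topologicalKrullDim (D.support : Set X) = 1 →
        0 ≤ Curv2.euler k X (CohB1.tensorMod (ClSub.quotMod D) L) -
          Curv2.euler k X (ClSub.quotMod D)) ∧
      0 < FGA.intNum k X 2 ![L, L] (Coh.structureModule X) ∧
      (∀ D : X.IdealSheafData, IsIntegral D.subscheme →
        topologicalKrullDim (D.support : Set X) = 1 →
        (Curv2.euler k X (CohB1.tensorMod (ClSub.quotMod D) L) -
          Curv2.euler k X (ClSub.quotMod D) = 0 ↔ ∃ i, D = C i)) := by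
  obtain ⟨H, hH⟩ := hproj
  have hd : topologicalKrullDim X ≤ ((2 : ℕ) : WithBot ℕ∞) := by
    rw [hdim]
    norm_cast
  have hcart : ∀ D : X.IdealSheafData, IsIntegral D.subscheme →
      topologicalKrullDim (D.support : Set X) = 1 → PicF.IsInvertible (ClSub.idealMod D) :=
    fun D hDi hD1 => (EffCartMod.isInvertible_idealMod_iff _).mpr
      (Groth.Agent.Lib.Helper7.CurveCartier.isEffCartierIdeal_of_smooth k hdim D hDi hD1)
  have hI : ∀ i, PicF.IsInvertible (ClSub.idealMod (C i)) := fun i => hcart _ (hCi i) (hCd i)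
  have hb : ∀ i, 0 < Curv2.euler k X (CohB1.tensorMod (ClSub.quotMod (C i)) H) -
      Curv2.euler k X (ClSub.quotMod (C i)) :=
    fun i => deg_pos_of_ample k X hdim H hH (C i) (hCd i) (hI i)
  have hoff : ∀ i j, i ≠ j →
      0 ≤ ip k X (ClSub.idealMod (C i)) (ClSub.idealMod (C j)) := fun i j hij =>
    ip_nonneg_of_ne k X hdim (C i) (C j) (hCi i) (hCd i) (hCi j) (hCd j) (hI i) (hI j)
      (fun h => hij (hC h))
  obtain ⟨m, a, hm, hsol⟩ := Groth.Agent.Lib.Helper7.MMatrixLA.exists_nonneg_solution
    (fun i j => ip k X (ClSub.idealMod (C i)) (ClSub.idealMod (C j))) hoff hneg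
    (fun i => Curv2.euler k X (CohB1.tensorMod (ClSub.quotMod (C i)) H) -
      Curv2.euler k X (ClSub.quotMod (C i))) (fun i => (hb i).le)
  have hm' : (0 : ℤ) < (m : ℤ) := by exact_mod_cast hm
  have hN0 : ∀ j, ∃ N : X.Modules,
      Nonempty (CohB1.tensorMod (ClSub.idealMod (C j)) N ≅ Coh.structureModule X) :=
    fun j => ⟨_, Groth.Agent.Lib.Helper23.Inverse.tensor_dual_iso (hI j)⟩
  choose N eN0 using hN0
  have eN : ∀ j, CohB1.tensorMod (ClSub.idealMod (C j)) (N j) ≅ Coh.structureModule X :=
    fun j => (eN0 j).some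
  have hN : ∀ j, PicF.IsInvertible (N j) := fun j => isInvertible_of_inverse (hI j) ⟨eN j⟩
  have hT := isInvertible_multiTwist X N hN a
  have hHm := isInvertible_tensorPow hH.1 m
  have hL := isInvertible_tensorMod hHm hT
  have key : ∀ D : X.IdealSheafData, PicF.IsInvertible (ClSub.idealMod D) →
      Curv2.euler k X (CohB1.tensorMod (ClSub.quotMod D)
        (CohB1.tensorMod (CohB1.tensorPow H m) (FGA.multiTwist N a))) -
        Curv2.euler k X (ClSub.quotMod D) =
      (m : ℤ) * (Curv2.euler k X (CohB1.tensorMod (ClSub.quotMod D) H) -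
        Curv2.euler k X (ClSub.quotMod D)) +
        ∑ j, (a j : ℤ) * ip k X (ClSub.idealMod (C j)) (ClSub.idealMod D) := by
    intro D hID
    rw [deg_eq_neg_ip k X hd D hID _ hL, deg_eq_neg_ip k X hd D hID H hH.1,
      ip_add_right k X hd hHm hT hID, ip_pow_right k X hd hH.1 hID m,
      ip_symm k X (ClSub.idealMod D) (FGA.multiTwist N a), ip_multiTwist k X hd N hN a _ hID]
    have h1 : ∀ j, ip k X (N j) (ClSub.idealMod D) =
        - ip k X (ClSub.idealMod (C j)) (ClSub.idealMod D) :=
      fun j => ip_neg_left k X hd (hI j) (eN j) hID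
    simp only [h1, mul_neg, Finset.sum_neg_distrib]
    ring
  have hzero : ∀ i, Curv2.euler k X (CohB1.tensorMod (ClSub.quotMod (C i))
        (CohB1.tensorMod (CohB1.tensorPow H m) (FGA.multiTwist N a))) -
        Curv2.euler k X (ClSub.quotMod (C i)) = 0 := by
    intro i
    rw [key (C i) (hI i)]
    have h1 : ∑ j, (a j : ℤ) * ip k X (ClSub.idealMod (C j)) (ClSub.idealMod (C i)) =
        ∑ j, ip k X (ClSub.idealMod (C i)) (ClSub.idealMod (C j)) * (a j : ℤ) := by
      apply Finset.sum_congr rfl
      intro j _
      rw [ip_symm k X (ClSub.idealMod (C j)), mul_comm]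
    have h2 : ∑ j, ip k X (ClSub.idealMod (C i)) (ClSub.idealMod (C j)) * (a j : ℤ) =
        - (m : ℤ) * (Curv2.euler k X (CohB1.tensorMod (ClSub.quotMod (C i)) H) -
          Curv2.euler k X (ClSub.quotMod (C i))) := hsol i
    rw [h1, h2]
    ring
  have hpos : ∀ D : X.IdealSheafData, IsIntegral D.subscheme →
      topologicalKrullDim (D.support : Set X) = 1 → (∀ i, D ≠ C i) →
      0 < Curv2.euler k X (CohB1.tensorMod (ClSub.quotMod D)
        (CohB1.tensorMod (CohB1.tensorPow H m) (FGA.multiTwist N a))) -
        Curv2.euler k X (ClSub.quotMod D) := by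
    intro D hDi hD1 hne
    have hID := hcart D hDi hD1
    rw [key D hID]
    have h1 := deg_pos_of_ample k X hdim H hH D hD1 hID
    have h2 : 0 ≤ ∑ j, (a j : ℤ) * ip k X (ClSub.idealMod (C j)) (ClSub.idealMod D) := by
      apply Finset.sum_nonneg
      intro j _
      apply mul_nonneg (Int.natCast_nonneg _)
      exact ip_nonneg_of_ne k X hdim (C j) D (hCi j) (hCd j) hDi hD1 (hI j) hID
        (fun h => hne j h.symm)
    have := mul_pos hm' h1
    linarith
  refine ⟨_, hL, ?_, ?_, ?_⟩
  · intro D hDi hD1
    by_cases h : ∃ i, D = C i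
    · obtain ⟨i, rfl⟩ := h
      rw [hzero i]
    · push_neg at h
      exact (hpos D hDi hD1 h).le
  · show 0 < ip k X (CohB1.tensorMod (CohB1.tensorPow H m) (FGA.multiTwist N a))
      (CohB1.tensorMod (CohB1.tensorPow H m) (FGA.multiTwist N a))
    have e2 : ∀ j, ip k X (N j)
        (CohB1.tensorMod (CohB1.tensorPow H m) (FGA.multiTwist N a)) = 0 := by
      intro j
      rw [ip_neg_left k X hd (hI j) (eN j) hL, ← deg_eq_neg_ip k X hd (C j) (hI j) _ hL]
      exact hzero j
    have e3 : ip k X H (CohB1.tensorMod (CohB1.tensorPow H m) (FGA.multiTwist N a)) =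
        (m : ℤ) * ip k X H H + ∑ j, (a j : ℤ) *
          (Curv2.euler k X (CohB1.tensorMod (ClSub.quotMod (C j)) H) -
            Curv2.euler k X (ClSub.quotMod (C j))) := by
      rw [ip_add_right k X hd hHm hT hH.1, ip_pow_right k X hd hH.1 hH.1 m,
        ip_symm k X H (FGA.multiTwist N a), ip_multiTwist k X hd N hN a _ hH.1]
      congr 1
      apply Finset.sum_congr rfl
      intro j _
      rw [ip_neg_left k X hd (hI j) (eN j) hH.1, ← deg_eq_neg_ip k X hd (C j) (hI j) H hH.1]
    rw [ip_add_left k X hd hHm hT hL, ip_pow_left k X hd hH.1 hL m,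
      ip_multiTwist k X hd N hN a _ hL, e3]
    simp only [e2, mul_zero, Finset.sum_const_zero, add_zero]
    have h4 := ip_self_pos_of_ample k X hdim H hH
    have h5 : 0 ≤ ∑ j, (a j : ℤ) *
        (Curv2.euler k X (CohB1.tensorMod (ClSub.quotMod (C j)) H) -
          Curv2.euler k X (ClSub.quotMod (C j))) :=
      Finset.sum_nonneg (fun j _ => mul_nonneg (Int.natCast_nonneg _) (hb j).le)
    have h6 := mul_pos hm' h4
    exact mul_pos hm' (by linarith)
  · intro D hDi hD1
    constructor
    · intro h0
      by_contra hne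
      push_neg at hne
      have := hpos D hDi hD1 hne
      omega
    · rintro ⟨i, rfl⟩
      exact hzero i

end Curves

end Groth.Agent.Lib.Helper7.NegDefNef
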