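import Groth.Agent.Lib.Helper7.RankTwoC
import Groth.Agent.Lib.Helper7.PtSec2
import Groth.Agent.Lib.Helper7.Gaeta1
import Groth.Agent.Lib.Helper23.CurveGen
import Groth.Agent.Lib.Helper23.FBC2
import Groth.Agent.Lib.Helper13.StalkPd
import Groth.Agent.Lib.Helper3.QCProps
import Groth.Agent.Lib.Helper17.TensorSec

/-!
# GGNodal: globally generated modules on (possibly non-integral) proper curves with `H¹(O) = 0`

* `exists_finite_epi`: a globally generated coherent module on a proper `k`-scheme is a quotient of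
  a finite free module;
* `epi_twR`: tensoring with an arbitrary module preserves epimorphisms;
* `h1_zero_of_epi`: on a proper scheme of dimension `≤ 1`, `H¹` of a quasi-coherent quotient of a
  quasi-coherent module with vanishing `H¹` vanishes;
* `finrank_h0_quotMod_closedPoint'`, `h1_idealMod_point`: for a closed point `P` of a proper scheme
  over an algebraically closed field, `h⁰(O/I_P) = 1`, and `H¹(I_P) = 0` if `H¹(O) = 0`.
-/
set_option autoImplicit false
set_option linter.style.haveILetI false
universe u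
open CategoryTheory CategoryTheory.Limits AlgebraicGeometry TopologicalSpace Opposite
open Scheme.Modules TensorProduct

noncomputable section

namespace Groth.Agent.Lib.Helper7.GGNodal

open Groth.Agent.Lib.Helper3 Groth.Agent.Lib.Helper3.QCSec Groth.Agent.Lib.Helper3.InvGen
  Groth.Agent.Lib.Helper3.IdealMod Groth.Agent.Lib.Helper3.InvMonoidal
  Groth.Agent.Lib.Helper3.InvTensor Groth.Agent.Lib.Helper7.TwFun
open Groth.Agent.Lib.Helper23.T2 Groth.Agent.Lib.Helper23.Curve Groth.Agent.Lib.Helper23.Twist
  Groth.Agent.Lib.Helper23.TwE Groth.Agent.Lib.Helper23.EffCart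
  Groth.Agent.Lib.Helper23 Groth.Agent.Lib.Helper7.CohFinite

section Tensor

variable {X : Scheme.{u}}

theorem tensor_ind {R M N : Type*} [CommRing R] [AddCommGroup M] [Module R M] [AddCommGroup N]
    [Module R N] (P : M ⊗[R] N → Prop) (h0 : P 0) (h1 : ∀ m n, P (m ⊗ₜ[R] n))
    (h2 : ∀ a b, P a → P b → P (a + b)) (y : M ⊗[R] N) : P y :=
  TensorProduct.induction_on y h0 h1 h2

/-- tensoring (on the right) with an arbitrary module preserves epimorphisms -/
theorem epi_twR (J : X.Modules) {F G : X.Modules} (p : F ⟶ G) [Epi p] :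
    Epi ((twR J).map p) := by
  apply QCExact.epi_of_locally_surjective
  intro W σ x hx
  obtain ⟨V, hVW, hxV, y, hy⟩ := exists_local_rep G J W σ x hx
  have key : ∀ y : ↑((CohB1.tensorPre G J).obj (op V)),
      ∃ (W' : X.Opens) (hW' : W' ≤ V), x ∈ W' ∧ ∃ τ : Γ((twR J).obj F, W'),
        ((twR J).map p).app W' τ = res ((twR J).obj G) hW'
          (((SecTwist.toTensor G J).app (op V)).hom y) := by
    intro y
    refine tensor_ind (R := Rg X V) (M := (CohB1.toPMod G).obj (op V))
      (N := (CohB1.toPMod J).obj (op V))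
      (fun y => ∃ (W' : X.Opens) (hW' : W' ≤ V), x ∈ W' ∧ ∃ τ : Γ((twR J).obj F, W'),
        ((twR J).map p).app W' τ = res ((twR J).obj G) hW'
          (((SecTwist.toTensor G J).app (op V)).hom y)) ?_ ?_ ?_ y
    · refine ⟨V, le_rfl, hxV, 0, ?_⟩
      have h1 : ((SecTwist.toTensor G J).app (op V)).hom 0 = 0 := _root_.map_zero _
      exact (QCExact.app_zero ((twR J).map p) V).trans
        ((congrArg (res ((twR J).obj G) (le_refl V)) h1).trans (res_zero _ _)).symm
    · intro g j
      obtain ⟨W', hW', hxW', f, hf⟩ := QCExact.exists_local_lift p V g x hxV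
      refine ⟨W', hW', hxW', tm F J W' f (res J hW' j), ?_⟩
      exact (tw_app_tm p W' f _).trans
        ((congrArg (fun t => tm G J W' t (res J hW' j)) hf).trans (tm_res G J hW' g j).symm)
    · rintro a b ⟨W₁, hW₁, hx₁, τ₁, hτ₁⟩ ⟨W₂, hW₂, hx₂, τ₂, hτ₂⟩
      refine ⟨W₁ ⊓ W₂, inf_le_left.trans hW₁, ⟨hx₁, hx₂⟩,
        res ((twR J).obj F) inf_le_left τ₁ + res ((twR J).obj F) inf_le_right τ₂, ?_⟩
      have e1 := (QCExact.app_res' ((twR J).map p) (inf_le_left : W₁ ⊓ W₂ ≤ W₁) τ₁).trans
        ((congrArg (res ((twR J).obj G) (inf_le_left : W₁ ⊓ W₂ ≤ W₁)) hτ₁).trans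
          (res_res _ _ _ _))
      have e2 := (QCExact.app_res' ((twR J).map p) (inf_le_right : W₁ ⊓ W₂ ≤ W₂) τ₂).trans
        ((congrArg (res ((twR J).obj G) (inf_le_right : W₁ ⊓ W₂ ≤ W₂)) hτ₂).trans
          (res_res _ _ _ _))
      have h3 : ((SecTwist.toTensor G J).app (op V)).hom (a + b) =
          ((SecTwist.toTensor G J).app (op V)).hom a +
            ((SecTwist.toTensor G J).app (op V)).hom b := _root_.map_add _ a b
      refine (QCExact.app_add ((twR J).map p) _ _ _).trans ?_
      rw [e1, e2]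
      exact ((congrArg (res ((twR J).obj G) (inf_le_left.trans hW₁)) h3).trans
        (QCExact.res_add _ _ _ _)).symm
  obtain ⟨W', hW', hxW', τ, hτ⟩ := key y
  refine ⟨W', hW'.trans hVW, hxW', τ, ?_⟩
  exact hτ.trans ((congrArg (res ((twR J).obj G) hW') hy).trans (res_res _ _ _ _))

end Tensor

section Free

variable {X : Scheme.{u}}

/-- cohomology of the image of a finite free module under an additive functor -/
theorem subsingleton_HH_copower (T : X.Modules ⥤ X.Modules) [T.Additive] (N n : ℕ)
    (h : Subsingleton (Coh.HH X (T.obj (Coh.structureModule X)) n)) :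
    Subsingleton (Coh.HH X (T.obj (∐ fun _ : Fin N => Coh.structureModule X)) n) := by
  haveI h1 : Subsingleton (Coh.HH X (T.obj (⨁ fun _ : Fin N => Coh.structureModule X)) n) :=
    FBC.subsingleton_HH_map_biproduct T (fun _ : Fin N => Coh.structureModule X) n (fun _ => h)
  let e : (⨁ fun _ : Fin N => Coh.structureModule X) ≅
      ∐ fun _ : Fin N => Coh.structureModule X := biproduct.isoCoproduct _
  exact (HmapEquiv (T.mapIso e) n).symm.toEquiv.subsingleton

variable (k : Type u) [Field k] [X.Over (Spec (CommRingCat.of k))]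
  [IsProper (X ↘ Spec (CommRingCat.of k))]

include k in
/-- a globally generated coherent module on a proper `k`-scheme is generated by finitely many
global sections -/
theorem exists_finite_epi {E : X.Modules} (hE : Coh.IsCoh E)
    (hgg : Curv2.IsGloballyGenerated E) :
    ∃ (N : ℕ) (s : (∐ fun _ : Fin N => Coh.structureModule X) ⟶ E), Epi s := by
  obtain ⟨ι, p, hp⟩ := hgg
  haveI : Module.Finite k (Coh.HH X E 0) := finite_HH k E hE 0
  haveI : Module.Finite k (Coh.structureModule X ⟶ E) :=
    Module.Finite.equiv (LinearEquiv.ofBijective (Gaeta.dict0 k E)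
      ⟨Gaeta.dict0_injective k E, Gaeta.dict0_surjective k E⟩).symm
  obtain ⟨N, b, hb⟩ := Module.Finite.exists_fin (R := k) (M := (Coh.structureModule X ⟶ E))
  let p' : (∐ fun _ : ι => Coh.structureModule X) ⟶ E := p
  have hc : ∀ i : ι, ∃ c : Fin N → k,
      ∑ j, c j • b j = Sigma.ι (fun _ : ι => Coh.structureModule X) i ≫ p' := by
    intro i
    have hmem : Sigma.ι (fun _ : ι => Coh.structureModule X) i ≫ p' ∈
        Submodule.span k (Set.range b) := by
      rw [hb]; exact Submodule.mem_top
    exact (Submodule.mem_span_range_iff_exists_fun k).1 hmem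
  choose c hc using hc
  let s : (∐ fun _ : Fin N => Coh.structureModule X) ⟶ E := Sigma.desc b
  let q : (∐ fun _ : ι => Coh.structureModule X) ⟶ (∐ fun _ : Fin N => Coh.structureModule X) :=
    Sigma.desc (fun i => ∑ j, c i j • Sigma.ι (fun _ : Fin N => Coh.structureModule X) j)
  have hqs : q ≫ s = p' := by
    apply Sigma.hom_ext
    intro i
    rw [Sigma.ι_desc_assoc, Preadditive.sum_comp, ← hc i]
    refine Finset.sum_congr rfl (fun j _ => ?_)
    rw [Linear.smul_comp, Sigma.ι_desc]
  haveI : Epi (q ≫ s) := by rw [hqs]; exact hp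
  exact ⟨N, s, epi_of_epi q s⟩

include k in
/-- on a proper scheme of dimension `≤ 1`, `H¹` of a quasi-coherent quotient of a quasi-coherent
module with vanishing `H¹` vanishes -/
theorem h1_zero_of_epi (hdim : topologicalKrullDim X ≤ 1) {F G : X.Modules}
    (hFq : F.IsQuasicoherent) (hGq : G.IsQuasicoherent)
    (s : F ⟶ G) [Epi s] (hF : Subsingleton (Coh.HH X F 1)) : Subsingleton (Coh.HH X G 1) := by
  haveI := hFq
  haveI := hGq
  haveI : (kernel s : X.Modules).IsQuasicoherent := QCProps.isQuasicoherent_kernel s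
  have hS : (ShortComplex.kernelSequence s).ShortExact :=
    ShortComplex.ShortExact.mk' (ShortComplex.kernelSequence_exact _)
      (inferInstanceAs (Mono (kernel.ι s))) (inferInstanceAs (Epi s))
  have h2 : Subsingleton (Coh.HH X (kernel s) (0 + 2)) :=
    CurveGen.subsingleton_HH_of_dim_le_one k X hdim (kernel s) 0
  have key : ∀ x : Coh.HH X G 1, x = 0 := by
    intro x
    obtain ⟨y, hy⟩ := exact₃ (ShortComplex.kernelSequence s) hS 1 x
      (@Subsingleton.elim _ h2 _ _)
    exact hy.symm.trans ((congrArg _ (@Subsingleton.elim _ hF y 0)).trans (_root_.map_zero _))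
  exact ⟨fun a b => (key a).trans (key b).symm⟩

end Free

section Point

variable {X : Scheme.{u}} (k : Type u) [Field k] [X.Over (Spec (CommRingCat.of k))]
  [IsProper (X ↘ Spec (CommRingCat.of k))]

/-- the structure sheaf of the image of a section has `h⁰ = 1` (no integrality assumption on
`X`) -/
theorem finrank_h0_quotMod_ker_of_section' (x : Spec (CommRingCat.of k) ⟶ X)
    (hx : x ≫ (X ↘ Spec (CommRingCat.of k)) = 𝟙 _) :
    Module.finrank k (Coh.HH X (ClSub.quotMod x.ker) 0) = 1 := by
  haveI : IsNoetherian X := isNoetherian_of_isProper k X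
  haveI : IsClosedImmersion x := by
    haveI : IsClosedImmersion (x ≫ (X ↘ Spec (CommRingCat.of k))) := by rw [hx]; infer_instance
    exact IsClosedImmersion.of_comp x (X ↘ Spec (CommRingCat.of k))
  letI : x.ker.subscheme.Over (Spec (CommRingCat.of k)) :=
    ⟨x.ker.subschemeι ≫ (X ↘ Spec (CommRingCat.of k))⟩
  haveI : IsProper (x.ker.subscheme ↘ Spec (CommRingCat.of k)) := by
    show IsProper (x.ker.subschemeι ≫ (X ↘ Spec (CommRingCat.of k)))
    infer_instance
  haveI : (Coh.structureModule x.ker.subscheme).IsQuasicoherent :=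
    (isCoh_structureModule _).1
  obtain ⟨e⟩ := Groth.Agent.Lib.Helper23.PushIso.nonempty_equiv x.ker.subschemeι k rfl
    (fun V hV => Groth.Agent.Lib.Helper23.FBC.isAffineHom_ι_of_isSeparated k V hV) 0
    (Coh.structureModule x.ker.subscheme)
  rw [← e.finrank_eq]
  haveI : Nonempty x.ker.subscheme := ⟨x.toImage default⟩
  haveI : IsIntegral x.ker.subscheme := isIntegral_of_isOpenImmersion (inv x.toImage)
  refine Groth.Agent.Lib.Helper7.PtDiv.finrank_H0_eq_one_of_section k x.toImage ?_
  show x.toImage ≫ (x.imageι ≫ (X ↘ Spec (CommRingCat.of k))) = 𝟙 _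
  rw [← Category.assoc, x.toImage_imageι]
  exact hx

/-- over an algebraically closed field, the structure sheaf of a reduced closed point has
`h⁰ = 1` (no integrality assumption on `X`) -/
theorem finrank_h0_quotMod_closedPoint' [IsAlgClosed k] (P : X) (hP : IsClosed ({P} : Set X)) :
    Module.finrank k (Coh.HH X
      (ClSub.quotMod (Scheme.IdealSheafData.vanishingIdeal ⟨{P}, hP⟩)) 0) = 1 := by
  have hx : pointOfClosedPoint (X ↘ Spec (CommRingCat.of k)) P hP ≫
      (X ↘ Spec (CommRingCat.of k)) = 𝟙 _ := pointOfClosedPoint_comp _ P hP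
  have hr : Set.range (pointOfClosedPoint (X ↘ Spec (CommRingCat.of k)) P hP) = {P} := by
    ext z
    constructor
    · rintro ⟨a, rfl⟩
      exact pointOfClosedPoint_apply _ P hP a
    · intro hz
      exact ⟨default, (pointOfClosedPoint_apply _ P hP default).trans
        (Set.mem_singleton_iff.mp hz).symm⟩
  rw [← Groth.Agent.Lib.Helper7.PtDiv.ker_eq_vanishingIdeal_of_range _ P hP hr]
  exact finrank_h0_quotMod_ker_of_section' k _ hx

/-- `H¹(I_P) = 0` when `H¹(O) = 0`, for a closed point `P` of a proper scheme over an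
algebraically closed field (no integrality assumption) -/
theorem h1_idealMod_point [IsAlgClosed k] (P : X) (hP : IsClosed ({P} : Set X))
    (hg : Subsingleton (Coh.HH X (Coh.structureModule X) 1)) :
    Subsingleton (Coh.HH X
      (ClSub.idealMod (Scheme.IdealSheafData.vanishingIdeal (⟨{P}, hP⟩ : Closeds X))) 1) := by
  set Z := Scheme.IdealSheafData.vanishingIdeal (⟨{P}, hP⟩ : Closeds X) with hZ
  have hS := shortExact_ideal Z
  have hfr : Module.finrank k (Coh.HH X (ClSub.quotMod Z) 0) = 1 :=
    finrank_h0_quotMod_closedPoint' k P hP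
  let g : Coh.HH X (Coh.structureModule X) 0 →ₗ[k] Coh.HH X (ClSub.quotMod Z) 0 :=
    HmapL k (ClSub.toSubscheme Z) 0
  let u : Coh.HH X (Coh.structureModule X) 0 := Gaeta.dict0 k _ (𝟙 (Coh.structureModule X))
  have hgu : g u = Gaeta.dict0 k _ (ClSub.toSubscheme Z) := by
    have h1 := Gaeta.dict0_natural k (ClSub.toSubscheme Z) (𝟙 (Coh.structureModule X))
    rw [Category.id_comp] at h1
    exact h1.symm
  have hv : g u ≠ 0 := by
    intro h0
    rw [hgu] at h0
    have h1 : ClSub.toSubscheme Z = 0 := by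
      apply Gaeta.dict0_injective k
      rw [h0, _root_.map_zero]
    haveI : Epi (ClSub.toSubscheme Z) := hS.epi_g
    have hz : IsZero (ClSub.quotMod Z) := IsZero.of_epi_eq_zero _ h1
    have hall : ∀ x : Coh.HH X (ClSub.quotMod Z) 0, x = 0 := by
      intro x
      have h2 : Hmap (𝟙 (ClSub.quotMod Z)) 0 x = x := Hmap_id _ 0 x
      rw [hz.eq_zero_of_src (𝟙 _)] at h2
      exact h2.symm.trans (Hmap_zero 0 x)
    haveI : Subsingleton (Coh.HH X (ClSub.quotMod Z) 0) :=
      ⟨fun a b => (hall a).trans (hall b).symm⟩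
    have := Module.finrank_zero_of_subsingleton (R := k) (M := Coh.HH X (ClSub.quotMod Z) 0)
    omega
  have hsurj : Function.Surjective g := by
    have h1 := (finrank_eq_one_iff_of_nonzero' (g u) hv).1 hfr
    intro w
    obtain ⟨c, hc⟩ := h1 w
    exact ⟨c • u, by rw [_root_.map_smul, hc]⟩
  have key : ∀ x : Coh.HH X (ClSub.idealMod Z) 1, x = 0 := by
    intro x
    obtain ⟨y, hy⟩ := exact₁ _ hS 0 x (@Subsingleton.elim _ hg _ _)
    obtain ⟨z, hz⟩ := hsurj y
    rw [← hy, ← hz]
    exact Hδ_Hmap_g _ hS 0 z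
  exact ⟨fun a b => (key a).trans (key b).symm⟩

end Point

end Groth.Agent.Lib.Helper7.GGNodal
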