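import Groth.Agent.Lib.Helper3.InvGen
import Groth.Agent.Lib.Helper3.IdealMod
import Groth.Agent.Lib.Helper3.ModGlue
import Groth.Agent.Lib.Helper17.EffCartMod

/-!
# Endomorphisms of invertible modules; linearly equivalent nested effective divisors (helper7)

* `exists_scalar_of_end`: an endomorphism of an invertible module is multiplication by a global
  function.
* `le_of_iso_of_artinian`: if `Γ(X, O_X)` is Artinian, `D₂ ≤ D₁` with `I_{D₁}` invertible and
  `I_{D₁} ≅ I_{D₂}`, then `D₁ ≤ D₂`.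
-/

set_option autoImplicit false
set_option linter.unusedSectionVars false
set_option linter.style.haveILetI false
universe u
open CategoryTheory CategoryTheory.Limits AlgebraicGeometry TopologicalSpace Opposite
open Scheme.Modules

noncomputable section

namespace Groth.Agent.Lib.Helper7.InvEnd

open Groth.Agent.Lib.Helper3
open QCSec InvGen IdealMod

variable {X : Scheme.{u}}

/-- an endomorphism of an invertible module is multiplication by a global function. -/
theorem exists_scalar_of_end {L : X.Modules} (hL : PicF.IsInvertible L) (ψ : L ⟶ L) :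
    ∃ a : Γ(X, ⊤), ∀ (V : X.Opens) (t : Γ(L, V)), ψ.app V t = rres X (le_top : V ≤ ⊤) a • t := by
  choose U e hxU hg using fun x => exists_isGen hL x
  have hcoord : ∀ x, ∃ a : Γ(X, U x), a • e x = ψ.app (U x) (e x) :=
    fun x => (hg x).self.exists_coord _
  choose a ha using hcoord
  have key : ∀ (x : X) (V : X.Opens) (hV : V ≤ U x) (t : Γ(L, V)),
      ψ.app V t = rres X hV (a x) • t := by
    intro x V hV t
    obtain ⟨b, rfl⟩ := (hg x V hV).exists_coord t
    rw [Scheme.Modules.Hom.app_smul, QCExact.app_res', ← ha x, res_smul, smul_smul, smul_smul,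
      mul_comm]
  have hcompat : ∀ x y, rres X (inf_le_left : U x ⊓ U y ≤ U x) (a x) =
      rres X (inf_le_right : U x ⊓ U y ≤ U y) (a y) := by
    intro x y
    apply (hg y _ inf_le_right).smul_inj
    rw [← key x _ inf_le_left, ← key y _ inf_le_right]
  obtain ⟨b, hb⟩ := fun_glue U ⊤ (fun _ => le_top)
    (fun y _ => Opens.mem_iSup.mpr ⟨y, hxU y⟩) a hcompat
  refine ⟨b, fun V t => ?_⟩
  apply sec_eq_of_locally_eq L (fun x => V ⊓ U x) V (fun _ => inf_le_left)
    (fun y hy => Opens.mem_iSup.mpr ⟨y, hy, hxU y⟩)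
  intro x
  rw [← QCExact.app_res', res_smul, key x _ inf_le_right, rres_rres, ← hb x, rres_rres]

section Nested

variable (D₁ D₂ : X.IdealSheafData) (hle : D₂ ≤ D₁)

include hle in
lemma ι_comp_toSubscheme : ClSub.idealModι D₂ ≫ ClSub.toSubscheme D₁ = 0 := by
  apply ModGlue.hom_ext_of_small (fun V => IsAffineOpen V)
  · intro W x hx
    obtain ⟨V, hV, hxV, hVW⟩ :=
      Opens.isBasis_iff_nbhd.mp (Scheme.isBasis_affineOpens X) hx
    exact ⟨V, hV, hxV, hVW⟩
  · intro V hV t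
    change ofFun _ (D₁.subschemeι.app V (IdealMod.val D₂ t)) = 0
    have hmem : IdealMod.val D₂ t ∈ D₁.ideal ⟨V, hV⟩ :=
      hle ⟨V, hV⟩ ((Groth.Agent.Lib.Helper17.EffCartMod.mem_ideal_iff D₂ ⟨V, hV⟩ _).mpr ⟨t, rfl⟩)
    have h2 := (Scheme.IdealSheafData.ker_subschemeι_app D₁ ⟨V, hV⟩).ge hmem
    rw [RingHom.mem_ker.mp h2]
    rfl

/-- the inclusion `I_{D₂} ⟶ I_{D₁}` for `D₂ ≤ D₁`. -/
def incl : ClSub.idealMod D₂ ⟶ ClSub.idealMod D₁ :=
  kernel.lift (ClSub.toSubscheme D₁) (ClSub.idealModι D₂) (ι_comp_toSubscheme D₁ D₂ hle)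

lemma incl_ι : incl D₁ D₂ hle ≫ ClSub.idealModι D₁ = ClSub.idealModι D₂ :=
  kernel.lift_ι _ _ _

lemma val_incl (V : X.Opens) (t : Γ(ClSub.idealMod D₂, V)) :
    IdealMod.val D₁ ((incl D₁ D₂ hle).app V t) = IdealMod.val D₂ t :=
  congrArg (fun φ => toFun V (Scheme.Modules.Hom.app φ V t)) (incl_ι D₁ D₂ hle)

instance mono_incl : Mono (incl D₁ D₂ hle) :=
  mono_of_mono_fac (incl_ι D₁ D₂ hle)

include hle in
theorem le_of_iso_of_artinian [IsArtinianRing Γ(X, ⊤)]
    (h₁ : PicF.IsInvertible (ClSub.idealMod D₁))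
    (φ : ClSub.idealMod D₁ ≅ ClSub.idealMod D₂) : D₁ ≤ D₂ := by
  let ψ : ClSub.idealMod D₁ ⟶ ClSub.idealMod D₁ := φ.hom ≫ incl D₁ D₂ hle
  haveI : Mono ψ := mono_comp _ _
  obtain ⟨a, ha⟩ := exists_scalar_of_end h₁ ψ
  choose U e hxU hg using fun x => exists_isGen h₁ x
  have hz : ∀ b : Γ(X, ⊤), b * a = 0 → b = 0 := by
    intro b hb
    apply fun_eq_of_locally_eq U ⊤ (fun _ => le_top) (fun y _ => Opens.mem_iSup.mpr ⟨y, hxU y⟩)
    intro x
    have h0 : rres X (le_top : U x ≤ ⊤) (0 : Γ(X, ⊤)) = 0 :=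
      map_zero (X.presheaf.map (homOfLE (le_top : U x ≤ ⊤)).op).hom
    rw [h0]
    apply (hg x).self.eq_zero
    apply QCExact.injective_sections ψ (U x)
    rw [ha, smul_smul, ← rres_mul, mul_comm, hb, h0, zero_smul, map_zero]
  have hnzd : a ∈ nonZeroDivisors Γ(X, ⊤) :=
    mem_nonZeroDivisors_iff.mpr ⟨fun b hb => hz b (by rw [mul_comm]; exact hb), hz⟩
  obtain ⟨a', haa'⟩ := (IsArtinianRing.isUnit_of_mem_nonZeroDivisors hnzd).exists_right_inv
  intro V g hg'
  obtain ⟨s, rfl⟩ := (Groth.Agent.Lib.Helper17.EffCartMod.mem_ideal_iff D₁ V _).mp hg'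
  have h1 : ψ.app V.1 (rres X (le_top : V.1 ≤ ⊤) a' • s) = s := by
    rw [ha, smul_smul, ← rres_mul, haa', rres_one, one_smul]
  have h2 : IdealMod.val D₁ s =
      IdealMod.val D₂ (φ.hom.app V.1 (rres X (le_top : V.1 ≤ ⊤) a' • s)) := by
    rw [← val_incl D₁ D₂ hle]
    exact congrArg _ h1.symm
  rw [h2]
  exact (Groth.Agent.Lib.Helper17.EffCartMod.mem_ideal_iff D₂ V _).mpr ⟨_, rfl⟩

end Nested

end Groth.Agent.Lib.Helper7.InvEnd
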