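import Mathlib
import Groth.Prelude

/-!
# `P^n_Y ⟶ Y` is flat

`P^n_ℤ ⟶ Spec ℤ` is flat since the coordinate rings of the standard charts are torsion-free
`ℤ`-modules (subrings of localizations of the domain `ℤ[x_0..x_n]`); flatness is stable under base
change.
-/

set_option autoImplicit false
universe u
open CategoryTheory CategoryTheory.Limits AlgebraicGeometry TopologicalSpace Opposite

noncomputable section

namespace Groth.Agent.Lib.Helper7.PnFlat

instance : IsDomain (ULift.{u} ℤ) := MulEquiv.isDomain ℤ (ULift.ringEquiv (R := ℤ)).toMulEquiv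

instance : IsPrincipalIdealRing (ULift.{u} ℤ) :=
  IsPrincipalIdealRing.of_surjective (ULift.ringEquiv (R := ℤ)).symm.toRingHom
    (ULift.ringEquiv (R := ℤ)).symm.surjective

variable (n : ℕ)


open HomogeneousLocalization in
/-- degree-zero localizations of a graded domain, torsion-free over a Bézout domain, are flat. -/
lemma flat_chart_aux {R A : Type u} [CommRing R] [IsDomain R] [IsBezout R] [CommRing A] [IsDomain A]
    [Algebra R A] (hinj : Function.Injective (algebraMap R A))
    (𝒜 : ℕ → Submodule R A) [GradedAlgebra 𝒜] (f : A) :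
    ((fromZeroRingHom 𝒜 (Submonoid.powers f)).comp (algebraMap R (𝒜 0))).Flat := by
  let ψ := (fromZeroRingHom 𝒜 (Submonoid.powers f)).comp (algebraMap R (𝒜 0))
  letI : Algebra R (HomogeneousLocalization 𝒜 (Submonoid.powers f)) := ψ.toAlgebra
  change Module.Flat R (HomogeneousLocalization 𝒜 (Submonoid.powers f))
  by_cases hf : f = 0
  · -- the zero ring
    haveI : Subsingleton (HomogeneousLocalization 𝒜 (Submonoid.powers f)) :=
      HomogeneousLocalization.subsingleton 𝒜 ⟨1, by simp [hf]⟩
    infer_instance
  · rw [Module.Flat.flat_iff_torsion_eq_bot_of_isBezout, eq_bot_iff]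
    intro z hz
    rw [Submodule.mem_torsion_iff] at hz
    obtain ⟨a, ha⟩ := hz
    rw [Submodule.mem_bot]
    have hM : Submonoid.powers f ≤ nonZeroDivisors A :=
      Submonoid.powers_le.mpr (mem_nonZeroDivisors_of_ne_zero hf)
    haveI : IsDomain (Localization (Submonoid.powers f)) :=
      IsLocalization.isDomain_localization hM
    apply HomogeneousLocalization.val_injective
    rw [HomogeneousLocalization.val_zero]
    have ha' : ψ (a : R) * z = 0 := ha
    have h2 := congrArg HomogeneousLocalization.val ha'
    rw [HomogeneousLocalization.val_mul, HomogeneousLocalization.val_zero] at h2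
    rcases mul_eq_zero.mp h2 with h3 | h3
    · exfalso
      have h4 : (ψ (a : R)).val =
          algebraMap A (Localization (Submonoid.powers f)) (algebraMap R A (a : R)) := by
        change Localization.mk ((algebraMap R (𝒜 0) (a : R) : 𝒜 0) : A)
          (1 : Submonoid.powers f) = _
        rw [Localization.mk_one_eq_algebraMap]
        rfl
      rw [h4] at h3
      have h5 := (IsLocalization.injective (Localization (Submonoid.powers f)) hM)
        (h3.trans (map_zero _).symm)
      have h6 : (a : R) = 0 := hinj (h5.trans (map_zero _).symm)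
      exact nonZeroDivisors.coe_ne_zero a h6
    · exact h3

/-- the chart rings of `P^n_ℤ` are flat over `ℤ`. -/
lemma flat_chart (f : MvPolynomial (Fin (n + 1)) (ULift.{u} ℤ)) :
    ((HomogeneousLocalization.fromZeroRingHom (CohB1.polyGrading n (ULift.{u} ℤ))
      (Submonoid.powers f)).comp
      (algebraMap (ULift.{u} ℤ) ((CohB1.polyGrading n (ULift.{u} ℤ)) 0))).Flat :=
  flat_chart_aux (MvPolynomial.C_injective _ _) (CohB1.polyGrading n (ULift.{u} ℤ)) f

set_option backward.isDefEq.respectTransparency false in
/-- `P^n_ℤ ⟶ Spec ℤ` is flat. -/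
instance flat_toSpec : Flat (CohB1.ProjSpace.toSpec n (ULift.{u} ℤ)) := by
  refine IsZariskiLocalAtSource.of_openCover (P := @Flat)
    (Proj.affineOpenCover (CohB1.polyGrading n (ULift.{u} ℤ))).openCover ?_
  intro i
  change Flat (Proj.awayι (CohB1.polyGrading n (ULift.{u} ℤ)) _ _ _ ≫
    Proj.toSpecZero (CohB1.polyGrading n (ULift.{u} ℤ)) ≫ Spec.map _)
  rw [Proj.awayι_toSpecZero_assoc, ← Spec.map_comp, Flat.SpecMap_iff]
  exact flat_chart n _

set_option backward.isDefEq.respectTransparency false in
/-- `P^n_Y ⟶ Y` is flat. -/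
instance flat_toBase (Y : Scheme.{u}) : Flat (CohB1.ProjSpaceOver.toBase n Y) := by
  haveI := flat_toSpec.{u} n
  unfold CohB1.ProjSpaceOver.toBase
  infer_instance

end Groth.Agent.Lib.Helper7.PnFlat
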