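import Groth.Agent.Lib.Helper3.PIso
import Groth.Agent.Lib.Helper3.Cocycle
import Groth.Agent.Lib.Helper3.ProjPullGen

/-!
# The pullback of `O(1)` along `P^n_R ⟶ P^n_ℤ` is `O(1)`
-/

set_option autoImplicit false
set_option linter.unusedSectionVars false
set_option linter.style.haveILetI false
universe u
open CategoryTheory CategoryTheory.Limits AlgebraicGeometry TopologicalSpace Opposite
open Scheme.Modules
open scoped HomogeneousIdeal

noncomputable section

namespace Groth.Agent.Lib.Helper7.GmapTwist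

open Groth.Agent.Lib.Helper3
open QCSec InvGen TwistBasic GrTildeQC ProjFrac GrTildeHom ToProj TwistProj PbBasic ProjPullGen
  ProjHet PEmb1 PEmb2 VAConv

variable (n : ℕ) (R : Type u) [CommRing R]

/-- the standard open `D₊(x_k)` of `P^n_R`. -/
abbrev DR (k : κ.{u} n) : (Proj (CohB1.polyGrading n R)).Opens :=
  Proj.basicOpen (CohB1.polyGrading n R) (MvPolynomial.X k.down)

/-- the standard open `D₊(x_k)` of `P^n_ℤ`. -/
abbrev DZ (k : κ.{u} n) : (Proj (CohB1.polyGrading n (ULift.{u} ℤ))).Opens :=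
  Proj.basicOpen (CohB1.polyGrading n (ULift.{u} ℤ)) (MvPolynomial.X k.down)

lemma iSup_DR : iSup (DR n R) = ⊤ := by
  rw [eq_top_iff]
  intro x _
  obtain ⟨j, hj⟩ := exists_mem_basicOpen_X R n x
  exact Opens.mem_iSup.2 ⟨⟨j⟩, hj⟩

/-- `gmap`, with its target written as a `Proj`. -/
def gm : Proj (CohB1.polyGrading n R) ⟶ Proj (CohB1.polyGrading n (ULift.{u} ℤ)) := gmap n R

lemma DR_le (k : κ.{u} n) : DR n R k ≤ gm n R ⁻¹ᵁ DZ n k := by
  have h : gm n R ⁻¹ᵁ DZ n k = Proj.basicOpen (CohB1.polyGrading n R)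
      (mapG n (θ₀ R) (MvPolynomial.X k.down)) := rfl
  rw [h, mapG_apply, MvPolynomial.map_X]

/-- `gmap` on the standard fractions. -/
lemma gmap_appLE_fn (k j : κ.{u} n) (V : (Proj (CohB1.polyGrading n R)).Opens)
    (e : V ≤ gm n R ⁻¹ᵁ DZ n j) :
    (gm n R).appLE (DZ n j) V e (fn (DZ n j) (MvPolynomial.X k.down) (MvPolynomial.X j.down)) =
      fn V (MvPolynomial.X k.down) (MvPolynomial.X j.down) := by
  have hgood : Good (DZ n j) (MvPolynomial.X k.down : MvPolynomial (Fin (n + 1)) (ULift.{u} ℤ))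
      (MvPolynomial.X j.down) := good_of_mem (hXZ n k.down) (hXZ n j.down) (fun x => x.2)
  have h1 : (gm n R).app (DZ n j) (fn (DZ n j) (MvPolynomial.X k.down) (MvPolynomial.X j.down)) =
      fn (gm n R ⁻¹ᵁ DZ n j) (mapG n (θ₀ R) (MvPolynomial.X k.down))
        (mapG n (θ₀ R) (MvPolynomial.X j.down)) :=
    app_fn (mapG n (θ₀ R)) (irr_mapG n (θ₀ R)) hgood
  have h2 : (gm n R).appLE (DZ n j) V e
      (fn (DZ n j) (MvPolynomial.X k.down) (MvPolynomial.X j.down)) =
      rres _ e ((gm n R).app (DZ n j)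
        (fn (DZ n j) (MvPolynomial.X k.down) (MvPolynomial.X j.down))) := rfl
  have h3 : fn V (mapG n (θ₀ R) (MvPolynomial.X k.down)) (mapG n (θ₀ R) (MvPolynomial.X j.down)) =
      fn V (MvPolynomial.X k.down : MvPolynomial (Fin (n + 1)) R) (MvPolynomial.X j.down) := by
    rw [mapG_apply, mapG_apply, MvPolynomial.map_X, MvPolynomial.map_X]
  rw [h2, h1]
  exact (rres_fn e (good_map (mapG n (θ₀ R)) (irr_mapG n (θ₀ R)) hgood)).trans h3

/-- `gmap^* O(1) ≅ O(1)`. -/
theorem nonempty_iso_gm :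
    Nonempty ((Scheme.Modules.pullback (gm n R)).obj
        (Twist.twist (CohB1.polyGrading n (ULift.{u} ℤ)) ((1 : ℕ) : ℤ)) ≅
      Twist.twist (CohB1.polyGrading n R) ((1 : ℕ) : ℤ)) := by
  let L₁ := (Scheme.Modules.pullback (gm n R)).obj
    (Twist.twist (CohB1.polyGrading n (ULift.{u} ℤ)) ((1 : ℕ) : ℤ))
  let L₂ := Twist.twist (CohB1.polyGrading n R) ((1 : ℕ) : ℤ)
  let s : ∀ k : κ.{u} n, Γ(L₁, DR n R k) := fun k =>
    res L₁ (le_top : DR n R k ≤ ⊤) (gpull (gm n R) _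
      (gsec (⟨MvPolynomial.X k.down, hXZ n k.down⟩ : CohB1.polyGrading n (ULift.{u} ℤ) 1)))
  let s' : ∀ k : κ.{u} n, Γ(L₂, DR n R k) := fun k =>
    res L₂ (le_top : DR n R k ≤ ⊤)
      (gsec (⟨MvPolynomial.X k.down, hXR n k.down⟩ : CohB1.polyGrading n R 1))
  have hs : ∀ k, IsGen L₁ (DR n R k) (s k) := by
    intro k
    have h1 := (isGen_gpull_gsec (gm n R) (hXZ n k.down)).mono (DR_le n R k)
    rwa [res_res] at h1
  have hs' : ∀ k, IsGen L₂ (DR n R k) (s' k) := fun k =>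
    isGen_res_gsec (⟨MvPolynomial.X k.down, hXR n k.down⟩ : CohB1.polyGrading n R 1) le_rfl
  let η : ∀ k j : κ.{u} n, Γ(Proj (CohB1.polyGrading n R), DR n R k ⊓ DR n R j) := fun k j =>
    fn (DR n R k ⊓ DR n R j) (MvPolynomial.X k.down) (MvPolynomial.X j.down)
  have hη : ∀ k j, res L₁ (inf_le_left : DR n R k ⊓ DR n R j ≤ DR n R k) (s k) =
      η k j • res L₁ (inf_le_right : DR n R k ⊓ DR n R j ≤ DR n R j) (s j) := by
    intro k j
    have e : DR n R k ⊓ DR n R j ≤ gm n R ⁻¹ᵁ DZ n j := inf_le_right.trans (DR_le n R j)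
    have h1 := res_gpull_gsec (gm n R) (hXZ n j.down) (hXZ n k.down) (DR n R k ⊓ DR n R j) e
    rw [gmap_appLE_fn n R k j _ e] at h1
    change res L₁ _ (res L₁ _ _) = η k j • res L₁ _ (res L₁ _ _)
    rw [res_res, res_res]
    exact h1
  have hη' : ∀ k j, res L₂ (inf_le_left : DR n R k ⊓ DR n R j ≤ DR n R k) (s' k) =
      η k j • res L₂ (inf_le_right : DR n R k ⊓ DR n R j ≤ DR n R j) (s' j) := by
    intro k j
    have h1 := res_gsec_eq_fn_smul (𝒜 := CohB1.polyGrading n R) (U := DR n R k ⊓ DR n R j)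
      (hXR n j.down) inf_le_right (hXR n k.down)
    change res L₂ _ (res L₂ _ _) = η k j • res L₂ _ (res L₂ _ _)
    rw [res_res, res_res]
    exact h1
  exact Cocycle.nonempty_iso_of_units (DR n R) (iSup_DR n R) s s' hs hs' η η hη hη'
    (fun _ => 1) (fun i j => by simp only [Units.val_one, rres_one, mul_one, one_mul])

/-- `gmap^* O(1) ≅ O(1)`. -/
theorem nonempty_iso :
    Nonempty ((Scheme.Modules.pullback (gmap n R)).obj
        (Twist.twistProjSpace n (ULift.{u} ℤ) 1) ≅ Twist.twistProjSpace n R 1) :=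
  nonempty_iso_gm n R

end Groth.Agent.Lib.Helper7.GmapTwist
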