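import Groth.Agent.Lib.Helper7.RelAmpleVan
import Groth.Agent.Lib.Helper7.GmapTwist
import Groth.Agent.Lib.Helper7.Mumford
import Groth.Agent.Lib.Helper7.AmpleRes2
import Groth.Agent.Lib.Helper7.PushLinear
import Groth.Agent.Lib.Helper3.PIso
import Groth.Agent.Lib.Helper2.Mon.PullTensor
import Groth.Agent.Lib.Helper17.PbStalk
import Groth.Agent.Lib.Helper8.ProperAtDvr
import Groth.Agent.S0844

/-!
# Projective space over a scheme, over the affine opens of the base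

For an affine open `W = Spec R` of `Y`, the open `p⁻¹(W)` of `P^n_Y` is `P^n_R`; we build the open
immersion `j : P^n_R ⟶ P^n_Y`, show `j^* O(d) ≅ O(d)`, and transfer cohomology:
`H^i(p⁻¹W, M) = 0 ↔ H^i(P^n_R, j^* M) = 0`.
-/

set_option autoImplicit false
set_option linter.unusedSectionVars false
set_option linter.style.haveILetI false
universe u
open CategoryTheory CategoryTheory.Limits AlgebraicGeometry TopologicalSpace Opposite
open Scheme.Modules

noncomputable section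

namespace Groth.Agent.Lib.Helper7.PnOver

open Groth.Agent.Lib.Helper3 Groth.Agent.Lib.Helper13 Groth.Agent.Lib.Helper2
open InvMonoidal

/-- for mutually inverse isomorphisms of schemes, pushforward along one is pullback along the
other. -/
def pushIsoPull {X Y : Scheme.{u}} (ψ : X ⟶ Y) (c : Y ⟶ X) (h1 : ψ ≫ c = 𝟙 X)
    (h2 : c ≫ ψ = 𝟙 Y) : Scheme.Modules.pushforward ψ ≅ Scheme.Modules.pullback c :=
  let E : X.Modules ≌ Y.Modules := CategoryTheory.Equivalence.mk (Scheme.Modules.pushforward ψ)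
    (Scheme.Modules.pushforward c)
    ((Scheme.Modules.pushforwardId X).symm ≪≫ Scheme.Modules.pushforwardCongr h1.symm ≪≫
      (Scheme.Modules.pushforwardComp ψ c).symm)
    (Scheme.Modules.pushforwardComp c ψ ≪≫ Scheme.Modules.pushforwardCongr h2 ≪≫
      Scheme.Modules.pushforwardId Y)
  Adjunction.leftAdjointUniq E.toAdjunction (Scheme.Modules.pullbackPushforwardAdjunction c)

section Geometry

variable (n : ℕ) (Y : Scheme.{u}) {W : Y.Opens} (hW : IsAffineOpen W)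

/-- the projection `P^n_Y ⟶ P^n_ℤ`. -/
abbrev qq : CohB1.ProjSpaceOver n Y ⟶ CohB1.ProjSpace n (ULift.{u} ℤ) :=
  pullback.fst (CohB1.ProjSpace.toSpec n (ULift.{u} ℤ)) (specULiftZIsTerminal.from Y)

/-- the structure morphism `P^n_Y ⟶ Y`. -/
abbrev pp : CohB1.ProjSpaceOver n Y ⟶ Y := CohB1.ProjSpaceOver.toBase n Y

/-- `p⁻¹(W) ⟶ P^n_ℤ`. -/
def aZ (W : Y.Opens) : (↑(pp n Y ⁻¹ᵁ W) : Scheme.{u}) ⟶ CohB1.ProjSpace n (ULift.{u} ℤ) :=
  (pp n Y ⁻¹ᵁ W).ι ≫ qq n Y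

/-- `p⁻¹(W) ⟶ Spec Γ(Y, W)`. -/
def bZ : (↑(pp n Y ⁻¹ᵁ W) : Scheme.{u}) ⟶ Spec (CommRingCat.of ↑Γ(Y, W)) :=
  (pp n Y ∣_ W) ≫ hW.isoSpec.hom

lemma isPullback_Z : IsPullback (aZ n Y W) (bZ n Y hW)
    (CohB1.ProjSpace.toSpec n (ULift.{u} ℤ))
    (specULiftZIsTerminal.from (Spec (CommRingCat.of ↑Γ(Y, W)))) := by
  have hA : IsPullback (pp n Y ⁻¹ᵁ W).ι (pp n Y ∣_ W) (pp n Y) W.ι :=
    (isPullback_morphismRestrict (pp n Y) W).flip
  have hB : IsPullback (qq n Y) (pp n Y) (CohB1.ProjSpace.toSpec n (ULift.{u} ℤ))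
      (specULiftZIsTerminal.from Y) := IsPullback.of_hasPullback _ _
  have hAB := hA.paste_horiz hB
  refine hAB.of_iso (Iso.refl _) (Iso.refl _) hW.isoSpec (Iso.refl _) ?_ ?_ ?_ ?_
  · simp [aZ]
  · simp [bZ]
  · simp
  · exact specULiftZIsTerminal.hom_ext _ _

/-- the isomorphism `P^n_R ⟶ p⁻¹(W)`. -/
def cZ : CohB1.ProjSpace n ↑Γ(Y, W) ⟶ (↑(pp n Y ⁻¹ᵁ W) : Scheme.{u}) :=
  (isPullback_Z n Y hW).lift (PEmb2.gmap n ↑Γ(Y, W)) (CohB1.ProjSpace.toSpec n ↑Γ(Y, W))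
    (specULiftZIsTerminal.hom_ext _ _)

instance isIso_cZ : IsIso (cZ n Y hW) :=
  PIso.isIso_lift n (aZ n Y W) (bZ n Y hW) (isPullback_Z n Y hW)

lemma cZ_aZ : cZ n Y hW ≫ aZ n Y W = PEmb2.gmap n ↑Γ(Y, W) :=
  (isPullback_Z n Y hW).lift_fst _ _ _

/-- the open immersion `P^n_R ⟶ P^n_Y` with image `p⁻¹(W)`. -/
def jZ : CohB1.ProjSpace n ↑Γ(Y, W) ⟶ CohB1.ProjSpaceOver n Y :=
  cZ n Y hW ≫ (pp n Y ⁻¹ᵁ W).ι

lemma jZ_qq : jZ n Y hW ≫ qq n Y = PEmb2.gmap n ↑Γ(Y, W) := by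
  rw [jZ, Category.assoc]
  exact cZ_aZ n Y hW

end Geometry

section Twist

open Groth.Agent.Lib.Helper7.TwProj TwistMul PbTensor PbBasic

/-- uniqueness of tensor inverses. -/
def inverseUnique {X : Scheme.{u}} {L M N : X.Modules}
    (e1 : CohB1.tensorMod M L ≅ Coh.structureModule X)
    (e2 : CohB1.tensorMod L N ≅ Coh.structureModule X) : M ≅ N :=
  (SecTwist.unitorR M).symm ≪≫ tensorMapIso (Iso.refl M) e2.symm ≪≫ (assoc M L N).symm ≪≫
    tensorMapIso e1 (Iso.refl N) ≪≫ unitorL N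

variable (n : ℕ) (R : Type u) [CommRing R]

/-- `gmap^* O(k) ≅ O(k)` for `k ≥ 0`. -/
theorem nonempty_gmap_twist_iso_nat (k : ℕ) :
    Nonempty ((Scheme.Modules.pullback (PEmb2.gmap n R)).obj
        (Twist.twistProjSpace n (ULift.{u} ℤ) (k : ℤ)) ≅ Twist.twistProjSpace n R (k : ℤ)) := by
  obtain ⟨e1⟩ := GmapTwist.nonempty_iso n R
  have hz := Mumford.hU n (ULift.{u} ℤ)
  have hr := Mumford.hU n R
  exact ⟨(Scheme.Modules.pullback (PEmb2.gmap n R)).mapIso (powIso (hz 1) k) ≪≫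
    pbPowIso (PEmb2.gmap n R) _ (isInvertible_twist hz 1) k ≪≫ tensorPowIso e1 k ≪≫
    (powIso (hr 1) k).symm⟩

/-- `gmap^* O(d) ≅ O(d)` for all `d`. -/
theorem nonempty_gmap_twist_iso (d : ℤ) :
    Nonempty ((Scheme.Modules.pullback (PEmb2.gmap n R)).obj
        (Twist.twistProjSpace n (ULift.{u} ℤ) d) ≅ Twist.twistProjSpace n R d) := by
  have hz := Mumford.hU n (ULift.{u} ℤ)
  have hr := Mumford.hU n R
  obtain ⟨k, rfl | rfl⟩ := d.eq_nat_or_neg
  · exact nonempty_gmap_twist_iso_nat n R k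
  · obtain ⟨eB⟩ := nonempty_gmap_twist_iso_nat n R k
    let g := PEmb2.gmap n R
    have e1' : CohB1.tensorMod ((Scheme.Modules.pullback g).obj
          (Twist.twistProjSpace n (ULift.{u} ℤ) (-(k : ℤ))))
        ((Scheme.Modules.pullback g).obj (Twist.twistProjSpace n (ULift.{u} ℤ) (k : ℤ))) ≅
        Coh.structureModule _ :=
      (pbTensorIso g _ _ (isInvertible_twist hz (-(k : ℤ))) (isInvertible_twist hz (k : ℤ))).symm ≪≫
        (Scheme.Modules.pullback g).mapIso (braid _ _ ≪≫ pairIso hz (k : ℤ)) ≪≫ pbUnit g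
    exact ⟨inverseUnique (tensorMapIso (Iso.refl _) eB.symm ≪≫ e1') (pairIso hr (k : ℤ))⟩

end Twist

section Transfer

variable (n : ℕ) (Y : Scheme.{u}) {W : Y.Opens} (hW : IsAffineOpen W)

/-- cohomology over `p⁻¹(W)` is cohomology of the pullback to `P^n_R`. -/
theorem sub_transfer (M : (CohB1.ProjSpaceOver n Y).Modules) (i : ℕ) :
    Subsingleton (Coh.HHon (CohB1.ProjSpaceOver n Y) M (pp n Y ⁻¹ᵁ W) i) ↔
      Subsingleton (Coh.HH (CohB1.ProjSpace n ↑Γ(Y, W))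
        ((Scheme.Modules.pullback (jZ n Y hW)).obj M) i) := by
  let c := cZ n Y hW
  let ψ := inv c
  have e := Groth.Agent.Lib.Helper7.PushLinear.pushEquiv ψ (M.restrict (pp n Y ⁻¹ᵁ W).ι) i
  let t : (Scheme.Modules.pushforward ψ).obj (M.restrict (pp n Y ⁻¹ᵁ W).ι) ≅
      (Scheme.Modules.pullback (jZ n Y hW)).obj M :=
    (pushIsoPull ψ c (IsIso.inv_hom_id c) (IsIso.hom_inv_id c)).app _ ≪≫
      (Scheme.Modules.pullback c).mapIso
        ((Scheme.Modules.restrictFunctorIsoPullback (pp n Y ⁻¹ᵁ W).ι).app M) ≪≫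
      (Scheme.Modules.pullbackComp c (pp n Y ⁻¹ᵁ W).ι).app M
  constructor
  · intro h
    haveI := h
    have h2 : Subsingleton (Coh.HH _ ((Scheme.Modules.pushforward ψ).obj
        (M.restrict (pp n Y ⁻¹ᵁ W).ι)) i) := e.symm.toEquiv.subsingleton
    exact Groth.Agent.Lib.Helper7.TwFun.subsingleton_HH_of_iso t.symm i h2
  · intro h
    have h2 : Subsingleton (Coh.HH _ ((Scheme.Modules.pushforward ψ).obj
        (M.restrict (pp n Y ⁻¹ᵁ W).ι)) i) :=
      Groth.Agent.Lib.Helper7.TwFun.subsingleton_HH_of_iso t i h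
    haveI := h2
    exact e.toEquiv.subsingleton

/-- `j^* O(d) ≅ O(d)`. -/
theorem nonempty_jZ_twist_iso (d : ℤ) :
    Nonempty ((Scheme.Modules.pullback (jZ n Y hW)).obj (Twist.twistOver n Y d) ≅
      Twist.twistProjSpace n ↑Γ(Y, W) d) := by
  obtain ⟨e⟩ := nonempty_gmap_twist_iso n ↑Γ(Y, W) d
  exact ⟨(Scheme.Modules.pullbackComp (jZ n Y hW) (qq n Y)).app _ ≪≫
    (Scheme.Modules.pullbackCongr (jZ_qq n Y hW)).app _ ≪≫ e⟩

/-- `j^*(O(d) ⊗ F) ≅ j^*F ⊗ O(d)`. -/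
theorem nonempty_jZ_twF_iso (d : ℤ) (F : (CohB1.ProjSpaceOver n Y).Modules) :
    Nonempty ((Scheme.Modules.pullback (jZ n Y hW)).obj (KRR.twF n Y d F) ≅
      CohB1.tensorMod ((Scheme.Modules.pullback (jZ n Y hW)).obj F)
        (Twist.twistProjSpace n ↑Γ(Y, W) d)) := by
  obtain ⟨e⟩ := nonempty_jZ_twist_iso n Y hW d
  exact ⟨(Mon.pullTensorIso (jZ n Y hW) (Twist.twistOver n Y d) F).symm ≪≫
    tensorMapIso e (Iso.refl _) ≪≫ braid _ _⟩

end Transfer

section Regular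

variable (n : ℕ) (Y : Scheme.{u})

lemma isInvertible_twistOver (d : ℤ) : PicF.IsInvertible (Twist.twistOver n Y d) :=
  PbBasic.isInvertible_pullback _
    (Groth.Agent.Lib.Helper7.TwProj.isInvertible_twist (Mumford.hU n (ULift.{u} ℤ)) d)

lemma isQCoh_twistOver (d : ℤ) : (Twist.twistOver n Y d).IsQuasicoherent :=
  InvCoh.isQuasicoherent_of_isInvertible (isInvertible_twistOver n Y d)

lemma isQCoh_twF (d : ℤ) (F : (CohB1.ProjSpaceOver n Y).Modules) [F.IsQuasicoherent] :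
    (KRR.twF n Y d F).IsQuasicoherent := by
  have h : (CohB1.tensorMod F (Twist.twistOver n Y d)).IsQuasicoherent :=
    InvCoh.isQuasicoherent_tensorMod F _ (isInvertible_twistOver n Y d)
  have e : CohB1.tensorMod F (Twist.twistOver n Y d) ≅ KRR.twF n Y d F :=
    braid F (Twist.twistOver n Y d)
  exact (SheafOfModules.isQuasicoherent (CohB1.ProjSpaceOver n Y).ringCatSheaf).prop_of_iso e h

/-- `R^i p_* G = 0` iff `H^i(P^n_R, j^* G) = 0` over every affine open `Spec R` of `Y`. -/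
theorem isZero_RpushAb_iff (G : (CohB1.ProjSpaceOver n Y).Modules) [G.IsQuasicoherent] (i : ℕ) :
    IsZero ((Coh.RpushAb (pp n Y) i).obj (Coh.toAb G)) ↔
      ∀ (W : Y.Opens) (hW : IsAffineOpen W), Subsingleton (Coh.HH (CohB1.ProjSpace n ↑Γ(Y, W))
        ((Scheme.Modules.pullback (jZ n Y hW)).obj G) i) := by
  haveI := Groth.Agent.Lib.Helper8.ProperAtDvr.isProper_toBase n Y
  constructor
  · intro hz W hW
    rw [← sub_transfer n Y hW G i]
    obtain ⟨c⟩ := RelAmpleVan.nonempty_HU_equiv_sections (pp n Y) hW G i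
    have h2 : Subsingleton ↑(((Coh.RpushAb (pp n Y) i).obj (Coh.toAb G)).obj.obj (op W)) := by
      have hid : 𝟙 ((Coh.RpushAb (pp n Y) i).obj (Coh.toAb G)) = 0 := hz.eq_of_src _ _
      refine ⟨fun a b => ?_⟩
      have h3 := congrArg (fun φ => ((sheafSections (Opens.grothendieckTopology Y)
        AddCommGrpCat.{u}).obj (op W)).map φ) hid
      have ha : a = 0 := by
        have := congrArg (fun ψ => ψ.hom a) h3
        simpa using this
      have hb : b = 0 := by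
        have := congrArg (fun ψ => ψ.hom b) h3
        simpa using this
      rw [ha, hb]
    have h1 : Subsingleton (CohSite.HU (Coh.toAb G) i ((Opens.map (pp n Y).base).obj W)) :=
      c.toEquiv.subsingleton_congr.2 h2
    exact (AffineVanish.HUEquivHHon G (pp n Y ⁻¹ᵁ W) i).toEquiv.subsingleton_congr.1 h1
  · intro h
    apply RelAmpleVan.isZero_RpushAb_of_affine_cover
    intro x
    obtain ⟨W, hW, hxW⟩ := QCProps.exists_affine_nbhd x
    exact ⟨W, hW, hxW, (sub_transfer n Y hW G i).2 (h W hW)⟩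

/-- a regular quasi-coherent sheaf on `P^n_Y` restricts to a `0`-regular sheaf on each `P^n_R`. -/
theorem regular_local (F : (CohB1.ProjSpaceOver n Y).Modules) [F.IsQuasicoherent]
    (hreg : KRR.IsRegSheaf n Y F) {W : Y.Opens} (hW : IsAffineOpen W) (i : ℕ) (r : ℤ)
    (hi : 1 ≤ i) (hr : -(i : ℤ) ≤ r) :
    Subsingleton (Coh.HH (CohB1.ProjSpace n ↑Γ(Y, W))
      (CohB1.tensorMod ((Scheme.Modules.pullback (jZ n Y hW)).obj F)
        (Twist.twistProjSpace n ↑Γ(Y, W) r)) i) := by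
  haveI : ((Scheme.Modules.pullback (jZ n Y hW)).obj F).IsQuasicoherent :=
    Groth.Agent.Lib.Helper17.PbStalk.isQuasicoherent_pullback _ F
  refine Mumford.regular_ge n ↑Γ(Y, W) _ inferInstance 0 ?_ i r hi (by omega)
  intro i' hi'
  haveI := isQCoh_twF n Y (-(i' : ℤ)) F
  have h1 := (isZero_RpushAb_iff n Y (KRR.twF n Y (-(i' : ℤ)) F) i').1 (hreg i' hi') W hW
  obtain ⟨e⟩ := nonempty_jZ_twF_iso n Y hW (-(i' : ℤ)) F
  rw [zero_sub]
  exact Groth.Agent.Lib.Helper7.TwFun.subsingleton_HH_of_iso e.symm i' h1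

/-- twists of regular quasi-coherent sheaves are regular. -/
theorem isRegSheaf_twF (F : (CohB1.ProjSpaceOver n Y).Modules) [F.IsQuasicoherent]
    (hreg : KRR.IsRegSheaf n Y F) (m : ℕ) : KRR.IsRegSheaf n Y (KRR.twF n Y (m : ℤ) F) := by
  intro i hi
  haveI := isQCoh_twF n Y (m : ℤ) F
  haveI := isQCoh_twF n Y (-(i : ℤ)) (KRR.twF n Y (m : ℤ) F)
  rw [isZero_RpushAb_iff]
  intro W hW
  obtain ⟨e1⟩ := nonempty_jZ_twF_iso n Y hW (-(i : ℤ)) (KRR.twF n Y (m : ℤ) F)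
  obtain ⟨e2⟩ := nonempty_jZ_twF_iso n Y hW (m : ℤ) F
  have h1 := (Mumford.sub_shift n ↑Γ(Y, W) ((Scheme.Modules.pullback (jZ n Y hW)).obj F)
    (m : ℤ) (-(i : ℤ)) ((m : ℤ) - i) (by ring) i).2
    (regular_local n Y F hreg hW i ((m : ℤ) - i) hi (by omega))
  exact Groth.Agent.Lib.Helper7.TwFun.subsingleton_HH_of_iso
    (e1 ≪≫ tensorMapIso e2 (Iso.refl _)) i h1

/-- a regular quasi-coherent sheaf has no higher direct images. -/
theorem isZero_RpushAb_of_regular (F : (CohB1.ProjSpaceOver n Y).Modules) [F.IsQuasicoherent]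
    (hreg : KRR.IsRegSheaf n Y F) (i : ℕ) (hi : 1 ≤ i) :
    IsZero ((Coh.RpushAb (pp n Y) i).obj (Coh.toAb F)) := by
  rw [isZero_RpushAb_iff]
  intro W hW
  have h1 := regular_local n Y F hreg hW i 0 hi (by omega)
  have hr := Mumford.hU n ↑Γ(Y, W)
  exact Groth.Agent.Lib.Helper7.TwFun.subsingleton_HH_of_iso
    ((SecTwist.unitorR _).symm ≪≫ tensorMapIso (Iso.refl _)
      (TwistMul.unitIso (𝒜 := CohB1.polyGrading n ↑Γ(Y, W)))) i h1

/-- `R^i p_* O(d) = 0` outside the two exceptional ranges. -/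
theorem isZero_RpushAb_twistOver (i : ℕ) (d : ℤ)
    (h : ¬ ((i = 0 ∧ 0 ≤ d) ∨ (i = n ∧ d ≤ -((n : ℤ) + 1)))) :
    IsZero ((Coh.RpushAb (pp n Y) i).obj (Coh.toAb (Twist.twistOver n Y d))) := by
  haveI := isQCoh_twistOver n Y d
  rw [isZero_RpushAb_iff]
  intro W hW
  obtain ⟨e⟩ := nonempty_jZ_twist_iso n Y hW d
  have h1 := Groth.Agent.S0844.result ↑Γ(Y, W) n d i (fun hh => h (Or.inl hh))
    (fun hh => h (Or.inr hh))
  exact Groth.Agent.Lib.Helper7.TwFun.subsingleton_HH_of_iso e i h1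

end Regular

end Groth.Agent.Lib.Helper7.PnOver
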