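import Mathlib
import Groth.Agent.Lib.Helper17.AssPt
import Groth.Agent.Lib.Helper3.AssPoints
import Groth.Prelude

/-!
# Torsion-free quasi-coherent modules on reduced locally Noetherian schemes (helper7)

* `isField_of_isAssociatedPrime_maximalIdeal`: a reduced Noetherian local ring whose maximal ideal is
  an associated prime of a torsion-free module is a field.
* `section_eq_zero_of_germ_generic`: a section of a torsion-free quasi-coherent module on a reduced
  locally Noetherian scheme vanishing at all points whose local ring is a field is zero.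
-/

set_option autoImplicit false
universe u
open CategoryTheory CategoryTheory.Limits AlgebraicGeometry TopologicalSpace

namespace Groth.Agent.Lib.Helper7.TFGen

open Groth.Agent.Lib.Helper3 Groth.Agent.Lib.Helper17

theorem isField_of_isAssociatedPrime_maximalIdeal {R M : Type*} [CommRing R] [IsLocalRing R]
    [IsReduced R] [IsNoetherianRing R] [AddCommGroup M] [Module R M] [Module.IsTorsionFree R M]
    (h : IsAssociatedPrime (IsLocalRing.maximalIdeal R) M) : IsField R := by
  classical
  obtain ⟨_, x, hx⟩ := isAssociatedPrime_iff.mp h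
  have hx0 : x ≠ 0 := by
    rintro rfl
    have h1 : (1 : R) ∈ IsLocalRing.maximalIdeal R := by
      rw [hx, Submodule.mem_colon_singleton]
      simp
    exact (IsLocalRing.maximalIdeal.isMaximal R).ne_top ((Ideal.eq_top_iff_one _).mpr h1)
  have hmem : ∀ r ∈ IsLocalRing.maximalIdeal R, ∃ p ∈ minimalPrimes R, r ∈ p := by
    intro r hr
    have hrx : r • x = 0 := by
      have h1 := hr
      rw [hx, Submodule.mem_colon_singleton] at h1
      simpa using h1
    have hnr : ¬ IsRegular r := fun hreg => hx0 (by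
      have h1 : IsSMulRegular M r := Module.IsTorsionFree.isSMulRegular hreg
      exact h1 (show r • x = r • (0 : M) by rw [hrx, smul_zero]))
    obtain ⟨s, hs, hs0⟩ : ∃ s : R, r * s = 0 ∧ s ≠ 0 := by
      by_contra hcon
      push Not at hcon
      exact hnr (isRegular_iff_mem_nonZeroDivisors.mpr (mem_nonZeroDivisors_iff.mpr
        ⟨hcon, fun y hy => hcon y (by rwa [mul_comm])⟩))
    have hsn : ¬ IsNilpotent s := fun hn => hs0 (IsReduced.eq_zero s hn)
    rw [nilpotent_iff_mem_prime] at hsn
    push Not at hsn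
    obtain ⟨J, hJ, hsJ⟩ := hsn
    obtain ⟨p, hp, hpJ⟩ := Ideal.exists_minimalPrimes_le (bot_le : (⊥ : Ideal R) ≤ J)
    refine ⟨p, hp, ?_⟩
    haveI := hp.1.1
    have h1 : r * s ∈ p := by rw [hs]; exact p.zero_mem
    exact (Ideal.IsPrime.mem_or_mem ‹_› h1).resolve_right (fun h2 => hsJ (hpJ h2))
  have hfin : (minimalPrimes R).Finite := minimalPrimes.finite_of_isNoetherianRing R
  have hsub : ((IsLocalRing.maximalIdeal R : Ideal R) : Set R) ⊆
      ⋃ p ∈ (↑hfin.toFinset : Set (Ideal R)), ((id p : Ideal R) : Set R) := by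
    intro r hr
    obtain ⟨p, hp, hrp⟩ := hmem r hr
    simp only [Set.mem_iUnion]
    exact ⟨p, by simpa using hp, hrp⟩
  obtain ⟨p, hp, hmp⟩ := (Ideal.subset_union_prime (R := R) (s := hfin.toFinset) (f := id) ⊥ ⊥
    (fun i hi _ _ => (hfin.mem_toFinset.mp hi).1.1)).mp hsub
  have hp' : p ∈ minimalPrimes R := hfin.mem_toFinset.mp hp
  haveI := hp'.1.1
  rw [IsLocalRing.isField_iff_maximalIdeal_eq]
  rw [eq_bot_iff]
  intro r hr
  have hnil : IsNilpotent r := by
    rw [nilpotent_iff_mem_prime]
    intro q hq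
    have hqm : q ≤ IsLocalRing.maximalIdeal R := IsLocalRing.le_maximalIdeal hq.ne_top
    have hqp : q ≤ p := hqm.trans hmp
    exact hp'.2 ⟨hq, bot_le⟩ hqp (hmp hr)
  rw [IsReduced.eq_zero r hnil]
  exact Submodule.zero_mem _

variable {X : Scheme.{u}}

/-- a section of a torsion-free quasi-coherent module on a reduced locally Noetherian scheme whose
germs vanish at all points with local ring a field is zero -/
theorem section_eq_zero_of_germ_generic [IsReduced X] [IsLocallyNoetherian X] (F : X.Modules)
    [F.IsQuasicoherent] (htF : TorSh.IsTorsionFree F) (U : X.Opens) (s : Γ(F, U))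
    (h : ∀ (z : X) (hz : z ∈ U), IsField (X.presheaf.stalk z) →
      F.presheaf.germ U z hz s = 0) : s = 0 := by
  refine TopCat.Presheaf.section_ext ⟨F.presheaf, F.isSheaf⟩ U s 0 (fun y hy => ?_)
  rw [map_zero]
  by_contra hne
  obtain ⟨_, ⟨W, hW, rfl⟩, hyW, hWU⟩ :=
    X.isBasis_affineOpens.exists_subset_of_mem_open hy U.isOpen
  have hWU' : W ≤ U := hWU
  let m : Γ(F, W) := F.presheaf.map (homOfLE hWU').op s
  have hgm : ∀ (z : X) (hz : z ∈ W),
      F.presheaf.germ W z hz m = F.presheaf.germ U z (hWU' hz) s :=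
    fun z hz => TopCat.Presheaf.germ_res_apply F.presheaf (homOfLE hWU') z hz s
  have hm : F.presheaf.germ W y hyW m ≠ 0 := by
    rw [hgm]
    exact hne
  obtain ⟨z, hzW, hass, -, hann⟩ := AssPt.exists_assPoint_specializes hW F y hyW m hm
  haveI := htF z
  have hfield : IsField (X.presheaf.stalk z) := isField_of_isAssociatedPrime_maximalIdeal hass
  have h0 : F.presheaf.germ W z hzW m = 0 := by
    rw [hgm]
    exact h z (hWU' hzW) hfield
  obtain ⟨c, hc, hcm⟩ := (QS.germ_eq_zero_iff hW F z hzW m).mp h0
  exact hc (hann c hcm)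

end Groth.Agent.Lib.Helper7.TFGen
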