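import Mathlib
import Groth.Agent.Lib.Helper7.TFGen
import Groth.Agent.Lib.Helper3.QCExact
import Groth.Prelude

/-!
# Torsion-free modules and dense opens (helper7)

* `eq_of_specializes_of_isField`: a point whose local ring is a field has no proper generization.
* `mem_of_dense_of_isField`: on a Noetherian scheme such a point lies in every dense open.
* `hom_eq_zero_of_restrict_eq_zero`: a morphism into a torsion-free quasi-coherent module on a reduced
  Noetherian scheme which vanishes on a dense open is zero.
-/

set_option autoImplicit false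
universe u
open CategoryTheory CategoryTheory.Limits AlgebraicGeometry TopologicalSpace

namespace Groth.Agent.Lib.Helper7.TFGen

open Groth.Agent.Lib.Helper3

theorem primeSpectrum_subsingleton_of_isField {K : Type*} [CommRing K] (h : IsField K) :
    Subsingleton (PrimeSpectrum K) := by
  have hb : ∀ p : PrimeSpectrum K, p.asIdeal = ⊥ := by
    intro p
    rw [eq_bot_iff]
    intro x hx
    rw [Ideal.mem_bot]
    by_contra hne
    obtain ⟨y, hy⟩ := h.mul_inv_cancel hne
    exact p.2.ne_top ((Ideal.eq_top_iff_one _).mpr (hy ▸ p.asIdeal.mul_mem_right y hx))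
  exact ⟨fun p q => PrimeSpectrum.ext ((hb p).trans (hb q).symm)⟩

variable {X : Scheme.{u}}

theorem eq_of_specializes_of_isField (z y : X) (hz : IsField (X.presheaf.stalk z)) (h : y ⤳ z) :
    y = z := by
  have hy : y ∈ Set.range (X.fromSpecStalk z) := by
    rw [Scheme.range_fromSpecStalk]
    exact h
  have hzz : z ∈ Set.range (X.fromSpecStalk z) := by
    rw [Scheme.range_fromSpecStalk]
    exact specializes_rfl
  obtain ⟨a, rfl⟩ := hy
  obtain ⟨b, hb⟩ := hzz
  have hab : a = b := @Subsingleton.elim _ (primeSpectrum_subsingleton_of_isField hz) a b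
  rw [hab, hb]

theorem mem_of_dense_of_isField [IsNoetherian X] (z : X) (hz : IsField (X.presheaf.stalk z))
    (U : X.Opens) (hU : Dense (U : Set X)) : z ∈ U := by
  have hirr : IsIrreducible (closure ({z} : Set X)) := isIrreducible_singleton.closure
  have hcomp : closure ({z} : Set X) ∈ irreducibleComponents X := by
    refine ⟨hirr, fun S hS hle => ?_⟩
    have hgen := hS.isGenericPoint_genericPoint_closure
    have hzS : z ∈ closure S := subset_closure (hle (subset_closure rfl))
    have hsp : hS.genericPoint ⤳ z := hgen.specializes hzS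
    have heq := eq_of_specializes_of_isField z _ hz hsp
    have h1 : closure S = closure {z} := by rw [← hgen.def, heq]
    exact subset_closure.trans h1.le
  obtain ⟨o, ho, hne, hsub⟩ :=
    TopologicalSpace.NoetherianSpace.exists_isOpen_nonempty_subset_irreducibleComponent _ hcomp
  obtain ⟨q, hqo, hqU⟩ := hU.inter_open_nonempty o ho hne
  exact (isGenericPoint_closure.mem_open_set_iff U.isOpen).mpr ⟨q, hsub hqo, hqU⟩

/-- a morphism into a torsion-free quasi-coherent module on a reduced Noetherian scheme which
vanishes on a dense open is zero -/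
theorem hom_eq_zero_of_restrict_eq_zero [IsReduced X] [IsNoetherian X] {K G : X.Modules}
    [G.IsQuasicoherent] (htG : TorSh.IsTorsionFree G) (g : K ⟶ G) (U : X.Opens)
    (hU : Dense (U : Set X)) (h : (Scheme.Modules.restrictFunctor U.ι).map g = 0) : g = 0 := by
  apply Scheme.Modules.hom_ext
  intro W
  ext e
  show g.app W e = 0
  apply section_eq_zero_of_germ_generic G htG W (g.app W e)
  intro z hzW hfz
  have hzU : z ∈ U := mem_of_dense_of_isField z hfz U hU
  let V' : (U : Scheme.{u}).Opens := U.ι ⁻¹ᵁ W
  have hV'W : U.ι ''ᵁ V' ≤ W := by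
    rintro _ ⟨a, ha, rfl⟩
    exact ha
  have hzV : z ∈ U.ι ''ᵁ V' := ⟨⟨z, hzU⟩, hzW, rfl⟩
  have h0 : g.app (U.ι ''ᵁ V') = 0 :=
    congrArg (fun φ => Scheme.Modules.Hom.app φ V') h
  have h1 := TopCat.Presheaf.germ_res_apply G.presheaf (homOfLE hV'W) z hzV (g.app W e)
  have h2 : G.presheaf.map (homOfLE hV'W).op (g.app W e) = 0 := by
    have h3 := QCExact.app_res' g hV'W e
    rw [h0] at h3
    exact h3.symm
  rw [← h1, h2, map_zero]

end Groth.Agent.Lib.Helper7.TFGen
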