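import Mathlib
import Groth.Prelude.Def_CAlgX
import Groth.Agent.S12906

/-!
# Hilbert–Burch: elementary lemmas on maximal minors of a `(t+1) × t` matrix (helper7)
-/

set_option autoImplicit false
universe u

namespace Groth.Agent.Lib.Helper7.HilbBurch

variable {R : Type u} [CommRing R] {t : ℕ} (Ψ : Matrix (Fin (t + 1)) (Fin t) R)

/-- the maximal minor of `Ψ` with row `i` deleted. -/
def dd (i : Fin (t + 1)) : R := (Ψ.submatrix i.succAbove id).det

theorem minorIdeal_eq : CAlgX.minorIdeal Ψ t = Ideal.span (Set.range (dd Ψ)) := by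
  classical
  apply le_antisymm
  · rw [CAlgX.minorIdeal, Ideal.span_le]
    rintro _ ⟨⟨f, g⟩, rfl⟩
    show (Ψ.submatrix f g).det ∈ Ideal.span (Set.range (dd Ψ))
    by_cases hg : Function.Injective g
    · have hgb : Function.Bijective g := Finite.injective_iff_bijective.1 hg
      have h1 : Ψ.submatrix f g =
          (Ψ.submatrix f id).submatrix id (Equiv.ofBijective g hgb) := by
        ext a b; rfl
      rw [h1, Matrix.det_permute']
      apply Ideal.mul_mem_left
      by_cases hf : Function.Injective f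
      · have hns : ¬ Function.Surjective f := by
          intro hs
          have h2 := Fintype.card_le_of_surjective f hs
          simp at h2
        have hex : ∃ i, ∀ k, f k ≠ i := by
          by_contra hcon
          apply hns
          intro i
          by_contra hi
          exact hcon ⟨i, fun k hk => hi ⟨k, hk⟩⟩
        obtain ⟨i, hi⟩ := hex
        have hτ : ∀ k, ∃ z, i.succAbove z = f k := fun k => Fin.exists_succAbove_eq (hi k)
        choose τ hτ' using hτ
        have hτinj : Function.Injective τ := by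
          intro k l hkl
          apply hf
          rw [← hτ' k, ← hτ' l, hkl]
        have h2 : Ψ.submatrix f id = (Ψ.submatrix i.succAbove id).submatrix
            (Equiv.ofBijective τ (Finite.injective_iff_bijective.1 hτinj)) id := by
          ext a b
          show Ψ (f a) b = Ψ (i.succAbove (τ a)) b
          rw [hτ' a]
        rw [h2, Matrix.det_permute]
        exact Ideal.mul_mem_left _ _ (Ideal.subset_span ⟨i, rfl⟩)
      · have hex : ∃ k l, f k = f l ∧ k ≠ l := by
          by_contra hcon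
          apply hf
          intro k l hkl
          by_contra hne
          exact hcon ⟨k, l, hkl, hne⟩
        obtain ⟨k, l, hkl, hne⟩ := hex
        rw [Matrix.det_zero_of_row_eq hne (by
          funext c
          show Ψ (f k) c = Ψ (f l) c
          rw [hkl])]
        exact zero_mem _
    · have hex : ∃ k l, g k = g l ∧ k ≠ l := by
        by_contra hcon
        apply hg
        intro k l hkl
        by_contra hne
        exact hcon ⟨k, l, hkl, hne⟩
      obtain ⟨k, l, hkl, hne⟩ := hex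
      rw [Matrix.det_zero_of_column_eq hne (fun r => by
        show Ψ (f r) (g k) = Ψ (f r) (g l)
        rw [hkl])]
      exact zero_mem _
  · rw [Ideal.span_le]
    rintro _ ⟨i, rfl⟩
    exact Ideal.subset_span ⟨(i.succAbove, id), rfl⟩

/-- the row of signed maximal minors kills the columns of `Ψ`. -/
theorem sum_mulVec (a : R) (w : Fin t → R) :
    ∑ i, (Ψ.mulVec w) i * (a * ((-1 : R) ^ (i : ℕ) * dd Ψ i)) = 0 := by
  have h1 : ∀ i, (Ψ.mulVec w) i * (a * ((-1 : R) ^ (i : ℕ) * dd Ψ i)) =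
      ∑ j, (a * w j) * ((-1 : R) ^ (i : ℕ) * dd Ψ i * Ψ i j) := by
    intro i
    rw [Matrix.mulVec, dotProduct, Finset.sum_mul]
    refine Finset.sum_congr rfl fun j _ => ?_
    ring
  simp_rw [h1]
  rw [Finset.sum_comm]
  refine Finset.sum_eq_zero fun j _ => ?_
  rw [← Finset.mul_sum]
  have h2 := Groth.Agent.S12906.result t Ψ j
  unfold dd
  rw [h2, mul_zero]

theorem smul_eq_zero_of_mulVec_eq_zero (w : Fin t → R) (hw : Ψ.mulVec w = 0) (k : Fin (t + 1)) :
    dd Ψ k • w = 0 := by
  have h1 : (Ψ.submatrix k.succAbove id).mulVec w = 0 := by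
    funext z
    exact congrFun hw (k.succAbove z)
  have h2 : (Ψ.submatrix k.succAbove id).adjugate.mulVec ((Ψ.submatrix k.succAbove id).mulVec w) =
      dd Ψ k • w := by
    rw [Matrix.mulVec_mulVec, Matrix.adjugate_mul, Matrix.smul_mulVec, Matrix.one_mulVec]
    rfl
  rw [← h2, h1, Matrix.mulVec_zero]

theorem sq_smul_mem_range (a : R) (ha : a ∈ nonZeroDivisors R) (v : Fin (t + 1) → R)
    (hv : ∑ i, v i * (a * ((-1 : R) ^ (i : ℕ) * dd Ψ i)) = 0) (k : Fin (t + 1)) :
    (dd Ψ k ^ 2) • v ∈ LinearMap.range Ψ.mulVecLin := by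
  let w : Fin t → R :=
    (Ψ.submatrix k.succAbove id).adjugate.mulVec (fun z => v (k.succAbove z))
  have h1 : (Ψ.submatrix k.succAbove id).mulVec w = dd Ψ k • (fun z => v (k.succAbove z)) := by
    show (Ψ.submatrix k.succAbove id).mulVec
      ((Ψ.submatrix k.succAbove id).adjugate.mulVec (fun z => v (k.succAbove z))) = _
    rw [Matrix.mulVec_mulVec, Matrix.mul_adjugate, Matrix.smul_mulVec, Matrix.one_mulVec]
    rfl
  have h2 : ∀ z, (Ψ.mulVec w) (k.succAbove z) = dd Ψ k * v (k.succAbove z) := fun z =>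
    congrFun h1 z
  have h3 : ∀ z, (dd Ψ k • v - Ψ.mulVec w) (k.succAbove z) = 0 := by
    intro z
    rw [Pi.sub_apply, Pi.smul_apply, smul_eq_mul, h2, sub_self]
  have hL : ∑ i, (dd Ψ k • v - Ψ.mulVec w) i * (a * ((-1 : R) ^ (i : ℕ) * dd Ψ i)) = 0 := by
    have h4 : ∀ i, (dd Ψ k • v - Ψ.mulVec w) i * (a * ((-1 : R) ^ (i : ℕ) * dd Ψ i)) =
        dd Ψ k * (v i * (a * ((-1 : R) ^ (i : ℕ) * dd Ψ i))) -
          (Ψ.mulVec w) i * (a * ((-1 : R) ^ (i : ℕ) * dd Ψ i)) := by
      intro i
      rw [Pi.sub_apply, Pi.smul_apply, smul_eq_mul]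
      ring
    simp_rw [h4]
    rw [Finset.sum_sub_distrib, ← Finset.mul_sum, hv, sum_mulVec, mul_zero, sub_zero]
  rw [Fin.sum_univ_succAbove _ k] at hL
  have h5 : ∑ z, (dd Ψ k • v - Ψ.mulVec w) (k.succAbove z) *
      (a * ((-1 : R) ^ ((k.succAbove z : Fin (t + 1)) : ℕ) * dd Ψ (k.succAbove z))) = 0 :=
    Finset.sum_eq_zero fun z _ => by rw [h3 z, zero_mul]
  rw [h5, add_zero] at hL
  have h6 : dd Ψ k * (dd Ψ k • v - Ψ.mulVec w) k = 0 := by
    have h7 : a * ((-1 : R) ^ (k : ℕ) * (dd Ψ k * (dd Ψ k • v - Ψ.mulVec w) k)) = 0 := by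
      rw [← hL]; ring
    have h8 := (mul_left_mem_nonZeroDivisors_eq_zero_iff ha).1 h7
    have h9 : (-1 : R) ^ (k : ℕ) * ((-1 : R) ^ (k : ℕ) *
        (dd Ψ k * (dd Ψ k • v - Ψ.mulVec w) k)) = 0 := by rw [h8, mul_zero]
    rw [← mul_assoc, ← mul_pow, neg_one_mul, neg_neg, one_pow, one_mul] at h9
    exact h9
  have h10 : dd Ψ k • (dd Ψ k • v - Ψ.mulVec w) = 0 := by
    funext i
    rw [Pi.smul_apply, smul_eq_mul, Pi.zero_apply]
    by_cases hik : i = k
    · rw [hik]; exact h6
    · obtain ⟨z, rfl⟩ := Fin.exists_succAbove_eq hik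
      rw [h3 z, mul_zero]
  refine ⟨dd Ψ k • w, ?_⟩
  rw [Matrix.mulVecLin_apply, Matrix.mulVec_smul]
  have h11 : dd Ψ k • Ψ.mulVec w = dd Ψ k • (dd Ψ k • v) - dd Ψ k • (dd Ψ k • v - Ψ.mulVec w) := by
    rw [smul_sub, sub_sub_cancel]
  rw [h11, h10, sub_zero, smul_smul, pow_two]

end Groth.Agent.Lib.Helper7.HilbBurch
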