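import Mathlib
import Groth.Prelude.Def_CAlgX
import Groth.Agent.Lib.Helper7.FFRRank
import Groth.Agent.Lib.Helper7.HilbBurch
import Groth.Agent.Lib.Helper14.McCoy
import Groth.Agent.Lib.Helper5.RegSeqSpread

/-!
# Hilbert–Burch, forward direction: auxiliary lemmas (helper7)
-/

set_option autoImplicit false
universe u

open TensorProduct

namespace Groth.Agent.Lib.Helper7.HilbBurch2

open Groth.Agent.Lib.Helper7.FFRRank

section

variable {R : Type u} [CommRing R]

/-- if `I ⊄ P` then `I_P ≅ R_P` is free of rank one. -/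
theorem free_finrank_localization_of_not_le (I P : Ideal R) [P.IsPrime] (h : ¬ I ≤ P) :
    Module.Free (Localization.AtPrime P) (Localization.AtPrime P ⊗[R] ↥I) ∧
      Module.finrank (Localization.AtPrime P) (Localization.AtPrime P ⊗[R] ↥I) = 1 := by
  obtain ⟨s, hsI, hsP⟩ := SetLike.not_le_iff_exists.1 h
  let f : Localization.AtPrime P ⊗[R] ↥I →ₗ[Localization.AtPrime P] Localization.AtPrime P :=
    (Algebra.TensorProduct.rid R (Localization.AtPrime P) (Localization.AtPrime P)).toLinearMap ∘ₗ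
      (I.subtype.baseChange (Localization.AtPrime P))
  have hf : ∀ (r : Localization.AtPrime P) (x : ↥I), f (r ⊗ₜ[R] x) = (x : R) • r := by
    intro r x
    simp [f]
  have hinj : Function.Injective f := by
    have h1 : Function.Injective (I.subtype.baseChange (Localization.AtPrime P)) :=
      Module.Flat.lTensor_preserves_injective_linearMap (M := Localization.AtPrime P)
        I.subtype Subtype.val_injective
    exact (Algebra.TensorProduct.rid R (Localization.AtPrime P)
      (Localization.AtPrime P)).injective.comp h1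
  have hu : IsUnit (algebraMap R (Localization.AtPrime P) s) :=
    IsLocalization.map_units (Localization.AtPrime P) (⟨s, hsP⟩ : P.primeCompl)
  obtain ⟨u, hu'⟩ := hu
  have hsurj : Function.Surjective f := by
    intro r
    refine ⟨(r * ((u⁻¹ : (Localization.AtPrime P)ˣ) : Localization.AtPrime P)) ⊗ₜ[R]
      (⟨s, hsI⟩ : ↥I), ?_⟩
    rw [hf, Algebra.smul_def]
    show algebraMap R (Localization.AtPrime P) s * _ = r
    rw [← hu', mul_comm r, ← mul_assoc, Units.mul_inv, one_mul]
  let e := LinearEquiv.ofBijective f ⟨hinj, hsurj⟩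
  haveI : Nontrivial (Localization.AtPrime P) := inferInstance
  refine ⟨Module.Free.of_equiv e.symm, ?_⟩
  rw [e.finrank_eq, Module.finrank_self]

/-- a zero-annihilator ideal of a Noetherian ring contains a regular element. -/
theorem exists_isSMulRegular_of_annihilator_eq_bot [IsNoetherianRing R] (J : Ideal R)
    (h : J.annihilator = ⊥) : ∃ x ∈ J, IsSMulRegular R x := by
  rcases subsingleton_or_nontrivial R with hs | hn
  · exact ⟨0, J.zero_mem, fun a b _ => Subsingleton.elim a b⟩
  · by_contra hcon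
    have h1 : ∀ x ∈ J, ¬ IsSMulRegular R x := fun x hx hreg => hcon ⟨x, hx, hreg⟩
    obtain ⟨Q, hQ, hJQ⟩ :=
      (Groth.Agent.Lib.Helper4.forall_not_isSMulRegular_iff_exists_le_associatedPrime J).1 h1
    have hQ' := hQ
    rw [associatedPrimes, Set.mem_setOf_eq, isAssociatedPrime_iff] at hQ'
    obtain ⟨hQp, z, hz⟩ := hQ'
    have hzann : z ∈ J.annihilator := by
      rw [Submodule.mem_annihilator]
      intro j hj
      have h2 : j ∈ (⊥ : Submodule R R).colon {z} := (SetLike.ext_iff.1 hz j).1 (hJQ hj)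
      rw [Submodule.mem_colon_singleton] at h2
      have h3 : j * z = 0 := (Submodule.mem_bot R).1 h2
      rw [smul_eq_mul, mul_comm]
      exact h3
    rw [h] at hzann
    have hz0 : z = 0 := (Submodule.mem_bot R).1 hzann
    apply hQp.ne_top
    rw [hz, hz0, eq_top_iff]
    intro r _
    rw [Submodule.mem_colon_singleton, smul_zero]
    exact Submodule.zero_mem _

end

section

variable {R : Type u} [CommRing R] {S : Type u} [CommRing S] {m n : ℕ}

theorem minorIdeal_map_le (f : R →+* S) (Ψ : Matrix (Fin n) (Fin m) R) (r : ℕ) :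
    CAlgX.minorIdeal (Ψ.map f) r ≤ (CAlgX.minorIdeal Ψ r).map f := by
  rw [CAlgX.minorIdeal, Ideal.span_le]
  rintro _ ⟨⟨a, b⟩, rfl⟩
  show ((Ψ.map f).submatrix a b).det ∈ _
  rw [Matrix.submatrix_map]
  have h1 : ((Ψ.submatrix a b).map f).det = f (Ψ.submatrix a b).det := by
    rw [RingHom.map_det]; rfl
  rw [h1]
  exact Ideal.mem_map_of_mem f (Ideal.subset_span ⟨(a, b), rfl⟩)

end

section

variable {R : Type u} [CommRing R] {m n : ℕ} (Ψ : Matrix (Fin n) (Fin m) R)
  (π : (Fin n → R) →ₗ[R] R)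

/-- injectivity of `Ψ` survives reduction modulo an `R`-regular element when `coker Ψ` embeds in
`R`. -/
theorem injective_map_quotient (hΨ : LinearMap.ker Ψ.mulVecLin = ⊥)
    (hex : LinearMap.ker π = LinearMap.range Ψ.mulVecLin) (x : R) (hx : IsSMulRegular R x) :
    Function.Injective (Ψ.map (Ideal.Quotient.mk (Ideal.span {x}))).mulVecLin := by
  rw [← LinearMap.ker_eq_bot, LinearMap.ker_eq_bot']
  intro wb hwb
  rw [Matrix.mulVecLin_apply] at hwb
  have hlift : ∀ j, ∃ r : R, Ideal.Quotient.mk (Ideal.span {x}) r = wb j :=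
    fun j => Ideal.Quotient.mk_surjective _
  choose w hw using hlift
  have hwb' : wb = (Ideal.Quotient.mk (Ideal.span {x})) ∘ w := funext fun j => (hw j).symm
  have h1 : ∀ i, (Ψ.mulVec w) i ∈ Ideal.span {x} := by
    intro i
    rw [← Ideal.Quotient.eq_zero_iff_mem, RingHom.map_mulVec, ← hwb', hwb]
    rfl
  have h2 : ∀ i, ∃ u : R, (Ψ.mulVec w) i = x * u := by
    intro i
    obtain ⟨u, hu⟩ := Ideal.mem_span_singleton'.1 (h1 i)
    exact ⟨u, by rw [← hu, mul_comm]⟩
  choose u hu using h2
  have h3 : Ψ.mulVec w = x • u := funext fun i => by rw [hu i]; rfl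
  have h4 : π (Ψ.mulVec w) = 0 := by
    have : Ψ.mulVec w ∈ LinearMap.ker π := by
      rw [hex]; exact ⟨w, rfl⟩
    exact this
  rw [h3, map_smul, smul_eq_mul] at h4
  have h5 : π u = 0 := hx (show x • π u = x • (0 : R) by rw [smul_eq_mul, h4, smul_zero])
  have h6 : u ∈ LinearMap.range Ψ.mulVecLin := by rw [← hex]; exact h5
  obtain ⟨w', hw'⟩ := h6
  rw [Matrix.mulVecLin_apply] at hw'
  have h7 : Ψ.mulVec (w - x • w') = 0 := by
    rw [Matrix.mulVec_sub, Matrix.mulVec_smul, hw', h3, sub_self]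
  have h8 : w - x • w' = 0 := by
    have : w - x • w' ∈ LinearMap.ker Ψ.mulVecLin := h7
    rw [hΨ] at this
    exact (Submodule.mem_bot R).1 this
  have h9 : w = x • w' := sub_eq_zero.1 h8
  funext j
  rw [← hw j, h9, Pi.smul_apply, smul_eq_mul, Pi.zero_apply]
  exact Ideal.Quotient.eq_zero_iff_mem.2
    (Ideal.mul_mem_right _ _ (Ideal.mem_span_singleton_self x))

/-- From a length one free resolution `0 → R^m → R^n → I → 0` (with `I ⊆ R`): the ideal of
`m × m` minors of `Ψ` contains a regular sequence of length two (elementary form). -/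
theorem exists_regular_pair [IsNoetherianRing R] (hΨ : LinearMap.ker Ψ.mulVecLin = ⊥)
    (hex : LinearMap.ker π = LinearMap.range Ψ.mulVecLin) :
    ∃ x ∈ CAlgX.minorIdeal Ψ m, ∃ y ∈ CAlgX.minorIdeal Ψ m,
      (∀ r : R, x * r = 0 → r = 0) ∧ (∀ r : R, (∃ s, y * r = x * s) → ∃ s', r = x * s') := by
  have hann : (CAlgX.minorIdeal Ψ m).annihilator = ⊥ :=
    Groth.Agent.Lib.Helper14.annihilator_minorIdeal_of_injective Ψ
      (LinearMap.ker_eq_bot.1 hΨ) m le_rfl
  obtain ⟨x, hxJ, hx⟩ := exists_isSMulRegular_of_annihilator_eq_bot _ hann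
  have hinj' := injective_map_quotient Ψ π hΨ hex x hx
  have hann' : (CAlgX.minorIdeal (Ψ.map (Ideal.Quotient.mk (Ideal.span {x}))) m).annihilator = ⊥ :=
    Groth.Agent.Lib.Helper14.annihilator_minorIdeal_of_injective _ hinj' m le_rfl
  obtain ⟨yb, hybJ, hyb⟩ := exists_isSMulRegular_of_annihilator_eq_bot _ hann'
  have hyb' := minorIdeal_map_le (Ideal.Quotient.mk (Ideal.span {x})) Ψ m hybJ
  obtain ⟨y, hyJ, rfl⟩ := (Ideal.mem_map_iff_of_surjective _ Ideal.Quotient.mk_surjective).1 hyb'
  refine ⟨x, hxJ, y, hyJ,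
    fun r hr => hx (show x • r = x • (0 : R) by rw [smul_eq_mul, hr, smul_zero]), ?_⟩
  rintro r ⟨s, hs⟩
  have h1 : Ideal.Quotient.mk (Ideal.span {x}) y * Ideal.Quotient.mk (Ideal.span {x}) r = 0 := by
    rw [← map_mul, hs]
    exact Ideal.Quotient.eq_zero_iff_mem.2
      (Ideal.mul_mem_right _ _ (Ideal.mem_span_singleton_self x))
  have h2 : Ideal.Quotient.mk (Ideal.span {x}) r = 0 :=
    hyb (show Ideal.Quotient.mk (Ideal.span {x}) y • Ideal.Quotient.mk (Ideal.span {x}) r =
      Ideal.Quotient.mk (Ideal.span {x}) y • (0 : R ⧸ Ideal.span {x}) by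
        rw [smul_eq_mul, h1, smul_zero])
  obtain ⟨s', hs'⟩ := Ideal.mem_span_singleton'.1 (Ideal.Quotient.eq_zero_iff_mem.1 h2)
  exact ⟨s', by rw [← hs', mul_comm]⟩

/-- the elementary regular pair gives `2 ≤ idealDepth`. -/
theorem two_le_idealDepth_of_pair (J : Ideal R) (x y : R) (hx : x ∈ J) (hy : y ∈ J)
    (hxreg : ∀ r : R, x * r = 0 → r = 0)
    (hyreg : ∀ r : R, (∃ s, y * r = x * s) → ∃ s', r = x * s') :
    2 ≤ LocCoh.idealDepth J R := by
  have hreg : RingTheory.Sequence.IsWeaklyRegular R [x, y] := by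
    rw [Groth.Agent.Lib.Helper5.RegSeq.isWeaklyRegular_iff_forall_mem]
    intro i hi z hz
    have hi' : i = 0 ∨ i = 1 := by
      simp only [List.length_cons, List.length_nil] at hi
      omega
    rcases hi' with rfl | rfl
    · simp only [List.getElem_cons_zero, List.take_zero, Ideal.ofList_nil, Ideal.mem_bot] at hz ⊢
      exact hxreg z hz
    · simp only [List.getElem_cons_succ, List.getElem_cons_zero, List.take_succ_cons,
        List.take_zero, Ideal.ofList_singleton, Ideal.mem_span_singleton'] at hz ⊢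
      obtain ⟨s, hs⟩ := hz
      obtain ⟨s', hs'⟩ := hyreg z ⟨s, by rw [← hs, mul_comm]⟩
      exact ⟨s', by rw [hs', mul_comm]⟩
  have h := Groth.Agent.Lib.Helper4.length_le_idealDepth J [x, y] hreg (by
    intro r hr
    simp only [List.mem_cons, List.not_mem_nil, or_false] at hr
    rcases hr with rfl | rfl
    · exact hx
    · exact hy)
  simpa using h

end

end Groth.Agent.Lib.Helper7.HilbBurch2
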