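import Mathlib
import Groth.Prelude.Def_ega3
import Groth.Agent.Lib.Helper7.TorNat7
import Groth.Agent.Lib.Helper7.TorBasic
set_option autoImplicit false
universe u
open CategoryTheory CategoryTheory.Limits MonoidalCategory TensorProduct

namespace Groth.Agent.Lib.Helper7

variable {R : Type u} [CommRing R]

section mulMap
variable (X : Type u) [AddCommGroup X] [Module R X] (J : Ideal R)

/-- multiplication `X ⊗ J → X`. -/
noncomputable def mulMap : X ⊗[R] ↥J →ₗ[R] X :=
  (TensorProduct.rid R X).toLinearMap ∘ₗ LinearMap.lTensor X J.subtype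

lemma mulMap_tmul (x : X) (a : J) : mulMap X J (x ⊗ₜ[R] a) = (a : R) • x := by
  show (TensorProduct.rid R X) (x ⊗ₜ[R] (a : R)) = _
  rw [TensorProduct.rid_tmul]

lemma mulMap_eq_zero_iff (y : X ⊗[R] ↥J) :
    mulMap X J y = 0 ↔ LinearMap.lTensor X J.subtype y = 0 := by
  show (TensorProduct.rid R X) (LinearMap.lTensor X J.subtype y) = 0 ↔ _
  exact LinearEquiv.map_eq_zero_iff _

lemma mulMap_mem (y : X ⊗[R] ↥J) : mulMap X J y ∈ (J • ⊤ : Submodule R X) := by
  induction y using TensorProduct.induction_on with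
  | zero => rw [map_zero]; exact Submodule.zero_mem _
  | tmul x a =>
    rw [mulMap_tmul]
    exact Submodule.smul_mem_smul a.2 Submodule.mem_top
  | add y y' hy hy' => rw [map_add]; exact Submodule.add_mem _ hy hy'

lemma mulMap_injective [Module.Flat R X] : Function.Injective (mulMap X J) :=
  (TensorProduct.rid R X).injective.comp
    (Module.Flat.lTensor_preserves_injective_linearMap J.subtype (Submodule.subtype_injective J))

variable {X}

lemma mulMap_rTensor {Y : Type u} [AddCommGroup Y] [Module R Y] (g : X →ₗ[R] Y)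
    (y : X ⊗[R] ↥J) : mulMap Y J (LinearMap.rTensor ↥J g y) = g (mulMap X J y) := by
  induction y using TensorProduct.induction_on with
  | zero => simp only [map_zero]
  | tmul x a => rw [LinearMap.rTensor_tmul, mulMap_tmul, mulMap_tmul, map_smul]
  | add y y' hy hy' => simp only [map_add, hy, hy']

lemma mulMap_lTensor_inclusion {J' : Ideal R} (h : J ≤ J') (y : X ⊗[R] ↥J) :
    mulMap X J' (LinearMap.lTensor X (Submodule.inclusion h) y) = mulMap X J y := by
  induction y using TensorProduct.induction_on with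
  | zero => simp only [map_zero]
  | tmul x a =>
    rw [LinearMap.lTensor_tmul, mulMap_tmul, mulMap_tmul]
    rfl
  | add y y' hy hy' => simp only [map_add, hy, hy']

end mulMap

/-- Artin–Rees for `ker (M ⊗ I^m → M)`. -/
theorem exists_pow_lTensor_inclusion_eq_zero [IsNoetherianRing R] (I : Ideal R) (M : Type u)
    [AddCommGroup M] [Module R M] [Module.Finite R M] (n : ℕ) :
    ∃ m : ℕ, n ≤ m ∧ ∀ (h : I ^ m ≤ I ^ n) (y : M ⊗[R] ↥(I ^ m)),
      LinearMap.lTensor M (I ^ m).subtype y = 0 →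
        LinearMap.lTensor M (Submodule.inclusion h) y = 0 := by
  obtain ⟨r, π, hπ⟩ := Module.Finite.exists_fin' R M
  obtain ⟨c, hc⟩ := Ideal.exists_pow_inf_eq_pow_smul I (LinearMap.ker π)
  refine ⟨n + c, Nat.le_add_right n c, ?_⟩
  intro h y hy
  obtain ⟨y', rfl⟩ := LinearMap.rTensor_surjective ↥(I ^ (n + c)) hπ y
  have hu1 : mulMap (Fin r → R) (I ^ (n + c)) y' ∈ (I ^ (n + c) • ⊤ : Submodule R (Fin r → R)) :=
    mulMap_mem _ _ y'
  have hu2 : mulMap (Fin r → R) (I ^ (n + c)) y' ∈ LinearMap.ker π := by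
    rw [LinearMap.mem_ker, ← mulMap_rTensor, mulMap_eq_zero_iff]
    exact hy
  have hu3 : mulMap (Fin r → R) (I ^ (n + c)) y' ∈
      I ^ n • (I ^ c • ⊤ ⊓ LinearMap.ker π : Submodule R (Fin r → R)) := by
    have h1 := hc (n + c) (Nat.le_add_left c n)
    rw [Nat.add_sub_cancel] at h1
    rw [← h1]
    exact ⟨hu1, hu2⟩
  have key : ∀ u : Fin r → R, u ∈ I ^ n • (I ^ c • ⊤ ⊓ LinearMap.ker π : Submodule R (Fin r → R)) →
      ∃ w : (Fin r → R) ⊗[R] ↥(I ^ n), mulMap (Fin r → R) (I ^ n) w = u ∧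
        LinearMap.rTensor ↥(I ^ n) π w = 0 := by
    intro u hu
    refine Submodule.smul_induction_on hu ?_ ?_
    · intro a ha k hk
      refine ⟨k ⊗ₜ[R] ⟨a, ha⟩, mulMap_tmul _ _ k ⟨a, ha⟩, ?_⟩
      rw [LinearMap.rTensor_tmul, LinearMap.mem_ker.mp hk.2, TensorProduct.zero_tmul]
    · rintro u₁ u₂ ⟨w₁, h₁, h₁'⟩ ⟨w₂, h₂, h₂'⟩
      exact ⟨w₁ + w₂, by rw [map_add, h₁, h₂], by rw [map_add, h₁', h₂', add_zero]⟩
  obtain ⟨w, hw1, hw2⟩ := key _ hu3
  have hw3 : LinearMap.lTensor (Fin r → R) (Submodule.inclusion h) y' = w := by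
    apply mulMap_injective (Fin r → R) (I ^ n)
    rw [mulMap_lTensor_inclusion, hw1]
  have hcomm : LinearMap.lTensor M (Submodule.inclusion h) (LinearMap.rTensor ↥(I ^ (n + c)) π y') =
      LinearMap.rTensor ↥(I ^ n) π (LinearMap.lTensor (Fin r → R) (Submodule.inclusion h) y') := by
    have e1 := LinearMap.congr_fun (LinearMap.lTensor_comp_rTensor (f := π) (g := Submodule.inclusion h)) y'
    have e2 := LinearMap.congr_fun (LinearMap.rTensor_comp_lTensor (f := π) (g := Submodule.inclusion h)) y'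
    exact e1.trans e2.symm
  rw [hcomm, hw3, hw2]

/-- the standard sequence `0 → J → R → R/J → 0`. -/
noncomputable def idealSC (J : Ideal R) : ShortComplex (ModuleCat.{u} R) :=
  ModuleCat.shortComplexOfCompEqZero J.subtype J.mkQ
    (LinearMap.ext fun x => (LinearMap.exact_subtype_mkQ J).apply_apply_eq_zero x)

lemma idealSC_shortExact (J : Ideal R) : (idealSC J).ShortExact :=
  ModuleCat.shortComplex_shortExact _ (LinearMap.exact_subtype_mkQ J)
    (Submodule.subtype_injective J) (Submodule.mkQ_surjective J)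

/-- the morphism of standard sequences induced by `J ≤ J'`. -/
noncomputable def idealSCMap {J J' : Ideal R} (h : J ≤ J') : idealSC J ⟶ idealSC J' where
  τ₁ := ModuleCat.ofHom (Submodule.inclusion h)
  τ₂ := 𝟙 _
  τ₃ := ModuleCat.ofHom (Submodule.factor h)
  comm₁₂ := by
    apply ModuleCat.hom_ext
    apply LinearMap.ext
    intro x
    rfl
  comm₂₃ := by
    apply ModuleCat.hom_ext
    apply LinearMap.ext
    intro x
    rfl

theorem tor_one_factor_eq_zero {J J' : Ideal R} (h : J ≤ J') (M : Type u) [AddCommGroup M]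
    [Module R M]
    (hAR : ∀ y : M ⊗[R] ↥J, LinearMap.lTensor M J.subtype y = 0 →
      LinearMap.lTensor M (Submodule.inclusion h) y = 0) :
    ((Tor (ModuleCat.{u} R) 1).obj (ModuleCat.of R M)).map
      (ModuleCat.ofHom (Submodule.factor h)) = 0 := by
  let Mc : ModuleCat.{u} R := ModuleCat.of R M
  have hS := idealSC_shortExact J
  have hS' := idealSC_shortExact J'
  have hnat := torδ_naturality Mc hS hS' (idealSCMap h) 0
  obtain ⟨w₃, e₃⟩ := torδ_exact₃ Mc (idealSC J') hS' 0
  obtain ⟨w₁, e₁⟩ := torδ_exact₁ Mc (idealSC J) hS 0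
  have hz : IsZero (((Tor (ModuleCat.{u} R) 1).obj Mc).obj (idealSC J').X₂) := by
    have hfl : Module.Flat R (idealSC J').X₂ := (inferInstance : Module.Flat R R)
    haveI := Tor_subsingleton_of_flat_right Mc (idealSC J').X₂ hfl 1 Nat.one_pos
    exact ModuleCat.isZero_of_subsingleton _
  have m : Mono (torδ Mc (idealSC J') hS' 0) := e₃.mono_g (hz.eq_of_src _ _)
  have hzero : torδ Mc (idealSC J) hS 0 ≫
      ((Tor (ModuleCat.{u} R) 0).obj Mc).map (idealSCMap h).τ₁ = 0 := by
    apply ModuleCat.hom_ext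
    apply LinearMap.ext
    intro z
    show (((Tor (ModuleCat.{u} R) 0).obj Mc).map (idealSCMap h).τ₁).hom
      ((torδ Mc (idealSC J) hS 0).hom z) = 0
    have hy : LinearMap.lTensor M J.subtype
        (tor0Equiv Mc (idealSC J).X₁ ((torδ Mc (idealSC J) hS 0).hom z)) = 0 := by
      have h1 := tor0Equiv_naturality Mc (idealSC J).f ((torδ Mc (idealSC J) hS 0).hom z)
      have h2 : (((Tor (ModuleCat.{u} R) 0).obj Mc).map (idealSC J).f).hom
          ((torδ Mc (idealSC J) hS 0).hom z) = 0 := congrArg (fun F => F.hom z) w₁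
      rw [h2, map_zero] at h1
      exact h1.symm
    have h3 := hAR _ hy
    have h4 := tor0Equiv_naturality Mc (idealSCMap h).τ₁ ((torδ Mc (idealSC J) hS 0).hom z)
    have h5 : LinearMap.lTensor M (idealSCMap h).τ₁.hom
        (tor0Equiv Mc (idealSC J).X₁ ((torδ Mc (idealSC J) hS 0).hom z)) = 0 := h3
    rw [h5] at h4
    exact (tor0Equiv Mc (idealSC J').X₁).injective (h4.trans (map_zero _).symm)
  rw [hzero] at hnat
  have h6 : ((Tor (ModuleCat.{u} R) (0 + 1)).obj Mc).map (idealSCMap h).τ₃ = 0 := by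
    rw [← cancel_mono (torδ Mc (idealSC J') hS' 0), ← hnat, zero_comp]
  exact h6

/-- S15548. -/
theorem exists_tor_one_factor_eq_zero [IsNoetherianRing R] (I : Ideal R) (M : Type u)
    [AddCommGroup M] [Module R M] [Module.Finite R M] (n : ℕ) :
    ∃ m : ℕ, n ≤ m ∧ ∀ h : I ^ m ≤ I ^ n,
      ((CategoryTheory.Tor (ModuleCat.{u} R) 1).obj (ModuleCat.of R M)).map
        (ModuleCat.ofHom (Submodule.factor h)) = 0 := by
  obtain ⟨m, hm, hAR⟩ := exists_pow_lTensor_inclusion_eq_zero I M n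
  exact ⟨m, hm, fun h => tor_one_factor_eq_zero h M (hAR h)⟩

end Groth.Agent.Lib.Helper7
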