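import Mathlib
import Groth.Prelude.Def_ega3
import Groth.Agent.Lib.Helper7.TorNat7
set_option autoImplicit false
universe u
open CategoryTheory CategoryTheory.Limits MonoidalCategory TensorProduct

namespace Groth.Agent.Lib.Helper7

variable {A : Type u} [CommRing A]

lemma torObjNatIso_hom_app (n : ℕ) (M Y : ModuleCat.{u} A) :
    (torObjNatIso n M).hom.app Y =
      (torFlipIso n M Y).hom ≫ (torIsoT M (ProjectiveResolution.of M) n Y).hom := rfl

/-- naturality of `Tor_n(M, -) ≅ H_n(P_M ⊗ -)` in `M`. -/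
lemma torObjNatIso_naturality_left (n : ℕ) {M M' : ModuleCat.{u} A} (f : M ⟶ M')
    (Y : ModuleCat.{u} A) :
    ((Tor (ModuleCat.{u} A) n).map f).app Y ≫ (torObjNatIso n M').hom.app Y =
      (torObjNatIso n M).hom.app Y ≫
        Tbi (ProjectiveResolution.lift f (ProjectiveResolution.of M)
          (ProjectiveResolution.of M')) (𝟙 Y) n := by
  have h1 := torFlipIso_natural_left n f Y
  have h2 : ((Tor (ModuleCat.{u} A) n).obj Y).map f ≫
      (torIsoT M' (ProjectiveResolution.of M') n Y).hom =
      (torIsoT M (ProjectiveResolution.of M) n Y).hom ≫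
        Tbi (ProjectiveResolution.lift f (ProjectiveResolution.of M)
          (ProjectiveResolution.of M')) (𝟙 Y) n :=
    (torIsoT_naturality₂ f _ _ _ (ProjectiveResolution.lift_commutes_zero f _ _) n Y).trans
      (congrArg (fun z => (torIsoT M (ProjectiveResolution.of M) n Y).hom ≫ z)
        (Tbi_id_right _ Y n).symm)
  rw [torObjNatIso_hom_app, torObjNatIso_hom_app]
  exact comp_two_squares _ _ _ _ _ _ _ h1 h2

/-- the connecting map of `Tor_*(M, -)` is natural in `M`. -/
theorem torδ_naturality_left {M M' : ModuleCat.{u} A} (f : M ⟶ M')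
    (S : ShortComplex (ModuleCat.{u} A)) (hS : S.ShortExact) (i : ℕ) :
    torδ M S hS i ≫ ((Tor (ModuleCat.{u} A) i).map f).app S.X₁ =
      ((Tor (ModuleCat.{u} A) (i + 1)).map f).app S.X₃ ≫ torδ M' S hS i := by
  have h1 := torObjNatIso_naturality_left (i + 1) f S.X₃
  have h2 : Tbi (ProjectiveResolution.lift f (ProjectiveResolution.of M)
        (ProjectiveResolution.of M')) (𝟙 S.X₃) (i + 1) ≫ Tδ M' S hS i =
      Tδ M S hS i ≫ Tbi (ProjectiveResolution.lift f (ProjectiveResolution.of M)
        (ProjectiveResolution.of M')) (𝟙 S.X₁) i :=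
    (δ_Tbi (ProjectiveResolution.lift f (ProjectiveResolution.of M)
      (ProjectiveResolution.of M')) (frOf M).flat (frOf M').flat (𝟙 S) hS hS
      (i + 1) i (relSucc i)).symm
  have h3 : Tbi (ProjectiveResolution.lift f (ProjectiveResolution.of M)
        (ProjectiveResolution.of M')) (𝟙 S.X₁) i ≫ (torObjNatIso i M').inv.app S.X₁ =
      (torObjNatIso i M).inv.app S.X₁ ≫ ((Tor (ModuleCat.{u} A) i).map f).app S.X₁ :=
    inv_square ((torObjNatIso i M).app S.X₁) ((torObjNatIso i M').app S.X₁) _ _
      (torObjNatIso_naturality_left i f S.X₁)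
  exact (comp_three_squares _ _ _ _ _ _ _ _ _ _ h1 h2 h3).symm

end Groth.Agent.Lib.Helper7
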