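import Mathlib
import Groth.Prelude.Def_ega3
import Groth.Agent.Lib.Helper7.TorNat8
import Groth.Agent.Lib.Helper7.TorAR
import Groth.Agent.Lib.Helper7.CxElem
set_option autoImplicit false
universe u
open CategoryTheory CategoryTheory.Limits MonoidalCategory TensorProduct

namespace Groth.Agent.Lib.Helper7

variable {R : Type u} [CommRing R]

/-- the quotient map `R/J ⟶ R/J'` for `J ≤ J'`, in `ModuleCat`. -/
noncomputable def facM {J J' : Ideal R} (h : J ≤ J') :
    ModuleCat.of R (R ⧸ J) ⟶ ModuleCat.of R (R ⧸ J') :=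
  ModuleCat.ofHom (Submodule.factor h)

lemma facM_comp {J₀ J₁ J₂ : Ideal R} (h₀₁ : J₀ ≤ J₁) (h₁₂ : J₁ ≤ J₂) :
    facM h₀₁ ≫ facM h₁₂ = facM (h₀₁.trans h₁₂) := by
  apply ModuleCat.hom_ext
  rw [ModuleCat.hom_comp]
  exact Submodule.factor_comp h₀₁ h₁₂

/-- `Tor_j(R/J, X) → Tor_j(R/J', X)` is the zero map. -/
def TorFacZero (j : ℕ) (X : ModuleCat.{u} R) {J J' : Ideal R} (h : J ≤ J') : Prop :=
  ((Tor (ModuleCat.{u} R) j).map (facM h)).app X = 0

lemma TorFacZero.trans_left {j : ℕ} {X : ModuleCat.{u} R} {J₀ J₁ J₂ : Ideal R} (h₀₁ : J₀ ≤ J₁)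
    {h₁₂ : J₁ ≤ J₂} (H : TorFacZero j X h₁₂) : TorFacZero j X (h₀₁.trans h₁₂) := by
  unfold TorFacZero at H ⊢
  rw [← facM_comp h₀₁ h₁₂, Functor.map_comp, NatTrans.comp_app, H, comp_zero]

lemma TorFacZero.trans_right {j : ℕ} {X : ModuleCat.{u} R} {J₀ J₁ J₂ : Ideal R} {h₀₁ : J₀ ≤ J₁}
    (H : TorFacZero j X h₀₁) (h₁₂ : J₁ ≤ J₂) : TorFacZero j X (h₀₁.trans h₁₂) := by
  unfold TorFacZero at H ⊢
  rw [← facM_comp h₀₁ h₁₂, Functor.map_comp, NatTrans.comp_app, H, zero_comp]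

lemma torFacZero_iff_map_eq_zero (j : ℕ) (X : ModuleCat.{u} R) {J J' : Ideal R} (h : J ≤ J') :
    TorFacZero j X h ↔ ((Tor (ModuleCat.{u} R) j).obj X).map (facM h) = 0 := by
  have hn := torFlipIso_natural_right j X (facM h)
  unfold TorFacZero
  constructor
  · intro H
    rw [H, comp_zero] at hn
    rw [← cancel_mono (torFlipIso j X (ModuleCat.of R (R ⧸ J'))).hom, hn, zero_comp]
  · intro H
    rw [H, zero_comp] at hn
    rw [← cancel_epi (torFlipIso j X (ModuleCat.of R (R ⧸ J))).hom, ← hn, comp_zero]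

/-- dimension shifting step for vanishing of transition maps. -/
theorem torFacZero_step (S : ShortComplex (ModuleCat.{u} R)) (hS : S.ShortExact) (j : ℕ)
    {J₀ J₁ J₂ : Ideal R} (h₀₁ : J₀ ≤ J₁) (h₁₂ : J₁ ≤ J₂)
    (H1 : TorFacZero j S.X₁ h₀₁) (H2 : TorFacZero (j + 1) S.X₂ h₁₂) :
    TorFacZero (j + 1) S.X₃ (h₀₁.trans h₁₂) := by
  unfold TorFacZero at H1 H2 ⊢
  rw [← facM_comp h₀₁ h₁₂, Functor.map_comp, NatTrans.comp_app]
  obtain ⟨w, e⟩ := torδ_exact₃ (ModuleCat.of R (R ⧸ J₁)) S hS j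
  have hnat := torδ_naturality_left (facM h₀₁) S hS j
  have h0 : ((Tor (ModuleCat.{u} R) (j + 1)).map (facM h₀₁)).app S.X₃ ≫
      torδ (ModuleCat.of R (R ⧸ J₁)) S hS j = 0 := by
    rw [← hnat, H1, comp_zero]
  obtain ⟨A', π, hπ, x₁, hx₁⟩ := e.exact_up_to_refinements _ h0
  have hx₁' : π ≫ ((Tor (ModuleCat.{u} R) (j + 1)).map (facM h₀₁)).app S.X₃ =
      x₁ ≫ ((Tor (ModuleCat.{u} R) (j + 1)).obj (ModuleCat.of R (R ⧸ J₁))).map S.g := hx₁
  have hn2 := ((Tor (ModuleCat.{u} R) (j + 1)).map (facM h₁₂)).naturality S.g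
  rw [← cancel_epi π, comp_zero, ← Category.assoc, hx₁', Category.assoc, hn2, H2, zero_comp,
    comp_zero]

/-- additivity: vanishing of transition maps passes to finite powers. -/
theorem torFacZero_pi (j : ℕ) (B : Type u) [AddCommGroup B] [Module R B] (r : ℕ)
    {J J' : Ideal R} (h : J ≤ J') (H : TorFacZero j (ModuleCat.of R B) h) :
    TorFacZero j (ModuleCat.of R (Fin r → B)) h := by
  unfold TorFacZero at H ⊢
  haveI := tor_obj_additive j (ModuleCat.of R (R ⧸ J))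
  have hid : 𝟙 (ModuleCat.of R (Fin r → B)) = ∑ k : Fin r,
      (ModuleCat.ofHom (LinearMap.proj k : (Fin r → B) →ₗ[R] B)) ≫
        (ModuleCat.ofHom (LinearMap.single R (fun _ : Fin r => B) k)) := by
    apply ModuleCat.hom_ext
    rw [ModuleCat.hom_sum]
    apply LinearMap.ext
    intro x
    rw [LinearMap.sum_apply]
    exact (Finset.univ_sum_single x).symm
  have h1 : ((Tor (ModuleCat.{u} R) j).map (facM h)).app (ModuleCat.of R (Fin r → B)) =
      ((Tor (ModuleCat.{u} R) j).obj (ModuleCat.of R (R ⧸ J))).map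
          (𝟙 (ModuleCat.of R (Fin r → B))) ≫
        ((Tor (ModuleCat.{u} R) j).map (facM h)).app (ModuleCat.of R (Fin r → B)) := by
    rw [CategoryTheory.Functor.map_id, Category.id_comp]
  rw [h1, hid, Functor.map_sum, Preadditive.sum_comp]
  apply Finset.sum_eq_zero
  intro k _
  rw [Functor.map_comp, Category.assoc, NatTrans.naturality, H, zero_comp, comp_zero]

section fglift

lemma exists_lTensor_subtype_eq (Y M : Type u) [AddCommGroup Y] [Module R Y] [AddCommGroup M]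
    [Module R M] (w : Y ⊗[R] M) :
    ∃ (M' : Submodule R M) (_ : M'.FG) (w' : Y ⊗[R] M'),
      LinearMap.lTensor Y M'.subtype w' = w := by
  induction w using TensorProduct.induction_on with
  | zero => exact ⟨⊥, Submodule.fg_bot, 0, map_zero _⟩
  | tmul y k =>
    refine ⟨Submodule.span R {k}, Submodule.fg_span_singleton k,
      y ⊗ₜ[R] ⟨k, Submodule.mem_span_singleton_self k⟩, ?_⟩
    rw [LinearMap.lTensor_tmul]
    rfl
  | add w₁ w₂ h₁ h₂ =>
    obtain ⟨M₁, hM₁, v₁, hv₁⟩ := h₁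
    obtain ⟨M₂, hM₂, v₂, hv₂⟩ := h₂
    refine ⟨M₁ ⊔ M₂, hM₁.sup hM₂,
      LinearMap.lTensor Y (Submodule.inclusion (le_sup_left : M₁ ≤ M₁ ⊔ M₂)) v₁ +
        LinearMap.lTensor Y (Submodule.inclusion (le_sup_right : M₂ ≤ M₁ ⊔ M₂)) v₂, ?_⟩
    rw [map_add, ← LinearMap.comp_apply, ← LinearMap.comp_apply, ← LinearMap.lTensor_comp,
      ← LinearMap.lTensor_comp, Submodule.subtype_comp_inclusion,
      Submodule.subtype_comp_inclusion, hv₁, hv₂]

variable {ι : Type} {c : ComplexShape ι}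

/-- every class in `H_p(P ⊗ M)` (`P` termwise flat) comes from a finitely generated submodule. -/
theorem exists_TFun_lift_fg (P : HomologicalComplex (ModuleCat.{u} R) c)
    (hP : ∀ i, Module.Flat R (P.X i)) (p : ι) (M : Type u) [AddCommGroup M] [Module R M]
    (t : (CohIII.TFun P p).obj (ModuleCat.of R M)) :
    ∃ (M' : Submodule R M) (_ : M'.FG) (t' : (CohIII.TFun P p).obj (ModuleCat.of R M')),
      ((CohIII.TFun P p).map (ModuleCat.ofHom M'.subtype)).hom t' = t := by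
  obtain ⟨x, hx, rfl⟩ := clsT_surjective P p (ModuleCat.of R M) t
  obtain ⟨M', hM', x', hx'⟩ := exists_lTensor_subtype_eq (P.X p) M x
  haveI := hP (c.next p)
  have hinj : Function.Injective (LinearMap.lTensor (P.X (c.next p)) M'.subtype) :=
    Module.Flat.lTensor_preserves_injective_linearMap M'.subtype (Submodule.subtype_injective M')
  have hcyc : LinearMap.rTensor M' (P.d p (c.next p)).hom x' = 0 := by
    apply hinj
    rw [map_zero, ← rTensor_lTensor_comm, hx']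
    exact hx
  refine ⟨M', hM', clsT P p (ModuleCat.of R M') x' hcyc, ?_⟩
  have h2 := TFun_map_clsT P p (ModuleCat.ofHom M'.subtype) x' hcyc
    (lTensor_cycle P p (ModuleCat.ofHom M'.subtype) x' hcyc)
  rw [h2]
  exact clsT_congr P p (ModuleCat.of R M) _ _ _ _ hx'

/-- every class in `Tor_j(Y, M)` comes from a finitely generated submodule of `M`. -/
theorem exists_Tor_lift_fg (j : ℕ) (Y : ModuleCat.{u} R) (M : Type u) [AddCommGroup M]
    [Module R M] (t : ((Tor (ModuleCat.{u} R) j).obj Y).obj (ModuleCat.of R M)) :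
    ∃ (M' : Submodule R M) (_ : M'.FG)
      (t' : ((Tor (ModuleCat.{u} R) j).obj Y).obj (ModuleCat.of R M')),
      (((Tor (ModuleCat.{u} R) j).obj Y).map (ModuleCat.ofHom M'.subtype)).hom t' = t := by
  obtain ⟨M', hM', s', hs'⟩ := exists_TFun_lift_fg (ProjectiveResolution.of Y).complex
    (frOf Y).flat j M (((torObjNatIso j Y).hom.app (ModuleCat.of R M)).hom t)
  refine ⟨M', hM', ((torObjNatIso j Y).inv.app (ModuleCat.of R M')).hom s', ?_⟩
  have hn := (torObjNatIso j Y).inv.naturality (ModuleCat.ofHom M'.subtype)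
  have h1 : ((torObjNatIso j Y).inv.app (ModuleCat.of R M)).hom
      (((CohIII.TFun (ProjectiveResolution.of Y).complex j).map
        (ModuleCat.ofHom M'.subtype)).hom s') =
      (((Tor (ModuleCat.{u} R) j).obj Y).map (ModuleCat.ofHom M'.subtype)).hom
        (((torObjNatIso j Y).inv.app (ModuleCat.of R M')).hom s') :=
    congrArg (fun F => F.hom s') hn
  rw [← h1, hs']
  exact congrArg (fun F => F.hom t) ((torObjNatIso j Y).hom_inv_id_app (ModuleCat.of R M))

/-- vanishing of a transition map can be checked on finitely generated submodules. -/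
theorem torFacZero_of_fg (j : ℕ) (M : Type u) [AddCommGroup M] [Module R M] {J J' : Ideal R}
    (h : J ≤ J') (H : ∀ M' : Submodule R M, M'.FG → TorFacZero j (ModuleCat.of R M') h) :
    TorFacZero j (ModuleCat.of R M) h := by
  unfold TorFacZero
  apply ModuleCat.hom_ext
  apply LinearMap.ext
  intro t
  obtain ⟨M', hM', t', rfl⟩ := exists_Tor_lift_fg j (ModuleCat.of R (R ⧸ J)) M t
  have hn := ((Tor (ModuleCat.{u} R) j).map (facM h)).naturality (ModuleCat.ofHom M'.subtype)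
  have h1 : (((Tor (ModuleCat.{u} R) j).map (facM h)).app (ModuleCat.of R M)).hom
      ((((Tor (ModuleCat.{u} R) j).obj (ModuleCat.of R (R ⧸ J))).map
        (ModuleCat.ofHom M'.subtype)).hom t') =
      (((Tor (ModuleCat.{u} R) j).obj (ModuleCat.of R (R ⧸ J'))).map
        (ModuleCat.ofHom M'.subtype)).hom
        ((((Tor (ModuleCat.{u} R) j).map (facM h)).app (ModuleCat.of R M')).hom t') :=
    congrArg (fun F => F.hom t') hn
  have h2 : ((Tor (ModuleCat.{u} R) j).map (facM h)).app (ModuleCat.of R M') = 0 := H M' hM'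
  rw [h1, h2]
  simp only [ModuleCat.hom_zero, LinearMap.zero_apply, map_zero]

end fglift

section level_one

lemma tmul_mk_eq_zero_of_mem_mul {M : Type u} [AddCommGroup M] [Module R M] {J₁ J₂ : Ideal R}
    (hM : ∀ a ∈ J₁, ∀ x : M, a • x = 0) (x : M) (a : R) (ha : a ∈ J₁ * J₂) :
    a ∈ J₂ ∧ ∀ ha' : a ∈ J₂, x ⊗ₜ[R] (⟨a, ha'⟩ : ↥J₂) = 0 := by
  refine Submodule.smul_induction_on
    (p := fun a => a ∈ J₂ ∧ ∀ ha' : a ∈ J₂, x ⊗ₜ[R] (⟨a, ha'⟩ : ↥J₂) = 0) ha ?_ ?_
  · intro b hb c hc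
    refine ⟨J₂.mul_mem_left b hc, fun ha' => ?_⟩
    have e : (⟨b • c, ha'⟩ : ↥J₂) = b • (⟨c, hc⟩ : ↥J₂) := Subtype.ext rfl
    rw [e, TensorProduct.tmul_smul, TensorProduct.smul_tmul', hM b hb x, TensorProduct.zero_tmul]
  · intro a₁ a₂ h₁ h₂
    refine ⟨J₂.add_mem h₁.1 h₂.1, fun ha' => ?_⟩
    have e : (⟨a₁ + a₂, ha'⟩ : ↥J₂) = ⟨a₁, h₁.1⟩ + ⟨a₂, h₂.1⟩ := Subtype.ext rfl
    rw [e, TensorProduct.tmul_add, h₁.2 h₁.1, h₂.2 h₂.1, add_zero]

/-- if `I^m` kills `M` then `M ⊗ I^n → M ⊗ I^(n-m)` is zero. -/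
lemma lTensor_inclusion_eq_zero_of_killed (I : Ideal R) (m n : ℕ) (hmn : m ≤ n) (M : Type u)
    [AddCommGroup M] [Module R M] (hM : ∀ a ∈ I ^ m, ∀ x : M, a • x = 0)
    (h : I ^ n ≤ I ^ (n - m)) (y : M ⊗[R] ↥(I ^ n)) :
    LinearMap.lTensor M (Submodule.inclusion h) y = 0 := by
  have hpow : I ^ n = I ^ m * I ^ (n - m) := by rw [← pow_add, Nat.add_sub_cancel' hmn]
  induction y using TensorProduct.induction_on with
  | zero => exact map_zero _
  | tmul x a =>
    rw [LinearMap.lTensor_tmul]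
    have ha : (a : R) ∈ I ^ m * I ^ (n - m) := by
      rw [← hpow]
      exact a.2
    exact (tmul_mk_eq_zero_of_mem_mul hM x a.1 ha).2 (h a.2)
  | add y₁ y₂ h₁ h₂ => rw [map_add, h₁, h₂, add_zero]

end level_one

section uniformAR

/-- uniform Artin–Rees for `ker (M ⊗ I^n → M)`. -/
theorem exists_uniform_lTensor_inclusion_eq_zero [IsNoetherianRing R] (I : Ideal R) (M : Type u)
    [AddCommGroup M] [Module R M] [Module.Finite R M] :
    ∃ c : ℕ, ∀ n : ℕ, c ≤ n → ∀ (h : I ^ n ≤ I ^ (n - c)) (y : M ⊗[R] ↥(I ^ n)),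
      LinearMap.lTensor M (I ^ n).subtype y = 0 →
        LinearMap.lTensor M (Submodule.inclusion h) y = 0 := by
  obtain ⟨r, π, hπ⟩ := Module.Finite.exists_fin' R M
  obtain ⟨c, hc⟩ := Ideal.exists_pow_inf_eq_pow_smul I (LinearMap.ker π)
  refine ⟨c, ?_⟩
  intro n hn h y hy
  obtain ⟨y', rfl⟩ := LinearMap.rTensor_surjective ↥(I ^ n) hπ y
  have hu1 : mulMap (Fin r → R) (I ^ n) y' ∈ (I ^ n • ⊤ : Submodule R (Fin r → R)) :=
    mulMap_mem _ _ y'
  have hu2 : mulMap (Fin r → R) (I ^ n) y' ∈ LinearMap.ker π := by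
    rw [LinearMap.mem_ker, ← mulMap_rTensor, mulMap_eq_zero_iff]
    exact hy
  have hu3 : mulMap (Fin r → R) (I ^ n) y' ∈
      I ^ (n - c) • (I ^ c • ⊤ ⊓ LinearMap.ker π : Submodule R (Fin r → R)) := by
    rw [← hc n hn]
    exact ⟨hu1, hu2⟩
  have key : ∀ u : Fin r → R,
      u ∈ I ^ (n - c) • (I ^ c • ⊤ ⊓ LinearMap.ker π : Submodule R (Fin r → R)) →
      ∃ w : (Fin r → R) ⊗[R] ↥(I ^ (n - c)), mulMap (Fin r → R) (I ^ (n - c)) w = u ∧
        LinearMap.rTensor ↥(I ^ (n - c)) π w = 0 := by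
    intro u hu
    refine Submodule.smul_induction_on hu ?_ ?_
    · intro a ha k hk
      refine ⟨k ⊗ₜ[R] ⟨a, ha⟩, mulMap_tmul _ _ k ⟨a, ha⟩, ?_⟩
      rw [LinearMap.rTensor_tmul, LinearMap.mem_ker.mp hk.2, TensorProduct.zero_tmul]
    · rintro u₁ u₂ ⟨w₁, h₁, h₁'⟩ ⟨w₂, h₂, h₂'⟩
      exact ⟨w₁ + w₂, by rw [map_add, h₁, h₂], by rw [map_add, h₁', h₂', add_zero]⟩
  obtain ⟨w, hw1, hw2⟩ := key _ hu3
  have hw3 : LinearMap.lTensor (Fin r → R) (Submodule.inclusion h) y' = w := by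
    apply mulMap_injective (Fin r → R) (I ^ (n - c))
    rw [mulMap_lTensor_inclusion, hw1]
  have hcomm : LinearMap.lTensor M (Submodule.inclusion h) (LinearMap.rTensor ↥(I ^ n) π y') =
      LinearMap.rTensor ↥(I ^ (n - c)) π
        (LinearMap.lTensor (Fin r → R) (Submodule.inclusion h) y') := by
    have e1 := LinearMap.congr_fun
      (LinearMap.lTensor_comp_rTensor (f := π) (g := Submodule.inclusion h)) y'
    have e2 := LinearMap.congr_fun
      (LinearMap.rTensor_comp_lTensor (f := π) (g := Submodule.inclusion h)) y'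
    exact e1.trans e2.symm
  rw [hcomm, hw3, hw2]

theorem exists_uniform_torFacZero_one [IsNoetherianRing R] (I : Ideal R) (N : Type u)
    [AddCommGroup N] [Module R N] [Module.Finite R N] :
    ∃ c : ℕ, ∀ n : ℕ, c ≤ n → ∀ h : I ^ n ≤ I ^ (n - c),
      TorFacZero 1 (ModuleCat.of R N) h := by
  obtain ⟨c, hc⟩ := exists_uniform_lTensor_inclusion_eq_zero I N
  refine ⟨c, fun n hn h => ?_⟩
  rw [torFacZero_iff_map_eq_zero]
  exact tor_one_factor_eq_zero h N (hc n hn h)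

/-- uniform Artin–Rees for all `Tor_j(-, N)`, `N` a fixed finite module. -/
theorem exists_uniform_torFacZero_fin [IsNoetherianRing R] (I : Ideal R) (j : ℕ) :
    ∀ (N : Type u) [AddCommGroup N] [Module R N] [Module.Finite R N],
    ∃ c : ℕ, ∀ n : ℕ, c ≤ n → ∀ h : I ^ n ≤ I ^ (n - c),
      TorFacZero (j + 1) (ModuleCat.of R N) h := by
  induction j with
  | zero =>
    intro N _ _ _
    exact exists_uniform_torFacZero_one I N
  | succ j ih =>
    intro N _ _ _
    obtain ⟨r, π, hπ⟩ := Module.Finite.exists_fin' R N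
    obtain ⟨c, hc⟩ := ih (LinearMap.ker π)
    refine ⟨c, fun n hn h => ?_⟩
    have hS := LinearMap.shortExact_shortComplexKer hπ
    have H1 : TorFacZero (j + 1) (π.shortComplexKer).X₁ h := hc n hn h
    have H2 : TorFacZero (j + 1 + 1) (π.shortComplexKer).X₂ (le_refl (I ^ (n - c))) := by
      unfold TorFacZero
      have hfl : Module.Flat R (π.shortComplexKer).X₂ :=
        (inferInstance : Module.Flat R (Fin r → R))
      haveI := Tor_subsingleton_of_flat_right (ModuleCat.of R (R ⧸ I ^ (n - c)))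
        (π.shortComplexKer).X₂ hfl (j + 1 + 1) (Nat.succ_pos _)
      exact (ModuleCat.isZero_of_subsingleton _).eq_of_src _ _
    exact torFacZero_step _ hS (j + 1) h (le_refl _) H1 H2

end uniformAR

section killed

lemma smul_quot_eq_zero (J : Ideal R) (a : R) (ha : a ∈ J) (z : R ⧸ J) : a • z = 0 := by
  obtain ⟨b, rfl⟩ := Submodule.mkQ_surjective J z
  rw [Submodule.mkQ_apply, ← Submodule.Quotient.mk_smul, Submodule.Quotient.mk_eq_zero]
  show a * b ∈ J
  exact J.mul_mem_right b ha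

lemma exists_surjective_pi_quot (J : Ideal R) (M : Type u) [AddCommGroup M] [Module R M]
    [Module.Finite R M] (hM : ∀ a ∈ J, ∀ x : M, a • x = 0) :
    ∃ (r : ℕ) (π : (Fin r → R ⧸ J) →ₗ[R] M), Function.Surjective π := by
  obtain ⟨r, π₀, hπ₀⟩ := Module.Finite.exists_fin' R M
  have hle : ∀ k : Fin r, J ≤ LinearMap.ker
      (LinearMap.toSpanSingleton R M (π₀ (fun j => if k = j then 1 else 0))) := by
    intro k a ha
    rw [LinearMap.mem_ker, LinearMap.toSpanSingleton_apply]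
    exact hM a ha _
  refine ⟨r, LinearMap.lsum R (fun _ : Fin r => R ⧸ J) R
    (fun k => J.liftQ (LinearMap.toSpanSingleton R M (π₀ (fun j => if k = j then 1 else 0)))
      (hle k)), ?_⟩
  intro x
  obtain ⟨a, rfl⟩ := hπ₀ x
  refine ⟨fun k => Submodule.Quotient.mk (a k), ?_⟩
  rw [LinearMap.lsum_apply, LinearMap.sum_apply, LinearMap.pi_apply_eq_sum_univ π₀ a]
  apply Finset.sum_congr rfl
  intro k _
  show J.liftQ (LinearMap.toSpanSingleton R M (π₀ (fun j => if k = j then 1 else 0))) (hle k)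
    (Submodule.Quotient.mk (a k)) = a k • π₀ (fun j => if k = j then 1 else 0)
  rw [Submodule.liftQ_apply, LinearMap.toSpanSingleton_apply]

/-- **uniform Artin–Rees for Tor, fixed torsion**: for every `j ≥ 1` there is `c` such that
`Tor_j(R/I^n, M) → Tor_j(R/I^(n-c), M)` vanishes for all `n ≥ c` and all `M` killed by `I^m`. -/
theorem exists_uniform_torFacZero_killed [IsNoetherianRing R] (I : Ideal R) (m : ℕ) (j : ℕ) :
    ∃ c : ℕ, ∀ (M : Type u) [AddCommGroup M] [Module R M],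
      (∀ a ∈ I ^ m, ∀ x : M, a • x = 0) →
      ∀ n : ℕ, c ≤ n → ∀ h : I ^ n ≤ I ^ (n - c), TorFacZero (j + 1) (ModuleCat.of R M) h := by
  induction j with
  | zero =>
    refine ⟨m, ?_⟩
    intro M _ _ hM n hn h
    rw [torFacZero_iff_map_eq_zero]
    exact tor_one_factor_eq_zero h M
      (fun y _ => lTensor_inclusion_eq_zero_of_killed I m n hn M hM h y)
  | succ j ih =>
    obtain ⟨c₁, hc₁⟩ := ih
    obtain ⟨c₂, hc₂⟩ := exists_uniform_torFacZero_fin I (j + 1) (R ⧸ I ^ m)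
    refine ⟨c₁ + c₂, ?_⟩
    have fgcase : ∀ (M : Type u) [AddCommGroup M] [Module R M] [Module.Finite R M],
        (∀ a ∈ I ^ m, ∀ x : M, a • x = 0) →
        ∀ n : ℕ, c₁ + c₂ ≤ n → ∀ h : I ^ n ≤ I ^ (n - (c₁ + c₂)),
          TorFacZero (j + 1 + 1) (ModuleCat.of R M) h := by
      intro M _ _ _ hM n hn h
      obtain ⟨r, π, hπ⟩ := exists_surjective_pi_quot (I ^ m) M hM
      have hS := LinearMap.shortExact_shortComplexKer hπ
      have hK : ∀ a ∈ I ^ m, ∀ x : LinearMap.ker π, a • x = 0 := by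
        intro a ha x
        apply Subtype.ext
        funext k
        exact smul_quot_eq_zero (I ^ m) a ha (x.1 k)
      have h₀₁ : I ^ n ≤ I ^ (n - c₁) := Ideal.pow_le_pow_right (Nat.sub_le n c₁)
      have h₁₂ : I ^ (n - c₁) ≤ I ^ (n - c₁ - c₂) :=
        Ideal.pow_le_pow_right (Nat.sub_le (n - c₁) c₂)
      have h₂₃ : I ^ (n - c₁ - c₂) ≤ I ^ (n - (c₁ + c₂)) :=
        Ideal.pow_le_pow_right (by omega)
      have H1 : TorFacZero (j + 1) (π.shortComplexKer).X₁ h₀₁ :=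
        hc₁ (LinearMap.ker π) hK n (by omega) h₀₁
      have H2 : TorFacZero (j + 1 + 1) (π.shortComplexKer).X₂ h₁₂ :=
        torFacZero_pi (j + 1 + 1) (R ⧸ I ^ m) r h₁₂ (hc₂ (n - c₁) (by omega) h₁₂)
      exact (torFacZero_step _ hS (j + 1) h₀₁ h₁₂ H1 H2).trans_right h₂₃
    intro M _ _ hM n hn h
    refine torFacZero_of_fg (j + 1 + 1) M h (fun M' hM' => ?_)
    haveI : Module.Finite R M' := Module.Finite.iff_fg.mpr hM'
    exact fgcase M' (fun a ha x => Subtype.ext (hM a ha x.1)) n hn h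

end killed

end Groth.Agent.Lib.Helper7
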