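import Mathlib

set_option autoImplicit false
universe u
open AlgebraicGeometry CategoryTheory

namespace Groth.Agent.Lib.Helper7

theorem opens_eq_top_of_contains_preimage_adic_locus (A : Type u) [CommRing A]
    (J : Ideal A) [IsAdicComplete J A] {X : Scheme.{u}} (f : X ⟶ Spec (CommRingCat.of A))
    (hf : IsClosedMap f.base) (U : X.Opens)
    (hU : f.base ⁻¹' (PrimeSpectrum.zeroLocus (J : Set A)) ⊆ (U : Set X)) : U = ⊤ := by
  have hZ : IsClosed (X := PrimeSpectrum A) (f.base '' (U : Set X)ᶜ) :=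
    hf _ U.isOpen.isClosed_compl
  obtain ⟨I, hI⟩ := (PrimeSpectrum.isClosed_iff_zeroLocus_ideal _).mp hZ
  have hdisj : PrimeSpectrum.zeroLocus (I : Set A) ∩ PrimeSpectrum.zeroLocus (J : Set A) = ∅ := by
    rw [← hI]
    ext p
    simp only [Set.mem_inter_iff, Set.mem_image, Set.mem_compl_iff, SetLike.mem_coe,
      Set.mem_empty_iff_false, iff_false, not_and, forall_exists_index, and_imp]
    rintro x hx rfl hpJ
    exact hx (hU hpJ)
  rw [← PrimeSpectrum.zeroLocus_sup, PrimeSpectrum.zeroLocus_empty_iff_eq_top] at hdisj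
  have hJ : J ≤ Ideal.jacobson ⊥ := IsAdicComplete.le_jacobson_bot J
  have hItop : I = ⊤ := by
    obtain ⟨i, hi, j, hj, hij⟩ := Submodule.mem_sup.mp ((Ideal.eq_top_iff_one _).mp hdisj)
    have hu : IsUnit i := by
      have := Ideal.mem_jacobson_bot.mp (hJ hj) (-1)
      have e : j * -1 + 1 = i := by linear_combination -hij
      rwa [e] at this
    exact Ideal.eq_top_of_isUnit_mem _ hi hu
  rw [hItop] at hI
  have hempty : (U : Set X)ᶜ = ∅ := by
    have : f.base '' (U : Set X)ᶜ = ∅ := hI.trans (by simp <;> rfl)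
    exact Set.image_eq_empty.mp this
  ext x
  simp only [TopologicalSpace.Opens.coe_top, Set.mem_univ, iff_true]
  by_contra hx
  exact (Set.eq_empty_iff_forall_notMem.mp hempty x) hx

end Groth.Agent.Lib.Helper7
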