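import Mathlib
import Groth.Prelude.Def_CAlgX

/-!
# Formal smoothness of a quotient for an adic topology (EGA 0_IV 22.6.1, Noetherian adic case)

`AdicQuot.main`: `B` formally smooth over `A` for the `I`-adic topology, `B → C` surjective with kernel
`J`, `Q` an ideal of definition of `C`.  Then `C` is formally smooth over `A` for the `IC`-adic topology
iff `(J/J²) ⊗ C/Q → Ω_{B/A} ⊗ C/Q` has a `C/Q`-linear left inverse.
-/

set_option autoImplicit false

open TensorProduct KaehlerDifferential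

namespace Groth.Agent.Lib.Helper7.AdicQuot

universe u

/-- Transport a module structure along a surjective ring map whose kernel acts trivially. -/
theorem exists_module_of_surjective {B S N : Type*} [CommRing B] [CommRing S] [Algebra B S]
    (hs : Function.Surjective (algebraMap B S)) [AddCommGroup N] [Module B N]
    (h : ∀ b : B, algebraMap B S b = 0 → ∀ n : N, b • n = 0) :
    ∃ (_ : Module S N), IsScalarTower B S N := by
  classical
  letI smulSN : SMul S N := ⟨fun s n => (Function.surjInv hs s) • n⟩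
  have hsmul : ∀ (c : B) (x : N), (algebraMap B S c) • x = c • x := by
    intro c x
    show (Function.surjInv hs (algebraMap B S c)) • x = c • x
    have h0 : algebraMap B S (Function.surjInv hs (algebraMap B S c) - c) = 0 := by
      rw [map_sub, Function.surjInv_eq hs, sub_self]
    have h1 := h _ h0 x
    rw [sub_smul, sub_eq_zero] at h1
    exact h1
  letI modSN : Module S N := Function.Surjective.moduleLeft (algebraMap B S) hs hsmul
  refine ⟨modSN, ⟨fun b s n => ?_⟩⟩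
  obtain ⟨c, rfl⟩ := hs s
  have e1 : b • algebraMap B S c = algebraMap B S (b * c) := by
    rw [Algebra.smul_def, map_mul]
  rw [e1]
  have h2 : (algebraMap B S (b * c)) • n = (b * c) • n := hsmul (b * c) n
  have h3 : (algebraMap B S c) • n = c • n := hsmul c n
  rw [h2, h3, mul_smul]

theorem map_sq_eq_bot {B : Type*} [CommRing B] (L J : Ideal B)
    (h : ∀ x ∈ J, ∀ y ∈ J, x * y ∈ L) : (J.map (Ideal.Quotient.mk L)) ^ 2 = ⊥ := by
  rw [eq_bot_iff, pow_two, Ideal.mul_le]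
  intro x hx y hy
  obtain ⟨a, ha, rfl⟩ := (Ideal.mem_map_iff_of_surjective _ Ideal.Quotient.mk_surjective).mp hx
  obtain ⟨b, hb, rfl⟩ := (Ideal.mem_map_iff_of_surjective _ Ideal.Quotient.mk_surjective).mp hy
  rw [Ideal.mem_bot, ← map_mul, Ideal.Quotient.eq_zero_iff_mem]
  exact h a ha b hb

variable {A B C : Type u} [CommRing A] [CommRing B] [CommRing C] [Algebra A B] [Algebra B C]
  [Algebra A C] [IsScalarTower A B C]

/-- Base case of the lifting: the square-zero kernel is killed by `Q`. -/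
theorem lift_base (hsurj : Function.Surjective (algebraMap B C)) (I : Ideal B)
    (hB : CAlgX.IsAdicFormallySmooth A B I) (Q : Ideal C)
    (g : (C ⧸ Q) ⊗[B] (C ⊗[B] Ω[B⁄A]) →ₗ[C ⧸ Q]
      (C ⧸ Q) ⊗[B] (RingHom.ker (algebraMap B C)).Cotangent)
    (hg : g ∘ₗ LinearMap.baseChange (C ⧸ Q) (kerCotangentToTensor A B C) = LinearMap.id)
    (R : Type u) [CommRing R] [Algebra A R] (N : Ideal R) (hN : N ^ 2 = ⊥)
    (ψ : C →ₐ[A] R ⧸ N) (hψ : ∃ k : ℕ, ∀ x ∈ (I.map (algebraMap B C)) ^ k, ψ x = 0)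
    (hQN : ∀ c ∈ Q, ∀ r : R, Ideal.Quotient.mk N r = ψ c → ∀ n ∈ N, r * n = 0) :
    ∃ χ : C →ₐ[A] R, (Ideal.Quotient.mkₐ A N).comp χ = ψ := by
  classical
  obtain ⟨k, hk⟩ := hψ
  obtain ⟨w, hw⟩ := hB R N hN (ψ.comp (IsScalarTower.toAlgHom A B C)) ⟨k, fun x hx => by
    show ψ (algebraMap B C x) = 0
    apply hk
    rw [← Ideal.map_pow]
    exact Ideal.mem_map_of_mem _ hx⟩
  have hw' : ∀ b : B, Ideal.Quotient.mk N (w b) = ψ (algebraMap B C b) := fun b =>
    DFunLike.congr_fun hw b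
  letI algBR : Algebra B R := w.toRingHom.toAlgebra
  haveI towerABR : IsScalarTower A B R :=
    IsScalarTower.of_algebraMap_eq (fun a => (w.commutes a).symm)
  have hNN : ∀ x ∈ N, ∀ y ∈ N, x * y = 0 := by
    intro x hx y hy
    have h1 : x * y ∈ N ^ 2 := by rw [pow_two]; exact Ideal.mul_mem_mul hx hy
    rw [hN] at h1
    simpa using h1
  have hJN : ∀ j ∈ RingHom.ker (algebraMap B C), w j ∈ N := by
    intro j hj
    rw [← Ideal.Quotient.eq_zero_iff_mem, hw', RingHom.mem_ker.mp hj, map_zero]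
  have htors : ∀ b : B, algebraMap B (C ⧸ Q) b = 0 → ∀ n : ↥N, b • n = 0 := by
    intro b hb n
    have hbQ : algebraMap B C b ∈ Q := by
      rw [IsScalarTower.algebraMap_apply B C (C ⧸ Q)] at hb
      have hb' : Ideal.Quotient.mk Q (algebraMap B C b) = 0 := hb
      exact Ideal.Quotient.eq_zero_iff_mem.mp hb'
    apply Subtype.ext
    show b • (n : R) = 0
    rw [Algebra.smul_def]
    exact hQN _ hbQ (w b) (hw' b) n.1 n.2
  have hsurjS : Function.Surjective (algebraMap B (C ⧸ Q)) := by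
    rw [IsScalarTower.algebraMap_eq B C (C ⧸ Q)]
    exact (Ideal.Quotient.mk_surjective).comp hsurj
  obtain ⟨modS, towerS⟩ := exists_module_of_surjective hsurjS htors
  letI := modS
  haveI := towerS
  let f₀ : ↥(RingHom.ker (algebraMap B C)) →ₗ[B] ↥N :=
    { toFun := fun j => ⟨w j.1, hJN j.1 j.2⟩
      map_add' := fun x y => Subtype.ext (map_add w x.1 y.1)
      map_smul' := fun b x => Subtype.ext (by
        show w (b * x.1) = w b * w x.1
        exact map_mul w b x.1) }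
  have hf₀ : (RingHom.ker (algebraMap B C)) •
      (⊤ : Submodule B ↥(RingHom.ker (algebraMap B C))) ≤ LinearMap.ker f₀ := by
    rw [Submodule.smul_le]
    intro r hr n _
    rw [LinearMap.mem_ker, map_smul]
    apply Subtype.ext
    show r • (w n.1) = 0
    rw [Algebra.smul_def]
    exact hNN _ (hJN r hr) _ (hJN n.1 n.2)
  let h₀ : (RingHom.ker (algebraMap B C)).Cotangent →ₗ[B] ↥N := Submodule.liftQ _ f₀ hf₀
  have hh₀ : ∀ j, h₀ ((RingHom.ker (algebraMap B C)).toCotangent j) = f₀ j := fun j => rfl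
  let h : (C ⧸ Q) ⊗[B] (RingHom.ker (algebraMap B C)).Cotangent →ₗ[C ⧸ Q] ↥N :=
    LinearMap.liftBaseChange (C ⧸ Q) h₀
  let ι : Ω[B⁄A] →ₗ[B] (C ⧸ Q) ⊗[B] (C ⊗[B] Ω[B⁄A]) :=
    (TensorProduct.mk B (C ⧸ Q) (C ⊗[B] Ω[B⁄A]) 1) ∘ₗ (TensorProduct.mk B C Ω[B⁄A] 1)
  let D₀ : Ω[B⁄A] →ₗ[B] ↥N := ((h ∘ₗ g).restrictScalars B) ∘ₗ ι
  let δ : Derivation A B ↥N := - (D₀.compDer (KaehlerDifferential.D A B))
  have hδ : ∀ j (_ : j ∈ RingHom.ker (algebraMap B C)), ((δ j : ↥N) : R) = - w j := by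
    intro j hj
    have e1 : g ((1 : C ⧸ Q) ⊗ₜ[B] ((1 : C) ⊗ₜ[B] KaehlerDifferential.D A B j)) =
        (1 : C ⧸ Q) ⊗ₜ[B] (RingHom.ker (algebraMap B C)).toCotangent ⟨j, hj⟩ := by
      have h1 := LinearMap.congr_fun hg
        ((1 : C ⧸ Q) ⊗ₜ[B] (RingHom.ker (algebraMap B C)).toCotangent ⟨j, hj⟩)
      rw [LinearMap.comp_apply, LinearMap.baseChange_tmul, kerCotangentToTensor_toCotangent] at h1
      exact h1
    have e2 : D₀ (KaehlerDifferential.D A B j) = f₀ ⟨j, hj⟩ := by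
      show h (g ((1 : C ⧸ Q) ⊗ₜ[B] ((1 : C) ⊗ₜ[B] KaehlerDifferential.D A B j))) = f₀ ⟨j, hj⟩
      rw [e1, LinearMap.liftBaseChange_tmul, one_smul, hh₀]
    have e3 : δ j = - (D₀ (KaehlerDifferential.D A B j)) := rfl
    rw [e3, e2]
    rfl
  let χ' : B →ₐ[A] R := liftOfDerivationToSquareZero N hN δ
  have hχ' : ∀ b, χ' b = (δ b : R) + w b := fun b => liftOfDerivationToSquareZero_apply N hN δ b
  have hχ'J : ∀ j ∈ RingHom.ker (algebraMap B C), χ' j = 0 := by
    intro j hj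
    rw [hχ', hδ j hj, neg_add_cancel]
  have hker : RingHom.ker (IsScalarTower.toAlgHom A B C).toRingHom ≤ RingHom.ker χ'.toRingHom := by
    intro x hx
    have hx' : algebraMap B C x = 0 := RingHom.mem_ker.mp hx
    exact RingHom.mem_ker.mpr (hχ'J x (RingHom.mem_ker.mpr hx'))
  refine ⟨AlgHom.liftOfSurjective (IsScalarTower.toAlgHom A B C) hsurj χ' hker, ?_⟩
  apply AlgHom.ext
  intro c
  obtain ⟨b, rfl⟩ := hsurj c
  have e4 : AlgHom.liftOfSurjective (IsScalarTower.toAlgHom A B C) hsurj χ' hker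
      (algebraMap B C b) = χ' b :=
    AlgHom.liftOfSurjective_apply (IsScalarTower.toAlgHom A B C) hsurj χ' hker b
  show Ideal.Quotient.mk N (AlgHom.liftOfSurjective (IsScalarTower.toAlgHom A B C) hsurj χ' hker
      (algebraMap B C b)) = ψ (algebraMap B C b)
  rw [e4, hχ', map_add, Ideal.Quotient.eq_zero_iff_mem.mpr (δ b).2, zero_add, hw']

/-- Induction on the nilpotency order of `Q` on the square-zero kernel. -/
theorem lift_ind (hsurj : Function.Surjective (algebraMap B C)) (I : Ideal B)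
    (hB : CAlgX.IsAdicFormallySmooth A B I) (Q : Ideal C)
    (g : (C ⧸ Q) ⊗[B] (C ⊗[B] Ω[B⁄A]) →ₗ[C ⧸ Q]
      (C ⧸ Q) ⊗[B] (RingHom.ker (algebraMap B C)).Cotangent)
    (hg : g ∘ₗ LinearMap.baseChange (C ⧸ Q) (kerCotangentToTensor A B C) = LinearMap.id) :
    ∀ (e : ℕ) (R : Type u) [CommRing R] [Algebra A R] (N : Ideal R), N ^ 2 = ⊥ →
      ∀ ψ : C →ₐ[A] R ⧸ N, (∃ k : ℕ, ∀ x ∈ (I.map (algebraMap B C)) ^ k, ψ x = 0) →
      (∀ c ∈ Q ^ (e + 1), ∀ r : R, Ideal.Quotient.mk N r = ψ c → ∀ n ∈ N, r * n = 0) →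
      ∃ χ : C →ₐ[A] R, (Ideal.Quotient.mkₐ A N).comp χ = ψ := by
  intro e
  induction e with
  | zero =>
    intro R _ _ N hN ψ hψ hQN
    exact lift_base hsurj I hB Q g hg R N hN ψ hψ (fun c hc => hQN c (by simpa using hc))
  | succ e ih =>
    intro R _ _ N hN ψ hψ hQN
    classical
    obtain ⟨k, hk⟩ := hψ
    let N₁ : Ideal R := Ideal.span
      {x | ∃ c ∈ Q, ∃ r : R, Ideal.Quotient.mk N r = ψ c ∧ ∃ n ∈ N, x = r * n}
    have hN₁N : N₁ ≤ N := by
      rw [Ideal.span_le]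
      rintro x ⟨c, hc, r, hr, n, hn, rfl⟩
      exact N.mul_mem_left r hn
    have hN₁2 : N₁ ^ 2 = ⊥ := by
      rw [eq_bot_iff, ← hN]
      exact Ideal.pow_right_mono hN₁N 2
    let Nb : Ideal (R ⧸ N₁) := N.map (Ideal.Quotient.mkₐ A N₁)
    have hNb2 : Nb ^ 2 = ⊥ := by
      show (N.map (Ideal.Quotient.mkₐ A N₁)) ^ 2 = ⊥
      rw [← Ideal.map_pow, hN, Ideal.map_bot]
    let e₁ : ((R ⧸ N₁) ⧸ Nb) ≃ₐ[A] R ⧸ N := DoubleQuot.quotQuotEquivQuotOfLEₐ A hN₁N
    have he₁ : ∀ r : R, e₁ (Ideal.Quotient.mk Nb (Ideal.Quotient.mk N₁ r)) =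
        Ideal.Quotient.mk N r := fun r => rfl
    let ψ₁ : C →ₐ[A] (R ⧸ N₁) ⧸ Nb := e₁.symm.toAlgHom.comp ψ
    have hψ₁ : ∀ c, e₁ (ψ₁ c) = ψ c := fun c => e₁.apply_symm_apply (ψ c)
    obtain ⟨χ₁, hχ₁⟩ := lift_base hsurj I hB Q g hg (R ⧸ N₁) Nb hNb2 ψ₁ ⟨k, fun x hx => by
        show e₁.symm (ψ x) = 0
        rw [hk x hx, map_zero]⟩ (by
      intro c hc r₁ hr₁ n₁ hn₁
      obtain ⟨r, rfl⟩ := Ideal.Quotient.mk_surjective r₁
      obtain ⟨n, hn, rfl⟩ := (Ideal.mem_map_iff_of_surjective (Ideal.Quotient.mkₐ A N₁)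
        (Ideal.Quotient.mkₐ_surjective A N₁)).mp hn₁
      have hr : Ideal.Quotient.mk N r = ψ c := by
        rw [← he₁ r, hr₁, hψ₁]
      show Ideal.Quotient.mk N₁ r * Ideal.Quotient.mk N₁ n = 0
      rw [← map_mul, Ideal.Quotient.eq_zero_iff_mem]
      exact Ideal.subset_span ⟨c, hc, r, hr, n, hn, rfl⟩)
    have hχ₁' : ∀ c, Ideal.Quotient.mk Nb (χ₁ c) = ψ₁ c := fun c => DFunLike.congr_fun hχ₁ c
    have key : ∀ (c : C) (r : R), Ideal.Quotient.mk N₁ r = χ₁ c →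
        Ideal.Quotient.mk N r = ψ c := by
      intro c r hr
      rw [← he₁ r, hr, hχ₁', hψ₁]
    obtain ⟨χ, hχ⟩ := ih R N₁ hN₁2 χ₁ ⟨k * 2, fun x hx => by
        have hle : (I.map (algebraMap B C)) ^ k ≤ Ideal.comap χ₁ Nb := by
          intro y hy
          rw [Ideal.mem_comap, ← Ideal.Quotient.eq_zero_iff_mem, hχ₁']
          show e₁.symm (ψ y) = 0
          rw [hk y hy, map_zero]
        rw [pow_mul] at hx
        have h1 := Ideal.le_comap_pow χ₁ 2 (Ideal.pow_right_mono hle 2 hx)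
        rw [hNb2, Ideal.mem_comap] at h1
        simpa using h1⟩ (by
      intro c hc r hr n₁ hn₁
      refine Submodule.span_induction (p := fun x _ => r * x = 0) ?_ ?_ ?_ ?_ hn₁
      · rintro x ⟨c', hc', r', hr', n, hn, rfl⟩
        have hcc : c * c' ∈ Q ^ (e + 1 + 1) := by
          rw [pow_succ]; exact Ideal.mul_mem_mul hc hc'
        have h2 := hQN (c * c') hcc (r * r')
          (by rw [map_mul, map_mul, key c r hr, hr']) n hn
        rw [← mul_assoc]; exact h2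
      · exact mul_zero r
      · intro x y _ _ hx hy
        rw [mul_add, hx, hy, add_zero]
      · intro a x _ hx
        rw [smul_eq_mul, mul_left_comm, hx, mul_zero])
    refine ⟨χ, ?_⟩
    apply AlgHom.ext
    intro c
    exact key c (χ c) (DFunLike.congr_fun hχ c)

/-- From a lift modulo `L` to a retraction of the conormal map modulo `Q`. -/
theorem retraction_of_lift (hsurj : Function.Surjective (algebraMap B C)) (Q : Ideal C)
    (L : Ideal B)
    (hL1 : ∀ x ∈ RingHom.ker (algebraMap B C), x ∈ L →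
      x ∈ Q.comap (algebraMap B C) * RingHom.ker (algebraMap B C))
    (hL2 : ∀ x ∈ RingHom.ker (algebraMap B C), ∀ y ∈ RingHom.ker (algebraMap B C), x * y ∈ L)
    (χ : C →ₐ[A] B ⧸ L)
    (hχ : ∀ b : B, χ (algebraMap B C b) - Ideal.Quotient.mk L b ∈
      (RingHom.ker (algebraMap B C)).map (Ideal.Quotient.mk L)) :
    ∃ g : (C ⧸ Q) ⊗[B] (C ⊗[B] Ω[B⁄A]) →ₗ[C ⧸ Q]
        (C ⧸ Q) ⊗[B] (RingHom.ker (algebraMap B C)).Cotangent,
      g ∘ₗ LinearMap.baseChange (C ⧸ Q) (kerCotangentToTensor A B C) = LinearMap.id := by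
  classical
  have hK2 := map_sq_eq_bot L (RingHom.ker (algebraMap B C)) hL2
  set K : Ideal (B ⧸ L) := (RingHom.ker (algebraMap B C)).map (Ideal.Quotient.mk L) with hK
  let f : B →ₐ[A] B ⧸ L := χ.comp (IsScalarTower.toAlgHom A B C)
  have hf : (Ideal.Quotient.mkₐ A K).comp f = IsScalarTower.toAlgHom A B ((B ⧸ L) ⧸ K) := by
    apply AlgHom.ext
    intro b
    show Ideal.Quotient.mk K (χ (algebraMap B C b)) =
      Ideal.Quotient.mk K (Ideal.Quotient.mk L b)
    rw [← sub_eq_zero, ← map_sub, Ideal.Quotient.eq_zero_iff_mem]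
    exact hχ b
  let δ' : Derivation A B ↥K := derivationToSquareZeroOfLift K hK2 f hf
  have hδ' : ∀ b : B, ((δ' b : ↥K) : B ⧸ L) = χ (algebraMap B C b) - Ideal.Quotient.mk L b :=
    fun b => derivationToSquareZeroOfLift_apply K hK2 f hf b
  let D' : Ω[B⁄A] →ₗ[B] ↥K := δ'.liftKaehlerDifferential
  let fJ : ↥(RingHom.ker (algebraMap B C)) →ₗ[B] ↥K :=
    { toFun := fun j => ⟨Ideal.Quotient.mk L j.1, Ideal.mem_map_of_mem _ j.2⟩
      map_add' := fun x y => Subtype.ext (map_add (Ideal.Quotient.mk L) x.1 y.1)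
      map_smul' := fun b x => Subtype.ext (by
        show Ideal.Quotient.mk L (b * x.1) = Ideal.Quotient.mk L b * Ideal.Quotient.mk L x.1
        exact map_mul _ _ _) }
  have hfJ : Function.Surjective fJ := by
    rintro ⟨y, hy⟩
    obtain ⟨j, hj, rfl⟩ :=
      (Ideal.mem_map_iff_of_surjective _ Ideal.Quotient.mk_surjective).mp hy
    exact ⟨⟨j, hj⟩, rfl⟩
  let τ' : ↥(RingHom.ker (algebraMap B C)) →ₗ[B]
      (C ⧸ Q) ⊗[B] (RingHom.ker (algebraMap B C)).Cotangent :=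
    (TensorProduct.mk B (C ⧸ Q) (RingHom.ker (algebraMap B C)).Cotangent 1) ∘ₗ
      (RingHom.ker (algebraMap B C)).toCotangent
  have hQt0 : ∀ r ∈ Q.comap (algebraMap B C), r • (1 : C ⧸ Q) = 0 := by
    intro r hr
    rw [Algebra.smul_def, mul_one, IsScalarTower.algebraMap_apply B C (C ⧸ Q)]
    exact Ideal.Quotient.eq_zero_iff_mem.mpr hr
  have hker : LinearMap.ker fJ ≤ LinearMap.ker τ' := by
    intro x hx
    have hxL : x.1 ∈ L := by
      have h1 := congrArg Subtype.val (LinearMap.mem_ker.mp hx)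
      exact Ideal.Quotient.eq_zero_iff_mem.mp h1
    have hx2 := hL1 x.1 x.2 hxL
    have hx3 : x ∈ (Q.comap (algebraMap B C)) •
        (⊤ : Submodule B ↥(RingHom.ker (algebraMap B C))) := by
      rw [Submodule.mem_smul_top_iff]
      exact hx2
    rw [LinearMap.mem_ker]
    refine Submodule.smul_induction_on hx3 (fun r hr m _ => ?_) (fun a b ha hb => ?_)
    · rw [map_smul]
      show r • ((1 : C ⧸ Q) ⊗ₜ[B] (RingHom.ker (algebraMap B C)).toCotangent m) = 0
      rw [TensorProduct.smul_tmul', hQt0 r hr, TensorProduct.zero_tmul]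
    · rw [map_add, ha, hb, add_zero]
  let τ : ↥K →ₗ[B] (C ⧸ Q) ⊗[B] (RingHom.ker (algebraMap B C)).Cotangent :=
    (Submodule.liftQ (LinearMap.ker fJ) τ' hker) ∘ₗ
      (fJ.quotKerEquivOfSurjective hfJ).symm.toLinearMap
  have hτ : ∀ j, τ (fJ j) = τ' j := by
    intro j
    have e1 : (fJ.quotKerEquivOfSurjective hfJ).symm (fJ j) = Submodule.Quotient.mk j := by
      rw [LinearEquiv.symm_apply_eq, LinearMap.quotKerEquivOfSurjective_apply_mk]
    show Submodule.liftQ (LinearMap.ker fJ) τ' hker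
      ((fJ.quotKerEquivOfSurjective hfJ).symm (fJ j)) = τ' j
    rw [e1, Submodule.liftQ_apply]
  let g₀ : Ω[B⁄A] →ₗ[B] (C ⧸ Q) ⊗[B] (RingHom.ker (algebraMap B C)).Cotangent := -(τ ∘ₗ D')
  have hg₀ : ∀ j : ↥(RingHom.ker (algebraMap B C)), g₀ (KaehlerDifferential.D A B j.1) =
      (1 : C ⧸ Q) ⊗ₜ[B] (RingHom.ker (algebraMap B C)).toCotangent j := by
    intro j
    have e1 : D' (KaehlerDifferential.D A B j.1) = δ' j.1 :=
      Derivation.liftKaehlerDifferential_comp_D δ' j.1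
    have e2 : δ' j.1 = - fJ j := by
      apply Subtype.ext
      rw [hδ' j.1, RingHom.mem_ker.mp j.2, map_zero, zero_sub]
      rfl
    show -(τ (D' (KaehlerDifferential.D A B j.1))) = _
    rw [e1, e2, map_neg, neg_neg, hτ]
    rfl
  let g₁ : C ⊗[B] Ω[B⁄A] →ₗ[C] (C ⧸ Q) ⊗[B] (RingHom.ker (algebraMap B C)).Cotangent :=
    LinearMap.liftBaseChange C g₀
  let g : (C ⧸ Q) ⊗[B] (C ⊗[B] Ω[B⁄A]) →ₗ[C ⧸ Q]
      (C ⧸ Q) ⊗[B] (RingHom.ker (algebraMap B C)).Cotangent :=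
    LinearMap.liftBaseChange (C ⧸ Q) (g₁.restrictScalars B)
  refine ⟨g, ?_⟩
  apply LinearMap.ext
  intro t
  induction t using TensorProduct.induction_on with
  | zero => rw [map_zero, map_zero]
  | add x y hx hy => rw [map_add, hx, hy, map_add]
  | tmul s x =>
    obtain ⟨j, rfl⟩ := Ideal.toCotangent_surjective _ x
    rw [LinearMap.comp_apply, LinearMap.baseChange_tmul, kerCotangentToTensor_toCotangent,
      LinearMap.id_apply]
    show s • g₁ ((1 : C) ⊗ₜ[B] KaehlerDifferential.D A B j.1) = _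
    have h1 : g₁ ((1 : C) ⊗ₜ[B] KaehlerDifferential.D A B j.1) =
        g₀ (KaehlerDifferential.D A B j.1) := by
      show (1 : C) • g₀ (KaehlerDifferential.D A B j.1) = _
      rw [one_smul]
    rw [h1, hg₀, TensorProduct.smul_tmul', smul_eq_mul, mul_one]

theorem exists_lift_mod (hsurj : Function.Surjective (algebraMap B C)) (I : Ideal B)
    (hC : CAlgX.IsAdicFormallySmooth A C (I.map (algebraMap B C))) (L : Ideal B) (k : ℕ)
    (hkL : I ^ k ≤ L)
    (hL2 : ∀ x ∈ RingHom.ker (algebraMap B C), ∀ y ∈ RingHom.ker (algebraMap B C), x * y ∈ L) :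
    ∃ χ : C →ₐ[A] B ⧸ L, ∀ b : B, χ (algebraMap B C b) - Ideal.Quotient.mk L b ∈
      (RingHom.ker (algebraMap B C)).map (Ideal.Quotient.mk L) := by
  classical
  have hK2 := map_sq_eq_bot L (RingHom.ker (algebraMap B C)) hL2
  set K : Ideal (B ⧸ L) := (RingHom.ker (algebraMap B C)).map (Ideal.Quotient.mk L) with hK
  let ψ₀ : B →ₐ[A] (B ⧸ L) ⧸ K := (Ideal.Quotient.mkₐ A K).comp (Ideal.Quotient.mkₐ A L)
  have hψ₀ : RingHom.ker (IsScalarTower.toAlgHom A B C).toRingHom ≤ RingHom.ker ψ₀.toRingHom := by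
    intro x hx
    have hx' : algebraMap B C x = 0 := RingHom.mem_ker.mp hx
    rw [RingHom.mem_ker]
    show Ideal.Quotient.mk K (Ideal.Quotient.mk L x) = 0
    exact Ideal.Quotient.eq_zero_iff_mem.mpr (Ideal.mem_map_of_mem _ (RingHom.mem_ker.mpr hx'))
  let ψ : C →ₐ[A] (B ⧸ L) ⧸ K :=
    AlgHom.liftOfSurjective (IsScalarTower.toAlgHom A B C) hsurj ψ₀ hψ₀
  have hψ : ∀ b : B, ψ (algebraMap B C b) = Ideal.Quotient.mk K (Ideal.Quotient.mk L b) :=
    fun b => AlgHom.liftOfSurjective_apply (IsScalarTower.toAlgHom A B C) hsurj ψ₀ hψ₀ b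
  obtain ⟨χ, hχ⟩ := hC (B ⧸ L) K hK2 ψ ⟨k, fun x hx => by
    rw [← Ideal.map_pow] at hx
    obtain ⟨y, hy, rfl⟩ := (Ideal.mem_map_iff_of_surjective _ hsurj).mp hx
    rw [hψ, Ideal.Quotient.eq_zero_iff_mem.mpr (hkL hy), map_zero]⟩
  refine ⟨χ, fun b => ?_⟩
  have h1 : Ideal.Quotient.mk K (χ (algebraMap B C b)) = ψ (algebraMap B C b) :=
    DFunLike.congr_fun hχ _
  rw [← Ideal.Quotient.eq_zero_iff_mem, map_sub, h1, hψ, sub_self]

theorem exists_retraction [IsNoetherianRing B] (hsurj : Function.Surjective (algebraMap B C))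
    (I : Ideal B) (Q : Ideal C) (hQ : ∃ n : ℕ, (I.map (algebraMap B C)) ^ n ≤ Q)
    (hC : CAlgX.IsAdicFormallySmooth A C (I.map (algebraMap B C))) :
    ∃ g : (C ⧸ Q) ⊗[B] (C ⊗[B] Ω[B⁄A]) →ₗ[C ⧸ Q]
        (C ⧸ Q) ⊗[B] (RingHom.ker (algebraMap B C)).Cotangent,
      g ∘ₗ LinearMap.baseChange (C ⧸ Q) (kerCotangentToTensor A B C) = LinearMap.id := by
  classical
  obtain ⟨n₀, hn₀⟩ := hQ
  have hJQt : RingHom.ker (algebraMap B C) ≤ Q.comap (algebraMap B C) := fun x hx => by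
    rw [Ideal.mem_comap, RingHom.mem_ker.mp hx]; exact Q.zero_mem
  have hIQt : I ^ n₀ ≤ Q.comap (algebraMap B C) := fun x hx => by
    rw [Ideal.mem_comap]
    apply hn₀
    rw [← Ideal.map_pow]; exact Ideal.mem_map_of_mem _ hx
  obtain ⟨c, hc⟩ := Ideal.exists_pow_inf_eq_pow_smul I
    (RingHom.ker (algebraMap B C) : Submodule B B)
  have hAR : ∀ x ∈ RingHom.ker (algebraMap B C),
      x ∈ Q.comap (algebraMap B C) * RingHom.ker (algebraMap B C) ⊔ I ^ (c + n₀) →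
      x ∈ Q.comap (algebraMap B C) * RingHom.ker (algebraMap B C) := by
    intro x hxJ hx
    obtain ⟨y, hy, z, hz, rfl⟩ := Submodule.mem_sup.mp hx
    have hyJ : y ∈ RingHom.ker (algebraMap B C) := Ideal.mul_le_right hy
    have hzJ : z ∈ RingHom.ker (algebraMap B C) := by
      have h1 := (RingHom.ker (algebraMap B C)).sub_mem hxJ hyJ
      rwa [add_sub_cancel_left] at h1
    have hz' : z ∈ I ^ (c + n₀) • (⊤ : Submodule B B) ⊓
        (RingHom.ker (algebraMap B C) : Submodule B B) := by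
      refine ⟨?_, hzJ⟩
      have h1 := Submodule.smul_mem_smul hz (Submodule.mem_top : (1 : B) ∈ (⊤ : Submodule B B))
      have h2 : z • (1 : B) = z := by rw [smul_eq_mul, mul_one]
      rwa [h2] at h1
    rw [hc (c + n₀) (Nat.le_add_right c n₀), Nat.add_sub_cancel_left] at hz'
    have hz'' : z ∈ Q.comap (algebraMap B C) * RingHom.ker (algebraMap B C) := by
      refine Submodule.smul_induction_on hz' (fun r hr m hm => ?_)
        (fun a b ha hb => Ideal.add_mem _ ha hb)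
      exact Ideal.mul_mem_mul (hIQt hr) hm.2
    exact Ideal.add_mem _ hy hz''
  have hL2 : ∀ x ∈ RingHom.ker (algebraMap B C), ∀ y ∈ RingHom.ker (algebraMap B C),
      x * y ∈ Q.comap (algebraMap B C) * RingHom.ker (algebraMap B C) ⊔ I ^ (c + n₀) :=
    fun x hx y hy => Ideal.mem_sup_left (Ideal.mul_mem_mul (hJQt hx) hy)
  obtain ⟨χ, hχ⟩ := exists_lift_mod (A := A) hsurj I hC
    (Q.comap (algebraMap B C) * RingHom.ker (algebraMap B C) ⊔ I ^ (c + n₀)) (c + n₀)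
    le_sup_right hL2
  exact retraction_of_lift hsurj Q _ hAR hL2 χ hχ

/-- EGA 0_IV 22.6.1 (Noetherian adic case, discrete base). -/
theorem main [IsNoetherianRing B] (hsurj : Function.Surjective (algebraMap B C)) (I : Ideal B)
    (hB : CAlgX.IsAdicFormallySmooth A B I) (Q : Ideal C)
    (hQ : ∃ n : ℕ, (I.map (algebraMap B C)) ^ n ≤ Q)
    (hQ' : ∃ m : ℕ, Q ^ m ≤ I.map (algebraMap B C)) :
    CAlgX.IsAdicFormallySmooth A C (I.map (algebraMap B C)) ↔
      ∃ g : (C ⧸ Q) ⊗[B] (C ⊗[B] Ω[B⁄A]) →ₗ[C ⧸ Q]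
          (C ⧸ Q) ⊗[B] (RingHom.ker (algebraMap B C)).Cotangent,
        g ∘ₗ LinearMap.baseChange (C ⧸ Q) (kerCotangentToTensor A B C) = LinearMap.id := by
  constructor
  · intro hC
    exact exists_retraction hsurj I Q hQ hC
  · rintro ⟨g, hg⟩
    intro R _ _ N hN ψ hψ
    obtain ⟨k, hk⟩ := hψ
    obtain ⟨m, hm⟩ := hQ'
    refine lift_ind hsurj I hB Q g hg (m * k) R N hN ψ ⟨k, hk⟩ ?_
    intro c hc r hr n hn
    have hc' : c ∈ (I.map (algebraMap B C)) ^ k := by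
      have h1 : Q ^ (m * k + 1) ≤ Q ^ (m * k) := Ideal.pow_le_pow_right (Nat.le_succ _)
      have h2 : Q ^ (m * k) ≤ (I.map (algebraMap B C)) ^ k := by
        rw [pow_mul]; exact Ideal.pow_right_mono hm k
      exact h2 (h1 hc)
    have hr0 : r ∈ N := by
      rw [← Ideal.Quotient.eq_zero_iff_mem, hr, hk c hc']
    have h3 : r * n ∈ N ^ 2 := by rw [pow_two]; exact Ideal.mul_mem_mul hr0 hn
    rw [hN] at h3
    simpa using h3

end Groth.Agent.Lib.Helper7.AdicQuot
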