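import Mathlib

/-!
# Combinatorics of alternating cochains on the full simplex

* `sg i`: the "sign" of a tuple `i : Fin m → Fin m` (determinant of its incidence matrix): it is
  `1` on the identity, `0` on non-surjective tuples, and satisfies the cocycle identity `sg_alt`.
* `alt_unique`: a cochain on `(n+1)`-tuples in `Fin (n+1)` which vanishes on non-injective
  tuples, satisfies the cocycle condition and vanishes at the identity tuple is zero.
-/

set_option autoImplicit false

namespace Groth.Agent.Lib.Helper7.AltComb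

open Matrix

/-- the incidence matrix of a tuple -/
def tmat {m : ℕ} (i : Fin m → Fin m) : Matrix (Fin m) (Fin m) ℤ :=
  Matrix.of fun r c => if i c = r then 1 else 0

/-- the sign of a tuple -/
def sg {m : ℕ} (i : Fin m → Fin m) : ℤ := (tmat i).det

theorem sg_id (m : ℕ) : sg (id : Fin m → Fin m) = 1 := by
  have h : tmat (id : Fin m → Fin m) = 1 := by
    ext r c
    simp [tmat, Matrix.one_apply, eq_comm]
  rw [sg, h, Matrix.det_one]

theorem sg_eq_zero {m : ℕ} (i : Fin m → Fin m) (h : ¬ Function.Surjective i) : sg i = 0 := by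
  simp only [Function.Surjective, not_forall, not_exists] at h
  obtain ⟨r, hr⟩ := h
  exact Matrix.det_eq_zero_of_row_eq_zero r (fun c => by simp [tmat, hr c])

theorem sg_alt {m : ℕ} (j : Fin (m + 2) → Fin (m + 1)) :
    ∑ k : Fin (m + 2), (-1 : ℤ) ^ (k : ℕ) * sg (j ∘ k.succAbove) = 0 := by
  let A : Matrix (Fin (m + 2)) (Fin (m + 2)) ℤ :=
    Matrix.of fun r c => Fin.cases (1 : ℤ) (fun r' => if j c = r' then 1 else 0) r
  have hdet : A.det = 0 := by
    rw [← Matrix.exists_vecMul_eq_zero_iff]
    refine ⟨Fin.cons 1 (fun _ => -1), ?_, ?_⟩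
    · intro h
      have := congrFun h 0
      simp at this
    · funext c
      simp only [Matrix.vecMul, dotProduct, Pi.zero_apply]
      rw [Fin.sum_univ_succ]
      simp only [Fin.cons_zero, Fin.cons_succ, A, Matrix.of_apply, Fin.cases_zero, Fin.cases_succ,
        mul_one, neg_mul, one_mul, Finset.sum_neg_distrib]
      rw [Finset.sum_ite_eq]
      simp
  rw [Matrix.det_succ_row_zero] at hdet
  rw [← hdet]
  refine Finset.sum_congr rfl fun k _ => ?_
  have h0 : A 0 k = 1 := rfl
  have hsub : A.submatrix Fin.succ k.succAbove = tmat (j ∘ k.succAbove) := by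
    ext r c
    rfl
  rw [h0, mul_one, hsub, sg]

section Unique

variable {N : Type*} [AddCommGroup N] {n : ℕ}

theorem succAbove_swap (a k : Fin n) :
    a.castSucc.succAbove k = Equiv.swap a.castSucc a.succ (a.succ.succAbove k) := by
  rw [Equiv.swap_apply_def]
  rcases lt_trichotomy k a with h | rfl | h
  · rw [Fin.succAbove_of_castSucc_lt _ _ (Fin.castSucc_lt_castSucc_iff.mpr h),
      Fin.succAbove_of_castSucc_lt _ _
        (lt_trans (Fin.castSucc_lt_castSucc_iff.mpr h) (Fin.castSucc_lt_succ))]
    have h1 : k.castSucc ≠ a.castSucc := fun h' => h.ne (Fin.castSucc_injective _ h')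
    have h2 : k.castSucc ≠ a.succ := by
      intro h'
      have := congrArg Fin.val h'
      simp at this
      have := Fin.lt_def.mp h
      omega
    rw [if_neg h1, if_neg h2]
  · rw [Fin.succAbove_castSucc_self, Fin.succAbove_succ_self, if_pos rfl]
  · have h3 : a.castSucc ≤ k.castSucc := Fin.castSucc_le_castSucc_iff.mpr h.le
    have h4 : a.succ ≤ k.castSucc := Fin.succ_le_castSucc_iff.mpr h
    rw [Fin.succAbove_of_le_castSucc _ _ h3, Fin.succAbove_of_le_castSucc _ _ h4]
    have h1 : k.succ ≠ a.castSucc := by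
      intro h'
      have := congrArg Fin.val h'
      simp at this
      have := Fin.lt_def.mp h
      omega
    have h2 : k.succ ≠ a.succ := fun h' => h.ne' (Fin.succ_injective _ h')
    rw [if_neg h1, if_neg h2]

theorem comp_swap_eq {α : Type*} (i : Fin (n + 1) → α) (a : Fin n) :
    i ∘ ⇑(Equiv.swap a.castSucc a.succ) =
      Fin.insertNth a.succ (i a.castSucc) (Fin.removeNth a.castSucc i) := by
  symm
  rw [Fin.insertNth_eq_iff]
  refine ⟨by simp, ?_⟩
  funext k
  simp only [Fin.removeNth, Function.comp]
  rw [succAbove_swap]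

theorem alt_unique (c : (Fin (n + 1) → Fin (n + 1)) → N)
    (h1 : ∀ i, ¬ Function.Injective i → c i = 0)
    (h2 : ∀ j : Fin (n + 2) → Fin (n + 1),
      ∑ k : Fin (n + 2), (-1 : ℤ) ^ (k : ℕ) • c (j ∘ k.succAbove) = 0)
    (h3 : c id = 0) : ∀ i, c i = 0 := by
  -- the insertion relation
  have hR : ∀ (i' : Fin n → Fin (n + 1)) (x : Fin (n + 1)) (b : Fin (n + 1)),
      c (Fin.insertNth b x i') = 0 ↔ c (Fin.cons x i') = 0 := by
    intro i' x b
    have h := h2 (Fin.cons x (Fin.insertNth b x i'))
    rw [Fin.sum_univ_succ] at h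
    have h0 : (Fin.cons x (Fin.insertNth b x i') : Fin (n + 2) → Fin (n + 1)) ∘
        (0 : Fin (n + 2)).succAbove = Fin.insertNth b x i' := by
      funext j
      simp
    have hs : ∀ l : Fin (n + 1), (Fin.cons x (Fin.insertNth b x i') : Fin (n + 2) → Fin (n + 1)) ∘
        l.succ.succAbove = Fin.cons x ((Fin.insertNth b x i') ∘ l.succAbove) := by
      intro l
      funext j
      refine Fin.cases ?_ (fun j' => ?_) j
      · simp
      · simp
    have hb : (Fin.insertNth b x i' : Fin (n + 1) → Fin (n + 1)) ∘ b.succAbove = i' := by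
      funext j
      simp
    have hz : ∀ l : Fin (n + 1), l ≠ b →
        c (Fin.cons x ((Fin.insertNth b x i' : Fin (n + 1) → Fin (n + 1)) ∘ l.succAbove)) = 0 := by
      intro l hl
      apply h1
      intro hinj
      obtain ⟨p, hp⟩ := Fin.exists_succAbove_eq (Ne.symm hl)
      have h5 : (Fin.cons x ((Fin.insertNth b x i' : Fin (n + 1) → Fin (n + 1)) ∘ l.succAbove) :
          Fin (n + 1) → Fin (n + 1)) 0 =
          (Fin.cons x ((Fin.insertNth b x i' : Fin (n + 1) → Fin (n + 1)) ∘ l.succAbove) :
            Fin (n + 1) → Fin (n + 1)) p.succ := by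
        rw [Fin.cons_zero, Fin.cons_succ, Function.comp, hp, Fin.insertNth_apply_same]
      exact Fin.succ_ne_zero p (hinj h5).symm
    rw [h0, Finset.sum_eq_single b (fun l _ hl => by rw [hs, hz l hl, smul_zero])
      (fun hb' => absurd (Finset.mem_univ b) hb'), hs, hb] at h
    simp only [Fin.val_zero, pow_zero, one_smul] at h
    rcases neg_one_pow_eq_or ℤ ((b.succ : Fin (n + 2)) : ℕ) with hpow | hpow
    · rw [hpow, one_smul] at h
      constructor
      · intro h'
        rwa [h', zero_add] at h
      · intro h'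
        rwa [h', add_zero] at h
    · rw [hpow, neg_smul, one_smul] at h
      constructor
      · intro h'
        rw [h', zero_add] at h
        exact neg_eq_zero.mp h
      · intro h'
        rwa [h', neg_zero, add_zero] at h
  -- adjacent transpositions
  have hswap : ∀ (i : Fin (n + 1) → Fin (n + 1)) (a : Fin n), c i = 0 →
      c (i ∘ ⇑(Equiv.swap a.castSucc a.succ)) = 0 := by
    intro i a hi
    rw [comp_swap_eq, hR]
    rw [← Fin.insertNth_self_removeNth a.castSucc i, hR] at hi
    exact hi
  -- all permutations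
  have hperm : ∀ σ : Equiv.Perm (Fin (n + 1)), c ⇑σ = 0 := by
    have key : ∀ σ ∈ Submonoid.closure
        (Set.range fun i : Fin n => Equiv.swap i.castSucc i.succ),
        ∀ τ : Equiv.Perm (Fin (n + 1)), c ⇑τ = 0 → c ⇑(τ * σ) = 0 := by
      intro σ hσ
      induction hσ using Submonoid.closure_induction with
      | mem x hx =>
        obtain ⟨a, rfl⟩ := hx
        intro τ hτ
        rw [Equiv.Perm.coe_mul]
        exact hswap _ a hτ
      | one => intro τ hτ; rwa [mul_one]
      | mul x y _ _ hx hy =>
        intro τ hτ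
        rw [← mul_assoc]
        exact hy _ (hx τ hτ)
    intro σ
    have hσ : σ ∈ Submonoid.closure
        (Set.range fun i : Fin n => Equiv.swap i.castSucc i.succ) := by
      rw [Equiv.Perm.mclosure_swap_castSucc_succ]
      trivial
    have := key σ hσ 1 (by rw [Equiv.Perm.coe_one]; exact h3)
    rwa [one_mul] at this
  intro i
  by_cases hi : Function.Injective i
  · have hbij : Function.Bijective i := ⟨hi, Finite.injective_iff_surjective.mp hi⟩
    exact hperm (Equiv.ofBijective i hbij)
  · exact h1 i hi

end Unique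

end Groth.Agent.Lib.Helper7.AltComb
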