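import Mathlib

/-!
# Helper library (helper7): interior points of convex cones in a finite real vector space with
the module topology.  Mathlib only.
-/

set_option autoImplicit false
open Topology

namespace Groth.Agent.Lib.Helper7.ConeOpenLA

variable {V : Type*} [AddCommGroup V] [Module ℝ V]

theorem sum_mem_cone (C : ConvexCone ℝ V) {ι : Type*} (t : Finset ι) (ht : t.Nonempty)
    (f : ι → V) (hf : ∀ i ∈ t, f i ∈ C) : ∑ i ∈ t, f i ∈ C := by
  induction ht using Finset.Nonempty.cons_induction with
  | singleton a => simpa using hf a (Finset.mem_singleton_self a)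
  | cons a s has hs ih =>
    rw [Finset.sum_cons]
    exact C.add_mem (hf a (Finset.mem_cons_self a s))
      (ih fun i hi => hf i (Finset.mem_cons_of_mem hi))

theorem seg_mem_cone (C : ConvexCone ℝ V) (a w : V) (ε : ℝ) (hε : 0 < ε) (h1 : a + ε • w ∈ C)
    (h2 : a - ε • w ∈ C) (θ : ℝ) (hθ : |θ| < ε) : a + θ • w ∈ C := by
  obtain ⟨hθ1, hθ2⟩ := abs_lt.mp hθ
  have hl : 0 < (ε + θ) / (2 * ε) := by apply div_pos <;> linarith
  have hm : 0 < (ε - θ) / (2 * ε) := by apply div_pos <;> linarith
  have ca : (ε + θ) / (2 * ε) + (ε - θ) / (2 * ε) = 1 := by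
    field_simp
    ring
  have cw : (ε + θ) / (2 * ε) * ε - (ε - θ) / (2 * ε) * ε = θ := by
    field_simp
    ring
  have key : a + θ • w =
      ((ε + θ) / (2 * ε)) • (a + ε • w) + ((ε - θ) / (2 * ε)) • (a - ε • w) := by
    calc a + θ • w = (1 : ℝ) • a + θ • w := by rw [one_smul]
      _ = ((ε + θ) / (2 * ε) + (ε - θ) / (2 * ε)) • a +
            ((ε + θ) / (2 * ε) * ε - (ε - θ) / (2 * ε) * ε) • w := by rw [ca, cw]
      _ = _ := by
        simp only [smul_add, smul_sub, smul_smul, add_smul, sub_smul]
        abel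
  rw [key]
  exact C.add_mem (C.smul_mem hl h1) (C.smul_mem hm h2)

/-- a point of a convex cone which can be moved a little in both directions along a spanning
family is an interior point. -/
theorem mem_interior_cone [TopologicalSpace V] [IsModuleTopology ℝ V] [ContinuousAdd V]
    (C : ConvexCone ℝ V) {ι : Type*} [Fintype ι] [Nonempty ι] (w : ι → V)
    (hw : Submodule.span ℝ (Set.range w) = ⊤) (a : V) (ε : ℝ) (hε : 0 < ε)
    (h : ∀ i, a + ε • w i ∈ C ∧ a - ε • w i ∈ C) : a ∈ interior (C : Set V) := by
  classical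
  set n : ℝ := (Fintype.card ι : ℝ) with hn
  have hn0 : 0 < n := by
    rw [hn]
    exact_mod_cast Fintype.card_pos
  have hφ : Function.Surjective (Fintype.linearCombination ℝ w) :=
    (span_range_eq_top_iff_surjective_fintypeLinearCombination ℝ w).mp hw
  have hopen : IsOpenMap (Fintype.linearCombination ℝ w) :=
    IsModuleTopology.isOpenMap_of_surjective hφ
  let U : Set (ι → ℝ) := Set.pi Set.univ (fun _ => Set.Ioo (-(ε / n)) (ε / n))
  have hU : IsOpen U := isOpen_set_pi Set.finite_univ (fun _ _ => isOpen_Ioo)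
  have hεn : 0 < ε / n := div_pos hε hn0
  have h0U : (0 : ι → ℝ) ∈ U := by
    intro i _
    simp only [Pi.zero_apply, Set.mem_Ioo]
    constructor <;> linarith
  have hT : IsOpen ((fun v => a + v) '' ((Fintype.linearCombination ℝ w) '' U)) :=
    (Homeomorph.addLeft a).isOpenMap _ (hopen U hU)
  have haT : a ∈ (fun v => a + v) '' ((Fintype.linearCombination ℝ w) '' U) :=
    ⟨0, ⟨0, h0U, map_zero _⟩, add_zero a⟩
  refine interior_maximal ?_ hT haT
  rintro _ ⟨_, ⟨s, hs, rfl⟩, rfl⟩
  have key : a + Fintype.linearCombination ℝ w s =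
      ∑ i, (1 / n) • (a + (n * s i) • w i) := by
    simp only [Fintype.linearCombination_apply, smul_add, smul_smul, Finset.sum_add_distrib,
      Finset.sum_const, Finset.card_univ]
    congr 1
    · rw [← Nat.cast_smul_eq_nsmul ℝ, smul_smul, ← hn, mul_one_div_cancel hn0.ne', one_smul]
    · refine Finset.sum_congr rfl fun i _ => ?_
      congr 1
      field_simp
  change a + Fintype.linearCombination ℝ w s ∈ C
  rw [key]
  refine sum_mem_cone C Finset.univ Finset.univ_nonempty _ fun i _ => ?_
  refine C.smul_mem (by positivity) (seg_mem_cone C a (w i) ε hε (h i).1 (h i).2 (n * s i) ?_)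
  have hsi := hs i (Set.mem_univ i)
  obtain ⟨h1, h2⟩ := hsi
  rw [abs_lt]
  constructor
  · have := mul_lt_mul_of_pos_left h1 hn0
    rw [mul_neg, mul_div_cancel₀ _ hn0.ne'] at this
    exact this
  · have := mul_lt_mul_of_pos_left h2 hn0
    rw [mul_div_cancel₀ _ hn0.ne'] at this
    exact this

/-- the interior of a convex cone, as a convex cone. -/
def interiorCone [TopologicalSpace V] [ContinuousAdd V] [ContinuousConstSMul ℝ V]
    (C : ConvexCone ℝ V) : ConvexCone ℝ V where
  carrier := interior (C : Set V)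
  smul_mem' := by
    intro c hc x hx
    have hopen : IsOpen ((fun v : V => c • v) '' interior (C : Set V)) :=
      (Homeomorph.smulOfNeZero c hc.ne').isOpenMap _ isOpen_interior
    refine interior_maximal ?_ hopen ⟨x, hx, rfl⟩
    rintro _ ⟨v, hv, rfl⟩
    exact C.smul_mem hc (interior_subset hv)
  add_mem' := by
    intro x hx y hy
    have hopen : IsOpen ((fun v : V => v + y) '' interior (C : Set V)) :=
      (Homeomorph.addRight y).isOpenMap _ isOpen_interior
    refine interior_maximal ?_ hopen ⟨x, hx, rfl⟩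
    rintro _ ⟨v, hv, rfl⟩
    exact C.add_mem (interior_subset hv) (interior_subset hy)

theorem isOpen_hull_of_subset_interior [TopologicalSpace V] [ContinuousAdd V]
    [ContinuousConstSMul ℝ V] (S : Set V)
    (h : S ⊆ interior (ConvexCone.hull ℝ S : Set V)) :
    IsOpen (ConvexCone.hull ℝ S : Set V) := by
  have hle : ConvexCone.hull ℝ S ≤ interiorCone (ConvexCone.hull ℝ S) := ConvexCone.hull_min h
  exact subset_interior_iff_isOpen.mp fun x hx => hle hx

end Groth.Agent.Lib.Helper7.ConeOpenLA
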