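import Mathlib

/-!
# Helper library (helper7): from integral to real classes (density), and the linear algebra of
a form satisfying the Hodge inequality.  Mathlib only.
-/

set_option autoImplicit false
open Filter Topology

namespace Groth.Agent.Lib.Helper7.RealHodgeLA

theorem tendsto_floor_div (x : ℝ) :
    Tendsto (fun N : ℕ => ((⌊((N : ℝ) + 1) * x⌋ : ℤ) : ℝ) / ((N : ℝ) + 1)) atTop (𝓝 x) := by
  have h0 : Tendsto (fun N : ℕ => 1 / ((N : ℝ) + 1)) atTop (𝓝 0) :=
    tendsto_one_div_add_atTop_nhds_zero_nat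
  have h1 : Tendsto (fun N : ℕ => x - 1 / ((N : ℝ) + 1)) atTop (𝓝 x) := by
    have := (tendsto_const_nhds (x := x)).sub h0
    simpa using this
  refine tendsto_of_tendsto_of_tendsto_of_le_of_le h1 tendsto_const_nhds ?_ ?_
  · intro N
    have hN : (0 : ℝ) < (N : ℝ) + 1 := by positivity
    have h2 := Int.sub_one_lt_floor (((N : ℝ) + 1) * x)
    change x - 1 / ((N : ℝ) + 1) ≤ ((⌊((N : ℝ) + 1) * x⌋ : ℤ) : ℝ) / ((N : ℝ) + 1)
    rw [le_div_iff₀ hN, sub_mul, one_div, inv_mul_cancel₀ hN.ne']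
    linarith
  · intro N
    have hN : (0 : ℝ) < (N : ℝ) + 1 := by positivity
    have h2 := Int.floor_le (((N : ℝ) + 1) * x)
    change ((⌊((N : ℝ) + 1) * x⌋ : ℤ) : ℝ) / ((N : ℝ) + 1) ≤ x
    rw [div_le_iff₀ hN]
    linarith

/-- a continuous function on `ℝ^ι`, homogeneous of degree two and non-negative on integral
points, is non-negative. -/
theorem quad_nonneg_of_int {ι : Type*} [Fintype ι] (f : (ι → ℝ) → ℝ) (hf : Continuous f)
    (hhom : ∀ (r : ℝ) (t : ι → ℝ), f (r • t) = r ^ 2 * f t)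
    (hint : ∀ z : ι → ℤ, 0 ≤ f (fun i => (z i : ℝ))) (t : ι → ℝ) : 0 ≤ f t := by
  have hlim : Tendsto (fun N : ℕ => fun i => ((⌊((N : ℝ) + 1) * t i⌋ : ℤ) : ℝ) / ((N : ℝ) + 1))
      atTop (𝓝 t) := tendsto_pi_nhds.mpr fun i => tendsto_floor_div (t i)
  have h2 := (hf.tendsto t).comp hlim
  refine ge_of_tendsto' h2 fun N => ?_
  have h3 : (fun i => ((⌊((N : ℝ) + 1) * t i⌋ : ℤ) : ℝ) / ((N : ℝ) + 1)) =
      (1 / ((N : ℝ) + 1)) • (fun i => ((⌊((N : ℝ) + 1) * t i⌋ : ℤ) : ℝ)) := by
    funext i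
    simp only [Pi.smul_apply, smul_eq_mul]
    ring
  simp only [Function.comp]
  rw [h3, hhom]
  exact mul_nonneg (sq_nonneg _) (hint _)

/-- the Hodge inequality passes from integral to real combinations. -/
theorem bilin_ineq_of_int {V : Type*} [AddCommGroup V] [Module ℝ V] (B : V →ₗ[ℝ] V →ₗ[ℝ] ℝ)
    (h : V) {ι : Type*} [Fintype ι] (w : ι → V)
    (hint : ∀ z : ι → ℤ, B (∑ i, (z i : ℝ) • w i) (∑ i, (z i : ℝ) • w i) * B h h ≤
      B (∑ i, (z i : ℝ) • w i) h ^ 2) (t : ι → ℝ) :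
    B (∑ i, t i • w i) (∑ i, t i • w i) * B h h ≤ B (∑ i, t i • w i) h ^ 2 := by
  let f : (ι → ℝ) → ℝ := fun t =>
    B (∑ i, t i • w i) h ^ 2 - B (∑ i, t i • w i) (∑ i, t i • w i) * B h h
  have hf : Continuous f := by
    have e : f = fun t => (∑ i, t i * B (w i) h) ^ 2 -
        (∑ i, ∑ j, t i * (t j * B (w j) (w i))) * B h h := by
      funext t
      simp only [f, map_sum, map_smul, LinearMap.sum_apply, LinearMap.smul_apply, smul_eq_mul,
        Finset.mul_sum]
    rw [e]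
    fun_prop
  have hhom : ∀ (r : ℝ) (t : ι → ℝ), f (r • t) = r ^ 2 * f t := by
    intro r t
    have h1 : ∑ i, (r • t) i • w i = r • ∑ i, t i • w i := by
      simp [Finset.smul_sum, smul_smul]
    simp only [f, h1, map_smul, LinearMap.smul_apply, smul_eq_mul]
    ring
  have := quad_nonneg_of_int f hf hhom (fun z => sub_nonneg.mpr (hint z)) t
  exact sub_nonneg.mp this

/-- in a space with a form satisfying the Hodge inequality with respect to `h`, two classes of the
closed positive cone (one of them in the open cone) pair positively. -/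
theorem pos_of_cone {V : Type*} [AddCommGroup V] [Module ℝ V] (B : V →ₗ[ℝ] V →ₗ[ℝ] ℝ)
    (hsymm : ∀ x y, B x y = B y x) (h : V)
    (hodge : ∀ v, B v v * B h h ≤ B v h ^ 2) (hh : 0 < B h h)
    (x y : V) (hx : 0 < B x x) (hxh : 0 < B x h) (hy : 0 ≤ B y y) (hyh : 0 < B y h) :
    0 < B x y := by
  have hu : B (B y h • x - B x h • y) h = 0 := by
    simp only [map_sub, map_smul, LinearMap.sub_apply, LinearMap.smul_apply, smul_eq_mul]
    ring
  have huu : B (B y h • x - B x h • y) (B y h • x - B x h • y) ≤ 0 := by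
    have := hodge (B y h • x - B x h • y)
    rw [hu] at this
    nlinarith
  have expand : B (B y h • x - B x h • y) (B y h • x - B x h • y) =
      (B y h) ^ 2 * B x x - 2 * (B y h) * (B x h) * B x y + (B x h) ^ 2 * B y y := by
    simp only [map_sub, map_smul, LinearMap.sub_apply, LinearMap.smul_apply, smul_eq_mul,
      hsymm y x]
    ring
  rw [expand] at huu
  by_contra hneg
  push Not at hneg
  nlinarith [mul_pos (mul_pos hyh hyh) hx, mul_nonneg (sq_nonneg (B x h)) hy, mul_pos hyh hxh,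
    mul_nonneg (mul_pos hyh hxh).le (neg_nonneg.mpr hneg)]

end Groth.Agent.Lib.Helper7.RealHodgeLA
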