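import Mathlib
import Groth.Prelude
import Groth.Agent.Lib.Helper7.SurfRows
import Groth.Agent.Lib.Helper7.RealHodgeLA

/-!
# Helper library (helper7): the Hodge index inequality for real classes on a surface, and the
positive cone.
-/

set_option autoImplicit false
set_option linter.unusedSectionVars false
set_option linter.style.haveILetI false
universe u
open CategoryTheory CategoryTheory.Limits AlgebraicGeometry Opposite

namespace Groth.Agent.Lib.Helper7.RealHodge

open Groth.Agent.Lib.Helper7.SurfIP Groth.Agent.Lib.Helper7.SurfRows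
open Groth.Agent.Lib.Helper7.RealHodgeLA

variable (k : Type u) [Field k] (X : Scheme.{u}) [X.Over (Spec (CommRingCat.of k))]
  [IsProper (X ↘ Spec (CommRingCat.of k))] [PicGrp.Law X]

/-- integral combinations of classes of invertible modules are classes of invertible modules. -/
theorem exists_clR_eq_sum {ι : Type*} [Fintype ι] (w : ι → NumR.N1R k X)
    (hw : ∀ i, ∃ (L : X.Modules) (hL : PicF.IsInvertible L), w i = NumR.clR k X L hL)
    (z : ι → ℤ) :
    ∃ (M : X.Modules) (hM : PicF.IsInvertible M),
      ∑ i, (z i : ℝ) • w i = NumR.clR k X M hM := by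
  choose L hL hwL using hw
  have h1 : ∑ i, (z i : ℝ) • w i =
      NumR.toN1R k X (∑ i, z i • NumR.cl k X (L i) (hL i)) := by
    rw [map_sum]
    refine Finset.sum_congr rfl fun i _ => ?_
    rw [map_zsmul, hwL i, NumR.clR_def, Int.cast_smul_eq_zsmul]
  obtain ⟨M, hM, hMeq⟩ := NumR.exists_eq_cl (∑ i, z i • NumR.cl k X (L i) (hL i))
  refine ⟨M, hM, ?_⟩
  rw [h1, hMeq]
  rfl

variable (B : NumR.N1R k X →ₗ[ℝ] NumR.N1R k X →ₗ[ℝ] ℝ) (hB : NumR.IsIntForm₂ k X B)
include hB

theorem isIntForm₂_symm (x y : NumR.N1R k X) : B x y = B y x := by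
  have h : B = B.flip := by
    refine LinearMap.ext_on NumR.span_clR ?_
    rintro _ ⟨L, hL, rfl⟩
    refine LinearMap.ext_on NumR.span_clR ?_
    rintro _ ⟨M, hM, rfl⟩
    rw [LinearMap.flip_apply, hB, hB]
    exact_mod_cast ip_symm k X L M
  conv_lhs => rw [h]
  rfl

/-- **the Hodge inequality for real classes.** -/
theorem real_hodge [IsIntegral X] (hdim : topologicalKrullDim X = 2)
    [Module.Finite ℝ (NumR.N1R k X)] (H : X.Modules) (hH : CohB1.IsAmple H)
    (v : NumR.N1R k X) :
    B v v * B (NumR.clR k X H hH.1) (NumR.clR k X H hH.1) ≤ B v (NumR.clR k X H hH.1) ^ 2 := by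
  have hfg : (Submodule.span ℝ {x : NumR.N1R k X |
      ∃ (L : X.Modules) (hL : PicF.IsInvertible L), x = NumR.clR k X L hL}).FG := by
    rw [NumR.span_clR]
    exact Module.Finite.fg_top
  obtain ⟨s', hs's, hspan⟩ := (Submodule.fg_span_iff_fg_span_finset_subset _).mp hfg
  have hv : v ∈ Submodule.span ℝ (s' : Set (NumR.N1R k X)) := by
    rw [← hspan, NumR.span_clR]
    trivial
  obtain ⟨c, rfl⟩ := Submodule.mem_span_finset'.mp hv
  refine bilin_ineq_of_int B _ (fun a : s' => (a : NumR.N1R k X)) ?_ c
  intro z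
  obtain ⟨M, hM, hMeq⟩ := exists_clR_eq_sum k X (fun a : s' => (a : NumR.N1R k X))
    (fun a => hs's a.2) z
  rw [hMeq, hB, hB, hB]
  have := hodge_ineq k X hdim H hH M hM
  unfold ip at this
  exact_mod_cast this

/-- two classes of the closed positive cone, one in the open cone, pair positively. -/
theorem pos_of_posCone [IsIntegral X] (hdim : topologicalKrullDim X = 2)
    [Module.Finite ℝ (NumR.N1R k X)] (H : X.Modules) (hH : CohB1.IsAmple H)
    (x y : NumR.N1R k X) (hx : x ∈ NumR.posCone k X B H hH.1) (hy : 0 ≤ B y y)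
    (hyH : 0 < B y (NumR.clR k X H hH.1)) : 0 < B x y := by
  have hd : topologicalKrullDim X ≤ ((2 : ℕ) : WithBot ℕ∞) := by
    rw [hdim]
    norm_cast
  have hhh : 0 < B (NumR.clR k X H hH.1) (NumR.clR k X H hH.1) := by
    rw [hB]
    have h0 : 0 < ip k X H H := by
      by_contra hcon
      push Not at hcon
      -- `(H·H) > 0` for ample `H`
      obtain ⟨eH⟩ := Groth.Agent.Lib.Helper23.Inverse.tensor_dual_iso hH.1
      have hH' := Groth.Agent.Lib.Helper7.SnapFGA.isInvertible_of_inverse hH.1 ⟨eH⟩
      haveI : IsNoetherian X := Groth.Agent.Lib.Helper23.HilbP.isNoetherian_of_isProper k X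
      have hO := Groth.Agent.Lib.Helper23.T2.isCoh_structureModule X
      have hsuppO : CohB1.support (Coh.structureModule X) = Set.univ :=
        Groth.Agent.Lib.Helper23.HilbP.support_invertible
          (Groth.Agent.Lib.Helper3.InvGen.isInvertible_structureModule X)
      have hdimO2 : topologicalKrullDim (CohB1.support (Coh.structureModule X)) =
          ((2 : ℕ) : WithBot ℕ∞) := by
        rw [hsuppO, (Homeomorph.Set.univ X).isHomeomorph.topologicalKrullDim_eq, hdim]
        norm_cast
      have hpos : 0 < ip k X (Groth.Agent.Lib.Helper23.Inverse.dual H)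
          (Groth.Agent.Lib.Helper23.Inverse.dual H) := by
        refine Groth.Agent.Lib.Helper7.IntNumPos.intNum_pos k X 2 hd 2 ![H, H]
          ![Groth.Agent.Lib.Helper23.Inverse.dual H, Groth.Agent.Lib.Helper23.Inverse.dual H]
          ?_ ?_ _ hO hdimO2
        · intro i
          fin_cases i <;> exact hH
        · intro i
          fin_cases i <;> exact ⟨eH⟩
      rw [ip_inv k X hd hH.1 eH hH.1 eH] at hpos
      linarith
    exact_mod_cast h0
  exact pos_of_cone B (isIntForm₂_symm k X B hB) (NumR.clR k X H hH.1)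
    (real_hodge k X B hB hdim H hH) hhh x y hx.1 hx.2 hy hyH

end Groth.Agent.Lib.Helper7.RealHodge
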