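import Mathlib
import Groth.Prelude
import Groth.Agent.Lib.Helper7.RealHodge

/-!
# Helper library (helper7): the positive cone of a surface is open and convex.
-/

set_option autoImplicit false
set_option linter.unusedSectionVars false
set_option linter.style.haveILetI false
universe u
open CategoryTheory CategoryTheory.Limits AlgebraicGeometry Opposite

namespace Groth.Agent.Lib.Helper7.PosCone

open Groth.Agent.Lib.Helper7.RealHodge

variable (k : Type u) [Field k] (X : Scheme.{u}) [X.Over (Spec (CommRingCat.of k))]
  [IsProper (X ↘ Spec (CommRingCat.of k))] [PicGrp.Law X]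
  (B : NumR.N1R k X →ₗ[ℝ] NumR.N1R k X →ₗ[ℝ] ℝ)

theorem continuous_self [Module.Finite ℝ (NumR.N1R k X)] :
    Continuous (fun x : NumR.N1R k X => B x x) :=
  (IsModuleTopology.continuous_bilinear_of_finite_left B).comp
    (continuous_id.prodMk continuous_id)

theorem continuous_right (h : NumR.N1R k X) : Continuous (fun x : NumR.N1R k X => B x h) :=
  IsModuleTopology.continuous_of_linearMap (B.flip h)

theorem isOpen_posCone [Module.Finite ℝ (NumR.N1R k X)] (H : X.Modules)
    (hH : PicF.IsInvertible H) : IsOpen (NumR.posCone k X B H hH) :=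
  (isOpen_lt continuous_const (continuous_self k X B)).and
    (isOpen_lt continuous_const (continuous_right k X B _))

variable (hB : NumR.IsIntForm₂ k X B)
include hB

theorem add_mem_posCone [IsIntegral X] (hdim : topologicalKrullDim X = 2)
    [Module.Finite ℝ (NumR.N1R k X)] (H : X.Modules) (hH : CohB1.IsAmple H)
    {x y : NumR.N1R k X} (hx : x ∈ NumR.posCone k X B H hH.1)
    (hy : y ∈ NumR.posCone k X B H hH.1) : x + y ∈ NumR.posCone k X B H hH.1 := by
  have hxy := pos_of_posCone k X B hB hdim H hH x y hx hy.1.le hy.2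
  have hsymm := isIntForm₂_symm k X B hB
  refine ⟨?_, ?_⟩
  · simp only [map_add, LinearMap.add_apply, hsymm y x]
    linarith [hx.1, hy.1]
  · simp only [map_add, LinearMap.add_apply]
    linarith [hx.2, hy.2]

omit hB in
theorem smul_mem_posCone (H : X.Modules) (hH : PicF.IsInvertible H)
    {x : NumR.N1R k X} (hx : x ∈ NumR.posCone k X B H hH) {c : ℝ} (hc : 0 < c) :
    c • x ∈ NumR.posCone k X B H hH := by
  refine ⟨?_, ?_⟩
  · simp only [map_smul, LinearMap.smul_apply, smul_eq_mul]
    exact mul_pos hc (mul_pos hc hx.1)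
  · simp only [map_smul, LinearMap.smul_apply, smul_eq_mul]
    exact mul_pos hc hx.2

theorem convex_posCone [IsIntegral X] (hdim : topologicalKrullDim X = 2)
    [Module.Finite ℝ (NumR.N1R k X)] (H : X.Modules) (hH : CohB1.IsAmple H) :
    Convex ℝ (NumR.posCone k X B H hH.1) := by
  intro x hx y hy a b ha hb hab
  rcases ha.eq_or_lt with rfl | ha'
  · have hb1 : b = 1 := by linarith
    subst hb1
    simpa using hy
  rcases hb.eq_or_lt with rfl | hb'
  · have ha1 : a = 1 := by linarith
    subst ha1
    simpa using hx
  exact add_mem_posCone k X B hB hdim H hH (smul_mem_posCone k X B H hH.1 hx ha')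
    (smul_mem_posCone k X B H hH.1 hy hb')

end Groth.Agent.Lib.Helper7.PosCone
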