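import Mathlib
import Groth.Prelude
import Groth.Agent.Lib.Helper7.PosCone
import Groth.Agent.Lib.Helper7.ConeOpenLA
import Groth.Agent.Lib.Helper3.GlobGen

/-!
# Helper library (helper7): the ample cone of a projective surface is open and contained in the
positive cone; algebra of real classes of invertible modules.
-/

set_option autoImplicit false
set_option linter.unusedSectionVars false
set_option linter.style.haveILetI false
universe u
open CategoryTheory CategoryTheory.Limits AlgebraicGeometry Opposite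

namespace Groth.Agent.Lib.Helper7.AmpleConeOpen

open Groth.Agent.Lib.Helper3 Groth.Agent.Lib.Helper3.InvMonoidal Groth.Agent.Lib.Helper3.InvTensor
open Groth.Agent.Lib.Helper3.InvGen
open Groth.Agent.Lib.Helper7.SurfIP Groth.Agent.Lib.Helper7.SurfRows
open Groth.Agent.Lib.Helper7.RealHodge Groth.Agent.Lib.Helper7.PosCone
open Groth.Agent.Lib.Helper7.ConeOpenLA

section ClR

variable (k : Type u) [Field k] (X : Scheme.{u}) [X.Over (Spec (CommRingCat.of k))]
  [PicGrp.Law X]

theorem cls_tensorMod {L M : X.Modules} (hL : PicF.IsInvertible L) (hM : PicF.IsInvertible M)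
    (h : PicF.IsInvertible (CohB1.tensorMod L M)) :
    PicGrp.cls (CohB1.tensorMod L M) h = PicGrp.cls L hL * PicGrp.cls M hM :=
  Subtype.ext (by rw [PicGrp.cls_mul_cls_val]; rfl)

theorem clR_tensorMod {L M : X.Modules} (hL : PicF.IsInvertible L) (hM : PicF.IsInvertible M)
    (h : PicF.IsInvertible (CohB1.tensorMod L M)) :
    NumR.clR k X (CohB1.tensorMod L M) h = NumR.clR k X L hL + NumR.clR k X M hM := by
  rw [NumR.clR_def, NumR.clR_def, NumR.clR_def, ← map_add]
  congr 1
  unfold NumR.cl
  rw [cls_tensorMod X hL hM h, ofMul_mul, map_add]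

theorem clR_iso {L M : X.Modules} (e : L ≅ M) (hL : PicF.IsInvertible L)
    (hM : PicF.IsInvertible M) : NumR.clR k X L hL = NumR.clR k X M hM := by
  have h : PicGrp.cls L hL = PicGrp.cls M hM := (PicGrp.cls_eq_cls_iff hL hM).mpr ⟨e⟩
  rw [NumR.clR_def, NumR.clR_def]
  unfold NumR.cl
  rw [h]

theorem clR_unit (h : PicF.IsInvertible (Coh.structureModule X)) :
    NumR.clR k X (Coh.structureModule X) h = 0 := by
  have h1 : PicGrp.cls (Coh.structureModule X) h = 1 := PicGrp.cls_structureModule_eq_one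
  rw [NumR.clR_def]
  unfold NumR.cl
  rw [h1, ofMul_one, map_zero, map_zero]

theorem clR_tensorPow {L : X.Modules} (hL : PicF.IsInvertible L) (n : ℕ) :
    NumR.clR k X (CohB1.tensorPow L n) (isInvertible_tensorPow hL n) =
      (n : ℝ) • NumR.clR k X L hL := by
  induction n with
  | zero =>
    have := clR_unit k X (isInvertible_tensorPow hL 0)
    rw [Nat.cast_zero, zero_smul]
    exact this
  | succ n ih =>
    have h1 := clR_tensorMod k X (isInvertible_tensorPow hL n) hL (isInvertible_tensorPow hL (n + 1))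
    rw [ih] at h1
    rw [Nat.cast_succ, add_smul, one_smul]
    exact h1

theorem clR_inverse {L L' : X.Modules} (hL : PicF.IsInvertible L) (hL' : PicF.IsInvertible L')
    (e : CohB1.tensorMod L L' ≅ Coh.structureModule X) :
    NumR.clR k X L' hL' = - NumR.clR k X L hL := by
  have h1 := clR_tensorMod k X hL hL' (isInvertible_tensorMod hL hL')
  rw [clR_iso k X e _ (isInvertible_structureModule X), clR_unit] at h1
  exact eq_neg_of_add_eq_zero_right h1.symm

end ClR

variable (k : Type u) [Field k] (X : Scheme.{u}) [X.Over (Spec (CommRingCat.of k))]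
  [IsProper (X ↘ Spec (CommRingCat.of k))] [PicGrp.Law X]

/-- two ample modules on a surface have positive intersection number. -/
theorem ip_pos_of_ample (hdim : topologicalKrullDim X = 2) (A H : X.Modules)
    (hA : CohB1.IsAmple A) (hH : CohB1.IsAmple H) : 0 < ip k X A H := by
  have hd : topologicalKrullDim X ≤ ((2 : ℕ) : WithBot ℕ∞) := by
    rw [hdim]
    norm_cast
  obtain ⟨eA⟩ := Groth.Agent.Lib.Helper23.Inverse.tensor_dual_iso hA.1
  obtain ⟨eH⟩ := Groth.Agent.Lib.Helper23.Inverse.tensor_dual_iso hH.1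
  haveI : IsNoetherian X := Groth.Agent.Lib.Helper23.HilbP.isNoetherian_of_isProper k X
  have hO := Groth.Agent.Lib.Helper23.T2.isCoh_structureModule X
  have hsuppO : CohB1.support (Coh.structureModule X) = Set.univ :=
    Groth.Agent.Lib.Helper23.HilbP.support_invertible
      (Groth.Agent.Lib.Helper3.InvGen.isInvertible_structureModule X)
  have hdimO2 : topologicalKrullDim (CohB1.support (Coh.structureModule X)) =
      ((2 : ℕ) : WithBot ℕ∞) := by
    rw [hsuppO, (Homeomorph.Set.univ X).isHomeomorph.topologicalKrullDim_eq, hdim]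
    norm_cast
  have hpos : 0 < ip k X (Groth.Agent.Lib.Helper23.Inverse.dual A)
      (Groth.Agent.Lib.Helper23.Inverse.dual H) := by
    refine Groth.Agent.Lib.Helper7.IntNumPos.intNum_pos k X 2 hd 2 ![A, H]
      ![Groth.Agent.Lib.Helper23.Inverse.dual A, Groth.Agent.Lib.Helper23.Inverse.dual H]
      ?_ ?_ _ hO hdimO2
    · intro i
      fin_cases i
      · exact hA
      · exact hH
    · intro i
      fin_cases i
      · exact ⟨eA⟩
      · exact ⟨eH⟩
  rw [ip_inv k X hd hA.1 eA hH.1 eH] at hpos
  exact hpos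

variable (B : NumR.N1R k X →ₗ[ℝ] NumR.N1R k X →ₗ[ℝ] ℝ) (hB : NumR.IsIntForm₂ k X B)

include hB in
theorem ample_mem_posCone (hdim : topologicalKrullDim X = 2) (A H : X.Modules)
    (hA : CohB1.IsAmple A) (hH : CohB1.IsAmple H) :
    NumR.clR k X A hA.1 ∈ NumR.posCone k X B H hH.1 := by
  constructor
  · rw [hB]
    exact_mod_cast ip_pos_of_ample k X hdim A A hA hA
  · rw [hB]
    exact_mod_cast ip_pos_of_ample k X hdim A H hA hH

include hB in
/-- the ample cone is contained in the positive cone. -/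
theorem ampleCone_subset_posCone [IsIntegral X] (hdim : topologicalKrullDim X = 2)
    [Module.Finite ℝ (NumR.N1R k X)] (H : X.Modules) (hH : CohB1.IsAmple H) :
    (NumR.ampleCone k X : Set (NumR.N1R k X)) ⊆ NumR.posCone k X B H hH.1 := by
  let P : ConvexCone ℝ (NumR.N1R k X) :=
    { carrier := NumR.posCone k X B H hH.1
      smul_mem' := fun c hc x hx => smul_mem_posCone k X B H hH.1 hx hc
      add_mem' := fun x hx y hy => add_mem_posCone k X B hB hdim H hH hx hy }
  have hle : NumR.ampleCone k X ≤ P := by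
    apply ConvexCone.hull_min
    rintro _ ⟨A, hAinv, hA, rfl⟩
    exact ample_mem_posCone k X B hB hdim A H hA hH
  exact fun x hx => hle hx

/-- the class of an ample module is an interior point of the ample cone. -/
theorem ample_mem_interior [Module.Finite ℝ (NumR.N1R k X)] (A : X.Modules)
    (hA : CohB1.IsAmple A) :
    NumR.clR k X A hA.1 ∈ interior (NumR.ampleCone k X : Set (NumR.N1R k X)) := by
  classical
  haveI : CompactSpace X := Groth.Agent.Lib.Helper23.T2.compactSpace_of_isProper k X
  haveI : QuasiSeparatedSpace X := Groth.Agent.Lib.Helper23.T2.quasiSeparatedSpace_of_isProper k X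
  have hfg : (Submodule.span ℝ {x : NumR.N1R k X |
      ∃ (L : X.Modules) (hL : PicF.IsInvertible L), x = NumR.clR k X L hL}).FG := by
    rw [NumR.span_clR]
    exact Module.Finite.fg_top
  obtain ⟨s', hs's, hspan⟩ := (Submodule.fg_span_iff_fg_span_finset_subset _).mp hfg
  -- the spanning family, with the ample class added to make it nonempty
  let w : Option s' → NumR.N1R k X := fun o => o.elim (NumR.clR k X A hA.1) (fun a => (a : NumR.N1R k X))
  have hwcl : ∀ o, ∃ (L : X.Modules) (hL : PicF.IsInvertible L), w o = NumR.clR k X L hL := by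
    intro o
    cases o with
    | none => exact ⟨A, hA.1, rfl⟩
    | some a => exact hs's a.2
  have hw : Submodule.span ℝ (Set.range w) = ⊤ := by
    rw [eq_top_iff, ← NumR.span_clR, hspan]
    apply Submodule.span_mono
    intro v hv
    exact ⟨some ⟨v, hv⟩, rfl⟩
  choose L hL hwL using hwcl
  -- the twists
  have htw : ∀ o, ∃ n₀ : ℕ, ∀ n, n₀ ≤ n →
      CohB1.IsAmple (CohB1.tensorMod (CohB1.tensorPow A n) (L o)) ∧
      CohB1.IsAmple (CohB1.tensorMod (CohB1.tensorPow A n)
        (Groth.Agent.Lib.Helper23.Inverse.dual (L o))) := by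
    intro o
    obtain ⟨eL⟩ := Groth.Agent.Lib.Helper23.Inverse.tensor_dual_iso (hL o)
    have hL' : PicF.IsInvertible (Groth.Agent.Lib.Helper23.Inverse.dual (L o)) :=
      Groth.Agent.Lib.Helper7.SnapFGA.isInvertible_of_inverse (hL o) ⟨eL⟩
    obtain ⟨n₁, -, h₁⟩ := Groth.Agent.Lib.Helper3.GlobGen.exists_isAmple_isSpanned_twist hA (hL o)
    obtain ⟨n₂, -, h₂⟩ := Groth.Agent.Lib.Helper3.GlobGen.exists_isAmple_isSpanned_twist hA hL'
    exact ⟨max n₁ n₂, fun n hn =>
      ⟨(h₁ n (le_trans (le_max_left _ _) hn)).1, (h₂ n (le_trans (le_max_right _ _) hn)).1⟩⟩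
  choose n₀ hn₀ using htw
  set N : ℕ := 1 + Finset.univ.sup n₀ with hN
  have hNpos : (0 : ℝ) < (N : ℝ) := by
    rw [hN]
    positivity
  have hNge : ∀ o, n₀ o ≤ N := fun o => by
    rw [hN]
    exact (Finset.le_sup (f := n₀) (Finset.mem_univ o)).trans (Nat.le_add_left _ _)
  refine mem_interior_cone (NumR.ampleCone k X) w hw _ (1 / (N : ℝ)) (by positivity) fun o => ?_
  obtain ⟨eL⟩ := Groth.Agent.Lib.Helper23.Inverse.tensor_dual_iso (hL o)
  have hL' : PicF.IsInvertible (Groth.Agent.Lib.Helper23.Inverse.dual (L o)) :=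
    Groth.Agent.Lib.Helper7.SnapFGA.isInvertible_of_inverse (hL o) ⟨eL⟩
  obtain ⟨ha1, ha2⟩ := hn₀ o N (hNge o)
  have hAN := isInvertible_tensorPow hA.1 N
  constructor
  · have hmem : NumR.clR k X _ ha1.1 ∈ NumR.ampleCone k X :=
      ConvexCone.subset_hull ⟨_, ha1.1, ha1, rfl⟩
    rw [clR_tensorMod k X hAN (hL o) ha1.1, clR_tensorPow k X hA.1 N, ← hwL o] at hmem
    have h2 := (NumR.ampleCone k X).smul_mem (show (0 : ℝ) < 1 / (N : ℝ) by positivity) hmem
    rw [smul_add, smul_smul, one_div_mul_cancel hNpos.ne', one_smul] at h2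
    exact h2
  · have hmem : NumR.clR k X _ ha2.1 ∈ NumR.ampleCone k X :=
      ConvexCone.subset_hull ⟨_, ha2.1, ha2, rfl⟩
    rw [clR_tensorMod k X hAN hL' ha2.1, clR_tensorPow k X hA.1 N,
      clR_inverse k X (hL o) hL' eL, ← hwL o] at hmem
    have h2 := (NumR.ampleCone k X).smul_mem (show (0 : ℝ) < 1 / (N : ℝ) by positivity) hmem
    rw [smul_add, smul_smul, one_div_mul_cancel hNpos.ne', one_smul, smul_neg,
      ← sub_eq_add_neg] at h2
    exact h2

/-- the ample cone is open. -/
theorem isOpen_ampleCone [Module.Finite ℝ (NumR.N1R k X)] :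
    IsOpen (NumR.ampleCone k X : Set (NumR.N1R k X)) := by
  apply isOpen_hull_of_subset_interior
  rintro _ ⟨A, hAinv, hA, rfl⟩
  exact ample_mem_interior k X A hA

end Groth.Agent.Lib.Helper7.AmpleConeOpen
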