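import Groth.Agent.Lib.Helper7.AmpleSerre
import Groth.Agent.Lib.Helper17.DevStep
import Groth.Agent.S0786

/-!
# Ampleness and closed subschemes: `I J = 0`, `L|V(I)` and `L|V(J)` ample ⟹ `L` ample
-/

set_option autoImplicit false
set_option linter.unusedSectionVars false
set_option linter.style.haveILetI false
universe u
open CategoryTheory CategoryTheory.Limits AlgebraicGeometry TopologicalSpace Opposite
open Scheme.Modules

noncomputable section

namespace Groth.Agent.Lib.Helper7.AmpleGlue

open Groth.Agent.Lib.Helper3 Groth.Agent.Lib.Helper13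
open QCSec InvGen InvTensor InvMonoidal PbTensor PbBasic
open Groth.Agent.Lib.Helper7.TwFun Groth.Agent.Lib.Helper17.DevStep Groth.Agent.Lib.Helper17.DevBasic

variable {X : Scheme.{u}}

/-- cohomology of `G ⊗ i^*K` on a closed subscheme and of `i_*G ⊗ K` on the ambient scheme. -/
lemma sub_push_iff {Z : Scheme.{u}} (i : Z ⟶ X) [IsClosedImmersion i] (G : Z.Modules)
    (K : X.Modules) (q : ℕ) :
    Subsingleton (Coh.HH Z (CohB1.tensorMod G ((Scheme.Modules.pullback i).obj K)) q) ↔
      Subsingleton (Coh.HH X (CohB1.tensorMod ((Scheme.Modules.pushforward i).obj G) K) q) := by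
  have e := PushLinear.pushEquiv i (CohB1.tensorMod G ((Scheme.Modules.pullback i).obj K)) q
  let pj : CohB1.tensorMod ((Scheme.Modules.pushforward i).obj G) K ≅
      (Scheme.Modules.pushforward i).obj (CohB1.tensorMod G ((Scheme.Modules.pullback i).obj K)) :=
    Groth.Agent.Lib.Helper2.Mon.projIso i G K
  constructor
  · intro h
    have h2 : Subsingleton (Coh.HH X ((Scheme.Modules.pushforward i).obj
        (CohB1.tensorMod G ((Scheme.Modules.pullback i).obj K))) q) :=
      e.symm.toEquiv.subsingleton
    exact subsingleton_HH_of_iso pj q h2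
  · intro h
    have h2 : Subsingleton (Coh.HH X ((Scheme.Modules.pushforward i).obj
        (CohB1.tensorMod G ((Scheme.Modules.pullback i).obj K))) q) :=
      subsingleton_HH_of_iso pj.symm q h
    exact e.toEquiv.subsingleton

/-- Serre vanishing for coherent modules killed by `I`, when `L|V(I)` is ample. -/
theorem vanishing_of_killed (A : Type u) [CommRing A] [IsNoetherianRing A]
    (f : X ⟶ Spec (CommRingCat.of A)) [IsProper f] {L : X.Modules} (hL : PicF.IsInvertible L) (I : X.IdealSheafData)
    (hI : CohB1.IsAmple ((Scheme.Modules.pullback I.subschemeι).obj L))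
    (F : X.Modules) (hF : Coh.IsCoh F) (hk : ClSub.KilledByIdeal I F) :
    ∃ n₀ : ℕ, ∀ n : ℕ, n₀ ≤ n → ∀ p : ℕ, 0 < p →
      Subsingleton (Coh.HH X (CohB1.tensorMod F (CohB1.tensorPow L n)) p) := by
  haveI : IsLocallyNoetherian X := LocallyOfFiniteType.isLocallyNoetherian f
  have hk' : ClSub.KilledByIdeal I.subschemeι.ker F := by
    rw [Scheme.IdealSheafData.ker_subschemeι]
    exact hk
  obtain ⟨G, hG, ⟨e⟩⟩ := Groth.Agent.S0786.result I.subschemeι F hF hk'
  obtain ⟨n₀, hn₀⟩ := AmpleSerre.serre_vanishing_of_isAmple A (I.subschemeι ≫ f) hI G hG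
  refine ⟨n₀, fun n hn p hp => ?_⟩
  have h1 := hn₀ n hn p hp
  have h2 : Subsingleton (Coh.HH I.subscheme (CohB1.tensorMod G
      ((Scheme.Modules.pullback I.subschemeι).obj (CohB1.tensorPow L n))) p) :=
    subsingleton_HH_of_iso (tensorMapIso (Iso.refl G) (pbPowIso I.subschemeι L hL n)) p h1
  have h3 := (sub_push_iff I.subschemeι G (CohB1.tensorPow L n) p).1 h2
  exact subsingleton_HH_of_iso (tensorMapIso e.symm (Iso.refl _)) p h3

/-- if `I J = 0` then `I F` is killed by `J`. -/
theorem killed_kernel_of_mul_eq_bot (I J : X.IdealSheafData) (hIJ : I * J = ⊥) (F : X.Modules)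
    [F.IsQuasicoherent] : ClSub.KilledByIdeal J (kernel (proj I F)) := by
  rw [killed_iff]
  intro U a ha k
  apply (QCProps.mono_iff_app_injective (kernel.ι (proj I F))).mp inferInstance U.1
  have h1 : (kernel.ι (proj I F)).app U.1 (a • k) = a • (kernel.ι (proj I F)).app U.1 k :=
    Scheme.Modules.Hom.app_smul _ a k
  rw [h1, map_zero]
  have h0 : (proj I F).app U.1 ((kernel.ι (proj I F)).app U.1 k) = 0 := by
    have := congrArg (fun φ => (Scheme.Modules.Hom.app φ U.1).hom k) (kernel.condition (proj I F))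
    exact this
  have hmem := mem_smul_top_of_proj_app_eq_zero I F U _ h0
  refine Submodule.smul_induction_on hmem ?_ ?_
  · intro b hb m' _
    rw [← mul_smul]
    have hab : a * b ∈ (I * J).ideal U := by
      rw [Scheme.IdealSheafData.ideal_mul, mul_comm a b]
      exact Ideal.mul_mem_mul hb ha
    rw [hIJ, Scheme.IdealSheafData.ideal_bot] at hab
    have hab' : a * b = 0 := hab
    rw [hab', zero_smul]
  · intro x y hx hy
    rw [smul_add, hx, hy, add_zero]

/-- `I J = 0`, `L|V(I)` and `L|V(J)` ample ⟹ `L` ample (on a scheme proper over a Noetherian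
ring). -/
theorem isAmple_of_mul_eq_bot (A : Type u) [CommRing A] [IsNoetherianRing A]
    (f : X ⟶ Spec (CommRingCat.of A)) [IsProper f] {L : X.Modules} (hL : PicF.IsInvertible L)
    (I J : X.IdealSheafData) (hIJ : I * J = ⊥)
    (hI : CohB1.IsAmple ((Scheme.Modules.pullback I.subschemeι).obj L))
    (hJ : CohB1.IsAmple ((Scheme.Modules.pullback J.subschemeι).obj L)) :
    CohB1.IsAmple L := by
  haveI : IsLocallyNoetherian X := LocallyOfFiniteType.isLocallyNoetherian f
  rw [AmpleSerre.isAmple_iff_serre_vanishing A f hL]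
  intro F hF
  haveI : F.IsQuasicoherent := hF.1
  have hK : Coh.IsCoh (kernel (proj I F)) :=
    isCoh_kernel (proj I F) hF inferInstance
  obtain ⟨n₁, h₁⟩ := vanishing_of_killed A f hL J hJ (kernel (proj I F)) hK
    (killed_kernel_of_mul_eq_bot I J hIJ F)
  obtain ⟨n₂, h₂⟩ := vanishing_of_killed A f hL I hI (quot I F) (isCoh_quot I F hF)
    (killed_quot I F)
  refine ⟨max n₁ n₂, fun n hn p hp => ?_⟩
  let S : ShortComplex X.Modules :=
    ShortComplex.mk (kernel.ι (proj I F)) (proj I F) (kernel.condition _)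
  have hS : S.ShortExact :=
    { exact := ShortComplex.exact_kernel _
      mono_f := inferInstanceAs (Mono (kernel.ι (proj I F)))
      epi_g := inferInstanceAs (Epi (proj I F)) }
  have hS' := AmpleH1.shortExact_tw (isInvertible_tensorPow hL n) S hS
  exact SerreCrit1.subsingleton_H1_middle _ hS' p
    (h₁ n ((le_max_left _ _).trans hn) p hp) (h₂ n ((le_max_right _ _).trans hn) p hp)

end Groth.Agent.Lib.Helper7.AmpleGlue
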