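import Groth.Agent.Lib.Helper3.GlobGenFin
import Groth.Agent.Lib.Helper23.Inverse
import Groth.Agent.Lib.Helper23.Twist
import Groth.Agent.Lib.Helper23.CurveE
import Groth.Agent.Lib.Helper17.LocFreeRank
import Groth.Agent.Lib.Helper13.QCDim
import Groth.Agent.Lib.Helper13.ProfiniteAcyclic
import Groth.Agent.Lib.Helper7.TwFun
import Groth.Agent.Lib.Helper17.DevBasic

/-!
# Resolutions by finite locally free modules on a scheme with an ample invertible module

* `exists_epi_finLocFree`: a coherent module is a quotient of a finite locally free module.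
* `coh_vanishing_of_locFree_vanishing`: if `H^i(E) = 0` for `i > n` and all finite locally free `E`,
  the same holds for all coherent modules.
-/

set_option autoImplicit false
set_option linter.unusedSectionVars false
set_option linter.style.haveILetI false
universe u
open CategoryTheory CategoryTheory.Limits AlgebraicGeometry TopologicalSpace Opposite
open Scheme.Modules

noncomputable section

namespace Groth.Agent.Lib.Helper7.AmpleRes

open Groth.Agent.Lib.Helper3 Groth.Agent.Lib.Helper13
open QCSec InvGen InvTensor InvMonoidal InvCoh InvAmple GlobGen GlobGenFin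
open Groth.Agent.Lib.Helper7.TwFun

variable {X : Scheme.{u}}

/-- a finite free module (Mathlib's form) is finite locally free of rank the cardinality. -/
lemma isFinLocFreeOfRank_free (I : Type u) [Finite I] :
    FlatMod.IsFinLocFreeOfRank (Nat.card I) (SheafOfModules.free (R := X.ringCatSheaf) I) := by
  have e : SheafOfModules.free (R := X.ringCatSheaf) I ≅ FlatMod.freeMod X (Nat.card I) :=
    Sigma.whiskerEquiv (f := fun _ : I => SheafOfModules.unit X.ringCatSheaf)
      (g := fun _ : Fin (Nat.card I) => Coh.structureModule X) (Finite.equivFin I)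
      (fun _ => Iso.refl _)
  exact Groth.Agent.Lib.Helper17.LocFreeRank.isFinLocFreeOfRank_of_iso e.symm _
    (Groth.Agent.Lib.Helper17.LocFreeRank.isFinLocFreeOfRank_freeMod X _)

/-- on a scheme with an ample invertible module, a quasi-coherent module of finite type is a
quotient of a finite locally free module. -/
theorem exists_epi_finLocFree [CompactSpace X] [QuasiSeparatedSpace X] {L : X.Modules}
    (hA : CohB1.IsAmple L) (F : X.Modules) [F.IsQuasicoherent] [F.IsFiniteType] :
    ∃ (r : ℕ) (E : X.Modules) (p : E ⟶ F), FlatMod.IsFinLocFreeOfRank r E ∧ Epi p := by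
  obtain ⟨d, _, ι, hι, s, haff, hcov⟩ := exists_finite_secLocus_cover hA
  have hN : PicF.IsInvertible (CohB1.tensorPow L d) := isInvertible_tensorPow hA.1 d
  obtain ⟨k₀, hk₀⟩ := exists_isFinSpanned_twist_aux hN s haff hcov F
  obtain ⟨I, hI, σ, hσ⟩ := hk₀ k₀ le_rfl
  let P : X.Modules := CohB1.tensorPow (CohB1.tensorPow L d) k₀
  have hP : PicF.IsInvertible P := isInvertible_tensorPow hN k₀
  haveI : (CohB1.tensorMod F P).IsQuasicoherent := isQuasicoherent_tensorMod F P hP
  haveI : Epi (freeHom (CohB1.tensorMod F P) σ) := epi_freeHom _ σ hσ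
  obtain ⟨N', hN', ⟨e⟩⟩ := Groth.Agent.Lib.Helper23.Inverse.exists_isInverseOf hP
  let c : (twR N').obj (CohB1.tensorMod F P) ≅ F :=
    assoc F P N' ≪≫ tensorMapIso (Iso.refl F) e ≪≫ SecTwist.unitorR F
  haveI : Epi ((twR N').map (freeHom (CohB1.tensorMod F P) σ)) :=
    Groth.Agent.Lib.Helper23.Twist.epi_tw hN' _
  refine ⟨Nat.card I, _, (twR N').map (freeHom (CohB1.tensorMod F P) σ) ≫ c.hom, ?_, ?_⟩
  · exact Groth.Agent.Lib.Helper23.Twist.isFinLocFreeOfRank_tensor hN'
      (isFinLocFreeOfRank_free I)
  · exact epi_comp _ _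

/-- if `H^i` vanishes for `i > n` on finite locally free modules, it does on coherent modules. -/
theorem coh_vanishing_of_locFree_vanishing [IsNoetherian X] {L : X.Modules}
    (hA : CohB1.IsAmple L) (n : ℕ)
    (h : ∀ E : X.Modules, FlatMod.IsFinLocFree E → ∀ i : ℕ, n < i → Subsingleton (Coh.HH X E i))
    (F : X.Modules) (hF : Coh.IsCoh F) (i : ℕ) (hi : n < i) : Subsingleton (Coh.HH X F i) := by
  obtain ⟨d, hd⟩ := QCDim.QC.exists_top (X := X)
  have hT : CategoryTheory.Limits.IsTerminal (⊤ : X.Opens) := CategoryTheory.Limits.isTerminalTop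
  suffices H : ∀ (t : ℕ) (F : X.Modules), Coh.IsCoh F → ∀ i : ℕ, n < i → d ≤ i + t →
      Subsingleton (Coh.HH X F i) from H d F hF i hi (Nat.le_add_left d i)
  intro t
  induction t with
  | zero =>
    intro F hF i _ hdi
    haveI : F.IsQuasicoherent := hF.1
    have h0 := hd.vanish F i hdi
    exact (ProfiniteAcyclic.HEquivHU (Opens.grothendieckTopology X) hT (Coh.toAb F)
      i).toEquiv.subsingleton_congr.2 h0
  | succ t ih =>
    intro F hF i hi hdi
    haveI : F.IsQuasicoherent := hF.1
    haveI : F.IsFiniteType := hF.2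
    obtain ⟨r, E, p, hE, hp⟩ := exists_epi_finLocFree hA F
    haveI := hp
    have hEc : Coh.IsCoh E := Groth.Agent.Lib.Helper23.Curve.isCoh_of_isFinLocFreeOfRank hE
    have hK : Coh.IsCoh (kernel p) :=
      Groth.Agent.Lib.Helper17.DevBasic.isCoh_kernel p hEc hF.1
    let S : ShortComplex X.Modules := ShortComplex.mk (kernel.ι p) p (kernel.condition _)
    have hS : S.ShortExact :=
      { exact := ShortComplex.exact_kernel _
        mono_f := inferInstanceAs (Mono (kernel.ι p))
        epi_g := inferInstanceAs (Epi p) }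
    have hE' : FlatMod.IsFinLocFree E := fun x => by
      obtain ⟨U, hxU, hU⟩ := hE x
      exact ⟨U, r, hxU, hU⟩
    exact sub_right S hS i (h E hE' i hi) (ih (kernel p) hK (i + 1) (by omega) (by omega))

end Groth.Agent.Lib.Helper7.AmpleRes
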