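import Groth.Prelude.Def_AnPts
import Mathlib.AlgebraicGeometry.AlgClosed.Basic
import Mathlib.Analysis.Complex.Polynomial.Basic
import Mathlib.AlgebraicGeometry.Morphisms.FiniteType
import Mathlib.AlgebraicGeometry.Morphisms.FinitePresentation
import Mathlib.AlgebraicGeometry.Noetherian
import Mathlib.Topology.Constructible
import Mathlib.Topology.JacobsonSpace

/-!
Basic facts on complex points `An.Pts X` of schemes locally of finite type over ℂ
(shared helper library of helper7).
-/

set_option autoImplicit false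
open CategoryTheory AlgebraicGeometry Topology TopologicalSpace

namespace Groth.Agent.Lib.Helper7

section Topology

variable {T : Type*} [TopologicalSpace T]

/-- Every point of a constructible set lies in a locally closed subset of it (and the same for the
complement). -/
theorem exists_isLocallyClosed_of_isConstructible {s : Set T} (hs : IsConstructible s) :
    (∀ z ∈ s, ∃ L, IsLocallyClosed L ∧ z ∈ L ∧ L ⊆ s) ∧
    (∀ z ∈ sᶜ, ∃ L, IsLocallyClosed L ∧ z ∈ L ∧ L ⊆ sᶜ) := by
  induction hs using IsConstructible.empty_union_induction with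
  | open_retrocompact U hU _ =>
    exact ⟨fun z hz => ⟨U, hU.isLocallyClosed, hz, subset_rfl⟩,
      fun z hz => ⟨Uᶜ, hU.isClosed_compl.isLocallyClosed, hz, subset_rfl⟩⟩
  | union s _ t _ hs ht =>
    refine ⟨?_, ?_⟩
    · rintro z (hz | hz)
      · obtain ⟨L, hL, hzL, hLs⟩ := hs.1 z hz
        exact ⟨L, hL, hzL, hLs.trans Set.subset_union_left⟩
      · obtain ⟨L, hL, hzL, hLs⟩ := ht.1 z hz
        exact ⟨L, hL, hzL, hLs.trans Set.subset_union_right⟩
    · intro z hz
      rw [Set.compl_union] at hz ⊢
      obtain ⟨L, hL, hzL, hLs⟩ := hs.2 z hz.1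
      obtain ⟨L', hL', hzL', hLs'⟩ := ht.2 z hz.2
      exact ⟨L ∩ L', hL.inter hL', ⟨hzL, hzL'⟩, Set.inter_subset_inter hLs hLs'⟩
  | compl s _ hs =>
    refine ⟨hs.2, ?_⟩
    rw [compl_compl]
    exact hs.1

/-- The complement of a locally constructible set is locally constructible. -/
theorem isLocallyConstructible_compl {s : Set T} (hs : IsLocallyConstructible s) :
    IsLocallyConstructible sᶜ := by
  intro x
  obtain ⟨U, hU, hUo, hc⟩ := hs x
  exact ⟨U, hU, hUo, by rw [Set.preimage_compl]; exact hc.compl⟩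

/-- A nonempty locally constructible subset of a Jacobson space contains a closed point. -/
theorem nonempty_inter_closedPoints_of_isLocallyConstructible [JacobsonSpace T] {S : Set T}
    (hS : IsLocallyConstructible S) (hne : S.Nonempty) : (S ∩ closedPoints T).Nonempty := by
  obtain ⟨z, hz⟩ := hne
  obtain ⟨U, hU, hUo, hc⟩ := hS z
  have hzU : z ∈ U := mem_of_mem_nhds hU
  obtain ⟨L, hL, hzL, hLs⟩ := (exists_isLocallyClosed_of_isConstructible hc).1 ⟨z, hzU⟩ hz
  have hL' : IsLocallyClosed (Subtype.val '' L) :=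
    hL.image hUo.isOpenEmbedding_subtypeVal.isInducing
      (by rw [Subtype.range_coe]; exact hUo.isLocallyClosed)
  obtain ⟨w, hwL, hw⟩ := nonempty_inter_closedPoints (Z := Subtype.val '' L)
    ⟨z, ⟨⟨z, hzU⟩, hzL, rfl⟩⟩ hL'
  obtain ⟨w', hw'L, rfl⟩ := hwL
  exact ⟨w'.1, hLs hw'L, hw⟩

end Topology

section Pts

open An

variable (X : Scheme.{0}) [X.Over An.SC] [LocallyOfFiniteType (X ↘ An.SC)]

theorem closedPoint_eq_cpt : IsLocalRing.closedPoint ℂ = An.cpt := An.eq_cpt _

/-- The underlying point of a ℂ-point determines it. -/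
theorem pt_injective : Function.Injective (An.Pts.pt (X := X)) := by
  intro a b hab
  apply Subtype.ext
  refine ext_of_apply_closedPoint_eq (X ↘ An.SC) a.2 b.2 ?_
  rw [closedPoint_eq_cpt]
  exact hab

/-- The underlying point of a ℂ-point is closed. -/
theorem isClosed_pt (x : An.Pts X) : IsClosed ({x.pt} : Set X) := by
  have h := ((pointEquivClosedPoint (X ↘ An.SC)) x).2
  have e : ((pointEquivClosedPoint (X ↘ An.SC)) x).1 = x.pt := by
    change x.1 (IsLocalRing.closedPoint ℂ) = x.1 An.cpt
    rw [closedPoint_eq_cpt]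
  rw [e] at h
  exact h

/-- Every closed point underlies a ℂ-point. -/
theorem exists_pt_eq {w : X} (hw : IsClosed ({w} : Set X)) : ∃ x : An.Pts X, x.pt = w := by
  refine ⟨(pointEquivClosedPoint (X ↘ An.SC)).symm ⟨w, hw⟩, ?_⟩
  change (pointOfClosedPoint (X ↘ An.SC) w hw) An.cpt = w
  exact pointOfClosedPoint_apply _ _ _ _

theorem range_pt : Set.range (An.Pts.pt (X := X)) = closedPoints X := by
  ext w
  constructor
  · rintro ⟨x, rfl⟩
    exact isClosed_pt X x
  · intro hw
    exact exists_pt_eq X hw

theorem jacobsonSpace_of_lft : JacobsonSpace X := LocallyOfFiniteType.jacobsonSpace (X ↘ An.SC)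

theorem isLocallyNoetherian_of_lft : IsLocallyNoetherian X :=
  LocallyOfFiniteType.isLocallyNoetherian (X ↘ An.SC)

variable {X}

/-- A nonempty locally constructible subset contains the underlying point of a ℂ-point. -/
theorem exists_pt_mem_of_isLocallyConstructible {S : Set X} (hS : IsLocallyConstructible S)
    (hne : S.Nonempty) : ∃ x : An.Pts X, x.pt ∈ S := by
  have := jacobsonSpace_of_lft X
  obtain ⟨w, hwS, hw⟩ := nonempty_inter_closedPoints_of_isLocallyConstructible hS hne
  obtain ⟨x, rfl⟩ := exists_pt_eq X hw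
  exact ⟨x, hwS⟩

variable {Y : Scheme.{0}} [Y.Over An.SC] [LocallyOfFiniteType (Y ↘ An.SC)]

omit [LocallyOfFiniteType (Y ↘ An.SC)] in
/-- A morphism over ℂ between schemes locally of finite type over ℂ is locally of finite type. -/
theorem locallyOfFiniteType_of_isOver (f : X ⟶ Y) [f.IsOver An.SC] : LocallyOfFiniteType f := by
  have hfX : LocallyOfFiniteType (f ≫ (Y ↘ An.SC)) := by
    rw [comp_over f]; infer_instance
  exact locallyOfFiniteType_of_comp f (Y ↘ An.SC)

end Pts

end Groth.Agent.Lib.Helper7
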