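import Mathlib.Analysis.Complex.RemovableSingularity
import Mathlib.Analysis.Complex.Liouville
import Mathlib.Analysis.Calculus.DSlope
import Mathlib.Algebra.Polynomial.Eval.Degree

set_option autoImplicit false
set_option maxHeartbeats 400000

/-!
# One-variable complex analysis: a holomorphic function off a finite set with polynomial growth
is a polynomial
-/

open Filter Topology Polynomial Set

namespace Groth.Agent.Lib.Helper7.AnConn

/-- Removable singularities at finitely many points. -/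
theorem exists_entire_of_differentiableOn_compl_finset (F : Finset ℂ) :
    ∀ g : ℂ → ℂ, DifferentiableOn ℂ g (↑F : Set ℂ)ᶜ →
      (∀ R : ℝ, ∃ C : ℝ, ∀ s ∉ F, ‖s‖ ≤ R → ‖g s‖ ≤ C) →
      ∃ G : ℂ → ℂ, Differentiable ℂ G ∧ ∀ s ∉ F, G s = g s := by
  classical
  induction F using Finset.induction_on with
  | empty =>
    intro g hg _
    simp only [Finset.coe_empty, Set.compl_empty] at hg
    exact ⟨g, differentiableOn_univ.mp hg, fun _ _ => rfl⟩
  | insert c F' hc ih =>
    intro g hg hb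
    have hopen : IsOpen ((↑F' : Set ℂ)ᶜ) := (Finset.finite_toSet F').isClosed.isOpen_compl
    have hcU : c ∈ ((↑F' : Set ℂ)ᶜ) := by simpa using hc
    obtain ⟨ε, hε, hball⟩ := Metric.isOpen_iff.mp hopen c hcU
    have hsub : Metric.ball c ε \ {c} ⊆ (↑(insert c F') : Set ℂ)ᶜ := by
      rintro s ⟨hs1, hs2⟩
      have h1 : s ∉ F' := by
        have := hball hs1
        simpa using this
      have h2 : s ≠ c := hs2
      simp only [Finset.coe_insert, Set.mem_compl_iff, Set.mem_insert_iff, Finset.mem_coe, not_or]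
      exact ⟨h2, h1⟩
    have hd : DifferentiableOn ℂ g (Metric.ball c ε \ {c}) := hg.mono hsub
    obtain ⟨C, hC⟩ := hb (‖c‖ + ε)
    have hbdd : BddAbove (norm ∘ g '' (Metric.ball c ε \ {c})) := by
      refine ⟨C, ?_⟩
      rintro _ ⟨s, hs, rfl⟩
      have hs' : s ∉ insert c F' := by
        have := hsub hs
        simpa using this
      refine hC s hs' ?_
      have h1 : ‖s - c‖ < ε := by
        have := hs.1
        rwa [Metric.mem_ball, dist_eq_norm] at this
      calc ‖s‖ = ‖c + (s - c)‖ := by ring_nf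
        _ ≤ ‖c‖ + ‖s - c‖ := norm_add_le _ _
        _ ≤ ‖c‖ + ε := by linarith
    set g₁ : ℂ → ℂ := Function.update g c (limUnder (𝓝[≠] c) g) with hg₁
    have h1 : DifferentiableOn ℂ g₁ (Metric.ball c ε) :=
      Complex.differentiableOn_update_limUnder_of_bddAbove (Metric.ball_mem_nhds c hε) hd hbdd
    have hg₁d : DifferentiableOn ℂ g₁ (↑F' : Set ℂ)ᶜ := by
      intro s hs
      by_cases hsc : s = c
      · subst hsc
        exact (h1.differentiableAt (Metric.ball_mem_nhds s hε)).differentiableWithinAt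
      · have hs' : s ∈ (↑(insert c F') : Set ℂ)ᶜ := by
          have h1 : s ∉ F' := by simpa using hs
          simp only [Finset.coe_insert, Set.mem_compl_iff, Set.mem_insert_iff, Finset.mem_coe,
            not_or]
          exact ⟨hsc, h1⟩
        have hopen' : IsOpen ((↑(insert c F') : Set ℂ)ᶜ) :=
          (Finset.finite_toSet _).isClosed.isOpen_compl
        have h2 : DifferentiableAt ℂ g s := (hg s hs').differentiableAt (hopen'.mem_nhds hs')
        have h3 : g₁ =ᶠ[𝓝 s] g := by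
          filter_upwards [isOpen_compl_singleton.mem_nhds hsc] with z hz
          exact Function.update_of_ne hz _ _
        exact (h2.congr_of_eventuallyEq h3).differentiableWithinAt
    have hb₁ : ∀ R : ℝ, ∃ C' : ℝ, ∀ s ∉ F', ‖s‖ ≤ R → ‖g₁ s‖ ≤ C' := by
      intro R
      obtain ⟨C', hC'⟩ := hb R
      refine ⟨max C' ‖g₁ c‖, fun s hs hsR => ?_⟩
      by_cases hsc : s = c
      · subst hsc; exact le_max_right _ _
      · have hs' : s ∉ insert c F' := by
          simp only [Finset.mem_insert, not_or]; exact ⟨hsc, hs⟩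
        rw [hg₁, Function.update_of_ne hsc]
        exact (hC' s hs' hsR).trans (le_max_left _ _)
    obtain ⟨G, hG, hGe⟩ := ih g₁ hg₁d hb₁
    refine ⟨G, hG, fun s hs => ?_⟩
    simp only [Finset.mem_insert, not_or] at hs
    rw [hGe s hs.2, hg₁, Function.update_of_ne hs.1]

/-- An entire function of polynomial growth is a polynomial. -/
theorem exists_polynomial_of_growth (M : ℕ) : ∀ G : ℂ → ℂ, Differentiable ℂ G →
    (∃ K₀ R₀ : ℝ, ∀ s, R₀ ≤ ‖s‖ → ‖G s‖ ≤ K₀ * ‖s‖ ^ M) →
    ∃ q : ℂ[X], q.natDegree ≤ M ∧ ∀ s, G s = q.eval s := by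
  induction M with
  | zero =>
    rintro G hG ⟨K₀, R₀, hb⟩
    have hbdd : Bornology.IsBounded (Set.range G) := by
      obtain ⟨C₁, hC₁⟩ := (isCompact_closedBall (0 : ℂ) (max R₀ 0)).exists_bound_of_continuousOn
        hG.continuous.continuousOn
      rw [isBounded_iff_forall_norm_le]
      refine ⟨max C₁ K₀, ?_⟩
      rintro _ ⟨s, rfl⟩
      by_cases hs : ‖s‖ ≤ max R₀ 0
      · exact (hC₁ s (by rwa [mem_closedBall_zero_iff])).trans (le_max_left _ _)
      · push Not at hs
        have h1 := hb s ((le_max_left _ _).trans hs.le)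
        rw [pow_zero, mul_one] at h1
        exact h1.trans (le_max_right _ _)
    refine ⟨C (G 0), (natDegree_C _).le, fun s => ?_⟩
    rw [eval_C]
    exact hG.apply_eq_apply_of_bounded hbdd s 0
  | succ M ih =>
    rintro G hG ⟨K₀, R₀, hb⟩
    have hG₁ : Differentiable ℂ (dslope G 0) :=
      differentiableOn_univ.mp
        ((Complex.differentiableOn_dslope Filter.univ_mem).mpr hG.differentiableOn)
    have hgrow : ∀ s : ℂ, max R₀ 1 ≤ ‖s‖ → ‖dslope G 0 s‖ ≤ (|K₀| + ‖G 0‖) * ‖s‖ ^ M := by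
      intro s hs
      have hs1 : 1 ≤ ‖s‖ := (le_max_right _ _).trans hs
      have hs0 : s ≠ 0 := by
        intro h; rw [h, norm_zero] at hs1; linarith
      have hsR : R₀ ≤ ‖s‖ := (le_max_left _ _).trans hs
      rw [dslope_of_ne _ hs0, slope_def_field, sub_zero, norm_div]
      rw [div_le_iff₀ (by linarith)]
      have h1 : ‖G s - G 0‖ ≤ K₀ * ‖s‖ ^ (M + 1) + ‖G 0‖ :=
        (norm_sub_le _ _).trans (add_le_add (hb s hsR) le_rfl)
      have h2 : K₀ * ‖s‖ ^ (M + 1) ≤ |K₀| * ‖s‖ ^ (M + 1) :=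
        mul_le_mul_of_nonneg_right (le_abs_self K₀) (by positivity)
      have h3 : ‖G 0‖ ≤ ‖G 0‖ * ‖s‖ ^ (M + 1) := by
        have : (1 : ℝ) ≤ ‖s‖ ^ (M + 1) := one_le_pow₀ hs1
        nlinarith [norm_nonneg (G 0)]
      calc ‖G s - G 0‖ ≤ K₀ * ‖s‖ ^ (M + 1) + ‖G 0‖ := h1
        _ ≤ |K₀| * ‖s‖ ^ (M + 1) + ‖G 0‖ * ‖s‖ ^ (M + 1) := add_le_add h2 h3
        _ = (|K₀| + ‖G 0‖) * ‖s‖ ^ M * ‖s‖ := by ring
    obtain ⟨q₁, hq₁, hq₁e⟩ := ih (dslope G 0) hG₁ ⟨|K₀| + ‖G 0‖, max R₀ 1, hgrow⟩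
    refine ⟨C (G 0) + X * q₁, ?_, fun s => ?_⟩
    · refine (natDegree_add_le _ _).trans (max_le ?_ ?_)
      · rw [natDegree_C]; exact Nat.zero_le _
      · refine (natDegree_mul_le).trans ?_
        rw [natDegree_X]
        omega
    · have h := sub_smul_dslope G 0 s
      rw [sub_zero, smul_eq_mul, hq₁e s] at h
      rw [eval_add, eval_C, eval_mul, eval_X]
      linear_combination -h

/-- A function holomorphic off a finite set, of polynomial growth, agrees off that set with a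
polynomial of bounded degree. -/
theorem exists_polynomial_of_differentiableOn_compl_finset (F : Finset ℂ) (g : ℂ → ℂ) (M : ℕ)
    (C : ℝ) (hg : DifferentiableOn ℂ g (↑F : Set ℂ)ᶜ)
    (hb : ∀ s ∉ F, ‖g s‖ ≤ C * (1 + ‖s‖) ^ M) :
    ∃ q : ℂ[X], q.natDegree ≤ M ∧ ∀ s ∉ F, g s = q.eval s := by
  have hb' : ∀ s ∉ F, ‖g s‖ ≤ |C| * (1 + ‖s‖) ^ M := fun s hs =>
    (hb s hs).trans (mul_le_mul_of_nonneg_right (le_abs_self C) (by positivity))
  obtain ⟨G, hG, hGe⟩ := exists_entire_of_differentiableOn_compl_finset F g hg (by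
    intro R
    refine ⟨|C| * (1 + |R|) ^ M, fun s hs hsR => (hb' s hs).trans ?_⟩
    have : 1 + ‖s‖ ≤ 1 + |R| := by linarith [le_abs_self R]
    exact mul_le_mul_of_nonneg_left (pow_le_pow_left₀ (by positivity) this M) (abs_nonneg C))
  obtain ⟨R₁, hR₁⟩ := isBounded_iff_forall_norm_le.mp (Finset.finite_toSet F).isBounded
  obtain ⟨q, hq, hqe⟩ := exists_polynomial_of_growth M G hG
    ⟨|C| * 2 ^ M, max (R₁ + 1) 1, fun s hs => by
      have hs1 : 1 ≤ ‖s‖ := (le_max_right _ _).trans hs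
      have hsF : s ∉ F := by
        intro hsF
        have := hR₁ s (Finset.mem_coe.mpr hsF)
        have h2 : R₁ + 1 ≤ ‖s‖ := (le_max_left _ _).trans hs
        linarith
      rw [hGe s hsF]
      refine (hb' s hsF).trans ?_
      have h1 : (1 + ‖s‖) ^ M ≤ (2 * ‖s‖) ^ M :=
        pow_le_pow_left₀ (by positivity) (by linarith) M
      rw [mul_pow] at h1
      calc |C| * (1 + ‖s‖) ^ M ≤ |C| * (2 ^ M * ‖s‖ ^ M) :=
            mul_le_mul_of_nonneg_left h1 (abs_nonneg C)
        _ = |C| * 2 ^ M * ‖s‖ ^ M := by ring⟩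
  exact ⟨q, hq, fun s hs => by rw [← hGe s hs, hqe s]⟩

end Groth.Agent.Lib.Helper7.AnConn
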