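import Groth.Agent.Lib.Helper7.AnConn9
import Groth.Prelude.Def_AnEps

set_option autoImplicit false
set_option maxHeartbeats 800000

/-!
# The functor `U ↦ U(ℂ)` on étale `X`-schemes is faithful, and full towards separated targets
-/

open CategoryTheory AlgebraicGeometry Topology TopologicalSpace An Limits

namespace Groth.Agent.Lib.Helper7.AnConn

open Groth.Agent.Lib.Helper7 Groth.Agent.Lib.Helper7.AnTop Groth.Agent.Lib.Helper7.AnDense

variable (X : Scheme.{0}) [X.Over An.SC] [LocallyOfFiniteType (X ↘ An.SC)] [Fact An.EtaleLH]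

set_option backward.isDefEq.respectTransparency.types false in
theorem eps_faithful : (An.eps X).Faithful := by
  refine ⟨fun {U V} g₁ g₂ h => ?_⟩
  apply MorphismProperty.Over.Hom.ext
  haveI : LocallyOfFiniteType (U.left ↘ An.SC) :=
    inferInstanceAs (LocallyOfFiniteType ((U.left ↘ X) ≫ (X ↘ An.SC)))
  have hfun : ∀ w : Pts U.left, w.1 ≫ g₁.left = w.1 ≫ g₂.left := by
    intro w
    have h1 : ((An.eps X).map g₁).toFun w = ((An.eps X).map g₂).toFun w := by rw [h]
    exact congrArg Subtype.val h1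
  exact eq_of_forall_pts_comp_eq (X := U.left) V.hom g₁.left g₂.left
    ((Over.w g₁.hom).trans (Over.w g₂.hom).symm) hfun

set_option backward.isDefEq.respectTransparency.types false in
theorem eps_full (U V : X.Etale) [IsSeparated (V.left ↘ X)]
    (φ : (An.eps X).obj U ⟶ (An.eps X).obj V) : ∃ g : U ⟶ V, (An.eps X).map g = φ := by
  haveI : LocallyOfFiniteType (U.left ↘ An.SC) :=
    inferInstanceAs (LocallyOfFiniteType ((U.left ↘ X) ≫ (X ↘ An.SC)))
  haveI : LocallyOfFiniteType (V.left ↘ An.SC) :=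
    inferInstanceAs (LocallyOfFiniteType ((V.left ↘ X) ≫ (X ↘ An.SC)))
  set u : U.left ⟶ X := U.left ↘ X with hu
  set v : V.left ⟶ X := V.left ↘ X with hv
  haveI : LocallyOfFiniteType (pullback u v ↘ An.SC) :=
    inferInstanceAs (LocallyOfFiniteType (pullback.fst u v ≫ (U.left ↘ An.SC)))
  set φf : Pts U.left → Pts V.left := φ.toFun with hφf
  have hφc : Continuous φf := φ.continuous
  have hφo : ∀ a, Pts.map v (φf a) = Pts.map u a := φ.over
  have hc : ∀ a : Pts U.left, a.1 ≫ u = (φf a).1 ≫ v := fun a =>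
    (congrArg Subtype.val (hφo a)).symm
  set s : Pts U.left → Pts (pullback u v) := fun a => ⟨pullback.lift a.1 (φf a).1 (hc a), by
      show pullback.lift a.1 (φf a).1 (hc a) ≫ pullback.fst u v ≫ (U.left ↘ An.SC) = 𝟙 An.SC
      rw [pullback.lift_fst_assoc, a.2]⟩ with hs
  have hs1 : ∀ a, Pts.map (pullback.fst u v) (s a) = a := fun a =>
    Subtype.ext (pullback.lift_fst _ _ _)
  have hs2 : ∀ a, Pts.map (pullback.snd u v) (s a) = φf a := fun a =>
    Subtype.ext (pullback.lift_snd _ _ _)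
  have hsc : Continuous s := by
    rw [(isInducing_pullback u v).continuous_iff]
    have : ((fun z : Pts (pullback u v) =>
        (Pts.map (pullback.fst u v) z, Pts.map (pullback.snd u v) z)) ∘ s) =
        fun a => (a, φf a) := by
      funext a
      exact Prod.ext (hs1 a) (hs2 a)
    rw [this]
    exact continuous_id.prodMk hφc
  have hlh : IsLocalHomeomorph (Pts.map (pullback.fst u v)) :=
    (Fact.out : An.EtaleLH) (pullback u v) U.left (pullback.fst u v)
  have hsep : IsSeparatedMap (Pts.map (pullback.fst u v)) :=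
    (AnDense.isSeparated_iff (pullback.fst u v)).mp inferInstance
  have hs_lh : IsLocalHomeomorph s := by
    apply IsLocalHomeomorph.of_comp (g := Pts.map (pullback.fst u v)) _ hlh hsc
    have : Pts.map (pullback.fst u v) ∘ s = id := funext hs1
    rw [this]
    exact (Homeomorph.refl _).isLocalHomeomorph
  have hΓo : IsOpen (Set.range s) := hs_lh.isOpenMap.isOpen_range
  have hΓeq : Set.range s = {w | s (Pts.map (pullback.fst u v) w) = w} := by
    ext w
    constructor
    · rintro ⟨a, rfl⟩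
      show s (Pts.map _ (s a)) = s a
      rw [hs1]
    · intro hw
      exact ⟨_, hw⟩
  have hΓc : IsClosed (Set.range s) := by
    rw [hΓeq]
    exact hsep.isClosed_eqLocus (hsc.comp (Pts.continuous_map _)) continuous_id (by
      funext w
      show Pts.map _ (s (Pts.map _ w)) = Pts.map _ w
      rw [hs1])
  obtain ⟨W₀, hW₀, hW₀Γ⟩ := exists_isClopen_preimage_eq (X := pullback u v) (Set.range s)
    ⟨hΓc, hΓo⟩
  set W₀' : (pullback u v).Opens := ⟨W₀, hW₀.2⟩ with hW₀'
  letI : (W₀' : Scheme.{0}).Over An.SC := ⟨W₀'.ι ≫ (pullback u v ↘ An.SC)⟩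
  haveI : W₀'.ι.IsOver An.SC := ⟨rfl⟩
  haveI : LocallyOfFiniteType ((W₀' : Scheme.{0}) ↘ An.SC) :=
    inferInstanceAs (LocallyOfFiniteType (W₀'.ι ≫ (pullback u v ↘ An.SC)))
  set q : (W₀' : Scheme.{0}) ⟶ U.left := W₀'.ι ≫ pullback.fst u v with hq
  haveI : q.IsOver An.SC := ⟨by
    show (W₀'.ι ≫ pullback.fst u v) ≫ (U.left ↘ An.SC) = W₀'.ι ≫ (pullback u v ↘ An.SC)
    rw [Category.assoc]
    rfl⟩
  have hmemΓ : ∀ w : Pts (W₀' : Scheme.{0}), ∃ a, Pts.map W₀'.ι w = s a := by
    intro w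
    have h1 : Pts.map W₀'.ι w ∈ Pts.pt ⁻¹' W₀ := by
      show (Pts.map W₀'.ι w).pt ∈ W₀
      rw [Pts.pt_map]; exact (w.pt).2
    rw [hW₀Γ] at h1
    obtain ⟨a, ha⟩ := h1
    exact ⟨a, ha.symm⟩
  have hlift : ∀ a : Pts U.left, ∃ w : Pts (W₀' : Scheme.{0}), Pts.map W₀'.ι w = s a := by
    intro a
    apply exists_map_eq_of_isOpenImmersion
    rw [Scheme.Opens.range_ι]
    have h1 : s a ∈ Pts.pt ⁻¹' W₀ := by rw [hW₀Γ]; exact ⟨a, rfl⟩
    exact h1
  have hqmap : ∀ w, Pts.map q w = Pts.map (pullback.fst u v) (Pts.map W₀'.ι w) := fun w =>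
    Subtype.ext (Category.assoc _ _ _).symm
  have hbij : Function.Bijective (Pts.map q) := by
    constructor
    · intro w₁ w₂ h12
      obtain ⟨a₁, ha₁⟩ := hmemΓ w₁
      obtain ⟨a₂, ha₂⟩ := hmemΓ w₂
      rw [hqmap, hqmap, ha₁, ha₂, hs1, hs1] at h12
      apply map_injective_of_mono W₀'.ι
      rw [ha₁, ha₂, h12]
    · intro a
      obtain ⟨w, hw⟩ := hlift a
      exact ⟨w, by rw [hqmap, hw, hs1]⟩
  haveI : IsIso q := isIso_of_etale_of_bijective q hbij
  set g₀ : U.left ⟶ V.left := inv q ≫ W₀'.ι ≫ pullback.snd u v with hg₀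
  have hg₀v : g₀ ≫ v = u := by
    rw [hg₀, Category.assoc, Category.assoc, ← pullback.condition, ← Category.assoc W₀'.ι,
      ← hq, IsIso.inv_hom_id_assoc]
  refine ⟨MorphismProperty.Over.homMk g₀ hg₀v trivial, ?_⟩
  apply Cl.hom_ext
  funext a
  obtain ⟨w, hw⟩ := hlift a
  apply Subtype.ext
  show a.1 ≫ g₀ = (φf a).1
  have hw' : w.1 ≫ W₀'.ι = (s a).1 := congrArg Subtype.val hw
  have h1 : a.1 = w.1 ≫ q := by
    have h2 : (s a).1 ≫ pullback.fst u v = a.1 := congrArg Subtype.val (hs1 a)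
    rw [hq, ← Category.assoc, hw', h2]
  have h3 : (s a).1 ≫ pullback.snd u v = (φf a).1 := congrArg Subtype.val (hs2 a)
  rw [hg₀, h1, Category.assoc, IsIso.hom_inv_id_assoc, ← Category.assoc, hw', h3]

end Groth.Agent.Lib.Helper7.AnConn
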