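import Groth.Agent.Lib.Helper7.AnLH1
import Mathlib.FieldTheory.Separable
import Mathlib.FieldTheory.IsAlgClosed.Basic
import Mathlib.Analysis.Calculus.Deriv.Slope

set_option autoImplicit false
set_option maxHeartbeats 400000

/-!
# Local root functions of a family of monic polynomials, and the polynomial of the roots lying
in an open-closed part of the root locus
-/

open Filter Topology Polynomial

namespace Groth.Agent.Lib.Helper7.AnConn

open Groth.Agent.Lib.Helper7.AnLH

section family

variable {Z : Type*} [TopologicalSpace Z] (p : Z → ℂ[X]) (m : ℕ)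

/-- A continuous local root function through a simple root. -/
theorem exists_local_root (hmonic : ∀ z, (p z).Monic) (hdeg : ∀ z, (p z).natDegree = m)
    (hc : ∀ k, Continuous fun z => (p z).coeff k) (z₀ : Z) (r : ℂ) (h0 : (p z₀).eval r = 0)
    (hd : (p z₀).derivative.eval r ≠ 0) :
    ∃ ρ : Z → ℂ, ρ z₀ = r ∧ ContinuousAt ρ z₀ ∧ ∀ᶠ z in 𝓝 z₀, (p z).eval (ρ z) = 0 := by
  classical
  obtain ⟨N, hN, hz₀N, δ, hδ, huniq⟩ :=
    exists_nhds_unique_root p m (fun z => (hdeg z).le) hc z₀ r hd
  set ρ : Z → ℂ := fun z =>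
    if h : ∃ t ∈ Metric.ball r δ, (p z).eval t = 0 then Classical.choose h else r with hρ
  have hspec : ∀ z, (∃ t ∈ Metric.ball r δ, (p z).eval t = 0) →
      ρ z ∈ Metric.ball r δ ∧ (p z).eval (ρ z) = 0 := by
    intro z h
    simp only [hρ, dif_pos h]
    exact Classical.choose_spec h
  have hex₀ : ∃ t ∈ Metric.ball r δ, (p z₀).eval t = 0 := ⟨r, Metric.mem_ball_self hδ, h0⟩
  have hρ₀ : ρ z₀ = r :=
    huniq z₀ hz₀N _ (hspec z₀ hex₀).1 _ (Metric.mem_ball_self hδ) (hspec z₀ hex₀).2 h0
  refine ⟨ρ, hρ₀, ?_, ?_⟩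
  · rw [ContinuousAt, hρ₀, Metric.tendsto_nhds]
    intro ε hε
    have hε' : 0 < min ε δ := lt_min hε hδ
    filter_upwards [eventually_exists_root p m hmonic hdeg hc z₀ r h0 (min ε δ) hε',
      hN.mem_nhds hz₀N] with z hz hzN
    obtain ⟨t', ht', ht'0⟩ := hz
    have ht'δ : t' ∈ Metric.ball r δ := Metric.ball_subset_ball (min_le_right _ _) ht'
    have hex : ∃ t ∈ Metric.ball r δ, (p z).eval t = 0 := ⟨t', ht'δ, ht'0⟩
    have := huniq z hzN _ (hspec z hex).1 _ ht'δ (hspec z hex).2 ht'0
    rw [this]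
    exact lt_of_lt_of_le (Metric.mem_ball.mp ht') (min_le_left _ _)
  · filter_upwards [eventually_exists_root p m hmonic hdeg hc z₀ r h0 δ hδ] with z hz
    exact (hspec z hz).2

end family

/-- A continuous local root function through a simple root is complex differentiable when the
coefficients are. -/
theorem differentiableAt_local_root (p : ℂ → ℂ[X]) (m : ℕ) (hdeg : ∀ z, (p z).natDegree ≤ m)
    (hc : ∀ k, Continuous fun z => (p z).coeff k) (z₀ : ℂ)
    (hdiff : ∀ k, DifferentiableAt ℂ (fun z => (p z).coeff k) z₀)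
    (ρ : ℂ → ℂ) (hρc : ContinuousAt ρ z₀) (hρ : ∀ᶠ z in 𝓝 z₀, (p z).eval (ρ z) = 0)
    (hd : (p z₀).derivative.eval (ρ z₀) ≠ 0) : DifferentiableAt ℂ ρ z₀ := by
  set r := ρ z₀ with hr
  set φ : ℂ → ℂ := fun z => (p z).eval r with hφ
  have hφe : φ = fun z => ∑ k ∈ Finset.range (m + 1), (p z).coeff k * r ^ k := by
    funext z
    exact eval_eq_sum_range' (Nat.lt_succ_of_le (hdeg z)) r
  have hφd : DifferentiableAt ℂ φ z₀ := by
    rw [hφe]
    exact DifferentiableAt.fun_sum fun k _ => (hdiff k).mul_const _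
  have hφ0 : φ z₀ = 0 := hρ.self_of_nhds
  set G : ℂ → ℂ := fun z => dd m (p z) (ρ z) r with hG
  have hGc : ContinuousAt G z₀ := by
    have h1 : ContinuousAt (fun z : ℂ => (z, ρ z, r)) z₀ :=
      continuousAt_id.prodMk (hρc.prodMk continuousAt_const)
    exact ContinuousAt.comp (g := fun w : ℂ × ℂ × ℂ => dd m (p w.1) w.2.1 w.2.2)
      (f := fun z : ℂ => (z, ρ z, r)) ((continuous_dd_family p m hc).continuousAt) h1
  have hG0 : G z₀ ≠ 0 := by
    show dd m (p z₀) (ρ z₀) r ≠ 0
    rw [← hr, dd_self m _ (hdeg z₀)]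
    exact hd
  have hrel : ∀ᶠ z in 𝓝 z₀, ρ z - r = -φ z / G z := by
    filter_upwards [hρ, hGc.eventually_ne hG0] with z hz hGz
    have h3 := eval_sub_eval m (p z) (hdeg z) (ρ z) r
    rw [hz, zero_sub] at h3
    rw [eq_div_iff hGz]
    show (ρ z - r) * dd m (p z) (ρ z) r = -(p z).eval r
    rw [h3]; ring
  have hslope : Tendsto (slope ρ z₀) (𝓝[≠] z₀) (𝓝 (-(deriv φ z₀) / G z₀)) := by
    have h1 : Tendsto (slope φ z₀) (𝓝[≠] z₀) (𝓝 (deriv φ z₀)) :=
      hφd.hasDerivAt.tendsto_slope
    have h2 : Tendsto G (𝓝[≠] z₀) (𝓝 (G z₀)) := hGc.tendsto.mono_left nhdsWithin_le_nhds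
    have h3 := (h1.neg).div h2 hG0
    refine h3.congr' ?_
    filter_upwards [eventually_nhdsWithin_of_eventually_nhds hrel] with z hz
    show -slope φ z₀ z / G z = slope ρ z₀ z
    rw [slope_def_field, slope_def_field, ← hr, hz, hφ0, sub_zero]
    ring
  exact (hasDerivAt_iff_tendsto_slope.mpr hslope).differentiableAt

section coeff

/-- Coefficients of `∏ (X - C (f r z))` depend continuously on `z`. -/
theorem continuousAt_coeff_prod {Z : Type*} [TopologicalSpace Z] (S : Finset ℂ) (f : ℂ → Z → ℂ)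
    (z₀ : Z) (hf : ∀ r ∈ S, ContinuousAt (f r) z₀) :
    ∀ k : ℕ, ContinuousAt (fun z => (∏ r ∈ S, (X - C (f r z))).coeff k) z₀ := by
  classical
  induction S using Finset.induction_on with
  | empty =>
    intro k
    simp only [Finset.prod_empty]
    exact continuousAt_const
  | insert a S ha ih =>
    intro k
    have ih' := ih (fun r hr => hf r (Finset.mem_insert_of_mem hr))
    have hfa := hf a (Finset.mem_insert_self a S)
    simp only [Finset.prod_insert ha, sub_mul, coeff_sub, coeff_C_mul]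
    cases k with
    | zero =>
      simp only [coeff_X_mul_zero, zero_sub]
      exact (hfa.mul (ih' 0)).neg
    | succ k =>
      simp only [coeff_X_mul]
      exact (ih' k).sub (hfa.mul (ih' (k + 1)))

/-- Coefficients of `∏ (X - C (f r z))` are differentiable in `z`. -/
theorem differentiableAt_coeff_prod (S : Finset ℂ) (f : ℂ → ℂ → ℂ)
    (z₀ : ℂ) (hf : ∀ r ∈ S, DifferentiableAt ℂ (f r) z₀) :
    ∀ k : ℕ, DifferentiableAt ℂ (fun z => (∏ r ∈ S, (X - C (f r z))).coeff k) z₀ := by
  classical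
  induction S using Finset.induction_on with
  | empty =>
    intro k
    simp only [Finset.prod_empty]
    exact differentiableAt_const _
  | insert a S ha ih =>
    intro k
    have ih' := ih (fun r hr => hf r (Finset.mem_insert_of_mem hr))
    have hfa := hf a (Finset.mem_insert_self a S)
    simp only [Finset.prod_insert ha, sub_mul, coeff_sub, coeff_C_mul]
    cases k with
    | zero =>
      simp only [coeff_X_mul_zero, zero_sub]
      exact (hfa.mul (ih' 0)).neg
    | succ k =>
      simp only [coeff_X_mul]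
      exact (ih' k).sub (hfa.mul (ih' (k + 1)))

end coeff

end Groth.Agent.Lib.Helper7.AnConn
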