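import Groth.Agent.Lib.Helper7.AnConn2
import Mathlib.Topology.Algebra.Polynomial

set_option autoImplicit false
set_option maxHeartbeats 400000

/-!
# The polynomial of the roots lying in one part of the root locus
-/

open Filter Topology Polynomial

namespace Groth.Agent.Lib.Helper7.AnConn

open Groth.Agent.Lib.Helper7.AnLH

section roots

variable {Z : Type*} [TopologicalSpace Z] (p : Z → ℂ[X]) (m : ℕ)

theorem derivative_eval_ne_zero_of_separable {q : ℂ[X]} (hsep : q.Separable) {r : ℂ}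
    (hr : q.eval r = 0) : q.derivative.eval r ≠ 0 := by
  have := hsep.eval₂_derivative_ne_zero (RingHom.id ℂ) (x := r) (by rwa [eval₂_id])
  rwa [eval₂_id] at this

/-- Near a parameter where the polynomial is separable, all roots are given by continuous local
root functions. -/
theorem exists_local_roots (hmonic : ∀ z, (p z).Monic) (hdeg : ∀ z, (p z).natDegree = m)
    (hc : ∀ k, Continuous fun z => (p z).coeff k) (z₀ : Z) (hsep : (p z₀).Separable) :
    ∃ ρ : ℂ → Z → ℂ,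
      (∀ r ∈ (p z₀).roots.toFinset, ρ r z₀ = r ∧ ContinuousAt (ρ r) z₀ ∧
        ∀ᶠ z in 𝓝 z₀, (p z).eval (ρ r z) = 0) ∧
      ∀ᶠ z in 𝓝 z₀, Set.InjOn (fun r => ρ r z) ((p z₀).roots.toFinset : Set ℂ) ∧
        (p z).roots.toFinset = (p z₀).roots.toFinset.image (fun r => ρ r z) := by
  classical
  have hex : ∀ r : ℂ, r ∈ (p z₀).roots.toFinset → ∃ ρ : Z → ℂ, ρ z₀ = r ∧
      ContinuousAt ρ z₀ ∧ ∀ᶠ z in 𝓝 z₀, (p z).eval (ρ z) = 0 := by
    intro r hr
    have hr0 : (p z₀).eval r = 0 :=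
      (mem_roots (hmonic z₀).ne_zero).mp (Multiset.mem_toFinset.mp hr)
    exact exists_local_root p m hmonic hdeg hc z₀ r hr0
      (derivative_eval_ne_zero_of_separable hsep hr0)
  set ρ : ℂ → Z → ℂ := fun r =>
    if hr : r ∈ (p z₀).roots.toFinset then Classical.choose (hex r hr) else fun _ => r with hρ
  have hρspec : ∀ r (hr : r ∈ (p z₀).roots.toFinset), ρ r z₀ = r ∧ ContinuousAt (ρ r) z₀ ∧
      ∀ᶠ z in 𝓝 z₀, (p z).eval (ρ r z) = 0 := by
    intro r hr
    simp only [hρ, dif_pos hr]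
    exact Classical.choose_spec (hex r hr)
  refine ⟨ρ, hρspec, ?_⟩
  have hroots : ∀ᶠ z in 𝓝 z₀, ∀ r ∈ (p z₀).roots.toFinset, (p z).eval (ρ r z) = 0 :=
    (Filter.eventually_all_finset _).mpr fun r hr => (hρspec r hr).2.2
  have hdist : ∀ᶠ z in 𝓝 z₀, ∀ r₁ ∈ (p z₀).roots.toFinset, ∀ r₂ ∈ (p z₀).roots.toFinset,
      r₁ ≠ r₂ → ρ r₁ z ≠ ρ r₂ z := by
    refine (Filter.eventually_all_finset _).mpr fun r₁ hr₁ =>
      (Filter.eventually_all_finset _).mpr fun r₂ hr₂ => ?_
    by_cases h12 : r₁ = r₂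
    · exact Filter.Eventually.of_forall fun z h => absurd h12 h
    · have h1 : ContinuousAt (fun z => ρ r₁ z - ρ r₂ z) z₀ :=
        (hρspec r₁ hr₁).2.1.sub (hρspec r₂ hr₂).2.1
      have h2 : ρ r₁ z₀ - ρ r₂ z₀ ≠ 0 := by
        rw [(hρspec r₁ hr₁).1, (hρspec r₂ hr₂).1]; exact sub_ne_zero.mpr h12
      filter_upwards [h1.eventually_ne h2] with z hz _
      exact sub_ne_zero.mp hz
  have hcard₀ : (p z₀).roots.toFinset.card = m := by
    rw [Multiset.toFinset_card_of_nodup (nodup_roots hsep), ← hdeg z₀]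
    exact (IsAlgClosed.splits (p z₀)).natDegree_eq_card_roots.symm
  filter_upwards [hroots, hdist] with z hz1 hz2
  have hinj : Set.InjOn (fun r => ρ r z) ((p z₀).roots.toFinset : Set ℂ) := by
    intro r₁ hr₁ r₂ hr₂ h
    by_contra hne
    exact hz2 r₁ hr₁ r₂ hr₂ hne h
  refine ⟨hinj, ?_⟩
  symm
  apply Finset.eq_of_subset_of_card_le
  · intro t ht
    obtain ⟨r, hr, rfl⟩ := Finset.mem_image.mp ht
    rw [Multiset.mem_toFinset, mem_roots (hmonic z).ne_zero]
    exact hz1 r hr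
  · rw [Finset.card_image_of_injOn hinj, hcard₀]
    calc (p z).roots.toFinset.card ≤ Multiset.card (p z).roots := Multiset.toFinset_card_le _
      _ ≤ (p z).natDegree := card_roots' _
      _ = m := hdeg z

open Classical in
/-- The monic polynomial whose roots are the roots `t` of `p z` with `(z, t) ∈ O`. -/
noncomputable def partPoly (O : Set (Z × ℂ)) (z : Z) : ℂ[X] :=
  ∏ t ∈ (p z).roots.toFinset.filter (fun t => (z, t) ∈ O), (X - C t)

open Classical in
theorem partPoly_def (O : Set (Z × ℂ)) (z : Z) : partPoly p O z =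
    ∏ t ∈ (p z).roots.toFinset.filter (fun t => (z, t) ∈ O), (X - C t) := rfl

open Classical in
/-- Local description of `partPoly` through local root functions. -/
theorem partPoly_eventually_eq (hmonic : ∀ z, (p z).Monic) (hdeg : ∀ z, (p z).natDegree = m)
    (hc : ∀ k, Continuous fun z => (p z).coeff k) (z₀ : Z) (hsep : (p z₀).Separable)
    (OA OB : Set (Z × ℂ)) (hOA : IsOpen OA) (hOB : IsOpen OB)
    (hdich : ∀ᶠ z in 𝓝 z₀, ∀ t, (p z).eval t = 0 →
      ((z, t) ∈ OA ∨ (z, t) ∈ OB) ∧ ¬ ((z, t) ∈ OA ∧ (z, t) ∈ OB)) :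
    ∃ ρ : ℂ → Z → ℂ,
      (∀ r ∈ (p z₀).roots.toFinset, ρ r z₀ = r ∧ ContinuousAt (ρ r) z₀ ∧
        ∀ᶠ z in 𝓝 z₀, (p z).eval (ρ r z) = 0) ∧
      ∀ᶠ z in 𝓝 z₀, partPoly p OA z =
        ∏ r ∈ (p z₀).roots.toFinset.filter (fun r => (z₀, r) ∈ OA), (X - C (ρ r z)) := by
  obtain ⟨ρ, hρ, hall⟩ := exists_local_roots p m hmonic hdeg hc z₀ hsep
  refine ⟨ρ, hρ, ?_⟩
  have hmem : ∀ᶠ z in 𝓝 z₀, ∀ r ∈ (p z₀).roots.toFinset,
      ((z, ρ r z) ∈ OA ↔ (z₀, r) ∈ OA) := by
    refine (Filter.eventually_all_finset _).mpr fun r hr => ?_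
    obtain ⟨hρ₀, hρc, hρroot⟩ := hρ r hr
    have hcont : ContinuousAt (fun z => (z, ρ r z)) z₀ := continuousAt_id.prodMk hρc
    have hval : (fun z => (z, ρ r z)) z₀ = (z₀, r) := by simp only [hρ₀]
    have hr0 : (p z₀).eval r = 0 :=
      (mem_roots (hmonic z₀).ne_zero).mp (Multiset.mem_toFinset.mp hr)
    by_cases hA : (z₀, r) ∈ OA
    · have h1 : OA ∈ 𝓝 ((fun z => (z, ρ r z)) z₀) := by rw [hval]; exact hOA.mem_nhds hA
      filter_upwards [hcont.preimage_mem_nhds h1] with z hz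
      exact ⟨fun _ => hA, fun _ => hz⟩
    · have hB : (z₀, r) ∈ OB := ((hdich.self_of_nhds r hr0).1).resolve_left hA
      have h1 : OB ∈ 𝓝 ((fun z => (z, ρ r z)) z₀) := by rw [hval]; exact hOB.mem_nhds hB
      filter_upwards [hcont.preimage_mem_nhds h1, hdich, hρroot] with z hz hd hroot
      have h2 := (hd (ρ r z) hroot).2
      exact ⟨fun h => absurd ⟨h, hz⟩ h2, fun h => absurd h hA⟩
  filter_upwards [hall, hmem] with z ⟨hinj, himg⟩ hz
  rw [partPoly_def, himg, Finset.filter_image]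
  have hfilt : (p z₀).roots.toFinset.filter (fun a => (z, ρ a z) ∈ OA) =
      (p z₀).roots.toFinset.filter (fun r => (z₀, r) ∈ OA) :=
    Finset.filter_congr hz
  rw [hfilt, Finset.prod_image]
  intro r₁ hr₁ r₂ hr₂ h
  exact hinj (Finset.mem_coe.mpr (Finset.mem_filter.mp hr₁).1)
    (Finset.mem_coe.mpr (Finset.mem_filter.mp hr₂).1) h

/-- Coefficients of `partPoly` are continuous where the polynomial is separable. -/
theorem continuousAt_coeff_partPoly (hmonic : ∀ z, (p z).Monic)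
    (hdeg : ∀ z, (p z).natDegree = m)
    (hc : ∀ k, Continuous fun z => (p z).coeff k) (z₀ : Z) (hsep : (p z₀).Separable)
    (OA OB : Set (Z × ℂ)) (hOA : IsOpen OA) (hOB : IsOpen OB)
    (hdich : ∀ᶠ z in 𝓝 z₀, ∀ t, (p z).eval t = 0 →
      ((z, t) ∈ OA ∨ (z, t) ∈ OB) ∧ ¬ ((z, t) ∈ OA ∧ (z, t) ∈ OB)) (k : ℕ) :
    ContinuousAt (fun z => (partPoly p OA z).coeff k) z₀ := by
  classical
  obtain ⟨ρ, hρ, hev⟩ := partPoly_eventually_eq p m hmonic hdeg hc z₀ hsep OA OB hOA hOB hdich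
  have h1 := continuousAt_coeff_prod
    ((p z₀).roots.toFinset.filter (fun r => (z₀, r) ∈ OA)) ρ z₀
    (fun r hr => (hρ r (Finset.mem_filter.mp hr).1).2.1) k
  refine h1.congr ?_
  filter_upwards [hev] with z hz
  rw [hz]

/-- The coefficients of `partPoly` are bounded in terms of a bound for the roots. -/
theorem norm_coeff_partPoly_le (O : Set (Z × ℂ)) (z : Z) (hmonic : (p z).Monic)
    (hdeg : (p z).natDegree = m) (B : ℝ) (hB : ∀ t, (p z).eval t = 0 → ‖t‖ ≤ B) (k : ℕ) :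
    ‖(partPoly p O z).coeff k‖ ≤ max B 1 ^ m * (m.choose (m / 2)) := by
  classical
  have h1 : (partPoly p O z).Monic := monic_prod_X_sub_C _ _
  have h3 : (partPoly p O z).natDegree ≤ m := by
    rw [partPoly_def, natDegree_finsetProd_X_sub_C_eq_card]
    calc _ ≤ (p z).roots.toFinset.card := Finset.card_filter_le _ _
      _ ≤ Multiset.card (p z).roots := Multiset.toFinset_card_le _
      _ ≤ (p z).natDegree := card_roots' _
      _ = m := hdeg
  have h := coeff_bdd_of_roots_le (RingHom.id ℂ) h1 (IsAlgClosed.splits _) h3 (B := B) (by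
    intro t ht
    rw [Polynomial.map_id, partPoly_def, roots_prod_X_sub_C] at ht
    have ht' : t ∈ (p z).roots.toFinset.filter (fun t => (z, t) ∈ O) := ht
    have ht'' := Multiset.mem_toFinset.mp (Finset.mem_filter.mp ht').1
    exact hB t ((mem_roots hmonic.ne_zero).mp ht'')) k
  rwa [Polynomial.map_id] at h

/-- The two parts multiply to the whole polynomial. -/
theorem partPoly_mul_partPoly (OA OB : Set (Z × ℂ)) (z : Z) (hmonic : (p z).Monic)
    (hsep : (p z).Separable)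
    (hdich : ∀ t, (p z).eval t = 0 →
      ((z, t) ∈ OA ∨ (z, t) ∈ OB) ∧ ¬ ((z, t) ∈ OA ∧ (z, t) ∈ OB)) :
    partPoly p OA z * partPoly p OB z = p z := by
  classical
  have hB : (p z).roots.toFinset.filter (fun t => (z, t) ∈ OB) =
      (p z).roots.toFinset.filter (fun t => ¬ (z, t) ∈ OA) := by
    apply Finset.filter_congr
    intro t ht
    have h0 := (mem_roots hmonic.ne_zero).mp (Multiset.mem_toFinset.mp ht)
    obtain ⟨h1, h2⟩ := hdich t h0
    exact ⟨fun hb ha => h2 ⟨ha, hb⟩, fun hna => h1.resolve_left hna⟩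
  rw [partPoly_def, partPoly_def, hB, Finset.prod_filter_mul_prod_filter_not]
  have h1 := (IsAlgClosed.splits (p z)).eq_prod_roots_of_monic hmonic
  conv_rhs => rw [h1]
  rw [Finset.prod_eq_multiset_prod, Multiset.toFinset_val,
    Multiset.dedup_eq_self.mpr (nodup_roots hsep)]

theorem natDegree_partPoly (O : Set (Z × ℂ)) (z : Z) :
    (partPoly p O z).natDegree =
      by classical exact ((p z).roots.toFinset.filter (fun t => (z, t) ∈ O)).card := by
  classical
  rw [partPoly_def, natDegree_finsetProd_X_sub_C_eq_card]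

end roots

open Classical in
/-- Coefficients of `partPoly` are complex differentiable in one parameter. -/
theorem differentiableAt_coeff_partPoly (p : ℂ → ℂ[X]) (m : ℕ) (hmonic : ∀ z, (p z).Monic)
    (hdeg : ∀ z, (p z).natDegree = m)
    (hc : ∀ k, Continuous fun z => (p z).coeff k) (z₀ : ℂ)
    (hdiff : ∀ k, DifferentiableAt ℂ (fun z => (p z).coeff k) z₀) (hsep : (p z₀).Separable)
    (OA OB : Set (ℂ × ℂ)) (hOA : IsOpen OA) (hOB : IsOpen OB)
    (hdich : ∀ᶠ z in 𝓝 z₀, ∀ t, (p z).eval t = 0 →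
      ((z, t) ∈ OA ∨ (z, t) ∈ OB) ∧ ¬ ((z, t) ∈ OA ∧ (z, t) ∈ OB)) (k : ℕ) :
    DifferentiableAt ℂ (fun z => (partPoly p OA z).coeff k) z₀ := by
  obtain ⟨ρ, hρ, hev⟩ := partPoly_eventually_eq p m hmonic hdeg hc z₀ hsep OA OB hOA hOB hdich
  have h1 := differentiableAt_coeff_prod
    ((p z₀).roots.toFinset.filter (fun r => (z₀, r) ∈ OA)) ρ z₀
    (fun r hr => by
      have hr' := (Finset.mem_filter.mp hr).1
      obtain ⟨hρ₀, hρc, hρroot⟩ := hρ r hr'
      have hr0 : (p z₀).eval r = 0 :=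
        (mem_roots (hmonic z₀).ne_zero).mp (Multiset.mem_toFinset.mp hr')
      refine differentiableAt_local_root p m (fun z => (hdeg z).le) hc z₀ hdiff (ρ r) hρc
        hρroot ?_
      rw [hρ₀]
      exact derivative_eval_ne_zero_of_separable hsep hr0) k
  refine h1.congr_of_eventuallyEq ?_
  filter_upwards [hev] with z hz
  rw [hz]

end Groth.Agent.Lib.Helper7.AnConn
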