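import Groth.Agent.Lib.Helper7.AnDense1
import Mathlib.LinearAlgebra.Lagrange
import Mathlib.Algebra.MvPolynomial.Equiv

set_option autoImplicit false
set_option maxHeartbeats 800000

/-!
# Separately polynomial + continuous ⇒ polynomial (on the complement of a hypersurface)
-/

open Filter Topology Polynomial

namespace Groth.Agent.Lib.Helper7.AnConn

open Groth.Agent.Lib.Helper7.AnDense

theorem eval_eval_C {n : ℕ} (H : (MvPolynomial (Fin n) ℂ)[X]) (σ : ℂ) (x' : Fin n → ℂ) :
    MvPolynomial.eval x' (H.eval (MvPolynomial.C σ)) =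
      (H.map (MvPolynomial.eval x')).eval σ := by
  rw [eval_map, ← eval₂_id (p := H), hom_eval₂, RingHom.comp_id, MvPolynomial.eval_C]

theorem eval_cons_eq {n : ℕ} (h : MvPolynomial (Fin (n + 1)) ℂ) (σ : ℂ) (x' : Fin n → ℂ) :
    MvPolynomial.eval (Fin.cons σ x' : Fin (n + 1) → ℂ) h =
      MvPolynomial.eval x' ((MvPolynomial.finSuccEquiv ℂ n h).eval (MvPolynomial.C σ)) := by
  rw [MvPolynomial.eval_eq_eval_mv_eval', eval_eval_C]

theorem eval_aeval_X_zero {n : ℕ} (u : Fin (n + 1) → ℂ) (ℓ : ℂ[X]) :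
    MvPolynomial.eval u (Polynomial.aeval (MvPolynomial.X 0 : MvPolynomial (Fin (n + 1)) ℂ) ℓ) =
      ℓ.eval (u 0) := by
  have h := Polynomial.aeval_algHom_apply (MvPolynomial.aeval u : MvPolynomial (Fin (n + 1)) ℂ →ₐ[ℂ] ℂ)
    (MvPolynomial.X 0) ℓ
  rw [MvPolynomial.aeval_X] at h
  rw [← Polynomial.coe_aeval_eq_eval, h]
  rfl

/-- A function on the complement of a hypersurface in `ℂⁿ` which is continuous and agrees with a
polynomial of bounded degree on every line parallel to a coordinate axis is a polynomial. -/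
theorem exists_mvPolynomial_of_separately_polynomial (M : ℕ) :
    ∀ (n : ℕ) (h : MvPolynomial (Fin n) ℂ), h ≠ 0 → ∀ c : (Fin n → ℂ) → ℂ,
      ContinuousOn c {u | MvPolynomial.eval u h ≠ 0} →
      (∀ (u : Fin n → ℂ) (i : Fin n), MvPolynomial.eval u h ≠ 0 →
        ∃ q : ℂ[X], q.natDegree ≤ M ∧ ∀ s : ℂ,
          MvPolynomial.eval (Function.update u i s) h ≠ 0 →
            c (Function.update u i s) = q.eval s) →
      ∃ Q : MvPolynomial (Fin n) ℂ, ∀ u, MvPolynomial.eval u h ≠ 0 →
        c u = MvPolynomial.eval u Q := by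
  intro n
  induction n with
  | zero =>
    intro h _ c _ _
    by_cases hV : ∃ u, MvPolynomial.eval u h ≠ 0
    · obtain ⟨u₀, _⟩ := hV
      refine ⟨MvPolynomial.C (c u₀), fun u _ => ?_⟩
      rw [MvPolynomial.eval_C, Subsingleton.elim u u₀]
    · push Not at hV
      exact ⟨0, fun u hu => absurd (hV u) hu⟩
  | succ n ih =>
    intro h hh c hcont hline
    classical
    set H := MvPolynomial.finSuccEquiv ℂ n h with hH
    have hH0 : H ≠ 0 := by
      rw [hH, Ne, EmbeddingLike.map_eq_zero_iff]; exact hh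
    -- nodes
    have hfin : {σ : ℂ | H.eval (MvPolynomial.C σ) = 0}.Finite := by
      have h1 : {σ : ℂ | H.eval (MvPolynomial.C σ) = 0} ⊆
          (MvPolynomial.C (σ := Fin n) (R := ℂ)) ⁻¹' (H.roots.toFinset : Set _) := by
        intro σ hσ
        rw [Set.mem_preimage, Finset.mem_coe, Multiset.mem_toFinset, mem_roots hH0]
        exact hσ
      exact (Set.Finite.preimage ((MvPolynomial.C_injective (Fin n) ℂ).injOn)
        (Finset.finite_toSet _)).subset h1
    obtain ⟨t, htsub, htcard⟩ := hfin.infinite_compl.exists_subset_card_eq (M + 1)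
    have hnode : ∀ σ ∈ t, H.eval (MvPolynomial.C σ) ≠ 0 := fun σ hσ => htsub hσ
    -- induction hypothesis on slices
    have hslice : ∀ σ ∈ t, ∃ Qσ : MvPolynomial (Fin n) ℂ, ∀ x' : Fin n → ℂ,
        MvPolynomial.eval x' (H.eval (MvPolynomial.C σ)) ≠ 0 →
          c (Fin.cons σ x') = MvPolynomial.eval x' Qσ := by
      intro σ hσ
      refine ih (H.eval (MvPolynomial.C σ)) (hnode σ hσ) (fun x' => c (Fin.cons σ x')) ?_ ?_
      · have hcons : Continuous fun x' : Fin n → ℂ => (Fin.cons σ x' : Fin (n + 1) → ℂ) :=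
          Continuous.finCons continuous_const continuous_id
        refine hcont.comp hcons.continuousOn ?_
        intro x' hx'
        show MvPolynomial.eval (Fin.cons σ x' : Fin (n + 1) → ℂ) h ≠ 0
        rw [eval_cons_eq]; exact hx'
      · intro x' i hx'
        have hu : MvPolynomial.eval (Fin.cons σ x' : Fin (n + 1) → ℂ) h ≠ 0 := by
          rw [eval_cons_eq]; exact hx'
        obtain ⟨q, hq, hqe⟩ := hline (Fin.cons σ x') i.succ hu
        refine ⟨q, hq, fun s hs => ?_⟩
        have hs' : MvPolynomial.eval (Function.update (Fin.cons σ x' : Fin (n + 1) → ℂ) i.succ s) h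
            ≠ 0 := by
          rw [← Fin.cons_update, eval_cons_eq]; exact hs
        have := hqe s hs'
        rw [← Fin.cons_update] at this
        exact this
    choose! Qf hQf using hslice
    set Q : MvPolynomial (Fin (n + 1)) ℂ := ∑ σ ∈ t, MvPolynomial.rename Fin.succ (Qf σ) *
      Polynomial.aeval (MvPolynomial.X 0 : MvPolynomial (Fin (n + 1)) ℂ) (Lagrange.basis t id σ)
      with hQ
    have hQeval : ∀ (s : ℂ) (x' : Fin n → ℂ), MvPolynomial.eval (Fin.cons s x' : Fin (n + 1) → ℂ) Q =
        ∑ σ ∈ t, MvPolynomial.eval x' (Qf σ) * (Lagrange.basis t id σ).eval s := by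
      intro s x'
      rw [hQ, map_sum]
      refine Finset.sum_congr rfl fun σ _ => ?_
      rw [map_mul, MvPolynomial.eval_rename, eval_aeval_X_zero, Fin.cons_zero]
      congr 2
    -- generic points
    have hgen : ∀ (s : ℂ) (x' : Fin n → ℂ),
        (∀ σ ∈ t, MvPolynomial.eval x' (H.eval (MvPolynomial.C σ)) ≠ 0) →
        MvPolynomial.eval (Fin.cons s x' : Fin (n + 1) → ℂ) h ≠ 0 →
        c (Fin.cons s x') = MvPolynomial.eval (Fin.cons s x' : Fin (n + 1) → ℂ) Q := by
      intro s x' hx' hu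
      obtain ⟨q, hq, hqe⟩ := hline (Fin.cons s x') 0 hu
      simp only [Fin.update_cons_zero] at hqe
      have hqσ : ∀ σ ∈ t, q.eval σ = MvPolynomial.eval x' (Qf σ) := by
        intro σ hσ
        have h1 : MvPolynomial.eval (Fin.cons σ x' : Fin (n + 1) → ℂ) h ≠ 0 := by
          rw [eval_cons_eq]; exact hx' σ hσ
        rw [← hqe σ h1]
        exact hQf σ hσ x' (hx' σ hσ)
      have hdeg : q.degree < t.card := by
        rw [htcard]
        refine lt_of_le_of_lt degree_le_natDegree ?_
        exact_mod_cast Nat.lt_succ_of_le hq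
      have hint := Lagrange.eq_interpolate (s := t) (v := id) (Set.injOn_id _) hdeg
      rw [hqe s hu, hQeval, hint, Lagrange.interpolate_apply, eval_finsetSum]
      refine Finset.sum_congr rfl fun σ hσ => ?_
      rw [eval_mul, eval_C, id, hqσ σ hσ]
    -- density
    set G : MvPolynomial (Fin (n + 1)) ℂ :=
      h * MvPolynomial.rename Fin.succ (∏ σ ∈ t, H.eval (MvPolynomial.C σ)) with hG
    have hG0 : G ≠ 0 := by
      refine mul_ne_zero hh ?_
      rw [Ne, ← (MvPolynomial.rename Fin.succ : MvPolynomial (Fin n) ℂ →ₐ[ℂ] _).map_zero]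
      intro h1
      have h2 := MvPolynomial.rename_injective _ (Fin.succ_injective n) h1
      exact (Finset.prod_ne_zero_iff.mpr hnode) h2
    have hGgen : ∀ u' : Fin (n + 1) → ℂ, MvPolynomial.eval u' G ≠ 0 →
        c u' = MvPolynomial.eval u' Q := by
      intro u' hu'
      rw [hG, map_mul, MvPolynomial.eval_rename, map_prod] at hu'
      have h1 := left_ne_zero_of_mul hu'
      have h2 := Finset.prod_ne_zero_iff.mp (right_ne_zero_of_mul hu')
      have h3 := hgen (u' 0) (Fin.tail u') (fun σ hσ => h2 σ hσ)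
        (by rw [Fin.cons_self_tail]; exact h1)
      rwa [Fin.cons_self_tail] at h3
    refine ⟨Q, fun u hu => ?_⟩
    have hVopen : IsOpen {u : Fin (n + 1) → ℂ | MvPolynomial.eval u h ≠ 0} :=
      isOpen_ne_fun (MvPolynomial.continuous_eval h) continuous_const
    have hc1 : ContinuousAt c u := hcont.continuousAt (hVopen.mem_nhds hu)
    have hc2 : ContinuousAt (fun u => MvPolynomial.eval u Q) u :=
      (MvPolynomial.continuous_eval Q).continuousAt
    refine tendsto_nhds_unique_of_frequently_eq hc1 hc2 ?_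
    rw [Filter.frequently_iff]
    intro N hN
    obtain ⟨u', hu'N, hu'G⟩ := exists_eval_ne_zero_of_mem_nhds G hG0 u N hN
    exact ⟨u', hu'N, hGgen u' hu'G⟩

end Groth.Agent.Lib.Helper7.AnConn
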