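import Groth.Agent.Lib.Helper7.AnConn1
import Groth.Agent.Lib.Helper7.AnConn3
import Groth.Agent.Lib.Helper7.AnConn4

set_option autoImplicit false
set_option maxHeartbeats 800000

/-!
# The coefficients of the part polynomials are polynomial; irreducibility of the root locus
-/

open Filter Topology Polynomial

namespace Groth.Agent.Lib.Helper7.AnConn

open Groth.Agent.Lib.Helper7.AnDense

section line

variable {n : ℕ}

/-- Restriction of a polynomial in `n` variables to a line parallel to the `i`-th axis. -/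
noncomputable def lineHom (u : Fin n → ℂ) (i : Fin n) : MvPolynomial (Fin n) ℂ →ₐ[ℂ] ℂ[X] :=
  MvPolynomial.aeval (fun j => if j = i then (X : ℂ[X]) else C (u j))

theorem eval_lineHom (u : Fin n → ℂ) (i : Fin n) (f : MvPolynomial (Fin n) ℂ) (s : ℂ) :
    (lineHom u i f).eval s = MvPolynomial.eval (Function.update u i s) f := by
  have h : ((Polynomial.evalRingHom s).comp (lineHom u i).toRingHom) =
      MvPolynomial.eval (Function.update u i s) := by
    apply MvPolynomial.ringHom_ext
    · intro a
      simp [lineHom]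
    · intro j
      simp only [lineHom, RingHom.coe_comp, AlgHom.toRingHom_eq_coe, RingHom.coe_coe,
        Function.comp_apply, MvPolynomial.aeval_X, coe_evalRingHom, MvPolynomial.eval_X,
        Function.update_apply]
      split_ifs <;> simp
  exact RingHom.congr_fun h f

theorem natDegree_lineHom_le (u : Fin n → ℂ) (i : Fin n) (f : MvPolynomial (Fin n) ℂ) :
    (lineHom u i f).natDegree ≤ f.totalDegree := by
  rw [lineHom, MvPolynomial.aeval_def, MvPolynomial.eval₂_eq']
  refine Polynomial.natDegree_sum_le_of_forall_le _ _ fun d hd => ?_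
  have hC : (algebraMap ℂ ℂ[X]) (MvPolynomial.coeff d f) = C (MvPolynomial.coeff d f) := rfl
  rw [hC]
  refine (Polynomial.natDegree_C_mul_le _ _).trans ?_
  refine (Polynomial.natDegree_prod_le _ _).trans ?_
  calc ∑ j, ((if j = i then (X : ℂ[X]) else C (u j)) ^ d j).natDegree
      ≤ ∑ j, d j := Finset.sum_le_sum fun j _ => by
        refine (Polynomial.natDegree_pow_le).trans ?_
        split_ifs
        · simp
        · simp
    _ = d.sum fun _ e => e := (Finsupp.sum_fintype d (fun _ e => e) (fun _ => rfl)).symm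
    _ ≤ f.totalDegree := MvPolynomial.le_totalDegree hd

theorem norm_eval_le (q : ℂ[X]) (D : ℕ) (hD : q.natDegree ≤ D) (s : ℂ) :
    ‖q.eval s‖ ≤ (∑ j ∈ Finset.range (D + 1), ‖q.coeff j‖) * (1 + ‖s‖) ^ D := by
  rw [Polynomial.eval_eq_sum_range' (Nat.lt_succ_of_le hD), Finset.sum_mul]
  refine (norm_sum_le _ _).trans (Finset.sum_le_sum fun j hj => ?_)
  rw [norm_mul, norm_pow]
  have hj' : j ≤ D := Nat.lt_succ_iff.mp (Finset.mem_range.mp hj)
  have h1 : ‖s‖ ^ j ≤ (1 + ‖s‖) ^ D :=
    (pow_le_pow_left₀ (norm_nonneg _) (by linarith) j).trans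
      (pow_le_pow_right₀ (by linarith [norm_nonneg s]) hj')
  exact mul_le_mul_of_nonneg_left h1 (norm_nonneg _)

end line

section main

variable {n : ℕ} (P : (MvPolynomial (Fin n) ℂ)[X]) (h : MvPolynomial (Fin n) ℂ)

/-- The family of specialisations of a polynomial over `ℂ[u₁, …, uₙ]`. -/
noncomputable def spec (u : Fin n → ℂ) : ℂ[X] := P.map (MvPolynomial.eval u)

theorem spec_monic (hP : P.Monic) (u : Fin n → ℂ) : (spec P u).Monic := hP.map _

theorem spec_natDegree (hP : P.Monic) (u : Fin n → ℂ) : (spec P u).natDegree = P.natDegree :=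
  hP.natDegree_map _

theorem spec_coeff (u : Fin n → ℂ) (k : ℕ) :
    (spec P u).coeff k = MvPolynomial.eval u (P.coeff k) := Polynomial.coeff_map _ _

theorem continuous_spec_coeff (k : ℕ) : Continuous fun u => (spec P u).coeff k := by
  simp only [spec_coeff]
  exact MvPolynomial.continuous_eval _

/-- The coefficients of the part polynomials of a clopen decomposition of the root locus are
polynomial functions of the parameter. -/
theorem exists_mvPolynomial_coeff_partPoly (hP : P.Monic) (hh : h ≠ 0)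
    (hsep : ∀ u, MvPolynomial.eval u h ≠ 0 → (spec P u).Separable)
    (OA OB : Set ((Fin n → ℂ) × ℂ)) (hOA : IsOpen OA) (hOB : IsOpen OB)
    (hdich : ∀ u, MvPolynomial.eval u h ≠ 0 → ∀ t, (spec P u).eval t = 0 →
      ((u, t) ∈ OA ∨ (u, t) ∈ OB) ∧ ¬ ((u, t) ∈ OA ∧ (u, t) ∈ OB)) (k : ℕ) :
    ∃ q : MvPolynomial (Fin n) ℂ, ∀ u, MvPolynomial.eval u h ≠ 0 →
      (partPoly (spec P) OA u).coeff k = MvPolynomial.eval u q := by
  classical
  set m := P.natDegree with hm
  set D := (Finset.range m).sup (fun j => (P.coeff j).totalDegree) with hD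
  have hVopen : IsOpen {u : Fin n → ℂ | MvPolynomial.eval u h ≠ 0} :=
    isOpen_ne_fun (MvPolynomial.continuous_eval h) continuous_const
  refine exists_mvPolynomial_of_separately_polynomial (m * D) n h hh
    (fun u => (partPoly (spec P) OA u).coeff k) ?_ ?_
  · intro u₀ hu₀
    refine ContinuousAt.continuousWithinAt ?_
    refine continuousAt_coeff_partPoly (spec P) m (spec_monic P hP) (spec_natDegree P hP)
      (continuous_spec_coeff P) u₀ (hsep u₀ hu₀) OA OB hOA hOB ?_ k
    filter_upwards [hVopen.mem_nhds hu₀] with u hu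
    exact hdich u hu
  · intro u i hu
    set ℓ : ℂ → (Fin n → ℂ) := fun s => Function.update u i s with hℓ
    have hℓc : Continuous ℓ := continuous_const.update i continuous_id
    set h₁ : ℂ[X] := lineHom u i h with hh₁
    have hh₁e : ∀ s, h₁.eval s = MvPolynomial.eval (ℓ s) h := fun s => eval_lineHom u i h s
    have hh₁0 : h₁ ≠ 0 := by
      intro h0
      apply hu
      have := hh₁e (u i)
      rw [h0, eval_zero, hℓ] at this
      simp only [Function.update_eq_self] at this
      exact this.symm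
    set F : Finset ℂ := h₁.roots.toFinset with hF
    have hFmem : ∀ s, s ∉ F ↔ MvPolynomial.eval (ℓ s) h ≠ 0 := by
      intro s
      rw [hF, Multiset.mem_toFinset, mem_roots hh₁0, IsRoot.def, hh₁e]
    set L : ℂ × ℂ → (Fin n → ℂ) × ℂ := fun st => (ℓ st.1, st.2) with hL
    have hLc : Continuous L := (hℓc.comp continuous_fst).prodMk continuous_snd
    have hcoeff₁ : ∀ j s, (spec P (ℓ s)).coeff j = (lineHom u i (P.coeff j)).eval s := by
      intro j s
      rw [spec_coeff, eval_lineHom]
    have hdiff : DifferentiableOn ℂ (fun s => (partPoly (spec P) OA (ℓ s)).coeff k)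
        (↑F : Set ℂ)ᶜ := by
      intro s₀ hs₀
      have hs₀' : s₀ ∉ F := hs₀
      refine DifferentiableAt.differentiableWithinAt ?_
      have key := differentiableAt_coeff_partPoly (fun s => spec P (ℓ s)) m
        (fun s => spec_monic P hP _) (fun s => spec_natDegree P hP _)
        (fun j => by simp only [hcoeff₁]; exact (lineHom u i (P.coeff j)).continuous) s₀
        (fun j => by simp only [hcoeff₁]; exact (lineHom u i (P.coeff j)).differentiableAt)
        (hsep _ ((hFmem s₀).mp hs₀')) (L ⁻¹' OA) (L ⁻¹' OB) (hOA.preimage hLc)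
        (hOB.preimage hLc) (by
          filter_upwards [F.finite_toSet.isClosed.isOpen_compl.mem_nhds hs₀] with s hs
          exact hdich (ℓ s) ((hFmem s).mp hs)) k
      exact key
    set K : ℝ := ∑ j ∈ Finset.range m, ∑ l ∈ Finset.range (D + 1),
      ‖(lineHom u i (P.coeff j)).coeff l‖ with hK
    have hK0 : 0 ≤ K := Finset.sum_nonneg fun j _ => Finset.sum_nonneg fun l _ => norm_nonneg _
    have hgrowth : ∀ s, ‖(partPoly (spec P) OA (ℓ s)).coeff k‖ ≤
        ((K + 1) ^ m * (m.choose (m / 2))) * (1 + ‖s‖) ^ (m * D) := by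
      intro s
      have h1s : (1 : ℝ) ≤ (1 + ‖s‖) ^ D := one_le_pow₀ (by linarith [norm_nonneg s])
      have hcoef : ∀ j ∈ Finset.range (spec P (ℓ s)).natDegree,
          ‖(spec P (ℓ s)).coeff j‖ ≤ K * (1 + ‖s‖) ^ D := by
        intro j hj
        rw [spec_natDegree P hP] at hj
        have hjD : (lineHom u i (P.coeff j)).natDegree ≤ D :=
          (natDegree_lineHom_le u i _).trans
            (Finset.le_sup (f := fun j => (P.coeff j).totalDegree) hj)
        have h2 := norm_eval_le (lineHom u i (P.coeff j)) D hjD s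
        rw [← hcoeff₁ j s] at h2
        refine h2.trans (mul_le_mul_of_nonneg_right ?_ (by positivity))
        exact Finset.single_le_sum
          (f := fun j => ∑ l ∈ Finset.range (D + 1), ‖(lineHom u i (P.coeff j)).coeff l‖)
          (fun j _ => Finset.sum_nonneg fun l _ => norm_nonneg _) hj
      have hroot : ∀ t, (spec P (ℓ s)).eval t = 0 → ‖t‖ ≤ K * (1 + ‖s‖) ^ D + 1 := fun t ht =>
        norm_le_of_isRoot _ (spec_monic P hP _) t ht _ (mul_nonneg hK0 (by positivity)) hcoef
      have h2 := norm_coeff_partPoly_le (spec P) m OA (ℓ s) (spec_monic P hP _)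
        (spec_natDegree P hP _) _ hroot k
      refine h2.trans ?_
      have h3 : max (K * (1 + ‖s‖) ^ D + 1) 1 ≤ (K + 1) * (1 + ‖s‖) ^ D := by
        have h4 : (K + 1) * (1 + ‖s‖) ^ D = K * (1 + ‖s‖) ^ D + (1 + ‖s‖) ^ D := by ring
        have h5 : 0 ≤ K * (1 + ‖s‖) ^ D := mul_nonneg hK0 (by positivity)
        rw [h4]
        apply max_le <;> linarith
      calc max (K * (1 + ‖s‖) ^ D + 1) 1 ^ m * (m.choose (m / 2) : ℝ)
          ≤ ((K + 1) * (1 + ‖s‖) ^ D) ^ m * (m.choose (m / 2)) := by
            gcongr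
        _ = ((K + 1) ^ m * (m.choose (m / 2))) * (1 + ‖s‖) ^ (m * D) := by
            rw [mul_pow, ← pow_mul, mul_comm D m]; ring
    obtain ⟨q, hq, hqe⟩ := exists_polynomial_of_differentiableOn_compl_finset F
      (fun s => (partPoly (spec P) OA (ℓ s)).coeff k) (m * D) _ hdiff (fun s _ => hgrowth s)
    exact ⟨q, hq, fun s hs => hqe s ((hFmem s).mpr hs)⟩

end main

section locus

theorem natDegree_partPoly_pos {Z : Type*} [TopologicalSpace Z] (p : Z → ℂ[X]) (O : Set (Z × ℂ))
    (z : Z) (t : ℂ) (hp : p z ≠ 0) (ht : (p z).eval t = 0) (hO : (z, t) ∈ O) :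
    0 < (partPoly p O z).natDegree := by
  classical
  rw [partPoly_def, natDegree_finsetProd_X_sub_C_eq_card]
  exact Finset.card_pos.mpr ⟨t, Finset.mem_filter.mpr
    ⟨Multiset.mem_toFinset.mpr ((mem_roots hp).mpr ht), hO⟩⟩

theorem natDegree_partPoly_le {Z : Type*} [TopologicalSpace Z] (p : Z → ℂ[X]) (O : Set (Z × ℂ))
    (z : Z) : (partPoly p O z).natDegree ≤ (p z).natDegree := by
  classical
  rw [partPoly_def, natDegree_finsetProd_X_sub_C_eq_card]
  calc _ ≤ (p z).roots.toFinset.card := Finset.card_filter_le _ _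
    _ ≤ Multiset.card (p z).roots := Multiset.toFinset_card_le _
    _ ≤ (p z).natDegree := card_roots' _

theorem coeff_sum_C_mul_X_pow {A : Type*} [Semiring A] (c : ℕ → A) (m k : ℕ) :
    (∑ j ∈ Finset.range (m + 1), C (c j) * X ^ j : A[X]).coeff k = if k ≤ m then c k else 0 := by
  simp only [Polynomial.finsetSum_coeff, Polynomial.coeff_C_mul_X_pow, Finset.sum_ite_eq,
    Finset.mem_range, Nat.lt_succ_iff]

variable {n : ℕ} (P : (MvPolynomial (Fin n) ℂ)[X]) (h : MvPolynomial (Fin n) ℂ)

/-- The root locus of `P` over the open set `h ≠ 0`. -/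
def rootLocus : Set ((Fin n → ℂ) × ℂ) :=
  {ut | MvPolynomial.eval ut.1 h ≠ 0 ∧ (spec P ut.1).eval ut.2 = 0}

/-- The root locus of an irreducible monic polynomial over `ℂ[u₁, …, uₙ]`, over the locus
where it is separable, is connected. -/
theorem isPreconnected_rootLocus (hP : P.Monic) (hirr : Irreducible P) (hh : h ≠ 0)
    (hsep : ∀ u, MvPolynomial.eval u h ≠ 0 → (spec P u).Separable) :
    IsPreconnected (rootLocus P h) := by
  classical
  intro OA OB hOA hOB hcov hAne hBne
  by_contra hAB
  rw [Set.not_nonempty_iff_eq_empty] at hAB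
  have hdich : ∀ u, MvPolynomial.eval u h ≠ 0 → ∀ t, (spec P u).eval t = 0 →
      ((u, t) ∈ OA ∨ (u, t) ∈ OB) ∧ ¬ ((u, t) ∈ OA ∧ (u, t) ∈ OB) := by
    intro u hu t ht
    have hmem : (u, t) ∈ rootLocus P h := ⟨hu, ht⟩
    refine ⟨hcov hmem, fun hboth => ?_⟩
    have : (u, t) ∈ rootLocus P h ∩ (OA ∩ OB) := ⟨hmem, hboth⟩
    rw [hAB] at this
    exact this
  have hdich' : ∀ u, MvPolynomial.eval u h ≠ 0 → ∀ t, (spec P u).eval t = 0 →
      ((u, t) ∈ OB ∨ (u, t) ∈ OA) ∧ ¬ ((u, t) ∈ OB ∧ (u, t) ∈ OA) := fun u hu t ht =>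
    ⟨(hdich u hu t ht).1.symm, fun hb => (hdich u hu t ht).2 hb.symm⟩
  set m := P.natDegree with hm
  choose qA hqA using exists_mvPolynomial_coeff_partPoly P h hP hh hsep OA OB hOA hOB hdich
  choose qB hqB using exists_mvPolynomial_coeff_partPoly P h hP hh hsep OB OA hOB hOA hdich'
  set QA : (MvPolynomial (Fin n) ℂ)[X] := ∑ k ∈ Finset.range (m + 1), C (qA k) * X ^ k with hQA
  set QB : (MvPolynomial (Fin n) ℂ)[X] := ∑ k ∈ Finset.range (m + 1), C (qB k) * X ^ k with hQB
  have hspecA : ∀ u, MvPolynomial.eval u h ≠ 0 →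
      QA.map (MvPolynomial.eval u) = partPoly (spec P) OA u := by
    intro u hu
    apply Polynomial.ext
    intro k
    rw [Polynomial.coeff_map, hQA, coeff_sum_C_mul_X_pow]
    split_ifs with hk
    · exact (hqA k u hu).symm
    · rw [map_zero]
      symm
      apply Polynomial.coeff_eq_zero_of_natDegree_lt
      have := natDegree_partPoly_le (spec P) OA u
      rw [spec_natDegree P hP] at this
      omega
  have hspecB : ∀ u, MvPolynomial.eval u h ≠ 0 →
      QB.map (MvPolynomial.eval u) = partPoly (spec P) OB u := by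
    intro u hu
    apply Polynomial.ext
    intro k
    rw [Polynomial.coeff_map, hQB, coeff_sum_C_mul_X_pow]
    split_ifs with hk
    · exact (hqB k u hu).symm
    · rw [map_zero]
      symm
      apply Polynomial.coeff_eq_zero_of_natDegree_lt
      have := natDegree_partPoly_le (spec P) OB u
      rw [spec_natDegree P hP] at this
      omega
  have hprod : QA * QB = P := by
    apply Polynomial.ext
    intro k
    have hk : ∀ u, MvPolynomial.eval u h ≠ 0 →
        MvPolynomial.eval u ((QA * QB).coeff k) = MvPolynomial.eval u (P.coeff k) := by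
      intro u hu
      rw [← Polynomial.coeff_map, ← Polynomial.coeff_map, Polynomial.map_mul, hspecA u hu,
        hspecB u hu, partPoly_mul_partPoly (spec P) OA OB u (spec_monic P hP u) (hsep u hu)
          (hdich u hu)]
      rfl
    have hz : h * ((QA * QB).coeff k - P.coeff k) = 0 := by
      apply MvPolynomial.funext
      intro u
      rw [map_mul, map_sub, map_zero]
      by_cases hu : MvPolynomial.eval u h = 0
      · rw [hu, zero_mul]
      · rw [hk u hu, sub_self, mul_zero]
    exact sub_eq_zero.mp ((mul_eq_zero.mp hz).resolve_left hh)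
  have hcontra : ∀ (Q : (MvPolynomial (Fin n) ℂ)[X]) (O : Set ((Fin n → ℂ) × ℂ)),
      (∀ u, MvPolynomial.eval u h ≠ 0 → Q.map (MvPolynomial.eval u) = partPoly (spec P) O u) →
      IsUnit Q → (rootLocus P h ∩ O).Nonempty → False := by
    intro Q O hQ hunit hne
    obtain ⟨⟨u, t⟩, ⟨hu, ht⟩, hO⟩ := hne
    have h1 : Q.natDegree = 0 := Polynomial.natDegree_eq_zero_of_isUnit hunit
    have h2 := natDegree_partPoly_pos (spec P) O u t (spec_monic P hP u).ne_zero ht hO
    rw [← hQ u hu] at h2
    have h3 := Polynomial.natDegree_map_le (f := MvPolynomial.eval u) (p := Q)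
    omega
  rcases hirr.isUnit_or_isUnit hprod.symm with hu | hu
  · exact hcontra QA OA hspecA hu hAne
  · exact hcontra QB OB hspecB hu hBne

end locus

end Groth.Agent.Lib.Helper7.AnConn
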