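import Mathlib.FieldTheory.PrimitiveElement
import Mathlib.FieldTheory.Minpoly.IsIntegrallyClosed
import Mathlib.RingTheory.Localization.Integral
import Mathlib.RingTheory.Localization.Finiteness
import Mathlib.RingTheory.Algebraic.Integral
import Mathlib.FieldTheory.Separable
import Mathlib.FieldTheory.Perfect
import Mathlib.RingTheory.Polynomial.UniqueFactorization
import Mathlib.Analysis.Complex.Basic
import Mathlib.RingTheory.Polynomial.GaussLemma
import Mathlib.RingTheory.Polynomial.RationalRoot
import Mathlib.Algebra.CharP.Algebra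
import Mathlib.RingTheory.MvPolynomial.Basic
import Mathlib.FieldTheory.IntermediateField.Adjoin.Algebra

set_option autoImplicit false
set_option maxHeartbeats 800000

open Polynomial IntermediateField
open scoped nonZeroDivisors

namespace Groth.Agent.Lib.Helper7.AnConn

theorem exists_primitive_data
    {S R : Type*} [CommRing S] [IsDomain S] [IsIntegrallyClosed S] [CommRing R] [IsDomain R]
    [Algebra S R] [FaithfulSMul S R] [Algebra.IsIntegral S R]
    (K L : Type*) [Field K] [Field L] [Algebra S K] [IsFractionRing S K] [Algebra R L]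
    [IsFractionRing R L] [Algebra K L] [Algebra S L] [IsScalarTower S K L] [IsScalarTower S R L]
    [FiniteDimensional K L] [CharZero K] :
    ∃ θ : R, (∃ δ : S, δ ≠ 0 ∧ ∃ a b : S[X],
        a * minpoly S θ + b * derivative (minpoly S θ) = C δ) ∧
      ∀ r : R, ∃ c : S, c ≠ 0 ∧ ∃ G : S[X], algebraMap S R c * r = aeval θ G := by
  classical
  obtain ⟨θ', hθ'⟩ := Field.exists_primitive_element K L
  obtain ⟨r₀, w, hw, hrw⟩ := IsFractionRing.div_surjective R θ'
  obtain ⟨a₀, ha₀, b₀, hab₀⟩ :=
    (Algebra.IsIntegral.isIntegral (R := S) w).isAlgebraic.exists_nonzero_dvd hw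
  set θ : R := r₀ * b₀ with hθ
  set θL : L := algebraMap R L θ with hθL
  have hinjRL : Function.Injective (algebraMap R L) := IsFractionRing.injective R L
  have hinjSK : Function.Injective (algebraMap S K) := IsFractionRing.injective S K
  have ha₀K : algebraMap S K a₀ ≠ 0 := fun h => ha₀ (hinjSK (by rw [h, map_zero]))
  have hwL : algebraMap R L w ≠ 0 := fun h =>
    (nonZeroDivisors.ne_zero hw) (hinjRL (by rw [h, map_zero]))
  have hθ'eq : θ' = (algebraMap S K a₀)⁻¹ • θL := by
    have h1 : algebraMap K L (algebraMap S K a₀) = algebraMap R L w * algebraMap R L b₀ := by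
      rw [← IsScalarTower.algebraMap_apply S K L, IsScalarTower.algebraMap_apply S R L, hab₀,
        map_mul]
    have h2 : algebraMap R L b₀ ≠ 0 := by
      intro h0
      rw [h0, mul_zero] at h1
      exact ha₀K ((algebraMap K L).injective (by rw [h1, map_zero]))
    rw [← hrw, hθL, hθ, map_mul, Algebra.smul_def, map_inv₀, h1]
    field_simp
  have htop : K⟮θL⟯ = ⊤ := by
    rw [eq_top_iff, ← hθ', adjoin_simple_le_iff, hθ'eq]
    exact K⟮θL⟯.smul_mem (mem_adjoin_simple_self K θL)
  have hθint : IsIntegral S θ := Algebra.IsIntegral.isIntegral θ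
  have hθLint : IsIntegral K θL := (hθint.map (IsScalarTower.toAlgHom S R L)).tower_top
  have hminK : minpoly K θL = (minpoly S θ).map (algebraMap S K) :=
    minpoly.isIntegrallyClosed_eq_field_fractions K L hθint
  refine ⟨θ, ?_, ?_⟩
  · have hirr : Irreducible (minpoly K θL) := minpoly.irreducible hθLint
    have hsep : (minpoly K θL).Separable := hirr.separable
    rw [hminK] at hsep
    obtain ⟨a, b, hab⟩ := hsep
    obtain ⟨ca, hca, hca'⟩ := IsLocalization.integerNormalization_spec S⁰ a
    obtain ⟨cb, hcb, hcb'⟩ := IsLocalization.integerNormalization_spec S⁰ b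
    refine ⟨ca * cb, mul_ne_zero (nonZeroDivisors.ne_zero hca) (nonZeroDivisors.ne_zero hcb),
      C cb * IsLocalization.integerNormalization S⁰ a,
      C ca * IsLocalization.integerNormalization S⁰ b, ?_⟩
    apply Polynomial.map_injective (algebraMap S K) hinjSK
    rw [Polynomial.map_add, Polynomial.map_mul, Polynomial.map_mul, Polynomial.map_mul,
      Polynomial.map_mul, Polynomial.map_C, Polynomial.map_C, Polynomial.map_C, hca', hcb',
      ← derivative_map]
    rw [Algebra.smul_def, Algebra.smul_def, Polynomial.algebraMap_apply,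
      Polynomial.algebraMap_apply, map_mul, C_mul]
    linear_combination (C (algebraMap S K ca) * C (algebraMap S K cb)) * hab
  · intro r
    have hmem : algebraMap R L r ∈ K⟮θL⟯ := by rw [htop]; trivial
    have h2 : algebraMap R L r ∈ Algebra.adjoin K {θL} := by
      rw [← adjoin_simple_toSubalgebra_of_isAlgebraic hθLint.isAlgebraic]; exact hmem
    rw [Algebra.adjoin_singleton_eq_range_aeval] at h2
    obtain ⟨g, hg⟩ := h2
    obtain ⟨c, hc, hc'⟩ := IsLocalization.integerNormalization_spec S⁰ g
    refine ⟨c, nonZeroDivisors.ne_zero hc, IsLocalization.integerNormalization S⁰ g, ?_⟩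
    apply hinjRL
    have hg' : aeval θL g = algebraMap R L r := hg
    rw [map_mul, ← aeval_algebraMap_apply, ← hθL, ← aeval_map_algebraMap K, hc',
      ← algebraMap_smul K c g, map_smul, hg', Algebra.smul_def,
      ← IsScalarTower.algebraMap_apply S K L, IsScalarTower.algebraMap_apply S R L]

end Groth.Agent.Lib.Helper7.AnConn

namespace Groth.Agent.Lib.Helper7.AnConn

theorem exists_primitive_data_mvPolynomial {n : ℕ} {R : Type*} [CommRing R] [IsDomain R]
    [Algebra (MvPolynomial (Fin n) ℂ) R] [FaithfulSMul (MvPolynomial (Fin n) ℂ) R]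
    [Algebra.IsIntegral (MvPolynomial (Fin n) ℂ) R] [Module.Finite (MvPolynomial (Fin n) ℂ) R] :
    ∃ θ : R, (∃ δ : MvPolynomial (Fin n) ℂ, δ ≠ 0 ∧ ∃ a b : (MvPolynomial (Fin n) ℂ)[X],
        a * minpoly (MvPolynomial (Fin n) ℂ) θ +
          b * derivative (minpoly (MvPolynomial (Fin n) ℂ) θ) = C δ) ∧
      ∀ r : R, ∃ c : MvPolynomial (Fin n) ℂ, c ≠ 0 ∧ ∃ G : (MvPolynomial (Fin n) ℂ)[X],
        algebraMap (MvPolynomial (Fin n) ℂ) R c * r = aeval θ G := by
  letI := FractionRing.liftAlgebra (MvPolynomial (Fin n) ℂ) (FractionRing R)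
  haveI := FractionRing.isScalarTower_liftAlgebra (MvPolynomial (Fin n) ℂ) (FractionRing R)
  haveI : FiniteDimensional (FractionRing (MvPolynomial (Fin n) ℂ)) (FractionRing R) :=
    Module.Finite.of_isLocalization (MvPolynomial (Fin n) ℂ) R (MvPolynomial (Fin n) ℂ)⁰
  haveI : CharZero (FractionRing (MvPolynomial (Fin n) ℂ)) := inferInstance
  exact exists_primitive_data (FractionRing (MvPolynomial (Fin n) ℂ)) (FractionRing R)

end Groth.Agent.Lib.Helper7.AnConn
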