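import Groth.Agent.Lib.Helper7.AnConn5
import Groth.Agent.Lib.Helper7.AnConn6

set_option autoImplicit false
set_option maxHeartbeats 800000

/-!
# The space of points of a finitely generated complex domain is connected
-/

open Filter Topology Polynomial

namespace Groth.Agent.Lib.Helper7.AnConn

open Groth.Agent.Lib.Helper7.AnDense

section aux

variable {d : ℕ} {B : Type*} [CommRing B] [IsDomain B] [Algebra ℂ B]
  [Algebra (MvPolynomial (Fin d) ℂ) B] [IsScalarTower ℂ (MvPolynomial (Fin d) ℂ) B]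
  [Algebra.IsIntegral (MvPolynomial (Fin d) ℂ) B] [FaithfulSMul (MvPolynomial (Fin d) ℂ) B]

omit [IsDomain B] [Algebra.IsIntegral (MvPolynomial (Fin d) ℂ) B]
  [FaithfulSMul (MvPolynomial (Fin d) ℂ) B] in
theorem apply_aeval (y : B →ₐ[ℂ] ℂ) (θ : B) (G : (MvPolynomial (Fin d) ℂ)[X]) :
    y (aeval θ G) = (spec G (proj d y)).eval (y θ) := by
  have h2 : ((y : B →+* ℂ).comp (algebraMap (MvPolynomial (Fin d) ℂ) B)) =
      MvPolynomial.eval (proj d y) := RingHom.ext (apply_algebraMap y)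
  show (y : B →+* ℂ) (aeval θ G) = _
  rw [spec, Polynomial.eval_map, Polynomial.aeval_def, Polynomial.hom_eval₂, h2]
  rfl

theorem continuous_eval_spec (G : (MvPolynomial (Fin d) ℂ)[X]) :
    Continuous fun ut : (Fin d → ℂ) × ℂ => (spec G ut.1).eval ut.2 := by
  have : (fun ut : (Fin d → ℂ) × ℂ => (spec G ut.1).eval ut.2) = fun ut =>
      ∑ k ∈ Finset.range (G.natDegree + 1), MvPolynomial.eval ut.1 (G.coeff k) * ut.2 ^ k := by
    funext ut
    rw [spec, Polynomial.eval_map, Polynomial.eval₂_eq_sum_range]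
  rw [this]
  exact continuous_finsetSum _ fun k _ =>
    ((MvPolynomial.continuous_eval _).comp continuous_fst).mul (continuous_snd.pow k)

theorem isPreconnected_range_aux (d : ℕ) {B : Type*} [CommRing B] [IsDomain B] [Algebra ℂ B]
    [Algebra (MvPolynomial (Fin d) ℂ) B] [IsScalarTower ℂ (MvPolynomial (Fin d) ℂ) B]
    [Algebra.IsIntegral (MvPolynomial (Fin d) ℂ) B] [FaithfulSMul (MvPolynomial (Fin d) ℂ) B]
    [Algebra.FiniteType ℂ B] (N : ℕ) (s : Fin N → B) :
    IsPreconnected (Set.range fun (y : B →ₐ[ℂ] ℂ) (i : Fin N) => y (s i)) := by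
  classical
  haveI : Algebra.FiniteType (MvPolynomial (Fin d) ℂ) B :=
    Algebra.FiniteType.of_restrictScalars_finiteType ℂ (MvPolynomial (Fin d) ℂ) B
  haveI : Module.Finite (MvPolynomial (Fin d) ℂ) B := Algebra.IsIntegral.finite
  obtain ⟨θ, ⟨δ, hδ, a, b, hab⟩, hc⟩ := exists_primitive_data_mvPolynomial (n := d) (R := B)
  set P := minpoly (MvPolynomial (Fin d) ℂ) θ with hP
  have hθint : IsIntegral (MvPolynomial (Fin d) ℂ) θ := Algebra.IsIntegral.isIntegral θ
  have hPm : P.Monic := minpoly.monic hθint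
  have hirr : Irreducible P := minpoly.irreducible hθint
  choose c hc0 G hG using fun i => hc (s i)
  set h : MvPolynomial (Fin d) ℂ := δ * ∏ i, c i with hh
  have hh0 : h ≠ 0 := mul_ne_zero hδ (Finset.prod_ne_zero_iff.mpr fun i _ => hc0 i)
  have hhδ : ∀ u, MvPolynomial.eval u h ≠ 0 → MvPolynomial.eval u δ ≠ 0 := by
    intro u hu h0
    apply hu
    rw [hh, map_mul, h0, zero_mul]
  have hhc : ∀ u, MvPolynomial.eval u h ≠ 0 → ∀ i, MvPolynomial.eval u (c i) ≠ 0 := by
    intro u hu i h0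
    apply hu
    rw [hh, map_mul, map_prod, Finset.prod_eq_zero (Finset.mem_univ i) h0, mul_zero]
  have hsep : ∀ u, MvPolynomial.eval u h ≠ 0 → (spec P u).Separable := by
    intro u hu
    have h1 := congrArg (Polynomial.map (MvPolynomial.eval u)) hab
    rw [Polynomial.map_add, Polynomial.map_mul, Polynomial.map_mul, Polynomial.map_C,
      ← Polynomial.derivative_map] at h1
    rw [Polynomial.separable_def]
    refine ⟨C (MvPolynomial.eval u δ)⁻¹ * a.map (MvPolynomial.eval u),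
      C (MvPolynomial.eval u δ)⁻¹ * b.map (MvPolynomial.eval u), ?_⟩
    have h2 : C (MvPolynomial.eval u δ)⁻¹ * C (MvPolynomial.eval u δ) = (1 : ℂ[X]) := by
      rw [← C_mul, inv_mul_cancel₀ (hhδ u hu), C_1]
    unfold spec
    linear_combination (C (MvPolynomial.eval u δ)⁻¹) * h1 + h2
  have hZ := isPreconnected_rootLocus P h hPm hirr hh0 hsep
  set Ψ : (Fin d → ℂ) × ℂ → (Fin N → ℂ) := fun ut i =>
    (spec (G i) ut.1).eval ut.2 / MvPolynomial.eval ut.1 (c i) with hΨ
  have hΨc : ContinuousOn Ψ (rootLocus P h) := by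
    apply continuousOn_pi.mpr
    intro i
    apply ContinuousOn.div
    · exact (continuous_eval_spec (G i)).continuousOn
    · exact ((MvPolynomial.continuous_eval (c i)).comp continuous_fst).continuousOn
    · intro ut hut
      exact hhc ut.1 hut.1 i
  have hkey : ∀ y : B →ₐ[ℂ] ℂ, y (algebraMap (MvPolynomial (Fin d) ℂ) B h) ≠ 0 →
      (proj d y, y θ) ∈ rootLocus P h ∧ (fun i => y (s i)) = Ψ (proj d y, y θ) := by
    intro y hy
    have hy' : MvPolynomial.eval (proj d y) h ≠ 0 := by rwa [← apply_algebraMap]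
    refine ⟨⟨hy', ?_⟩, ?_⟩
    · show (spec P (proj d y)).eval (y θ) = 0
      rw [← apply_aeval, hP, minpoly.aeval, map_zero]
    · funext i
      show y (s i) = (spec (G i) (proj d y)).eval (y θ) / MvPolynomial.eval (proj d y) (c i)
      rw [← apply_aeval, ← hG i, map_mul, apply_algebraMap,
        mul_div_cancel_left₀ _ (hhc _ hy' i)]
  refine (hZ.image Ψ hΨc).subset_closure ?_ ?_
  · rintro _ ⟨⟨u, t⟩, hut, rfl⟩
    obtain ⟨y, hyu, hyt⟩ := exists_point_of_root θ u t (by
      show ((minpoly (MvPolynomial (Fin d) ℂ) θ).map (MvPolynomial.eval u)).IsRoot t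
      exact hut.2)
    have hy : y (algebraMap (MvPolynomial (Fin d) ℂ) B h) ≠ 0 := by
      rw [apply_algebraMap, hyu]; exact hut.1
    obtain ⟨-, h2⟩ := hkey y hy
    rw [hyu, hyt] at h2
    exact ⟨y, h2⟩
  · rintro _ ⟨y, rfl⟩
    rw [Metric.mem_closure_iff]
    intro ε hε
    obtain ⟨y', hy'h, hy'F⟩ := exists_near_point_aux d y
      (algebraMap (MvPolynomial (Fin d) ℂ) B h)
      ((map_ne_zero_iff _ (FaithfulSMul.algebraMap_injective (MvPolynomial (Fin d) ℂ) B)).mpr hh0)
      (Finset.univ.image s) ε hε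
    obtain ⟨h1, h2⟩ := hkey y' hy'h
    refine ⟨_, ⟨_, h1, rfl⟩, ?_⟩
    rw [← h2, dist_comm, dist_pi_lt_iff hε]
    intro i
    rw [dist_eq_norm]
    exact hy'F (s i) (Finset.mem_image_of_mem s (Finset.mem_univ i))

end aux

/-- The image of the space of points of a finitely generated complex domain under a finite family
of functions is connected. -/
theorem isPreconnected_range_eval {B : Type*} [CommRing B] [IsDomain B] [Algebra ℂ B]
    [Algebra.FiniteType ℂ B] (N : ℕ) (s : Fin N → B) :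
    IsPreconnected (Set.range fun (y : B →ₐ[ℂ] ℂ) (i : Fin N) => y (s i)) := by
  obtain ⟨d, φ, hφinj, hφint⟩ := exists_integral_inj_algHom_of_fg ℂ B
  letI : Algebra (MvPolynomial (Fin d) ℂ) B := φ.toRingHom.toAlgebra
  haveI : IsScalarTower ℂ (MvPolynomial (Fin d) ℂ) B :=
    IsScalarTower.of_algebraMap_eq (fun c => (φ.commutes c).symm)
  haveI : Algebra.IsIntegral (MvPolynomial (Fin d) ℂ) B := ⟨hφint⟩
  haveI : FaithfulSMul (MvPolynomial (Fin d) ℂ) B :=
    (faithfulSMul_iff_algebraMap_injective _ _).mpr hφinj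
  exact isPreconnected_range_aux d N s

/-- Ring-hom form: the points of `V(𝔭)`, for a prime `𝔭` of a finitely generated `ℂ`-algebra,
form a connected subset of `ℂⁿ`. -/
theorem isPreconnected_ringHom {R : Type*} [CommRing R] (σ : ℂ →+* R) (n : ℕ) (s : Fin n → R)
    (hs : Function.Surjective (MvPolynomial.eval₂Hom σ s)) (𝔭 : Ideal R) [𝔭.IsPrime] :
    IsPreconnected {z : Fin n → ℂ | ∃ y : R →+* ℂ, (∀ c, y (σ c) = c) ∧ 𝔭 ≤ RingHom.ker y ∧
      ∀ i, y (s i) = z i} := by
  classical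
  letI : Algebra ℂ R := σ.toAlgebra
  haveI : Algebra.FiniteType ℂ R := by
    rw [Algebra.FiniteType.iff_quotient_mvPolynomial'']
    refine ⟨n, MvPolynomial.aeval s, ?_⟩
    intro r
    obtain ⟨p, hp⟩ := hs r
    refine ⟨p, ?_⟩
    rw [← hp]
    rfl
  have key := isPreconnected_range_eval (B := R ⧸ 𝔭) n (fun i => Ideal.Quotient.mk 𝔭 (s i))
  convert key using 1
  ext z
  constructor
  · rintro ⟨y, hyσ, h𝔭, hz⟩
    let ya : R →ₐ[ℂ] ℂ := { y with commutes' := fun c => hyσ c }
    refine ⟨Ideal.Quotient.liftₐ 𝔭 ya (fun a ha => h𝔭 ha), ?_⟩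
    funext i
    exact hz i
  · rintro ⟨yq, rfl⟩
    refine ⟨(yq : R ⧸ 𝔭 →+* ℂ).comp (Ideal.Quotient.mk 𝔭), fun c => yq.commutes c, ?_,
      fun i => rfl⟩
    intro a ha
    rw [RingHom.mem_ker, RingHom.comp_apply, Ideal.Quotient.eq_zero_iff_mem.mpr ha, map_zero]

end Groth.Agent.Lib.Helper7.AnConn
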