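import Groth.Agent.Lib.Helper7.AnTop2

set_option autoImplicit false

open CategoryTheory AlgebraicGeometry Topology TopologicalSpace An Limits

namespace Groth.Agent.Lib.Helper7.AnTop

universe u

/-- Global sections of a fibre product of affine schemes are generated (as a ring) by the
pullbacks of global sections of the two factors. -/
theorem pullback_sections_generated {A' B' R' : Scheme.{u}} [IsAffine A'] [IsAffine B']
    [IsAffine R'] (a : A' ⟶ R') (b : B' ⟶ R') :
    Subring.closure (Set.range (pullback.fst a b).appTop.hom ∪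
      Set.range (pullback.snd a b).appTop.hom) = ⊤ := by
  set P := pullback a b with hP
  set Q : Subring Γ(P, ⊤) := Subring.closure (Set.range (pullback.fst a b).appTop.hom ∪
      Set.range (pullback.snd a b).appTop.hom) with hQ
  let incl : CommRingCat.of Q ⟶ Γ(P, ⊤) := CommRingCat.ofHom Q.subtype
  let α : Γ(A', ⊤) ⟶ CommRingCat.of Q := CommRingCat.ofHom
    ((pullback.fst a b).appTop.hom.codRestrict Q
      (fun x => Subring.subset_closure (Or.inl ⟨x, rfl⟩)))
  let β : Γ(B', ⊤) ⟶ CommRingCat.of Q := CommRingCat.ofHom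
    ((pullback.snd a b).appTop.hom.codRestrict Q
      (fun x => Subring.subset_closure (Or.inr ⟨x, rfl⟩)))
  have hα : α ≫ incl = (pullback.fst a b).appTop := rfl
  have hβ : β ≫ incl = (pullback.snd a b).appTop := rfl
  have hmono : Mono incl := ConcreteCategory.mono_of_injective incl Subtype.val_injective
  have hcompat : a.appTop ≫ α = b.appTop ≫ β := by
    rw [← cancel_mono incl, Category.assoc, Category.assoc, hα, hβ,
      ← Scheme.Hom.comp_appTop, ← Scheme.Hom.comp_appTop, pullback.condition]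
  have hcond : (Spec.map α ≫ A'.isoSpec.inv) ≫ a = (Spec.map β ≫ B'.isoSpec.inv) ≫ b := by
    rw [Category.assoc, Category.assoc, ← Scheme.isoSpec_inv_naturality a,
      ← Scheme.isoSpec_inv_naturality b, ← Category.assoc, ← Category.assoc, ← Spec.map_comp,
      ← Spec.map_comp, hcompat]
  let h : Spec (CommRingCat.of Q) ⟶ P := pullback.lift _ _ hcond
  let e : P ⟶ Spec (CommRingCat.of Q) := P.isoSpec.hom ≫ Spec.map incl
  have heh : e ≫ h = 𝟙 P := by
    apply pullback.hom_ext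
    · rw [Category.assoc, pullback.lift_fst, Category.id_comp]
      show (P.isoSpec.hom ≫ Spec.map incl) ≫ Spec.map α ≫ A'.isoSpec.inv = _
      rw [Category.assoc, ← Category.assoc (Spec.map incl), ← Spec.map_comp, hα,
        Scheme.isoSpec_inv_naturality, Iso.hom_inv_id_assoc]
    · rw [Category.assoc, pullback.lift_snd, Category.id_comp]
      show (P.isoSpec.hom ≫ Spec.map incl) ≫ Spec.map β ≫ B'.isoSpec.inv = _
      rw [Category.assoc, ← Category.assoc (Spec.map incl), ← Spec.map_comp, hβ,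
        Scheme.isoSpec_inv_naturality, Iso.hom_inv_id_assoc]
  rw [eq_top_iff]
  intro γ _
  have h1 : (e ≫ h).appTop γ = γ := by rw [heh]; rfl
  have h2 : (e ≫ h).appTop γ = P.isoSpec.hom.appTop ((Spec.map incl).appTop (h.appTop γ)) := rfl
  have h3 : P.isoSpec.hom.appTop = (Scheme.ΓSpecIso Γ(P, ⊤)).hom := Scheme.toSpecΓ_appTop P
  have h4 : ∀ δ, (Scheme.ΓSpecIso Γ(P, ⊤)).hom ((Spec.map incl).appTop δ) =
      incl ((Scheme.ΓSpecIso (CommRingCat.of Q)).hom δ) := by
    intro δ
    rw [← CommRingCat.comp_apply, Scheme.ΓSpecIso_naturality]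
    rfl
  rw [h2, h3, h4] at h1
  rw [← h1]
  exact ((Scheme.ΓSpecIso (CommRingCat.of Q)).hom (h.appTop γ)).2


theorem evTop_map {X Y : Scheme.{0}} [X.Over An.SC] [Y.Over An.SC] (g : X ⟶ Y) [g.IsOver An.SC]
    (x : Pts X) (u : Γ(Y, ⊤)) : (Pts.map g x).evTop u = x.evTop (g.appTop u) := by
  rw [evTop_eq, evTop_eq]
  rfl

/-- Topological gluing lemma for inducing maps along open embeddings. -/
theorem isInducing_of_local {T T' : Type} [TopologicalSpace T] [TopologicalSpace T'] (Φ : T → T')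
    (hΦ : Continuous Φ)
    (H : ∀ t : T, ∃ (T₀ T₀' : Type) (_ : TopologicalSpace T₀) (_ : TopologicalSpace T₀')
      (e : T₀ → T) (e' : T₀' → T') (Φ₀ : T₀ → T₀'), IsOpenEmbedding e ∧ IsOpenEmbedding e' ∧
      IsInducing Φ₀ ∧ (∀ p, e' (Φ₀ p) = Φ (e p)) ∧ t ∈ Set.range e ∧
      Φ ⁻¹' (Set.range e') ⊆ Set.range e) : IsInducing Φ := by
  refine ⟨le_antisymm hΦ.le_induced ?_⟩
  intro O hO
  rw [@isOpen_iff_forall_mem_open T (TopologicalSpace.induced Φ inferInstance) O]
  intro t htO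
  obtain ⟨T₀, T₀', _, _, e, e', Φ₀, he, he', hΦ₀, hcomm, ⟨p, rfl⟩, hrange⟩ := H t
  have hO₀ : IsOpen (e ⁻¹' O) := hO.preimage he.continuous
  obtain ⟨O', hO', hO'eq⟩ := (hΦ₀.isOpen_iff).mp hO₀
  refine ⟨Φ ⁻¹' (e' '' O'), ?_, ?_, ?_⟩
  · rintro s ⟨q, hq, hqs⟩
    obtain ⟨p', rfl⟩ := hrange ⟨q, hqs⟩
    rw [← hcomm] at hqs
    have hq' : Φ₀ p' = q := (he'.injective hqs).symm
    have : p' ∈ Φ₀ ⁻¹' O' := by rw [Set.mem_preimage, hq']; exact hq
    rw [hO'eq] at this
    exact this
  · exact isOpen_induced_iff.mpr ⟨e' '' O', he'.isOpenMap _ hO', rfl⟩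
  · refine ⟨Φ₀ p, ?_, hcomm p⟩
    have : p ∈ e ⁻¹' O := htO
    rw [← hO'eq] at this
    exact this

section affine

variable {A' B' R' : Scheme.{0}} [A'.Over An.SC] [B'.Over An.SC] [R'.Over An.SC]
  [IsAffine A'] [IsAffine B'] [IsAffine R'] (a : A' ⟶ R') (b : B' ⟶ R')
  [a.IsOver An.SC] [b.IsOver An.SC]

/-- Affine case: the ℂ-points of an affine fibre product carry the topology induced from the
product of the ℂ-points of the factors. -/
theorem isInducing_pullback_affine :
    IsInducing (fun p : Pts (pullback a b) =>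
      (Pts.map (pullback.fst a b) p, Pts.map (pullback.snd a b) p)) := by
  set Ψ : Pts (pullback a b) → Pts A' × Pts B' := fun p =>
      (Pts.map (pullback.fst a b) p, Pts.map (pullback.snd a b) p) with hΨ
  have hΨc : Continuous Ψ :=
    (Pts.continuous_map (pullback.fst a b)).prodMk (Pts.continuous_map (pullback.snd a b))
  refine ⟨le_antisymm hΨc.le_induced ?_⟩
  apply le_topologicalSpace_of_affine
  -- the subring of sections whose evaluation factors continuously through Ψ
  let C : Subring Γ(pullback a b, ⊤) :=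
    { carrier := {γ | ∃ F : Pts A' × Pts B' → ℂ, Continuous F ∧ ∀ p, p.evTop γ = F (Ψ p)}
      mul_mem' := by
        rintro γ γ' ⟨F, hF, hFγ⟩ ⟨F', hF', hFγ'⟩
        refine ⟨fun q => F q * F' q, hF.mul hF', fun p => ?_⟩
        show p.evTop (γ * γ') = F (Ψ p) * F' (Ψ p)
        rw [← hFγ, ← hFγ']
        exact map_mul (evHom p ⊤ (Opens.mem_top _)) γ γ'
      one_mem' := ⟨fun _ => 1, continuous_const, fun p => map_one (evHom p ⊤ (Opens.mem_top _))⟩
      add_mem' := by
        rintro γ γ' ⟨F, hF, hFγ⟩ ⟨F', hF', hFγ'⟩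
        refine ⟨fun q => F q + F' q, hF.add hF', fun p => ?_⟩
        show p.evTop (γ + γ') = F (Ψ p) + F' (Ψ p)
        rw [← hFγ, ← hFγ']
        exact map_add (evHom p ⊤ (Opens.mem_top _)) γ γ'
      zero_mem' := ⟨fun _ => 0, continuous_const, fun p => map_zero (evHom p ⊤ (Opens.mem_top _))⟩
      neg_mem' := by
        rintro γ ⟨F, hF, hFγ⟩
        refine ⟨fun q => - F q, hF.neg, fun p => ?_⟩
        show p.evTop (-γ) = - F (Ψ p)
        rw [← hFγ]
        exact map_neg (evHom p ⊤ (Opens.mem_top _)) γ }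
  have hC : C = ⊤ := by
    rw [eq_top_iff, ← pullback_sections_generated a b, Subring.closure_le]
    rintro γ (⟨u, rfl⟩ | ⟨v, rfl⟩)
    · refine ⟨fun q => q.1.evTop u, (continuous_evTop u).comp continuous_fst, fun p => ?_⟩
      exact (evTop_map (pullback.fst a b) p u).symm
    · refine ⟨fun q => q.2.evTop v, (continuous_evTop v).comp continuous_snd, fun p => ?_⟩
      exact (evTop_map (pullback.snd a b) p v).symm
  intro γ V hV
  obtain ⟨F, hF, hFγ⟩ : γ ∈ C := by rw [hC]; exact Subring.mem_top γ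
  rw [isOpen_induced_iff]
  refine ⟨F ⁻¹' V, hV.preimage hF, ?_⟩
  ext p
  simp only [Set.mem_preimage]
  rw [hFγ]

end affine


section general

variable {X Y S : Scheme.{0}} [X.Over An.SC] [Y.Over An.SC] [S.Over An.SC] (f : X ⟶ S) (g : Y ⟶ S)
  [f.IsOver An.SC] [g.IsOver An.SC]

/-- General case: the ℂ-points of a fibre product carry the topology induced from the product. -/
theorem isInducing_pullback :
    IsInducing (fun z : Pts (pullback f g) =>
      (Pts.map (pullback.fst f g) z, Pts.map (pullback.snd f g) z)) := by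
  apply isInducing_of_local _
    ((Pts.continuous_map (pullback.fst f g)).prodMk (Pts.continuous_map (pullback.snd f g)))
  intro z
  obtain ⟨S₀, hS₀, hzS₀, -⟩ := exists_isAffineOpen_mem_and_subset
    (x := f ((pullback.fst f g) z.pt)) (U := ⊤) (Opens.mem_top _)
  obtain ⟨U, hU, hzU, hUS⟩ := exists_isAffineOpen_mem_and_subset
    (x := (pullback.fst f g) z.pt) (U := f ⁻¹ᵁ S₀) hzS₀
  have hzS₀' : g ((pullback.snd f g) z.pt) ∈ S₀ := by
    have : g ((pullback.snd f g) z.pt) = f ((pullback.fst f g) z.pt) := by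
      rw [← Scheme.Hom.comp_apply, ← Scheme.Hom.comp_apply, pullback.condition]
    rw [this]; exact hzS₀
  obtain ⟨V, hV, hzV, hVS⟩ := exists_isAffineOpen_mem_and_subset
    (x := (pullback.snd f g) z.pt) (U := g ⁻¹ᵁ S₀) hzS₀'
  have e₁ : U ≤ f ⁻¹ᵁ S₀ := hUS
  have e₂ : V ≤ g ⁻¹ᵁ S₀ := hVS
  letI : (U : Scheme.{0}).Over An.SC := ⟨U.ι ≫ (X ↘ An.SC)⟩
  letI : (V : Scheme.{0}).Over An.SC := ⟨V.ι ≫ (Y ↘ An.SC)⟩
  letI : (S₀ : Scheme.{0}).Over An.SC := ⟨S₀.ι ≫ (S ↘ An.SC)⟩
  haveI : U.ι.IsOver An.SC := ⟨rfl⟩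
  haveI : V.ι.IsOver An.SC := ⟨rfl⟩
  haveI : IsAffine (U : Scheme.{0}) := hU
  haveI : IsAffine (V : Scheme.{0}) := hV
  haveI : IsAffine (S₀ : Scheme.{0}) := hS₀
  haveI : (f.resLE S₀ U e₁).IsOver An.SC := ⟨by
    show f.resLE S₀ U e₁ ≫ S₀.ι ≫ (S ↘ An.SC) = U.ι ≫ (X ↘ An.SC)
    rw [← Category.assoc, Scheme.Hom.resLE_comp_ι, Category.assoc, comp_over]⟩
  haveI : (g.resLE S₀ V e₂).IsOver An.SC := ⟨by
    show g.resLE S₀ V e₂ ≫ S₀.ι ≫ (S ↘ An.SC) = V.ι ≫ (Y ↘ An.SC)
    rw [← Category.assoc, Scheme.Hom.resLE_comp_ι, Category.assoc, comp_over]⟩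
  set a := f.resLE S₀ U e₁ with ha
  set b := g.resLE S₀ V e₂ with hb
  set j : pullback a b ⟶ pullback f g := pullback.map a b f g U.ι V.ι S₀.ι
    (Scheme.Hom.resLE_comp_ι f e₁) (Scheme.Hom.resLE_comp_ι g e₂) with hj
  have hjfst : j ≫ pullback.fst f g = pullback.fst a b ≫ U.ι := pullback.lift_fst _ _ _
  have hjsnd : j ≫ pullback.snd f g = pullback.snd a b ≫ V.ι := pullback.lift_snd _ _ _
  haveI : j.IsOver An.SC := ⟨by
    show j ≫ pullback.fst f g ≫ (X ↘ An.SC) = pullback.fst a b ≫ U.ι ≫ (X ↘ An.SC)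
    rw [← Category.assoc, hjfst, Category.assoc]⟩
  have hrange : Set.range j = pullback.fst f g ⁻¹' (U : Set X) ∩ pullback.snd f g ⁻¹' (V : Set Y) := by
    rw [hj, Scheme.Pullback.range_map, Scheme.Opens.range_ι, Scheme.Opens.range_ι]
  refine ⟨Pts (pullback a b), Pts (U : Scheme.{0}) × Pts (V : Scheme.{0}), inferInstance,
    inferInstance, Pts.map j, Prod.map (Pts.map U.ι) (Pts.map V.ι),
    fun p => (Pts.map (pullback.fst a b) p, Pts.map (pullback.snd a b) p),
    isOpenEmbedding_map j, (isOpenEmbedding_map U.ι).prodMap (isOpenEmbedding_map V.ι),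
    isInducing_pullback_affine a b, ?_, ?_, ?_⟩
  · intro p
    apply Prod.ext
    · apply Subtype.ext
      show (p.1 ≫ pullback.fst a b) ≫ U.ι = (p.1 ≫ j) ≫ pullback.fst f g
      rw [Category.assoc, Category.assoc, hjfst]
    · apply Subtype.ext
      show (p.1 ≫ pullback.snd a b) ≫ V.ι = (p.1 ≫ j) ≫ pullback.snd f g
      rw [Category.assoc, Category.assoc, hjsnd]
  · obtain ⟨p, hp⟩ := exists_map_eq_of_isOpenImmersion j z (by
      rw [hrange]; exact ⟨hzU, hzV⟩)
    exact ⟨p, hp⟩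
  · rintro z' ⟨⟨u, v⟩, huv⟩
    obtain ⟨p, hp⟩ := exists_map_eq_of_isOpenImmersion j z' (by
      rw [hrange]
      have h1 : Pts.map U.ι u = Pts.map (pullback.fst f g) z' := congrArg Prod.fst huv
      have h2 : Pts.map V.ι v = Pts.map (pullback.snd f g) z' := congrArg Prod.snd huv
      constructor
      · show (pullback.fst f g) z'.pt ∈ U
        rw [← Pts.pt_map, ← h1, Pts.pt_map]
        exact (u.pt).2
      · show (pullback.snd f g) z'.pt ∈ V
        rw [← Pts.pt_map, ← h2, Pts.pt_map]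
        exact (v.pt).2)
    exact ⟨p, hp⟩

/-- **S4193** (no finiteness needed): ℂ-points commute with fibre products, topologically. -/
theorem isHomeomorph_pullback :
    IsHomeomorph (fun z : Pts (pullback f g) =>
      (⟨(Pts.map (pullback.fst f g) z, Pts.map (pullback.snd f g) z),
        Pts.map_pullback_condition f g z⟩ :
        {q : Pts X × Pts Y // Pts.map f q.1 = Pts.map g q.2})) := by
  rw [isHomeomorph_iff_isEmbedding_surjective]
  refine ⟨⟨?_, ?_⟩, ?_⟩
  · exact (IsInducing.subtypeVal.of_comp_iff).mp (isInducing_pullback f g)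
  · intro z z' h
    have h' := congrArg Subtype.val h
    have h1 : z.1 ≫ pullback.fst f g = z'.1 ≫ pullback.fst f g :=
      congrArg Subtype.val (congrArg Prod.fst h')
    have h2 : z.1 ≫ pullback.snd f g = z'.1 ≫ pullback.snd f g :=
      congrArg Subtype.val (congrArg Prod.snd h')
    exact Subtype.ext (pullback.hom_ext h1 h2)
  · rintro ⟨⟨x, y⟩, hxy⟩
    have hc : x.1 ≫ f = y.1 ≫ g := congrArg Subtype.val hxy
    have hz : pullback.lift x.1 y.1 hc ≫ (pullback f g ↘ An.SC) = 𝟙 An.SC := by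
      show pullback.lift x.1 y.1 hc ≫ pullback.fst f g ≫ (X ↘ An.SC) = 𝟙 An.SC
      rw [pullback.lift_fst_assoc, x.2]
    refine ⟨⟨pullback.lift x.1 y.1 hc, hz⟩, ?_⟩
    apply Subtype.ext
    apply Prod.ext
    · exact Subtype.ext (pullback.lift_fst _ _ _)
    · exact Subtype.ext (pullback.lift_snd _ _ _)

end general

end Groth.Agent.Lib.Helper7.AnTop
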