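import Groth.Agent.Lib.Helper7.AnDense3
import Groth.Agent.Lib.Helper7.AnTop3

set_option autoImplicit false
set_option maxHeartbeats 400000

open CategoryTheory AlgebraicGeometry Topology TopologicalSpace An Limits

namespace Groth.Agent.Lib.Helper7.AnDense

open Groth.Agent.Lib.Helper7 Groth.Agent.Lib.Helper7.AnTop

/-- In a locally Noetherian scheme, locally closed sets are locally constructible. -/
theorem isLocallyConstructible_of_isLocallyClosed {X : Scheme.{0}} [IsLocallyNoetherian X]
    {Z : Set X} (hZ : IsLocallyClosed Z) : IsLocallyConstructible Z := by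
  intro x
  obtain ⟨U, hU, hxU, -⟩ := exists_isAffineOpen_mem_and_subset (x := x) (U := ⊤)
    (Opens.mem_top _)
  haveI : IsNoetherianRing Γ(X, U) := IsLocallyNoetherian.component_noetherian ⟨U, hU⟩
  haveI : NoetherianSpace U := noetherianSpace_of_isAffineOpen U hU
  refine ⟨U, U.2.mem_nhds hxU, U.2, ?_⟩
  have hZU : IsLocallyClosed (Subtype.val ⁻¹' Z : Set U) := hZ.preimage continuous_subtype_val
  obtain ⟨O, C, hO, hC, h⟩ := hZU
  have hretro : ∀ V : Set U, IsRetrocompact V := fun V W _ _ => NoetherianSpace.isCompact _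
  have hCc : IsConstructible C := by
    have := ((hretro Cᶜ).isConstructible hC.isOpen_compl).compl
    rwa [compl_compl] at this
  have h2 := ((hretro O).isConstructible hO).inter hCc
  rw [← h] at h2
  exact h2

variable {X Y : Scheme.{0}} [X.Over An.SC] [LocallyOfFiniteType (X ↘ An.SC)]
  [Y.Over An.SC] [LocallyOfFiniteType (Y ↘ An.SC)]

omit [LocallyOfFiniteType (Y ↘ An.SC)] in
/-- **S4195**. -/
theorem isSeparated_iff (f : X ⟶ Y) [f.IsOver An.SC] :
    IsSeparated f ↔ IsSeparatedMap (Pts.map f) := by
  have hf : LocallyOfFiniteType f := locallyOfFiniteType_of_isOver f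
  haveI : (pullback.diagonal f).IsOver An.SC := ⟨by
    show pullback.diagonal f ≫ pullback.fst f f ≫ (X ↘ An.SC) = X ↘ An.SC
    rw [pullback.diagonal_fst_assoc]⟩
  haveI : LocallyOfFiniteType (pullback f f ↘ An.SC) :=
    inferInstanceAs (LocallyOfFiniteType (pullback.fst f f ≫ (X ↘ An.SC)))
  haveI : IsLocallyNoetherian (pullback f f) := isLocallyNoetherian_of_lft _
  have hh := isHomeomorph_pullback f f
  obtain ⟨e, he⟩ := isHomeomorph_iff_exists_homeomorph.mp hh
  have hrange : Set.range (Pts.map (pullback.diagonal f)) =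
      e ⁻¹' (Pts.map f).pullbackDiagonal := by
    ext z
    have hez := congrFun he z
    rw [Set.mem_preimage, hez]
    change _ ↔ Pts.map (pullback.fst f f) z = Pts.map (pullback.snd f f) z
    constructor
    · rintro ⟨x, rfl⟩
      apply Subtype.ext
      show (x.1 ≫ pullback.diagonal f) ≫ pullback.fst f f =
        (x.1 ≫ pullback.diagonal f) ≫ pullback.snd f f
      rw [Category.assoc, Category.assoc, pullback.diagonal_fst, pullback.diagonal_snd]
    · intro hz
      have hz' : z.1 ≫ pullback.fst f f = z.1 ≫ pullback.snd f f := congrArg Subtype.val hz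
      refine ⟨Pts.map (pullback.fst f f) z, Subtype.ext ?_⟩
      show (z.1 ≫ pullback.fst f f) ≫ pullback.diagonal f = z.1
      apply pullback.hom_ext
      · rw [Category.assoc, pullback.diagonal_fst, Category.comp_id]
      · rw [Category.assoc, pullback.diagonal_snd, Category.comp_id, hz']
  have hlc : IsLocallyConstructible (Set.range (pullback.diagonal f).base) :=
    isLocallyConstructible_of_isLocallyClosed (pullback.diagonal f).isLocallyClosed_range
  rw [isSeparatedMap_iff_isClosed_diagonal, ← e.isClosed_preimage, ← hrange,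
    range_map_eq (pullback.diagonal f), ← isClosed_iff _ hlc]
  constructor
  · intro h
    exact (IsClosedImmersion.iff_isPreimmersion.mp h.isClosedImmersion_diagonal).2
  · intro h
    exact ⟨IsClosedImmersion.of_isPreimmersion (pullback.diagonal f) h⟩

omit [Y.Over An.SC] [LocallyOfFiniteType (Y ↘ An.SC)] in
/-- **S4204**. -/
theorem isSeparated_iff_t2Space :
    IsSeparated (X ↘ An.SC) ↔ T2Space (Pts X) := by
  letI iSC : An.SC.Over An.SC := ⟨𝟙 An.SC⟩
  haveI : LocallyOfFiniteType (An.SC ↘ An.SC) := inferInstanceAs (LocallyOfFiniteType (𝟙 An.SC))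
  haveI : (X ↘ An.SC).IsOver An.SC := ⟨Category.comp_id _⟩
  rw [isSeparated_iff (X ↘ An.SC)]
  set y₀ : Pts An.SC := ⟨𝟙 An.SC, Category.comp_id _⟩ with hy₀
  have hconst : Pts.map (X ↘ An.SC) = fun _ => y₀ := by
    funext x
    apply Subtype.ext
    show x.1 ≫ (X ↘ An.SC) = 𝟙 An.SC
    exact x.2
  rw [hconst]
  exact (t2space_iff_isSeparatedMap y₀).symm

end Groth.Agent.Lib.Helper7.AnDense
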