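import Groth.Agent.Lib.Helper7.AnConn7
import Groth.Agent.Lib.Helper7.AnDense4

set_option autoImplicit false
set_option maxHeartbeats 800000

/-!
# Connectedness: comparison between a scheme over `ℂ` and its space of `ℂ`-points
-/

open CategoryTheory AlgebraicGeometry Topology TopologicalSpace An

namespace Groth.Agent.Lib.Helper7.AnConn

open Groth.Agent.Lib.Helper7 Groth.Agent.Lib.Helper7.AnTop Groth.Agent.Lib.Helper7.AnDense

section topology

/-- In a Noetherian quasi-sober space, a set stable under specialization and generization is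
closed. -/
theorem isClosed_of_stable {U : Type*} [TopologicalSpace U] [NoetherianSpace U] [QuasiSober U]
    (𝒲 : Set U) (hs : StableUnderSpecialization 𝒲) (hg : StableUnderGeneralization 𝒲) :
    IsClosed 𝒲 := by
  have h𝒲 : 𝒲 = ⋃ T ∈ {T ∈ irreducibleComponents U | T ⊆ 𝒲}, T := by
    ext q
    simp only [Set.mem_ofPred_eq, Set.mem_iUnion, exists_prop]
    constructor
    · intro hq
      refine ⟨irreducibleComponent q, ⟨irreducibleComponent_mem_irreducibleComponents q, ?_⟩,
        mem_irreducibleComponent⟩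
      obtain ⟨η, hη⟩ := QuasiSober.sober (isIrreducible_irreducibleComponent (x := q))
        isClosed_irreducibleComponent
      have hηq : η ⤳ q := by
        rw [specializes_iff_mem_closure, hη.def]
        exact mem_irreducibleComponent
      have hη𝒲 : η ∈ 𝒲 := hg hηq hq
      intro q' hq'
      have : η ⤳ q' := by
        rw [specializes_iff_mem_closure, hη.def]
        exact hq'
      exact hs this hη𝒲
    · rintro ⟨T, ⟨-, hT⟩, hqT⟩
      exact hT hqT
  rw [h𝒲]
  refine Set.Finite.isClosed_biUnion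
    (NoetherianSpace.finite_irreducibleComponents.subset (fun T hT => hT.1)) ?_
  intro T hT
  exact isClosed_of_mem_irreducibleComponents T hT.1

/-- In a locally Noetherian scheme, a set stable under specialization and generization is open. -/
theorem isOpen_of_stable {X : Scheme.{0}} [IsLocallyNoetherian X] (𝒱 : Set X)
    (hs : StableUnderSpecialization 𝒱) (hg : StableUnderGeneralization 𝒱) : IsOpen 𝒱 := by
  rw [isOpen_iff_forall_mem_open]
  intro p hp
  obtain ⟨U, hU, hpU, -⟩ := exists_isAffineOpen_mem_and_subset (x := p) (U := ⊤)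
    (Opens.mem_top _)
  haveI : IsNoetherianRing Γ(X, U) := IsLocallyNoetherian.component_noetherian ⟨U, hU⟩
  haveI : NoetherianSpace U := noetherianSpace_of_isAffineOpen U hU
  haveI : QuasiSober U := U.2.isOpenEmbedding_subtypeVal.quasiSober
  have h1 : IsClosed ((Subtype.val ⁻¹' 𝒱)ᶜ : Set U) := by
    apply isClosed_of_stable
    · rw [stableUnderSpecialization_compl_iff]
      exact hg.preimage continuous_subtype_val
    · rw [stableUnderGeneralization_compl_iff]
      exact hs.preimage continuous_subtype_val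
  have h2 : IsOpen (Subtype.val ⁻¹' 𝒱 : Set U) := isClosed_compl_iff.mp h1
  refine ⟨Subtype.val '' (Subtype.val ⁻¹' 𝒱 : Set U), ?_, U.2.isOpenMap_subtype_val _ h2,
    ⟨⟨p, hpU⟩, hp, rfl⟩⟩
  rintro _ ⟨q, hq, rfl⟩
  exact hq

end topology

variable {X : Scheme.{0}} [X.Over An.SC]

/-- Affine case: the `ℂ`-points of the closure of a point form a connected set. -/
theorem isPreconnected_preimage_closure_of_isAffine [IsAffine X]
    [LocallyOfFiniteType (X ↘ An.SC)] (p : X) :
    IsPreconnected (Pts.pt ⁻¹' closure ({p} : Set X) : Set (Pts X)) := by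
  obtain ⟨n, g, hg⟩ := exists_generators (X := X)
  have hemb := isClosedEmbedding_of_generators n g hg
  rw [← hemb.isInducing.isPreconnected_image]
  set 𝔭 : Ideal Γ(X, ⊤) := ((isAffineOpen_top X).primeIdealOf ⟨p, trivial⟩).asIdeal with h𝔭def
  haveI : 𝔭.IsPrime := PrimeSpectrum.isPrime _
  have hmem : ∀ f : Γ(X, ⊤), p ∈ X.basicOpen f ↔ f ∉ 𝔭 := by
    intro f
    have h1 : (isAffineOpen_top X).fromSpec ((isAffineOpen_top X).primeIdealOf ⟨p, trivial⟩) = p :=
      (isAffineOpen_top X).fromSpec_primeIdealOf ⟨p, trivial⟩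
    have h2 := (isAffineOpen_top X).fromSpec_preimage_basicOpen f
    constructor
    · intro hpf
      have h3 : (isAffineOpen_top X).primeIdealOf ⟨p, trivial⟩ ∈
          (isAffineOpen_top X).fromSpec ⁻¹ᵁ X.basicOpen f := by
        show (isAffineOpen_top X).fromSpec _ ∈ X.basicOpen f
        rw [h1]; exact hpf
      rw [h2] at h3
      exact h3
    · intro hf
      have h3 : (isAffineOpen_top X).primeIdealOf ⟨p, trivial⟩ ∈
          (isAffineOpen_top X).fromSpec ⁻¹ᵁ X.basicOpen f := by
        rw [h2]; exact hf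
      have h4 : (isAffineOpen_top X).fromSpec _ ∈ X.basicOpen f := h3
      rwa [h1] at h4
  have hcl : ∀ q : X, q ∈ closure ({p} : Set X) ↔
      ∀ f : Γ(X, ⊤), q ∈ X.basicOpen f → p ∈ X.basicOpen f := by
    intro q
    constructor
    · intro hq f hqf
      obtain ⟨p', hp', hp'2⟩ := mem_closure_iff.mp hq (X.basicOpen f) (X.basicOpen f).2 hqf
      rw [Set.mem_singleton_iff] at hp'2
      rw [← hp'2]; exact hp'
    · intro H
      rw [mem_closure_iff]
      intro o ho hqo
      obtain ⟨_, ⟨f, rfl⟩, hqf, hfo⟩ := Opens.isBasis_iff_nbhd.mp (isBasis_basicOpen X)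
        (show q ∈ (⟨o, ho⟩ : X.Opens) from hqo)
      exact ⟨p, hfo (H f hqf), rfl⟩
  have hset : (fun (x : Pts X) (i : Fin n) => x.evTop (g i)) ''
      (Pts.pt ⁻¹' closure ({p} : Set X)) =
      {z | ∃ y : Γ(X, ⊤) →+* ℂ, (∀ c, y (An.strHom X c) = c) ∧ 𝔭 ≤ RingHom.ker y ∧
        ∀ i, y (g i) = z i} := by
    ext z
    constructor
    · rintro ⟨x, hx, rfl⟩
      refine ⟨evHom x ⊤ (Opens.mem_top _), fun c => evTop_strHom x c, ?_, fun i => rfl⟩
      intro f hf
      rw [RingHom.mem_ker]
      by_contra hne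
      have hxf : x.pt ∈ X.basicOpen f := (mem_basicOpen_iff x ⊤ (Opens.mem_top _) f).mpr hne
      exact ((hmem f).mp ((hcl x.pt).mp hx f hxf)) hf
    · rintro ⟨y, hyσ, hy𝔭, hz⟩
      obtain ⟨x, hx⟩ := exists_pts_of_ringHom y hyσ
      refine ⟨x, ?_, ?_⟩
      · rw [Set.mem_preimage, hcl]
        intro f hf
        rw [hmem]
        intro hf𝔭
        have h1 : x.evTop f ≠ 0 := (mem_basicOpen_iff x ⊤ (Opens.mem_top _) f).mp hf
        apply h1
        rw [hx]
        exact hy𝔭 hf𝔭
      · funext i
        show x.evTop (g i) = z i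
        rw [hx]; exact hz i
  rw [hset]
  exact isPreconnected_ringHom (An.strHom X) n g hg 𝔭

variable [LocallyOfFiniteType (X ↘ An.SC)]

/-- A nonempty locally closed subset contains the underlying point of a `ℂ`-point. -/
theorem exists_pt_mem_of_isLocallyClosed {S : Set X} (hS : IsLocallyClosed S) (hne : S.Nonempty) :
    ∃ x : Pts X, x.pt ∈ S := by
  haveI := isLocallyNoetherian_of_lft X
  exact exists_pt_mem_of_isLocallyConstructible (isLocallyConstructible_of_isLocallyClosed hS) hne

/-- The `ℂ`-points of the closure of a point form a connected set. -/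
theorem isPreconnected_preimage_closure (p : X) :
    IsPreconnected (Pts.pt ⁻¹' closure ({p} : Set X) : Set (Pts X)) := by
  have hpiece : ∀ W : X.Opens, IsAffineOpen W → p ∈ W →
      IsPreconnected (Pts.pt ⁻¹' (closure ({p} : Set X) ∩ W) : Set (Pts X)) := by
    intro W hW hpW
    letI : (W : Scheme.{0}).Over An.SC := ⟨W.ι ≫ (X ↘ An.SC)⟩
    haveI : W.ι.IsOver An.SC := ⟨rfl⟩
    haveI : IsAffine (W : Scheme.{0}) := hW
    haveI : LocallyOfFiniteType ((W : Scheme.{0}) ↘ An.SC) :=
      inferInstanceAs (LocallyOfFiniteType (W.ι ≫ (X ↘ An.SC)))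
    let p₀ : (W : Scheme.{0}) := ⟨p, hpW⟩
    have hp₀ : W.ι p₀ = p := rfl
    have h1 := isPreconnected_preimage_closure_of_isAffine (X := (W : Scheme.{0})) p₀
    have h2 := h1.image (Pts.map W.ι) (Pts.continuous_map W.ι).continuousOn
    have hoe := W.ι.isOpenEmbedding
    have hcl : ∀ y : (W : Scheme.{0}), y ∈ closure ({p₀} : Set (W : Scheme.{0})) ↔
        W.ι y ∈ closure ({p} : Set X) := by
      intro y
      rw [hoe.isInducing.closure_eq_preimage_closure_image, Set.image_singleton, hp₀]
      rfl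
    convert h2 using 1
    ext x
    constructor
    · rintro ⟨hx1, hx2⟩
      obtain ⟨x₀, rfl⟩ := exists_map_eq_of_isOpenImmersion W.ι x (by
        rw [Scheme.Opens.range_ι]; exact hx2)
      refine ⟨x₀, ?_, rfl⟩
      have hx1' : (Pts.map W.ι x₀).pt ∈ closure ({p} : Set X) := hx1
      rw [Pts.pt_map] at hx1'
      exact (hcl x₀.pt).mpr hx1'
    · rintro ⟨x₀, hx₀, rfl⟩
      have hx₀' : W.ι x₀.pt ∈ closure ({p} : Set X) := (hcl x₀.pt).mp hx₀
      refine ⟨?_, ?_⟩
      · show (Pts.map W.ι x₀).pt ∈ closure ({p} : Set X)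
        rw [Pts.pt_map]; exact hx₀'
      · show (Pts.map W.ι x₀).pt ∈ (W : Set X)
        rw [Pts.pt_map]; exact (x₀.pt).2
  apply isPreconnected_of_forall_pair
  intro x hx y hy
  obtain ⟨Wx, hWx, hxW, -⟩ := exists_isAffineOpen_mem_and_subset (x := x.pt) (U := ⊤)
    (Opens.mem_top _)
  obtain ⟨Wy, hWy, hyW, -⟩ := exists_isAffineOpen_mem_and_subset (x := y.pt) (U := ⊤)
    (Opens.mem_top _)
  have hp_of : ∀ (z : Pts X) (W : X.Opens), z ∈ (Pts.pt ⁻¹' closure ({p} : Set X)) →
      z.pt ∈ W → p ∈ W := by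
    intro z W hz hzW
    obtain ⟨p', hp', hp'2⟩ := mem_closure_iff.mp hz W W.2 hzW
    rw [Set.mem_singleton_iff] at hp'2
    rw [← hp'2]; exact hp'
  have hpx : p ∈ Wx := hp_of x Wx hx hxW
  have hpy : p ∈ Wy := hp_of y Wy hy hyW
  obtain ⟨z, hz⟩ := exists_pt_mem_of_isLocallyClosed
    (S := closure ({p} : Set X) ∩ ((Wx : Set X) ∩ Wy))
    (isClosed_closure.isLocallyClosed.inter (Wx.2.inter Wy.2).isLocallyClosed)
    ⟨p, subset_closure rfl, hpx, hpy⟩
  refine ⟨Pts.pt ⁻¹' (closure ({p} : Set X) ∩ Wx) ∪ Pts.pt ⁻¹' (closure ({p} : Set X) ∩ Wy),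
    ?_, Or.inl ⟨hx, hxW⟩, Or.inr ⟨hy, hyW⟩,
    IsPreconnected.union z ⟨hz.1, hz.2.1⟩ ⟨hz.1, hz.2.2⟩ (hpiece Wx hWx hpx) (hpiece Wy hWy hpy)⟩
  rintro w (hw | hw)
  · exact hw.1
  · exact hw.1

/-- The `ℂ`-points of the closure of a point form a nonempty set. -/
theorem nonempty_preimage_closure (p : X) :
    (Pts.pt ⁻¹' closure ({p} : Set X) : Set (Pts X)).Nonempty :=
  exists_pt_mem_of_isLocallyClosed isClosed_closure.isLocallyClosed ⟨p, subset_closure rfl⟩

/-- Key injectivity statement: two `ℂ`-points whose underlying points lie in the same connected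
component of `X` lie in the same connected component of `X(ℂ)`. -/
theorem mem_connectedComponent_of_pt_mem (x x' : Pts X)
    (h : x'.pt ∈ connectedComponent x.pt) : x' ∈ connectedComponent x := by
  haveI := isLocallyNoetherian_of_lft X
  set 𝒱 : Set X := {p | Pts.pt ⁻¹' closure ({p} : Set X) ⊆ connectedComponent x} with h𝒱
  have hiff : ∀ p, p ∈ 𝒱 ↔ ∃ y ∈ connectedComponent x, y.pt ∈ closure ({p} : Set X) := by
    intro p
    constructor
    · intro hp
      obtain ⟨y, hy⟩ := nonempty_preimage_closure p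
      exact ⟨y, hp hy, hy⟩
    · rintro ⟨y, hyc, hy⟩ z hz
      have h1 := (isPreconnected_preimage_closure p).subset_connectedComponent
        (show y ∈ Pts.pt ⁻¹' closure ({p} : Set X) from hy)
      rw [connectedComponent_eq hyc]
      exact h1 hz
  have hsub : ∀ p q : X, p ⤳ q → closure ({q} : Set X) ⊆ closure ({p} : Set X) := by
    intro p q hpq
    exact closure_minimal (Set.singleton_subset_iff.mpr (specializes_iff_mem_closure.mp hpq))
      isClosed_closure
  have hspec : StableUnderSpecialization 𝒱 := by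
    intro p q hpq hp z hz
    exact hp (hsub p q hpq hz)
  have hgen : StableUnderGeneralization 𝒱 := by
    intro p q hqp hp
    rw [hiff]
    obtain ⟨y, hy⟩ := nonempty_preimage_closure p
    exact ⟨y, hp hy, hsub q p hqp hy⟩
  have hopen : IsOpen 𝒱 := isOpen_of_stable 𝒱 hspec hgen
  have hclosed : IsClosed 𝒱 := by
    rw [← isOpen_compl_iff]
    exact isOpen_of_stable 𝒱ᶜ (stableUnderSpecialization_compl_iff.mpr hgen)
      (stableUnderGeneralization_compl_iff.mpr hspec)
  have hx𝒱 : x.pt ∈ 𝒱 := (hiff _).mpr ⟨x, mem_connectedComponent, subset_closure rfl⟩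
  have hsub' : connectedComponent x.pt ⊆ 𝒱 :=
    IsClopen.connectedComponent_subset ⟨hclosed, hopen⟩ hx𝒱
  exact hsub' h (show x' ∈ Pts.pt ⁻¹' closure ({x'.pt} : Set X) from subset_closure rfl)

/-- **S4192**: `π₀(X(ℂ)) → π₀(X)` is bijective. -/
theorem connectedComponentsMap_bijective :
    Function.Bijective (Pts.continuous_pt (X := X)).connectedComponentsMap := by
  constructor
  · intro a b hab
    obtain ⟨x, rfl⟩ := ConnectedComponents.surjective_coe a
    obtain ⟨x', rfl⟩ := ConnectedComponents.surjective_coe b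
    rw [Continuous.connectedComponentsMap_mk, Continuous.connectedComponentsMap_mk,
      ConnectedComponents.coe_eq_coe'] at hab
    exact (ConnectedComponents.coe_eq_coe'.mpr
      (mem_connectedComponent_of_pt_mem x' x hab))
  · intro c
    obtain ⟨p, rfl⟩ := ConnectedComponents.surjective_coe c
    obtain ⟨y, hy⟩ := nonempty_preimage_closure p
    refine ⟨ConnectedComponents.mk y, ?_⟩
    rw [Continuous.connectedComponentsMap_mk, ConnectedComponents.coe_eq_coe']
    exact (isPreconnected_singleton.closure).subset_connectedComponent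
      (subset_closure rfl) hy

/-- **S4191**: `X` is connected iff `X(ℂ)` is. -/
theorem connectedSpace_iff : ConnectedSpace ↥X ↔ ConnectedSpace (Pts X) := by
  constructor
  · intro hX
    obtain ⟨p⟩ := hX.toNonempty
    obtain ⟨x, -⟩ := nonempty_preimage_closure p
    haveI : Nonempty (Pts X) := ⟨x⟩
    haveI : PreconnectedSpace (Pts X) := by
      refine ⟨?_⟩
      have h1 : (Set.univ : Set (Pts X)) = connectedComponent x := by
        symm
        rw [Set.eq_univ_iff_forall]
        intro x'
        apply mem_connectedComponent_of_pt_mem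
        rw [PreconnectedSpace.connectedComponent_eq_univ]
        trivial
      rw [h1]
      exact isPreconnected_connectedComponent
    exact { toNonempty := inferInstance }
  · intro hP
    obtain ⟨x⟩ := hP.toNonempty
    haveI : Nonempty X := ⟨x.pt⟩
    haveI := jacobsonSpace_of_lft X
    haveI : PreconnectedSpace X := by
      refine DenseRange.preconnectedSpace (f := Pts.pt (X := X)) ?_ Pts.continuous_pt
      rw [DenseRange, dense_iff_closure_eq, range_pt, closure_closedPoints]
    exact { toNonempty := inferInstance }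

end Groth.Agent.Lib.Helper7.AnConn
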