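import Groth.Agent.Lib.Helper7.AnConn8
import Mathlib.AlgebraicGeometry.Morphisms.FlatMono
import Mathlib.AlgebraicGeometry.Morphisms.FormallyUnramified
import Mathlib.AlgebraicGeometry.Morphisms.Etale
import Mathlib.AlgebraicGeometry.Morphisms.IsIso

set_option autoImplicit false
set_option maxHeartbeats 800000

/-!
# Clopen sets, and morphisms determined by their action on `ℂ`-points
-/

open CategoryTheory AlgebraicGeometry Topology TopologicalSpace An Limits

namespace Groth.Agent.Lib.Helper7.AnConn

open Groth.Agent.Lib.Helper7 Groth.Agent.Lib.Helper7.AnTop Groth.Agent.Lib.Helper7.AnDense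

variable {X : Scheme.{0}} [X.Over An.SC] [LocallyOfFiniteType (X ↘ An.SC)]

/-- Clopen subsets of `X(ℂ)` come from clopen subsets of `X`. -/
theorem exists_isClopen_preimage_eq (Γ : Set (Pts X)) (hΓ : IsClopen Γ) :
    ∃ W₀ : Set X, IsClopen W₀ ∧ Pts.pt ⁻¹' W₀ = Γ := by
  haveI := isLocallyNoetherian_of_lft X
  set 𝒱 : Set X := {p | Pts.pt ⁻¹' closure ({p} : Set X) ⊆ Γ} with h𝒱
  have hiff : ∀ p, p ∈ 𝒱 ↔ ∃ y ∈ Γ, y.pt ∈ closure ({p} : Set X) := by
    intro p
    constructor
    · intro hp
      obtain ⟨y, hy⟩ := nonempty_preimage_closure p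
      exact ⟨y, hp hy, hy⟩
    · rintro ⟨y, hyc, hy⟩
      exact (isPreconnected_preimage_closure p).subset_isClopen hΓ ⟨y, hy, hyc⟩
  have hsub : ∀ p q : X, p ⤳ q → closure ({q} : Set X) ⊆ closure ({p} : Set X) := by
    intro p q hpq
    exact closure_minimal (Set.singleton_subset_iff.mpr (specializes_iff_mem_closure.mp hpq))
      isClosed_closure
  have hspec : StableUnderSpecialization 𝒱 := by
    intro p q hpq hp z hz
    exact hp (hsub p q hpq hz)
  have hgen : StableUnderGeneralization 𝒱 := by
    intro p q hqp hp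
    rw [hiff]
    obtain ⟨y, hy⟩ := nonempty_preimage_closure p
    exact ⟨y, hp hy, hsub q p hqp hy⟩
  have hopen : IsOpen 𝒱 := isOpen_of_stable 𝒱 hspec hgen
  have hclosed : IsClosed 𝒱 := by
    rw [← isOpen_compl_iff]
    exact isOpen_of_stable 𝒱ᶜ (stableUnderSpecialization_compl_iff.mpr hgen)
      (stableUnderGeneralization_compl_iff.mpr hspec)
  refine ⟨𝒱, ⟨hclosed, hopen⟩, ?_⟩
  ext x
  constructor
  · intro hx
    exact hx (show x ∈ Pts.pt ⁻¹' closure ({x.pt} : Set X) from subset_closure rfl)
  · intro hx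
    exact (hiff _).mpr ⟨x, hx, subset_closure rfl⟩

/-- An open subset containing all `ℂ`-points is everything. -/
theorem eq_univ_of_forall_pt_mem (O : Set X) (hO : IsOpen O) (h : ∀ x : Pts X, x.pt ∈ O) :
    O = Set.univ := by
  by_contra hne
  rw [← ne_eq, Set.ne_univ_iff_exists_notMem] at hne
  obtain ⟨x, hx⟩ := exists_pt_mem_of_isLocallyClosed (S := Oᶜ) hO.isClosed_compl.isLocallyClosed hne
  exact hx (h x)

/-- Two morphisms into an étale `S`-scheme which agree on `ℂ`-points are equal. -/
theorem eq_of_forall_pts_comp_eq {V S : Scheme.{0}} (v : V ⟶ S) [Etale v] (a b : X ⟶ V)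
    (hab : a ≫ v = b ≫ v) (h : ∀ w : Pts X, w.1 ≫ a = w.1 ≫ b) : a = b := by
  set Δ := pullback.diagonal v with hΔ
  haveI : IsOpenImmersion Δ := inferInstance
  set ab : X ⟶ pullback v v := pullback.lift a b hab with habdef
  have hrange : Set.range ab ⊆ Set.range Δ := by
    have hO : ab ⁻¹' (Set.range Δ) = Set.univ := by
      apply eq_univ_of_forall_pt_mem _ (Δ.isOpenEmbedding.isOpen_range.preimage ab.continuous)
      intro w
      have h1 : w.1 ≫ ab = (w.1 ≫ a) ≫ Δ := by
        apply pullback.hom_ext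
        · rw [Category.assoc, pullback.lift_fst, Category.assoc, pullback.diagonal_fst,
            Category.comp_id]
        · rw [Category.assoc, pullback.lift_snd, Category.assoc, pullback.diagonal_snd,
            Category.comp_id, h w]
      refine ⟨(w.1 ≫ a) An.cpt, ?_⟩
      rw [← Scheme.Hom.comp_apply, ← h1, Scheme.Hom.comp_apply]
      rfl
    rintro _ ⟨x, rfl⟩
    have : x ∈ ab ⁻¹' (Set.range Δ) := by rw [hO]; trivial
    exact this
  have hk := IsOpenImmersion.lift_fac Δ ab hrange
  have hf : Δ ≫ pullback.fst v v = 𝟙 V := pullback.diagonal_fst v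
  have hs : Δ ≫ pullback.snd v v = 𝟙 V := pullback.diagonal_snd v
  have h1 : a = IsOpenImmersion.lift Δ ab hrange :=
    calc a = ab ≫ pullback.fst v v := (pullback.lift_fst _ _ _).symm
      _ = (IsOpenImmersion.lift Δ ab hrange ≫ Δ) ≫ pullback.fst v v := by rw [hk]
      _ = IsOpenImmersion.lift Δ ab hrange := by rw [Category.assoc, hf, Category.comp_id]
  have h2 : b = IsOpenImmersion.lift Δ ab hrange :=
    calc b = ab ≫ pullback.snd v v := (pullback.lift_snd _ _ _).symm
      _ = (IsOpenImmersion.lift Δ ab hrange ≫ Δ) ≫ pullback.snd v v := by rw [hk]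
      _ = IsOpenImmersion.lift Δ ab hrange := by rw [Category.assoc, hs, Category.comp_id]
  rw [h1, ← h2]

variable {Y : Scheme.{0}} [Y.Over An.SC] [LocallyOfFiniteType (Y ↘ An.SC)]

/-- An étale morphism which is bijective on `ℂ`-points is an isomorphism. -/
theorem isIso_of_etale_of_bijective (q : X ⟶ Y) [q.IsOver An.SC] [Etale q]
    (hq : Function.Bijective (Pts.map q)) : IsIso q := by
  haveI : LocallyOfFiniteType (pullback q q ↘ An.SC) :=
    inferInstanceAs (LocallyOfFiniteType (pullback.fst q q ≫ (X ↘ An.SC)))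
  have hfs : pullback.fst q q = pullback.snd q q := by
    apply eq_of_forall_pts_comp_eq (X := pullback q q) q _ _ pullback.condition
    intro z
    have h1 := Pts.map_pullback_condition q q z
    have h2 := hq.1 h1
    exact congrArg Subtype.val h2
  haveI : Mono q := by
    refine ⟨fun {T} a b hab => ?_⟩
    calc a = pullback.lift a b hab ≫ pullback.fst q q := (pullback.lift_fst _ _ _).symm
      _ = pullback.lift a b hab ≫ pullback.snd q q := by rw [hfs]
      _ = b := pullback.lift_snd _ _ _
  haveI : IsOpenImmersion q := IsOpenImmersion.of_flat_of_mono q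
  rw [isIso_iff_isOpenImmersion_and_surjective]
  refine ⟨inferInstance, ⟨?_⟩⟩
  have hO : Set.range q = Set.univ := by
    apply eq_univ_of_forall_pt_mem _ q.isOpenEmbedding.isOpen_range
    intro y
    obtain ⟨x, rfl⟩ := hq.2 y
    exact ⟨x.pt, (Pts.pt_map q x).symm⟩
  intro y
  have : y ∈ Set.range q := by rw [hO]; trivial
  exact this

end Groth.Agent.Lib.Helper7.AnConn
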