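import Mathlib

set_option autoImplicit false
set_option maxHeartbeats 400000

open Filter Topology

namespace Groth.Agent.Lib.Helper7.AnDense

/-! ### Elementary lemmas on complex polynomials -/

theorem pow_card_le_norm_prod (ε : ℝ) (hε : 0 ≤ ε) (m : Multiset ℂ) (hm : ∀ t ∈ m, ε ≤ ‖t‖) :
    ε ^ (Multiset.card m) ≤ ‖m.prod‖ := by
  induction m using Multiset.induction_on with
  | empty => simp
  | cons a s ih =>
    rw [Multiset.card_cons, Multiset.prod_cons, norm_mul, pow_succ']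
    exact mul_le_mul (hm a (Multiset.mem_cons_self a s))
      (ih (fun t ht => hm t (Multiset.mem_cons_of_mem ht))) (pow_nonneg hε _) (norm_nonneg a)

/-- A monic complex polynomial with small constant coefficient has a small root. -/
theorem exists_small_root (p : Polynomial ℂ) (hp : p.Monic) (ε : ℝ) (hε : 0 < ε)
    (h0 : ‖p.coeff 0‖ < ε ^ p.natDegree) : ∃ t : ℂ, p.IsRoot t ∧ ‖t‖ < ε := by
  by_contra hcon
  push Not at hcon
  have hs : p.Splits := IsAlgClosed.splits p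
  have h1 := hs.coeff_zero_eq_prod_roots_of_monic hp
  have h3 := pow_card_le_norm_prod ε hε.le p.roots
    (fun t ht => hcon t (Polynomial.isRoot_of_mem_roots ht))
  rw [← hs.natDegree_eq_card_roots] at h3
  have h4 : ‖p.coeff 0‖ = ‖p.roots.prod‖ := by
    rw [h1, norm_mul, norm_pow, norm_neg, norm_one, one_pow, one_mul]
  linarith

/-- Cauchy's root bound, real form. -/
theorem norm_le_of_isRoot (p : Polynomial ℂ) (hp : p.Monic) (t : ℂ) (ht : p.IsRoot t) (M : ℝ)
    (hM0 : 0 ≤ M) (hM : ∀ i ∈ Finset.range p.natDegree, ‖p.coeff i‖ ≤ M) : ‖t‖ ≤ M + 1 := by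
  have h1 := Polynomial.IsRoot.norm_lt_cauchyBound hp.ne_zero ht
  set M' : NNReal := Real.toNNReal M with hM'
  have h2 : Polynomial.cauchyBound p ≤ M' + 1 := by
    unfold Polynomial.cauchyBound
    rw [hp.leadingCoeff, nnnorm_one, div_one]
    gcongr
    apply Finset.sup_le
    intro i hi
    rw [← NNReal.coe_le_coe, coe_nnnorm, hM', Real.coe_toNNReal _ hM0]
    exact hM i hi
  have h3 := NNReal.coe_lt_coe.mpr (h1.trans_le h2)
  rw [coe_nnnorm, NNReal.coe_add, hM', Real.coe_toNNReal _ hM0, NNReal.coe_one] at h3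
  exact h3.le

/-! ### Lifting points along integral extensions -/

theorem exists_lift_of_integral {R' S : Type*} [CommRing R'] [CommRing S] (ι : R' →+* S)
    (hι : ι.IsIntegral) (hinj : Function.Injective ι) (ψ : R' →+* ℂ)
    (hψ : Function.Surjective ψ) : ∃ y : S →+* ℂ, ∀ r, y (ι r) = ψ r := by
  letI : Algebra R' S := ι.toAlgebra
  haveI : Algebra.IsIntegral R' S := ⟨hι⟩
  haveI hmax : (RingHom.ker ψ).IsMaximal := RingHom.ker_isMaximal_of_surjective ψ hψ
  have hker : RingHom.ker (algebraMap R' S) ≤ RingHom.ker ψ := by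
    have : RingHom.ker (algebraMap R' S) = ⊥ := (RingHom.injective_iff_ker_eq_bot _).mp hinj
    rw [this]; exact bot_le
  obtain ⟨Q, hQmax, hQ⟩ :=
    Ideal.exists_ideal_over_maximal_of_isIntegral (S := S) (RingHom.ker ψ) hker
  haveI := hQmax
  set π : S →+* S ⧸ Q := Ideal.Quotient.mk Q with hπ
  have hle : RingHom.ker ψ ≤ RingHom.ker (π.comp ι) := by
    intro r hr
    rw [RingHom.mem_ker, RingHom.comp_apply, hπ, Ideal.Quotient.eq_zero_iff_mem]
    have : r ∈ Q.comap (algebraMap R' S) := by rw [hQ]; exact hr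
    exact this
  set j : ℂ →+* S ⧸ Q := ψ.liftOfSurjective hψ ⟨π.comp ι, hle⟩ with hjdef
  have hj : ∀ r, j (ψ r) = π (ι r) := fun r =>
    RingHom.liftOfSurjective_comp_apply ψ hψ ⟨π.comp ι, hle⟩ r
  have hjint : j.IsIntegral := by
    have h1 : (π.comp ι).IsIntegral := RingHom.IsIntegral.trans ι π hι
      (RingHom.isIntegral_of_surjective π Ideal.Quotient.mk_surjective)
    have h2 : j.comp ψ = π.comp ι := RingHom.ext hj
    rw [← h2] at h1
    exact RingHom.IsIntegral.tower_top ψ j h1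
  have hbij : Function.Bijective j := IsAlgClosed.ringHom_bijective_of_isIntegral j hjint
  let e : ℂ ≃+* S ⧸ Q := RingEquiv.ofBijective j hbij
  refine ⟨(e.symm : S ⧸ Q →+* ℂ).comp π, fun r => ?_⟩
  rw [RingHom.comp_apply, ← hj r]
  exact e.symm_apply_apply (ψ r)

section main

variable {d : ℕ} {B : Type*} [CommRing B] [IsDomain B] [Algebra ℂ B]
  [Algebra (MvPolynomial (Fin d) ℂ) B] [IsScalarTower ℂ (MvPolynomial (Fin d) ℂ) B]
  [Algebra.IsIntegral (MvPolynomial (Fin d) ℂ) B] [FaithfulSMul (MvPolynomial (Fin d) ℂ) B]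

/-- Projection of a point of `B` to `ℂ^d`. -/
noncomputable def proj (d : ℕ) {B : Type*} [CommRing B] [Algebra ℂ B]
    [Algebra (MvPolynomial (Fin d) ℂ) B] (y : B →ₐ[ℂ] ℂ) : Fin d → ℂ :=
  fun i => y (algebraMap (MvPolynomial (Fin d) ℂ) B (MvPolynomial.X i))

omit [IsDomain B] [Algebra.IsIntegral (MvPolynomial (Fin d) ℂ) B]
  [FaithfulSMul (MvPolynomial (Fin d) ℂ) B] in
theorem apply_algebraMap (y : B →ₐ[ℂ] ℂ) (p : MvPolynomial (Fin d) ℂ) :
    y (algebraMap (MvPolynomial (Fin d) ℂ) B p) = MvPolynomial.eval (proj d y) p := by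
  have h : ((y : B →+* ℂ).comp (algebraMap (MvPolynomial (Fin d) ℂ) B)) =
      MvPolynomial.eval (proj d y) := by
    apply MvPolynomial.ringHom_ext
    · intro c
      rw [RingHom.comp_apply, MvPolynomial.eval_C, ← MvPolynomial.algebraMap_eq,
        ← IsScalarTower.algebraMap_apply ℂ (MvPolynomial (Fin d) ℂ) B c]
      exact y.commutes c
    · intro i
      rw [RingHom.comp_apply, MvPolynomial.eval_X]
      rfl
  exact RingHom.congr_fun h p

omit [IsDomain B] [Algebra.IsIntegral (MvPolynomial (Fin d) ℂ) B]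
  [FaithfulSMul (MvPolynomial (Fin d) ℂ) B] in
theorem eval₂_point (y : B →ₐ[ℂ] ℂ) (b : B) (Q : Polynomial (MvPolynomial (Fin d) ℂ))
    (hQ : Q.eval₂ (algebraMap (MvPolynomial (Fin d) ℂ) B) b = 0) :
    Q.eval₂ (MvPolynomial.eval (proj d y)) (y b) = 0 := by
  have h := congrArg (y : B →+* ℂ) hQ
  rw [Polynomial.hom_eval₂, map_zero] at h
  have h2 : ((y : B →+* ℂ).comp (algebraMap (MvPolynomial (Fin d) ℂ) B)) =
      MvPolynomial.eval (proj d y) := RingHom.ext (apply_algebraMap y)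
  rw [h2] at h
  exact h

omit [Algebra ℂ B] [IsScalarTower ℂ (MvPolynomial (Fin d) ℂ) B]
  [FaithfulSMul (MvPolynomial (Fin d) ℂ) B] in
/-- A nonzero element of `B` divides a nonzero element of the polynomial ring. -/
theorem exists_ne_zero_dvd (h : B) (hh : h ≠ 0) : ∃ a : MvPolynomial (Fin d) ℂ, a ≠ 0 ∧
    ∃ b : B, algebraMap (MvPolynomial (Fin d) ℂ) B a = b * h := by
  have h1 := Ideal.comap_ne_bot_of_integral_mem (R := MvPolynomial (Fin d) ℂ) hh
    (Ideal.mem_span_singleton_self h) (Algebra.IsIntegral.isIntegral h)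
  obtain ⟨a, ha, ha0⟩ := Submodule.exists_mem_ne_zero_of_ne_bot h1
  rw [Ideal.mem_comap, Ideal.mem_span_singleton'] at ha
  obtain ⟨b, hb⟩ := ha
  exact ⟨a, ha0, b, hb.symm⟩

/-- Every root of the specialised minimal polynomial comes from a point. -/
theorem exists_point_of_root (g : B) (z : Fin d → ℂ) (t : ℂ)
    (ht : ((minpoly (MvPolynomial (Fin d) ℂ) g).map (MvPolynomial.eval z)).IsRoot t) :
    ∃ y : B →ₐ[ℂ] ℂ, proj d y = z ∧ y g = t := by
  have hg : IsIntegral (MvPolynomial (Fin d) ℂ) g := Algebra.IsIntegral.isIntegral g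
  have hPg : (minpoly (MvPolynomial (Fin d) ℂ) g).eval₂
      (algebraMap (MvPolynomial (Fin d) ℂ) B) g = 0 := by
    rw [← Polynomial.aeval_def]; exact minpoly.aeval _ g
  set ι : AdjoinRoot (minpoly (MvPolynomial (Fin d) ℂ) g) →+* B :=
    AdjoinRoot.lift (algebraMap (MvPolynomial (Fin d) ℂ) B) g hPg with hιdef
  have hιof : ∀ a, ι (AdjoinRoot.of _ a) = algebraMap (MvPolynomial (Fin d) ℂ) B a :=
    fun a => AdjoinRoot.lift_of hPg
  have hιroot : ι (AdjoinRoot.root _) = g := AdjoinRoot.lift_root hPg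
  have hιint : ι.IsIntegral := by
    have h1 : (ι.comp (AdjoinRoot.of _)).IsIntegral := by
      have : ι.comp (AdjoinRoot.of _) = algebraMap (MvPolynomial (Fin d) ℂ) B :=
        RingHom.ext hιof
      rw [this]
      exact algebraMap_isIntegral_iff.mpr inferInstance
    exact RingHom.IsIntegral.tower_top _ _ h1
  have hιinj : Function.Injective ι := by
    rw [injective_iff_map_eq_zero]
    intro r hr
    obtain ⟨q, rfl⟩ := AdjoinRoot.mk_surjective r
    rw [hιdef, AdjoinRoot.lift_mk] at hr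
    rw [AdjoinRoot.mk_eq_zero]
    exact minpoly.isIntegrallyClosed_dvd hg (by rw [Polynomial.aeval_def]; exact hr)
  have hψ0 : (minpoly (MvPolynomial (Fin d) ℂ) g).eval₂ (MvPolynomial.eval z) t = 0 := by
    rw [← Polynomial.eval_map]; exact ht
  set ψ : AdjoinRoot (minpoly (MvPolynomial (Fin d) ℂ) g) →+* ℂ :=
    AdjoinRoot.lift (MvPolynomial.eval z) t hψ0 with hψdef
  have hψsurj : Function.Surjective ψ := fun c =>
    ⟨AdjoinRoot.of _ (MvPolynomial.C c), by
      rw [hψdef, AdjoinRoot.lift_of]; exact MvPolynomial.eval_C c⟩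
  obtain ⟨y₀, hy₀⟩ := exists_lift_of_integral ι hιint hιinj ψ hψsurj
  have hyA : ∀ a : MvPolynomial (Fin d) ℂ,
      y₀ (algebraMap (MvPolynomial (Fin d) ℂ) B a) = MvPolynomial.eval z a := fun a => by
    rw [← hιof, hy₀, hψdef, AdjoinRoot.lift_of]
  have hyg : y₀ g = t := by
    rw [← hιroot, hy₀, hψdef]; exact AdjoinRoot.lift_root hψ0
  let y : B →ₐ[ℂ] ℂ := { y₀ with
    commutes' := fun c => by
      show y₀ (algebraMap ℂ B c) = c
      rw [IsScalarTower.algebraMap_apply ℂ (MvPolynomial (Fin d) ℂ) B c, hyA,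
        MvPolynomial.algebraMap_eq, MvPolynomial.eval_C] }
  refine ⟨y, funext fun i => ?_, hyg⟩
  show y₀ (algebraMap (MvPolynomial (Fin d) ℂ) B (MvPolynomial.X i)) = z i
  rw [hyA, MvPolynomial.eval_X]

omit [IsDomain B] [FaithfulSMul (MvPolynomial (Fin d) ℂ) B] in
/-- Fibres of the projection are finite. -/
theorem finite_fibre [Algebra.FiniteType ℂ B] (z₀ : Fin d → ℂ) :
    {y : B →ₐ[ℂ] ℂ | proj d y = z₀}.Finite := by
  obtain ⟨s, hs⟩ := (Algebra.FiniteType.out : (⊤ : Subalgebra ℂ B).FG)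
  have hint : ∀ b : B, ∃ Q : Polynomial (MvPolynomial (Fin d) ℂ), Q.Monic ∧
      Q.eval₂ (algebraMap (MvPolynomial (Fin d) ℂ) B) b = 0 :=
    fun b => Algebra.IsIntegral.isIntegral b
  choose Q hQm hQ using hint
  set E : (B →ₐ[ℂ] ℂ) → (s → ℂ) := fun y b => y b.1 with hE
  set T : Set (s → ℂ) := Set.pi Set.univ
    (fun b : s => {t : ℂ | ((Q b.1).map (MvPolynomial.eval z₀)).IsRoot t}) with hTdef
  have hT : T.Finite := Set.Finite.pi
    (fun b => Polynomial.finite_setOfPred_isRoot ((hQm b.1).map _).ne_zero)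
  refine Set.Finite.of_injOn (f := E) (t := T) ?_ ?_ hT
  · intro y hy b _
    show ((Q b.1).map (MvPolynomial.eval z₀)).IsRoot (y b.1)
    rw [Polynomial.IsRoot.def, Polynomial.eval_map, ← (hy : proj d y = z₀)]
    exact eval₂_point y b.1 (Q b.1) (hQ b.1)
  · intro y _ y' _ hyy'
    apply AlgHom.ext_of_adjoin_eq_top hs
    intro b hb
    exact congrFun hyy' ⟨b, Finset.mem_coe.mp hb⟩

omit [IsDomain B] [FaithfulSMul (MvPolynomial (Fin d) ℂ) B] in
/-- There is a function vanishing at `x` but at no other point of the fibre through `x`. -/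
theorem exists_separating [Algebra.FiniteType ℂ B] (x : B →ₐ[ℂ] ℂ) :
    ∃ g : B, x g = 0 ∧ ∀ x' : B →ₐ[ℂ] ℂ, proj d x' = proj d x → x' g = 0 → x' = x := by
  classical
  have hfin := finite_fibre (B := B) (proj d x)
  set s : Finset (B →ₐ[ℂ] ℂ) := hfin.toFinset.erase x with hsdef
  have hprime : ∀ i ∈ s, i ≠ x → i ≠ x → (RingHom.ker (i : B →+* ℂ)).IsPrime :=
    fun i _ _ _ => RingHom.ker_isPrime _
  have hnot : ¬ ((RingHom.ker (x : B →+* ℂ) : Set B) ⊆
      ⋃ i ∈ (↑s : Set (B →ₐ[ℂ] ℂ)), (RingHom.ker (i : B →+* ℂ) : Set B)) := by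
    rw [Ideal.subset_union_prime (f := fun i : B →ₐ[ℂ] ℂ => RingHom.ker (i : B →+* ℂ)) x x hprime]
    rintro ⟨x', hx's, hle⟩
    have hne : x' ≠ x := (Finset.mem_erase.mp hx's).1
    apply hne
    ext b
    have h1 : (b - algebraMap ℂ B (x b)) ∈ RingHom.ker (x : B →+* ℂ) := by
      rw [RingHom.mem_ker]
      show x (b - algebraMap ℂ B (x b)) = 0
      rw [map_sub, x.commutes]
      exact sub_self (x b)
    have h2 := hle h1
    rw [RingHom.mem_ker] at h2
    have h3 : x' (b - algebraMap ℂ B (x b)) = 0 := h2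
    rw [map_sub, x'.commutes] at h3
    exact sub_eq_zero.mp h3
  obtain ⟨g, hgx, hgn⟩ := Set.not_subset.mp hnot
  refine ⟨g, RingHom.mem_ker.mp hgx, fun x' hx' hx'g => ?_⟩
  by_contra hne
  apply hgn
  simp only [Set.mem_iUnion]
  refine ⟨x', ?_, RingHom.mem_ker.mpr hx'g⟩
  rw [Finset.mem_coe, hsdef, Finset.mem_erase]
  exact ⟨hne, hfin.mem_toFinset.mpr hx'⟩

omit [IsDomain B] [FaithfulSMul (MvPolynomial (Fin d) ℂ) B] in
/-- Compactness: points projecting near `proj d x` at which `g` is small are close to `x`. -/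
theorem mem_comap_nhds (x : B →ₐ[ℂ] ℂ) (g : B)
    (hsep : ∀ x' : B →ₐ[ℂ] ℂ, proj d x' = proj d x → x' g = 0 → x' = x)
    (F : Finset B) (ε : ℝ) (hε : 0 < ε) :
    {y : B →ₐ[ℂ] ℂ | ∀ r ∈ F, ‖y r - x r‖ < ε} ∈
      Filter.comap (fun y : B →ₐ[ℂ] ℂ => (proj d y, y g)) (𝓝 (proj d x, (0 : ℂ))) := by
  rw [Filter.mem_iff_ultrafilter]
  intro 𝒰 h𝒰
  have htend : Tendsto (fun y : B →ₐ[ℂ] ℂ => (proj d y, y g)) 𝒰 (𝓝 (proj d x, (0 : ℂ))) :=
    Filter.tendsto_iff_comap.mpr h𝒰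
  have hproj : Tendsto (fun y : B →ₐ[ℂ] ℂ => proj d y) 𝒰 (𝓝 (proj d x)) :=
    (continuous_fst.tendsto _).comp htend
  have hg : Tendsto (fun y : B →ₐ[ℂ] ℂ => y g) 𝒰 (𝓝 0) :=
    (continuous_snd.tendsto _).comp htend
  have hlim : ∀ b : B, ∃ v : ℂ, Tendsto (fun y : B →ₐ[ℂ] ℂ => y b) 𝒰 (𝓝 v) := by
    intro b
    obtain ⟨Q, hQm, hQ⟩ := Algebra.IsIntegral.isIntegral (R := MvPolynomial (Fin d) ℂ) b
    set M : ℝ := ∑ i ∈ Finset.range Q.natDegree,
      (‖MvPolynomial.eval (proj d x) (Q.coeff i)‖ + 1) with hM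
    have hM0 : 0 ≤ M := Finset.sum_nonneg (fun i _ => by positivity)
    have hev : ∀ᶠ y in (𝒰 : Filter (B →ₐ[ℂ] ℂ)), ∀ i ∈ Finset.range Q.natDegree,
        ‖MvPolynomial.eval (proj d y) (Q.coeff i)‖ ≤ M := by
      rw [Filter.eventually_all_finset]
      intro i hi
      have h1 : Tendsto (fun y : B →ₐ[ℂ] ℂ => ‖MvPolynomial.eval (proj d y) (Q.coeff i)‖) 𝒰
          (𝓝 ‖MvPolynomial.eval (proj d x) (Q.coeff i)‖) :=
        ((continuous_norm.comp (MvPolynomial.continuous_eval (Q.coeff i))).tendsto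
          (proj d x)).comp hproj
      have h3 : ‖MvPolynomial.eval (proj d x) (Q.coeff i)‖ + 1 ≤ M :=
        Finset.single_le_sum (f := fun i => ‖MvPolynomial.eval (proj d x) (Q.coeff i)‖ + 1)
          (fun j _ => by positivity) hi
      filter_upwards [h1.eventually (eventually_lt_nhds (lt_add_one _))] with y hy
      exact (hy.trans_le h3).le
    have hbd : (fun y : B →ₐ[ℂ] ℂ => y b) ⁻¹' Metric.closedBall (0 : ℂ) (M + 1) ∈ 𝒰 := by
      rw [← Ultrafilter.mem_coe]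
      filter_upwards [hev] with y hy
      rw [Set.mem_preimage, mem_closedBall_zero_iff]
      refine norm_le_of_isRoot (Q.map (MvPolynomial.eval (proj d y))) (hQm.map _) (y b) ?_ M hM0 ?_
      · rw [Polynomial.IsRoot.def, Polynomial.eval_map]
        exact eval₂_point y b Q hQ
      · intro i hi
        rw [hQm.natDegree_map] at hi
        rw [Polynomial.coeff_map]
        exact hy i hi
    obtain ⟨v, -, hv⟩ := (isCompact_closedBall (0 : ℂ) (M + 1)).ultrafilter_le_nhds'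
      (𝒰.map (fun y : B →ₐ[ℂ] ℂ => y b)) (Ultrafilter.mem_map.mpr hbd)
    exact ⟨v, hv⟩
  choose v hv using hlim
  have huniq : ∀ {b : B} {c : ℂ}, Tendsto (fun y : B →ₐ[ℂ] ℂ => y b) 𝒰 (𝓝 c) → v b = c :=
    fun h => tendsto_nhds_unique (hv _) h
  let x' : B →ₐ[ℂ] ℂ :=
    { toFun := v
      map_one' := huniq (by simp only [map_one]; exact tendsto_const_nhds)
      map_mul' := fun a b => huniq (by simp only [map_mul]; exact (hv a).mul (hv b))
      map_zero' := huniq (by simp only [map_zero]; exact tendsto_const_nhds)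
      map_add' := fun a b => huniq (by simp only [map_add]; exact (hv a).add (hv b))
      commutes' := fun c => huniq (by simp only [AlgHom.commutes]; exact tendsto_const_nhds) }
  have hx'v : ∀ b, x' b = v b := fun b => rfl
  have hx'proj : proj d x' = proj d x := by
    funext i
    show v (algebraMap (MvPolynomial (Fin d) ℂ) B (MvPolynomial.X i)) = proj d x i
    exact huniq (b := algebraMap (MvPolynomial (Fin d) ℂ) B (MvPolynomial.X i)) (c := proj d x i)
      (((continuous_apply i).tendsto (proj d x)).comp hproj)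
  have hx'g : x' g = 0 := huniq hg
  have hx'x : x' = x := hsep x' hx'proj hx'g
  have hset : {y : B →ₐ[ℂ] ℂ | ∀ r ∈ F, ‖y r - x r‖ < ε} =
      ⋂ r ∈ F, {y : B →ₐ[ℂ] ℂ | ‖y r - x r‖ < ε} := by
    ext y; simp
  rw [hset, ← Ultrafilter.mem_coe, Filter.biInter_finset_mem]
  intro r _
  have h1 : Tendsto (fun y : B →ₐ[ℂ] ℂ => y r) 𝒰 (𝓝 (x r)) := by
    have := hv r
    rwa [← hx'v, hx'x] at this
  have h3 := h1 (Metric.ball_mem_nhds (x r) hε)
  refine Filter.mem_of_superset h3 ?_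
  intro y hy
  rw [Set.mem_preimage, Metric.mem_ball, dist_eq_norm] at hy
  exact hy

end main

theorem exists_eval_ne_zero_of_mem_nhds {d : ℕ} (a : MvPolynomial (Fin d) ℂ) (ha : a ≠ 0)
    (z₀ : Fin d → ℂ) (U : Set (Fin d → ℂ)) (hU : U ∈ 𝓝 z₀) :
    ∃ z ∈ U, MvPolynomial.eval z a ≠ 0 := by
  by_contra hcon
  push Not at hcon
  obtain ⟨δ, hδ, hδU⟩ := Metric.mem_nhds_iff.mp hU
  apply ha
  apply MvPolynomial.funext_set (fun i => Metric.ball (z₀ i) δ)
    (fun i => infinite_of_mem_nhds (z₀ i) (Metric.ball_mem_nhds _ hδ))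
  intro z hz
  rw [map_zero]
  apply hcon
  apply hδU
  rw [ball_pi _ hδ]
  exact hz

section main2

/-- Main technical theorem, relative to a Noether normalisation. -/
theorem exists_near_point_aux (d : ℕ) {B : Type*} [CommRing B] [IsDomain B] [Algebra ℂ B]
    [Algebra (MvPolynomial (Fin d) ℂ) B] [IsScalarTower ℂ (MvPolynomial (Fin d) ℂ) B]
    [Algebra.IsIntegral (MvPolynomial (Fin d) ℂ) B] [FaithfulSMul (MvPolynomial (Fin d) ℂ) B]
    [Algebra.FiniteType ℂ B] (x : B →ₐ[ℂ] ℂ) (h : B) (hh : h ≠ 0)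
    (F : Finset B) (ε : ℝ) (hε : 0 < ε) :
    ∃ y : B →ₐ[ℂ] ℂ, y h ≠ 0 ∧ ∀ r ∈ F, ‖y r - x r‖ < ε := by
  obtain ⟨a, ha0, b, hab⟩ := exists_ne_zero_dvd (d := d) h hh
  obtain ⟨g, hxg, hsep⟩ := exists_separating (d := d) x
  have hN := mem_comap_nhds (d := d) x g hsep F ε hε
  rw [Filter.mem_comap] at hN
  obtain ⟨W, hW, hWsub⟩ := hN
  obtain ⟨U₁, hU₁, U₂, hU₂, hUW⟩ := mem_nhds_prod_iff.mp hW
  obtain ⟨η, hη, hηU₂⟩ := Metric.mem_nhds_iff.mp hU₂
  set P := minpoly (MvPolynomial (Fin d) ℂ) g with hP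
  have hPm : P.Monic := minpoly.monic (Algebra.IsIntegral.isIntegral g)
  have hc0 : MvPolynomial.eval (proj d x) (P.coeff 0) = 0 := by
    have h1 := eval₂_point x g P (by rw [← Polynomial.aeval_def]; exact minpoly.aeval _ g)
    rw [hxg, Polynomial.eval₂_at_zero] at h1
    exact h1
  have hV : {z : Fin d → ℂ | ‖MvPolynomial.eval z (P.coeff 0)‖ < η ^ P.natDegree} ∈
      𝓝 (proj d x) := by
    have hcont : Continuous (fun z : Fin d → ℂ => ‖MvPolynomial.eval z (P.coeff 0)‖) :=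
      continuous_norm.comp (MvPolynomial.continuous_eval _)
    have hlt : ‖MvPolynomial.eval (proj d x) (P.coeff 0)‖ < η ^ P.natDegree := by
      rw [hc0, norm_zero]; exact pow_pos hη _
    exact hcont.continuousAt.eventually (eventually_lt_nhds hlt)
  obtain ⟨z, ⟨hzU₁, hzV⟩, hza⟩ :=
    exists_eval_ne_zero_of_mem_nhds a ha0 (proj d x) _ (Filter.inter_mem hU₁ hV)
  obtain ⟨t, ht, htη⟩ := exists_small_root (P.map (MvPolynomial.eval z)) (hPm.map _) η hη (by
    rw [hPm.natDegree_map, Polynomial.coeff_map]; exact hzV)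
  obtain ⟨y, hyz, hyg⟩ := exists_point_of_root g z t ht
  refine ⟨y, ?_, ?_⟩
  · intro hyh
    apply hza
    rw [← hyz, ← apply_algebraMap, hab, map_mul, hyh, mul_zero]
  · have : y ∈ (fun y : B →ₐ[ℂ] ℂ => (proj d y, y g)) ⁻¹' W := by
      apply hUW
      refine Set.mk_mem_prod (by rw [hyz]; exact hzU₁) (hηU₂ ?_)
      rw [Metric.mem_ball, dist_zero_right, hyg]; exact htη
    exact hWsub this

end main2

/-- **Density theorem** (domain case): for a finitely generated `ℂ`-domain `B`, a point `x`, a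
nonzero `h`, there are points `y` arbitrarily close to `x` (on any finite set of functions) with
`h(y) ≠ 0`. -/
theorem exists_near_point {B : Type*} [CommRing B] [IsDomain B] [Algebra ℂ B]
    [Algebra.FiniteType ℂ B] (x : B →ₐ[ℂ] ℂ) (h : B) (hh : h ≠ 0) (F : Finset B) (ε : ℝ)
    (hε : 0 < ε) : ∃ y : B →ₐ[ℂ] ℂ, y h ≠ 0 ∧ ∀ r ∈ F, ‖y r - x r‖ < ε := by
  obtain ⟨d, φ, hφinj, hφint⟩ := exists_integral_inj_algHom_of_fg ℂ B
  letI : Algebra (MvPolynomial (Fin d) ℂ) B := φ.toRingHom.toAlgebra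
  haveI : IsScalarTower ℂ (MvPolynomial (Fin d) ℂ) B :=
    IsScalarTower.of_algebraMap_eq (fun c => (φ.commutes c).symm)
  haveI : Algebra.IsIntegral (MvPolynomial (Fin d) ℂ) B := ⟨hφint⟩
  haveI : FaithfulSMul (MvPolynomial (Fin d) ℂ) B :=
    (faithfulSMul_iff_algebraMap_injective _ _).mpr hφinj
  exact exists_near_point_aux d x h hh F ε hε

/-- **Density theorem**, ring-hom form: `R` a finitely generated `ℂ`-algebra (structure map `σ`),
`x` a point, `𝔭` a prime contained in the kernel of `x`, `h ∉ 𝔭`. Then there are points `y`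
of `V(𝔭) ∩ D(h)` arbitrarily close to `x`. -/
theorem exists_near_ringHom {R : Type*} [CommRing R] (σ : ℂ →+* R) (n : ℕ) (s : Fin n → R)
    (hs : Function.Surjective (MvPolynomial.eval₂Hom σ s)) (x : R →+* ℂ) (hx : ∀ c, x (σ c) = c)
    (𝔭 : Ideal R) [𝔭.IsPrime] (h𝔭 : 𝔭 ≤ RingHom.ker x) (h : R) (hh : h ∉ 𝔭) (F : Finset R)
    (ε : ℝ) (hε : 0 < ε) :
    ∃ y : R →+* ℂ, (∀ c, y (σ c) = c) ∧ 𝔭 ≤ RingHom.ker y ∧ y h ≠ 0 ∧
      ∀ r ∈ F, ‖y r - x r‖ < ε := by
  classical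
  letI : Algebra ℂ R := σ.toAlgebra
  haveI : Algebra.FiniteType ℂ R := by
    rw [Algebra.FiniteType.iff_quotient_mvPolynomial'']
    refine ⟨n, MvPolynomial.aeval s, ?_⟩
    intro r
    obtain ⟨p, hp⟩ := hs r
    refine ⟨p, ?_⟩
    rw [← hp]
    rfl
  let xa : R →ₐ[ℂ] ℂ := { x with commutes' := fun c => hx c }
  let xq : R ⧸ 𝔭 →ₐ[ℂ] ℂ := Ideal.Quotient.liftₐ 𝔭 xa (fun a ha => h𝔭 ha)
  have hne : (Ideal.Quotient.mk 𝔭 h) ≠ 0 := by
    rw [Ne, Ideal.Quotient.eq_zero_iff_mem]; exact hh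
  obtain ⟨yq, hyh, hyF⟩ := exists_near_point xq (Ideal.Quotient.mk 𝔭 h) hne
    (F.image (Ideal.Quotient.mk 𝔭)) ε hε
  refine ⟨(yq : R ⧸ 𝔭 →+* ℂ).comp (Ideal.Quotient.mk 𝔭), ?_, ?_, ?_, ?_⟩
  · intro c
    exact yq.commutes c
  · intro a ha
    rw [RingHom.mem_ker, RingHom.comp_apply, Ideal.Quotient.eq_zero_iff_mem.mpr ha, map_zero]
  · exact hyh
  · intro r hr
    exact hyF _ (Finset.mem_image_of_mem _ hr)

end Groth.Agent.Lib.Helper7.AnDense
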