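import Groth.Agent.Lib.Helper7.AnTop

set_option autoImplicit false

open CategoryTheory AlgebraicGeometry Topology TopologicalSpace An

namespace Groth.Agent.Lib.Helper7.AnTop

variable {X Y : Scheme.{0}} [X.Over An.SC] [Y.Over An.SC]

theorem map_injective_of_mono (f : X ⟶ Y) [f.IsOver An.SC] [Mono f] :
    Function.Injective (Pts.map f) := by
  intro x x' h
  apply Subtype.ext
  have : x.1 ≫ f = x'.1 ≫ f := congrArg Subtype.val h
  exact (cancel_mono f).mp this

theorem range_val (y : Pts Y) : Set.range y.1 = {y.pt} := by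
  ext p
  constructor
  · rintro ⟨q, rfl⟩
    rw [An.eq_cpt q]; rfl
  · rintro rfl
    exact ⟨An.cpt, rfl⟩

/-- Make a ℂ-point of `X` from a lift of a ℂ-point of `Y`. -/
theorem exists_map_eq_of_lift (f : X ⟶ Y) [f.IsOver An.SC] (y : Pts Y) (x₀ : An.SC ⟶ X)
    (h : x₀ ≫ f = y.1) : ∃ x : Pts X, Pts.map f x = y := by
  refine ⟨⟨x₀, ?_⟩, Subtype.ext h⟩
  rw [← comp_over f An.SC, ← Category.assoc, h, y.2]

theorem exists_map_eq_of_isOpenImmersion (f : X ⟶ Y) [f.IsOver An.SC] [IsOpenImmersion f]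
    (y : Pts Y) (h : y.pt ∈ Set.range f) : ∃ x : Pts X, Pts.map f x = y := by
  have H : Set.range y.1 ⊆ Set.range f := by
    rw [range_val]; exact Set.singleton_subset_iff.mpr h
  exact exists_map_eq_of_lift f y (IsOpenImmersion.lift f y.1 H) (IsOpenImmersion.lift_fac f y.1 H)

theorem exists_map_eq_of_isClosedImmersion (f : X ⟶ Y) [f.IsOver An.SC] [IsClosedImmersion f]
    (y : Pts Y) (h : y.pt ∈ Set.range f) : ∃ x : Pts X, Pts.map f x = y := by
  obtain ⟨x₁, hx₁⟩ := h
  obtain ⟨z, hz1, hz2⟩ := Scheme.Pullback.exists_preimage_pullback (f := y.1) (g := f)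
    An.cpt x₁ hx₁.symm
  haveI : Surjective (Limits.pullback.fst y.1 f) := ⟨fun p => ⟨z, by rw [An.eq_cpt p]; exact hz1⟩⟩
  haveI : IsIso (Limits.pullback.fst y.1 f) := isIso_of_isClosedImmersion_of_surjective _
  refine exists_map_eq_of_lift f y (inv (Limits.pullback.fst y.1 f) ≫ Limits.pullback.snd y.1 f) ?_
  rw [Category.assoc, ← Limits.pullback.condition, IsIso.inv_hom_id_assoc]

theorem range_map_of_isOpenImmersion (f : X ⟶ Y) [f.IsOver An.SC] [IsOpenImmersion f] :
    Set.range (Pts.map f) = Pts.pt ⁻¹' (Set.range f) := by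
  ext y
  constructor
  · rintro ⟨x, rfl⟩
    exact ⟨x.pt, (Pts.pt_map f x).symm⟩
  · intro h
    exact exists_map_eq_of_isOpenImmersion f y h

theorem range_map_of_isClosedImmersion (f : X ⟶ Y) [f.IsOver An.SC] [IsClosedImmersion f] :
    Set.range (Pts.map f) = Pts.pt ⁻¹' (Set.range f) := by
  ext y
  constructor
  · rintro ⟨x, rfl⟩
    exact ⟨x.pt, (Pts.pt_map f x).symm⟩
  · intro h
    exact exists_map_eq_of_isClosedImmersion f y h

/-- **S4196** (no finiteness needed): open immersions induce open embeddings on ℂ-points. -/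
theorem isOpenEmbedding_map (f : X ⟶ Y) [f.IsOver An.SC] [IsOpenImmersion f] :
    Topology.IsOpenEmbedding (Pts.map f) := by
  refine ⟨⟨⟨le_antisymm (Pts.continuous_map f).le_induced ?_⟩, map_injective_of_mono f⟩, ?_⟩
  · apply le_generateFrom
    rintro _ ⟨U, s, V, hV, rfl⟩
    rw [isOpen_induced_iff]
    refine ⟨Pts.basicSet (f ''ᵁ U) ((f.appIso U).inv s) V, Pts.isOpen_basicSet _ _ hV, ?_⟩
    have e : U ≤ f ⁻¹ᵁ f ''ᵁ U := (f.preimage_image_eq U).ge
    have hs : f.appLE (f ''ᵁ U) U e ((f.appIso U).inv s) = s := by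
      rw [← f.appIso_hom' U]
      exact Iso.inv_hom_id_apply (C := CommRingCat) _ _
    ext x
    constructor
    · rintro ⟨h', hv⟩
      have hxU : x.pt ∈ U := by
        rw [Pts.pt_map] at h'
        obtain ⟨p, hpU, hp⟩ := h'
        rw [← f.isOpenEmbedding.injective hp]
        exact hpU
      refine ⟨hxU, ?_⟩
      rw [ev_map_appLE f x (f ''ᵁ U) U e hxU, hs] at hv
      exact hv
    · rintro ⟨hxU, hv⟩
      have h' : (Pts.map f x).pt ∈ f ''ᵁ U := by
        rw [Pts.pt_map]; exact ⟨x.pt, hxU, rfl⟩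
      refine ⟨h', ?_⟩
      rw [ev_map_appLE f x (f ''ᵁ U) U e hxU, hs]
      exact hv
  · rw [range_map_of_isOpenImmersion]
    exact Pts.isOpen_preimage_pt f.opensRange


/-- **S4200** (no finiteness needed): closed immersions induce closed embeddings on ℂ-points. -/
theorem isClosedEmbedding_map (f : X ⟶ Y) [f.IsOver An.SC] [IsClosedImmersion f] :
    Topology.IsClosedEmbedding (Pts.map f) := by
  refine ⟨⟨⟨le_antisymm (Pts.continuous_map f).le_induced ?_⟩, map_injective_of_mono f⟩, ?_⟩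
  · apply le_topologicalSpace_of_affine_family {W' | ∃ W : Y.Opens, IsAffineOpen W ∧ W' = f ⁻¹ᵁ W}
    · rintro _ ⟨W, hW, rfl⟩
      exact hW.preimage f
    · intro p
      obtain ⟨W, hW, hpW, -⟩ := exists_isAffineOpen_mem_and_subset (x := f p) (U := ⊤)
        (Opens.mem_top _)
      exact ⟨f ⁻¹ᵁ W, ⟨W, hW, rfl⟩, hpW⟩
    · rintro _ ⟨W, hW, rfl⟩ a V hV
      obtain ⟨a', rfl⟩ := f.app_surjective W hW a
      rw [isOpen_induced_iff]
      exact ⟨Pts.basicSet W a' V, Pts.isOpen_basicSet _ _ hV, Pts.preimage_basicSet f W a' V⟩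
  · rw [range_map_of_isClosedImmersion]
    exact f.isClosedEmbedding.isClosed_range.preimage Pts.continuous_pt


/-- **S4201** (no finiteness needed): immersions induce embeddings with locally closed range. -/
theorem isEmbedding_map_of_isImmersion (f : X ⟶ Y) [f.IsOver An.SC] [IsImmersion f] :
    Topology.IsEmbedding (Pts.map f) ∧ IsLocallyClosed (Set.range (Pts.map f)) := by
  letI : (f.coborderRange : Scheme.{0}).Over An.SC := ⟨f.coborderRange.ι ≫ (Y ↘ An.SC)⟩
  haveI : f.coborderRange.ι.IsOver An.SC := ⟨rfl⟩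
  haveI : f.liftCoborder.IsOver An.SC := ⟨by
    show f.liftCoborder ≫ f.coborderRange.ι ≫ (Y ↘ An.SC) = X ↘ An.SC
    rw [← Category.assoc, f.liftCoborder_ι, comp_over]⟩
  have hcomp : Pts.map f = Pts.map f.coborderRange.ι ∘ Pts.map f.liftCoborder := by
    funext x
    apply Subtype.ext
    show x.1 ≫ f = (x.1 ≫ f.liftCoborder) ≫ f.coborderRange.ι
    rw [Category.assoc, f.liftCoborder_ι]
  have ho := isOpenEmbedding_map f.coborderRange.ι
  have hc := isClosedEmbedding_map f.liftCoborder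
  rw [hcomp]
  refine ⟨ho.isEmbedding.comp hc.isEmbedding, ?_⟩
  rw [Set.range_comp]
  exact hc.isClosed_range.isLocallyClosed.image ho.isInducing ho.isOpen_range.isLocallyClosed

/-- Finitely many generators for the coordinate ring of an affine scheme of finite type over ℂ. -/
theorem exists_generators [IsAffine X] [LocallyOfFiniteType (X ↘ An.SC)] :
    ∃ (n : ℕ) (s : Fin n → Γ(X, ⊤)),
      Function.Surjective (MvPolynomial.eval₂Hom (An.strHom X) s) := by
  have h1 : (X ↘ An.SC).appTop.hom.FiniteType :=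
    HasRingHomProperty.appTop @LocallyOfFiniteType (X ↘ An.SC) inferInstance
  have h2 : (An.strHom X).FiniteType := by
    unfold An.strHom
    refine h1.comp (RingHom.FiniteType.of_surjective _ ?_)
    exact (ConcreteCategory.bijective_of_isIso (Scheme.ΓSpecIso (CommRingCat.of ℂ)).inv).2
  obtain ⟨n, g, hg⟩ := (@Algebra.FiniteType.iff_quotient_mvPolynomial'' ℂ Γ(X, ⊤) _ _
    (An.strHom X).toAlgebra).mp h2
  refine ⟨n, fun i => g (MvPolynomial.X i), ?_⟩
  have : MvPolynomial.eval₂Hom (An.strHom X) (fun i => g (MvPolynomial.X i)) =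
      (g : MvPolynomial (Fin n) ℂ →+* Γ(X, ⊤)) := by
    apply MvPolynomial.ringHom_ext
    · intro c
      rw [MvPolynomial.eval₂Hom_C]
      exact (@AlgHom.commutes ℂ _ _ _ _ _ _ (An.strHom X).toAlgebra g c).symm
    · intro i
      rw [MvPolynomial.eval₂Hom_X']
      rfl
  rw [this]
  exact hg

/-- **S4185**: the ℂ-points of a scheme locally of finite type over ℂ form a locally compact
space. -/
theorem locallyCompactSpace_pts [LocallyOfFiniteType (X ↘ An.SC)] :
    LocallyCompactSpace (Pts X) := by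
  refine ⟨fun x n hn => ?_⟩
  obtain ⟨W, hW, hxW, -⟩ := exists_isAffineOpen_mem_and_subset (x := x.pt) (U := ⊤)
    (Opens.mem_top _)
  letI : (W : Scheme.{0}).Over An.SC := ⟨W.ι ≫ (X ↘ An.SC)⟩
  haveI : W.ι.IsOver An.SC := ⟨rfl⟩
  haveI : IsAffine (W : Scheme.{0}) := hW
  haveI : LocallyOfFiniteType ((W : Scheme.{0}) ↘ An.SC) :=
    inferInstanceAs (LocallyOfFiniteType (W.ι ≫ (X ↘ An.SC)))
  obtain ⟨m, s, hs⟩ := exists_generators (X := (W : Scheme.{0}))
  haveI : LocallyCompactSpace (Pts (W : Scheme.{0})) :=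
    (isClosedEmbedding_of_generators m s hs).locallyCompactSpace
  have ho := isOpenEmbedding_map W.ι
  obtain ⟨x₀, rfl⟩ := exists_map_eq_of_isOpenImmersion W.ι x (by
    rw [Scheme.Opens.range_ι]; exact hxW)
  have hn' : Pts.map W.ι ⁻¹' n ∈ 𝓝 x₀ := ho.continuous.continuousAt hn
  obtain ⟨K, hK, hKn, hKc⟩ := local_compact_nhds hn'
  exact ⟨Pts.map W.ι '' K, (ho.image_mem_nhds).mpr hK, Set.image_subset_iff.mpr hKn,
    hKc.image ho.continuous⟩

end Groth.Agent.Lib.Helper7.AnTop
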