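import Groth.Agent.Lib.Helper7.AnDense1
import Groth.Agent.Lib.Helper7.AnTop2

set_option autoImplicit false
set_option maxHeartbeats 400000

open CategoryTheory AlgebraicGeometry Topology TopologicalSpace An

namespace Groth.Agent.Lib.Helper7.AnDense

open Groth.Agent.Lib.Helper7.AnTop

variable {X : Scheme.{0}} [X.Over An.SC]

/-- Base case: `D(f) \ ⋃_{j ∈ s} D(j)` in an affine scheme of finite type over ℂ. -/
theorem mem_closure_basic [IsAffine X] [LocallyOfFiniteType (X ↘ An.SC)] (f : Γ(X, ⊤))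
    (s : Set Γ(X, ⊤)) (x : Pts X)
    (hx : x.pt ∈ closure ((X.basicOpen f : Set X) \ ⋃ j ∈ s, (X.basicOpen j : Set X))) :
    x ∈ closure (Pts.pt ⁻¹' ((X.basicOpen f : Set X) \ ⋃ j ∈ s, (X.basicOpen j : Set X))) := by
  classical
  obtain ⟨n, g, hg⟩ := exists_generators (X := X)
  set xr : Γ(X, ⊤) →+* ℂ := evHom x ⊤ (Opens.mem_top _) with hxr
  haveI : (RingHom.ker xr).IsPrime := RingHom.ker_isPrime xr
  set I : Ideal Γ(X, ⊤) := Ideal.span s with hI
  set M : Submonoid Γ(X, ⊤) := (RingHom.ker xr).primeCompl ⊔ Submonoid.powers f with hM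
  set T : Set X := (X.basicOpen f : Set X) \ ⋃ j ∈ s, (X.basicOpen j : Set X) with hT
  have hzero : ∀ p ∈ T, ∀ m ∈ I, p ∉ X.basicOpen m := by
    intro p hp m hm
    have hp2 : p ∈ X.zeroLocus (U := ⊤) s := by
      rw [Scheme.mem_zeroLocus_iff]
      intro j hj hpj
      exact hp.2 (Set.mem_biUnion hj hpj)
    rw [← Scheme.zeroLocus_span] at hp2
    exact (X.mem_zeroLocus_iff _ p).mp hp2 m hm
  have hpow : ∀ p : X, p ∈ X.basicOpen f → ∀ k : ℕ, p ∈ X.basicOpen (f ^ k) := by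
    intro p hp k
    induction k with
    | zero => rw [pow_zero, Scheme.basicOpen_one]; exact Opens.mem_top _
    | succ k ih => rw [pow_succ, Scheme.basicOpen_mul]; exact ⟨ih, hp⟩
  have hdisj : Disjoint (I : Set Γ(X, ⊤)) (M : Set Γ(X, ⊤)) := by
    rw [Set.disjoint_left]
    intro m hmI hmM
    obtain ⟨a, ha, b, hb, rfl⟩ := Submonoid.mem_sup.mp hmM
    obtain ⟨k, rfl⟩ := (Submonoid.mem_powers_iff _ _).mp hb
    have ha' : x.evTop a ≠ 0 := fun h0 => ha (RingHom.mem_ker.mpr h0)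
    have hxa : x.pt ∈ X.basicOpen a := (mem_basicOpen_iff x ⊤ (Opens.mem_top _) a).mpr ha'
    obtain ⟨p, hpa, hpT⟩ := mem_closure_iff.mp hx (X.basicOpen a) (X.basicOpen a).2 hxa
    apply hzero p hpT _ hmI
    rw [Scheme.basicOpen_mul]
    exact ⟨hpa, hpow p hpT.1 k⟩
  obtain ⟨𝔭, h𝔭prime, hI𝔭, h𝔭M⟩ := Ideal.exists_le_prime_disjoint I M hdisj
  haveI := h𝔭prime
  have h𝔭ker : 𝔭 ≤ RingHom.ker xr := by
    intro a ha
    by_contra hna
    exact Set.disjoint_left.mp h𝔭M ha (Submonoid.mem_sup_left hna)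
  have hf𝔭 : f ∉ 𝔭 := fun hf =>
    Set.disjoint_left.mp h𝔭M hf (Submonoid.mem_sup_right (Submonoid.mem_powers f))
  have hemb := isClosedEmbedding_of_generators n g hg
  rw [hemb.isInducing.closure_eq_preimage_closure_image, Set.mem_preimage, Metric.mem_closure_iff]
  intro ε hε
  obtain ⟨y, hyσ, h𝔭y, hyf, hyF⟩ := exists_near_ringHom (An.strHom X) n g hg xr
    (fun c => evTop_strHom x c) 𝔭 h𝔭ker f hf𝔭 (Finset.univ.image g) ε hε
  obtain ⟨x', hx'⟩ := exists_pts_of_ringHom y hyσ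
  refine ⟨_, ⟨x', ?_, rfl⟩, ?_⟩
  · refine ⟨(mem_basicOpen_iff x' ⊤ (Opens.mem_top _) f).mpr
      (fun h0 => hyf ((hx' f).symm.trans h0)), ?_⟩
    intro hmem
    obtain ⟨j, hj, hpj⟩ := Set.mem_iUnion₂.mp hmem
    have : x'.evTop j ≠ 0 := (mem_basicOpen_iff x' ⊤ (Opens.mem_top _) j).mp hpj
    apply this
    rw [hx']
    exact RingHom.mem_ker.mp (h𝔭y (hI𝔭 (Ideal.subset_span hj)))
  · rw [dist_comm, dist_pi_lt_iff hε]
    intro i
    rw [dist_eq_norm]
    show ‖x'.evTop (g i) - x.evTop (g i)‖ < ε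
    rw [hx']
    exact hyF (g i) (Finset.mem_image_of_mem g (Finset.mem_univ i))

/-- Constructible sets in affine schemes of finite type over ℂ. -/
theorem mem_closure_of_isConstructible [IsAffine X] [LocallyOfFiniteType (X ↘ An.SC)]
    (T : Set X) (hT : IsConstructible T) (x : Pts X) (hx : x.pt ∈ closure T) :
    x ∈ closure (Pts.pt ⁻¹' T) := by
  refine IsConstructible.induction_of_isTopologicalBasis
    (P := fun T _ => ∀ x : Pts X, x.pt ∈ closure T → x ∈ closure (Pts.pt ⁻¹' T))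
    (fun f : Γ(X, ⊤) => (X.basicOpen f : Set X)) ?_ ?_ ?_ ?_ T hT x hx
  · have := isBasis_basicOpen X
    rw [Opens.IsBasis, ← Set.range_comp] at this
    exact this
  · intro f
    exact ((isAffineOpen_top X).basicOpen f).isCompact
  · intro f s _ x hx
    exact mem_closure_basic f s x hx
  · intro s _ t _ ihs iht x hx
    rw [closure_union] at hx
    rw [Set.preimage_union, closure_union]
    exact hx.imp (ihs x) (iht x)

/-- **Closure theorem**: a ℂ-point in the Zariski closure of a locally constructible set `T`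
is in the classical closure of the set of ℂ-points of `T`. -/
theorem mem_closure_of_isLocallyConstructible [LocallyOfFiniteType (X ↘ An.SC)]
    (T : Set X) (hT : IsLocallyConstructible T) (x : Pts X) (hx : x.pt ∈ closure T) :
    x ∈ closure (Pts.pt ⁻¹' T) := by
  obtain ⟨W, hW, hxW, -⟩ := exists_isAffineOpen_mem_and_subset (x := x.pt) (U := ⊤)
    (Opens.mem_top _)
  letI : (W : Scheme.{0}).Over An.SC := ⟨W.ι ≫ (X ↘ An.SC)⟩
  haveI : W.ι.IsOver An.SC := ⟨rfl⟩
  haveI : IsAffine (W : Scheme.{0}) := hW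
  haveI : LocallyOfFiniteType ((W : Scheme.{0}) ↘ An.SC) :=
    inferInstanceAs (LocallyOfFiniteType (W.ι ≫ (X ↘ An.SC)))
  obtain ⟨x₀, rfl⟩ := exists_map_eq_of_isOpenImmersion W.ι x (by
    rw [Scheme.Opens.range_ι]; exact hxW)
  have hoe : IsOpenEmbedding W.ι := W.ι.isOpenEmbedding
  have hTW : IsConstructible (W.ι ⁻¹' T) := (hT.preimage_of_isOpenEmbedding hoe).isConstructible
  have hx₀ : x₀.pt ∈ closure (W.ι ⁻¹' T) := by
    rw [← hoe.isOpenMap.preimage_closure_eq_closure_preimage hoe.continuous]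
    rw [Set.mem_preimage, ← Pts.pt_map]
    exact hx
  have h1 := mem_closure_of_isConstructible (X := (W : Scheme.{0})) _ hTW x₀ hx₀
  refine map_mem_closure (Pts.continuous_map W.ι) h1 ?_
  intro y hy
  rw [Set.mem_preimage, Pts.pt_map]
  exact hy

/-- **S4188**. -/
theorem preimage_closure_eq [LocallyOfFiniteType (X ↘ An.SC)]
    (T : Set X) (hT : IsLocallyConstructible T) :
    (Pts.pt ⁻¹' closure T : Set (Pts X)) = closure (Pts.pt ⁻¹' T) :=
  Set.Subset.antisymm (fun x hx => mem_closure_of_isLocallyConstructible T hT x hx)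
    (Pts.continuous_pt.closure_preimage_subset T)

end Groth.Agent.Lib.Helper7.AnDense
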