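import Groth.Agent.Lib.Helper7.AnDense2

set_option autoImplicit false
set_option maxHeartbeats 400000

open CategoryTheory AlgebraicGeometry Topology TopologicalSpace An

namespace Groth.Agent.Lib.Helper7.AnDense

open Groth.Agent.Lib.Helper7 Groth.Agent.Lib.Helper7.AnTop

/-- In a Jacobson space, a nonempty intersection of a locally constructible set and a closed set
contains a closed point. -/
theorem nonempty_inter_closedPoints_of_inter_isClosed {T : Type*} [TopologicalSpace T]
    [JacobsonSpace T] {S C : Set T} (hS : IsLocallyConstructible S) (hC : IsClosed C)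
    (hne : (S ∩ C).Nonempty) : (S ∩ C ∩ closedPoints T).Nonempty := by
  obtain ⟨z, hzS, hzC⟩ := hne
  obtain ⟨U, hU, hUo, hc⟩ := hS z
  have hzU : z ∈ U := mem_of_mem_nhds hU
  obtain ⟨L, hL, hzL, hLs⟩ := (exists_isLocallyClosed_of_isConstructible hc).1 ⟨z, hzU⟩ hzS
  have hL' : IsLocallyClosed (Subtype.val '' L) :=
    hL.image hUo.isOpenEmbedding_subtypeVal.isInducing
      (by rw [Subtype.range_coe]; exact hUo.isLocallyClosed)
  obtain ⟨w, ⟨hwL, hwC⟩, hw⟩ := nonempty_inter_closedPoints (Z := Subtype.val '' L ∩ C)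
    ⟨z, ⟨⟨z, hzU⟩, hzL, rfl⟩, hzC⟩ (hL'.inter hC.isLocallyClosed)
  obtain ⟨w', hw'L, rfl⟩ := hwL
  exact ⟨w'.1, ⟨hLs hw'L, hwC⟩, hw⟩

variable {X : Scheme.{0}} [X.Over An.SC] [LocallyOfFiniteType (X ↘ An.SC)]

/-- A locally constructible set is Zariski closed iff its set of ℂ-points is closed. -/
theorem isClosed_iff (T : Set X) (hT : IsLocallyConstructible T) :
    IsClosed T ↔ IsClosed (Pts.pt ⁻¹' T : Set (Pts X)) := by
  constructor
  · intro h; exact h.preimage Pts.continuous_pt
  · intro h
    rw [← closure_subset_iff_isClosed]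
    intro p hp
    by_contra hpT
    have := jacobsonSpace_of_lft X
    obtain ⟨w, ⟨hwTc, hwcl⟩, hw⟩ := nonempty_inter_closedPoints_of_inter_isClosed
      (isLocallyConstructible_compl hT) isClosed_closure ⟨p, hpT, hp⟩
    obtain ⟨x, rfl⟩ := exists_pt_eq X hw
    have hx : x ∈ Pts.pt ⁻¹' closure T := hwcl
    rw [preimage_closure_eq T hT, h.closure_eq] at hx
    exact hwTc hx

/-- **S4189**. -/
theorem isOpen_iff (T : Set X) (hT : IsLocallyConstructible T) :
    IsOpen T ↔ IsOpen (Pts.pt ⁻¹' T : Set (Pts X)) := by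
  rw [← isClosed_compl_iff, ← isClosed_compl_iff (s := Pts.pt ⁻¹' T), ← Set.preimage_compl]
  exact isClosed_iff Tᶜ (isLocallyConstructible_compl hT)

/-- **S4190**. -/
theorem dense_iff (T : Set X) (hT : IsLocallyConstructible T) :
    Dense T ↔ Dense (Pts.pt ⁻¹' T : Set (Pts X)) := by
  rw [dense_iff_closure_eq, dense_iff_closure_eq, ← preimage_closure_eq T hT]
  constructor
  · intro h; rw [h]; rfl
  · intro h
    by_contra hne
    have := jacobsonSpace_of_lft X
    rw [← ne_eq, Set.ne_univ_iff_exists_notMem] at hne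
    obtain ⟨p, hp⟩ := hne
    obtain ⟨w, hwc, hw⟩ := nonempty_inter_closedPoints (Z := (closure T)ᶜ) ⟨p, hp⟩
      isClosed_closure.isOpen_compl.isLocallyClosed
    obtain ⟨x, rfl⟩ := exists_pt_eq X hw
    have : x ∈ Pts.pt ⁻¹' closure T := by rw [h]; trivial
    exact hwc this

variable {Y : Scheme.{0}} [Y.Over An.SC] [LocallyOfFiniteType (Y ↘ An.SC)]

omit [LocallyOfFiniteType (Y ↘ An.SC)] in
/-- The ℂ-points in the image of `f` are the images of ℂ-points. -/
theorem range_map_eq (f : X ⟶ Y) [f.IsOver An.SC] :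
    Set.range (Pts.map f) = Pts.pt ⁻¹' (Set.range f.base) := by
  have hf : LocallyOfFiniteType f := locallyOfFiniteType_of_isOver f
  ext y
  constructor
  · rintro ⟨x, rfl⟩
    exact ⟨x.pt, (Pts.pt_map f x).symm⟩
  · rintro ⟨x, hx⟩
    obtain ⟨z, -, -⟩ := Scheme.Pullback.exists_preimage_pullback (f := f) (g := y.1) x An.cpt hx
    have : JacobsonSpace ↥(Limits.pullback f y.1) :=
      LocallyOfFiniteType.jacobsonSpace (Limits.pullback.snd f y.1)
    obtain ⟨w, -, hw⟩ := nonempty_inter_closedPoints (X := ↥(Limits.pullback f y.1))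
      (Z := Set.univ) ⟨z, trivial⟩ isOpen_univ.isLocallyClosed
    let p : An.SC ⟶ Limits.pullback f y.1 := pointOfClosedPoint (Limits.pullback.snd f y.1) w hw
    have hp : p ≫ Limits.pullback.snd f y.1 = 𝟙 _ := pointOfClosedPoint_comp _ _ _
    have hxf : (p ≫ Limits.pullback.fst f y.1) ≫ f = y.1 := by
      rw [Category.assoc, Limits.pullback.condition, ← Category.assoc, hp, Category.id_comp]
    refine ⟨⟨p ≫ Limits.pullback.fst f y.1, ?_⟩, Subtype.ext hxf⟩
    rw [← comp_over f, ← Category.assoc, hxf, y.2]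

/-- **S4199**. -/
theorem denseRange_iff (f : X ⟶ Y) [f.IsOver An.SC] [QuasiCompact f] :
    DenseRange f.base ↔ DenseRange (Pts.map f) := by
  have hf : LocallyOfFiniteType f := locallyOfFiniteType_of_isOver f
  have : IsLocallyNoetherian Y := isLocallyNoetherian_of_lft Y
  have hfp : LocallyOfFinitePresentation f := inferInstance
  have hlc : IsLocallyConstructible (Set.range f.base) := by
    rw [← Set.image_univ]
    exact f.isLocallyConstructible_image IsLocallyConstructible.univ
  unfold DenseRange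
  rw [range_map_eq f]
  exact dense_iff _ hlc

end Groth.Agent.Lib.Helper7.AnDense
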