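import Groth.Agent.Lib.Helper7.AnDense4

set_option autoImplicit false
set_option maxHeartbeats 400000

open CategoryTheory AlgebraicGeometry Topology TopologicalSpace An Limits

namespace Groth.Agent.Lib.Helper7.AnDense

open Groth.Agent.Lib.Helper7 Groth.Agent.Lib.Helper7.AnTop

variable {X : Scheme.{0}} [X.Over An.SC] [LocallyOfFiniteType (X ↘ An.SC)]

/-- **S4187**. -/
theorem discreteTopology_iff : DiscreteTopology ↥X ↔ DiscreteTopology (Pts X) := by
  constructor
  · intro h
    rw [discreteTopology_iff_isOpen_singleton]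
    intro x
    have h1 : IsOpen (Pts.pt ⁻¹' ({x.pt} : Set X) : Set (Pts X)) :=
      (isOpen_discrete _).preimage Pts.continuous_pt
    have h2 : (Pts.pt ⁻¹' ({x.pt} : Set X) : Set (Pts X)) = {x} := by
      ext y
      simp only [Set.mem_preimage, Set.mem_singleton_iff]
      exact ⟨fun hy => pt_injective X hy, fun hy => by rw [hy]⟩
    rwa [h2] at h1
  · intro h
    have := jacobsonSpace_of_lft X
    have := isLocallyNoetherian_of_lft X
    rw [discreteTopology_iff_isOpen_singleton]
    intro p
    obtain ⟨w, hwp, hw⟩ := nonempty_inter_closedPoints (Z := closure ({p} : Set X))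
      ⟨p, subset_closure rfl⟩ isClosed_closure.isLocallyClosed
    have hwc : IsClosed ({w} : Set X) := hw
    have hwo : IsOpen ({w} : Set X) := by
      rw [isOpen_iff _ (isLocallyConstructible_of_isLocallyClosed hwc.isLocallyClosed)]
      exact isOpen_discrete _
    obtain ⟨q, hqw, hqp⟩ := mem_closure_iff.mp hwp {w} hwo rfl
    have hqw' : q = w := hqw
    have hqp' : q = p := hqp
    rw [← hqp', hqw']
    exact hwo

end Groth.Agent.Lib.Helper7.AnDense
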