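import Groth.Prelude.Def_AnEps
import Groth.Agent.Lib.Helper7.AnTop3

set_option autoImplicit false

open CategoryTheory AlgebraicGeometry Topology TopologicalSpace An Limits Opposite

namespace Groth.Agent.Lib.Helper7.AnEps

open Groth.Agent.Lib.Helper7 Groth.Agent.Lib.Helper7.AnTop

section lift

variable {X Y : Scheme.{0}} [X.Over An.SC] [Y.Over An.SC]

/-- Lifting ℂ-points along morphisms locally of finite type. -/
theorem exists_map_eq_of_lft (f : X ⟶ Y) [f.IsOver An.SC] [LocallyOfFiniteType f] (y : Pts Y)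
    (h : y.pt ∈ Set.range f) : ∃ x : Pts X, Pts.map f x = y := by
  obtain ⟨x, hx⟩ := h
  obtain ⟨z, -, -⟩ := Scheme.Pullback.exists_preimage_pullback (f := f) (g := y.1) x An.cpt hx
  have : JacobsonSpace ↥(pullback f y.1) :=
    LocallyOfFiniteType.jacobsonSpace (pullback.snd f y.1)
  obtain ⟨w, -, hw⟩ := nonempty_inter_closedPoints (X := ↥(pullback f y.1))
    (Z := Set.univ) ⟨z, trivial⟩ isOpen_univ.isLocallyClosed
  let p : An.SC ⟶ pullback f y.1 := pointOfClosedPoint (pullback.snd f y.1) w hw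
  have hp : p ≫ pullback.snd f y.1 = 𝟙 _ := pointOfClosedPoint_comp _ _ _
  have hxf : (p ≫ pullback.fst f y.1) ≫ f = y.1 := by
    rw [Category.assoc, pullback.condition, ← Category.assoc, hp, Category.id_comp]
  exact exists_map_eq_of_lift f y _ hxf

end lift

variable (X : Scheme.{0}) [X.Over An.SC] [LocallyOfFiniteType (X ↘ An.SC)] [Fact An.EtaleLH]

instance lft_etale_left (U : X.Etale) : LocallyOfFiniteType (U.left ↘ An.SC) :=
  inferInstanceAs (LocallyOfFiniteType (U.hom ≫ (X ↘ An.SC)))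

theorem eps_map_toFun {U V : X.Etale} (g : U ⟶ V) :
    ((eps X).map g).toFun = Pts.map (X := U.left) (Y := V.left) g.left := rfl

theorem isLocalHomeomorph_map {U V : X.Etale} (g : U ⟶ V) :
    IsLocalHomeomorph (Pts.map (X := U.left) (Y := V.left) g.left) :=
  (Fact.out : An.EtaleLH) U.left V.left g.left

set_option backward.defeqAttrib.useBackward true in
set_option backward.isDefEq.respectTransparency false in
/-- A covering sieve of the small étale site contains, through every point, a member. -/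
theorem exists_arrow_of_mem_smallEtaleTopology {U : X.Etale} {R : Sieve U}
    (hR : R ∈ X.smallEtaleTopology U) (p : U.left) :
    ∃ (V : X.Etale) (gV : V ⟶ U), R.arrows gV ∧ p ∈ Set.range gV.left := by
  obtain ⟨𝒰, hOver, hP, hle⟩ := (Scheme.mem_smallGrothendieckTopology U R).mp hR
  obtain ⟨j, y, hy⟩ := 𝒰.exists_eq p
  exact ⟨(𝒰.X j).asOverProp X (hP j), (𝒰.f j).asOverProp X, hle _ _ (Presieve.ofArrows.mk j),
    ⟨y, hy⟩⟩

theorem eps_coverPreserving :
    CoverPreserving X.smallEtaleTopology (Cl.topology (Pts X)) (eps X) := by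
  refine ⟨fun {U R} hR => ?_⟩
  intro a
  obtain ⟨V, gV, hRg, hrange⟩ := exists_arrow_of_mem_smallEtaleTopology X hR (Pts.pt (X := U.left) a)
  obtain ⟨b, hb⟩ := exists_map_eq_of_lft (X := V.left) (Y := U.left) gV.left a hrange
  obtain ⟨e, hbe, he⟩ := isLocalHomeomorph_map X gV b
  refine ⟨Cl.restrictOpen ((eps X).obj V) e.source e.open_source,
    Cl.restrictOpenι ((eps X).obj V) e.source e.open_source ≫ (eps X).map gV,
    ⟨V, gV, Cl.restrictOpenι ((eps X).obj V) e.source e.open_source, hRg, rfl⟩, ?_, ?_⟩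
  · have : (Cl.restrictOpenι ((eps X).obj V) e.source e.open_source ≫ (eps X).map gV).toFun =
        e.source.restrict e := by
      funext w
      show Pts.map (X := V.left) (Y := U.left) gV.left w.1 = e w.1
      rw [he]
    rw [this]
    exact e.isOpenEmbedding_restrict
  · exact ⟨⟨b, hbe⟩, hb⟩


universe w

set_option backward.isDefEq.respectTransparency.types false in
theorem eps_compatiblePreserving :
    CompatiblePreserving.{w} (Cl.topology (Pts X)) (eps X) := by
  refine ⟨fun ℱ Z T x hx Y₁ Y₂ B f₁ f₂ g₁ g₂ hg₁ hg₂ hcomm => ?_⟩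
  haveI : Etale (pullback.fst g₁.left g₂.left ≫ Y₁.hom) := inferInstance
  let P : X.Etale := MorphismProperty.Over.mk ⊤ (pullback.fst g₁.left g₂.left ≫ Y₁.hom)
    inferInstance
  have w₂ : pullback.snd g₁.left g₂.left ≫ Y₂.hom = pullback.fst g₁.left g₂.left ≫ Y₁.hom := by
    rw [← MorphismProperty.Over.w g₂, ← MorphismProperty.Over.w g₁, ← Category.assoc,
      ← Category.assoc, pullback.condition]
  let π₁ : P ⟶ Y₁ := MorphismProperty.Over.homMk (pullback.fst g₁.left g₂.left) rfl trivial
  let π₂ : P ⟶ Y₂ := MorphismProperty.Over.homMk (pullback.snd g₁.left g₂.left) w₂ trivial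
  have hπ : π₁ ≫ g₁ = π₂ ≫ g₂ := MorphismProperty.Over.Hom.ext (by
    show pullback.fst g₁.left g₂.left ≫ g₁.left = pullback.snd g₁.left g₂.left ≫ g₂.left
    exact pullback.condition)
  -- the homeomorphism for the fibre product
  let Θ := (isHomeomorph_pullback (X := Y₁.left) (Y := Y₂.left) (S := Z.left)
    g₁.left g₂.left).homeomorph
  let κ := Pts.cast (X := pullback g₁.left g₂.left)
    (An.pullbackOver (X := Y₁.left) (Y := Y₂.left) (S := Z.left) g₁.left g₂.left)
    (An.etaleOverLeft X P) (Category.assoc _ _ _).symm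
  have hb : ∀ b : B.E, Pts.map (X := Y₁.left) (Y := Z.left) g₁.left (f₁.toFun b) =
      Pts.map (X := Y₂.left) (Y := Z.left) g₂.left (f₂.toFun b) :=
    fun b => congrFun (congrArg Cl.Hom.toFun hcomm) b
  let zf : B.E → Pts (pullback g₁.left g₂.left) := fun b =>
    Θ.symm ⟨(f₁.toFun b, f₂.toFun b), hb b⟩
  have hz : ∀ b, Θ (zf b) = ⟨(f₁.toFun b, f₂.toFun b), hb b⟩ := fun b =>
    Θ.apply_symm_apply _
  have hz1 : ∀ b, (zf b).1 ≫ pullback.fst g₁.left g₂.left = (f₁.toFun b).1 := fun b =>
    congrArg (fun q => (q.1.1).1) (hz b)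
  have hz2 : ∀ b, (zf b).1 ≫ pullback.snd g₁.left g₂.left = (f₂.toFun b).1 := fun b =>
    congrArg (fun q => (q.1.2).1) (hz b)
  let h : B ⟶ (eps X).obj P :=
    ⟨fun b => κ (zf b), κ.continuous.comp (Θ.symm.continuous.comp
        (Continuous.subtype_mk (f₁.continuous.prodMk f₂.continuous) _)),
      fun b => by
        have h1 := f₁.over b
        apply Subtype.ext
        show (zf b).1 ≫ (pullback.fst g₁.left g₂.left ≫ Y₁.hom) = (B.p b).1
        rw [← Category.assoc, hz1, ← h1]
        rfl⟩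
  have e1 : f₁ = h ≫ (eps X).map π₁ := by
    apply Cl.hom_ext
    funext b
    apply Subtype.ext
    show (f₁.toFun b).1 = (zf b).1 ≫ pullback.fst g₁.left g₂.left
    rw [hz1]
  have e2 : f₂ = h ≫ (eps X).map π₂ := by
    apply Cl.hom_ext
    funext b
    apply Subtype.ext
    show (f₂.toFun b).1 = (zf b).1 ≫ pullback.snd g₁.left g₂.left
    rw [hz2]
  have hcompat := hx π₁ π₂ hg₁ hg₂ hπ
  rw [e1, e2, op_comp, op_comp, Functor.map_comp, Functor.map_comp]
  exact congrArg (ℱ.obj.map h.op) hcompat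

theorem epsCont : An.EpsCont X :=
  Functor.isContinuous_of_coverPreserving (eps_compatiblePreserving X) (eps_coverPreserving X)

end Groth.Agent.Lib.Helper7.AnEps
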