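import Groth.Agent.Lib.Helper13.FlatPullback
import Groth.Agent.Lib.Helper7.AnEps

set_option autoImplicit false
set_option maxHeartbeats 800000

/-!
# The comparison functor ε preserves finite limits, hence ε^* is exact (S4210)
-/

open CategoryTheory AlgebraicGeometry Topology TopologicalSpace Limits An

namespace Groth.Agent.Lib.Helper7.AnFlat

open Groth.Agent.Lib.Helper7.AnTop Groth.Agent.Lib.Helper7.AnEps

section pullback

variable {X : Scheme.{0}}
variable {U V W : X.Etale} (f : U ⟶ W) (g : V ⟶ W)

/-- The explicit fibre product in the small étale site. -/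
noncomputable def P : X.Etale :=
  MorphismProperty.Over.mk ⊤ (pullback.fst f.left g.left ≫ U.hom) inferInstance

theorem w₂ : pullback.snd f.left g.left ≫ V.hom = pullback.fst f.left g.left ≫ U.hom := by
  rw [← MorphismProperty.Over.w g, ← MorphismProperty.Over.w f, ← Category.assoc,
    ← Category.assoc, pullback.condition]

noncomputable def π₁ : P f g ⟶ U :=
  MorphismProperty.Over.homMk (pullback.fst f.left g.left) rfl trivial

noncomputable def π₂ : P f g ⟶ V :=
  MorphismProperty.Over.homMk (pullback.snd f.left g.left) (w₂ f g) trivial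

theorem hπ : π₁ f g ≫ f = π₂ f g ≫ g := MorphismProperty.Over.Hom.ext (by
  show pullback.fst f.left g.left ≫ f.left = pullback.snd f.left g.left ≫ g.left
  exact pullback.condition)

set_option backward.isDefEq.respectTransparency.types false in
/-- The explicit cone is a pullback in `X.Etale`. -/
noncomputable def isLimitP : IsLimit (PullbackCone.mk (π₁ f g) (π₂ f g) (hπ f g)) :=
  PullbackCone.IsLimit.mk (hπ f g)
    (fun s => MorphismProperty.Over.homMk
      (pullback.lift s.fst.left s.snd.left (congrArg (fun m => m.left) s.condition))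
      (by
        show pullback.lift s.fst.left s.snd.left _ ≫ (pullback.fst f.left g.left ≫ U.hom) =
          s.pt.hom
        rw [pullback.lift_fst_assoc]
        exact MorphismProperty.Over.w s.fst) trivial)
    (fun s => MorphismProperty.Over.Hom.ext (pullback.lift_fst _ _ _))
    (fun s => MorphismProperty.Over.Hom.ext (pullback.lift_snd _ _ _))
    (fun s m h1 h2 => MorphismProperty.Over.Hom.ext (by
      apply pullback.hom_ext
      · refine Eq.trans ?_ (pullback.lift_fst _ _ _).symm
        exact congrArg (fun m => m.left) h1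
      · refine Eq.trans ?_ (pullback.lift_snd _ _ _).symm
        exact congrArg (fun m => m.left) h2))

end pullback


section cl

variable {X : Scheme.{0}} [X.Over An.SC] [LocallyOfFiniteType (X ↘ An.SC)] [Fact An.EtaleLH]
variable {U V W : X.Etale} (f : U ⟶ W) (g : V ⟶ W)

set_option backward.isDefEq.respectTransparency.types false in
theorem exists_lift {B : Cl (Pts X)} (f₁ : B ⟶ (eps X).obj U) (f₂ : B ⟶ (eps X).obj V)
    (hcomm : f₁ ≫ (eps X).map f = f₂ ≫ (eps X).map g) :
    ∃ h : B ⟶ (eps X).obj (P f g),
      h ≫ (eps X).map (π₁ f g) = f₁ ∧ h ≫ (eps X).map (π₂ f g) = f₂ := by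
  let Θ := (isHomeomorph_pullback (X := U.left) (Y := V.left) (S := W.left)
    f.left g.left).homeomorph
  let κ := Pts.cast (X := pullback f.left g.left)
    (An.pullbackOver (X := U.left) (Y := V.left) (S := W.left) f.left g.left)
    (An.etaleOverLeft X (P f g)) (Category.assoc _ _ _).symm
  have hb : ∀ b : B.E, Pts.map (X := U.left) (Y := W.left) f.left (f₁.toFun b) =
      Pts.map (X := V.left) (Y := W.left) g.left (f₂.toFun b) :=
    fun b => congrFun (congrArg Cl.Hom.toFun hcomm) b
  let zf : B.E → Pts (pullback f.left g.left) := fun b =>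
    Θ.symm ⟨(f₁.toFun b, f₂.toFun b), hb b⟩
  have hz : ∀ b, Θ (zf b) = ⟨(f₁.toFun b, f₂.toFun b), hb b⟩ := fun b =>
    Θ.apply_symm_apply _
  have hz1 : ∀ b, (zf b).1 ≫ pullback.fst f.left g.left = (f₁.toFun b).1 := fun b =>
    congrArg (fun q => (q.1.1).1) (hz b)
  have hz2 : ∀ b, (zf b).1 ≫ pullback.snd f.left g.left = (f₂.toFun b).1 := fun b =>
    congrArg (fun q => (q.1.2).1) (hz b)
  let h : B ⟶ (eps X).obj (P f g) :=
    ⟨fun b => κ (zf b), κ.continuous.comp (Θ.symm.continuous.comp
        (Continuous.subtype_mk (f₁.continuous.prodMk f₂.continuous) _)),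
      fun b => by
        have h1 := f₁.over b
        apply Subtype.ext
        show (zf b).1 ≫ (pullback.fst f.left g.left ≫ U.hom) = (B.p b).1
        rw [← Category.assoc, hz1, ← h1]
        rfl⟩
  refine ⟨h, ?_, ?_⟩
  · apply Cl.hom_ext
    funext b
    apply Subtype.ext
    show (zf b).1 ≫ pullback.fst f.left g.left = (f₁.toFun b).1
    rw [hz1]
  · apply Cl.hom_ext
    funext b
    apply Subtype.ext
    show (zf b).1 ≫ pullback.snd f.left g.left = (f₂.toFun b).1
    rw [hz2]

set_option backward.isDefEq.respectTransparency.types false in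
theorem hom_ext_P {B : Cl (Pts X)} (h h' : B ⟶ (eps X).obj (P f g))
    (e1 : h ≫ (eps X).map (π₁ f g) = h' ≫ (eps X).map (π₁ f g))
    (e2 : h ≫ (eps X).map (π₂ f g) = h' ≫ (eps X).map (π₂ f g)) : h = h' := by
  apply Cl.hom_ext
  funext b
  apply Subtype.ext
  show ((h.toFun b).1 : An.SC ⟶ pullback f.left g.left) = (h'.toFun b).1
  apply pullback.hom_ext
  · exact congrArg (fun q => q.1) (congrFun (congrArg Cl.Hom.toFun e1) b)
  · exact congrArg (fun q => q.1) (congrFun (congrArg Cl.Hom.toFun e2) b)

theorem hπ_eps : (eps X).map (π₁ f g) ≫ (eps X).map f = (eps X).map (π₂ f g) ≫ (eps X).map g := by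
  rw [← Functor.map_comp, ← Functor.map_comp, hπ]

/-- The image under `ε` of the explicit pullback cone is a pullback in the classical site. -/
noncomputable def isLimitEps :
    IsLimit (PullbackCone.mk ((eps X).map (π₁ f g)) ((eps X).map (π₂ f g)) (hπ_eps f g)) :=
  PullbackCone.IsLimit.mk _
    (fun s => Classical.choose (exists_lift f g s.fst s.snd s.condition))
    (fun s => (Classical.choose_spec (exists_lift f g s.fst s.snd s.condition)).1)
    (fun s => (Classical.choose_spec (exists_lift f g s.fst s.snd s.condition)).2)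
    (fun s m h1 h2 => hom_ext_P f g _ _
      (h1.trans (Classical.choose_spec (exists_lift f g s.fst s.snd s.condition)).1.symm)
      (h2.trans (Classical.choose_spec (exists_lift f g s.fst s.snd s.condition)).2.symm))

instance preservesLimit_cospan : PreservesLimit (cospan f g) (eps X) :=
  preservesLimit_of_preserves_limit_cone (isLimitP f g)
    ((isLimitMapConePullbackConeEquiv (eps X) (hπ f g)).symm (isLimitEps f g))

end cl

section main

variable (X : Scheme.{0}) [X.Over An.SC] [LocallyOfFiniteType (X ↘ An.SC)] [Fact An.EtaleLH]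

instance preservesPullbacks_eps : PreservesLimitsOfShape WalkingCospan (eps X) :=
  ⟨fun {K} => preservesLimit_of_iso_diagram _ (diagramIsoCospan K).symm⟩

set_option backward.isDefEq.respectTransparency.types false in
/-- `X` itself is terminal in its small étale site. -/
noncomputable def isTerminalTop : IsTerminal (EtCoh.top X) :=
  IsTerminal.ofUniqueHom
    (fun U => MorphismProperty.Over.homMk U.hom (Category.comp_id _) trivial)
    (fun U m => MorphismProperty.Over.Hom.ext
      ((Category.comp_id _).symm.trans (MorphismProperty.Over.w m)))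

instance preservesTerminal_eps : PreservesLimit (Functor.empty.{0} X.Etale) (eps X) :=
  preservesLimit_of_preserves_limit_cone (isTerminalTop X)
    ((isLimitMapConeEmptyConeEquiv (eps X) (EtCoh.top X)).symm
      (IsTerminal.ofIso (Cl.selfIsTerminal (Pts X)) (epsTopIso X).symm))

instance preservesTerminal_eps' : PreservesLimitsOfShape (Discrete.{0} PEmpty) (eps X) :=
  preservesLimitsOfShape_pempty_of_preservesTerminal _

instance preservesFiniteLimits_eps : PreservesFiniteLimits (eps X) :=
  preservesFiniteLimits_of_preservesTerminal_and_pullbacks _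

instance representablyFlat_eps : RepresentablyFlat (eps X) :=
  flat_of_preservesFiniteLimits _

instance lan_eps_preservesFiniteLimits : PreservesFiniteLimits ((An.eps X).op.lan :
      (X.Etaleᵒᵖ ⥤ AddCommGrpCat.{1}) ⥤ (Cl (Pts X))ᵒᵖ ⥤ AddCommGrpCat.{1}) :=
  Groth.Agent.Lib.Helper13.FlatPullback.lan_preservesFiniteLimits_of_flat' AddCommGrpCat.{1}
    (An.eps X) (fun _ _ => by
    have : PreservesFilteredColimitsOfSize.{0, 1} (forget AddCommGrpCat.{1}) :=
      preservesFilteredColimitsOfSize_of_univLE.{1, 1, 0, 1} _
    infer_instance)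

/-- **S4210**. -/
theorem epsPull_preservesFiniteLimits [An.EpsCont X] :
    PreservesFiniteLimits (An.epsPull X) :=
  Functor.sheafPullbackConstruction.preservesFiniteLimits (An.eps X) AddCommGrpCat.{1}
    X.smallEtaleTopology (Cl.topology (Pts X))

end main

end Groth.Agent.Lib.Helper7.AnFlat
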