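import Groth.Prelude.Def_AnPts
import Groth.Agent.Lib.Helper7.AnBasic
import Mathlib

set_option autoImplicit false

open CategoryTheory AlgebraicGeometry Topology TopologicalSpace An

namespace Groth.Agent.Lib.Helper7.AnTop

variable {X : Scheme.{0}} [X.Over An.SC]

/-- Evaluation at a ℂ-point as a ring homomorphism. -/
noncomputable def evHom (x : Pts X) (U : X.Opens) (h : x.pt ∈ U) : Γ(X, U) →+* ℂ :=
  (Scheme.ΓSpecIso (CommRingCat.of ℂ)).hom.hom.comp
    (x.1.appLE U ⊤ (Pts.top_le_preimage x h)).hom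

theorem evHom_apply (x : Pts X) (U : X.Opens) (h : x.pt ∈ U) (s : Γ(X, U)) :
    evHom x U h s = x.ev U h s := rfl

theorem ev_res (x : Pts X) {U U' : X.Opens} (hle : U ≤ U') (h : x.pt ∈ U) (s : Γ(X, U')) :
    x.ev U h (X.presheaf.map (homOfLE hle).op s) = x.ev U' (hle h) s := by
  unfold Pts.ev
  congr 1
  rw [← CommRingCat.comp_apply, Scheme.Hom.map_appLE]

theorem ev_map_appLE {Y : Scheme.{0}} [Y.Over An.SC] (g : X ⟶ Y) [g.IsOver An.SC] (x : Pts X)
    (U : Y.Opens) (W : X.Opens) (e : W ≤ g ⁻¹ᵁ U) (hW : x.pt ∈ W) (s : Γ(Y, U)) :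
    (Pts.map g x).ev U (by rw [Pts.pt_map]; exact e hW) s = x.ev W hW (g.appLE U W e s) := by
  unfold Pts.ev
  congr 1
  rw [← CommRingCat.comp_apply, Scheme.Hom.appLE_comp_appLE]
  rfl

theorem mem_basicOpen_iff (x : Pts X) (U : X.Opens) (h : x.pt ∈ U) (s : Γ(X, U)) :
    x.pt ∈ X.basicOpen s ↔ x.ev U h s ≠ 0 := by
  have h1 : x.pt ∈ X.basicOpen s ↔ An.cpt ∈ x.1 ⁻¹ᵁ (X.basicOpen s) := Iff.rfl
  have h2 := Scheme.basicOpen_appLE x.1 ⊤ U (Pts.top_le_preimage x h) s
  rw [top_inf_eq] at h2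
  rw [h1, ← h2, basicOpen_eq_of_affine']
  show (Scheme.ΓSpecIso (CommRingCat.of ℂ)).hom (x.1.appLE U ⊤ _ s) ∉ (An.cpt).asIdeal ↔ _
  have h3 : (An.cpt).asIdeal = ⊥ := rfl
  rw [h3, Ideal.mem_bot]
  rfl


/-- Local fraction formula: on `D(b) ⊆ U` (`b` a section over `W`), if `s|_D · b^k = a|_D` then
`s(x) = a(x)/b(x)^k`. -/
theorem ev_eq_div (x : Pts X) {U W : X.Opens} (s : Γ(X, U)) (a b : Γ(X, W)) (k : ℕ)
    (hDU : X.basicOpen b ≤ U)
    (hrel : X.presheaf.map (homOfLE hDU).op s *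
      (X.presheaf.map (homOfLE (X.basicOpen_le b)).op b) ^ k =
      X.presheaf.map (homOfLE (X.basicOpen_le b)).op a)
    (hW : x.pt ∈ W) (hD : x.pt ∈ X.basicOpen b) :
    x.ev U (hDU hD) s = x.ev W hW a / (x.ev W hW b) ^ k := by
  have hb0 : x.ev W hW b ≠ 0 := (mem_basicOpen_iff x W hW b).mp hD
  have h1 := congrArg (evHom x (X.basicOpen b) hD) hrel
  rw [map_mul, map_pow, evHom_apply, evHom_apply, evHom_apply, ev_res, ev_res, ev_res] at h1
  rw [eq_div_iff (pow_ne_zero k hb0)]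
  exact h1

/-- **Key lemma**: the complex topology is generated by the sets `basicSet W a V` with `W` ranging
over any family of affine opens covering `X`. Stated as: any topology in which these are open is
finer than the complex topology. -/
theorem le_topologicalSpace_of_affine_family (𝓑 : Set X.Opens)
    (h𝓑 : ∀ W ∈ 𝓑, IsAffineOpen W) (hcov : ∀ p : X, ∃ W ∈ 𝓑, p ∈ W)
    (τ : TopologicalSpace (Pts X))
    (hτ : ∀ W ∈ 𝓑, ∀ (a : Γ(X, W)) (V : Set ℂ), IsOpen V → IsOpen[τ] (Pts.basicSet W a V)) :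
    τ ≤ (Pts.topologicalSpace : TopologicalSpace (Pts X)) := by
  apply le_generateFrom
  rintro _ ⟨U, s, V, hV, rfl⟩
  rw [@isOpen_iff_forall_mem_open (Pts X) τ _]
  rintro x ⟨hxU, hxV⟩
  obtain ⟨W, hW𝓑, hxW⟩ := hcov x.pt
  have hWaff := h𝓑 W hW𝓑
  obtain ⟨b, hbU, hxb⟩ := hWaff.exists_basicOpen_le (V := U) ⟨x.pt, hxU⟩ hxW
  have hloc := hWaff.isLocalization_basicOpen b
  obtain ⟨⟨a, ⟨_, k, rfl⟩⟩, hrel⟩ := IsLocalization.surj (Submonoid.powers b)
    (X.presheaf.map (homOfLE hbU).op s)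
  have hrel' : X.presheaf.map (homOfLE hbU).op s *
      (X.presheaf.map (homOfLE (X.basicOpen_le b)).op b) ^ k =
      X.presheaf.map (homOfLE (X.basicOpen_le b)).op a := by
    rw [← map_pow]; exact hrel
  -- the open set in ℂ²
  set O : Set (ℂ × ℂ) := {p | p.2 ≠ 0 ∧ p.1 / p.2 ^ k ∈ V} with hO
  have hOopen : IsOpen O := by
    have h2 : IsOpen {p : ℂ × ℂ | p.2 ≠ 0} := isOpen_ne_fun continuous_snd continuous_const
    have hc : ContinuousOn (fun p : ℂ × ℂ => p.1 / p.2 ^ k) {p : ℂ × ℂ | p.2 ≠ 0} :=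
      ContinuousOn.div continuous_fst.continuousOn (continuous_snd.pow k).continuousOn
        (fun p hp => pow_ne_zero k hp)
    exact hc.isOpen_inter_preimage h2 hV
  set T : Set (Pts X) := {x' | ∃ h : x'.pt ∈ W, (x'.ev W h a, x'.ev W h b) ∈ O} with hT
  have hTsub : T ⊆ Pts.basicSet U s V := by
    rintro x' ⟨h, hb0, hv⟩
    have hD : x'.pt ∈ X.basicOpen b := (mem_basicOpen_iff x' W h b).mpr hb0
    refine ⟨hbU hD, ?_⟩
    rw [ev_eq_div x' s a b k hbU hrel' h hD]
    exact hv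
  have hxT : x ∈ T := by
    refine ⟨hxW, (mem_basicOpen_iff x W hxW b).mp hxb, ?_⟩
    show x.ev W hxW a / (x.ev W hxW b) ^ k ∈ V
    rw [← ev_eq_div x s a b k hbU hrel' hxW hxb]
    exact hxV
  have hTopen : IsOpen[τ] T := by
    rw [@isOpen_iff_forall_mem_open (Pts X) τ _]
    rintro x' ⟨h, hx'O⟩
    obtain ⟨V₁, V₂, hV₁, hV₂, h1, h2, h12⟩ := isOpen_prod_iff.mp hOopen _ _ hx'O
    refine ⟨Pts.basicSet W a V₁ ∩ Pts.basicSet W b V₂, ?_, ?_, ⟨⟨h, h1⟩, ⟨h, h2⟩⟩⟩
    · rintro y ⟨⟨hy, hy1⟩, ⟨_, hy2⟩⟩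
      exact ⟨hy, h12 (Set.mk_mem_prod hy1 hy2)⟩
    · exact @IsOpen.inter _ τ _ _ (hτ W hW𝓑 a V₁ hV₁) (hτ W hW𝓑 b V₂ hV₂)
  exact ⟨T, hTsub, hTopen, hxT⟩


/-! ### Points of affine schemes -/

theorem evTop_eq (x : Pts X) (a : Γ(X, ⊤)) :
    x.evTop a = (Scheme.ΓSpecIso (CommRingCat.of ℂ)).hom (x.1.appTop a) := by
  unfold Pts.evTop Pts.ev
  congr 1

theorem evTop_strHom (x : Pts X) (c : ℂ) : x.evTop (An.strHom X c) = c := by
  rw [evTop_eq]
  have h1 : (X ↘ An.SC).appTop ≫ x.1.appTop = 𝟙 _ := by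
    rw [← Scheme.Hom.comp_appTop, x.2]; rfl
  show (Scheme.ΓSpecIso (CommRingCat.of ℂ)).hom
    (x.1.appTop ((X ↘ An.SC).appTop ((Scheme.ΓSpecIso (CommRingCat.of ℂ)).inv c))) = c
  rw [← CommRingCat.comp_apply (X ↘ An.SC).appTop x.1.appTop, h1]
  exact Iso.inv_hom_id_apply (C := CommRingCat) _ _

theorem continuous_evTop (a : Γ(X, ⊤)) : Continuous (fun x : Pts X => x.evTop a) := by
  rw [continuous_def]
  intro V hV
  have : (fun x : Pts X => x.evTop a) ⁻¹' V = Pts.basicSet ⊤ a V := by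
    ext x
    exact ⟨fun h => ⟨Opens.mem_top _, h⟩, fun ⟨_, h⟩ => h⟩
  rw [this]
  exact Pts.isOpen_basicSet _ _ hV

theorem basicSet_top (a : Γ(X, ⊤)) (V : Set ℂ) :
    Pts.basicSet ⊤ a V = (fun x : Pts X => x.evTop a) ⁻¹' V := by
  ext x
  exact ⟨fun ⟨_, h⟩ => h, fun h => ⟨Opens.mem_top _, h⟩⟩

theorem pts_ext_of_evTop [IsAffine X] {x x' : Pts X} (h : ∀ a, x.evTop a = x'.evTop a) :
    x = x' := by
  apply Subtype.ext
  apply ext_of_isAffine
  ext a
  have := h a
  rw [evTop_eq, evTop_eq] at this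
  have hinj : Function.Injective (Scheme.ΓSpecIso (CommRingCat.of ℂ)).hom :=
    (ConcreteCategory.bijective_of_isIso (Scheme.ΓSpecIso (CommRingCat.of ℂ)).hom).1
  exact hinj this

theorem exists_pts_of_ringHom [IsAffine X] (φ : Γ(X, ⊤) →+* ℂ)
    (hφ : ∀ c, φ (An.strHom X c) = c) : ∃ x : Pts X, ∀ a, x.evTop a = φ a := by
  set x₀ : An.SC ⟶ X := Spec.map (CommRingCat.ofHom φ) ≫ X.isoSpec.inv with hx₀
  have hinvtop : X.isoSpec.inv.appTop = (Scheme.ΓSpecIso Γ(X, ⊤)).inv := by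
    have h1 : X.isoSpec.inv.appTop ≫ X.isoSpec.hom.appTop = 𝟙 _ := by
      rw [← Scheme.Hom.comp_appTop, Iso.hom_inv_id]; rfl
    have h2 : X.isoSpec.hom.appTop = (Scheme.ΓSpecIso Γ(X, ⊤)).hom := Scheme.toSpecΓ_appTop X
    rw [h2] at h1
    rw [← Category.comp_id X.isoSpec.inv.appTop, ← (Scheme.ΓSpecIso Γ(X, ⊤)).hom_inv_id,
      ← Category.assoc, h1, Category.id_comp]
  have hE : ∀ w : Γ(X, ⊤), (Scheme.ΓSpecIso (CommRingCat.of ℂ)).hom (x₀.appTop w) = φ w := by
    intro w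
    have h1 : x₀.appTop = X.isoSpec.inv.appTop ≫ (Spec.map (CommRingCat.ofHom φ)).appTop := rfl
    have key : (Scheme.ΓSpecIso Γ(X, ⊤)).inv ≫ (Scheme.ΓSpecIso (CommRingCat.of ↑Γ(X, ⊤))).hom =
        𝟙 _ := (Scheme.ΓSpecIso Γ(X, ⊤)).inv_hom_id
    rw [h1, hinvtop, ← CommRingCat.comp_apply, Category.assoc, Scheme.ΓSpecIso_naturality,
      ← Category.assoc, key, Category.id_comp]
    rfl
  have hinj : Function.Injective (Scheme.ΓSpecIso (CommRingCat.of ℂ)).hom :=
    (ConcreteCategory.bijective_of_isIso (Scheme.ΓSpecIso (CommRingCat.of ℂ)).hom).1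
  have hx₀2 : x₀ ≫ (X ↘ An.SC) = 𝟙 An.SC := by
    apply ext_of_isAffine
    ext z
    apply hinj
    have h1 : (x₀ ≫ (X ↘ An.SC)).appTop z = x₀.appTop ((X ↘ An.SC).appTop z) := rfl
    rw [h1, hE]
    have h2 : (X ↘ An.SC).appTop z =
        An.strHom X ((Scheme.ΓSpecIso (CommRingCat.of ℂ)).hom z) := by
      show _ = (X ↘ An.SC).appTop ((Scheme.ΓSpecIso (CommRingCat.of ℂ)).inv
        ((Scheme.ΓSpecIso (CommRingCat.of ℂ)).hom z))
      rw [Iso.hom_inv_id_apply]
    rw [h2, hφ]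
    rfl
  exact ⟨(⟨x₀, hx₀2⟩ : Pts X), fun a => (evTop_eq (⟨x₀, hx₀2⟩ : Pts X) a).trans (hE a)⟩


/-- For affine `X`, any topology making all `x ↦ a(x)` (global `a`) continuous is finer than the
complex topology. -/
theorem le_topologicalSpace_of_affine [IsAffine X] (τ : TopologicalSpace (Pts X))
    (hτ : ∀ (a : Γ(X, ⊤)) (V : Set ℂ), IsOpen V → IsOpen[τ] ((fun x : Pts X => x.evTop a) ⁻¹' V)) :
    τ ≤ (Pts.topologicalSpace : TopologicalSpace (Pts X)) := by
  apply le_topologicalSpace_of_affine_family {⊤}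
  · rintro W rfl
    exact isAffineOpen_top X
  · intro p
    exact ⟨⊤, rfl, Opens.mem_top _⟩
  · rintro W rfl a V hV
    rw [basicSet_top]
    exact hτ a V hV

theorem evTop_eval₂Hom (x : Pts X) {n : ℕ} (s : Fin n → Γ(X, ⊤)) (p : MvPolynomial (Fin n) ℂ) :
    x.evTop (MvPolynomial.eval₂Hom (An.strHom X) s p) =
      MvPolynomial.eval (fun i => x.evTop (s i)) p := by
  have h : (evHom x ⊤ (Opens.mem_top _)).comp (MvPolynomial.eval₂Hom (An.strHom X) s) =
      MvPolynomial.eval (fun i => x.evTop (s i)) := by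
    apply MvPolynomial.ringHom_ext
    · intro c
      simp only [RingHom.comp_apply, MvPolynomial.eval₂Hom_C, MvPolynomial.eval_C]
      exact evTop_strHom x c
    · intro i
      simp only [RingHom.comp_apply, MvPolynomial.eval₂Hom_X', MvPolynomial.eval_X]
      rfl
  exact RingHom.congr_fun h p

/-- The image of the ℂ-points under a generating family is the zero set of the relations. -/
theorem range_of_generators [IsAffine X] (n : ℕ) (s : Fin n → Γ(X, ⊤))
    (hs : Function.Surjective (MvPolynomial.eval₂Hom (An.strHom X) s)) :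
    Set.range (fun (x : Pts X) (i : Fin n) => x.evTop (s i)) =
      ⋂ p ∈ RingHom.ker (MvPolynomial.eval₂Hom (An.strHom X) s),
        {z | MvPolynomial.eval z p = 0} := by
  ext z
  simp only [Set.mem_range, Set.mem_iInter, Set.mem_setOf_eq]
  constructor
  · rintro ⟨x, rfl⟩ p hp
    rw [← evTop_eval₂Hom, RingHom.mem_ker.mp hp]
    exact map_zero (evHom x ⊤ (Opens.mem_top _))
  · intro hz
    set φ : Γ(X, ⊤) →+* ℂ := (MvPolynomial.eval₂Hom (An.strHom X) s).liftOfSurjective hs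
      ⟨MvPolynomial.eval z, fun p hp => RingHom.mem_ker.mpr (hz p hp)⟩ with hφdef
    have hφ : ∀ p, φ (MvPolynomial.eval₂Hom (An.strHom X) s p) = MvPolynomial.eval z p :=
      fun p => RingHom.liftOfSurjective_comp_apply _ hs _ p
    obtain ⟨x, hx⟩ := exists_pts_of_ringHom φ (fun c => by
      have := hφ (MvPolynomial.C c)
      rwa [MvPolynomial.eval₂Hom_C, MvPolynomial.eval_C] at this)
    refine ⟨x, funext fun i => ?_⟩
    show x.evTop (s i) = z i
    rw [hx]
    have := hφ (MvPolynomial.X i)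
    rwa [MvPolynomial.eval₂Hom_X', MvPolynomial.eval_X] at this

/-- **S4184 without finiteness hypotheses**: generators of the coordinate ring give a closed
embedding of the ℂ-points into `ℂⁿ`. -/
theorem isClosedEmbedding_of_generators [IsAffine X] (n : ℕ) (s : Fin n → Γ(X, ⊤))
    (hs : Function.Surjective (MvPolynomial.eval₂Hom (An.strHom X) s)) :
    Topology.IsClosedEmbedding (fun (x : Pts X) (i : Fin n) => x.evTop (s i)) := by
  have hrange := range_of_generators n s hs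
  set Φ : Pts X → (Fin n → ℂ) := fun x i => x.evTop (s i) with hΦ
  have hcont : Continuous Φ := continuous_pi (fun i => continuous_evTop (s i))
  have hev : ∀ (x : Pts X) (p : MvPolynomial (Fin n) ℂ),
      x.evTop (MvPolynomial.eval₂Hom (An.strHom X) s p) = MvPolynomial.eval (Φ x) p :=
    fun x p => evTop_eval₂Hom x s p
  refine ⟨⟨⟨le_antisymm hcont.le_induced ?_⟩, ?_⟩, ?_⟩
  · apply le_topologicalSpace_of_affine
    intro a V hV
    obtain ⟨p, rfl⟩ := hs a
    rw [isOpen_induced_iff]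
    refine ⟨(fun z => MvPolynomial.eval z p) ⁻¹' V, hV.preimage (MvPolynomial.continuous_eval p), ?_⟩
    ext x
    simp only [Set.mem_preimage]
    rw [hev]
  · intro x x' hxx'
    apply pts_ext_of_evTop
    intro a
    obtain ⟨p, rfl⟩ := hs a
    rw [hev, hev, hxx']
  · rw [hrange]
    exact isClosed_biInter fun p _ => isClosed_eq (MvPolynomial.continuous_eval p) continuous_const

/-- If the generators are free (the presentation map is bijective), the ℂ-points are homeomorphic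
to `ℂⁿ`. -/
theorem isHomeomorph_of_bijective_generators [IsAffine X] (n : ℕ) (s : Fin n → Γ(X, ⊤))
    (hs : Function.Bijective (MvPolynomial.eval₂Hom (An.strHom X) s)) :
    IsHomeomorph (fun (x : Pts X) (i : Fin n) => x.evTop (s i)) := by
  rw [isHomeomorph_iff_isEmbedding_surjective]
  refine ⟨(isClosedEmbedding_of_generators n s hs.2).isEmbedding, ?_⟩
  rw [← Set.range_eq_univ, range_of_generators n s hs.2]
  ext z
  simp only [Set.mem_iInter, Set.mem_setOf_eq, Set.mem_univ, iff_true]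
  intro p hp
  have : p = 0 := hs.1 (by rw [RingHom.mem_ker.mp hp, map_zero])
  rw [this, map_zero]

/-- The coordinates of affine space over ℂ are free generators of its coordinate ring. -/
theorem affineSpace_bijective (n : ℕ) :
    Function.Bijective (MvPolynomial.eval₂Hom (An.strHom (𝔸(Fin n; An.SC)))
      (fun i => AffineSpace.coord An.SC i)) := by
  set R : CommRingCat.{0} := CommRingCat.of ℂ with hR
  set E : Γ(𝔸(Fin n; An.SC), ⊤) ⟶ CommRingCat.of (MvPolynomial (Fin n) R) :=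
    (AffineSpace.SpecIso (Fin n) R).inv.appTop ≫ (Scheme.ΓSpecIso _).hom with hE
  have hEiso : IsIso E := by
    rw [hE]
    have : IsIso (AffineSpace.SpecIso (Fin n) R).inv.appTop :=
      inferInstanceAs (IsIso ((AffineSpace.SpecIso (Fin n) R).inv.app ⊤))
    infer_instance
  have hEbij : Function.Bijective E.hom := ConcreteCategory.bijective_of_isIso E
  have hEcoord : ∀ i, E.hom (AffineSpace.coord An.SC i) = MvPolynomial.X i := by
    intro i
    show (Scheme.ΓSpecIso _).hom ((AffineSpace.SpecIso (Fin n) R).inv.appTop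
      (AffineSpace.coord _ i)) = _
    rw [AffineSpace.SpecIso_inv_appTop_coord]
    exact Iso.inv_hom_id_apply (C := CommRingCat) _ _
  have hEC : ∀ c : ℂ, E.hom (An.strHom (𝔸(Fin n; An.SC)) c) = MvPolynomial.C c := by
    intro c
    show (Scheme.ΓSpecIso _).hom ((AffineSpace.SpecIso (Fin n) R).inv.appTop
      ((𝔸(Fin n; An.SC) ↘ An.SC).appTop ((Scheme.ΓSpecIso R).inv c))) = _
    have h1 : (𝔸(Fin n; An.SC) ↘ An.SC).appTop ≫ (AffineSpace.SpecIso (Fin n) R).inv.appTop =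
        (Spec.map (CommRingCat.ofHom MvPolynomial.C)).appTop := by
      rw [← Scheme.Hom.comp_appTop, AffineSpace.SpecIso_inv_over]
    rw [← CommRingCat.comp_apply (𝔸(Fin n; An.SC) ↘ An.SC).appTop, h1,
      ← CommRingCat.comp_apply, Scheme.ΓSpecIso_naturality, CommRingCat.comp_apply,
      Iso.inv_hom_id_apply]
    rfl
  have hcomp : E.hom.comp (MvPolynomial.eval₂Hom (An.strHom (𝔸(Fin n; An.SC)))
      (fun i => AffineSpace.coord An.SC i)) = RingHom.id _ := by
    apply MvPolynomial.ringHom_ext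
    · intro c
      simp only [RingHom.comp_apply, MvPolynomial.eval₂Hom_C, RingHom.id_apply]
      exact hEC c
    · intro i
      simp only [RingHom.comp_apply, MvPolynomial.eval₂Hom_X', RingHom.id_apply]
      exact hEcoord i
  have hcomp' : ∀ p, E.hom (MvPolynomial.eval₂Hom (An.strHom (𝔸(Fin n; An.SC)))
      (fun i => AffineSpace.coord An.SC i) p) = p := fun p => RingHom.congr_fun hcomp p
  refine ⟨fun p q hpq => ?_, fun a => ⟨E.hom a, hEbij.1 (hcomp' _)⟩⟩
  rw [← hcomp' p, ← hcomp' q, hpq]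

end Groth.Agent.Lib.Helper7.AnTop
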