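import Groth.Prelude.Def_AnHol
import Groth.Agent.Lib.Helper7.AnTop

set_option autoImplicit false

open CategoryTheory AlgebraicGeometry Topology TopologicalSpace An

namespace Groth.Agent.Lib.Helper7.AnHolAff

open Groth.Agent.Lib.Helper7.AnTop

theorem differentiable_eval {n : ℕ} (p : MvPolynomial (Fin n) ℂ) :
    Differentiable ℂ (fun z : Fin n → ℂ => MvPolynomial.eval z p) := by
  induction p using MvPolynomial.induction_on with
  | C a => simp only [MvPolynomial.eval_C]; exact differentiable_const a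
  | add p q hp hq => simp only [map_add]; exact hp.add hq
  | mul_X p i hp => simp only [map_mul, MvPolynomial.eval_X]; exact hp.mul (differentiable_apply i)

variable (n : ℕ)

/-- The coordinate map on ℂ-points of affine space. -/
noncomputable def Φ (x : Pts (𝔸(Fin n; An.SC))) : Fin n → ℂ :=
  fun i => x.evTop (AffineSpace.coord An.SC i)

theorem isHomeomorph_Φ : IsHomeomorph (Φ n) :=
  isHomeomorph_of_bijective_generators n (fun i => AffineSpace.coord An.SC i)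
    (affineSpace_bijective n)

theorem exists_poly (a : Γ(𝔸(Fin n; An.SC), ⊤)) :
    ∃ p : MvPolynomial (Fin n) ℂ, ∀ x : Pts (𝔸(Fin n; An.SC)),
      x.evTop a = MvPolynomial.eval (Φ n x) p := by
  obtain ⟨p, rfl⟩ := (affineSpace_bijective n).2 a
  exact ⟨p, fun x => evTop_eval₂Hom x _ p⟩

/-- A function on an open set of ℂ-points of affine space is "locally differentiable in the
coordinates". -/
def LocDiff (V : Opens (An.top (𝔸(Fin n; An.SC)))) (h : V → ℂ) : Prop :=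
  ∀ y₀ : V, ∃ (F : (Fin n → ℂ) → ℂ) (N : Set (Fin n → ℂ)),
    DifferentiableAt ℂ F (Φ n y₀.1) ∧ N ∈ 𝓝 (Φ n y₀.1) ∧ ∀ y : V, Φ n y.1 ∈ N → h y = F (Φ n y.1)

theorem locDiff_of_isChartFun (V : Opens (An.top (𝔸(Fin n; An.SC)))) (h : V → ℂ)
    (hh : An.IsChartFun V h) : LocDiff n V h := by
  obtain ⟨W, hW, m, s, VH, H, hVH, hH, hval⟩ := hh
  intro y₀
  obtain ⟨b, hbW, hy₀b⟩ := (isAffineOpen_top (𝔸(Fin n; An.SC))).exists_basicOpen_le (V := W)
    ⟨Pts.pt y₀.1, hW y₀⟩ (Opens.mem_top _)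
  have hloc := (isAffineOpen_top (𝔸(Fin n; An.SC))).isLocalization_basicOpen b
  have hfrac : ∀ i, ∃ (a : Γ(𝔸(Fin n; An.SC), ⊤)) (k : ℕ),
      (𝔸(Fin n; An.SC)).presheaf.map (homOfLE hbW).op (s i) *
        ((𝔸(Fin n; An.SC)).presheaf.map (homOfLE ((𝔸(Fin n; An.SC)).basicOpen_le b)).op b) ^ k =
      (𝔸(Fin n; An.SC)).presheaf.map (homOfLE ((𝔸(Fin n; An.SC)).basicOpen_le b)).op a := by
    intro i
    obtain ⟨⟨a, ⟨_, k, rfl⟩⟩, hrel⟩ := IsLocalization.surj (Submonoid.powers b)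
      ((𝔸(Fin n; An.SC)).presheaf.map (homOfLE hbW).op (s i))
    exact ⟨a, k, by rw [← map_pow]; exact hrel⟩
  choose a k hak using hfrac
  obtain ⟨pb, hpb⟩ := exists_poly n b
  choose pa hpa using fun i => exists_poly n (a i)
  have hb0 : MvPolynomial.eval (Φ n y₀.1) pb ≠ 0 := fun h0 =>
    ((mem_basicOpen_iff y₀.1 ⊤ (Opens.mem_top _) b).mp hy₀b) ((hpb y₀.1).trans h0)
  let inner : (Fin n → ℂ) → (Fin m → ℂ) := fun z i =>
    MvPolynomial.eval z (pa i) / (MvPolynomial.eval z pb) ^ (k i)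
  have hformula : ∀ y : V, Pts.pt y.1 ∈ (𝔸(Fin n; An.SC)).basicOpen b →
      (fun i => Pts.ev y.1 W (hW y) (s i)) = inner (Φ n y.1) := by
    intro y hyb
    funext i
    show _ = MvPolynomial.eval (Φ n y.1) (pa i) / (MvPolynomial.eval (Φ n y.1) pb) ^ (k i)
    rw [← hpa i y.1, ← hpb y.1]
    exact ev_eq_div y.1 (s i) (a i) b (k i) hbW (hak i) (Opens.mem_top _) hyb
  refine ⟨fun z => H (inner z), {z | MvPolynomial.eval z pb ≠ 0}, ?_, ?_, ?_⟩
  · have hinner : DifferentiableAt ℂ inner (Φ n y₀.1) := by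
      rw [differentiableAt_pi]
      intro i
      have h1 : DifferentiableAt ℂ (fun z => MvPolynomial.eval z (pa i)) (Φ n y₀.1) :=
        (differentiable_eval (pa i)).differentiableAt
      have h2 : DifferentiableAt ℂ (fun z => (MvPolynomial.eval z pb) ^ (k i)) (Φ n y₀.1) :=
        (differentiable_eval pb).differentiableAt.pow (k i)
      have h3 : DifferentiableAt ℂ (fun z => MvPolynomial.eval z (pa i) *
          ((MvPolynomial.eval z pb) ^ (k i))⁻¹) (Φ n y₀.1) :=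
        h1.mul (h2.fun_inv (pow_ne_zero _ hb0))
      show DifferentiableAt ℂ (fun z => MvPolynomial.eval z (pa i) /
          (MvPolynomial.eval z pb) ^ (k i)) (Φ n y₀.1)
      simp only [div_eq_mul_inv]
      exact h3
    have hHat : DifferentiableAt ℂ H (inner (Φ n y₀.1)) := by
      rw [← hformula y₀ hy₀b]
      exact hH.differentiableAt (hVH.mem_nhds (hval y₀).1)
    exact hHat.comp _ hinner
  · exact (isOpen_ne_fun (differentiable_eval pb).continuous continuous_const).mem_nhds hb0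
  · intro y hy
    have hyb : Pts.pt y.1 ∈ (𝔸(Fin n; An.SC)).basicOpen b :=
      (mem_basicOpen_iff y.1 ⊤ (Opens.mem_top _) b).mpr
        (fun h0 => hy ((hpb y.1).symm.trans h0))
    rw [(hval y).2, hformula y hyb]

theorem locDiff_of_mem_chartAlg (V : Opens (An.top (𝔸(Fin n; An.SC)))) (h : V → ℂ)
    (hh : h ∈ An.chartAlg V) : LocDiff n V h := by
  unfold An.chartAlg at hh
  induction hh using Algebra.adjoin_induction with
  | mem g hg => exact locDiff_of_isChartFun n V g hg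
  | algebraMap c =>
    intro y₀
    exact ⟨fun _ => c, Set.univ, differentiableAt_const c, Filter.univ_mem, fun y _ => rfl⟩
  | add g₁ g₂ _ _ h₁ h₂ =>
    intro y₀
    obtain ⟨F₁, N₁, hF₁, hN₁, e₁⟩ := h₁ y₀
    obtain ⟨F₂, N₂, hF₂, hN₂, e₂⟩ := h₂ y₀
    refine ⟨fun z => F₁ z + F₂ z, N₁ ∩ N₂, hF₁.add hF₂, Filter.inter_mem hN₁ hN₂, fun y hy => ?_⟩
    show g₁ y + g₂ y = _
    rw [e₁ y hy.1, e₂ y hy.2]
  | mul g₁ g₂ _ _ h₁ h₂ =>
    intro y₀
    obtain ⟨F₁, N₁, hF₁, hN₁, e₁⟩ := h₁ y₀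
    obtain ⟨F₂, N₂, hF₂, hN₂, e₂⟩ := h₂ y₀
    refine ⟨fun z => F₁ z * F₂ z, N₁ ∩ N₂, hF₁.mul hF₂, Filter.inter_mem hN₁ hN₂, fun y hy => ?_⟩
    show g₁ y * g₂ y = _
    rw [e₁ y hy.1, e₂ y hy.2]

/-- **S4307**: holomorphic functions on open sets of `𝔸ⁿ(ℂ)` are exactly the functions that are
complex differentiable in the coordinates. -/
theorem holPred_affineSpace_iff (U : TopologicalSpace.Opens (An.top (𝔸(Fin n; An.SC))))
    (g : U → ℂ) :
    (An.holPred (𝔸(Fin n; An.SC))).pred g ↔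
      ∃ G : (Fin n → ℂ) → ℂ,
        DifferentiableOn ℂ G ((fun (x : An.Pts (𝔸(Fin n; An.SC))) (i : Fin n) =>
          x.evTop (AffineSpace.coord An.SC i)) '' U.1) ∧
        ∀ x : U, g x = G (fun i => (x.1 : An.Pts (𝔸(Fin n; An.SC))).evTop
          (AffineSpace.coord An.SC i)) := by
  classical
  have hΦ := isHomeomorph_Φ n
  constructor
  · intro hg
    let e : Pts (𝔸(Fin n; An.SC)) ≃ₜ (Fin n → ℂ) := hΦ.homeomorph
    have he : ∀ x, e x = Φ n x := fun x => rfl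
    let G : (Fin n → ℂ) → ℂ := fun z =>
      if hz : e.symm z ∈ U then g ⟨e.symm z, hz⟩ else 0
    have hGg : ∀ x : U, g x = G (Φ n x.1) := by
      intro x
      have h1 : e.symm (Φ n x.1) = x.1 :=
        (congrArg e.symm (he x.1).symm).trans (e.symm_apply_apply x.1)
      have hG : ∀ z, G z = if hz : e.symm z ∈ U then g ⟨e.symm z, hz⟩ else 0 := fun z => rfl
      rw [hG, dif_pos (by rw [h1]; exact x.2)]
      congr 1
      exact Subtype.ext h1.symm
    refine ⟨G, ?_, hGg⟩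
    rintro z ⟨x, hxU, rfl⟩
    apply DifferentiableAt.differentiableWithinAt
    obtain ⟨V, hxV, i, hV⟩ := hg ⟨x, hxU⟩
    obtain ⟨F, N, hF, hN, hFe⟩ := locDiff_of_mem_chartAlg n V _ hV ⟨x, hxV⟩
    refine hF.congr_of_eventuallyEq ?_
    have hVimg : Φ n '' V.1 ∈ 𝓝 (Φ n x) :=
      (hΦ.isOpenMap _ V.2).mem_nhds ⟨x, hxV, rfl⟩
    filter_upwards [hN, hVimg] with z hzN hzV
    obtain ⟨y, hyV, rfl⟩ := hzV
    rw [← hFe ⟨y, hyV⟩ hzN]
    exact (hGg (i ⟨y, hyV⟩)).symm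
  · rintro ⟨G, hG, hgG⟩
    apply An.holPred_of_chartAlg
    apply Algebra.subset_adjoin
    exact ⟨⊤, fun _ => Opens.mem_top _, n, fun i => AffineSpace.coord An.SC i,
      Φ n '' U.1, G, hΦ.isOpenMap _ U.2, hG,
      fun x => ⟨⟨x.1, x.2, rfl⟩, hgG x⟩⟩

end Groth.Agent.Lib.Helper7.AnHolAff
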