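import Groth.Agent.Lib.Helper7.AnDense1

set_option autoImplicit false
set_option maxHeartbeats 400000

open Filter Topology Polynomial

namespace Groth.Agent.Lib.Helper7.AnLH

open Groth.Agent.Lib.Helper7.AnDense

/-- Divided difference of a polynomial of degree `≤ m`. -/
noncomputable def dd (m : ℕ) (p : ℂ[X]) (t₁ t₂ : ℂ) : ℂ :=
  ∑ k ∈ Finset.range (m + 1), p.coeff k * ∑ i ∈ Finset.range k, t₁ ^ i * t₂ ^ (k - 1 - i)

theorem eval_sub_eval (m : ℕ) (p : ℂ[X]) (hp : p.natDegree ≤ m) (t₁ t₂ : ℂ) :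
    p.eval t₁ - p.eval t₂ = dd m p t₁ t₂ * (t₁ - t₂) := by
  rw [eval_eq_sum_range' (Nat.lt_succ_of_le hp), eval_eq_sum_range' (Nat.lt_succ_of_le hp),
    ← Finset.sum_sub_distrib, dd, Finset.sum_mul]
  refine Finset.sum_congr rfl fun k _ => ?_
  rw [mul_assoc, geom_sum₂_mul, mul_sub]

theorem dd_self (m : ℕ) (p : ℂ[X]) (hp : p.natDegree ≤ m) (t : ℂ) :
    dd m p t t = p.derivative.eval t := by
  have h1 : ∀ k : ℕ, ∑ i ∈ Finset.range k, t ^ i * t ^ (k - 1 - i) = (k : ℂ) * t ^ (k - 1) := by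
    intro k
    have : ∀ i ∈ Finset.range k, t ^ i * t ^ (k - 1 - i) = t ^ (k - 1) := by
      intro i hi
      rw [← pow_add]
      congr 1
      have := Finset.mem_range.mp hi
      omega
    rw [Finset.sum_congr rfl this, Finset.sum_const, Finset.card_range, nsmul_eq_mul]
  have hd : p.derivative.natDegree < m + 1 :=
    lt_of_le_of_lt ((natDegree_derivative_le p).trans (Nat.sub_le _ _)) (Nat.lt_succ_of_le hp)
  rw [dd, eval_eq_sum_range' hd, Finset.sum_range_succ', Finset.sum_range_succ]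
  have hlast : p.derivative.coeff m = 0 := by
    rw [coeff_derivative, coeff_eq_zero_of_natDegree_lt (Nat.lt_succ_of_le hp), zero_mul]
  rw [hlast, zero_mul, add_zero, h1 0]
  simp only [Nat.cast_zero, zero_mul, mul_zero, add_zero]
  refine Finset.sum_congr rfl fun k _ => ?_
  rw [h1, coeff_derivative, Nat.add_sub_cancel]
  push_cast
  ring

section family

variable {Z : Type*} [TopologicalSpace Z] (p : Z → ℂ[X]) (m : ℕ)

theorem continuous_eval_family (hdeg : ∀ z, (p z).natDegree ≤ m)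
    (hc : ∀ k, Continuous fun z => (p z).coeff k) :
    Continuous fun zt : Z × ℂ => (p zt.1).eval zt.2 := by
  have h : (fun zt : Z × ℂ => (p zt.1).eval zt.2) =
      fun zt : Z × ℂ => ∑ k ∈ Finset.range (m + 1), (p zt.1).coeff k * zt.2 ^ k := by
    funext zt
    exact eval_eq_sum_range' (Nat.lt_succ_of_le (hdeg zt.1)) zt.2
  rw [h]
  exact continuous_finsetSum _ fun k _ => ((hc k).comp continuous_fst).mul (continuous_snd.pow k)

theorem continuous_dd_family (hc : ∀ k, Continuous fun z => (p z).coeff k) :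
    Continuous fun w : Z × ℂ × ℂ => dd m (p w.1) w.2.1 w.2.2 := by
  unfold dd
  refine continuous_finsetSum _ fun k _ => ((hc k).comp continuous_fst).mul ?_
  refine continuous_finsetSum _ fun i _ => ?_
  exact ((continuous_fst.comp continuous_snd).pow i).mul
    ((continuous_snd.comp continuous_snd).pow (k - 1 - i))

/-- Near a simple root, roots are locally unique. -/
theorem exists_nhds_unique_root (hdeg : ∀ z, (p z).natDegree ≤ m)
    (hc : ∀ k, Continuous fun z => (p z).coeff k) (z₀ : Z) (t₀ : ℂ)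
    (hd : (p z₀).derivative.eval t₀ ≠ 0) :
    ∃ N, IsOpen N ∧ z₀ ∈ N ∧ ∃ δ > 0, ∀ z ∈ N, ∀ t₁ ∈ Metric.ball t₀ δ, ∀ t₂ ∈ Metric.ball t₀ δ,
      (p z).eval t₁ = 0 → (p z).eval t₂ = 0 → t₁ = t₂ := by
  have hG := continuous_dd_family p m hc
  have hne : dd m (p z₀) t₀ t₀ ≠ 0 := by rw [dd_self m _ (hdeg z₀)]; exact hd
  have hopen : IsOpen {w : Z × ℂ × ℂ | dd m (p w.1) w.2.1 w.2.2 ≠ 0} :=
    isOpen_ne_fun hG continuous_const
  have hmem : {w : Z × ℂ × ℂ | dd m (p w.1) w.2.1 w.2.2 ≠ 0} ∈ 𝓝 (z₀, t₀, t₀) :=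
    hopen.mem_nhds hne
  obtain ⟨N, hN, W, hW, hNW⟩ := mem_nhds_prod_iff.mp hmem
  obtain ⟨B₁, hB₁, B₂, hB₂, hBW⟩ := mem_nhds_prod_iff.mp hW
  obtain ⟨δ₁, hδ₁, hδB₁⟩ := Metric.mem_nhds_iff.mp hB₁
  obtain ⟨δ₂, hδ₂, hδB₂⟩ := Metric.mem_nhds_iff.mp hB₂
  obtain ⟨N', hN'N, hN'o, hz₀N'⟩ := mem_nhds_iff.mp hN
  refine ⟨N', hN'o, hz₀N', min δ₁ δ₂, lt_min hδ₁ hδ₂, ?_⟩
  intro z hz t₁ ht₁ t₂ ht₂ h1 h2
  by_contra hne12
  have hmemw : (z, t₁, t₂) ∈ {w : Z × ℂ × ℂ | dd m (p w.1) w.2.1 w.2.2 ≠ 0} := by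
    apply hNW
    refine Set.mk_mem_prod (hN'N hz) (hBW (Set.mk_mem_prod (hδB₁ ?_) (hδB₂ ?_)))
    · exact Metric.ball_subset_ball (min_le_left _ _) ht₁
    · exact Metric.ball_subset_ball (min_le_right _ _) ht₂
  have h3 := eval_sub_eval m (p z) (hdeg z) t₁ t₂
  rw [h1, h2, sub_zero] at h3
  rcases mul_eq_zero.mp h3.symm with h4 | h4
  · exact hmemw h4
  · exact hne12 (sub_eq_zero.mp h4)

/-- Near any root there are roots of nearby polynomials. -/
theorem eventually_exists_root (hmonic : ∀ z, (p z).Monic) (hdeg : ∀ z, (p z).natDegree = m)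
    (hc : ∀ k, Continuous fun z => (p z).coeff k) (z₀ : Z) (t₀ : ℂ)
    (h0 : (p z₀).eval t₀ = 0) (δ : ℝ) (hδ : 0 < δ) :
    ∀ᶠ z in 𝓝 z₀, ∃ t ∈ Metric.ball t₀ δ, (p z).eval t = 0 := by
  have hcont : Continuous fun z : Z => ‖(p z).eval t₀‖ := by
    have h1 := continuous_eval_family p m (fun z => (hdeg z).le) hc
    exact continuous_norm.comp (h1.comp (Continuous.prodMk_left t₀))
  have hlt : ‖(p z₀).eval t₀‖ < δ ^ m := by rw [h0, norm_zero]; exact pow_pos hδ m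
  filter_upwards [hcont.continuousAt.eventually (eventually_lt_nhds hlt)] with z hz
  have hq : ((p z).comp (X + C t₀)).Monic := (hmonic z).comp_X_add_C t₀
  have hqdeg : ((p z).comp (X + C t₀)).natDegree = m := by
    rw [natDegree_comp, natDegree_X_add_C, mul_one, hdeg z]
  have hq0 : ((p z).comp (X + C t₀)).coeff 0 = (p z).eval t₀ := by
    rw [coeff_zero_eq_eval_zero, eval_comp, eval_add, eval_X, eval_C, zero_add]
  obtain ⟨s, hs, hsδ⟩ := exists_small_root _ hq δ hδ (by rw [hq0, hqdeg]; exact hz)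
  refine ⟨s + t₀, ?_, ?_⟩
  · rw [Metric.mem_ball, dist_eq_norm, add_sub_cancel_right]; exact hsδ
  · have := hs
    rw [IsRoot.def, eval_comp, eval_add, eval_X, eval_C] at this
    exact this

/-- **Continuity of simple roots**: the projection from the (relatively open part of the)
root locus of a continuous family of monic polynomials is a local homeomorphism wherever the
roots are simple. -/
theorem isLocalHomeomorph_fst_roots (hmonic : ∀ z, (p z).Monic) (hdeg : ∀ z, (p z).natDegree = m)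
    (hc : ∀ k, Continuous fun z => (p z).coeff k) (O : Set (Z × ℂ)) (hO : IsOpen O)
    (hd : ∀ zt ∈ O, (p zt.1).eval zt.2 = 0 → (p zt.1).derivative.eval zt.2 ≠ 0) :
    IsLocalHomeomorph
      (fun e : {zt : Z × ℂ // zt ∈ O ∧ (p zt.1).eval zt.2 = 0} => e.1.1) := by
  set E := {zt : Z × ℂ // zt ∈ O ∧ (p zt.1).eval zt.2 = 0} with hE
  set π : E → Z := fun e => e.1.1 with hπ
  have hπc : Continuous π := continuous_fst.comp continuous_subtype_val
  -- openness
  have hopen : IsOpenMap π := by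
    apply IsOpenMap.of_nhds_le
    intro e₁ W hW
    rw [Filter.mem_map] at hW
    obtain ⟨W', hW', hW'sub⟩ := (mem_nhds_subtype _ e₁ _).mp hW
    have hO' : O ∈ 𝓝 (e₁.1.1, e₁.1.2) := hO.mem_nhds e₁.2.1
    obtain ⟨N₁, hN₁, B₁, hB₁, hNB₁⟩ := mem_nhds_prod_iff.mp (Filter.inter_mem hW' hO')
    obtain ⟨δ₁, hδ₁, hδB₁⟩ := Metric.mem_nhds_iff.mp hB₁
    have hev := eventually_exists_root p m hmonic hdeg hc e₁.1.1 e₁.1.2 e₁.2.2 δ₁ hδ₁
    filter_upwards [hev, hN₁] with z ⟨t, ht, hroot⟩ hzN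
    have hmem : (z, t) ∈ W' ∩ O := hNB₁ (Set.mk_mem_prod hzN (hδB₁ ht))
    exact hW'sub (a := (⟨(z, t), hmem.2, hroot⟩ : E)) hmem.1
  rw [isLocalHomeomorph_iff_isOpenEmbedding_restrict]
  intro e₀
  obtain ⟨N, hNo, hz₀N, δ, hδ, huniq⟩ := exists_nhds_unique_root p m (fun z => (hdeg z).le) hc
    e₀.1.1 e₀.1.2 (hd e₀.1 e₀.2.1 e₀.2.2)
  set U : Set E := {e | e.1.1 ∈ N ∧ e.1.2 ∈ Metric.ball e₀.1.2 δ} with hU
  have hUo : IsOpen U := by
    have h1 : IsOpen {e : E | e.1.1 ∈ N} := hNo.preimage hπc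
    have h2 : IsOpen {e : E | e.1.2 ∈ Metric.ball e₀.1.2 δ} :=
      Metric.isOpen_ball.preimage (continuous_snd.comp continuous_subtype_val)
    exact h1.inter h2
  have he₀U : e₀ ∈ U := ⟨hz₀N, Metric.mem_ball_self hδ⟩
  refine ⟨U, hUo.mem_nhds he₀U, ?_⟩
  refine IsOpenEmbedding.of_continuous_injective_isOpenMap (hπc.comp continuous_subtype_val) ?_
    (hopen.domRestrict hUo)
  rintro ⟨e, he⟩ ⟨e', he'⟩ hee'
  have hz : e.1.1 = e'.1.1 := hee'
  have ht : e.1.2 = e'.1.2 := by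
    apply huniq e.1.1 he.1 e.1.2 he.2 e'.1.2 he'.2 e.2.2
    rw [hz]; exact e'.2.2
  exact Subtype.ext (Subtype.ext (Prod.ext hz ht))

end family

end Groth.Agent.Lib.Helper7.AnLH
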