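import Groth.Agent.Lib.Helper7.AnLH1
import Groth.Agent.Lib.Helper7.AnTop3

set_option autoImplicit false
set_option maxHeartbeats 400000

open CategoryTheory AlgebraicGeometry Topology TopologicalSpace An

namespace Groth.Agent.Lib.Helper7.AnLH

open Groth.Agent.Lib.Helper7.AnTop

variable {W V : Scheme.{0}} [W.Over An.SC] [V.Over An.SC] (g : W ⟶ V) [g.IsOver An.SC]

theorem appTop_strHom (c : ℂ) : g.appTop.hom (An.strHom V c) = An.strHom W c := by
  show g.appTop ((V ↘ An.SC).appTop ((Scheme.ΓSpecIso (CommRingCat.of ℂ)).inv c)) =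
    (W ↘ An.SC).appTop ((Scheme.ΓSpecIso (CommRingCat.of ℂ)).inv c)
  rw [← CommRingCat.comp_apply, ← Scheme.Hom.comp_appTop, comp_over g An.SC]

/-- A morphism of affine ℂ-schemes whose coordinate ring map is standard étale induces a local
homeomorphism on ℂ-points. -/
theorem isLocalHomeomorph_of_isStandardEtale [IsAffine W] [IsAffine V]
    (hstd : @Algebra.IsStandardEtale Γ(V, ⊤) Γ(W, ⊤) _ _ g.appTop.hom.toAlgebra) :
    IsLocalHomeomorph (Pts.map g) := by
  classical
  letI : Algebra Γ(V, ⊤) Γ(W, ⊤) := g.appTop.hom.toAlgebra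
  obtain ⟨P⟩ := hstd.nonempty_standardEtalePresentation
  set x : Γ(W, ⊤) := P.x with hx
  set p : Pts V → Polynomial ℂ := fun y => P.f.map (evHom y ⊤ (Opens.mem_top _)) with hp
  set q : Pts V → Polynomial ℂ := fun y => P.g.map (evHom y ⊤ (Opens.mem_top _)) with hq
  have hmonic : ∀ y, (p y).Monic := fun y => P.monic_f.map _
  have hdeg : ∀ y, (p y).natDegree = P.f.natDegree := fun y => P.monic_f.natDegree_map _
  have hcoef : ∀ (r : Polynomial Γ(V, ⊤)) (k : ℕ),
      Continuous fun y : Pts V => (r.map (evHom y ⊤ (Opens.mem_top _))).coeff k := by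
    intro r k
    have : (fun y : Pts V => (r.map (evHom y ⊤ (Opens.mem_top _))).coeff k) =
        fun y => y.evTop (r.coeff k) := by
      funext y; exact Polynomial.coeff_map _ _
    rw [this]; exact continuous_evTop _
  have hevc : ∀ r : Polynomial Γ(V, ⊤), Continuous fun yt : Pts V × ℂ =>
      (r.map (evHom yt.1 ⊤ (Opens.mem_top _))).eval yt.2 := fun r =>
    continuous_eval_family (fun y => r.map (evHom y ⊤ (Opens.mem_top _))) r.natDegree
      (fun y => Polynomial.natDegree_map_le) (hcoef r)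
  set O : Set (Pts V × ℂ) := {yt | (q yt.1).eval yt.2 ≠ 0} with hO
  have hOo : IsOpen O := isOpen_ne_fun (hevc P.g) continuous_const
  -- key evaluation formula
  have hev : ∀ (w : Pts W) (r : Polynomial Γ(V, ⊤)), w.evTop (Polynomial.aeval x r) =
      (r.map (evHom (Pts.map g w) ⊤ (Opens.mem_top _))).eval (w.evTop x) := by
    intro w r
    rw [Polynomial.eval_map, Polynomial.aeval_def]
    have h1 := Polynomial.hom_eval₂ r (algebraMap Γ(V, ⊤) Γ(W, ⊤))
      (evHom w ⊤ (Opens.mem_top _)) x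
    have h2 : (evHom w ⊤ (Opens.mem_top _)).comp (algebraMap Γ(V, ⊤) Γ(W, ⊤)) =
        evHom (Pts.map g w) ⊤ (Opens.mem_top _) := by
      ext u
      exact (evTop_map g w u).symm
    rw [h2] at h1
    exact h1
  have hd : ∀ yt ∈ O, (p yt.1).eval yt.2 = 0 → (p yt.1).derivative.eval yt.2 ≠ 0 := by
    rintro ⟨y, t⟩ hyt h0 hder
    obtain ⟨p₁, p₂, n, e⟩ := P.cond
    have e' := congrArg (fun r => (r.map (evHom y ⊤ (Opens.mem_top _))).eval t) e
    simp only [Polynomial.map_add, Polynomial.map_mul, Polynomial.map_pow, Polynomial.eval_add,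
      Polynomial.eval_mul, Polynomial.eval_pow] at e'
    have hder' : Polynomial.eval t ((Polynomial.derivative P.f).map
        (evHom y ⊤ (Opens.mem_top _))) = 0 := by
      rw [← Polynomial.derivative_map]; exact hder
    have h0' : Polynomial.eval t (P.f.map (evHom y ⊤ (Opens.mem_top _))) = 0 := h0
    rw [hder', h0', zero_mul, zero_mul, add_zero] at e'
    exact pow_ne_zero n hyt e'.symm
  -- the map to the root locus
  have hjO : ∀ w : Pts W, (Pts.map g w, w.evTop x) ∈ O := by
    intro w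
    show (P.g.map (evHom (Pts.map g w) ⊤ (Opens.mem_top _))).eval (w.evTop x) ≠ 0
    rw [← hev w P.g]
    exact (P.hasMap.2.map (evHom w ⊤ (Opens.mem_top _))).ne_zero
  have hjroot : ∀ w : Pts W, (p (Pts.map g w)).eval (w.evTop x) = 0 := by
    intro w
    show (P.f.map (evHom (Pts.map g w) ⊤ (Opens.mem_top _))).eval (w.evTop x) = 0
    rw [← hev w P.f, P.hasMap.1]
    exact map_zero (evHom w ⊤ (Opens.mem_top _))
  set j : Pts W → {yt : Pts V × ℂ // yt ∈ O ∧ (p yt.1).eval yt.2 = 0} :=
    fun w => ⟨(Pts.map g w, w.evTop x), hjO w, hjroot w⟩ with hj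
  have hjc : Continuous j :=
    Continuous.subtype_mk ((Pts.continuous_map g).prodMk (continuous_evTop x)) _
  -- fraction formula
  have hform : ∀ a : Γ(W, ⊤), ∃ (r : Polynomial Γ(V, ⊤)) (n : ℕ), ∀ w : Pts W,
      w.evTop a = (r.map (evHom (Pts.map g w) ⊤ (Opens.mem_top _))).eval (w.evTop x) /
        ((q (Pts.map g w)).eval (w.evTop x)) ^ n := by
    intro a
    obtain ⟨r, n, hr⟩ := P.exists_mul_aeval_x_g_pow_eq_aeval_x a
    refine ⟨r, n, fun w => ?_⟩
    have h1 := congrArg (evHom w ⊤ (Opens.mem_top _)) hr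
    rw [map_mul, map_pow] at h1
    have h2 : (evHom w ⊤ (Opens.mem_top _)) (Polynomial.aeval x P.g) =
        (q (Pts.map g w)).eval (w.evTop x) := hev w P.g
    have h3 : (evHom w ⊤ (Opens.mem_top _)) (Polynomial.aeval x r) =
        (r.map (evHom (Pts.map g w) ⊤ (Opens.mem_top _))).eval (w.evTop x) := hev w r
    rw [h2, h3] at h1
    rw [eq_div_iff (pow_ne_zero n (hjO w))]
    exact h1
  have hjinj : Function.Injective j := by
    intro w w' hww'
    have h1 : Pts.map g w = Pts.map g w' := congrArg (fun e => e.1.1) hww'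
    have h2 : w.evTop x = w'.evTop x := congrArg (fun e => e.1.2) hww'
    apply pts_ext_of_evTop
    intro a
    obtain ⟨r, n, hr⟩ := hform a
    rw [hr w, hr w', h1, h2]
  have hjind : IsInducing j := by
    refine ⟨le_antisymm hjc.le_induced ?_⟩
    apply le_topologicalSpace_of_affine
    intro a V' hV'
    obtain ⟨r, n, hr⟩ := hform a
    set F : Pts V × ℂ → ℂ := fun yt =>
      (r.map (evHom yt.1 ⊤ (Opens.mem_top _))).eval yt.2 / ((q yt.1).eval yt.2) ^ n with hF
    have hFc : ContinuousOn F O :=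
      ContinuousOn.div (hevc r).continuousOn ((hevc P.g).pow n).continuousOn
        (fun yt hyt => pow_ne_zero n hyt)
    have hopen : IsOpen (O ∩ F ⁻¹' V') := hFc.isOpen_inter_preimage hOo hV'
    rw [isOpen_induced_iff]
    refine ⟨Subtype.val ⁻¹' (O ∩ F ⁻¹' V'), hopen.preimage continuous_subtype_val, ?_⟩
    ext w
    simp only [Set.mem_preimage, Set.mem_inter_iff]
    constructor
    · rintro ⟨-, h⟩
      show w.evTop a ∈ V'
      rw [hr w]; exact h
    · intro h
      refine ⟨hjO w, ?_⟩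
      show F (Pts.map g w, w.evTop x) ∈ V'
      have h' : w.evTop a ∈ V' := h
      rw [hr w] at h'; exact h'
  have hjsurj : Function.Surjective j := by
    rintro ⟨⟨y, t⟩, hyO, hyroot⟩
    letI algC : Algebra Γ(V, ⊤) ℂ := (evHom y ⊤ (Opens.mem_top _)).toAlgebra
    have hmap : P.HasMap t := by
      refine ⟨?_, ?_⟩
      · rw [Polynomial.aeval_def, ← Polynomial.eval_map]; exact hyroot
      · rw [Polynomial.aeval_def, ← Polynomial.eval_map]; exact IsUnit.mk0 _ hyO
    set ψ : Γ(W, ⊤) →ₐ[Γ(V, ⊤)] ℂ := (P.lift t hmap).comp P.equivRing.toAlgHom with hψ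
    have hψx : ψ x = t := by
      show P.lift t hmap (P.equivRing P.x) = t
      rw [P.equivRing_x, P.lift_X]
    have hψφ : ∀ u : Γ(V, ⊤), ψ (g.appTop.hom u) = y.evTop u := fun u => ψ.commutes u
    obtain ⟨w, hw⟩ := exists_pts_of_ringHom (ψ : Γ(W, ⊤) →+* ℂ) (fun c => by
      show ψ (An.strHom W c) = c
      rw [← appTop_strHom g c, hψφ]
      exact evTop_strHom y c)
    have hwy : Pts.map g w = y := by
      apply pts_ext_of_evTop
      intro u
      rw [evTop_map, hw]
      exact hψφ u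
    refine ⟨w, Subtype.ext (Prod.ext hwy ?_)⟩
    show w.evTop x = t
    rw [hw]; exact hψx
  have hjhomeo : IsHomeomorph j :=
    isHomeomorph_iff_isEmbedding_surjective.mpr ⟨⟨hjind, hjinj⟩, hjsurj⟩
  have hπ := isLocalHomeomorph_fst_roots p P.f.natDegree hmonic hdeg (hcoef P.f) O hOo hd
  exact hπ.comp hjhomeo.isOpenEmbedding.isLocalHomeomorph

end Groth.Agent.Lib.Helper7.AnLH
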