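import Groth.Agent.Lib.Helper7.AnLH2

set_option autoImplicit false
set_option maxHeartbeats 400000

open CategoryTheory AlgebraicGeometry Topology TopologicalSpace An

namespace Groth.Agent.Lib.Helper7.AnLH

open Groth.Agent.Lib.Helper7.AnTop

/-- **S4197**: étale morphisms induce local homeomorphisms on ℂ-points. -/
theorem isLocalHomeomorph_map_of_etale {X Y : Scheme.{0}} [X.Over An.SC] [Y.Over An.SC]
    (g : X ⟶ Y) [g.IsOver An.SC] [Etale g] : IsLocalHomeomorph (Pts.map g) := by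
  intro x
  -- affine opens
  obtain ⟨V₀, hV₀, hxV₀, -⟩ := exists_isAffineOpen_mem_and_subset (x := g x.pt) (U := ⊤)
    (Opens.mem_top _)
  obtain ⟨U₀, hU₀, hxU₀, hU₀le'⟩ := exists_isAffineOpen_mem_and_subset (x := x.pt)
    (U := g ⁻¹ᵁ V₀) hxV₀
  have hU₀le : U₀ ≤ g ⁻¹ᵁ V₀ := hU₀le'
  letI : (U₀ : Scheme.{0}).Over An.SC := ⟨U₀.ι ≫ (X ↘ An.SC)⟩
  haveI : U₀.ι.IsOver An.SC := ⟨rfl⟩
  letI : (V₀ : Scheme.{0}).Over An.SC := ⟨V₀.ι ≫ (Y ↘ An.SC)⟩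
  haveI : V₀.ι.IsOver An.SC := ⟨rfl⟩
  haveI : IsAffine (U₀ : Scheme.{0}) := hU₀
  haveI : IsAffine (V₀ : Scheme.{0}) := hV₀
  set g₀ : (U₀ : Scheme.{0}) ⟶ (V₀ : Scheme.{0}) := g.resLE V₀ U₀ hU₀le with hg₀
  have hg₀ι : g₀ ≫ V₀.ι = U₀.ι ≫ g := Scheme.Hom.resLE_comp_ι g hU₀le
  haveI : g₀.IsOver An.SC := ⟨by
    show g₀ ≫ V₀.ι ≫ (Y ↘ An.SC) = U₀.ι ≫ (X ↘ An.SC)
    rw [← Category.assoc, hg₀ι, Category.assoc, comp_over g An.SC]⟩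
  -- ring level
  haveI hg₀et : Etale g₀ := inferInstanceAs (Etale (g.resLE V₀ U₀ hU₀le))
  have hφ : g₀.appTop.hom.Etale := HasRingHomProperty.appTop @Etale g₀ hg₀et
  letI algRS : Algebra Γ((V₀ : Scheme.{0}), ⊤) Γ((U₀ : Scheme.{0}), ⊤) := g₀.appTop.hom.toAlgebra
  haveI : Algebra.Etale Γ((V₀ : Scheme.{0}), ⊤) Γ((U₀ : Scheme.{0}), ⊤) := hφ
  obtain ⟨x₀, hx₀⟩ := exists_map_eq_of_isOpenImmersion U₀.ι x (by
    rw [Scheme.Opens.range_ι]; exact hxU₀)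
  set Q : Ideal Γ((U₀ : Scheme.{0}), ⊤) := RingHom.ker (evHom x₀ ⊤ (Opens.mem_top _)) with hQ
  haveI : Q.IsPrime := RingHom.ker_isPrime _
  haveI : Algebra.IsEtaleAt Γ((V₀ : Scheme.{0}), ⊤) Q := inferInstance
  obtain ⟨f, hfQ, hfstd⟩ := Algebra.IsEtaleAt.exists_isStandardEtale
    (R := Γ((V₀ : Scheme.{0}), ⊤)) Q
  -- the basic open
  set W : (U₀ : Scheme.{0}).Opens := (U₀ : Scheme.{0}).basicOpen f with hW
  have hx₀W : x₀.pt ∈ W :=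
    (mem_basicOpen_iff x₀ ⊤ (Opens.mem_top _) f).mpr (fun h0 => hfQ (RingHom.mem_ker.mpr h0))
  letI : (W : Scheme.{0}).Over An.SC := ⟨W.ι ≫ ((U₀ : Scheme.{0}) ↘ An.SC)⟩
  haveI : W.ι.IsOver An.SC := ⟨rfl⟩
  haveI : IsAffine (W : Scheme.{0}) := (isAffineOpen_top (U₀ : Scheme.{0})).basicOpen f
  obtain ⟨x₁, hx₁⟩ := exists_map_eq_of_isOpenImmersion W.ι x₀ (by
    rw [Scheme.Opens.range_ι]; exact hx₀W)
  set g₁ : (W : Scheme.{0}) ⟶ (V₀ : Scheme.{0}) := W.ι ≫ g₀ with hg₁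
  letI algRW : Algebra Γ((V₀ : Scheme.{0}), ⊤) Γ((W : Scheme.{0}), ⊤) := g₁.appTop.hom.toAlgebra
  haveI : IsScalarTower Γ((V₀ : Scheme.{0}), ⊤) Γ((U₀ : Scheme.{0}), ⊤) Γ((W : Scheme.{0}), ⊤) :=
    IsScalarTower.of_algebraMap_eq' (by
      show g₁.appTop.hom = W.ι.appTop.hom.comp g₀.appTop.hom
      rw [hg₁, Scheme.Hom.comp_appTop, CommRingCat.hom_comp])
  have hstd : Algebra.IsStandardEtale Γ((V₀ : Scheme.{0}), ⊤) Γ((W : Scheme.{0}), ⊤) := by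
    haveI := hfstd
    let e : Localization.Away f ≃ₐ[Γ((U₀ : Scheme.{0}), ⊤)] Γ((W : Scheme.{0}), ⊤) :=
      IsLocalization.algEquiv (Submonoid.powers f) _ _
    exact Algebra.IsStandardEtale.of_equiv (e.restrictScalars Γ((V₀ : Scheme.{0}), ⊤))
  have hlh₁ : IsLocalHomeomorph (Pts.map g₁) := isLocalHomeomorph_of_isStandardEtale g₁ hstd
  -- assembly
  set ιW : (W : Scheme.{0}) ⟶ X := W.ι ≫ U₀.ι with hιW
  haveI : ιW.IsOver An.SC := ⟨Category.assoc _ _ _⟩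
  have hsq : Pts.map g ∘ Pts.map ιW = Pts.map V₀.ι ∘ Pts.map g₁ := by
    funext w
    apply Subtype.ext
    show (w.1 ≫ W.ι ≫ U₀.ι) ≫ g = (w.1 ≫ W.ι ≫ g₀) ≫ V₀.ι
    simp only [Category.assoc, hg₀ι]
  have hcomp : IsLocalHomeomorph (Pts.map g ∘ Pts.map ιW) := by
    rw [hsq]
    exact (isOpenEmbedding_map V₀.ι).isLocalHomeomorph.comp hlh₁
  have hι : IsLocalHomeomorph (Pts.map ιW) := (isOpenEmbedding_map ιW).isLocalHomeomorph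
  have hon := IsLocalHomeomorphOn.of_comp_right
    (hcomp.isLocalHomeomorphOn (s := Set.univ)) (hι.isLocalHomeomorphOn (s := Set.univ))
  have hxmem : x ∈ Pts.map ιW '' Set.univ := by
    refine ⟨x₁, trivial, ?_⟩
    rw [← hx₀, ← hx₁]
    exact Subtype.ext (Category.assoc _ _ _).symm
  exact hon x hxmem

end Groth.Agent.Lib.Helper7.AnLH
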