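import Groth.Agent.Lib.Helper7.AnLH3
import Groth.Agent.Lib.Helper7.AnDense4

set_option autoImplicit false
set_option maxHeartbeats 400000

open CategoryTheory AlgebraicGeometry Topology TopologicalSpace An Filter

namespace Groth.Agent.Lib.Helper7.AnProper

open Groth.Agent.Lib.Helper7.AnTop Groth.Agent.Lib.Helper7.AnDense

section affine

variable {X : Scheme.{0}} [X.Over An.SC]

theorem isInducing_evTop [IsAffine X] :
    IsInducing (fun (x : Pts X) (a : Γ(X, ⊤)) => x.evTop a) := by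
  refine ⟨le_antisymm (continuous_pi fun a => continuous_evTop a).le_induced ?_⟩
  apply le_topologicalSpace_of_affine
  intro a V hV
  rw [isOpen_induced_iff]
  exact ⟨(fun φ : Γ(X, ⊤) → ℂ => φ a) ⁻¹' V, hV.preimage (continuous_apply a), rfl⟩

theorem le_nhds_of_tendsto_evTop [IsAffine X] (𝒰 : Filter (Pts X)) (x : Pts X)
    (h : ∀ a, Tendsto (fun w : Pts X => w.evTop a) 𝒰 (𝓝 (x.evTop a))) : 𝒰 ≤ 𝓝 x := by
  rw [isInducing_evTop.nhds_eq_comap, ← Filter.map_le_iff_le_comap]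
  exact tendsto_pi_nhds.mpr h

variable {W V : Scheme.{0}} [W.Over An.SC] [V.Over An.SC] (g : W ⟶ V) [g.IsOver An.SC]

/-- A morphism of affine ℂ-schemes with integral coordinate ring map is proper on ℂ-points. -/
theorem isProperMap_of_integral [IsAffine W] [IsAffine V] (hint : g.appTop.hom.IsIntegral) :
    IsProperMap (Pts.map g) := by
  rw [isProperMap_iff_ultrafilter]
  refine ⟨Pts.continuous_map g, ?_⟩
  intro 𝒰 y hy
  have hbase : ∀ a : Γ(V, ⊤), Tendsto
      (fun w : Pts W => evHom w ⊤ (Opens.mem_top _) (g.appTop.hom a)) 𝒰 (𝓝 (y.evTop a)) := by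
    intro a
    have h1 : Tendsto (fun w : Pts W => (Pts.map g w).evTop a) 𝒰 (𝓝 (y.evTop a)) :=
      ((continuous_evTop a).tendsto y).comp hy
    exact h1.congr (fun w => evTop_map g w a)
  have hlim : ∀ b : Γ(W, ⊤), ∃ v : ℂ,
      Tendsto (fun w : Pts W => evHom w ⊤ (Opens.mem_top _) b) 𝒰 (𝓝 v) := by
    intro b
    obtain ⟨Q, hQm, hQ⟩ := hint b
    set M : ℝ := ∑ i ∈ Finset.range Q.natDegree, (‖y.evTop (Q.coeff i)‖ + 1) with hM
    have hM0 : 0 ≤ M := Finset.sum_nonneg (fun i _ => by positivity)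
    have hev : ∀ᶠ w in (𝒰 : Filter (Pts W)), ∀ i ∈ Finset.range Q.natDegree,
        ‖evHom w ⊤ (Opens.mem_top _) (g.appTop.hom (Q.coeff i))‖ ≤ M := by
      rw [Filter.eventually_all_finset]
      intro i hi
      have h1 := (continuous_norm.tendsto _).comp (hbase (Q.coeff i))
      have h3 : ‖y.evTop (Q.coeff i)‖ + 1 ≤ M :=
        Finset.single_le_sum (f := fun i => ‖y.evTop (Q.coeff i)‖ + 1)
          (fun j _ => by positivity) hi
      filter_upwards [h1.eventually (eventually_lt_nhds (lt_add_one _))] with w hw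
      exact (hw.trans_le h3).le
    have hbd : (fun w : Pts W => evHom w ⊤ (Opens.mem_top _) b) ⁻¹'
        Metric.closedBall (0 : ℂ) (M + 1) ∈ 𝒰 := by
      rw [← Ultrafilter.mem_coe]
      filter_upwards [hev] with w hw
      rw [Set.mem_preimage, mem_closedBall_zero_iff]
      refine norm_le_of_isRoot (Q.map ((evHom w ⊤ (Opens.mem_top _)).comp g.appTop.hom))
        (hQm.map _) _ ?_ M hM0 ?_
      · rw [Polynomial.IsRoot.def, Polynomial.eval_map]
        have h := congrArg (evHom w ⊤ (Opens.mem_top _)) hQ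
        rw [Polynomial.hom_eval₂, map_zero] at h
        exact h
      · intro i hi
        rw [hQm.natDegree_map] at hi
        rw [Polynomial.coeff_map]
        exact hw i hi
    obtain ⟨v, -, hv⟩ := (isCompact_closedBall (0 : ℂ) (M + 1)).ultrafilter_le_nhds'
      (𝒰.map (fun w : Pts W => evHom w ⊤ (Opens.mem_top _) b)) (Ultrafilter.mem_map.mpr hbd)
    exact ⟨v, hv⟩
  choose v hv using hlim
  have huniq : ∀ {b : Γ(W, ⊤)} {c : ℂ},
      Tendsto (fun w : Pts W => evHom w ⊤ (Opens.mem_top _) b) 𝒰 (𝓝 c) → v b = c :=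
    fun h => tendsto_nhds_unique (hv _) h
  let vr : Γ(W, ⊤) →+* ℂ :=
    { toFun := v
      map_one' := huniq (by simp only [map_one]; exact tendsto_const_nhds)
      map_mul' := fun a b => huniq (by simp only [map_mul]; exact (hv a).mul (hv b))
      map_zero' := huniq (by simp only [map_zero]; exact tendsto_const_nhds)
      map_add' := fun a b => huniq (by simp only [map_add]; exact (hv a).add (hv b)) }
  have hvr : ∀ b, vr b = v b := fun b => rfl
  have hvstr : ∀ c, vr (An.strHom W c) = c := fun c =>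
    huniq (tendsto_const_nhds.congr (fun w => (evTop_strHom w c).symm))
  obtain ⟨x, hx⟩ := exists_pts_of_ringHom vr hvstr
  refine ⟨x, ?_, ?_⟩
  · apply pts_ext_of_evTop
    intro a
    rw [evTop_map, hx, hvr]
    exact huniq (hbase a)
  · apply le_nhds_of_tendsto_evTop
    intro b
    rw [hx b, hvr]
    exact hv b

end affine

/-- **Finite morphisms are proper on ℂ-points.** -/
theorem isProperMap_of_isFinite {X Y : Scheme.{0}} [X.Over An.SC] [Y.Over An.SC] (f : X ⟶ Y)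
    [f.IsOver An.SC] [IsFinite f] : IsProperMap (Pts.map f) := by
  rw [isProperMap_iff_ultrafilter]
  refine ⟨Pts.continuous_map f, ?_⟩
  intro 𝒰 y hy
  obtain ⟨V, hV, hyV, -⟩ := exists_isAffineOpen_mem_and_subset (x := y.pt) (U := ⊤)
    (Opens.mem_top _)
  have hUaff : IsAffineOpen (f ⁻¹ᵁ V) := hV.preimage f
  letI : ((f ⁻¹ᵁ V : X.Opens) : Scheme.{0}).Over An.SC := ⟨(f ⁻¹ᵁ V).ι ≫ (X ↘ An.SC)⟩
  haveI : (f ⁻¹ᵁ V).ι.IsOver An.SC := ⟨rfl⟩
  letI : (V : Scheme.{0}).Over An.SC := ⟨V.ι ≫ (Y ↘ An.SC)⟩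
  haveI : V.ι.IsOver An.SC := ⟨rfl⟩
  haveI : IsAffine ((f ⁻¹ᵁ V : X.Opens) : Scheme.{0}) := hUaff
  haveI : IsAffine (V : Scheme.{0}) := hV
  have hf'ι : (f ∣_ V) ≫ V.ι = (f ⁻¹ᵁ V).ι ≫ f := morphismRestrict_ι f V
  haveI : (f ∣_ V).IsOver An.SC := ⟨by
    show (f ∣_ V) ≫ V.ι ≫ (Y ↘ An.SC) = (f ⁻¹ᵁ V).ι ≫ (X ↘ An.SC)
    rw [← Category.assoc, hf'ι, Category.assoc, comp_over f An.SC]⟩
  have hint : (f ∣_ V).appTop.hom.IsIntegral := (f ∣_ V).finite_appTop.to_isIntegral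
  have hproper := isProperMap_of_integral (f ∣_ V) hint
  obtain ⟨y', hy'⟩ := exists_map_eq_of_isOpenImmersion V.ι y (by
    rw [Scheme.Opens.range_ι]; exact hyV)
  have hjU := isOpenEmbedding_map (f ⁻¹ᵁ V).ι
  have hjV := isOpenEmbedding_map V.ι
  have hsq : ∀ w, Pts.map f (Pts.map (f ⁻¹ᵁ V).ι w) = Pts.map V.ι (Pts.map (f ∣_ V) w) :=
    fun w => Subtype.ext (by
      show (w.1 ≫ (f ⁻¹ᵁ V).ι) ≫ f = (w.1 ≫ (f ∣_ V)) ≫ V.ι
      rw [Category.assoc, Category.assoc, hf'ι])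
  have hlarge : Set.range (Pts.map (f ⁻¹ᵁ V).ι) ∈ 𝒰 := by
    rw [range_map_of_isOpenImmersion, Scheme.Opens.range_ι]
    have h1 : Pts.pt ⁻¹' (V : Set Y) ∈ 𝓝 y := (Pts.isOpen_preimage_pt V).mem_nhds hyV
    have h2 := hy h1
    refine Filter.mem_of_superset h2 ?_
    intro w hw
    rw [Set.mem_preimage, Set.mem_preimage, Pts.pt_map] at hw
    exact hw
  set 𝒰' : Ultrafilter (Pts ((f ⁻¹ᵁ V : X.Opens) : Scheme.{0})) :=
    𝒰.comap hjU.injective hlarge with h𝒰'
  have hmap : Filter.map (Pts.map (f ⁻¹ᵁ V).ι) (𝒰' : Filter _) = 𝒰 :=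
    Filter.map_comap_of_mem hlarge
  have htend' : Tendsto (Pts.map (f ∣_ V)) 𝒰' (𝓝 y') := by
    rw [hjV.isInducing.tendsto_nhds_iff, hy']
    have h1 : Tendsto (Pts.map (f ⁻¹ᵁ V).ι) 𝒰' 𝒰 := hmap.le
    have h2 := hy.comp h1
    exact h2.congr (fun w => hsq w)
  obtain ⟨x', hx'y', hx'⟩ := (isProperMap_iff_ultrafilter.mp hproper).2 htend'
  refine ⟨Pts.map (f ⁻¹ᵁ V).ι x', by rw [hsq, hx'y', hy'], ?_⟩
  rw [← hmap]
  exact (Filter.map_mono hx').trans (hjU.continuous.tendsto x')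

end Groth.Agent.Lib.Helper7.AnProper
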