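import Groth.Agent.Lib.Helper7.AnProper1
import Mathlib.Topology.Covering.Basic
import Mathlib.Topology.SeparatedMap
set_option maxHeartbeats 400000

/-!
# Local homeomorphism + proper + separated ⇒ finite covering map

A variant of Mathlib's `IsClosedMap.isEvenlyCovered_of_openPartialHomeomorph` in which the
Hausdorff hypothesis on the total space is replaced by separatedness of the map.
-/

namespace Groth.Agent.Lib.Helper7.AnProper

open Topology Set

variable {E X : Type*} [TopologicalSpace E] [TopologicalSpace X] {f : E → X}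

theorem isEvenlyCovered_of_isSeparatedMap {x : X}
    (hsep : IsSeparatedMap f)
    (hf : IsClosedMap f) (fin : (f ⁻¹' {x}).Finite)
    (h : ∀ e ∈ f ⁻¹' {x}, ∃ φ : OpenPartialHomeomorph E X, e ∈ φ.source ∧ φ = f) :
    IsEvenlyCovered f x (f ⁻¹' {x}) := by
  have : DiscreteTopology (f ⁻¹' {x}) :=
    (IsDiscrete.of_openPartialHomeomorph f subset_rfl h).1
  choose φ hφ using fun e : f ⁻¹' {x} ↦ h e e.2
  have hpd : (f ⁻¹' {x}).PairwiseDisjoint 𝓝 := fun e₁ he₁ e₂ he₂ hne =>
    isSeparatedMap_iff_disjoint_nhds.mp hsep e₁ e₂ (he₁.trans he₂.symm) hne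
  have ⟨V, hV, disj⟩ := hpd.exists_mem_filter_basis fin nhds_basis_opens
  let V' (e : f ⁻¹' {x}) := V e ∩ (φ e).source
  have hV' e : IsOpen (V' e) := (hV e).2.inter (φ e).open_source
  have : ⋃ e, V' e ∈ nhdsSet (f ⁻¹' {x}) :=
    (isOpen_iUnion hV').mem_nhdsSet.2 fun e he ↦ mem_iUnion_of_mem ⟨e, he⟩ ⟨(hV e).1, (hφ _).1⟩
  have ⟨W, hWx, hWV⟩ := isClosedMap_iff_comap_nhds_le.mp hf this
  cases isEmpty_or_nonempty (f ⁻¹' {x})
  · exact .of_preimage_eq_empty _ hWx (by simpa using hWV)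
  have ⟨U, hUW, hU, hxU⟩ := mem_nhds_iff.mp hWx
  let U' := U ∩ ⋂ e : f ⁻¹' {x}, f '' (V' e)
  have : Finite (f ⁻¹' {x}) := fin
  have hU' : IsOpen U' := hU.inter <| isOpen_iInter_of_finite fun e ↦ by
    convert! ← (φ e).isOpen_image_of_subset_source (hV' _) inter_subset_right; exact (hφ e).2
  have hUV e : U' ⊆ f '' V' e := inter_subset_right.trans (iInter_subset ..)
  have : Nonempty E := ⟨Classical.arbitrary (f ⁻¹' {x})⟩
  refine .of_trivialization (t := hU'.trivializationDiscrete _ _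
    (fun e s hs ↦ ⟨fun h ↦ ?_, fun h ↦ ?_⟩) (fun e ↦ ?_)
    (fun e ↦ .mono subset_rfl (hUV e) (surjOn_image f _))
    (pairwise_disjoint_mono disj.subtype fun e ↦ inter_subset_left)
    ((preimage_mono (inter_subset_left.trans hUW)).trans hWV))
    ⟨hxU, Set.mem_iInter.mpr fun e ↦ ⟨e, ⟨(hV e).1, (hφ e).1⟩, e.2⟩⟩
  · convert! ((φ e).isOpen_inter_preimage h).inter (hV e).2 using 1
    simp_rw [(hφ e).2, V']; ac_rfl
  · have : s ⊆ (φ e).target := hs.trans <| (hUV e).trans <| by
      rw [← (φ e).image_source_eq_target, (hφ e).2]; exact image_mono inter_subset_right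
    rw [← (φ e).isOpen_symm_image_iff_of_subset_target this,
      (φ e).symm_image_eq_source_inter_preimage this, (hφ e).2, inter_comm]
    convert! h using 1
    refine inter_eq_inter_iff_left.mpr ⟨fun e' h ↦ h.2.2, fun e' h ↦ ⟨?_ , h.2⟩⟩
    have ⟨e'', ⟨_, mem⟩, eq⟩ := mem_iInter.mp (hs h.1).2 e
    rwa [← (φ e).injOn mem h.2 (by rwa [(hφ e).2])]
  · convert! ← (φ e).injOn.mono inter_subset_right; exact (hφ e).2

/-- A proper separated local homeomorphism is a covering map with finite fibres. -/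
theorem isCoveringMap_and_finite_of_isLocalHomeomorph
    (hlh : IsLocalHomeomorph f) (hprop : IsProperMap f) (hsep : IsSeparatedMap f) :
    IsCoveringMap f ∧ ∀ y, (f ⁻¹' {y}).Finite := by
  have hloc : ∀ (x : X), ∀ e ∈ f ⁻¹' {x},
      ∃ φ : OpenPartialHomeomorph E X, e ∈ φ.source ∧ φ = f := by
    intro x e _
    obtain ⟨φ, hφ, hfφ⟩ := hlh e
    exact ⟨φ, hφ, hfφ.symm⟩
  have hfin : ∀ y, (f ⁻¹' {y}).Finite := fun y =>
    (hprop.isCompact_preimage isCompact_singleton).finite
      (IsDiscrete.of_openPartialHomeomorph f subset_rfl (hloc y))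
  refine ⟨?_, hfin⟩
  intro x
  exact isEvenlyCovered_of_isSeparatedMap hsep hprop.isClosedMap (hfin x) (hloc x)

end Groth.Agent.Lib.Helper7.AnProper
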