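import Groth.Agent.Lib.Helper7.AnConn1
import Groth.Agent.Lib.Helper7.AnDense1

set_option autoImplicit false
set_option maxHeartbeats 400000

/-!
# Divisible elements of a finitely generated `ℂ`-domain are constants

If `u` in a finitely generated `ℂ`-domain `B` has an `n`-th root in `B` for every `n > 0`, then
`u ∈ ℂ`.  The proof is by growth estimates along a Noether normalisation.
-/

open Polynomial

namespace Groth.Agent.Lib.Helper7.AnUnit

open Groth.Agent.Lib.Helper7.AnDense Groth.Agent.Lib.Helper7.AnConn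

/-- A complex polynomial whose `n`-th power grows like `|s|^K` with `K < n` is constant. -/
theorem natDegree_eq_zero_of_pow_growth (p : ℂ[X]) (n K : ℕ) (hK : K < n) (A : ℝ)
    (h : ∀ s : ℂ, ‖p.eval s‖ ^ n ≤ A * (1 + ‖s‖) ^ K) : p.natDegree = 0 := by
  obtain ⟨q, hq, hqe⟩ := exists_polynomial_of_differentiableOn_compl_finset ∅
    (fun s => (p ^ n).eval s) K A ((Polynomial.differentiable _).differentiableOn) (by
      intro s _
      rw [Polynomial.eval_pow, norm_pow]
      exact h s)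
  have hpq : p ^ n = q := Polynomial.funext (fun s => hqe s (Finset.notMem_empty s))
  have h1 : (p ^ n).natDegree = n * p.natDegree := Polynomial.natDegree_pow p n
  rw [hpq] at h1
  by_contra h0
  have : n ≤ n * p.natDegree := Nat.le_mul_of_pos_right n (Nat.pos_of_ne_zero h0)
  omega

theorem eval_aeval_line {d : ℕ} (z : Fin d → ℂ) (s : ℂ) (q : MvPolynomial (Fin d) ℂ) :
    (MvPolynomial.aeval (fun i => Polynomial.C (z i) * Polynomial.X) q : ℂ[X]).eval s =
      MvPolynomial.eval (fun i => z i * s) q := by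
  induction q using MvPolynomial.induction_on with
  | C a => simp
  | add p q hp hq => rw [map_add, Polynomial.eval_add, hp, hq, map_add]
  | mul_X p i hp =>
    rw [map_mul, Polynomial.eval_mul, hp, MvPolynomial.aeval_X, map_mul, MvPolynomial.eval_X]
    simp

theorem eval_eq_eval_zero_of_pow_growth {d : ℕ} (q : MvPolynomial (Fin d) ℂ) (n K : ℕ)
    (hK : K < n) (A : ℝ)
    (h : ∀ z : Fin d → ℂ, ‖MvPolynomial.eval z q‖ ^ n ≤ A * (1 + ‖z‖) ^ K) (z : Fin d → ℂ) :
    MvPolynomial.eval z q = MvPolynomial.eval 0 q := by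
  set pz : ℂ[X] := MvPolynomial.aeval (fun i => Polynomial.C (z i) * Polynomial.X) q with hpz
  have hev : ∀ s : ℂ, pz.eval s = MvPolynomial.eval (fun i => z i * s) q :=
    fun s => eval_aeval_line z s q
  have hA : 0 ≤ A := by
    have h0 := h 0
    rw [norm_zero, add_zero, one_pow, mul_one] at h0
    exact (pow_nonneg (norm_nonneg _) n).trans h0
  have hdeg : pz.natDegree = 0 := by
    apply natDegree_eq_zero_of_pow_growth pz n K hK (A * (1 + ‖z‖) ^ K)
    intro s
    rw [hev]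
    refine (h _).trans ?_
    rw [mul_assoc, ← mul_pow]
    refine mul_le_mul_of_nonneg_left (pow_le_pow_left₀ (by positivity) ?_ K) hA
    have h2 : ‖fun i => z i * s‖ ≤ ‖z‖ * ‖s‖ := by
      rw [pi_norm_le_iff_of_nonneg (by positivity)]
      intro i
      rw [norm_mul]
      exact mul_le_mul_of_nonneg_right (norm_le_pi_norm z i) (norm_nonneg s)
    nlinarith [norm_nonneg z, norm_nonneg s]
  have h1 : pz = Polynomial.C (pz.coeff 0) := Polynomial.eq_C_of_natDegree_eq_zero hdeg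
  have e1 : pz.eval 1 = pz.eval 0 := by rw [h1]; simp
  rw [hev, hev] at e1
  have e2 : (fun i => z i * (1 : ℂ)) = z := by funext i; rw [mul_one]
  have e3 : (fun i => z i * (0 : ℂ)) = 0 := by funext i; rw [mul_zero]; rfl
  rw [e2, e3] at e1
  exact e1

theorem norm_eval_le_totalDegree {d : ℕ} (q : MvPolynomial (Fin d) ℂ) (z : Fin d → ℂ) :
    ‖MvPolynomial.eval z q‖ ≤ (∑ m ∈ q.support, ‖q.coeff m‖) * (1 + ‖z‖) ^ q.totalDegree := by
  rw [MvPolynomial.eval_eq', Finset.sum_mul]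
  refine (norm_sum_le _ _).trans (Finset.sum_le_sum fun m hm => ?_)
  rw [norm_mul]
  refine mul_le_mul_of_nonneg_left ?_ (norm_nonneg _)
  rw [norm_prod]
  have h1 : (1 : ℝ) ≤ 1 + ‖z‖ := by linarith [norm_nonneg z]
  calc ∏ i, ‖z i ^ m i‖ ≤ ∏ i, (1 + ‖z‖) ^ m i := by
        refine Finset.prod_le_prod (fun i _ => norm_nonneg _) (fun i _ => ?_)
        rw [norm_pow]
        exact pow_le_pow_left₀ (norm_nonneg _)
          ((norm_le_pi_norm z i).trans (by linarith [norm_nonneg z])) _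
    _ = (1 + ‖z‖) ^ (∑ i, m i) := Finset.prod_pow_eq_pow_sum _ _ _
    _ ≤ (1 + ‖z‖) ^ q.totalDegree := by
        refine pow_le_pow_right₀ h1 ?_
        have := MvPolynomial.le_totalDegree hm
        rwa [Finsupp.sum_fintype m (fun _ e => e) (fun _ => rfl)] at this

section main

variable {d : ℕ} {B : Type*} [CommRing B] [IsDomain B] [Algebra ℂ B]
  [Algebra (MvPolynomial (Fin d) ℂ) B] [IsScalarTower ℂ (MvPolynomial (Fin d) ℂ) B]
  [Algebra.IsIntegral (MvPolynomial (Fin d) ℂ) B] [FaithfulSMul (MvPolynomial (Fin d) ℂ) B]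

omit [IsDomain B] [FaithfulSMul (MvPolynomial (Fin d) ℂ) B] in
/-- Polynomial growth of an integral function in terms of the Noether coordinates. -/
theorem exists_growth (u : B) : ∃ (Cu : ℝ) (M : ℕ), 1 ≤ Cu ∧
    ∀ y : B →ₐ[ℂ] ℂ, ‖y u‖ ≤ Cu * (1 + ‖proj d y‖) ^ M := by
  set P := minpoly (MvPolynomial (Fin d) ℂ) u with hP
  have hPm : P.Monic := minpoly.monic (Algebra.IsIntegral.isIntegral u)
  set M : ℕ := (Finset.range P.natDegree).sup (fun i => (P.coeff i).totalDegree) with hM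
  set A : ℝ := ∑ i ∈ Finset.range P.natDegree, ∑ m ∈ (P.coeff i).support,
    ‖(P.coeff i).coeff m‖ with hA
  have hA0 : 0 ≤ A := Finset.sum_nonneg fun i _ => Finset.sum_nonneg fun m _ => norm_nonneg _
  refine ⟨A + 1, M, by linarith, fun y => ?_⟩
  set z := proj d y with hz
  have h1z : (1 : ℝ) ≤ 1 + ‖z‖ := by linarith [norm_nonneg z]
  have hroot : (P.map (MvPolynomial.eval z)).IsRoot (y u) := by
    rw [Polynomial.IsRoot.def, Polynomial.eval_map]
    exact eval₂_point y u P (by rw [← Polynomial.aeval_def]; exact minpoly.aeval _ u)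
  have hcoef : ∀ i ∈ Finset.range (P.map (MvPolynomial.eval z)).natDegree,
      ‖(P.map (MvPolynomial.eval z)).coeff i‖ ≤ A * (1 + ‖z‖) ^ M := by
    intro i hi
    rw [hPm.natDegree_map] at hi
    rw [Polynomial.coeff_map]
    refine (norm_eval_le_totalDegree (P.coeff i) z).trans ?_
    have h2 : (∑ m ∈ (P.coeff i).support, ‖(P.coeff i).coeff m‖) ≤ A :=
      Finset.single_le_sum (f := fun i => ∑ m ∈ (P.coeff i).support, ‖(P.coeff i).coeff m‖)
        (fun i _ => Finset.sum_nonneg fun m _ => norm_nonneg _) hi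
    have h3 : (1 + ‖z‖) ^ (P.coeff i).totalDegree ≤ (1 + ‖z‖) ^ M :=
      pow_le_pow_right₀ h1z (Finset.le_sup (f := fun i => (P.coeff i).totalDegree) hi)
    exact mul_le_mul h2 h3 (by positivity) hA0
  have h4 := norm_le_of_isRoot _ (hPm.map _) (y u) hroot (A * (1 + ‖z‖) ^ M)
    (by positivity) hcoef
  have h5 : (1 : ℝ) ≤ (1 + ‖z‖) ^ M := one_le_pow₀ h1z
  rw [add_mul, one_mul]
  linarith

end main

/-- Main theorem relative to a Noether normalisation. -/
theorem exists_eq_algebraMap_aux (d : ℕ) {B : Type*} [CommRing B] [IsDomain B] [Algebra ℂ B]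
    [Algebra (MvPolynomial (Fin d) ℂ) B] [IsScalarTower ℂ (MvPolynomial (Fin d) ℂ) B]
    [Algebra.IsIntegral (MvPolynomial (Fin d) ℂ) B] [FaithfulSMul (MvPolynomial (Fin d) ℂ) B]
    [Algebra.FiniteType ℂ B] (u : B)
    (h : ∀ n : ℕ, 0 < n → ∃ w : B, w ^ n = u) : ∃ c : ℂ, u = algebraMap ℂ B c := by
  classical
  obtain ⟨Cu, M, hCu1, hgrow⟩ := exists_growth (d := d) u
  haveI : Algebra.FiniteType (MvPolynomial (Fin d) ℂ) B :=
    Algebra.FiniteType.of_restrictScalars_finiteType ℂ (MvPolynomial (Fin d) ℂ) B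
  haveI : Module.Finite (MvPolynomial (Fin d) ℂ) B := Algebra.IsIntegral.finite
  set D : ℕ := (⊤ : Submodule (MvPolynomial (Fin d) ℂ) B).spanFinrank with hD
  set n : ℕ := M * D + 1 with hn
  obtain ⟨w, hw⟩ := h n (Nat.succ_pos _)
  set Q := minpoly (MvPolynomial (Fin d) ℂ) w with hQ
  have hwint : IsIntegral (MvPolynomial (Fin d) ℂ) w := Algebra.IsIntegral.isIntegral w
  have hQm : Q.Monic := minpoly.monic hwint
  have hQD : Q.natDegree ≤ D := minpoly.natDegree_le_spanFinrank (MvPolynomial (Fin d) ℂ) w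
  have hCu0 : 0 ≤ Cu := by linarith
  have hconst : ∀ i z, MvPolynomial.eval z (Q.coeff i) = MvPolynomial.eval 0 (Q.coeff i) := by
    intro i
    apply eval_eq_eval_zero_of_pow_growth (Q.coeff i) n (M * D) (by omega)
      (Cu ^ D * ((D.choose (D / 2) : ℕ) : ℝ) ^ n)
    intro z
    set G : ℝ := Cu * (1 + ‖z‖) ^ M with hG
    have h1z : (1 : ℝ) ≤ 1 + ‖z‖ := by linarith [norm_nonneg z]
    have hG1 : 1 ≤ G := by
      have : (1 : ℝ) ≤ (1 + ‖z‖) ^ M := one_le_pow₀ h1z
      nlinarith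
    have hG0 : 0 ≤ G := by linarith
    set Bd : ℝ := G ^ ((n : ℝ)⁻¹) with hBd
    have hBn : Bd ^ n = G := Real.rpow_inv_natCast_pow hG0 (by omega)
    have hB1 : 1 ≤ Bd := Real.one_le_rpow hG1 (by positivity)
    have hroots : ∀ t ∈ (Q.map (MvPolynomial.eval z)).roots, ‖t‖ ≤ Bd := by
      intro t ht
      obtain ⟨y, hyz, hyw⟩ := exists_point_of_root w z t (Polynomial.isRoot_of_mem_roots ht)
      have h2 : ‖t‖ ^ n ≤ Bd ^ n := by
        rw [hBn, ← norm_pow, ← hyw, ← map_pow, hw, hG, ← hyz]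
        exact hgrow y
      exact le_of_pow_le_pow_left₀ (by omega) (by linarith) h2
    have h2 := Polynomial.coeff_bdd_of_roots_le (MvPolynomial.eval z) hQm
      (IsAlgClosed.splits _) hQD hroots i
    rw [Polynomial.coeff_map, max_eq_left hB1] at h2
    calc ‖MvPolynomial.eval z (Q.coeff i)‖ ^ n ≤ (Bd ^ D * (D.choose (D / 2) : ℝ)) ^ n :=
          pow_le_pow_left₀ (norm_nonneg _) h2 n
      _ = (Bd ^ n) ^ D * (D.choose (D / 2) : ℝ) ^ n := by ring
      _ = Cu ^ D * (D.choose (D / 2) : ℝ) ^ n * (1 + ‖z‖) ^ (M * D) := by rw [hBn, hG]; ring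
  set p₀ : ℂ[X] := Q.map (MvPolynomial.eval 0) with hp₀
  have hp₀m : p₀.Monic := hQm.map _
  have hQeq : p₀.map (algebraMap ℂ (MvPolynomial (Fin d) ℂ)) = Q := by
    ext i : 1
    rw [Polynomial.coeff_map, hp₀, Polynomial.coeff_map, MvPolynomial.algebraMap_eq]
    symm
    apply MvPolynomial.funext
    intro z
    rw [MvPolynomial.eval_C]
    exact hconst i z
  have h2 : Polynomial.aeval w p₀ = 0 := by
    rw [← Polynomial.aeval_map_algebraMap (MvPolynomial (Fin d) ℂ) w p₀, hQeq]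
    exact minpoly.aeval _ w
  have hsp : p₀.Splits := IsAlgClosed.splits p₀
  have h3 : Polynomial.aeval w p₀ = (p₀.roots.map (fun a => w - algebraMap ℂ B a)).prod := by
    have e := congrArg (Polynomial.aeval w) (hsp.eq_prod_roots_of_monic hp₀m)
    rw [e, map_multiset_prod, Multiset.map_map]
    congr 1
    apply Multiset.map_congr rfl
    intro a _
    simp
  rw [h3, Multiset.prod_eq_zero_iff] at h2
  obtain ⟨a, ha, ha0⟩ := Multiset.mem_map.mp h2
  refine ⟨a ^ n, ?_⟩
  rw [map_pow, ← hw, sub_eq_zero.mp ha0]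

/-- **Divisible elements are constant**: in a finitely generated `ℂ`-domain, an element with
`n`-th roots for all `n > 0` lies in `ℂ`. -/
theorem exists_eq_algebraMap_of_forall_exists_pow_eq {B : Type*} [CommRing B] [IsDomain B]
    [Algebra ℂ B] [Algebra.FiniteType ℂ B] (u : B) (h : ∀ n : ℕ, 0 < n → ∃ w : B, w ^ n = u) :
    ∃ c : ℂ, u = algebraMap ℂ B c := by
  obtain ⟨d, φ, hφinj, hφint⟩ := exists_integral_inj_algHom_of_fg ℂ B
  letI : Algebra (MvPolynomial (Fin d) ℂ) B := φ.toRingHom.toAlgebra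
  haveI : IsScalarTower ℂ (MvPolynomial (Fin d) ℂ) B :=
    IsScalarTower.of_algebraMap_eq (fun c => (φ.commutes c).symm)
  haveI : Algebra.IsIntegral (MvPolynomial (Fin d) ℂ) B := ⟨hφint⟩
  haveI : FaithfulSMul (MvPolynomial (Fin d) ℂ) B :=
    (faithfulSMul_iff_algebraMap_injective _ _).mpr hφinj
  exact exists_eq_algebraMap_aux d u h

/-- Ring-hom form: `R` a finitely generated `ℂ`-algebra via `σ`, `𝔭` a prime, `u` divisible.
Then `u` is constant modulo `𝔭`. -/
theorem exists_sub_mem_of_forall_exists_pow_eq {R : Type*} [CommRing R] (σ : ℂ →+* R) (n : ℕ)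
    (s : Fin n → R) (hs : Function.Surjective (MvPolynomial.eval₂Hom σ s)) (𝔭 : Ideal R)
    [𝔭.IsPrime] (u : R) (h : ∀ k : ℕ, 0 < k → ∃ w : R, w ^ k = u) : ∃ c : ℂ, u - σ c ∈ 𝔭 := by
  letI : Algebra ℂ R := σ.toAlgebra
  haveI : Algebra.FiniteType ℂ R := by
    rw [Algebra.FiniteType.iff_quotient_mvPolynomial'']
    refine ⟨n, MvPolynomial.aeval s, ?_⟩
    intro r
    obtain ⟨p, hp⟩ := hs r
    refine ⟨p, ?_⟩
    rw [← hp]
    rfl
  obtain ⟨c, hc⟩ := exists_eq_algebraMap_of_forall_exists_pow_eq (Ideal.Quotient.mk 𝔭 u) (by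
    intro k hk
    obtain ⟨w, hw⟩ := h k hk
    exact ⟨Ideal.Quotient.mk 𝔭 w, by rw [← map_pow, hw]⟩)
  refine ⟨c, ?_⟩
  rw [← Ideal.Quotient.eq, hc]
  rfl

end Groth.Agent.Lib.Helper7.AnUnit
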