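import Groth.Agent.Lib.Helper7.AnUnit1
import Groth.Agent.Lib.Helper7.AnConn9
import Groth.Agent.Lib.Helper7.AnTop3

set_option autoImplicit false
set_option maxHeartbeats 800000

/-!
# A nowhere vanishing function with a continuous `n`-th root has an algebraic `n`-th root
-/

open CategoryTheory AlgebraicGeometry Topology TopologicalSpace An Limits

namespace Groth.Agent.Lib.Helper7.AnUnit

open Groth.Agent.Lib.Helper7 Groth.Agent.Lib.Helper7.AnTop Groth.Agent.Lib.Helper7.AnDense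
  Groth.Agent.Lib.Helper7.AnConn

/-- Structure maps are compatible with morphisms over `ℂ`. -/
theorem appTop_strHom {V X : Scheme.{0}} [V.Over An.SC] [X.Over An.SC] (g : V ⟶ X)
    [g.IsOver An.SC] (c : ℂ) : g.appTop (An.strHom X c) = An.strHom V c := by
  have h1 : (X ↘ An.SC).appTop ≫ g.appTop = (V ↘ An.SC).appTop := by
    rw [← Scheme.Hom.comp_appTop, comp_over]
  show g.appTop ((X ↘ An.SC).appTop ((Scheme.ΓSpecIso (CommRingCat.of ℂ)).inv c)) =
    (V ↘ An.SC).appTop ((Scheme.ΓSpecIso (CommRingCat.of ℂ)).inv c)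
  rw [← h1]
  rfl

/-- Points of an affine scheme over an affine scheme, lying over a given point. -/
theorem exists_pts_of_ringHom_over {V X : Scheme.{0}} [V.Over An.SC] [X.Over An.SC] [IsAffine V]
    [IsAffine X] (g : V ⟶ X) [g.IsOver An.SC] (x : Pts X) (ψ : Γ(V, ⊤) →+* ℂ)
    (hψ : ∀ b : Γ(X, ⊤), ψ (g.appTop b) = x.evTop b) :
    ∃ y : Pts V, Pts.map g y = x ∧ ∀ a, y.evTop a = ψ a := by
  obtain ⟨y, hy⟩ := exists_pts_of_ringHom ψ (fun c => by
    rw [← appTop_strHom g c, hψ, evTop_strHom])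
  refine ⟨y, ?_, hy⟩
  apply pts_ext_of_evTop
  intro b
  rw [evTop_map, hy, hψ]

theorem appTop_specMap_comp_isoSpec_inv {X : Scheme.{0}} [IsAffine X] {A : CommRingCat.{0}}
    (φ : Γ(X, ⊤) ⟶ A) :
    (Spec.map φ ≫ X.isoSpec.inv).appTop = φ ≫ (Scheme.ΓSpecIso A).inv := by
  have hinvtop : X.isoSpec.inv.appTop = (Scheme.ΓSpecIso Γ(X, ⊤)).inv := by
    have h1 : X.isoSpec.inv.appTop ≫ X.isoSpec.hom.appTop = 𝟙 _ := by
      rw [← Scheme.Hom.comp_appTop, Iso.hom_inv_id]; rfl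
    have h2 : X.isoSpec.hom.appTop = (Scheme.ΓSpecIso Γ(X, ⊤)).hom := Scheme.toSpecΓ_appTop X
    rw [h2] at h1
    rw [← Category.comp_id X.isoSpec.inv.appTop, ← (Scheme.ΓSpecIso Γ(X, ⊤)).hom_inv_id,
      ← Category.assoc, h1, Category.id_comp]
  rw [Scheme.Hom.comp_appTop, hinvtop]
  exact (Scheme.ΓSpecIso_inv_naturality φ).symm

/-- A global function which vanishes at no `ℂ`-point is a unit. -/
theorem isUnit_of_forall_evTop_ne_zero {X : Scheme.{0}} [X.Over An.SC]
    [LocallyOfFiniteType (X ↘ An.SC)] (u : Γ(X, ⊤)) (hu : ∀ x : Pts X, x.evTop u ≠ 0) :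
    IsUnit u := by
  have hb : ((X.basicOpen u : X.Opens) : Set X) = Set.univ :=
    eq_univ_of_forall_pt_mem _ (X.basicOpen u).2
      (fun x => (mem_basicOpen_iff x ⊤ (Opens.mem_top _) u).mpr (hu x))
  apply X.toRingedSpace.isUnit_of_isUnit_germ ⊤ u
  intro p hp
  have hp' : p ∈ X.basicOpen u := by
    have : p ∈ ((X.basicOpen u : X.Opens) : Set X) := by rw [hb]; trivial
    exact this
  exact (X.mem_basicOpen u p hp).mp hp'

end Groth.Agent.Lib.Helper7.AnUnit
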