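import Groth.Agent.Lib.Helper7.AnUnit2

set_option autoImplicit false
set_option maxHeartbeats 800000

open CategoryTheory AlgebraicGeometry Topology TopologicalSpace An Limits

namespace Groth.Agent.Lib.Helper7.AnUnit

open Groth.Agent.Lib.Helper7 Groth.Agent.Lib.Helper7.AnTop Groth.Agent.Lib.Helper7.AnDense
  Groth.Agent.Lib.Helper7.AnConn

/-- The standard étale pair `(T^(m+1) - u, 1)` for a unit `u` in a `ℚ`-algebra-like ring. -/
noncomputable def rootPair {B : Type} [CommRing B] (m : ℕ) (u ui ninv : B) (hui : u * ui = 1)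
    (hnn : ((m : B) + 1) * ninv = 1) : StandardEtalePair B where
  f := Polynomial.X ^ (m + 1) - Polynomial.C u
  monic_f := Polynomial.monic_X_pow_sub_C u (Nat.succ_ne_zero m)
  g := 1
  cond := ⟨Polynomial.C ninv * Polynomial.C ui * Polynomial.X, -(Polynomial.C ui), 1, by
    rw [Polynomial.derivative_sub, Polynomial.derivative_C, sub_zero,
      Polynomial.derivative_X_pow_succ, one_pow]
    have hC1 := congrArg (Polynomial.C : B →+* Polynomial B) hnn
    have hC2 := congrArg (Polynomial.C : B →+* Polynomial B) hui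
    rw [map_mul, map_one] at hC1 hC2
    linear_combination (Polynomial.C ui * Polynomial.X ^ (m + 1)) * hC1 + hC2⟩

theorem rootPair_hasMap_iff {B : Type} [CommRing B] (m : ℕ) (u ui ninv : B) (hui : u * ui = 1)
    (hnn : ((m : B) + 1) * ninv = 1) {S : Type} [CommRing S] [Algebra B S] (t : S) :
    (rootPair m u ui ninv hui hnn).HasMap t ↔ t ^ (m + 1) = algebraMap B S u := by
  unfold StandardEtalePair.HasMap
  show Polynomial.aeval t (Polynomial.X ^ (m + 1) - Polynomial.C u : Polynomial B) = 0 ∧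
    IsUnit (Polynomial.aeval t (1 : Polynomial B)) ↔ _
  rw [map_sub, map_pow, Polynomial.aeval_X, Polynomial.aeval_C, map_one, sub_eq_zero]
  exact ⟨fun h => h.1, fun h => ⟨h, isUnit_one⟩⟩

theorem exists_pow_eq_of_continuous_root {X : Scheme.{0}} [X.Over An.SC]
    [LocallyOfFiniteType (X ↘ An.SC)] [IsAffine X]
    (u : Γ(X, ⊤)) (n : ℕ) (hn : n ≠ 0) (hu : ∀ x : Pts X, x.evTop u ≠ 0)
    (v : Pts X → ℂ) (hv : Continuous v) (hvn : ∀ x, v x ^ n = x.evTop u) :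
    ∃ w : Γ(X, ⊤), w ^ n = u := by
  classical
  obtain ⟨m, rfl⟩ := Nat.exists_eq_succ_of_ne_zero hn
  have hunit : IsUnit u := isUnit_of_forall_evTop_ne_zero u hu
  obtain ⟨ui, hui⟩ := hunit.exists_right_inv
  set ninv : Γ(X, ⊤) := An.strHom X (((m + 1 : ℕ) : ℂ)⁻¹) with hninv
  have hnn : ((m : Γ(X, ⊤)) + 1) * ninv = 1 := by
    rw [hninv, ← Nat.cast_succ, ← map_natCast (An.strHom X), ← map_mul,
      mul_inv_cancel₀ (Nat.cast_ne_zero.mpr hn), map_one]
  set P : StandardEtalePair Γ(X, ⊤) := rootPair m u ui ninv hui hnn with hP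
  set φ : Γ(X, ⊤) ⟶ CommRingCat.of P.Ring :=
    CommRingCat.ofHom (algebraMap Γ(X, ⊤) P.Ring) with hφ
  set V : Scheme.{0} := Spec (CommRingCat.of P.Ring) with hV
  set v₀ : V ⟶ X := Spec.map φ ≫ X.isoSpec.inv with hv₀
  haveI : Etale (Spec.map φ) := (HasRingHomProperty.Spec_iff (P := @Etale)).mpr
    (RingHom.etale_algebraMap.mpr inferInstance)
  haveI : Etale v₀ := by rw [hv₀]; infer_instance
  letI : V.Over An.SC := ⟨v₀ ≫ (X ↘ An.SC)⟩
  haveI : v₀.IsOver An.SC := ⟨rfl⟩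
  haveI : LocallyOfFiniteType (V ↘ An.SC) :=
    inferInstanceAs (LocallyOfFiniteType (v₀ ≫ (X ↘ An.SC)))
  haveI : IsAffine V := inferInstanceAs (IsAffine (Spec (CommRingCat.of P.Ring)))
  set Φ : P.Ring →+* Γ(V, ⊤) := (Scheme.ΓSpecIso (CommRingCat.of P.Ring)).inv.hom with hΦ
  have hΦsurj : Function.Surjective Φ :=
    (ConcreteCategory.bijective_of_isIso (Scheme.ΓSpecIso (CommRingCat.of P.Ring)).inv).2
  have happ : ∀ b : Γ(X, ⊤), v₀.appTop b = Φ (algebraMap Γ(X, ⊤) P.Ring b) := by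
    intro b
    rw [hv₀, appTop_specMap_comp_isoSpec_inv φ]
    rfl
  set T : Γ(V, ⊤) := Φ P.X with hT
  have hTn : T ^ (m + 1) = v₀.appTop u := by
    rw [happ, hT, ← map_pow]
    congr 1
    exact (rootPair_hasMap_iff m u ui ninv hui hnn P.X).mp P.hasMap_X
  set π : Pts V → Pts X := Pts.map v₀ with hπ
  have hπc : Continuous π := Pts.continuous_map v₀
  have hevT : ∀ y : Pts V, y.evTop T ^ (m + 1) = (π y).evTop u := by
    intro y
    rw [hπ, evTop_map, ← hTn]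
    exact (map_pow (evHom y ⊤ (Opens.mem_top _)) T (m + 1)).symm
  have hv0 : ∀ x, v x ≠ 0 := fun x h0 => hu x (by rw [← hvn x, h0, zero_pow hn])
  set Γs : Set (Pts V) := {y | y.evTop T = v (π y)} with hΓs
  have hΓc : IsClosed Γs := isClosed_eq (continuous_evTop T) (hv.comp hπc)
  set ρ : Pts V → ℂ := fun y => y.evTop T / v (π y) with hρ
  have hρc : Continuous ρ := (continuous_evTop T).div (hv.comp hπc) (fun y => hv0 _)
  have hρn : ∀ y, ρ y ^ (m + 1) = 1 := by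
    intro y
    show (y.evTop T / v (π y)) ^ (m + 1) = 1
    rw [div_pow, hevT, hvn, div_self (hu _)]
  set F : Set ℂ := ↑((Polynomial.nthRootsFinset (m + 1) (1 : ℂ)).erase 1) with hF
  have hFc : IsClosed F := (Finset.finite_toSet _).isClosed
  have hΓo : IsOpen Γs := by
    rw [← isClosed_compl_iff]
    have : Γsᶜ = ρ ⁻¹' F := by
      ext y
      have hiff : y ∈ Γs ↔ ρ y = 1 := by
        show y.evTop T = v (π y) ↔ y.evTop T / v (π y) = 1
        rw [div_eq_one_iff_eq (hv0 _)]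
      rw [Set.mem_compl_iff, hiff, Set.mem_preimage, hF, Finset.mem_coe, Finset.mem_erase,
        Polynomial.mem_nthRootsFinset (Nat.succ_pos m)]
      exact ⟨fun h => ⟨h, hρn y⟩, fun h => h.1⟩
    rw [this]
    exact hFc.preimage hρc
  obtain ⟨W₀, hW₀, hW₀Γ⟩ := exists_isClopen_preimage_eq (X := V) Γs ⟨hΓc, hΓo⟩
  set W₀' : V.Opens := ⟨W₀, hW₀.2⟩ with hW₀'
  letI : (W₀' : Scheme.{0}).Over An.SC := ⟨W₀'.ι ≫ (V ↘ An.SC)⟩
  haveI : W₀'.ι.IsOver An.SC := ⟨rfl⟩
  haveI : LocallyOfFiniteType ((W₀' : Scheme.{0}) ↘ An.SC) :=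
    inferInstanceAs (LocallyOfFiniteType (W₀'.ι ≫ (V ↘ An.SC)))
  set q : (W₀' : Scheme.{0}) ⟶ X := W₀'.ι ≫ v₀ with hq
  haveI : q.IsOver An.SC := ⟨by
    show (W₀'.ι ≫ v₀) ≫ (X ↘ An.SC) = W₀'.ι ≫ (V ↘ An.SC)
    rw [Category.assoc]
    rfl⟩
  haveI : Etale q := by rw [hq]; infer_instance
  have hmemΓ : ∀ w : Pts (W₀' : Scheme.{0}), Pts.map W₀'.ι w ∈ Γs := by
    intro w
    have h1 : Pts.map W₀'.ι w ∈ Pts.pt ⁻¹' W₀ := by
      show (Pts.map W₀'.ι w).pt ∈ W₀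
      rw [Pts.pt_map]; exact (w.pt).2
    rwa [hW₀Γ] at h1
  have hlift : ∀ y ∈ Γs, ∃ w : Pts (W₀' : Scheme.{0}), Pts.map W₀'.ι w = y := by
    intro y hy
    apply exists_map_eq_of_isOpenImmersion
    rw [Scheme.Opens.range_ι]
    have h1 : y ∈ Pts.pt ⁻¹' W₀ := by rw [hW₀Γ]; exact hy
    exact h1
  have hqmap : ∀ w, Pts.map q w = π (Pts.map W₀'.ι w) := fun w =>
    Subtype.ext (Category.assoc _ _ _).symm
  have hfib : ∀ y₁ y₂ : Pts V, π y₁ = π y₂ → y₁.evTop T = y₂.evTop T → y₁ = y₂ := by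
    intro y₁ y₂ h12 hT12
    letI : Algebra Γ(X, ⊤) ℂ := (evHom (π y₁) ⊤ (Opens.mem_top _)).toAlgebra
    let ψ₁ : P.Ring →ₐ[Γ(X, ⊤)] ℂ :=
      { toRingHom := (evHom y₁ ⊤ (Opens.mem_top _)).comp Φ
        commutes' := fun b => by
          show y₁.evTop (Φ (algebraMap _ _ b)) = (π y₁).evTop b
          rw [← happ, hπ, evTop_map] }
    let ψ₂ : P.Ring →ₐ[Γ(X, ⊤)] ℂ :=
      { toRingHom := (evHom y₂ ⊤ (Opens.mem_top _)).comp Φ
        commutes' := fun b => by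
          show y₂.evTop (Φ (algebraMap _ _ b)) = (π y₁).evTop b
          rw [← happ, h12, hπ, evTop_map] }
    have h : ψ₁ = ψ₂ := StandardEtalePair.hom_ext hT12
    apply pts_ext_of_evTop
    intro a
    obtain ⟨a', rfl⟩ := hΦsurj a
    exact DFunLike.congr_fun h a'
  have hbij : Function.Bijective (Pts.map q) := by
    constructor
    · intro w₁ w₂ h12
      rw [hqmap, hqmap] at h12
      apply map_injective_of_mono W₀'.ι
      apply hfib _ _ h12
      have e1 : (Pts.map W₀'.ι w₁).evTop T = v (π (Pts.map W₀'.ι w₁)) := hmemΓ w₁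
      have e2 : (Pts.map W₀'.ι w₂).evTop T = v (π (Pts.map W₀'.ι w₂)) := hmemΓ w₂
      rw [e1, e2, h12]
    · intro x
      letI : Algebra Γ(X, ⊤) ℂ := (evHom x ⊤ (Opens.mem_top _)).toAlgebra
      have hmap : P.HasMap (v x) :=
        (rootPair_hasMap_iff m u ui ninv hui hnn (v x)).mpr (hvn x)
      set ψ : P.Ring →ₐ[Γ(X, ⊤)] ℂ := P.lift (v x) hmap with hψ
      set ψ' : Γ(V, ⊤) →+* ℂ :=
        (ψ : P.Ring →+* ℂ).comp (Scheme.ΓSpecIso (CommRingCat.of P.Ring)).hom.hom with hψ'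
      have hψ'Φ : ∀ a', ψ' (Φ a') = ψ a' := by
        intro a'
        show ψ ((Scheme.ΓSpecIso (CommRingCat.of P.Ring)).hom
          ((Scheme.ΓSpecIso (CommRingCat.of P.Ring)).inv a')) = ψ a'
        rw [Iso.inv_hom_id_apply]
      obtain ⟨y, hyx, hy⟩ := exists_pts_of_ringHom_over v₀ x ψ' (by
        intro b
        rw [happ, hψ'Φ]
        exact ψ.commutes b)
      have hyΓ : y ∈ Γs := by
        show y.evTop T = v (π y)
        rw [hy, hT, hψ'Φ, hψ, StandardEtalePair.lift_X, hπ, hyx]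
      obtain ⟨w, hw⟩ := hlift y hyΓ
      exact ⟨w, by rw [hqmap, hw]; exact hyx⟩
  haveI : IsIso q := isIso_of_etale_of_bijective q hbij
  set σ : X ⟶ V := inv q ≫ W₀'.ι with hσ
  have hσv : σ ≫ v₀ = 𝟙 X := by rw [hσ, Category.assoc, ← hq, IsIso.inv_hom_id]
  refine ⟨σ.appTop T, ?_⟩
  have e1 : (σ.appTop.hom T) ^ (m + 1) = σ.appTop.hom (T ^ (m + 1)) :=
    (map_pow σ.appTop.hom T _).symm
  have e2 : σ.appTop.hom (v₀.appTop u) = u := by
    show (v₀.appTop ≫ σ.appTop) u = u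
    rw [← Scheme.Hom.comp_appTop, hσv]
    rfl
  exact (e1.trans (by rw [hTn])).trans e2

end Groth.Agent.Lib.Helper7.AnUnit
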