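import Groth.Agent.Lib.Helper7.AnUnit3

set_option autoImplicit false
set_option maxHeartbeats 800000

open CategoryTheory AlgebraicGeometry Topology TopologicalSpace An Limits

namespace Groth.Agent.Lib.Helper7.AnUnit

open Groth.Agent.Lib.Helper7 Groth.Agent.Lib.Helper7.AnTop Groth.Agent.Lib.Helper7.AnDense
  Groth.Agent.Lib.Helper7.AnConn

/-- A divisible global function on an affine scheme of finite type over `ℂ` takes only finitely
many values. -/
theorem finite_range_evTop_of_roots {X : Scheme.{0}} [X.Over An.SC]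
    [LocallyOfFiniteType (X ↘ An.SC)] [IsAffine X] (u : Γ(X, ⊤))
    (h : ∀ k : ℕ, 0 < k → ∃ w : Γ(X, ⊤), w ^ k = u) :
    (Set.range (fun x : Pts X => x.evTop u)).Finite := by
  obtain ⟨n, s, hs⟩ := exists_generators (X := X)
  haveI : IsNoetherianRing Γ(X, ⊤) :=
    isNoetherianRing_of_surjective _ _ (MvPolynomial.eval₂Hom (An.strHom X) s) hs
  have hfin : (minimalPrimes Γ(X, ⊤)).Finite := minimalPrimes.finite_of_isNoetherianRing Γ(X, ⊤)
  have hc : ∀ 𝔭 ∈ minimalPrimes Γ(X, ⊤), ∃ c : ℂ, u - An.strHom X c ∈ 𝔭 := by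
    intro 𝔭 h𝔭
    haveI : 𝔭.IsPrime := h𝔭.1.1
    exact exists_sub_mem_of_forall_exists_pow_eq (An.strHom X) n s hs 𝔭 u h
  choose! c hc using hc
  refine (hfin.image c).subset ?_
  rintro _ ⟨x, rfl⟩
  set K := RingHom.ker (evHom x ⊤ (Opens.mem_top _)) with hK
  haveI : K.IsPrime := RingHom.ker_isPrime _
  obtain ⟨𝔭, h𝔭, h𝔭K⟩ := Ideal.exists_minimalPrimes_le (bot_le : (⊥ : Ideal Γ(X, ⊤)) ≤ K)
  refine ⟨𝔭, h𝔭, ?_⟩
  have h1 : evHom x ⊤ (Opens.mem_top _) (u - An.strHom X (c 𝔭)) = 0 := h𝔭K (hc 𝔭 h𝔭)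
  rw [map_sub, sub_eq_zero] at h1
  have h2 : x.evTop (An.strHom X (c 𝔭)) = c 𝔭 := evTop_strHom x (c 𝔭)
  show c 𝔭 = x.evTop u
  exact h2.symm.trans h1.symm

/-- A global function with a continuous logarithm on a connected scheme locally of finite type
over `ℂ` is constant on `ℂ`-points. -/
theorem evTop_eq_of_exp {X : Scheme.{0}} [X.Over An.SC] [LocallyOfFiniteType (X ↘ An.SC)]
    [ConnectedSpace X] (u : Γ(X, ⊤)) (g : Pts X → ℂ) (hg : Continuous g)
    (hgu : ∀ x, Complex.exp (g x) = x.evTop u) : ∀ x y : Pts X, x.evTop u = y.evTop u := by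
  haveI : ConnectedSpace (Pts X) := connectedSpace_iff.mp inferInstance
  have hloc : IsLocallyConstant (fun x : Pts X => x.evTop u) := by
    rw [IsLocallyConstant.iff_exists_open]
    intro x₀
    obtain ⟨U, hU, hxU, -⟩ := exists_isAffineOpen_mem_and_subset (x := x₀.pt) (U := ⊤)
      (Opens.mem_top _)
    letI : (U : Scheme.{0}).Over An.SC := ⟨U.ι ≫ (X ↘ An.SC)⟩
    haveI : U.ι.IsOver An.SC := ⟨rfl⟩
    haveI : IsAffine (U : Scheme.{0}) := hU
    haveI : LocallyOfFiniteType ((U : Scheme.{0}) ↘ An.SC) :=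
      inferInstanceAs (LocallyOfFiniteType (U.ι ≫ (X ↘ An.SC)))
    set uU : Γ((U : Scheme.{0}), ⊤) := U.ι.appTop u with huU
    have hev : ∀ y : Pts (U : Scheme.{0}), y.evTop uU = (Pts.map U.ι y).evTop u :=
      fun y => (evTop_map U.ι y u).symm
    have hroots : ∀ k : ℕ, 0 < k → ∃ w : Γ((U : Scheme.{0}), ⊤), w ^ k = uU := by
      intro k hk
      have hk0 : (k : ℂ) ≠ 0 := Nat.cast_ne_zero.mpr hk.ne'
      apply exists_pow_eq_of_continuous_root uU k hk.ne'
        (fun y => by rw [hev, ← hgu]; exact Complex.exp_ne_zero _)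
        (fun y => Complex.exp (g (Pts.map U.ι y) / k))
        (Complex.continuous_exp.comp ((hg.comp (Pts.continuous_map U.ι)).div_const _))
      intro y
      have e : (k : ℂ) * (g (Pts.map U.ι y) / k) = g (Pts.map U.ι y) := by field_simp
      rw [hev, ← hgu, ← Complex.exp_nat_mul, e]
    have hfin := finite_range_evTop_of_roots uU hroots
    have hemb := isOpenEmbedding_map U.ι
    set N : Set (Pts X) := Set.range (Pts.map U.ι) with hN
    have hNo : IsOpen N := hemb.isOpen_range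
    have hx₀N : x₀ ∈ N := by
      rw [hN, range_map_of_isOpenImmersion]
      show x₀.pt ∈ Set.range U.ι
      rw [Scheme.Opens.range_ι]; exact hxU
    set F : Set ℂ := Set.range (fun y : Pts (U : Scheme.{0}) => y.evTop uU) \ {x₀.evTop u}
      with hF
    have hFc : IsClosed F := (hfin.subset Set.sdiff_subset).isClosed
    refine ⟨N ∩ (fun x : Pts X => x.evTop u) ⁻¹' Fᶜ,
      hNo.inter (hFc.isOpen_compl.preimage (continuous_evTop u)), ⟨hx₀N, ?_⟩, ?_⟩
    · show x₀.evTop u ∉ F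
      rw [hF]; exact fun h => h.2 rfl
    · rintro x' ⟨⟨y, rfl⟩, hx'F⟩
      by_contra hne
      apply hx'F
      exact ⟨⟨y, hev y⟩, hne⟩
  exact fun x y => hloc.apply_eq_of_preconnectedSpace x y

end Groth.Agent.Lib.Helper7.AnUnit
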