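import Mathlib.Order.Filter.FilterProduct
import Mathlib.RingTheory.Valuation.ValuationSubring
import Mathlib.Analysis.Complex.Basic
import Mathlib.Topology.MetricSpace.ProperSpace
import Mathlib.Analysis.Normed.Field.ProperSpace
import Mathlib.RingTheory.LocalRing.MaximalIdeal.Basic

set_option autoImplicit false
set_option maxHeartbeats 400000

/-!
# The ultrapower of ℂ along an ultrafilter: bounded elements and the standard part

For an ultrafilter `𝒰` on a type `ι`, the germs `Germ 𝒰 ℂ` form a field.  The germs that are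
bounded along `𝒰` form a valuation subring, and taking the limit along `𝒰` is a ring homomorphism
from it onto `ℂ` (the *standard part*), whose kernel is the maximal ideal.
-/

open Filter Topology

namespace Groth.Agent.Lib.Helper7.AnVal

variable {ι : Type*} (𝒰 : Ultrafilter ι)

/-- Germs bounded along the ultrafilter, as a subring. -/
noncomputable def bddSubring : Subring (Germ (𝒰 : Filter ι) ℂ) where
  carrier := {z | ∃ M : ℝ, Germ.LiftPred (fun c : ℂ => ‖c‖ ≤ M) z}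
  mul_mem' := by
    rintro a b ⟨M₁, h₁⟩ ⟨M₂, h₂⟩
    induction a using Germ.inductionOn with | _ f =>
    induction b using Germ.inductionOn with | _ g =>
    refine ⟨M₁ * M₂, ?_⟩
    change ∀ᶠ p in (𝒰 : Filter ι), ‖f p * g p‖ ≤ M₁ * M₂
    have h₁' : ∀ᶠ p in (𝒰 : Filter ι), ‖f p‖ ≤ M₁ := h₁
    have h₂' : ∀ᶠ p in (𝒰 : Filter ι), ‖g p‖ ≤ M₂ := h₂
    filter_upwards [h₁', h₂'] with p hp₁ hp₂
    rw [norm_mul]
    exact mul_le_mul hp₁ hp₂ (norm_nonneg _) ((norm_nonneg _).trans hp₁)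
  one_mem' := by
    refine ⟨1, ?_⟩
    change ∀ᶠ p in (𝒰 : Filter ι), ‖(1 : ℂ)‖ ≤ 1
    exact Eventually.of_forall fun _ => by simp
  add_mem' := by
    rintro a b ⟨M₁, h₁⟩ ⟨M₂, h₂⟩
    induction a using Germ.inductionOn with | _ f =>
    induction b using Germ.inductionOn with | _ g =>
    refine ⟨M₁ + M₂, ?_⟩
    change ∀ᶠ p in (𝒰 : Filter ι), ‖f p + g p‖ ≤ M₁ + M₂
    have h₁' : ∀ᶠ p in (𝒰 : Filter ι), ‖f p‖ ≤ M₁ := h₁
    have h₂' : ∀ᶠ p in (𝒰 : Filter ι), ‖g p‖ ≤ M₂ := h₂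
    filter_upwards [h₁', h₂'] with p hp₁ hp₂
    exact (norm_add_le _ _).trans (add_le_add hp₁ hp₂)
  zero_mem' := by
    refine ⟨0, ?_⟩
    change ∀ᶠ p in (𝒰 : Filter ι), ‖(0 : ℂ)‖ ≤ 0
    exact Eventually.of_forall fun _ => by simp
  neg_mem' := by
    rintro a ⟨M₁, h₁⟩
    induction a using Germ.inductionOn with | _ f =>
    refine ⟨M₁, ?_⟩
    change ∀ᶠ p in (𝒰 : Filter ι), ‖-f p‖ ≤ M₁
    have h₁' : ∀ᶠ p in (𝒰 : Filter ι), ‖f p‖ ≤ M₁ := h₁
    filter_upwards [h₁'] with p hp₁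
    rwa [norm_neg]

theorem mem_bddSubring_coe {g : ι → ℂ} :
    (g : Germ (𝒰 : Filter ι) ℂ) ∈ bddSubring 𝒰 ↔
      ∃ M : ℝ, ∀ᶠ p in (𝒰 : Filter ι), ‖g p‖ ≤ M := Iff.rfl

/-- Germs bounded along the ultrafilter, as a valuation subring of the ultrapower field. -/
noncomputable def bddVal : ValuationSubring (Germ (𝒰 : Filter ι) ℂ) :=
  ValuationSubring.ofSubring (bddSubring 𝒰) (by
    intro z
    induction z using Germ.inductionOn with | _ g =>
    rcases 𝒰.em (fun p => ‖g p‖ ≤ 1) with h | h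
    · exact Or.inl ⟨1, h⟩
    · refine Or.inr ⟨1, ?_⟩
      change ∀ᶠ p in (𝒰 : Filter ι), ‖(g p)⁻¹‖ ≤ 1
      filter_upwards [h] with p hp
      rw [norm_inv]
      exact inv_le_one_of_one_le₀ (le_of_lt (not_le.mp hp)))

theorem mem_bddVal_coe {g : ι → ℂ} :
    (g : Germ (𝒰 : Filter ι) ℂ) ∈ bddVal 𝒰 ↔
      ∃ M : ℝ, ∀ᶠ p in (𝒰 : Filter ι), ‖g p‖ ≤ M := Iff.rfl

variable {𝒰}

theorem exists_tendsto {z : Germ (𝒰 : Filter ι) ℂ} (hz : z ∈ bddVal 𝒰) :
    ∃ c : ℂ, z.Tendsto (𝓝 c) := by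
  induction z using Germ.inductionOn with | _ g =>
  obtain ⟨M, hM⟩ := (mem_bddVal_coe 𝒰).mp hz
  have hbd : g ⁻¹' Metric.closedBall (0 : ℂ) M ∈ 𝒰 := by
    rw [← Ultrafilter.mem_coe]
    filter_upwards [hM] with p hp
    rw [Set.mem_preimage, mem_closedBall_zero_iff]
    exact hp
  obtain ⟨v, -, hv⟩ := (isCompact_closedBall (0 : ℂ) M).ultrafilter_le_nhds'
    (𝒰.map g) (Ultrafilter.mem_map.mpr hbd)
  exact ⟨v, hv⟩

theorem mem_of_tendsto {z : Germ (𝒰 : Filter ι) ℂ} {c : ℂ} (h : z.Tendsto (𝓝 c)) :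
    z ∈ bddVal 𝒰 := by
  induction z using Germ.inductionOn with | _ g =>
  have h' : Tendsto g (𝒰 : Filter ι) (𝓝 c) := h
  refine (mem_bddVal_coe 𝒰).mpr ⟨‖c‖ + 1, ?_⟩
  have h1 := (continuous_norm.tendsto c).comp h'
  filter_upwards [h1.eventually (eventually_lt_nhds (lt_add_one _))] with p hp
  exact hp.le

theorem tendsto_unique {z : Germ (𝒰 : Filter ι) ℂ} {c c' : ℂ} (h : z.Tendsto (𝓝 c))
    (h' : z.Tendsto (𝓝 c')) : c = c' := by
  induction z using Germ.inductionOn with | _ g =>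
  exact tendsto_nhds_unique (Germ.coe_tendsto.mp h) (Germ.coe_tendsto.mp h')

theorem tendsto_add {z w : Germ (𝒰 : Filter ι) ℂ} {a b : ℂ} (hz : z.Tendsto (𝓝 a))
    (hw : w.Tendsto (𝓝 b)) : (z + w).Tendsto (𝓝 (a + b)) := by
  induction z using Germ.inductionOn with | _ f =>
  induction w using Germ.inductionOn with | _ g =>
  exact Tendsto.add (Germ.coe_tendsto.mp hz) (Germ.coe_tendsto.mp hw)

theorem tendsto_mul {z w : Germ (𝒰 : Filter ι) ℂ} {a b : ℂ} (hz : z.Tendsto (𝓝 a))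
    (hw : w.Tendsto (𝓝 b)) : (z * w).Tendsto (𝓝 (a * b)) := by
  induction z using Germ.inductionOn with | _ f =>
  induction w using Germ.inductionOn with | _ g =>
  exact Tendsto.mul (Germ.coe_tendsto.mp hz) (Germ.coe_tendsto.mp hw)

theorem tendsto_const (c : ℂ) : ((c : Germ (𝒰 : Filter ι) ℂ)).Tendsto (𝓝 c) :=
  tendsto_const_nhds (α := ι) (f := (𝒰 : Filter ι)) (x := c)

/-- The standard part, as a function. -/
noncomputable def stFun (z : bddVal 𝒰) : ℂ := Classical.choose (exists_tendsto z.2)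

theorem tendsto_stFun (z : bddVal 𝒰) : (z : Germ (𝒰 : Filter ι) ℂ).Tendsto (𝓝 (stFun z)) :=
  Classical.choose_spec (exists_tendsto z.2)

theorem stFun_eq {z : bddVal 𝒰} {c : ℂ} (h : (z : Germ (𝒰 : Filter ι) ℂ).Tendsto (𝓝 c)) :
    stFun z = c := tendsto_unique (tendsto_stFun z) h

/-- The standard part `bddVal 𝒰 →+* ℂ`: the limit along the ultrafilter. -/
noncomputable def st : bddVal 𝒰 →+* ℂ where
  toFun := stFun
  map_one' := stFun_eq (tendsto_const (𝒰 := 𝒰) 1)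
  map_mul' z w := stFun_eq (tendsto_mul (tendsto_stFun z) (tendsto_stFun w))
  map_zero' := stFun_eq (tendsto_const (𝒰 := 𝒰) 0)
  map_add' z w := stFun_eq (tendsto_add (tendsto_stFun z) (tendsto_stFun w))

theorem tendsto_st (z : bddVal 𝒰) : (z : Germ (𝒰 : Filter ι) ℂ).Tendsto (𝓝 (st z)) :=
  tendsto_stFun z

theorem st_eq {z : bddVal 𝒰} {c : ℂ} (h : (z : Germ (𝒰 : Filter ι) ℂ).Tendsto (𝓝 c)) :
    st z = c := stFun_eq h

theorem st_surjective : Function.Surjective (st (𝒰 := 𝒰)) := fun c =>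
  ⟨⟨(c : Germ (𝒰 : Filter ι) ℂ), mem_of_tendsto (tendsto_const c)⟩, st_eq (tendsto_const c)⟩

theorem ker_st : RingHom.ker (st (𝒰 := 𝒰)) = IsLocalRing.maximalIdeal (bddVal 𝒰) :=
  IsLocalRing.eq_maximalIdeal (RingHom.ker_isMaximal_of_surjective _ st_surjective)

theorem eventually_ne_of_coe_ne_zero {g : ι → ℂ} (h : (g : Germ (𝒰 : Filter ι) ℂ) ≠ 0) :
    ∀ᶠ p in (𝒰 : Filter ι), g p ≠ 0 := by
  rw [Ultrafilter.eventually_not]
  intro h0
  exact h (Germ.coe_eq.mpr h0)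

end Groth.Agent.Lib.Helper7.AnVal
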