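import Groth.Agent.Lib.Helper7.AnVal1
import Groth.Agent.Lib.Helper7.AnProper1
import Mathlib.AlgebraicGeometry.ValuativeCriterion

set_option autoImplicit false
set_option maxHeartbeats 400000

/-!
# Existence part of the valuative criterion ⇒ properness on ℂ-points

Nonstandard argument: an ultrafilter on `X(ℂ)` gives a point of `X` with values in the
ultrapower field `K = Germ 𝒰 ℂ`; the bounded germs form a valuation ring `O` of `K` with
residue field `ℂ` (standard part), and the valuative criterion produces the limit point.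
-/

open CategoryTheory AlgebraicGeometry Topology TopologicalSpace An Filter

namespace Groth.Agent.Lib.Helper7.AnVal

open Groth.Agent.Lib.Helper7.AnTop Groth.Agent.Lib.Helper7.AnDense
  Groth.Agent.Lib.Helper7.AnProper

section general

variable {X : Scheme.{0}}

/-- A morphism from `Spec R` landing inside an affine open `V` factors through `hV.fromSpec`. -/
theorem eq_SpecMap_comp_fromSpec {R : CommRingCat.{0}} (g : Spec R ⟶ X) {V : X.Opens}
    (hV : IsAffineOpen V) (h : (⊤ : (Spec R).Opens) ≤ g ⁻¹ᵁ V) :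
    g = Spec.map (g.appLE V ⊤ h ≫ (Scheme.ΓSpecIso R).hom) ≫ hV.fromSpec := by
  rw [Spec.map_comp, Category.assoc,
    IsAffineOpen.SpecMap_appLE_fromSpec g hV (isAffineOpen_top _) h,
    IsAffineOpen.fromSpec_top, Scheme.isoSpec_Spec_inv, ← Spec.map_comp_assoc, Iso.inv_hom_id,
    Spec.map_id, Category.id_comp]

end general

section ev

variable {X : Scheme.{0}} [X.Over An.SC]

/-- A ℂ-point as a morphism, through an affine open containing it. -/
theorem val_eq (y : Pts X) {W : X.Opens} (hW : IsAffineOpen W) (h : y.pt ∈ W) :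
    y.1 = Spec.map (CommRingCat.ofHom (evHom y W h)) ≫ hW.fromSpec :=
  eq_SpecMap_comp_fromSpec y.1 hW (Pts.top_le_preimage y h)

open Classical in
/-- Evaluation of a section at a ℂ-point, extended by zero outside the open set. -/
noncomputable def evU (U : X.Opens) (p : Pts X) (a : Γ(X, U)) : ℂ :=
  if h : p.pt ∈ U then p.ev U h a else 0

theorem evU_of_mem {U : X.Opens} {p : Pts X} (h : p.pt ∈ U) (a : Γ(X, U)) :
    evU U p a = evHom p U h a := by
  unfold evU; rw [dif_pos h]; rfl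

theorem tendsto_evU (W : X.Opens) (y : Pts X) (hy : y.pt ∈ W) (c : Γ(X, W)) :
    Tendsto (fun q : Pts X => evU W q c) (𝓝 y) (𝓝 (y.ev W hy c)) := by
  rw [tendsto_nhds]
  intro N hN hyN
  refine Filter.mem_of_superset ((Pts.isOpen_basicSet W c hN).mem_nhds ⟨hy, hyN⟩) ?_
  rintro q ⟨hq, hqN⟩
  rw [Set.mem_preimage, evU_of_mem hq]
  exact hqN

/-- Convergence in `X(ℂ)` can be tested on one affine open neighbourhood. -/
theorem le_nhds_of_affine (𝒰 : Filter (Pts X)) (x : Pts X) (V : X.Opens) (hV : IsAffineOpen V)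
    (hx : x.pt ∈ V) (hVmem : ∀ᶠ p in 𝒰, p.pt ∈ V)
    (h : ∀ b : Γ(X, V), Tendsto (fun p => evU V p b) 𝒰 (𝓝 (x.ev V hx b))) : 𝒰 ≤ 𝓝 x := by
  letI : (V : Scheme.{0}).Over An.SC := ⟨V.ι ≫ (X ↘ An.SC)⟩
  haveI : V.ι.IsOver An.SC := ⟨rfl⟩
  haveI : IsAffine (V : Scheme.{0}) := hV
  have hj := isOpenEmbedding_map V.ι
  obtain ⟨x', hx'⟩ := exists_map_eq_of_isOpenImmersion V.ι x (by
    rw [Scheme.Opens.range_ι]; exact hx)
  have hrange : Set.range (Pts.map V.ι) ∈ 𝒰 := by
    rw [range_map_of_isOpenImmersion, Scheme.Opens.range_ι]; exact hVmem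
  have hmap : Filter.map (Pts.map V.ι) (Filter.comap (Pts.map V.ι) 𝒰) = 𝒰 :=
    Filter.map_comap_of_mem hrange
  rw [← hmap, ← hx']
  refine (Filter.map_mono ?_).trans (hj.continuous.tendsto x')
  apply le_nhds_of_tendsto_evTop
  intro a'
  obtain ⟨b, rfl⟩ := (ConcreteCategory.bijective_of_isIso
    (V.ι.appLE V ⊤ V.ι_preimage_self.ge)).2 a'
  have hw : ∀ w : Pts (V : Scheme.{0}),
      w.evTop (V.ι.appLE V ⊤ V.ι_preimage_self.ge b) = evU V (Pts.map V.ι w) b := by
    intro w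
    have hwV : (Pts.map V.ι w).pt ∈ V := by
      rw [Pts.pt_map]; exact (w.pt).2
    rw [evU_of_mem hwV, evHom_apply]
    exact (ev_map_appLE V.ι w V ⊤ V.ι_preimage_self.ge (Opens.mem_top _) b).symm
  have hlim : x'.evTop (V.ι.appLE V ⊤ V.ι_preimage_self.ge b) = x.ev V hx b := by
    rw [hw x']
    have hxV : (Pts.map V.ι x').pt ∈ V := by rw [hx']; exact hx
    rw [evU_of_mem hxV, evHom_apply]
    subst hx'
    rfl
  rw [hlim]
  refine Tendsto.congr (fun w => (hw w).symm) ?_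
  exact (h b).comp tendsto_comap

variable (𝒰 : Ultrafilter (Pts X))

/-- The germ of the evaluation functions: `Γ(X, U) → Germ 𝒰 ℂ`, when `𝒰` concentrates on `U(ℂ)`. -/
noncomputable def germHom (U : X.Opens) (hU : ∀ᶠ p in (𝒰 : Filter (Pts X)), p.pt ∈ U) :
    Γ(X, U) →+* Germ (𝒰 : Filter (Pts X)) ℂ where
  toFun a := ((fun p => evU U p a : Pts X → ℂ) : Germ (𝒰 : Filter (Pts X)) ℂ)
  map_one' := by
    change ((fun p => evU U p 1 : Pts X → ℂ) : Germ (𝒰 : Filter (Pts X)) ℂ) =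
      ((1 : Pts X → ℂ) : Germ _ ℂ)
    exact Germ.coe_eq.mpr (hU.mono fun p hp => by
      show evU U p 1 = 1
      rw [evU_of_mem hp, map_one])
  map_mul' a b := by
    change ((fun p => evU U p (a * b) : Pts X → ℂ) : Germ (𝒰 : Filter (Pts X)) ℂ) =
      (((fun p => evU U p a) * (fun p => evU U p b) : Pts X → ℂ) : Germ _ ℂ)
    exact Germ.coe_eq.mpr (hU.mono fun p hp => by
      show evU U p (a * b) = evU U p a * evU U p b
      rw [evU_of_mem hp, evU_of_mem hp, evU_of_mem hp, map_mul])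
  map_zero' := by
    change ((fun p => evU U p 0 : Pts X → ℂ) : Germ (𝒰 : Filter (Pts X)) ℂ) =
      ((0 : Pts X → ℂ) : Germ _ ℂ)
    exact Germ.coe_eq.mpr (hU.mono fun p hp => by
      show evU U p 0 = 0
      rw [evU_of_mem hp, map_zero])
  map_add' a b := by
    change ((fun p => evU U p (a + b) : Pts X → ℂ) : Germ (𝒰 : Filter (Pts X)) ℂ) =
      (((fun p => evU U p a) + (fun p => evU U p b) : Pts X → ℂ) : Germ _ ℂ)
    exact Germ.coe_eq.mpr (hU.mono fun p hp => by
      show evU U p (a + b) = evU U p a + evU U p b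
      rw [evU_of_mem hp, evU_of_mem hp, evU_of_mem hp, map_add])

theorem germHom_apply (U : X.Opens) (hU : ∀ᶠ p in (𝒰 : Filter (Pts X)), p.pt ∈ U)
    (a : Γ(X, U)) :
    germHom 𝒰 U hU a = ((fun p => evU U p a : Pts X → ℂ) : Germ (𝒰 : Filter (Pts X)) ℂ) := rfl

theorem germHom_res {U D : X.Opens} (hle : D ≤ U)
    (hD : ∀ᶠ p in (𝒰 : Filter (Pts X)), p.pt ∈ D)
    (hU : ∀ᶠ p in (𝒰 : Filter (Pts X)), p.pt ∈ U) :
    (germHom 𝒰 D hD).comp (X.presheaf.map (homOfLE hle).op).hom = germHom 𝒰 U hU := by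
  ext a
  rw [RingHom.comp_apply, germHom_apply, germHom_apply]
  refine Germ.coe_eq.mpr (hD.mono fun p hp => ?_)
  show evU D p _ = evU U p a
  rw [evU_of_mem hp, evU_of_mem (hle hp), evHom_apply, evHom_apply]
  exact ev_res p hle hp a

theorem SpecMap_germHom_eq {U D : X.Opens} (hUa : IsAffineOpen U) (hDa : IsAffineOpen D)
    (hle : D ≤ U) (hD : ∀ᶠ p in (𝒰 : Filter (Pts X)), p.pt ∈ D)
    (hU : ∀ᶠ p in (𝒰 : Filter (Pts X)), p.pt ∈ U) :
    Spec.map (CommRingCat.ofHom (germHom 𝒰 D hD)) ≫ hDa.fromSpec =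
      Spec.map (CommRingCat.ofHom (germHom 𝒰 U hU)) ≫ hUa.fromSpec := by
  rw [← germHom_res 𝒰 hle hD hU, CommRingCat.ofHom_comp, Spec.map_comp, Category.assoc,
    CommRingCat.ofHom_hom, hUa.map_fromSpec hDa (homOfLE hle).op]

end ev

end Groth.Agent.Lib.Helper7.AnVal
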