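import Groth.Agent.Lib.Helper7.AnVal2

set_option autoImplicit false
set_option maxHeartbeats 800000

open CategoryTheory AlgebraicGeometry Topology TopologicalSpace An Filter

namespace Groth.Agent.Lib.Helper7.AnVal

open Groth.Agent.Lib.Helper7.AnTop Groth.Agent.Lib.Helper7.AnDense
  Groth.Agent.Lib.Helper7.AnProper

theorem cpt_asIdeal : (An.cpt).asIdeal = ⊥ :=
  (Ideal.eq_bot_or_top _).resolve_right (An.cpt).2.ne_top

/-- **Ultrafilter form of properness from the valuative criterion.** -/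
theorem exists_le_nhds_of_existence {X Y : Scheme.{0}} [X.Over An.SC] [Y.Over An.SC]
    (f : X ⟶ Y) [f.IsOver An.SC] [QuasiCompact f] (hf : ValuativeCriterion.Existence f)
    (𝒰 : Ultrafilter (Pts X)) (y : Pts Y) (hy : Tendsto (Pts.map f) 𝒰 (𝓝 y)) :
    ∃ x : Pts X, Pts.map f x = y ∧ (𝒰 : Filter (Pts X)) ≤ 𝓝 x := by
  -- Step 0: localise
  obtain ⟨W, hW, hyW, -⟩ := exists_isAffineOpen_mem_and_subset (x := y.pt) (U := ⊤)
    (Opens.mem_top _)
  have h1 : Pts.pt ⁻¹' ((f ⁻¹ᵁ W : X.Opens) : Set X) ∈ 𝒰 := by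
    rw [← Ultrafilter.mem_coe]
    have h2 := hy ((Pts.isOpen_preimage_pt W).mem_nhds hyW)
    refine Filter.mem_of_superset h2 ?_
    intro p hp
    rw [Set.mem_preimage, Set.mem_preimage, Pts.pt_map] at hp
    exact hp
  have hcomp : IsCompact ((f ⁻¹ᵁ W : X.Opens) : Set X) := f.isCompact_preimage hW.isCompact
  obtain ⟨ξ₀, hξ₀, hle⟩ := hcomp.ultrafilter_le_nhds' (𝒰.map Pts.pt)
    (Ultrafilter.mem_map.mpr h1)
  obtain ⟨U, hU, hξU, hUle'⟩ := exists_isAffineOpen_mem_and_subset (x := ξ₀) (U := f ⁻¹ᵁ W) hξ₀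
  have hUle : U ≤ f ⁻¹ᵁ W := hUle'
  have hUmem : ∀ᶠ p in (𝒰 : Filter (Pts X)), p.pt ∈ U := hle (U.2.mem_nhds hξU)
  -- Step 1: the ultrapower point
  have hbase : ∀ c : Γ(Y, W), Tendsto (fun p : Pts X => evU U p ((f.appLE W U hUle).hom c)) 𝒰
      (𝓝 (y.ev W hyW c)) := by
    intro c
    have h2 : Tendsto (fun p : Pts X => evU W (Pts.map f p) c) 𝒰 (𝓝 (y.ev W hyW c)) :=
      (tendsto_evU W y hyW c).comp hy
    refine h2.congr' ?_
    filter_upwards [hUmem] with p hp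
    have hpW : (Pts.map f p).pt ∈ W := by rw [Pts.pt_map]; exact hUle hp
    rw [evU_of_mem hpW, evU_of_mem hp, evHom_apply, evHom_apply]
    exact ev_map_appLE f p W U hUle hp c
  have hmem : ∀ c : Γ(Y, W), germHom 𝒰 U hUmem ((f.appLE W U hUle).hom c) ∈ bddVal 𝒰 :=
    fun c => mem_of_tendsto (Germ.coe_tendsto.mpr (hbase c))
  let γ : Γ(Y, W) →+* bddVal 𝒰 :=
    { toFun := fun c => ⟨germHom 𝒰 U hUmem ((f.appLE W U hUle).hom c), hmem c⟩
      map_one' := Subtype.ext (show germHom 𝒰 U hUmem ((f.appLE W U hUle).hom 1) = 1 by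
        rw [map_one, map_one])
      map_mul' := fun a b => Subtype.ext
        (show germHom 𝒰 U hUmem ((f.appLE W U hUle).hom (a * b)) =
          germHom 𝒰 U hUmem ((f.appLE W U hUle).hom a) *
            germHom 𝒰 U hUmem ((f.appLE W U hUle).hom b) by rw [map_mul, map_mul])
      map_zero' := Subtype.ext (show germHom 𝒰 U hUmem ((f.appLE W U hUle).hom 0) = 0 by
        rw [map_zero, map_zero])
      map_add' := fun a b => Subtype.ext
        (show germHom 𝒰 U hUmem ((f.appLE W U hUle).hom (a + b)) =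
          germHom 𝒰 U hUmem ((f.appLE W U hUle).hom a) +
            germHom 𝒰 U hUmem ((f.appLE W U hUle).hom b) by rw [map_add, map_add]) }
  have hγ : ∀ c, ((γ c : bddVal 𝒰) : Germ (𝒰 : Filter (Pts X)) ℂ) =
      germHom 𝒰 U hUmem ((f.appLE W U hUle).hom c) := fun c => rfl
  have hstγ : ∀ c, st (γ c) = y.ev W hyW c := fun c =>
    st_eq (Germ.coe_tendsto.mpr (hbase c))
  -- Step 2: the valuative square
  have hγα : f.appLE W U hUle ≫ CommRingCat.ofHom (germHom 𝒰 U hUmem) =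
      CommRingCat.ofHom γ ≫ CommRingCat.ofHom
        (algebraMap (bddVal 𝒰) (Germ (𝒰 : Filter (Pts X)) ℂ)) := by
    ext c; rfl
  have hsq : (Spec.map (CommRingCat.ofHom (germHom 𝒰 U hUmem)) ≫ hU.fromSpec) ≫ f =
      Spec.map (CommRingCat.ofHom (algebraMap (bddVal 𝒰) (Germ (𝒰 : Filter (Pts X)) ℂ))) ≫
        (Spec.map (CommRingCat.ofHom γ) ≫ hW.fromSpec) := by
    rw [Category.assoc, ← IsAffineOpen.SpecMap_appLE_fromSpec f hW hU hUle,
      ← Spec.map_comp_assoc, ← Spec.map_comp_assoc, hγα]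
  let S : ValuativeCommSq f :=
    { R := bddVal 𝒰
      K := Germ (𝒰 : Filter (Pts X)) ℂ
      i₁ := Spec.map (CommRingCat.ofHom (germHom 𝒰 U hUmem)) ≫ hU.fromSpec
      i₂ := Spec.map (CommRingCat.ofHom γ) ≫ hW.fromSpec
      commSq := ⟨hsq⟩ }
  obtain ⟨⟨l, hl₁, hl₂⟩⟩ := (hf S).exists_lift
  have hl₁' : Spec.map (CommRingCat.ofHom
      (algebraMap (bddVal 𝒰) (Germ (𝒰 : Filter (Pts X)) ℂ))) ≫ l =
      Spec.map (CommRingCat.ofHom (germHom 𝒰 U hUmem)) ≫ hU.fromSpec := hl₁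
  have hl₂' : l ≫ f = Spec.map (CommRingCat.ofHom γ) ≫ hW.fromSpec := hl₂
  -- Step 3: the limit point
  set x₀ : An.SC ⟶ X := Spec.map (CommRingCat.ofHom (st (𝒰 := 𝒰))) ≫ l with hx₀
  have hγst : CommRingCat.ofHom γ ≫ CommRingCat.ofHom (st (𝒰 := 𝒰)) =
      CommRingCat.ofHom (evHom y W hyW) := by
    ext c; exact hstγ c
  have hx₀f : x₀ ≫ f = y.1 := by
    rw [hx₀, Category.assoc, hl₂', ← Spec.map_comp_assoc, hγst]
    exact (val_eq y hW hyW).symm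
  have hx₀over : x₀ ≫ (X ↘ An.SC) = 𝟙 An.SC := by
    rw [← comp_over f An.SC, ← Category.assoc, hx₀f, y.2]
  set x : Pts X := ⟨x₀, hx₀over⟩ with hx
  refine ⟨x, Subtype.ext hx₀f, ?_⟩
  -- Step 4: convergence
  have hcl : (Spec.map (CommRingCat.ofHom (st (𝒰 := 𝒰)))) An.cpt =
      IsLocalRing.closedPoint (bddVal 𝒰) := by
    apply PrimeSpectrum.ext
    show Ideal.comap (st (𝒰 := 𝒰)) (An.cpt).asIdeal = IsLocalRing.maximalIdeal _
    rw [cpt_asIdeal, ← RingHom.ker_eq_comap_bot, ker_st]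
  have hxpt : x.pt = l (IsLocalRing.closedPoint (bddVal 𝒰)) := by
    show (Spec.map (CommRingCat.ofHom (st (𝒰 := 𝒰))) ≫ l) An.cpt = _
    rw [Scheme.Hom.comp_apply, hcl]
  obtain ⟨V, hV, hxV, -⟩ := exists_isAffineOpen_mem_and_subset (x := x.pt) (U := ⊤)
    (Opens.mem_top _)
  have hlV : l ⁻¹ᵁ V = ⊤ := by
    apply (IsLocalRing.closedPoint_mem_iff (R := bddVal 𝒰) (l ⁻¹ᵁ V)).mp
    show l (IsLocalRing.closedPoint (bddVal 𝒰)) ∈ V
    rw [← hxpt]; exact hxV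
  -- the generic point
  let η : Spec (CommRingCat.of (Germ (𝒰 : Filter (Pts X)) ℂ)) :=
    IsLocalRing.closedPoint (Germ (𝒰 : Filter (Pts X)) ℂ)
  set ξ : X := (Spec.map (CommRingCat.ofHom (germHom 𝒰 U hUmem)) ≫ hU.fromSpec) η with hξ
  have hξU' : ξ ∈ U := by
    have : ξ ∈ Set.range hU.fromSpec :=
      ⟨Spec.map (CommRingCat.ofHom (germHom 𝒰 U hUmem)) η, (Scheme.Hom.comp_apply _ _ _).symm⟩
    rwa [hU.range_fromSpec] at this
  have hξV : ξ ∈ V := by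
    rw [hξ, ← hl₁', Scheme.Hom.comp_apply]
    have : (Spec.map (CommRingCat.ofHom
      (algebraMap (bddVal 𝒰) (Germ (𝒰 : Filter (Pts X)) ℂ)))) η ∈ l ⁻¹ᵁ V := by
      rw [hlV]; trivial
    exact this
  obtain ⟨a, haV, hξa⟩ := hU.exists_basicOpen_le (V := V) ⟨ξ, hξV⟩ hξU'
  have hαa : germHom 𝒰 U hUmem a ≠ 0 := by
    intro h0
    have h3 : Spec.map (CommRingCat.ofHom (germHom 𝒰 U hUmem)) η ∈
        hU.fromSpec ⁻¹ᵁ X.basicOpen a := by
      show hU.fromSpec (Spec.map (CommRingCat.ofHom (germHom 𝒰 U hUmem)) η) ∈ X.basicOpen a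
      rw [← Scheme.Hom.comp_apply]; exact hξa
    rw [hU.fromSpec_preimage_basicOpen a] at h3
    apply h3
    show a ∈ Ideal.comap (germHom 𝒰 U hUmem) η.asIdeal
    rw [Ideal.mem_comap, h0]
    exact zero_mem _
  have hDmem : ∀ᶠ p in (𝒰 : Filter (Pts X)), p.pt ∈ X.basicOpen a := by
    have h4 := eventually_ne_of_coe_ne_zero (𝒰 := 𝒰) (g := fun p => evU U p a) hαa
    filter_upwards [h4, hUmem] with p hp hpU
    rw [evU_of_mem hpU, evHom_apply] at hp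
    exact (mem_basicOpen_iff p U hpU a).mpr hp
  have hVmem : ∀ᶠ p in (𝒰 : Filter (Pts X)), p.pt ∈ V := hDmem.mono fun p hp => haV hp
  have hi₁ : Spec.map (CommRingCat.ofHom (germHom 𝒰 U hUmem)) ≫ hU.fromSpec =
      Spec.map (CommRingCat.ofHom (germHom 𝒰 V hVmem)) ≫ hV.fromSpec := by
    rw [← SpecMap_germHom_eq 𝒰 hU (hU.basicOpen a) (X.basicOpen_le a) hDmem hUmem,
      SpecMap_germHom_eq 𝒰 hV (hU.basicOpen a) haV hDmem hVmem]
  -- factor `l` through `V`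
  set β : Γ(X, V) ⟶ CommRingCat.of (bddVal 𝒰) :=
    l.appLE V ⊤ hlV.ge ≫ (Scheme.ΓSpecIso (CommRingCat.of (bddVal 𝒰))).hom with hβ
  have hlfac : l = Spec.map β ≫ hV.fromSpec := eq_SpecMap_comp_fromSpec l hV hlV.ge
  have e1 : Spec.map (β ≫ CommRingCat.ofHom
      (algebraMap (bddVal 𝒰) (Germ (𝒰 : Filter (Pts X)) ℂ))) ≫ hV.fromSpec =
      Spec.map (CommRingCat.ofHom (germHom 𝒰 V hVmem)) ≫ hV.fromSpec := by
    rw [Spec.map_comp, Category.assoc, ← hlfac, hl₁', hi₁]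
  have e2 : β ≫ CommRingCat.ofHom
      (algebraMap (bddVal 𝒰) (Germ (𝒰 : Filter (Pts X)) ℂ)) =
      CommRingCat.ofHom (germHom 𝒰 V hVmem) :=
    Spec.map_injective ((cancel_mono hV.fromSpec).mp e1)
  have e3 : Spec.map (β ≫ CommRingCat.ofHom (st (𝒰 := 𝒰))) ≫ hV.fromSpec =
      Spec.map (CommRingCat.ofHom (evHom x V hxV)) ≫ hV.fromSpec := by
    rw [Spec.map_comp, Category.assoc, ← hlfac, ← val_eq x hV hxV]
  have e4 : β ≫ CommRingCat.ofHom (st (𝒰 := 𝒰)) = CommRingCat.ofHom (evHom x V hxV) :=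
    Spec.map_injective ((cancel_mono hV.fromSpec).mp e3)
  refine le_nhds_of_affine 𝒰 x V hV hxV hVmem ?_
  intro b
  have hB : ((β.hom b : bddVal 𝒰) : Germ (𝒰 : Filter (Pts X)) ℂ) =
      ((fun p => evU V p b : Pts X → ℂ) : Germ (𝒰 : Filter (Pts X)) ℂ) :=
    congrArg (fun φ => φ.hom b) e2
  have hA : st (β.hom b) = x.ev V hxV b := congrArg (fun φ => φ.hom b) e4
  have h5 := tendsto_st (β.hom b)
  rw [hB, hA] at h5
  exact Germ.coe_tendsto.mp h5

end Groth.Agent.Lib.Helper7.AnVal
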