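import Groth.Agent.Lib.Helper7.AnVal3
import Groth.Agent.Lib.Helper12.UnivClosedFT2

set_option autoImplicit false
set_option maxHeartbeats 800000

/-!
# Proper / finite morphisms and ℂ-points (S4202, S4203, S4205)
-/

open CategoryTheory AlgebraicGeometry Topology TopologicalSpace An Filter Limits

namespace Groth.Agent.Lib.Helper7.AnVal

open Groth.Agent.Lib.Helper7.AnTop Groth.Agent.Lib.Helper7.AnDense
  Groth.Agent.Lib.Helper7.AnProper Groth.Agent.Lib.Helper7

section basechange

variable {X Y S : Scheme.{0}} [X.Over An.SC] [Y.Over An.SC] [S.Over An.SC] (f : X ⟶ S) (g : Y ⟶ S)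
  [f.IsOver An.SC] [g.IsOver An.SC]

/-- Properness on ℂ-points is stable under base change. -/
theorem isProperMap_snd (h : IsProperMap (Pts.map f)) :
    IsProperMap (Pts.map (pullback.snd f g)) := by
  rw [isProperMap_iff_ultrafilter]
  refine ⟨Pts.continuous_map _, ?_⟩
  intro 𝒰 a ha
  have hcomm : ∀ z : Pts (pullback f g), Pts.map f (Pts.map (pullback.fst f g) z) =
      Pts.map g (Pts.map (pullback.snd f g) z) := Pts.map_pullback_condition f g
  have h1 : Tendsto (Pts.map f) (𝒰.map (Pts.map (pullback.fst f g))) (𝓝 (Pts.map g a)) := by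
    have h2 : Tendsto (fun z => Pts.map g (Pts.map (pullback.snd f g) z)) 𝒰
        (𝓝 (Pts.map g a)) := ((Pts.continuous_map g).tendsto a).comp ha
    rw [Ultrafilter.coe_map, Filter.tendsto_map'_iff]
    exact h2.congr (fun z => (hcomm z).symm)
  obtain ⟨x, hx, hxle⟩ := (isProperMap_iff_ultrafilter.mp h).2 h1
  obtain ⟨z, hz⟩ := (isHomeomorph_pullback f g).bijective.2 ⟨(x, a), hx⟩
  have hz1 : Pts.map (pullback.fst f g) z = x := congrArg (fun q => q.1.1) hz
  have hz2 : Pts.map (pullback.snd f g) z = a := congrArg (fun q => q.1.2) hz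
  refine ⟨z, hz2, ?_⟩
  rw [(isInducing_pullback f g).nhds_eq_comap, ← Filter.map_le_iff_le_comap, hz1, hz2,
    nhds_prod_eq]
  have hxle' : Tendsto (Pts.map (pullback.fst f g)) 𝒰 (𝓝 x) := by
    rw [Ultrafilter.coe_map] at hxle; exact hxle
  exact Filter.Tendsto.prodMk hxle' ha

end basechange

section closed

variable {X Y : Scheme.{0}} [X.Over An.SC] [LocallyOfFiniteType (X ↘ An.SC)] [Y.Over An.SC]

/-- The ℂ-points in the image of a locally closed set are the images of its ℂ-points. -/
theorem image_map_eq (f : X ⟶ Y) [f.IsOver An.SC] (Z : Set X) (hZ : IsLocallyClosed Z) :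
    Pts.map f '' (Pts.pt ⁻¹' Z) = Pts.pt ⁻¹' (f.base '' Z) := by
  have hf : LocallyOfFiniteType f := locallyOfFiniteType_of_isOver f
  ext y
  constructor
  · rintro ⟨x, hx, rfl⟩
    exact ⟨x.pt, hx, (Pts.pt_map f x).symm⟩
  · rintro ⟨x, hxZ, hx⟩
    obtain ⟨z, hz1, -⟩ := Scheme.Pullback.exists_preimage_pullback (f := f) (g := y.1) x An.cpt hx
    have : JacobsonSpace ↥(pullback f y.1) :=
      LocallyOfFiniteType.jacobsonSpace (pullback.snd f y.1)
    obtain ⟨w, hwZ, hw⟩ := nonempty_inter_closedPoints (X := ↥(pullback f y.1))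
      (Z := (pullback.fst f y.1).base ⁻¹' Z)
      ⟨z, by rw [Set.mem_preimage, hz1]; exact hxZ⟩
      (hZ.preimage (pullback.fst f y.1).continuous)
    let p : An.SC ⟶ pullback f y.1 := pointOfClosedPoint (pullback.snd f y.1) w hw
    have hp : p ≫ pullback.snd f y.1 = 𝟙 _ := pointOfClosedPoint_comp _ _ _
    have hxf : (p ≫ pullback.fst f y.1) ≫ f = y.1 := by
      rw [Category.assoc, pullback.condition, ← Category.assoc, hp, Category.id_comp]
    have hover : (p ≫ pullback.fst f y.1) ≫ (X ↘ An.SC) = 𝟙 An.SC := by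
      rw [← comp_over f, ← Category.assoc, hxf, y.2]
    refine ⟨⟨p ≫ pullback.fst f y.1, hover⟩, ?_, Subtype.ext hxf⟩
    show (p ≫ pullback.fst f y.1) An.cpt ∈ Z
    rw [Scheme.Hom.comp_apply]
    have hpw : p An.cpt = w := pointOfClosedPoint_apply _ _ _ _
    rw [hpw]
    exact hwZ

variable [LocallyOfFiniteType (Y ↘ An.SC)]

/-- A quasi-compact morphism that is closed on ℂ-points is closed. -/
theorem isClosedMap_of_pts (g : X ⟶ Y) [g.IsOver An.SC] [QuasiCompact g]
    (h : IsClosedMap (Pts.map g)) : IsClosedMap g.base := by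
  have hg : LocallyOfFiniteType g := locallyOfFiniteType_of_isOver g
  have : IsLocallyNoetherian Y := isLocallyNoetherian_of_lft Y
  have : IsLocallyNoetherian X := isLocallyNoetherian_of_lft X
  have hfp : LocallyOfFinitePresentation g := inferInstance
  intro Z hZ
  have hlcZ : IsLocallyConstructible Z :=
    isLocallyConstructible_of_isLocallyClosed hZ.isLocallyClosed
  have hlc : IsLocallyConstructible (g.base '' Z) := g.isLocallyConstructible_image hlcZ
  rw [isClosed_iff _ hlc, ← image_map_eq g Z hZ.isLocallyClosed]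
  exact h _ (hZ.preimage Pts.continuous_pt)

open AffineSpace in
/-- A quasi-compact morphism that is proper on ℂ-points is universally closed. -/
theorem universallyClosed_of_isProperMap (f : X ⟶ Y) [f.IsOver An.SC] [QuasiCompact f]
    (h : IsProperMap (Pts.map f)) : UniversallyClosed f := by
  apply Groth.Agent.Lib.Helper12.UnivClosedFT.universallyClosed_of_affineSpace
  intro n
  letI : (𝔸(ULift.{0} (Fin n); Y) : Scheme.{0}).Over An.SC :=
    ⟨(𝔸(ULift.{0} (Fin n); Y) ↘ Y) ≫ (Y ↘ An.SC)⟩
  haveI : (𝔸(ULift.{0} (Fin n); Y) ↘ Y).IsOver An.SC := ⟨rfl⟩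
  haveI : LocallyOfFiniteType (𝔸(ULift.{0} (Fin n); Y) ↘ An.SC) := by
    show LocallyOfFiniteType ((𝔸(ULift.{0} (Fin n); Y) ↘ Y) ≫ (Y ↘ An.SC))
    infer_instance
  haveI : LocallyOfFiniteType (pullback f (𝔸(ULift.{0} (Fin n); Y) ↘ Y) ↘ An.SC) := by
    show LocallyOfFiniteType (pullback.fst f (𝔸(ULift.{0} (Fin n); Y) ↘ Y) ≫ (X ↘ An.SC))
    infer_instance
  exact isClosedMap_of_pts (pullback.snd f (𝔸(ULift.{0} (Fin n); Y) ↘ Y))
    (isProperMap_snd f (𝔸(ULift.{0} (Fin n); Y) ↘ Y) h).isClosedMap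

/-- **S4202**. -/
theorem isProper_iff_pts (f : X ⟶ Y) [f.IsOver An.SC] [QuasiCompact f] :
    IsProper f ↔ IsProperMap (Pts.map f) ∧ IsSeparatedMap (Pts.map f) := by
  have hf : LocallyOfFiniteType f := locallyOfFiniteType_of_isOver f
  constructor
  · intro hp
    refine ⟨?_, (AnDense.isSeparated_iff f).mp inferInstance⟩
    rw [isProperMap_iff_ultrafilter]
    refine ⟨Pts.continuous_map f, fun 𝒰 y hy => ?_⟩
    have h2 : (ValuativeCriterion.Existence ⊓ @QuasiCompact) f := by
      rw [← UniversallyClosed.eq_valuativeCriterion]; infer_instance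
    obtain ⟨hex, -⟩ := h2
    exact exists_le_nhds_of_existence f hex 𝒰 y hy
  · rintro ⟨hp, hs⟩
    haveI : IsSeparated f := (AnDense.isSeparated_iff f).mpr hs
    haveI : UniversallyClosed f := universallyClosed_of_isProperMap f hp
    exact {}

end closed

section compact

variable {X : Scheme.{0}} [X.Over An.SC] [LocallyOfFiniteType (X ↘ An.SC)]

/-- **S4205**. -/
theorem isProper_iff_compactSpace [QuasiCompact (X ↘ An.SC)] :
    IsProper (X ↘ An.SC) ↔ CompactSpace (Pts X) ∧ T2Space (Pts X) := by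
  letI iSC : An.SC.Over An.SC := ⟨𝟙 An.SC⟩
  haveI : LocallyOfFiniteType (An.SC ↘ An.SC) := inferInstanceAs (LocallyOfFiniteType (𝟙 An.SC))
  haveI : (X ↘ An.SC).IsOver An.SC := ⟨Category.comp_id _⟩
  rw [isProper_iff_pts (X ↘ An.SC)]
  set y₀ : Pts An.SC := ⟨𝟙 An.SC, Category.comp_id _⟩ with hy₀
  have hconst : Pts.map (X ↘ An.SC) = fun _ => y₀ := by
    funext x
    apply Subtype.ext
    show x.1 ≫ (X ↘ An.SC) = 𝟙 An.SC
    exact x.2
  have huniq : ∀ y : Pts An.SC, y₀ = y := fun y =>
    Subtype.ext ((Category.comp_id y.1).symm.trans y.2).symm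
  rw [hconst, ← t2space_iff_isSeparatedMap y₀]
  refine and_congr_left' ?_
  constructor
  · intro hp
    have := hp.isCompact_preimage (isCompact_singleton (x := y₀))
    rw [Set.preimage_const_of_mem (Set.mem_singleton _)] at this
    exact isCompact_univ_iff.mp this
  · intro hc
    rw [isProperMap_iff_ultrafilter]
    refine ⟨continuous_const, fun 𝒰 y _ => ?_⟩
    obtain ⟨x, -, hx⟩ := isCompact_univ.ultrafilter_le_nhds' 𝒰 Filter.univ_mem
    exact ⟨x, huniq y, hx⟩

end compact

section finite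

/-- In a Jacobson space a closed set with finitely many closed points is finite. -/
theorem finite_of_finite_inter_closedPoints {T : Type*} [TopologicalSpace T] [JacobsonSpace T]
    {Z : Set T} (hZ : IsClosed Z) (hfin : (Z ∩ closedPoints T).Finite) : Z.Finite := by
  have hcl : IsClosed (Z ∩ closedPoints T) := by
    have : Z ∩ closedPoints T = ⋃ x ∈ (Z ∩ closedPoints T), {x} :=
      (Set.biUnion_of_singleton _).symm
    rw [this]
    exact hfin.isClosed_biUnion (fun x hx => hx.2)
  have h := closure_inter_closedPoints hZ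
  rw [hcl.closure_eq] at h
  rw [← h]
  exact hfin

variable {X Y : Scheme.{0}} [X.Over An.SC] [LocallyOfFiniteType (X ↘ An.SC)] [Y.Over An.SC]
  [LocallyOfFiniteType (Y ↘ An.SC)]

set_option backward.isDefEq.respectTransparency.types false in
/-- **S4203**. -/
theorem isFinite_iff_pts (f : X ⟶ Y) [f.IsOver An.SC] [QuasiCompact f] :
    IsFinite f ↔ IsProperMap (Pts.map f) ∧ IsSeparatedMap (Pts.map f) ∧
      ∀ y : Pts Y, (Pts.map f ⁻¹' {y}).Finite := by
  have hf : LocallyOfFiniteType f := locallyOfFiniteType_of_isOver f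
  constructor
  · intro hfin
    refine ⟨isProperMap_of_isFinite f, (AnDense.isSeparated_iff f).mp inferInstance, fun y => ?_⟩
    refine Set.Finite.subset ((f.finite_preimage_singleton y.pt).preimage
      (pt_injective (X := X)).injOn) ?_
    intro p hp
    show f.base p.pt ∈ ({y.pt} : Set Y)
    rw [Set.mem_singleton_iff, ← Pts.pt_map, hp]
  · rintro ⟨hp, hs, hfib⟩
    haveI : IsProper f := (isProper_iff_pts f).mpr ⟨hp, hs⟩
    have := jacobsonSpace_of_lft X
    have := jacobsonSpace_of_lft Y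
    have hloc : ∀ y : Y, ∃ V : Y.Opens, y ∈ V ∧ IsFinite (f ∣_ V) := by
      by_contra hne
      push Not at hne
      obtain ⟨y, hy⟩ := hne
      let T : Set Y := ⋃ V : {V : Y.Opens // IsFinite (f ∣_ V)}, (V.1 : Set Y)
      have hT : IsOpen T := isOpen_iUnion fun V => V.1.2
      have hyT : y ∈ Tᶜ := by
        intro hyT
        obtain ⟨V, hyV⟩ := Set.mem_iUnion.mp hyT
        exact hy V.1 hyV V.2
      obtain ⟨w, hwT, hw⟩ := nonempty_inter_closedPoints ⟨y, hyT⟩ hT.isClosed_compl.isLocallyClosed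
      obtain ⟨y', rfl⟩ := exists_pt_eq Y hw
      have hfw : (f.base ⁻¹' {y'.pt}).Finite := by
        apply finite_of_finite_inter_closedPoints (hw.preimage f.continuous)
        refine Set.Finite.subset ((hfib y').image Pts.pt) ?_
        rintro x ⟨hx1, hx2⟩
        obtain ⟨p, rfl⟩ := exists_pt_eq X hx2
        refine ⟨p, ?_, rfl⟩
        apply pt_injective
        rw [Pts.pt_map]
        exact hx1
      obtain ⟨V, hV1, hV2⟩ := exists_isFinite_morphismRestrict_of_finite_preimage_singleton f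
        y'.pt hfw
      exact hwT (Set.mem_iUnion.mpr ⟨⟨V, hV2⟩, hV1⟩)
    choose V hV1 hV2 using hloc
    exact IsZariskiLocalAtTarget.of_iSup_eq_top (P := @IsFinite) V
      (top_le_iff.mp fun y _ => Opens.mem_iSup.mpr ⟨y, hV1 y⟩) hV2

end finite

end Groth.Agent.Lib.Helper7.AnVal
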