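import Mathlib
import Groth.Agent.Lib.Helper4.Rees
import Groth.Agent.Lib.Helper4.RegCM
import Groth.Agent.Lib.Helper4.CM
import Groth.Agent.Lib.Helper9.RegFlat
import Groth.Agent.Lib.Helper7.CohenPres
import Groth.Agent.Lib.Helper7.CohenPres2
import Groth.Agent.S0342

/-!
# Factorization of local homomorphisms of Artinian local rings (helper7)

* `gorenstein_iff_of_surjective`: for a surjection `A → Q` of Noetherian local rings whose kernel is
  generated by a regular element, `A` is Gorenstein iff `Q` is (general form of helper4's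
  `gorenstein_quotient_iff`).
* `gorenstein_of_ringEquiv`: the Gorenstein property is invariant under ring isomorphisms.
* `sop_isWeaklyRegular`: in a Cohen–Macaulay local ring a system of parameters is a regular sequence.
* `flat_step`, `gor_step`: one step of the induction (quotient by an element regular on the fibre).
* `main_abs`, `exists_factorization`: a local homomorphism `R → S` of Artinian local rings factors as
  `R → R' → S` with `R'` Artinian local, flat over `R` with Gorenstein fibre, `R' → S` surjective.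
-/

set_option autoImplicit false
set_option linter.style.haveILetI false
set_option linter.unusedSectionVars false
set_option linter.unusedVariables false
set_option maxHeartbeats 400000

open CategoryTheory Abelian IsLocalRing Pointwise

universe u

namespace Groth.Agent.Lib.Helper7.ArtGorFactor

open Groth.Agent.Lib.Helper4 Groth.Agent.Lib.Helper4.LC Groth.Agent.Lib.Helper4.QuotCanon
  Groth.Agent.Lib.Helper4.Rees

set_option maxHeartbeats 800000 in
/-- **Gorenstein iff for a surjection with kernel generated by a regular element.** -/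
theorem gorenstein_iff_of_surjective {A Q : Type u} [CommRing A] [CommRing Q] [IsLocalRing A]
    [IsNoetherianRing A] [IsLocalRing Q] [Algebra A Q]
    (hsurj : Function.Surjective (algebraMap A Q)) (f : A)
    (hker : RingHom.ker (algebraMap A Q) = Ideal.span {f}) (hreg : IsSMulRegular A f) :
    LocCoh.IsGorensteinLocalRing A ↔ LocCoh.IsGorensteinLocalRing Q := by
  classical
  haveI : IsNoetherianRing Q := isNoetherianRing_of_surjective A Q (algebraMap A Q) hsurj
  haveI : IsLocalHom (algebraMap A Q) := IsLocalHom.of_surjective _ hsurj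
  have hbij : Function.Bijective (residueMapₗ (B := A) (R := Q)) := by
    constructor
    · exact (ResidueField.map (algebraMap A Q)).injective
    · intro y
      obtain ⟨q, rfl⟩ := IsLocalRing.residue_surjective y
      obtain ⟨a, rfl⟩ := hsurj q
      exact ⟨IsLocalRing.residue A a, rfl⟩
  let eκ : ModuleCat.of A (ResidueField A) ≅ ModuleCat.of A (ResidueField Q) :=
    (LinearEquiv.ofBijective _ hbij).toModuleIso
  have key : ∀ i : ℕ,
      Subsingleton (Ext.{u} (ModuleCat.of Q (ResidueField Q)) (ModuleCat.of Q Q) i) ↔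
      Subsingleton (Ext.{u} (ModuleCat.of A (ResidueField A)) (ModuleCat.of A A) (i + 1)) := by
    intro i
    have h1 := rees hsurj f hker hreg i (ResidueField Q)
    exact h1.trans ⟨fun h => subsingleton_ext_of_iso_left eκ.symm (i + 1) h,
      fun h => subsingleton_ext_of_iso_left eκ (i + 1) h⟩
  rw [Groth.Agent.S0340.result A, Groth.Agent.S0340.result Q]
  constructor
  · rintro ⟨n, hn⟩
    exact ⟨n, fun i hi => (key i).2 (hn (i + 1) (by omega))⟩
  · rintro ⟨n, hn⟩
    refine ⟨n + 1, fun i hi => ?_⟩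
    obtain ⟨j, rfl⟩ : ∃ j, i = j + 1 := ⟨i - 1, by omega⟩
    exact (key j).1 (hn j (by omega))

/-- **The Gorenstein property is invariant under ring isomorphisms** (via `A⟦X⟧ → A ≃ B`). -/
theorem gorenstein_of_ringEquiv {A B : Type u} [CommRing A] [CommRing B] (e : A ≃+* B)
    (hA : LocCoh.IsGorensteinLocalRing A) : LocCoh.IsGorensteinLocalRing B := by
  haveI := hA
  haveI : IsLocalRing B := e.isLocalRing
  have hXreg : IsSMulRegular (PowerSeries A) (PowerSeries.X : PowerSeries A) := by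
    intro a b hab
    exact PowerSeries.X_mul_cancel hab
  have hkerX : ∀ g : PowerSeries A, PowerSeries.constantCoeff g = 0 ↔
      g ∈ Ideal.span {(PowerSeries.X : PowerSeries A)} := by
    intro g
    rw [Ideal.mem_span_singleton, PowerSeries.X_dvd_iff]
  have h1 : LocCoh.IsGorensteinLocalRing (PowerSeries A) := by
    letI : Algebra (PowerSeries A) A := (PowerSeries.constantCoeff (R := A)).toAlgebra
    refine (gorenstein_iff_of_surjective (A := PowerSeries A) (Q := A)
      PowerSeries.constantCoeff_surj PowerSeries.X ?_ hXreg).mpr hA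
    ext g
    rw [RingHom.mem_ker]
    exact hkerX g
  letI : Algebra (PowerSeries A) B :=
    (e.toRingHom.comp (PowerSeries.constantCoeff (R := A))).toAlgebra
  refine (gorenstein_iff_of_surjective (A := PowerSeries A) (Q := B) ?_ PowerSeries.X ?_ hXreg).mp h1
  · exact e.surjective.comp PowerSeries.constantCoeff_surj
  · ext g
    rw [RingHom.mem_ker, ← hkerX g]
    show e (PowerSeries.constantCoeff g) = 0 ↔ _
    exact map_eq_zero_iff e e.injective

/-- A quotient of a local ring by an ideal which is primary to the maximal ideal has dimension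
`≤ 0`. -/
theorem krullDimLE_zero_quot {A : Type*} [CommRing A] [IsLocalRing A] (L : Ideal A)
    (h : ∀ 𝔮 : Ideal A, 𝔮.IsPrime → L ≤ 𝔮 → maximalIdeal A ≤ 𝔮) : Ring.KrullDimLE 0 (A ⧸ L) := by
  apply Ring.KrullDimLE.mk₀
  intro 𝔭 hp
  haveI := hp
  have hq : (𝔭.comap (Ideal.Quotient.mk L)).IsPrime := Ideal.comap_isPrime (Ideal.Quotient.mk L) 𝔭
  have hle : L ≤ 𝔭.comap (Ideal.Quotient.mk L) := by
    intro x hx
    rw [Ideal.mem_comap, Ideal.Quotient.eq_zero_iff_mem.mpr hx]
    exact 𝔭.zero_mem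
  have h1 := h _ hq hle
  have h2 : maximalIdeal A = 𝔭.comap (Ideal.Quotient.mk L) :=
    (IsLocalRing.maximalIdeal.isMaximal A).eq_of_le hq.ne_top h1
  have h3 : 𝔭 = (maximalIdeal A).map (Ideal.Quotient.mk L) := by
    rw [h2, Ideal.map_comap_of_surjective _ Ideal.Quotient.mk_surjective]
  rcases Ideal.map_eq_top_or_isMaximal_of_surjective (Ideal.Quotient.mk L)
    Ideal.Quotient.mk_surjective (IsLocalRing.maximalIdeal.isMaximal A) with h4 | h4
  · exact absurd (h3.trans h4) hp.ne_top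
  · rw [h3]
    exact h4

/-- In a Cohen–Macaulay local ring, a system of parameters is a (weakly) regular sequence. -/
theorem sop_isWeaklyRegular {F : Type u} [CommRing F] [IsLocalRing F] [IsNoetherianRing F]
    (hCM : LocCoh.IsCohenMacaulayModule F F) (r : ℕ) (hr : ringKrullDim F = r) (ws : List F)
    (hlen : ws.length = r) (hmem : ∀ w ∈ ws, w ∈ maximalIdeal F)
    (hprim : ∀ 𝔮 : Ideal F, 𝔮.IsPrime → Ideal.ofList ws ≤ 𝔮 → maximalIdeal F ≤ 𝔮) :
    RingTheory.Sequence.IsWeaklyRegular F ws := by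
  apply cm_isWeaklyRegular_of_supportDim hCM ws hmem
  have hKtop : Ideal.ofList ws ≠ ⊤ := by
    intro h
    have h1 : Ideal.ofList ws ≤ maximalIdeal F := Ideal.span_le.mpr (fun w hw => hmem w hw)
    exact (IsLocalRing.maximalIdeal.isMaximal F).ne_top (top_le_iff.mp (h ▸ h1))
  haveI : Nontrivial (F ⧸ Ideal.ofList ws) := Ideal.Quotient.nontrivial_iff.mpr hKtop
  have hdim0 : ringKrullDim (F ⧸ Ideal.ofList ws) = 0 :=
    ringKrullDimZero_iff_ringKrullDim_eq_zero.mp (krullDimLE_zero_quot _ hprim)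
  have hsm : (Ideal.ofList ws • ⊤ : Submodule F F) = Ideal.ofList ws := Ideal.mul_top _
  rw [hsm, Module.supportDim_quotient_eq_ringKrullDim, hdim0,
    Module.supportDim_self_eq_ringKrullDim, hr, hlen, zero_add]

/-- membership in `J • ⊤ ⊆ Q ⧸ I`. -/
theorem mem_smul_top_quot {Q : Type*} [CommRing Q] (J I : Ideal Q) (x : Q) :
    Ideal.Quotient.mk I x ∈ (J • ⊤ : Submodule Q (Q ⧸ I)) ↔ x ∈ J ⊔ I := by
  rw [Ideal.smul_top_eq_map, Submodule.restrictScalars_mem]
  constructor
  · intro h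
    obtain ⟨a, ha, hax⟩ := (Ideal.mem_map_iff_of_surjective (algebraMap Q (Q ⧸ I))
      Ideal.Quotient.mk_surjective).mp h
    have hax' : Ideal.Quotient.mk I a = Ideal.Quotient.mk I x := hax
    have h1 : a - x ∈ I := Ideal.Quotient.eq.mp hax'
    have h2 : x = a - (a - x) := by ring
    rw [h2]
    exact Ideal.sub_mem _ (Ideal.mem_sup_left ha) (Ideal.mem_sup_right h1)
  · intro h
    obtain ⟨a, ha, b, hb, rfl⟩ := Submodule.mem_sup.mp h
    have h3 : Ideal.Quotient.mk I (a + b) = algebraMap Q (Q ⧸ I) a := by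
      rw [map_add, Ideal.Quotient.eq_zero_iff_mem.mpr hb, add_zero]
      rfl
    rw [h3]
    exact Ideal.mem_map_of_mem _ ha

/-- **Flat step**: quotienting by an element regular on the fibre preserves flatness. -/
theorem flat_step {P Q : Type u} [CommRing P] [CommRing Q] [IsLocalRing P] [IsLocalRing Q]
    [IsNoetherianRing P] [IsNoetherianRing Q] [Algebra P Q] [IsLocalHom (algebraMap P Q)]
    (I : Ideal Q) (hfl : Module.Flat P (Q ⧸ I)) (z : Q)
    (hz : ∀ x : Q, z * x ∈ (maximalIdeal P).map (algebraMap P Q) ⊔ I →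
      x ∈ (maximalIdeal P).map (algebraMap P Q) ⊔ I) :
    Module.Flat P (Q ⧸ (I ⊔ Ideal.span {z})) := by
  haveI := hfl
  have h1 : IsSMulRegular ((Q ⧸ I) ⧸ ((maximalIdeal P).map (algebraMap P Q) •
      (⊤ : Submodule Q (Q ⧸ I)))) z := by
    rw [isSMulRegular_iff_right_eq_zero_of_smul]
    intro ξ hξ
    obtain ⟨η, rfl⟩ := Submodule.Quotient.mk_surjective _ ξ
    obtain ⟨x, rfl⟩ := Ideal.Quotient.mk_surjective η
    rw [← Submodule.Quotient.mk_smul, Submodule.Quotient.mk_eq_zero] at hξ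
    rw [Submodule.Quotient.mk_eq_zero]
    have h2 : z • (Ideal.Quotient.mk I x) = Ideal.Quotient.mk I (z * x) := rfl
    rw [h2, mem_smul_top_quot] at hξ
    rw [mem_smul_top_quot]
    exact hz x hξ
  obtain ⟨-, hflat⟩ := Groth.Agent.Lib.Helper9.RegFlat.regular_and_flat_quot (A := P) (B := Q)
    (Q ⧸ I) z h1
  have hsub : (z • (⊤ : Submodule Q (Q ⧸ I))) =
      Submodule.map (Submodule.mkQ I) (Ideal.span {z} : Submodule Q Q) := by
    ext ξ
    constructor
    · intro h
      obtain ⟨η, -, rfl⟩ := (Submodule.mem_smul_pointwise_iff_exists _ _ _).mp h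
      obtain ⟨w, rfl⟩ := Ideal.Quotient.mk_surjective η
      exact ⟨z * w, Ideal.mul_mem_right w _ (Ideal.mem_span_singleton_self z), rfl⟩
    · rintro ⟨v, hv, rfl⟩
      obtain ⟨w, rfl⟩ := Ideal.mem_span_singleton'.mp hv
      refine (Submodule.mem_smul_pointwise_iff_exists _ _ _).mpr
        ⟨Ideal.Quotient.mk I w, Submodule.mem_top, ?_⟩
      show z • Ideal.Quotient.mk I w = Ideal.Quotient.mk I (w * z)
      rw [mul_comm]
      rfl
  let e1 : QuotSMulTop z (Q ⧸ I) ≃ₗ[Q]
      ((Q ⧸ I) ⧸ Submodule.map (Submodule.mkQ I) (Ideal.span {z} : Submodule Q Q)) :=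
    Submodule.quotEquivOfEq _ _ hsub
  let e2 := Submodule.quotientQuotientEquivQuotientSup (I : Submodule Q Q)
    (Ideal.span {z} : Submodule Q Q)
  exact Module.Flat.of_linearEquiv ((e1.trans e2).symm.restrictScalars P)

/-- **Gorenstein step**. -/
theorem gor_step {Q : Type u} [CommRing Q] [IsLocalRing Q] [IsNoetherianRing Q] (J I : Ideal Q)
    (z : Q) (hzm : z ∈ maximalIdeal Q) (hJm : J ≤ maximalIdeal Q)
    (hz : ∀ x : Q, z * x ∈ J ⊔ I → x ∈ J ⊔ I)
    (hG : LocCoh.IsGorensteinLocalRing (Q ⧸ (J ⊔ I))) :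
    LocCoh.IsGorensteinLocalRing (Q ⧸ (J ⊔ (I ⊔ Ideal.span {z}))) := by
  haveI := hG
  have hL1 : J ⊔ I ≤ maximalIdeal Q := by
    apply IsLocalRing.le_maximalIdeal
    have hnt : Nontrivial (Q ⧸ (J ⊔ I)) := inferInstance
    exact Ideal.Quotient.nontrivial_iff.mp hnt
  have hle : J ⊔ I ≤ J ⊔ (I ⊔ Ideal.span {z}) :=
    sup_le le_sup_left (le_sup_left.trans le_sup_right)
  have hL2 : J ⊔ (I ⊔ Ideal.span {z}) ≤ maximalIdeal Q :=
    sup_le hJm (sup_le (le_sup_right.trans hL1) ((Ideal.span_singleton_le_iff_mem _).mpr hzm))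
  have hL2top : J ⊔ (I ⊔ Ideal.span {z}) ≠ ⊤ := fun h =>
    (IsLocalRing.maximalIdeal.isMaximal Q).ne_top (top_le_iff.mp (h ▸ hL2))
  haveI : Nontrivial (Q ⧸ (J ⊔ (I ⊔ Ideal.span {z}))) :=
    Ideal.Quotient.nontrivial_iff.mpr hL2top
  haveI : IsLocalRing (Q ⧸ (J ⊔ (I ⊔ Ideal.span {z}))) :=
    IsLocalRing.of_surjective' (Ideal.Quotient.mk _) Ideal.Quotient.mk_surjective
  letI : Algebra (Q ⧸ (J ⊔ I)) (Q ⧸ (J ⊔ (I ⊔ Ideal.span {z}))) :=
    (Ideal.Quotient.factor hle).toAlgebra
  have hsurj : Function.Surjective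
      (algebraMap (Q ⧸ (J ⊔ I)) (Q ⧸ (J ⊔ (I ⊔ Ideal.span {z})))) :=
    Ideal.Quotient.factor_surjective hle
  have hker : RingHom.ker (algebraMap (Q ⧸ (J ⊔ I)) (Q ⧸ (J ⊔ (I ⊔ Ideal.span {z})))) =
      Ideal.span {Ideal.Quotient.mk (J ⊔ I) z} := by
    show RingHom.ker (Ideal.Quotient.factor hle) = _
    rw [Ideal.Quotient.factor_ker hle, ← sup_assoc, Ideal.map_sup, Ideal.map_quotient_self,
      bot_sup_eq, Ideal.map_span, Set.image_singleton]
  have hreg : IsSMulRegular (Q ⧸ (J ⊔ I)) (Ideal.Quotient.mk (J ⊔ I) z) := by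
    rw [isSMulRegular_iff_right_eq_zero_of_smul]
    intro a ha
    obtain ⟨x, rfl⟩ := Ideal.Quotient.mk_surjective a
    rw [smul_eq_mul, ← map_mul, Ideal.Quotient.eq_zero_iff_mem] at ha
    exact Ideal.Quotient.eq_zero_iff_mem.mpr (hz x ha)
  exact (gorenstein_iff_of_surjective hsurj _ hker hreg).mp hG

/-- From weak regularity on the fibre `Q ⧸ J` to an elementwise statement in `Q`. -/
theorem regmod_of_weaklyRegular {Q : Type u} [CommRing Q] (J : Ideal Q) (zs : List Q)
    (h : RingTheory.Sequence.IsWeaklyRegular (Q ⧸ J) (zs.map (Ideal.Quotient.mk J)))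
    (i : ℕ) (hi : i < zs.length) (x : Q)
    (hx : zs[i] * x ∈ J ⊔ Ideal.ofList (zs.take i)) : x ∈ J ⊔ Ideal.ofList (zs.take i) := by
  have hi' : i < (zs.map (Ideal.Quotient.mk J)).length := by
    rw [List.length_map]
    exact hi
  have hreg := ((RingTheory.Sequence.isWeaklyRegular_iff (Q ⧸ J) _).mp h) i hi'
  have hK : (Ideal.ofList ((zs.map (Ideal.Quotient.mk J)).take i) • ⊤ :
      Submodule (Q ⧸ J) (Q ⧸ J)) = (Ideal.ofList (zs.take i)).map (Ideal.Quotient.mk J) := by
    rw [← List.map_take, ← Ideal.map_ofList]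
    exact Ideal.mul_top _
  have hmemK : ∀ w : Q, Ideal.Quotient.mk J w ∈
      (Ideal.ofList (zs.take i)).map (Ideal.Quotient.mk J) ↔
        w ∈ J ⊔ Ideal.ofList (zs.take i) := by
    intro w
    constructor
    · intro hw
      obtain ⟨b, hb, hbw⟩ := (Ideal.mem_map_iff_of_surjective _
        Ideal.Quotient.mk_surjective).mp hw
      have h1 : b - w ∈ J := Ideal.Quotient.eq.mp hbw
      have h2 : w = b - (b - w) := by ring
      rw [h2]
      exact Ideal.sub_mem _ (Ideal.mem_sup_right hb) (Ideal.mem_sup_left h1)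
    · intro hw
      obtain ⟨a, ha, b, hb, rfl⟩ := Submodule.mem_sup.mp hw
      rw [map_add, Ideal.Quotient.eq_zero_iff_mem.mpr ha, zero_add]
      exact Ideal.mem_map_of_mem _ hb
  have hgi : (zs.map (Ideal.Quotient.mk J))[i] = Ideal.Quotient.mk J zs[i] := by simp
  rw [hgi] at hreg
  have h0 : (Submodule.Quotient.mk (Ideal.Quotient.mk J x) :
      (Q ⧸ J) ⧸ (Ideal.ofList ((zs.map (Ideal.Quotient.mk J)).take i) • ⊤ :
        Submodule (Q ⧸ J) (Q ⧸ J))) = 0 := by
    apply isSMulRegular_iff_right_eq_zero_of_smul.mp hreg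
    rw [← Submodule.Quotient.mk_smul, Submodule.Quotient.mk_eq_zero, hK, smul_eq_mul, ← map_mul,
      hmemK]
    exact hx
  rw [Submodule.Quotient.mk_eq_zero, hK, hmemK] at h0
  exact h0

theorem main_abs {P Q R S : Type u} [CommRing P] [CommRing Q] [CommRing R] [CommRing S]
    [IsLocalRing P] [IsNoetherianRing P] [IsLocalRing Q] [IsNoetherianRing Q]
    [IsArtinianRing R] [IsLocalRing R] [IsArtinianRing S] [IsLocalRing S]
    [Algebra R S] [IsLocalHom (algebraMap R S)] [Algebra P Q] [Module.Flat P Q]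
    (ρ : P →+* R) (σ : Q →+* S) (hρ : Function.Surjective ρ) (hσ : Function.Surjective σ)
    (hcomm : σ.comp (algebraMap P Q) = (algebraMap R S).comp ρ)
    (hreg : IsRegularRing (Q ⧸ (maximalIdeal P).map (algebraMap P Q))) :
    ∃ (R' : Type u) (_ : CommRing R') (_ : Algebra R R'), IsArtinianRing R' ∧ IsLocalRing R' ∧
      Module.Flat R R' ∧ IsLocalHom (algebraMap R R') ∧
      LocCoh.IsGorensteinLocalRing (R' ⧸ (maximalIdeal R).map (algebraMap R R')) ∧
      ∃ g : R' →ₐ[R] S, Function.Surjective g := by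
  classical
  haveI hρloc : IsLocalHom ρ := IsLocalHom.of_surjective ρ hρ
  haveI hσloc : IsLocalHom σ := IsLocalHom.of_surjective σ hσ
  have hτloc : IsLocalHom (algebraMap P Q) := by
    constructor
    intro f hf
    have h1 : IsUnit (σ (algebraMap P Q f)) := hf.map σ
    have h2 : σ (algebraMap P Q f) = algebraMap R S (ρ f) := RingHom.congr_fun hcomm f
    rw [h2] at h1
    have h3 : IsUnit (ρ f) := isUnit_of_map_unit (algebraMap R S) _ h1
    exact isUnit_of_map_unit ρ f h3
  haveI := hτloc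
  obtain ⟨J, hJ⟩ : ∃ J : Ideal Q, J = (maximalIdeal P).map (algebraMap P Q) := ⟨_, rfl⟩
  have hJle : J ≤ maximalIdeal Q := by
    rw [hJ]
    exact ((IsLocalRing.local_hom_TFAE (algebraMap P Q)).out 0 2).mp hτloc
  have hJtop : J ≠ ⊤ := fun h =>
    (IsLocalRing.maximalIdeal.isMaximal Q).ne_top (top_le_iff.mp (h ▸ hJle))
  haveI : Nontrivial (Q ⧸ J) := Ideal.Quotient.nontrivial_iff.mpr hJtop
  haveI hFloc : IsLocalRing (Q ⧸ J) :=
    IsLocalRing.of_surjective' (Ideal.Quotient.mk J) Ideal.Quotient.mk_surjective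
  haveI hFreg : IsRegularLocalRing (Q ⧸ J) := by
    haveI : IsRegularRing (Q ⧸ J) := by
      rw [hJ]
      exact hreg
    exact IsRegularLocalRing.of_isRegularRing_of_isLocalRing (Q ⧸ J)
  obtain ⟨r, hr⟩ := Groth.Agent.Lib.Helper4.RegCM.exists_nat_ringKrullDim (Q ⧸ J)
  obtain ⟨t, htspan, -⟩ := Groth.Agent.Lib.Helper4.RegCM.exists_regular_system (Q ⧸ J) r hr
  have hy : ∀ i, ∃ q : Q, Ideal.Quotient.mk J q = t i := fun i =>
    Ideal.Quotient.mk_surjective (t i)
  choose y hy using hy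
  obtain ⟨N, hN⟩ := (isArtinianRing_iff_isNilpotent_maximalIdeal S).mp inferInstance
  obtain ⟨k, hk⟩ := (isArtinianRing_iff_isNilpotent_maximalIdeal R).mp inferInstance
  have hcomapF : (maximalIdeal (Q ⧸ J)).comap (Ideal.Quotient.mk J) = maximalIdeal Q :=
    IsLocalRing.eq_maximalIdeal
      (Ideal.comap_isMaximal_of_surjective _ Ideal.Quotient.mk_surjective)
  have htm : ∀ i, t i ∈ maximalIdeal (Q ⧸ J) := fun i => by
    rw [← htspan]
    exact Ideal.subset_span ⟨i, rfl⟩
  have hym : ∀ i, y i ∈ maximalIdeal Q := fun i => by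
    rw [← hcomapF, Ideal.mem_comap, hy i]
    exact htm i
  have hmQ : maximalIdeal Q ≤ J ⊔ Ideal.span (Set.range y) := by
    intro q hq
    rw [← hcomapF, Ideal.mem_comap, ← htspan] at hq
    have hty : Set.range t = (Ideal.Quotient.mk J) '' (Set.range y) := by
      rw [← Set.range_comp]
      exact congrArg Set.range (funext (fun i => (hy i).symm))
    rw [hty, ← Ideal.map_span] at hq
    obtain ⟨w, hw, hwq⟩ := (Ideal.mem_map_iff_of_surjective _
      Ideal.Quotient.mk_surjective).mp hq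
    have h1 : w - q ∈ J := Ideal.Quotient.eq.mp hwq
    have h2 : q = w - (w - q) := by ring
    rw [h2]
    exact Ideal.sub_mem _ (Ideal.mem_sup_right hw) (Ideal.mem_sup_left h1)
  -- the sequence
  obtain ⟨zs, hzs⟩ : ∃ zs : List Q, zs = List.ofFn (fun i : Fin r => y i ^ (N + 1)) := ⟨_, rfl⟩
  have hzlen : zs.length = r := by rw [hzs, List.length_ofFn]
  have hzpow : ∀ i, y i ^ (N + 1) ∈ zs := fun i => by
    rw [hzs, List.mem_ofFn]
    exact ⟨i, rfl⟩
  have hzform : ∀ z ∈ zs, ∃ i, y i ^ (N + 1) = z := fun z hz => by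
    rw [hzs, List.mem_ofFn] at hz
    exact hz
  have hzmem : ∀ z ∈ zs, z ∈ maximalIdeal Q := fun z hz => by
    obtain ⟨i, rfl⟩ := hzform z hz
    exact Ideal.pow_mem_of_mem _ (hym i) (N + 1) (Nat.succ_pos N)
  have hzσ : ∀ z ∈ zs, σ z = 0 := fun z hz => by
    obtain ⟨i, rfl⟩ := hzform z hz
    have h1 : σ (y i) ∈ maximalIdeal S := by
      rw [IsLocalRing.mem_maximalIdeal, mem_nonunits_iff]
      intro hu
      have h2 := isUnit_of_map_unit σ _ hu
      exact (mem_nonunits_iff.mp ((IsLocalRing.mem_maximalIdeal _).mp (hym i))) h2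
    have h3 : σ (y i) ^ N ∈ maximalIdeal S ^ N := Ideal.pow_mem_pow h1 N
    rw [hN, Ideal.zero_eq_bot, Ideal.mem_bot] at h3
    rw [map_pow, pow_succ, h3, zero_mul]
  -- weak regularity on the fibre
  have hwmem : ∀ w ∈ zs.map (Ideal.Quotient.mk J), w ∈ maximalIdeal (Q ⧸ J) := by
    intro w hw
    obtain ⟨z, hz, rfl⟩ := List.mem_map.mp hw
    have := hzmem z hz
    rw [← hcomapF, Ideal.mem_comap] at this
    exact this
  have hwprim : ∀ 𝔮 : Ideal (Q ⧸ J), 𝔮.IsPrime →
      Ideal.ofList (zs.map (Ideal.Quotient.mk J)) ≤ 𝔮 → maximalIdeal (Q ⧸ J) ≤ 𝔮 := by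
    intro 𝔮 hq hle
    rw [← htspan, Ideal.span_le]
    rintro _ ⟨i, rfl⟩
    apply hq.mem_of_pow_mem (N + 1)
    apply hle
    apply Ideal.subset_span
    show t i ^ (N + 1) ∈ zs.map (Ideal.Quotient.mk J)
    rw [← hy i, ← map_pow]
    exact List.mem_map.mpr ⟨_, hzpow i, rfl⟩
  have hwreg : RingTheory.Sequence.IsWeaklyRegular (Q ⧸ J) (zs.map (Ideal.Quotient.mk J)) :=
    sop_isWeaklyRegular (Groth.Agent.Lib.Helper4.RegCM.isCohenMacaulayModule_self (Q ⧸ J)) r hr _
      (by rw [List.length_map, hzlen]) hwmem hwprim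
  -- the induction
  have hGood : ∀ i, i ≤ zs.length → Module.Flat P (Q ⧸ Ideal.ofList (zs.take i)) ∧
      LocCoh.IsGorensteinLocalRing (Q ⧸ (J ⊔ Ideal.ofList (zs.take i))) := by
    intro i
    induction i with
    | zero =>
      intro _
      have h0 : Ideal.ofList (zs.take 0) = ⊥ := by rw [List.take_zero, Ideal.ofList_nil]
      rw [h0]
      refine ⟨?_, ?_⟩
      · exact Module.Flat.of_linearEquiv
          ((Submodule.quotEquivOfEqBot (⊥ : Submodule Q Q) rfl).restrictScalars P)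
      · rw [sup_bot_eq]
        exact Groth.Agent.S0342.result (Q ⧸ J)
    | succ i ih =>
      intro hi
      have hi' : i < zs.length := hi
      obtain ⟨hfl, hgo⟩ := ih hi'.le
      have hsucc : Ideal.ofList (zs.take (i + 1)) =
          Ideal.ofList (zs.take i) ⊔ Ideal.span {zs[i]} := by
        rw [List.take_succ_eq_append_getElem hi', Ideal.ofList_append, Ideal.ofList_singleton]
      rw [hsucc]
      have hz := regmod_of_weaklyRegular J zs hwreg i hi'
      have hz' : ∀ x : Q, zs[i] * x ∈ (maximalIdeal P).map (algebraMap P Q) ⊔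
          Ideal.ofList (zs.take i) → x ∈ (maximalIdeal P).map (algebraMap P Q) ⊔
          Ideal.ofList (zs.take i) := by
        rw [← hJ]
        exact hz
      exact ⟨flat_step (Ideal.ofList (zs.take i)) hfl zs[i] hz',
        gor_step J _ zs[i] (hzmem _ (List.getElem_mem hi')) hJle hz hgo⟩
  obtain ⟨hflI, hgoI⟩ := hGood zs.length le_rfl
  rw [List.take_length] at hflI hgoI
  obtain ⟨I, hI⟩ : ∃ I : Ideal Q, I = Ideal.ofList zs := ⟨_, rfl⟩
  rw [← hI] at hflI hgoI
  have hIm : I ≤ maximalIdeal Q := by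
    rw [hI]
    exact Ideal.span_le.mpr (fun z hz => hzmem z hz)
  have hIσ : I ≤ RingHom.ker σ := by
    rw [hI]
    exact Ideal.span_le.mpr (fun z hz => RingHom.mem_ker.mpr (hzσ z hz))
  have hkerρ : RingHom.ker ρ ≤ maximalIdeal P :=
    IsLocalRing.le_maximalIdeal (RingHom.ker_ne_top ρ)
  have h𝔞J : (RingHom.ker ρ).map (algebraMap P Q) ≤ J := by
    rw [hJ]
    exact Ideal.map_mono hkerρ
  obtain ⟨L, hL⟩ : ∃ L : Ideal Q, L = (RingHom.ker ρ).map (algebraMap P Q) ⊔ I := ⟨_, rfl⟩
  have hIL : I ≤ L := by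
    rw [hL]
    exact le_sup_right
  have h𝔞L : (RingHom.ker ρ).map (algebraMap P Q) ≤ L := by
    rw [hL]
    exact le_sup_left
  have hLm : L ≤ maximalIdeal Q := by
    rw [hL]
    exact sup_le (h𝔞J.trans hJle) hIm
  have hLσ : L ≤ RingHom.ker σ := by
    rw [hL]
    refine sup_le ?_ hIσ
    rw [Ideal.map_le_iff_le_comap]
    intro f hf
    rw [Ideal.mem_comap, RingHom.mem_ker]
    have h2 : σ (algebraMap P Q f) = algebraMap R S (ρ f) := RingHom.congr_fun hcomm f
    rw [h2, RingHom.mem_ker.mp hf, map_zero]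
  have hLtop : L ≠ ⊤ := fun h =>
    (IsLocalRing.maximalIdeal.isMaximal Q).ne_top (top_le_iff.mp (h ▸ hLm))
  haveI : Nontrivial (Q ⧸ L) := Ideal.Quotient.nontrivial_iff.mpr hLtop
  haveI hR'loc : IsLocalRing (Q ⧸ L) :=
    IsLocalRing.of_surjective' (Ideal.Quotient.mk L) Ideal.Quotient.mk_surjective
  have hρm : ∀ f ∈ maximalIdeal P, ρ f ∈ maximalIdeal R := by
    intro f hf
    have hc : (maximalIdeal R).comap ρ = maximalIdeal P :=
      IsLocalRing.eq_maximalIdeal (Ideal.comap_isMaximal_of_surjective ρ hρ)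
    rw [← hc] at hf
    exact hf
  have hmapρ : (maximalIdeal P).map ρ = maximalIdeal R := by
    have hc : (maximalIdeal R).comap ρ = maximalIdeal P :=
      IsLocalRing.eq_maximalIdeal (Ideal.comap_isMaximal_of_surjective ρ hρ)
    rw [← hc, Ideal.map_comap_of_surjective ρ hρ]
  have hprimeL : ∀ 𝔮 : Ideal Q, 𝔮.IsPrime → L ≤ 𝔮 → maximalIdeal Q ≤ 𝔮 := by
    intro 𝔮 hq hLq
    refine hmQ.trans (sup_le ?_ ?_)
    · rw [hJ, Ideal.map_le_iff_le_comap]
      intro f hf
      rw [Ideal.mem_comap]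
      apply hq.mem_of_pow_mem k
      rw [← map_pow]
      apply hLq
      apply h𝔞L
      apply Ideal.mem_map_of_mem
      rw [RingHom.mem_ker, map_pow]
      have h1 : ρ f ^ k ∈ maximalIdeal R ^ k := Ideal.pow_mem_pow (hρm f hf) k
      rw [hk, Ideal.zero_eq_bot, Ideal.mem_bot] at h1
      exact h1
    · rw [Ideal.span_le]
      rintro _ ⟨i, rfl⟩
      apply hq.mem_of_pow_mem (N + 1)
      apply hLq
      apply hIL
      rw [hI]
      exact Ideal.subset_span (hzpow i)
  have hArt : IsArtinianRing (Q ⧸ L) :=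
    isArtinianRing_iff_krullDimLE_zero.mpr (krullDimLE_zero_quot L hprimeL)
  -- the algebra structure
  have hle' : RingHom.ker ρ ≤ L.comap (algebraMap P Q) := fun f hf => by
    rw [Ideal.mem_comap]
    exact h𝔞L (Ideal.mem_map_of_mem _ hf)
  let ψ : R →+* Q ⧸ L :=
    (Ideal.quotientMap L (algebraMap P Q) hle').comp
      (RingHom.quotientKerEquivOfSurjective hρ).symm.toRingHom
  have hψ : ∀ f, ψ (ρ f) = Ideal.Quotient.mk L (algebraMap P Q f) := by
    intro f
    show Ideal.quotientMap L (algebraMap P Q) hle'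
      ((RingHom.quotientKerEquivOfSurjective hρ).symm (ρ f)) = _
    rw [RingHom.quotientKerEquivOfSurjective_symm_apply, Ideal.quotientMap_mk]
  letI algR : Algebra R (Q ⧸ L) := ψ.toAlgebra
  have hψρ : (algebraMap R (Q ⧸ L)).comp ρ = (Ideal.Quotient.mk L).comp (algebraMap P Q) :=
    RingHom.ext hψ
  have hmap : (maximalIdeal R).map (algebraMap R (Q ⧸ L)) = J.map (Ideal.Quotient.mk L) := by
    rw [← hmapρ, Ideal.map_map, hψρ, ← Ideal.map_map, ← hJ]
  have hflatR : Module.Flat R (Q ⧸ L) := by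
    letI : Algebra P R := ρ.toAlgebra
    letI : Algebra (Q ⧸ I) (Q ⧸ L) := (Ideal.Quotient.factor hIL).toAlgebra
    haveI : IsScalarTower P R (Q ⧸ L) :=
      IsScalarTower.of_algebraMap_eq (fun f => (hψ f).symm)
    haveI : IsScalarTower P (Q ⧸ I) (Q ⧸ L) := IsScalarTower.of_algebraMap_eq (fun f => rfl)
    haveI : Module.Flat P (Q ⧸ I) := hflI
    refine Groth.Agent.Lib.Helper7.CohenPres2.flat_of_surjective_base (P := P) (Q := Q ⧸ I)
      (A' := R) (B := Q ⧸ L) hρ (Ideal.Quotient.factor_surjective hIL) ?_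
    show RingHom.ker (Ideal.Quotient.factor hIL) ≤ (RingHom.ker ρ).map (algebraMap P (Q ⧸ I))
    rw [Ideal.Quotient.factor_ker hIL, hL, Ideal.map_sup, Ideal.map_quotient_self, sup_bot_eq,
      Ideal.map_map]
    exact le_of_eq rfl
  have hlocR : IsLocalHom (algebraMap R (Q ⧸ L)) := by
    constructor
    intro a ha
    by_contra hnu
    have ham : a ∈ maximalIdeal R := (IsLocalRing.mem_maximalIdeal _).mpr (mem_nonunits_iff.mpr hnu)
    have h1 : a ^ k ∈ maximalIdeal R ^ k := Ideal.pow_mem_pow ham k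
    rw [hk, Ideal.zero_eq_bot, Ideal.mem_bot] at h1
    have h2 : IsUnit ((algebraMap R (Q ⧸ L) a) ^ k) := ha.pow k
    rw [← map_pow, h1, map_zero] at h2
    exact not_isUnit_zero h2
  -- the map to `S`
  let g₀ : Q ⧸ L →+* S := Ideal.Quotient.lift L σ (fun q hq => RingHom.mem_ker.mp (hLσ hq))
  have hg₀ : ∀ a : R, g₀ (algebraMap R (Q ⧸ L) a) = algebraMap R S a := by
    intro a
    obtain ⟨f, rfl⟩ := hρ a
    have h1 : algebraMap R (Q ⧸ L) (ρ f) = Ideal.Quotient.mk L (algebraMap P Q f) := hψ f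
    rw [h1]
    show σ (algebraMap P Q f) = _
    exact RingHom.congr_fun hcomm f
  let g : Q ⧸ L →ₐ[R] S := { g₀ with commutes' := hg₀ }
  have hgsurj : Function.Surjective g := by
    show Function.Surjective g₀
    exact Ideal.Quotient.lift_surjective_of_surjective _ _ hσ
  -- the fibre
  have hLJ : L ⊔ J = J ⊔ I := by
    apply le_antisymm
    · rw [hL]
      exact sup_le (sup_le (h𝔞J.trans le_sup_left) le_sup_right) le_sup_left
    · exact sup_le le_sup_right (hIL.trans le_sup_left)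
  have hgor : LocCoh.IsGorensteinLocalRing
      ((Q ⧸ L) ⧸ (maximalIdeal R).map (algebraMap R (Q ⧸ L))) := by
    have h1 : LocCoh.IsGorensteinLocalRing (Q ⧸ (L ⊔ J)) := by
      rw [hLJ]
      exact hgoI
    have h2 : LocCoh.IsGorensteinLocalRing ((Q ⧸ L) ⧸ J.map (Ideal.Quotient.mk L)) :=
      gorenstein_of_ringEquiv (DoubleQuot.quotQuotEquivQuotSup L J).symm h1
    rw [hmap]
    exact h2
  exact ⟨Q ⧸ L, inferInstance, algR, hArt, hR'loc, hflatR, hlocR, hgor, g, hgsurj⟩

/-- **A local homomorphism of Artinian local rings factors through a flat Artinian local algebra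
with Gorenstein fibre.** -/
theorem exists_factorization (R S : Type u) [CommRing R] [CommRing S] [IsArtinianRing R]
    [IsLocalRing R] [IsArtinianRing S] [IsLocalRing S] [Algebra R S]
    [IsLocalHom (algebraMap R S)] :
    ∃ (R' : Type u) (_ : CommRing R') (_ : Algebra R R'), IsArtinianRing R' ∧ IsLocalRing R' ∧
      Module.Flat R R' ∧ IsLocalHom (algebraMap R R') ∧
      LocCoh.IsGorensteinLocalRing (R' ⧸ (maximalIdeal R).map (algebraMap R R')) ∧
      ∃ g : R' →ₐ[R] S, Function.Surjective g := by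
  obtain ⟨Λ, Λ', hΛr, hΛ'r, hΛloc, n, m, ρ, σ, τ, hcase, hρ, hσ, hcomm, hflat, hreg⟩ :=
    Groth.Agent.Lib.Helper7.CohenPres.exists_pres (A := R) (B := S)
  letI := hΛr
  letI := hΛ'r
  haveI := hΛloc
  have hinst : IsNoetherianRing Λ ∧ IsLocalRing Λ' ∧ IsNoetherianRing Λ' := by
    rcases hcase with ⟨-, hF, hF'⟩ | ⟨-, hC, hC'⟩
    · refine ⟨?_, ?_, ?_⟩
      · letI := hF.toField
        infer_instance
      · letI := hF'.toField
        infer_instance
      · letI := hF'.toField
        infer_instance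
    · obtain ⟨hd, hv, -, -⟩ := hC
      obtain ⟨hd', hv', -, -⟩ := hC'
      haveI := hd
      haveI := hv
      haveI := hd'
      haveI := hv'
      exact ⟨inferInstance, inferInstance, inferInstance⟩
  obtain ⟨hN, hL', hN'⟩ := hinst
  haveI := hN
  haveI := hL'
  haveI := hN'
  letI : Algebra (MvPowerSeries (Fin n) Λ) (MvPowerSeries (Fin m) Λ') := τ.toAlgebra
  haveI : Module.Flat (MvPowerSeries (Fin n) Λ) (MvPowerSeries (Fin m) Λ') := hflat
  exact main_abs ρ σ hρ hσ hcomm hreg

end Groth.Agent.Lib.Helper7.ArtGorFactor
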