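import Mathlib
import Groth.Agent.Lib.Helper19.ArtFunHR
import Groth.Agent.Lib.Helper19.ArtFunTangent
import Groth.Agent.Lib.Helper19.ArtFunBasic
import Groth.Agent.Lib.Helper19.ArtFunDouble
import Groth.Agent.Lib.Helper19.ArtFunComplete

/-!
# From a versal family to a hull (helper7)

* `exists_der`: if the tangent map of a family is not injective (and `σ ↦ F(σ)(x₀)` is injective on
  `Hom(k, k[ε])`) there are a derivation `D` in the kernel of the tangent map and `x ∈ m_R`, `D x = 1`;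
* `isVersal_quot`: then the restriction of a versal family to `R/(x)` is still versal;
* `hasHull_of_versal`: a functor with `H0`, `Heps`, the injectivity condition and a versal family
  has a hull (a maximal quotient of the versal ring over which the family stays versal).
-/

set_option autoImplicit false
universe u v

open CategoryTheory

namespace Groth.Agent.Lib.Helper7.ArtHull

open ArtFun ArtFun.Art Groth.Agent.Lib.Helper19.ArtFunHR Groth.Agent.Lib.Helper19.ArtFunBasic
open Groth.Agent.Lib.Helper19.ArtFunTangent Groth.Agent.Lib.Helper19.ArtFunDouble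
open Groth.Agent.Lib.Helper19.ArtFunComplete

attribute [local instance] Groth.Agent.Lib.Helper19.ArtFunHR.algK
  Groth.Agent.Lib.Helper19.ArtFunHR.isScalarTower_algK

variable {Λ : Type u} {k : Type u} [CommRing Λ] [Field k] [Algebra Λ k]

theorem homSet_base_ext {R : Type u} [CommRing R] [Algebra Λ R] {resR : R →ₐ[Λ] k}
    (a b : HomSet R resR (Art.base Λ k)) : a = b :=
  Subtype.ext (((AlgHom.id_comp a.1).symm.trans a.2).trans
    (((AlgHom.id_comp b.1).symm.trans b.2).symm))

theorem isVersal_congr {R : Type u} [CommRing R] [Algebra Λ R] {resR : R →ₐ[Λ] k}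
    {F : Art Λ k ⥤ Type v} (ξ₁ ξ₂ : Family R resR F)
    (h : ∀ A φ, ξ₁.app A φ = ξ₂.app A φ) (hv : IsVersal ξ₁) : IsVersal ξ₂ := by
  intro B A μ hμ φ y hy
  obtain ⟨ψ, h1, h2⟩ := hv μ hμ φ y (by rw [h]; exact hy)
  exact ⟨ψ, h1, by rw [← h]; exact h2⟩

/-- without `Λ`-derivations of `k`, the only morphism `k → k[ε]` is the inclusion -/
theorem eq_baseToDual (hk : Subsingleton (Derivation Λ k k)) (σ : base Λ k ⟶ dual Λ k) :
    σ = baseToDual := by
  have hfst : ∀ c : k, (σ.toAlgHom c).fst = c := fun c => AlgHom.congr_fun σ.res_comp c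
  let E : Derivation Λ k k := Derivation.mk'
    { toFun := fun c => (σ.toAlgHom c).snd
      map_add' := fun a b => congrArg TrivSqZeroExt.snd (map_add σ.toAlgHom a b)
      map_smul' := fun l c => congrArg TrivSqZeroExt.snd (map_smul σ.toAlgHom l c) }
    (fun a b => by
      have hm : σ.toAlgHom (a * b) = σ.toAlgHom a * σ.toAlgHom b := map_mul σ.toAlgHom a b
      have h2 : TrivSqZeroExt.snd ((σ.toAlgHom a : DualNumber k) * (σ.toAlgHom b : DualNumber k)) =
          (σ.toAlgHom a).fst • (σ.toAlgHom b).snd +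
            MulOpposite.op (σ.toAlgHom b).fst • (σ.toAlgHom a).snd :=
        TrivSqZeroExt.snd_mul (σ.toAlgHom a : DualNumber k) (σ.toAlgHom b : DualNumber k)
      exact ((congrArg TrivSqZeroExt.snd hm).trans h2).trans
        (by rw [hfst, hfst, op_smul_eq_smul]; rfl))
  have hE : E = 0 := Subsingleton.elim _ _
  apply Art.hom_ext
  apply AlgHom.ext
  intro c
  refine TrivSqZeroExt.ext ((hfst c).trans rfl) ?_
  exact (congrArg (fun E' : Derivation Λ k k => E' c) hE).trans rfl

theorem hinj_of_hk (hk : Subsingleton (Derivation Λ k k)) {F : Art Λ k ⥤ Type v}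
    (x₀ : F.obj (base Λ k)) :
    Function.Injective (fun σ : base Λ k ⟶ dual Λ k => F.map σ x₀) :=
  fun σ τ _ => (eq_baseToDual hk σ).trans (eq_baseToDual hk τ).symm

theorem exists_der {F : Art Λ k ⥤ Type v} (h0 : H0 F) (h2 : Heps F)
    (hinj : ∀ x₀ : F.obj (base Λ k),
      Function.Injective (fun σ : base Λ k ⟶ dual Λ k => F.map σ x₀))
    (R : CRing Λ k) (ξ : Family R.carrier R.res F)
    (hni : ¬ Function.Injective (ξ.app (dual Λ k))) :
    ∃ (D : Derivation Λ R.carrier k) (x : R.carrier),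
      x ∈ IsLocalRing.maximalIdeal R.carrier ∧ D x = 1 ∧
      ξ.app (dual Λ k) (derHom R D) = ξ.app (dual Λ k) (derHom R 0) := by
  classical
  letI : TangentStr F := tangentStr h0 h2
  rw [Function.Injective] at hni
  push_neg at hni
  obtain ⟨d₁, d₂, hd, hne⟩ := hni
  obtain ⟨D, hDdef⟩ : ∃ D, D = derOf R d₁ - derOf R d₂ := ⟨_, rfl⟩
  have hD : D ≠ 0 := by
    intro h
    apply hne
    rw [hDdef] at h
    rw [← derHom_derOf R d₁, ← derHom_derOf R d₂, sub_eq_zero.mp h]
  have hξD : ξ.app (dual Λ k) (derHom R D) = ξ.app (dual Λ k) (derHom R 0) := by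
    have h1 : tangentLin R ξ D = 0 := by
      rw [hDdef, map_sub, tangentLin_apply, tangentLin_apply, derHom_derOf, derHom_derOf,
        sub_eq_zero]
      exact hd
    have h2' : tangentLin R ξ 0 = 0 := map_zero _
    rw [tangentLin_apply] at h1 h2'
    exact h1.trans h2'.symm
  have hex : ∃ y ∈ IsLocalRing.maximalIdeal R.carrier, D y ≠ 0 := by
    by_contra hcon
    push_neg at hcon
    apply hD
    let ρ : HomSet R.carrier R.res (base Λ k) := ⟨R.res, AlgHom.id_comp _⟩
    have hρs : Function.Surjective ρ.1 := R.res_surjective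
    have hkerle : RingHom.ker ρ.1 ≤ RingHom.ker (derHom R D).1 := by
      intro r hr
      rw [RingHom.mem_ker] at hr ⊢
      have hrm : r ∈ IsLocalRing.maximalIdeal R.carrier :=
        (CRing.mem_maximalIdeal_iff R r).mpr hr
      rw [derHom_apply]
      exact TrivSqZeroExt.ext hr (hcon r hrm)
    obtain ⟨t, ht⟩ := exists_factor ρ hρs (derHom R D) hkerle
    have h0' : HomSet.map baseToDual ρ = derHom R 0 := by
      apply Subtype.ext; apply AlgHom.ext; intro r
      exact TrivSqZeroExt.ext rfl rfl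
    have heq : t = baseToDual := by
      apply hinj (ξ.app _ ρ)
      show F.map t (ξ.app _ ρ) = F.map baseToDual (ξ.app _ ρ)
      rw [← ξ.natural, ← ξ.natural, ht, h0']
      exact hξD
    rw [heq, h0'] at ht
    have h3 := congrArg (derOf R) ht
    rw [derOf_derHom, derOf_derHom] at h3
    exact h3.symm
  obtain ⟨y, hym, hy0⟩ := hex
  obtain ⟨r, hr⟩ := R.res_surjective (D y)⁻¹
  refine ⟨D, r * y, Ideal.mul_mem_left _ _ hym, ?_, hξD⟩
  rw [Derivation.leibniz, algK_smul, algK_smul, hr, (CRing.mem_maximalIdeal_iff R y).mp hym,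
    zero_mul, add_zero]
  exact inv_mul_cancel₀ hy0

variable [IsNoetherianRing Λ] [Module.Finite Λ k]

theorem isVersal_quot {F : Art Λ k ⥤ Type v} (h0 : H0 F) (h2 : Heps F)
    (R : CRing Λ k) (ξ : Family R.carrier R.res F) (hv : IsVersal ξ)
    (D : Derivation Λ R.carrier k)
    (hξD : ξ.app (dual Λ k) (derHom R D) = ξ.app (dual Λ k) (derHom R 0))
    (x : R.carrier) (hxm : x ∈ IsLocalRing.maximalIdeal R.carrier) (hDx : D x = 1)
    (R' : CRing Λ k) (q : R.carrier →ₐ[Λ] R'.carrier) (hq : R'.res.comp q = R.res)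
    (hqs : Function.Surjective q) (hker : RingHom.ker q = Ideal.span {x}) :
    IsVersal (ξ.along q hq) := by
  classical
  letI : TangentStr F := tangentStr h0 h2
  have hlinD : ∀ (D₀ : Derivation Λ R.carrier k) (c : k),
      ξ.app (dual Λ k) (derHom R (D₀ + c • D)) = ξ.app (dual Λ k) (derHom R D₀) := by
    intro D₀ c
    have h1 : tangentLin R ξ D = 0 := by
      have h4 : tangentLin R ξ D = tangentLin R ξ 0 := hξD
      rw [h4, map_zero]
    have h3 : tangentLin R ξ (D₀ + c • D) = tangentLin R ξ D₀ := by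
      rw [map_add, map_smul, h1, smul_zero, add_zero]
    exact h3
  apply isVersal_of_smallExt
  intro B A μ hμ φ' y hy
  let φ : HomSet R.carrier R.res A := ⟨φ'.1.comp q, by rw [← AlgHom.comp_assoc, φ'.2, hq]⟩
  obtain ⟨ψ, hψμ, hψy⟩ := hv μ hμ.1 φ y hy
  obtain ⟨G, π₁, π₂, δ, hG, hδ⟩ := exists_double μ hμ
  obtain ⟨Δψ, hΔ1, hΔ2⟩ := hR_exists_lift hG ψ ψ rfl
  have hqx : q x = 0 := by
    have h1 : x ∈ RingHom.ker q := by rw [hker]; exact Ideal.subset_span rfl
    exact h1
  have hμx : μ (ψ.1 x) = μ 0 := by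
    have h1 : μ (ψ.1 x) = φ.1 x := AlgHom.congr_fun (congrArg Subtype.val hψμ) x
    rw [h1]
    show φ'.1 (q x) = μ.toAlgHom 0
    rw [hqx, map_zero, map_zero]
  obtain ⟨γ, hγ1, hγ2⟩ := hG.surj (ψ.1 x) 0 hμx
  obtain ⟨c, hc⟩ : ∃ c : k, c = (δ γ).snd - derOf R (HomSet.map δ Δψ) x := ⟨_, rfl⟩
  obtain ⟨g, hg1, hgδ⟩ := hR_exists_lift hδ ψ
    (derHom R (derOf R (HomSet.map δ Δψ) + c • D)) (homSet_base_ext _ _)
  have hgx : g.1 x = γ := by
    apply hδ.inj
    · have h1 := AlgHom.congr_fun (congrArg Subtype.val hg1) x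
      exact h1.trans hγ1.symm
    · have h1 : δ (g.1 x) = (derHom R (derOf R (HomSet.map δ Δψ) + c • D)).1 x :=
        AlgHom.congr_fun (congrArg Subtype.val hgδ) x
      rw [h1, derHom_apply]
      refine TrivSqZeroExt.ext ?_ ?_
      · show R.res x = (δ γ).fst
        have h2 : (δ γ).fst = G.res γ := Art.res_app δ γ
        have h3 : G.res γ = B.res (π₁ γ) := (Art.res_app π₁ γ).symm
        have h4 : B.res (ψ.1 x) = R.res x := AlgHom.congr_fun ψ.2 x
        rw [h2, h3, hγ1, h4]
      · show (derOf R (HomSet.map δ Δψ) + c • D) x = (δ γ).snd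
        rw [Derivation.add_apply, Derivation.smul_apply, hDx, hc, smul_eq_mul, mul_one]
        ring
  have hψ'x : (HomSet.map π₂ g).1 x = 0 := by
    show π₂ (g.1 x) = 0
    rw [hgx, hγ2]
  have hψ'μ : HomSet.map μ (HomSet.map π₂ g) = φ := by
    rw [← hψμ, ← hg1]
    apply Subtype.ext; apply AlgHom.ext; intro r
    exact (hG.w_apply (g.1 r)).symm
  have hξg : ξ.app G g = ξ.app G Δψ := by
    apply (h2 π₁ δ hδ).1
    apply FibProd.ext
    · show F.map π₁ (ξ.app G g) = F.map π₁ (ξ.app G Δψ)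
      rw [← ξ.natural, ← ξ.natural, hg1, hΔ1]
    · show F.map δ (ξ.app G g) = F.map δ (ξ.app G Δψ)
      rw [← ξ.natural, ← ξ.natural, hgδ, hlinD, derHom_derOf]
  have hψ'y : ξ.app B (HomSet.map π₂ g) = y := by
    rw [ξ.natural, hξg, ← ξ.natural, hΔ2, hψy]
  have hkerle : RingHom.ker q ≤ RingHom.ker (HomSet.map π₂ g).1 := by
    rw [hker, Ideal.span_le, Set.singleton_subset_iff]
    exact (RingHom.mem_ker).mpr hψ'x
  obtain ⟨φ'', hφ''⟩ := exists_factor_cring q hq hqs (HomSet.map π₂ g) hkerle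
  refine ⟨φ'', ?_, ?_⟩
  · apply Subtype.ext; apply AlgHom.ext; intro r'
    obtain ⟨p, rfl⟩ := hqs r'
    show μ (φ''.1 (q p)) = φ'.1 (q p)
    rw [hφ'']
    exact AlgHom.congr_fun (congrArg Subtype.val hψ'μ) p
  · show ξ.app B ⟨φ''.1.comp q, _⟩ = y
    have h5 : (⟨φ''.1.comp q, by rw [← AlgHom.comp_assoc, φ''.2, hq]⟩ :
        HomSet R.carrier R.res B) = HomSet.map π₂ g :=
      Subtype.ext (AlgHom.ext hφ'')
    rw [h5]; exact hψ'y

/-- a functor with a versal family, `H0`, `Heps` and the injectivity condition has a hull -/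
theorem hasHull_of_versal {F : Art Λ k ⥤ Type v} (h0 : H0 F) (h2 : Heps F)
    (hinj : ∀ x₀ : F.obj (base Λ k),
      Function.Injective (fun σ : base Λ k ⟶ dual Λ k => F.map σ x₀))
    (V : VersalPair F) : HasHull F := by
  classical
  obtain ⟨R, ξ, hv⟩ := V
  let 𝒮 : Set (Ideal R.carrier) := {J | ∃ (R' : CRing Λ k) (q : R.carrier →ₐ[Λ] R'.carrier)
    (hq : R'.res.comp q = R.res), Function.Surjective q ∧ RingHom.ker q = J ∧
      IsVersal (ξ.along q hq)}
  have hne : 𝒮.Nonempty := by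
    refine ⟨⊥, R, AlgHom.id Λ R.carrier, AlgHom.comp_id _, Function.surjective_id, ?_, ?_⟩
    · ext r
      rw [RingHom.mem_ker, Ideal.mem_bot]
      rfl
    · exact isVersal_congr ξ _ (fun A φ => rfl) hv
  obtain ⟨J₀, ⟨R', q, hq, hqs, hker, hver⟩, hmax⟩ :=
    (set_has_maximal_iff_noetherian (R := R.carrier) (M := R.carrier)).mpr inferInstance 𝒮 hne
  refine ⟨⟨R', ξ.along q hq, hver, ?_, surjective_app_of_isVersal h0 _ hver (dual Λ k)⟩⟩
  by_contra hni
  obtain ⟨D', x', hx'm, hD'x', hξD'⟩ := exists_der h0 h2 hinj R' (ξ.along q hq) hni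
  have hspan : Ideal.span {x'} ≤ IsLocalRing.maximalIdeal R'.carrier := by
    rw [Ideal.span_le, Set.singleton_subset_iff]; exact hx'm
  obtain ⟨R'', q', hq', hq's, hker'⟩ := exists_cring_quot R' (Ideal.span {x'}) hspan
  have hver' := isVersal_quot h0 h2 R' (ξ.along q hq) hver D' hξD' x' hx'm hD'x' R'' q' hq'
    hq's hker'
  have hqq : R''.res.comp (q'.comp q) = R.res := by rw [← AlgHom.comp_assoc, hq', hq]
  obtain ⟨p, hp⟩ := hqs x'
  have hx'0 : x' ≠ 0 := by
    intro h
    rw [h, map_zero] at hD'x'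
    exact zero_ne_one hD'x'
  apply hmax (RingHom.ker (q'.comp q)) ⟨R'', q'.comp q, hqq, hq's.comp hqs, rfl,
    isVersal_congr _ _ (fun A φ => rfl) hver'⟩
  refine lt_of_le_of_ne ?_ ?_
  · rw [← hker]
    intro r hr
    rw [RingHom.mem_ker] at hr ⊢
    show q' (q r) = 0
    rw [hr, map_zero]
  · intro h
    have hpmem : p ∈ RingHom.ker (q'.comp q) := by
      rw [RingHom.mem_ker]
      show q' (q p) = 0
      rw [hp]
      have h1 : x' ∈ RingHom.ker q' := by rw [hker']; exact Ideal.subset_span rfl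
      exact h1
    rw [← h, ← hker, RingHom.mem_ker, hp] at hpmem
    exact hx'0 hpmem

end Groth.Agent.Lib.Helper7.ArtHull
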