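import Mathlib
import Groth.Agent.Lib.Helper19.ArtFunBasic
import Groth.Agent.Lib.Helper19.ArtFunComplete
import Groth.Agent.Lib.Helper19.ArtFunHR

/-!
# Limits of surjective systems of Artinian local algebras (helper7)

* `spanFinrank_add_one_le`: a surjection of Noetherian local rings killing an element outside `m²`
  drops the embedding dimension;
* `exists_stab`: in a surjective system with bounded embedding dimension the kernels of the
  transition maps eventually lie in `m²`;
* `Concl`, `core0`, `core`: the limit of such a system is a coefficient ring.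
-/

set_option autoImplicit false
universe u v

open CategoryTheory

namespace Groth.Agent.Lib.Helper7.ArtLimit

open ArtFun ArtFun.Art IsLocalRing
open Groth.Agent.Lib.Helper19.ArtFunBasic Groth.Agent.Lib.Helper19.ArtFunComplete
open Groth.Agent.Lib.Helper19.ArtFunHR

theorem spanFinrank_add_one_le {P R : Type*} [CommRing P] [CommRing R] [IsLocalRing P]
    [IsLocalRing R] [IsNoetherianRing P] (π : P →+* R) (hπ : Function.Surjective π) (z : P)
    (hz : π z = 0) (hz2 : z ∉ maximalIdeal P ^ 2) :
    (maximalIdeal R).spanFinrank + 1 ≤ (maximalIdeal P).spanFinrank := by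
  classical
  have hmap := IsLocalRing.map_maximalIdeal_of_surjective π hπ
  obtain ⟨S, hS1, hS2⟩ := Submodule.FG.exists_span_finset_card_eq_spanFinrank
    (IsNoetherian.noetherian (maximalIdeal P))
  have hSm : ∀ y ∈ S, y ∈ maximalIdeal P := fun y hy => by
    rw [← hS2]; exact Submodule.subset_span hy
  have hzm : z ∈ maximalIdeal P := by
    by_contra hc
    have hu : IsUnit z := IsLocalRing.notMem_maximalIdeal.1 hc
    have hu' := hu.map π
    rw [hz] at hu'
    exact not_isUnit_zero hu'
  have hzS : z ∈ Submodule.span P (S : Set P) := by rw [hS2]; exact hzm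
  obtain ⟨a, -, ha⟩ := Submodule.mem_span_finset.1 hzS
  have hex : ∃ y₀ ∈ S, IsUnit (a y₀) := by
    by_contra hcon
    push_neg at hcon
    apply hz2
    rw [← ha, pow_two]
    refine Ideal.sum_mem _ (fun y hy => ?_)
    rw [smul_eq_mul]
    exact Ideal.mul_mem_mul ((IsLocalRing.mem_maximalIdeal _).2 (hcon y hy)) (hSm y hy)
  obtain ⟨y₀, hy₀S, hu⟩ := hex
  obtain ⟨b, hb⟩ := hu.exists_left_inv
  obtain ⟨T, hT⟩ : ∃ T, T = S.erase y₀ := ⟨_, rfl⟩
  have hsum : a y₀ • y₀ + ∑ y ∈ T, a y • y = z := by
    rw [hT, Finset.add_sum_erase S (fun y => a y • y) hy₀S]; exact ha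
  have hy₀ : y₀ ∈ Ideal.span (insert z (T : Set P)) := by
    have h1 : y₀ = b * (z - ∑ y ∈ T, a y • y) := by
      rw [← hsum, add_sub_cancel_right, smul_eq_mul, ← mul_assoc, hb, one_mul]
    rw [h1]
    refine Ideal.mul_mem_left _ _ (Ideal.sub_mem _ (Ideal.subset_span (Set.mem_insert _ _)) ?_)
    refine Ideal.sum_mem _ (fun y hy => ?_)
    rw [smul_eq_mul]
    exact Ideal.mul_mem_left _ _ (Ideal.subset_span (Set.mem_insert_of_mem _ hy))
  have hle : maximalIdeal P ≤ Ideal.span (insert z (T : Set P)) := by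
    rw [← hS2]
    refine Submodule.span_le.2 ?_
    intro y hy
    by_cases hyy : y = y₀
    · rw [hyy]; exact hy₀
    · refine Ideal.subset_span (Set.mem_insert_of_mem _ ?_)
      rw [hT]
      exact Finset.mem_erase.2 ⟨hyy, hy⟩
  have heq : maximalIdeal R = Ideal.span (π '' (T : Set P)) := by
    apply le_antisymm
    · rw [← hmap]
      refine (Ideal.map_mono hle).trans ?_
      rw [Ideal.map_span, Ideal.span_le]
      rintro _ ⟨x, hx, rfl⟩
      rcases hx with rfl | hx
      · rw [hz]; exact Ideal.zero_mem _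
      · exact Ideal.subset_span ⟨x, hx, rfl⟩
    · rw [Ideal.span_le]
      rintro _ ⟨x, hx, rfl⟩
      rw [← hmap]
      refine Ideal.mem_map_of_mem π (hSm x ?_)
      rw [hT] at hx
      exact Finset.mem_of_mem_erase hx
  have hcard : (maximalIdeal R).spanFinrank ≤ T.card := by
    rw [heq]
    calc (Ideal.span (π '' (T : Set P))).spanFinrank ≤ (π '' (T : Set P)).ncard :=
          Submodule.spanFinrank_span_le_ncard_of_finite (T.finite_toSet.image π)
      _ ≤ (T : Set P).ncard := Set.ncard_image_le T.finite_toSet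
      _ = T.card := Set.ncard_coe_finset T
  have hTc : T.card + 1 = S.card := by
    rw [hT, Finset.card_erase_of_mem hy₀S]
    have : 0 < S.card := Finset.card_pos.2 ⟨y₀, hy₀S⟩
    omega
  omega

variable {Λ : Type u} {k : Type u} [CommRing Λ] [Field k] [Algebra Λ k]

theorem exists_stab (A : ℕ → Art Λ k) (f : ∀ n, A (n + 1) ⟶ A n)
    (hf : ∀ n, Function.Surjective (f n)) (d : ℕ)
    (hd : ∀ n, Module.finrank (ResidueField (A n)) (CotangentSpace (A n)) ≤ d) :
    ∃ n₀, ∀ n, n₀ ≤ n → RingHom.ker (f n).toAlgHom ≤ maximalIdeal (A (n + 1)) ^ 2 := by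
  classical
  obtain ⟨c, hcdef⟩ : ∃ c : ℕ → ℕ, ∀ n, c n = (maximalIdeal (A n)).spanFinrank :=
    ⟨fun n => (maximalIdeal (A n)).spanFinrank, fun n => rfl⟩
  have hc : ∀ n, c n ≤ d := fun n => by
    rw [hcdef, IsLocalRing.spanFinrank_maximalIdeal_eq_finrank_cotangentSpace]; exact hd n
  have hmono : Monotone c := by
    apply monotone_nat_of_le_succ
    intro n
    rw [hcdef, hcdef,
      ← IsLocalRing.map_maximalIdeal_of_surjective ((f n).toAlgHom : A (n + 1) →+* A n) (hf n)]
    exact Ideal.spanFinrank_map_le_of_fg _ (IsNoetherian.noetherian _)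
  have hv : ∃ n, c n = Nat.findGreatest (fun v => ∃ n, c n = v) d :=
    Nat.findGreatest_spec (P := fun v => ∃ n, c n = v) (hc 0) ⟨0, rfl⟩
  have hle : ∀ n, c n ≤ Nat.findGreatest (fun v => ∃ n, c n = v) d := fun n =>
    Nat.le_findGreatest (hc n) ⟨n, rfl⟩
  obtain ⟨n₀, hn₀⟩ := hv
  refine ⟨n₀, fun n hn => ?_⟩
  by_contra hcon
  obtain ⟨z, hzk, hz2⟩ := SetLike.not_le_iff_exists.1 hcon
  have h1 := spanFinrank_add_one_le ((f n).toAlgHom : A (n + 1) →+* A n) (hf n) z
    (by exact RingHom.mem_ker.1 hzk) hz2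
  rw [← hcdef, ← hcdef] at h1
  have h2 : c (n + 1) ≤ _ := hle (n + 1)
  have h3 : c n₀ ≤ c n := hmono hn
  omega

/-- the conclusion of the limit theorem -/
def Concl (A : ℕ → Art Λ k) (f : ∀ n, A (n + 1) ⟶ A n) : Prop :=
  ∃ (S : CRing Λ k) (π : ∀ n, HomSet S.carrier S.res (A n)),
      (∀ n, HomSet.map (f n) (π (n + 1)) = π n) ∧
      (∀ n, Function.Surjective (π n).1) ∧
      (∀ a : ∀ n, A n, (∀ n, f n (a (n + 1)) = a n) →
        ∃! s : S.carrier, ∀ n, (π n).1 s = a n) ∧
      (∀ n, ∃ N, RingHom.ker (π N).1 ≤ IsLocalRing.maximalIdeal S.carrier ^ n) ∧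
      (∀ n, ∃ N, IsLocalRing.maximalIdeal S.carrier ^ N ≤ RingHom.ker (π n).1)

variable [IsNoetherianRing Λ] [Module.Finite Λ k]

theorem core0 (A : ℕ → Art Λ k) (f : ∀ n, A (n + 1) ⟶ A n)
    (hf : ∀ n, Function.Surjective (f n))
    (hk : ∀ n, RingHom.ker (f n).toAlgHom ≤ maximalIdeal (A (n + 1)) ^ 2) : Concl A f := by
  classical
  obtain ⟨P, g₀, hg₀, hsm⟩ := exists_smooth_cring_onto (A 0)
  have hstep : ∀ (n : ℕ) (γ : HomSet P.carrier P.res (A n)),
      ∃ ψ : HomSet P.carrier P.res (A (n + 1)), HomSet.map (f n) ψ = γ :=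
    fun n γ => hsm (f n) (hf n) γ
  let seq : ∀ n : ℕ, HomSet P.carrier P.res (A n) :=
    fun n => Nat.rec g₀ (fun n γ => (hstep n γ).choose) n
  have hseq : ∀ n, HomSet.map (f n) (seq (n + 1)) = seq n := fun n =>
    (hstep n (seq n)).choose_spec
  have hcomp : ∀ n p, f n ((seq (n + 1)).1 p) = (seq n).1 p := fun n p =>
    AlgHom.congr_fun (congrArg Subtype.val (hseq n)) p
  have hsurj : ∀ n, Function.Surjective (seq n).1 := by
    intro n
    induction n with
    | zero => exact hg₀
    | succ n ih =>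
      obtain ⟨N, hN⟩ := exists_maximalIdeal_pow_eq_bot (A (n + 1))
      have hN' : maximalIdeal (A (n + 1)) ^ (N + 1) = ⊥ := by rw [pow_succ, hN, Ideal.bot_mul]
      obtain ⟨φ', hφ'⟩ := exists_factor_trunc P (seq (n + 1)) N hN'
      have hφ'a : ∀ p, φ' (Ideal.Quotient.mk (CRing.mpow P N) p) = (seq (n + 1)).1 p := fun p =>
        AlgHom.congr_fun (congrArg Subtype.val hφ') p
      have hsφ : Function.Surjective φ' := by
        apply surjective_of_map_sup_sq
        apply le_antisymm
        · exact sup_le (map_maximalIdeal_le φ') (Ideal.pow_le_self two_ne_zero)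
        · intro y hy
          have hy0 : (A (n + 1)).res y = 0 := (Art.mem_maximalIdeal_iff _ y).1 hy
          obtain ⟨t, ht⟩ := ih (f n y)
          have htm : t ∈ maximalIdeal P.carrier := by
            rw [CRing.mem_maximalIdeal_iff]
            have e : (A n).res ((seq n).1 t) = P.res t := AlgHom.congr_fun (seq n).2 t
            rw [← e, ht, Art.res_app]
            exact hy0
          have hker : y - (seq (n + 1)).1 t ∈ RingHom.ker (f n).toAlgHom := by
            rw [RingHom.mem_ker, map_sub]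
            show f n y - f n ((seq (n + 1)).1 t) = 0
            rw [hcomp, ht, sub_self]
          have h2 := hk n hker
          have h3 : y = (seq (n + 1)).1 t + (y - (seq (n + 1)).1 t) := by ring
          rw [h3]
          refine Submodule.add_mem_sup ?_ h2
          rw [← hφ'a]
          apply Ideal.mem_map_of_mem
          rw [Art.mem_maximalIdeal_iff]
          show P.res t = 0
          exact (CRing.mem_maximalIdeal_iff P t).1 htm
      intro y
      obtain ⟨x, hx⟩ := hsφ y
      obtain ⟨p, rfl⟩ := Ideal.Quotient.mk_surjective x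
      exact ⟨p, (hφ'a p).symm.trans hx⟩
  let K : ℕ → Ideal P.carrier := fun n => RingHom.ker (seq n).1
  have hKsucc : ∀ n, K (n + 1) ≤ K n := by
    intro n p hp
    have h1 : (seq (n + 1)).1 p = 0 := hp
    show (seq n).1 p = 0
    rw [← hcomp, h1]
    exact map_zero (f n).toAlgHom
  have hanti : Antitone K := antitone_nat_of_succ_le hKsucc
  have hpow : ∀ q, ∃ N, maximalIdeal P.carrier ^ N ≤ K q := fun q => exists_pow_le_ker P (seq q)
  have hJ : (⨅ q, K q) ≤ maximalIdeal P.carrier := (iInf_le K 0).trans (homSet_ker_le P (seq 0))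
  obtain ⟨S, q, hq, hqs, hker⟩ := exists_cring_quot P (⨅ q, K q) hJ
  have hfac : ∀ n, ∃ φ : HomSet S.carrier S.res (A n), ∀ p, φ.1 (q p) = (seq n).1 p := fun n =>
    exists_factor_cring q hq hqs (seq n) (by rw [hker]; exact iInf_le K n)
  choose π hπ using hfac
  have hqm : ∀ n, Ideal.map q (maximalIdeal P.carrier ^ n) ≤ maximalIdeal S.carrier ^ n := by
    intro n
    rw [Ideal.map_pow]
    exact Ideal.pow_right_mono
      (Ideal.map_le_iff_le_comap.2 (CRing.maximalIdeal_le_comap q hq)) n
  have hcompat : ∀ n, HomSet.map (f n) (π (n + 1)) = π n := by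
    intro n
    apply Subtype.ext; apply AlgHom.ext; intro s
    obtain ⟨p, rfl⟩ := hqs s
    show f n ((π (n + 1)).1 (q p)) = (π n).1 (q p)
    rw [hπ, hπ, hcomp]
  have hπsurj : ∀ n, Function.Surjective (π n).1 := by
    intro n y
    obtain ⟨p, hp⟩ := hsurj n y
    exact ⟨q p, (hπ n p).trans hp⟩
  have h5 : ∀ n, ∃ N, maximalIdeal S.carrier ^ N ≤ RingHom.ker (π n).1 := fun n =>
    exists_pow_le_ker S (π n)
  have h4 : ∀ n, ∃ N, RingHom.ker (π N).1 ≤ maximalIdeal S.carrier ^ n := by
    intro n
    obtain ⟨N, hN⟩ := chevalley P K hanti hpow n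
    refine ⟨N, ?_⟩
    intro s hs
    obtain ⟨p, rfl⟩ := hqs s
    have hpK : p ∈ K N := by
      show (seq N).1 p = 0
      rw [← hπ]; exact hs
    obtain ⟨j, hj, t, ht, hjt⟩ := Submodule.mem_sup.1 (hN hpK)
    have hqj : q j = 0 := by
      have : j ∈ RingHom.ker q := by rw [hker]; exact hj
      exact this
    rw [← hjt, map_add, hqj, zero_add]
    exact hqm n (Ideal.mem_map_of_mem q ht)
  have h3 : ∀ a : ∀ n, A n, (∀ n, f n (a (n + 1)) = a n) →
      ∃! s : S.carrier, ∀ n, (π n).1 s = a n := by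
    intro a ha
    have huniq : ∀ s s' : S.carrier, (∀ n, (π n).1 s = (π n).1 s') → s = s' := by
      intro s s' h
      obtain ⟨p, hp⟩ := hqs (s - s')
      have hpJ : p ∈ ⨅ q, K q := by
        rw [Submodule.mem_iInf]
        intro n
        show (seq n).1 p = 0
        rw [← hπ, hp, map_sub, h n, sub_self]
      have h0 : q p = 0 := by
        have : p ∈ RingHom.ker q := by rw [hker]; exact hpJ
        exact this
      rw [hp] at h0
      exact sub_eq_zero.1 h0
    choose pp hpp using fun n => hsurj n (a n)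
    have hdiff : ∀ n, pp (n + 1) - pp n ∈ K n := by
      intro n
      show (seq n).1 (pp (n + 1) - pp n) = 0
      have e1 : (seq n).1 (pp (n + 1)) = a n := by
        rw [← hcomp n (pp (n + 1))]
        exact (congrArg (fun z => f n z) (hpp (n + 1))).trans (ha n)
      rw [map_sub, e1, hpp n, sub_self]
    have hproj : ∀ n m, n ≤ m → (seq n).1 (pp m) = a n := by
      intro n m hnm
      induction m, hnm using Nat.le_induction with
      | base => exact hpp n
      | succ m hnm ih =>
        have h1 : pp (m + 1) - pp m ∈ K n := hanti hnm (hdiff m)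
        have h2 : (seq n).1 (pp (m + 1) - pp m) = 0 := h1
        rw [map_sub, sub_eq_zero] at h2
        rw [h2, ih]
    choose Nn hNn using h4
    obtain ⟨M, hMdef⟩ : ∃ M : ℕ → ℕ, ∀ j, M j = j + ∑ i ∈ Finset.range (j + 1), Nn i :=
      ⟨fun j => j + ∑ i ∈ Finset.range (j + 1), Nn i, fun j => rfl⟩
    have hMge : ∀ j, j ≤ M j := fun j => by rw [hMdef]; exact Nat.le_add_right _ _
    have hMN : ∀ j j', j ≤ j' → Nn j ≤ M j' := by
      intro j j' hjj'
      have h1 : Nn j ≤ ∑ i ∈ Finset.range (j' + 1), Nn i :=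
        Finset.single_le_sum (f := Nn) (fun i _ => Nat.zero_le _)
          (Finset.mem_range.2 (Nat.lt_succ_of_le hjj'))
      rw [hMdef]
      exact h1.trans (Nat.le_add_left _ _)
    have hπt : ∀ n j, n ≤ M j → (π n).1 (q (pp (M j))) = a n := fun n j h => by
      rw [hπ]; exact hproj n (M j) h
    haveI := S.isAdicComplete
    have hcauchy : ∀ {m n : ℕ}, m ≤ n → q (pp (M m)) ≡ q (pp (M n))
        [SMOD (maximalIdeal S.carrier ^ m • ⊤ : Submodule S.carrier S.carrier)] := by
      intro m n hmn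
      rw [SModEq.sub_mem, smul_eq_mul, Ideal.mul_top]
      apply hNn m
      show (π (Nn m)).1 (q (pp (M m)) - q (pp (M n))) = 0
      rw [map_sub, hπt _ _ (hMN m m le_rfl), hπt _ _ (hMN m n hmn), sub_self]
    obtain ⟨L, hL⟩ := IsPrecomplete.prec' (I := maximalIdeal S.carrier)
      (fun j => q (pp (M j))) hcauchy
    have hLa : ∀ n, (π n).1 L = a n := by
      intro n
      obtain ⟨M', hM'⟩ := h5 n
      have h1 : q (pp (M (max M' n))) - L ∈ maximalIdeal S.carrier ^ (max M' n) := by
        have h := hL (max M' n)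
        rw [SModEq.sub_mem, smul_eq_mul, Ideal.mul_top] at h
        exact h
      have h2 : q (pp (M (max M' n))) - L ∈ RingHom.ker (π n).1 :=
        hM' (Ideal.pow_le_pow_right (le_max_left M' n) h1)
      have h3 : (π n).1 (q (pp (M (max M' n))) - L) = 0 := h2
      rw [map_sub, sub_eq_zero] at h3
      rw [← h3]
      exact hπt n (max M' n) ((le_max_right M' n).trans (hMge _))
    exact ⟨L, hLa, fun s' hs' => huniq s' L (fun n => (hs' n).trans (hLa n).symm)⟩
  exact ⟨S, π, hcompat, hπsurj, h3, h4, h5⟩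

theorem core : ∀ (n₀ : ℕ) (A : ℕ → Art Λ k) (f : ∀ n, A (n + 1) ⟶ A n),
    (∀ n, Function.Surjective (f n)) →
    (∀ n, n₀ ≤ n → RingHom.ker (f n).toAlgHom ≤ maximalIdeal (A (n + 1)) ^ 2) →
    Concl A f := by
  intro n₀
  induction n₀ with
  | zero =>
    intro A f hf hk
    exact core0 A f hf (fun n => hk n (Nat.zero_le n))
  | succ n₀ ih =>
    intro A f hf hk
    obtain ⟨S, π', h1, h2, h3, h4, h5⟩ := ih (fun j => A (j + 1)) (fun j => f (j + 1))
      (fun j => hf (j + 1)) (fun j hj => hk (j + 1) (Nat.succ_le_succ hj))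
    let π : ∀ n, HomSet S.carrier S.res (A n) := fun n =>
      match n with
      | 0 => HomSet.map (f 0) (π' 0)
      | (j + 1) => π' j
    refine ⟨S, π, ?_, ?_, ?_, ?_, ?_⟩
    · intro n
      cases n with
      | zero => rfl
      | succ j => exact h1 j
    · intro n
      cases n with
      | zero =>
        intro y
        obtain ⟨y', hy'⟩ := hf 0 y
        obtain ⟨s, hs⟩ := h2 0 y'
        refine ⟨s, ?_⟩
        show f 0 ((π' 0).1 s) = y
        rw [hs, hy']
      | succ j => exact h2 j
    · intro a ha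
      obtain ⟨s, hs, hu⟩ := h3 (fun j => a (j + 1)) (fun j => ha (j + 1))
      refine ⟨s, ?_, ?_⟩
      · intro n
        cases n with
        | zero =>
          show f 0 ((π' 0).1 s) = a 0
          rw [hs 0]; exact ha 0
        | succ j => exact hs j
      · intro s' hs'
        exact hu s' (fun j => hs' (j + 1))
    · intro n
      obtain ⟨N, hN⟩ := h4 n
      exact ⟨N + 1, hN⟩
    · intro n
      cases n with
      | zero =>
        obtain ⟨N, hN⟩ := h5 0
        refine ⟨N, hN.trans ?_⟩
        intro s hs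
        have h : (π' 0).1 s = 0 := hs
        show f 0 ((π' 0).1 s) = 0
        rw [h]; exact map_zero (f 0).toAlgHom
      | succ j => exact h5 j

end Groth.Agent.Lib.Helper7.ArtLimit
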