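import Mathlib

/-!
# Helper library (helper7): counting automorphisms of a non-split self-extension (Mathlib only)

For helper11 (S18788).  `card_units_of_nilpotent_ker'` is the counting lemma for a surjective ring
homomorphism with nil kernel (no finiteness needed); `card_aut_nonsplit_mid` counts the
automorphisms of the middle term of a non-split extension `0 → O → F → O → 0` when `End O` is a
finite division ring.
-/

set_option autoImplicit false
universe v u
open CategoryTheory CategoryTheory.Limits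

namespace Groth.Agent.Lib.Helper7.AutCntA

section Ring

variable {R S : Type*} [Ring R] [Ring S]

theorem isUnit_of_map_isUnit (π : R →+* S) (hπ : Function.Surjective π)
    (hker : ∀ x, π x = 0 → IsNilpotent x) (a : R) (ha : IsUnit (π a)) : IsUnit a := by
  obtain ⟨v, hv⟩ := ha
  obtain ⟨b, hb⟩ := hπ (↑v⁻¹ : S)
  have h1 : IsUnit (a * b) := by
    have hn : IsNilpotent (a * b - 1) := hker _ (by
      rw [map_sub, map_mul, map_one, hb, ← hv, Units.mul_inv, sub_self])
    have := hn.isUnit_add_one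
    rwa [sub_add_cancel] at this
  have h2 : IsUnit (b * a) := by
    have hn : IsNilpotent (b * a - 1) := hker _ (by
      rw [map_sub, map_mul, map_one, hb, ← hv, Units.inv_mul, sub_self])
    have := hn.isUnit_add_one
    rwa [sub_add_cancel] at this
  obtain ⟨u1, hu1⟩ := h1
  obtain ⟨u2, hu2⟩ := h2
  have hr : a * (b * ↑u1⁻¹) = 1 := by rw [← mul_assoc, ← hu1, Units.mul_inv]
  have hl : (↑u2⁻¹ * b) * a = 1 := by rw [mul_assoc, ← hu2, Units.inv_mul]
  have hlr : (↑u2⁻¹ * b : R) = b * ↑u1⁻¹ := by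
    calc (↑u2⁻¹ * b : R) = (↑u2⁻¹ * b) * (a * (b * ↑u1⁻¹)) := by rw [hr, mul_one]
      _ = ((↑u2⁻¹ * b) * a) * (b * ↑u1⁻¹) := (mul_assoc _ _ _).symm
      _ = b * ↑u1⁻¹ := by rw [hl, one_mul]
  exact isUnit_iff_exists.mpr ⟨b * ↑u1⁻¹, hr, by rw [← hlr]; exact hl⟩

/-- **L1 without finiteness.** -/
theorem card_units_of_nilpotent_ker' (π : R →+* S) (hπ : Function.Surjective π)
    (hker : ∀ x, π x = 0 → IsNilpotent x) :
    Nat.card Rˣ = Nat.card (RingHom.ker π) * Nat.card Sˣ := by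
  let φ : Rˣ →* Sˣ := Units.map (π : R →* S)
  have hφ : Function.Surjective φ := by
    intro v
    obtain ⟨a, ha⟩ := hπ (v : S)
    have hu : IsUnit a := isUnit_of_map_isUnit π hπ hker a (by rw [ha]; exact v.isUnit)
    obtain ⟨u, rfl⟩ := hu
    exact ⟨u, Units.ext ha⟩
  have e1 : (Rˣ ⧸ φ.ker) ≃* Sˣ := QuotientGroup.quotientKerEquivOfSurjective φ hφ
  have hmem : ∀ u : Rˣ, u ∈ φ.ker ↔ π (u : R) = 1 := fun u => by
    rw [MonoidHom.mem_ker]
    constructor
    · intro h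
      have := congrArg Units.val h
      simpa [φ] using this
    · intro h
      exact Units.ext (by simpa [φ] using h)
  let f : φ.ker → RingHom.ker π := fun u => ⟨(u.1 : R) - 1, by
    rw [RingHom.mem_ker, map_sub, map_one, (hmem u.1).mp u.2, sub_self]⟩
  have hf : Function.Bijective f := by
    constructor
    · intro u u' h
      have h' : ((u.1 : Rˣ) : R) - 1 = ((u'.1 : Rˣ) : R) - 1 := congrArg Subtype.val h
      exact Subtype.ext (Units.ext (sub_left_injective h'))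
    · intro x
      have hx : IsUnit ((x : R) + 1) := (hker x.1 x.2).isUnit_add_one
      refine ⟨⟨hx.unit, (hmem _).mpr ?_⟩, Subtype.ext ?_⟩
      · rw [IsUnit.unit_spec, map_add, map_one, (RingHom.mem_ker).mp x.2, zero_add]
      · change ((hx.unit : Rˣ) : R) - 1 = x
        rw [IsUnit.unit_spec, add_sub_cancel_right]
  rw [Subgroup.card_eq_card_quotient_mul_card_subgroup φ.ker, Nat.card_congr e1.toEquiv,
    Nat.card_congr (Equiv.ofBijective f hf), mul_comm]

end Ring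

section Cat

variable {C : Type u} [Category.{v} C] [Abelian C] {O F : C} (ι : O ⟶ F) (p : F ⟶ O)
  (w : ι ≫ p = 0)

/-- (C2) every `F ⟶ O` factors through `p`. -/
theorem exists_desc (hS : (ShortComplex.mk ι p w).ShortExact) (hns : ¬ IsSplitEpi p)
    (hdiv : ∀ c : O ⟶ O, c ≠ 0 → IsIso c) (φ : F ⟶ O) : ∃ c : O ⟶ O, φ = p ≫ c := by
  haveI : Epi p := hS.epi_g
  haveI : Mono ι := hS.mono_f
  have h0 : ι ≫ φ = 0 := by
    by_contra hne
    haveI := hdiv _ hne
    have spl := ShortComplex.Splitting.ofExactOfRetraction (ShortComplex.mk ι p w) hS.exact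
      (φ ≫ inv (ι ≫ φ)) (by
        change ι ≫ φ ≫ inv (ι ≫ φ) = 𝟙 _
        rw [← Category.assoc, IsIso.hom_inv_id]) ‹Epi p›
    exact hns (IsSplitEpi.mk' ⟨spl.s, spl.s_g⟩)
  exact ⟨hS.exact.desc φ h0, (hS.exact.g_desc φ h0).symm⟩

/-- (C1) every `O ⟶ F` factors through `ι`. -/
theorem exists_lift (hS : (ShortComplex.mk ι p w).ShortExact) (hns : ¬ IsSplitEpi p)
    (hdiv : ∀ c : O ⟶ O, c ≠ 0 → IsIso c) (s : O ⟶ F) : ∃ c : O ⟶ O, s = c ≫ ι := by
  haveI : Epi p := hS.epi_g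
  haveI : Mono ι := hS.mono_f
  have h0 : s ≫ p = 0 := by
    by_contra hne
    haveI := hdiv _ hne
    exact hns (IsSplitEpi.mk' ⟨inv (s ≫ p) ≫ s, by rw [Category.assoc, IsIso.inv_hom_id]⟩)
  exact ⟨hS.exact.lift s h0, (hS.exact.lift_f s h0).symm⟩

theorem nontrivial_end (hns : ¬ IsSplitEpi p) : (𝟙 O : O ⟶ O) ≠ 0 := by
  intro h
  exact hns (IsSplitEpi.mk' ⟨0, by rw [zero_comp, h]⟩)

/-- the units of `End O` are the non-zero elements. -/
theorem card_units_end (hns : ¬ IsSplitEpi p) (hdiv : ∀ c : O ⟶ O, c ≠ 0 → IsIso c) :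
    Nat.card (End O)ˣ = Nat.card (O ⟶ O) - 1 := by
  classical
  have h10 : (1 : End O) ≠ 0 := nontrivial_end p hns
  let f : (End O)ˣ → {a : End O // a ≠ 0} := fun u => ⟨u.1, fun h => by
    apply h10
    have := u.mul_inv
    rw [h, zero_mul] at this
    exact this.symm⟩
  have hf : Function.Bijective f :=
    ⟨fun u u' h => Units.ext (congrArg Subtype.val h),
      fun a => by
        have hu : IsUnit a.1 := (isUnit_iff_isIso a.1).mpr (hdiv a.1 a.2)
        exact ⟨hu.unit, Subtype.ext hu.unit_spec⟩⟩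
  rw [Nat.card_congr (Equiv.ofBijective f hf), eq_comm]
  change Nat.card (End O) - 1 = _
  rw [← Nat.card_congr (Equiv.sumCompl (· = (0 : End O)))]
  rcases finite_or_infinite {a : End O // a ≠ 0}
  · rw [Nat.card_sum, Nat.card_unique, add_tsub_cancel_left]
  · rw [Nat.card_eq_zero_of_infinite, Nat.card_eq_zero_of_infinite, zero_tsub]

variable (hS : (ShortComplex.mk ι p w).ShortExact) (hns : ¬ IsSplitEpi p)
  (hdiv : ∀ c : O ⟶ O, c ≠ 0 → IsIso c)

/-- `χ(m)`: the endomorphism of `O` induced by `m : F ⟶ F` on the quotient. -/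
noncomputable def chi (m : F ⟶ F) : O ⟶ O := (exists_desc ι p w hS hns hdiv (m ≫ p)).choose

theorem chi_spec (m : F ⟶ F) : m ≫ p = p ≫ chi ι p w hS hns hdiv m :=
  (exists_desc ι p w hS hns hdiv (m ≫ p)).choose_spec

theorem chi_eq (m : F ⟶ F) (c : O ⟶ O) (h : m ≫ p = p ≫ c) : chi ι p w hS hns hdiv m = c := by
  haveI : Epi p := hS.epi_g
  rw [← cancel_epi p, ← chi_spec, h]

/-- `χ` as a ring homomorphism `End F →+* End O`. -/
noncomputable def chiHom : End F →+* End O where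
  toFun m := chi ι p w hS hns hdiv m
  map_one' := chi_eq ι p w hS hns hdiv _ _ (by
    change 𝟙 F ≫ p = p ≫ 𝟙 O
    rw [Category.id_comp, Category.comp_id])
  map_mul' m m' := chi_eq ι p w hS hns hdiv _ _ (by
    change (m' ≫ m) ≫ p = p ≫ (chi ι p w hS hns hdiv m' ≫ chi ι p w hS hns hdiv m)
    rw [Category.assoc, chi_spec ι p w hS hns hdiv m, ← Category.assoc,
      chi_spec ι p w hS hns hdiv m', Category.assoc])
  map_zero' := chi_eq ι p w hS hns hdiv _ _ (by
    change (0 : F ⟶ F) ≫ p = p ≫ (0 : O ⟶ O)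
    rw [zero_comp, comp_zero])
  map_add' m m' := chi_eq ι p w hS hns hdiv _ _ (by
    change (m + m') ≫ p = p ≫ (chi ι p w hS hns hdiv m + chi ι p w hS hns hdiv m')
    rw [Preadditive.add_comp, Preadditive.comp_add, chi_spec ι p w hS hns hdiv m,
      chi_spec ι p w hS hns hdiv m'])

theorem chiHom_apply (m : End F) : chiHom ι p w hS hns hdiv m = chi ι p w hS hns hdiv m := rfl

theorem chiHom_surjective (hlift : ∀ c : O ⟶ O, ∃ z : F ⟶ F, ι ≫ z = c ≫ ι ∧ z ≫ p = p ≫ c) :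
    Function.Surjective (chiHom ι p w hS hns hdiv) := by
  intro c
  obtain ⟨z, -, hz⟩ := hlift c
  exact ⟨z, chi_eq ι p w hS hns hdiv z c hz⟩

/-- the kernel of `χ` consists of the `p ≫ c ≫ ι`. -/
theorem mem_ker_chiHom_iff (m : End F) :
    m ∈ RingHom.ker (chiHom ι p w hS hns hdiv) ↔ ∃ c : O ⟶ O, (m : F ⟶ F) = p ≫ c ≫ ι := by
  haveI : Epi p := hS.epi_g
  haveI : Mono ι := hS.mono_f
  rw [RingHom.mem_ker, chiHom_apply]
  constructor
  · intro h
    have h0 : (m : F ⟶ F) ≫ p = 0 := by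
      rw [chi_spec ι p w hS hns hdiv m, h, comp_zero]
    obtain ⟨c, hc⟩ := exists_desc ι p w hS hns hdiv (hS.exact.lift (m : F ⟶ F) h0)
    refine ⟨c, ?_⟩
    have := hS.exact.lift_f (m : F ⟶ F) h0
    rw [hc] at this
    rw [← this, Category.assoc]
  · rintro ⟨c, hc⟩
    refine chi_eq ι p w hS hns hdiv _ _ ?_
    rw [hc]
    simp only [Category.assoc, w, comp_zero]

theorem isNilpotent_of_mem_ker (m : End F) (hm : chiHom ι p w hS hns hdiv m = 0) :
    IsNilpotent m := by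
  obtain ⟨c, hc⟩ := (mem_ker_chiHom_iff ι p w hS hns hdiv m).mp hm
  refine ⟨2, ?_⟩
  rw [pow_two]
  change (m : F ⟶ F) ≫ (m : F ⟶ F) = 0
  rw [hc]
  simp only [Category.assoc]
  rw [reassoc_of% w, zero_comp, comp_zero, comp_zero]

theorem card_ker_chiHom :
    Nat.card (RingHom.ker (chiHom ι p w hS hns hdiv)) = Nat.card (O ⟶ O) := by
  haveI : Epi p := hS.epi_g
  haveI : Mono ι := hS.mono_f
  let f : (O ⟶ O) → RingHom.ker (chiHom ι p w hS hns hdiv) := fun c =>
    ⟨(p ≫ c ≫ ι : F ⟶ F), (mem_ker_chiHom_iff ι p w hS hns hdiv _).mpr ⟨c, rfl⟩⟩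
  have hf : Function.Bijective f := by
    constructor
    · intro c c' h
      have h' : p ≫ c ≫ ι = p ≫ c' ≫ ι := congrArg Subtype.val h
      rw [cancel_epi, cancel_mono] at h'
      exact h'
    · intro m
      obtain ⟨c, hc⟩ := (mem_ker_chiHom_iff ι p w hS hns hdiv m.1).mp m.2
      exact ⟨c, Subtype.ext hc.symm⟩
  exact (Nat.card_congr (Equiv.ofBijective f hf)).symm

/-- **AT1a.** -/
theorem card_aut_nonsplit_mid' (hS : (ShortComplex.mk ι p w).ShortExact) (hns : ¬ IsSplitEpi p)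
    (hdiv : ∀ c : O ⟶ O, c ≠ 0 → IsIso c)
    (hlift : ∀ c : O ⟶ O, ∃ z : F ⟶ F, ι ≫ z = c ≫ ι ∧ z ≫ p = p ≫ c) :
    Nat.card (Aut F) = (Nat.card (O ⟶ O) - 1) * Nat.card (O ⟶ O) := by
  rw [← Nat.card_congr (Aut.unitsEndEquivAut F).toEquiv,
    card_units_of_nilpotent_ker' (chiHom ι p w hS hns hdiv)
      (chiHom_surjective ι p w hS hns hdiv hlift)
      (fun x hx => isNilpotent_of_mem_ker ι p w hS hns hdiv x hx),
    card_ker_chiHom, card_units_end p hns hdiv, mul_comm]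

end Cat

/-- **AT1a**, in the exact form requested by helper11. -/
theorem card_aut_nonsplit_mid {C : Type u} [Category.{v} C] [Abelian C] {O F : C} (ι : O ⟶ F)
    (p : F ⟶ O) (w : ι ≫ p = 0) (hS : (ShortComplex.mk ι p w).ShortExact)
    (hns : ¬ IsSplitEpi p) (hdiv : ∀ c : O ⟶ O, c ≠ 0 → IsIso c)
    (hlift : ∀ c : O ⟶ O, ∃ z : F ⟶ F, ι ≫ z = c ≫ ι ∧ z ≫ p = p ≫ c) [Finite (O ⟶ O)] :
    Nat.card (Aut F) = (Nat.card (O ⟶ O) - 1) * Nat.card (O ⟶ O) :=
  card_aut_nonsplit_mid' ι p w hS hns hdiv hlift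

end Groth.Agent.Lib.Helper7.AutCntA
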