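import Mathlib
import Groth.Agent.Lib.Helper7.AutCntA

/-!
# Helper library (helper7): automorphisms of `O ⊞ F` for a non-split self-extension `F` of `O`
(Mathlib only; for helper11, S18788)
-/

set_option autoImplicit false
universe v u
open CategoryTheory CategoryTheory.Limits

namespace Groth.Agent.Lib.Helper7.AutCntB

open Groth.Agent.Lib.Helper7.AutCntA

variable {C : Type u} [Category.{v} C] [Abelian C] {O F : C} (ι : O ⟶ F) (p : F ⟶ O)
  (w : ι ≫ p = 0) (hS : (ShortComplex.mk ι p w).ShortExact) (hns : ¬ IsSplitEpi p)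
  (hdiv : ∀ c : O ⟶ O, c ≠ 0 → IsIso c)

include hS hns hdiv in
theorem comp_p_eq_zero (s : O ⟶ F) : s ≫ p = 0 := by
  obtain ⟨c, rfl⟩ := exists_lift ι p w hS hns hdiv s
  rw [Category.assoc, w, comp_zero]

include hS hns hdiv in
theorem ι_comp_eq_zero (φ : F ⟶ O) : ι ≫ φ = 0 := by
  obtain ⟨c, rfl⟩ := exists_desc ι p w hS hns hdiv φ
  rw [← Category.assoc, w, zero_comp]

include hS hns hdiv in
/-- (Z1) every composite `O ⟶ F ⟶ O` vanishes. -/
theorem comp_eq_zero (s : O ⟶ F) (φ : F ⟶ O) : s ≫ φ = 0 := by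
  obtain ⟨c, rfl⟩ := exists_lift ι p w hS hns hdiv s
  rw [Category.assoc, ι_comp_eq_zero ι p w hS hns hdiv φ, comp_zero]

/-- (Z2) every composite `F ⟶ O ⟶ F` lies in the kernel of `χ`. -/
theorem chi_comp_eq_zero (φ : F ⟶ O) (s : O ⟶ F) : chi ι p w hS hns hdiv (φ ≫ s) = 0 :=
  chi_eq ι p w hS hns hdiv _ _ (by
    rw [Category.assoc, comp_p_eq_zero ι p w hS hns hdiv s, comp_zero, comp_zero])

theorem chi_add (m m' : F ⟶ F) :
    chi ι p w hS hns hdiv (m + m') = chi ι p w hS hns hdiv m + chi ι p w hS hns hdiv m' :=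
  chi_eq ι p w hS hns hdiv _ _ (by
    rw [Preadditive.add_comp, Preadditive.comp_add, chi_spec ι p w hS hns hdiv m,
      chi_spec ι p w hS hns hdiv m'])

theorem chi_comp (m' m : F ⟶ F) :
    chi ι p w hS hns hdiv (m' ≫ m) = chi ι p w hS hns hdiv m' ≫ chi ι p w hS hns hdiv m :=
  chi_eq ι p w hS hns hdiv _ _ (by
    rw [Category.assoc, chi_spec ι p w hS hns hdiv m, ← Category.assoc,
      chi_spec ι p w hS hns hdiv m', Category.assoc])

theorem chi_zero : chi ι p w hS hns hdiv (0 : F ⟶ F) = 0 :=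
  chi_eq ι p w hS hns hdiv _ _ (by rw [zero_comp, comp_zero])

theorem chi_id : chi ι p w hS hns hdiv (𝟙 F) = 𝟙 O :=
  chi_eq ι p w hS hns hdiv _ _ (by rw [Category.id_comp, Category.comp_id])

omit [Abelian C] in
theorem comp_decomp [Preadditive C] [HasBinaryBiproduct O F] (u' u : O ⊞ F ⟶ O ⊞ F)
    {X Y : C} (f : X ⟶ O ⊞ F) (g : O ⊞ F ⟶ Y) :
    f ≫ u' ≫ u ≫ g = (f ≫ u' ≫ biprod.fst) ≫ (biprod.inl ≫ u ≫ g) +
      (f ≫ u' ≫ biprod.snd) ≫ (biprod.inr ≫ u ≫ g) := by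
  have h1 : u' ≫ u = u' ≫ (biprod.fst ≫ biprod.inl + biprod.snd ≫ biprod.inr) ≫ u := by
    rw [biprod.total, Category.id_comp]
  have h2 : f ≫ u' ≫ u ≫ g = f ≫ (u' ≫ u) ≫ g := by simp only [Category.assoc]
  rw [h2, h1]
  simp only [Preadditive.add_comp, Preadditive.comp_add, Category.assoc]

/-- the two components of `π`. -/
noncomputable def piA (u : O ⊞ F ⟶ O ⊞ F) : O ⟶ O := biprod.inl ≫ u ≫ biprod.fst

noncomputable def piD (u : O ⊞ F ⟶ O ⊞ F) : O ⟶ O :=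
  chi ι p w hS hns hdiv (biprod.inr ≫ u ≫ biprod.snd)

include hS hns hdiv in
theorem piA_comp (u' u : O ⊞ F ⟶ O ⊞ F) :
    piA (O := O) (F := F) (u' ≫ u) = piA u' ≫ piA u := by
  unfold piA
  rw [Category.assoc, comp_decomp,
    comp_eq_zero ι p w hS hns hdiv (biprod.inl ≫ u' ≫ biprod.snd)
      (biprod.inr ≫ u ≫ biprod.fst), add_zero]

theorem piD_comp (u' u : O ⊞ F ⟶ O ⊞ F) :
    piD ι p w hS hns hdiv (u' ≫ u) = piD ι p w hS hns hdiv u' ≫ piD ι p w hS hns hdiv u := by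
  unfold piD
  rw [Category.assoc, comp_decomp, chi_add, chi_comp, chi_comp_eq_zero, zero_add]

theorem piA_add (u u' : O ⊞ F ⟶ O ⊞ F) :
    piA (O := O) (F := F) (u + u') = piA u + piA u' := by
  unfold piA
  rw [Preadditive.add_comp, Preadditive.comp_add]

theorem piD_add (u u' : O ⊞ F ⟶ O ⊞ F) :
    piD ι p w hS hns hdiv (u + u') = piD ι p w hS hns hdiv u + piD ι p w hS hns hdiv u' := by
  unfold piD
  rw [Preadditive.add_comp, Preadditive.comp_add, chi_add]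

/-- the ring homomorphism `End (O ⊞ F) →+* End O × End O`. -/
noncomputable def piHom : End (O ⊞ F) →+* End O × End O where
  toFun u := (piA (u : O ⊞ F ⟶ O ⊞ F), piD ι p w hS hns hdiv (u : O ⊞ F ⟶ O ⊞ F))
  map_one' := by
    refine Prod.ext ?_ ?_
    · change piA (𝟙 (O ⊞ F)) = 𝟙 O
      unfold piA
      rw [Category.id_comp, biprod.inl_fst]
    · change piD ι p w hS hns hdiv (𝟙 (O ⊞ F)) = 𝟙 O
      unfold piD
      rw [Category.id_comp, biprod.inr_snd, chi_id]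
  map_mul' u u' := by
    refine Prod.ext ?_ ?_
    · exact piA_comp ι p w hS hns hdiv (u' : O ⊞ F ⟶ O ⊞ F) (u : O ⊞ F ⟶ O ⊞ F)
    · exact piD_comp ι p w hS hns hdiv (u' : O ⊞ F ⟶ O ⊞ F) (u : O ⊞ F ⟶ O ⊞ F)
  map_zero' := by
    refine Prod.ext ?_ ?_
    · change piA (0 : O ⊞ F ⟶ O ⊞ F) = 0
      unfold piA
      rw [zero_comp, comp_zero]
    · change piD ι p w hS hns hdiv (0 : O ⊞ F ⟶ O ⊞ F) = 0
      unfold piD
      rw [zero_comp, comp_zero, chi_zero]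
  map_add' u u' := by
    refine Prod.ext ?_ ?_
    · exact piA_add (u : O ⊞ F ⟶ O ⊞ F) (u' : O ⊞ F ⟶ O ⊞ F)
    · exact piD_add ι p w hS hns hdiv (u : O ⊞ F ⟶ O ⊞ F) (u' : O ⊞ F ⟶ O ⊞ F)

theorem piHom_apply (u : End (O ⊞ F)) :
    piHom ι p w hS hns hdiv u =
      (piA (u : O ⊞ F ⟶ O ⊞ F), piD ι p w hS hns hdiv (u : O ⊞ F ⟶ O ⊞ F)) := rfl

theorem piHom_surjective (hlift : ∀ c : O ⟶ O, ∃ z : F ⟶ F, ι ≫ z = c ≫ ι ∧ z ≫ p = p ≫ c) :
    Function.Surjective (piHom ι p w hS hns hdiv) := by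
  rintro ⟨c1, c2⟩
  obtain ⟨z, -, hz⟩ := hlift c2
  refine ⟨(biprod.map c1 z : O ⊞ F ⟶ O ⊞ F), ?_⟩
  rw [piHom_apply]
  refine Prod.ext ?_ ?_
  · change piA (biprod.map c1 z) = c1
    unfold piA
    rw [← Category.assoc, biprod.inl_map, Category.assoc, biprod.inl_fst, Category.comp_id]
  · change piD ι p w hS hns hdiv (biprod.map c1 z) = c2
    unfold piD
    rw [← Category.assoc, biprod.inr_map, Category.assoc, biprod.inr_snd, Category.comp_id]
    exact chi_eq ι p w hS hns hdiv z c2 hz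

omit [Abelian C] in
theorem decomp [Preadditive C] [HasBinaryBiproduct O F] (u : O ⊞ F ⟶ O ⊞ F) :
    u = biprod.fst ≫ (biprod.inl ≫ u ≫ biprod.fst) ≫ biprod.inl +
      biprod.fst ≫ (biprod.inl ≫ u ≫ biprod.snd) ≫ biprod.inr +
      biprod.snd ≫ (biprod.inr ≫ u ≫ biprod.fst) ≫ biprod.inl +
      biprod.snd ≫ (biprod.inr ≫ u ≫ biprod.snd) ≫ biprod.inr := by
  apply biprod.hom_ext' <;> apply biprod.hom_ext <;>
    simp [Preadditive.add_comp, Preadditive.comp_add]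

/-- the normal form of an element of the kernel of `π`. -/
noncomputable def nf (β γ e : O ⟶ O) : O ⊞ F ⟶ O ⊞ F :=
  biprod.fst ≫ (β ≫ ι) ≫ biprod.inr + biprod.snd ≫ (p ≫ γ) ≫ biprod.inl +
    biprod.snd ≫ (p ≫ e ≫ ι) ≫ biprod.inr

include w in
theorem nf_cube (β γ e : O ⟶ O) : nf ι p β γ e ≫ nf ι p β γ e ≫ nf ι p β γ e = 0 := by
  unfold nf
  simp only [Preadditive.add_comp, Preadditive.comp_add, Category.assoc, biprod.inr_fst_assoc,
    biprod.inr_snd_assoc, biprod.inl_fst_assoc, biprod.inl_snd_assoc, reassoc_of% w, zero_comp,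
    comp_zero, add_zero, zero_add]

theorem mem_ker_piHom_iff (u : End (O ⊞ F)) :
    u ∈ RingHom.ker (piHom ι p w hS hns hdiv) ↔
      ∃ β γ e : O ⟶ O, (u : O ⊞ F ⟶ O ⊞ F) = nf ι p β γ e := by
  rw [RingHom.mem_ker, piHom_apply, Prod.ext_iff]
  constructor
  · rintro ⟨hA, hD⟩
    change piA (u : O ⊞ F ⟶ O ⊞ F) = 0 at hA
    change piD ι p w hS hns hdiv (u : O ⊞ F ⟶ O ⊞ F) = 0 at hD
    obtain ⟨β, hβ⟩ := exists_lift ι p w hS hns hdiv
      (biprod.inl ≫ (u : O ⊞ F ⟶ O ⊞ F) ≫ biprod.snd)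
    obtain ⟨γ, hγ⟩ := exists_desc ι p w hS hns hdiv
      (biprod.inr ≫ (u : O ⊞ F ⟶ O ⊞ F) ≫ biprod.fst)
    obtain ⟨e, he⟩ := (mem_ker_chiHom_iff ι p w hS hns hdiv
      ((biprod.inr ≫ (u : O ⊞ F ⟶ O ⊞ F) ≫ biprod.snd : F ⟶ F) : End F)).mp hD
    refine ⟨β, γ, e, ?_⟩
    have h := decomp (u : O ⊞ F ⟶ O ⊞ F)
    unfold piA at hA
    rw [hA, hβ, hγ] at h
    rw [show (biprod.inr ≫ (u : O ⊞ F ⟶ O ⊞ F) ≫ biprod.snd) = p ≫ e ≫ ι from he] at h
    rw [h]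
    unfold nf
    rw [zero_comp, comp_zero, zero_add]
  · rintro ⟨β, γ, e, hu⟩
    constructor
    · change piA (u : O ⊞ F ⟶ O ⊞ F) = 0
      rw [hu]
      unfold piA nf
      simp [Preadditive.add_comp, Preadditive.comp_add]
    · change piD ι p w hS hns hdiv (u : O ⊞ F ⟶ O ⊞ F) = 0
      rw [hu]
      unfold piD nf
      refine chi_eq ι p w hS hns hdiv _ _ ?_
      simp [Preadditive.add_comp, Preadditive.comp_add, w]

theorem isNilpotent_of_mem_ker_piHom (u : End (O ⊞ F)) (hu : piHom ι p w hS hns hdiv u = 0) :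
    IsNilpotent u := by
  obtain ⟨β, γ, e, h⟩ := (mem_ker_piHom_iff ι p w hS hns hdiv u).mp hu
  refine ⟨3, ?_⟩
  have h3 : u ^ 3 = u * (u * u) := by rw [pow_succ, pow_two, mul_assoc]
  rw [h3]
  change ((u : O ⊞ F ⟶ O ⊞ F) ≫ (u : O ⊞ F ⟶ O ⊞ F)) ≫ (u : O ⊞ F ⟶ O ⊞ F) = 0
  rw [h, Category.assoc]
  exact nf_cube ι p w β γ e

theorem card_ker_piHom :
    Nat.card (RingHom.ker (piHom ι p w hS hns hdiv)) = Nat.card (O ⟶ O) ^ 3 := by
  haveI : Epi p := hS.epi_g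
  haveI : Mono ι := hS.mono_f
  let f : (O ⟶ O) × (O ⟶ O) × (O ⟶ O) → RingHom.ker (piHom ι p w hS hns hdiv) := fun x =>
    ⟨(nf ι p x.1 x.2.1 x.2.2 : O ⊞ F ⟶ O ⊞ F),
      (mem_ker_piHom_iff ι p w hS hns hdiv _).mpr ⟨x.1, x.2.1, x.2.2, rfl⟩⟩
  have hf : Function.Bijective f := by
    constructor
    · rintro ⟨β, γ, e⟩ ⟨β', γ', e'⟩ h
      have h' : nf ι p β γ e = nf ι p β' γ' e' := congrArg Subtype.val h
      have hb := congrArg (fun m => biprod.inl ≫ m ≫ biprod.snd) h'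
      have hc := congrArg (fun m => biprod.inr ≫ m ≫ biprod.fst) h'
      have hd := congrArg (fun m => biprod.inr ≫ m ≫ biprod.snd) h'
      unfold nf at hb hc hd
      simp only [Preadditive.add_comp, Preadditive.comp_add, Category.assoc, biprod.inr_fst,
        biprod.inr_snd, biprod.inl_fst, biprod.inl_snd, biprod.inr_fst_assoc,
        biprod.inr_snd_assoc, biprod.inl_fst_assoc, biprod.inl_snd_assoc, zero_comp, comp_zero,
        add_zero, zero_add, Category.comp_id] at hb hc hd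
      rw [cancel_mono] at hb
      rw [cancel_epi] at hc
      rw [cancel_epi, cancel_mono] at hd
      rw [hb, hc, hd]
    · intro m
      obtain ⟨β, γ, e, h⟩ := (mem_ker_piHom_iff ι p w hS hns hdiv m.1).mp m.2
      exact ⟨(β, γ, e), Subtype.ext h.symm⟩
  rw [← Nat.card_congr (Equiv.ofBijective f hf), Nat.card_prod, Nat.card_prod]
  ring

/-- **AT1b.** -/
theorem card_aut_biprod_nonsplit' (hS : (ShortComplex.mk ι p w).ShortExact) (hns : ¬ IsSplitEpi p)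
    (hdiv : ∀ c : O ⟶ O, c ≠ 0 → IsIso c)
    (hlift : ∀ c : O ⟶ O, ∃ z : F ⟶ F, ι ≫ z = c ≫ ι ∧ z ≫ p = p ≫ c) :
    Nat.card (Aut (O ⊞ F)) = (Nat.card (O ⟶ O) - 1) ^ 2 * Nat.card (O ⟶ O) ^ 3 := by
  rw [← Nat.card_congr (Aut.unitsEndEquivAut (O ⊞ F)).toEquiv,
    card_units_of_nilpotent_ker' (piHom ι p w hS hns hdiv)
      (piHom_surjective ι p w hS hns hdiv hlift)
      (fun x hx => isNilpotent_of_mem_ker_piHom ι p w hS hns hdiv x hx),
    card_ker_piHom, Nat.card_congr (MulEquiv.prodUnits (M := End O) (N := End O)).toEquiv,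
    Nat.card_prod, card_units_end p hns hdiv]
  ring

end Groth.Agent.Lib.Helper7.AutCntB

namespace Groth.Agent.Lib.Helper7.AutCntB

/-- **AT1b**, in the form requested by helper11. -/
theorem card_aut_biprod_nonsplit {C : Type u} [Category.{v} C] [Abelian C] {O F : C} (ι : O ⟶ F)
    (p : F ⟶ O) (w : ι ≫ p = 0) (hS : (ShortComplex.mk ι p w).ShortExact)
    (hns : ¬ IsSplitEpi p) (hdiv : ∀ c : O ⟶ O, c ≠ 0 → IsIso c)
    (hlift : ∀ c : O ⟶ O, ∃ z : F ⟶ F, ι ≫ z = c ≫ ι ∧ z ≫ p = p ≫ c) [Finite (O ⟶ O)] :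
    Nat.card (Aut (O ⊞ F)) = (Nat.card (O ⟶ O) - 1) ^ 2 * Nat.card (O ⟶ O) ^ 3 :=
  card_aut_biprod_nonsplit' ι p w hS hns hdiv hlift

end Groth.Agent.Lib.Helper7.AutCntB
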