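import Groth.Agent.Lib.Helper7.VeroneseLib

set_option autoImplicit false

namespace Groth.Agent.Lib.Helper7

open DirectSum HomogeneousLocalization

section AwayVeronese

variable {R A : Type*} [CommRing R] [CommRing A] [Algebra R A] {𝒜 : ℕ → Submodule R A} [GradedAlgebra 𝒜]
  {B : Type*} [CommRing B] [Algebra R B] {ℬ : ℕ → Submodule R B} [GradedAlgebra ℬ]
  {d : ℕ} {φ : B →ₐ[R] A} (hdeg : ∀ n : ℕ, Submodule.map φ.toLinearMap (ℬ n) = 𝒜 (n * d))
  {f' : B} (hf : φ f' ∈ 𝒜 d)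

include hdeg in
theorem veronese_map_mem_smul {n : ℕ} {x : B} (hx : x ∈ ℬ n) : φ x ∈ 𝒜 (n • d) := by
  rw [smul_eq_mul]; exact veronese_map_mem hdeg hx

/-- The component maps `ℬ n → A_(f)`, `x ↦ φ x / f ^ n`. -/
noncomputable def awayComp (n : ℕ) : ℬ n →+ Away 𝒜 (φ f') where
  toFun x := Away.mk 𝒜 hf n (φ x) (veronese_map_mem_smul hdeg x.2)
  map_zero' := by
    apply val_injective
    simp [Localization.mk_zero]
  map_add' x y := by
    apply val_injective
    simp [Localization.add_mk_self]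

theorem val_awayComp (n : ℕ) (x : ℬ n) :
    (awayComp hdeg hf n x).val =
      Localization.mk (φ x) (⟨φ f' ^ n, ⟨n, rfl⟩⟩ : Submonoid.powers (φ f')) := rfl

theorem awayComp_one : awayComp hdeg hf 0 (GradedMonoid.GOne.one (A := fun i => ℬ i)) = 1 := by
  apply val_injective
  rw [val_one, val_awayComp]
  have h1 : ((GradedMonoid.GOne.one (A := fun i => ℬ i) : ℬ 0) : B) = 1 := SetLike.coe_gOne _
  rw [h1, map_one]
  have h2 : (⟨φ f' ^ 0, ⟨0, rfl⟩⟩ : Submonoid.powers (φ f')) = 1 := Subtype.ext (pow_zero _)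
  rw [h2, Localization.mk_one]

theorem awayComp_mul {i j : ℕ} (x : ℬ i) (y : ℬ j) :
    awayComp hdeg hf (i + j) (GradedMonoid.GMul.mul (A := fun i => ℬ i) x y) =
      awayComp hdeg hf i x * awayComp hdeg hf j y := by
  apply val_injective
  rw [val_mul, val_awayComp, val_awayComp, val_awayComp]
  have h1 : ((GradedMonoid.GMul.mul (A := fun i => ℬ i) x y : ℬ (i + j)) : B) = x * y :=
    SetLike.coe_gMul _ _ _
  rw [h1, map_mul, Localization.mk_mul]
  congr 1
  exact Subtype.ext (pow_add _ _ _)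

noncomputable def awayHom : B →+* Away 𝒜 (φ f') :=
  (DirectSum.toSemiring (awayComp hdeg hf) (awayComp_one hdeg hf)
    (fun x y => awayComp_mul hdeg hf x y)).comp (decomposeRingEquiv ℬ).toRingHom

theorem awayHom_of_mem {n : ℕ} {x : B} (hx : x ∈ ℬ n) :
    awayHom hdeg hf x = Away.mk 𝒜 hf n (φ x) (veronese_map_mem_smul hdeg hx) := by
  have h1 : (decomposeRingEquiv ℬ).toRingHom x = DirectSum.of (fun i => ℬ i) n ⟨x, hx⟩ :=
    decompose_of_mem ℬ hx
  rw [awayHom, RingHom.comp_apply, h1, toSemiring_of]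
  rfl

theorem awayHom_self (hf1 : f' ∈ ℬ 1) : awayHom hdeg hf f' = 1 := by
  rw [awayHom_of_mem hdeg hf hf1]
  apply val_injective
  rw [val_one, Away.val_mk]
  have h2 : (⟨φ f' ^ 1, ⟨1, rfl⟩⟩ : Submonoid.powers (φ f')) = ⟨φ f', ⟨1, pow_one _⟩⟩ :=
    Subtype.ext (pow_one _)
  rw [h2]
  exact Localization.mk_self (⟨φ f', ⟨1, pow_one _⟩⟩ : Submonoid.powers (φ f'))

theorem awayHom_surjective : Function.Surjective (awayHom (ℬ := ℬ) hdeg hf) := by
  intro z
  obtain ⟨n, a, ha, rfl⟩ := Away.mk_surjective 𝒜 hf z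
  obtain ⟨x, hx, rfl⟩ := veronese_exists_preimage hdeg (by rwa [smul_eq_mul] at ha)
  exact ⟨x, awayHom_of_mem hdeg hf hx⟩

theorem exists_homog_rep (hf1 : f' ∈ ℬ 1) (x : B) :
    ∃ (N : ℕ) (y : B), y ∈ ℬ N ∧
      Ideal.Quotient.mk (Ideal.span {f' - 1}) y = Ideal.Quotient.mk (Ideal.span {f' - 1}) x ∧
      awayHom hdeg hf y = awayHom hdeg hf x := by
  have hπ : Ideal.Quotient.mk (Ideal.span {f' - 1}) f' = 1 := by
    rw [← sub_eq_zero, ← map_one (Ideal.Quotient.mk (Ideal.span {f' - 1})), ← map_sub,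
      Ideal.Quotient.eq_zero_iff_mem]
    exact Ideal.mem_span_singleton_self _
  induction x using DirectSum.Decomposition.inductionOn ℬ with
  | zero => exact ⟨0, 0, zero_mem _, rfl, rfl⟩
  | @homogeneous i x => exact ⟨i, x, x.2, rfl, rfl⟩
  | add x x' hx hx' =>
    obtain ⟨N, y, hy, h1, h2⟩ := hx
    obtain ⟨N', y', hy', h1', h2'⟩ := hx'
    refine ⟨N + N', y * f' ^ N' + y' * f' ^ N, add_mem ?_ ?_, ?_, ?_⟩
    · have := SetLike.mul_mem_graded hy (SetLike.pow_mem_graded N' hf1)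
      simpa using this
    · have := SetLike.mul_mem_graded hy' (SetLike.pow_mem_graded N hf1)
      simpa [add_comm] using this
    · simp [hπ, h1, h1']
    · simp [awayHom_self hdeg hf hf1, h2, h2']

theorem awayHom_ker (hφ : Function.Injective φ) (hf1 : f' ∈ ℬ 1) (x : B)
    (hx : awayHom hdeg hf x = 0) : x ∈ Ideal.span {f' - 1} := by
  have hπ : Ideal.Quotient.mk (Ideal.span {f' - 1}) f' = 1 := by
    rw [← sub_eq_zero, ← map_one (Ideal.Quotient.mk (Ideal.span {f' - 1})), ← map_sub,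
      Ideal.Quotient.eq_zero_iff_mem]
    exact Ideal.mem_span_singleton_self _
  obtain ⟨N, y, hy, h1, h2⟩ := exists_homog_rep hdeg hf hf1 x
  rw [← Ideal.Quotient.eq_zero_iff_mem, ← h1]
  rw [hx, awayHom_of_mem hdeg hf hy] at h2
  have h3 := congrArg HomogeneousLocalization.val h2
  rw [Away.val_mk, val_zero, Localization.mk_eq_mk'_apply, IsLocalization.mk'_eq_zero_iff] at h3
  obtain ⟨⟨_, k, rfl⟩, hk⟩ := h3
  have h4 : f' ^ k * y = 0 := by
    apply hφ
    rw [map_mul, map_pow, map_zero]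
    exact hk
  have := congrArg (Ideal.Quotient.mk (Ideal.span {f' - 1})) h4
  rwa [map_mul, map_pow, hπ, one_pow, one_mul, map_zero] at this

/-- The induced map on the quotient. -/
noncomputable def awayQuot (hf1 : f' ∈ ℬ 1) : B ⧸ Ideal.span {f' - 1} →+* Away 𝒜 (φ f') :=
  Ideal.Quotient.lift _ (awayHom hdeg hf) (by
    have : Ideal.span {f' - 1} ≤ RingHom.ker (awayHom (ℬ := ℬ) hdeg hf) := by
      rw [Ideal.span_singleton_le_iff_mem, RingHom.mem_ker, map_sub,
        awayHom_self hdeg hf hf1, map_one, sub_self]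
    exact fun a ha => RingHom.mem_ker.mp (this ha))

theorem awayQuot_bijective (hφ : Function.Injective φ) (hf1 : f' ∈ ℬ 1) :
    Function.Bijective (awayQuot (ℬ := ℬ) hdeg hf hf1) := by
  constructor
  · rw [injective_iff_map_eq_zero]
    intro y hy
    obtain ⟨x, rfl⟩ := Ideal.Quotient.mk_surjective y
    rw [Ideal.Quotient.eq_zero_iff_mem]
    exact awayHom_ker hdeg hf hφ hf1 x (by simpa [awayQuot] using hy)
  · exact Ideal.Quotient.lift_surjective_of_surjective _ _ (awayHom_surjective hdeg hf)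

include hdeg hf in
theorem away_ringEquiv_veronese_quotient (hφ : Function.Injective φ) (hf1 : f' ∈ ℬ 1) :
    ∃ e : Away 𝒜 (φ f') ≃+* B ⧸ Ideal.span {f' - 1},
      ∀ (n : ℕ) (x : B), x ∈ ℬ n →
        (e.symm (Ideal.Quotient.mk (Ideal.span {f' - 1}) x)).val =
          Localization.mk (φ x) ⟨φ f' ^ n, pow_mem (Submonoid.mem_powers (φ f')) n⟩ := by
  refine ⟨(RingEquiv.ofBijective _ (awayQuot_bijective hdeg hf hφ hf1)).symm, ?_⟩
  intro n x hx
  rw [RingEquiv.symm_symm, RingEquiv.ofBijective_apply]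
  change (awayHom hdeg hf x).val = _
  rw [awayHom_of_mem hdeg hf hx]
  rfl

end AwayVeronese

end Groth.Agent.Lib.Helper7
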