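import Mathlib
import Groth.Prelude
import Groth.Agent.Lib.Helper7.GrowthG

/-!
# Helper library (helper7): a nonempty projective scheme over a field has finite dimension
-/

set_option autoImplicit false
set_option linter.unusedSectionVars false
set_option linter.style.haveILetI false
universe u
open CategoryTheory CategoryTheory.Limits AlgebraicGeometry Opposite TopologicalSpace Polynomial
open Scheme.Modules

namespace Groth.Agent.Lib.Helper7.GrowthH

open Groth.Agent.Lib.Helper3 Groth.Agent.Lib.Helper3.InvGen
open Groth.Agent.Lib.Helper23 Groth.Agent.Lib.Helper23.HilbP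
open Groth.Agent.Lib.Helper17

variable (k : Type u) [Field k] (X : Scheme.{u}) [X.Over (Spec (CommRingCat.of k))]
  [IsProper (X ↘ Spec (CommRingCat.of k))]

include k in
theorem exists_dim_eq [Nonempty X] {H : X.Modules} (hH : CohB1.IsAmple H) :
    ∃ d : ℕ, topologicalKrullDim X = d := by
  haveI : IsNoetherian X := isNoetherian_of_isProper k X
  have hO := T2.isCoh_structureModule X
  have hOinv := isInvertible_structureModule X
  have h0 : ¬ IsZero (Coh.structureModule X) := by
    intro hz
    have h1 := DevBasic.support_eq_empty_of_isZero hz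
    rw [support_invertible hOinv] at h1
    exact Set.univ_nonempty.ne_empty h1
  obtain ⟨Q, hQ⟩ := exists_isHilbPoly k X hH _ hO
  have h1 := dim_eq_natDegree k hH _ hO h0 hQ
  rw [support_invertible hOinv] at h1
  have h2 : topologicalKrullDim ↥(Set.univ : Set X) = topologicalKrullDim X :=
    (Homeomorph.Set.univ X).isHomeomorph.topologicalKrullDim_eq
  exact ⟨Q.natDegree, h2 ▸ h1⟩

end Groth.Agent.Lib.Helper7.GrowthH
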