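import Mathlib
import Groth.Prelude
import Groth.Agent.Lib.Helper7.GrowthH

/-!
# Helper library (helper7): big invertible modules in the "ample embeds in a power" form

`IsBigM L`: every ample `A` admits a monomorphism `A ↪ L^m` for some `m > 0`.  Ample modules are
big, big ⊗ effective is big, and a power of a big module is ample ⊗ effective.
-/

set_option autoImplicit false
set_option linter.unusedSectionVars false
set_option linter.style.haveILetI false
universe u
open CategoryTheory CategoryTheory.Limits AlgebraicGeometry Opposite TopologicalSpace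
open Scheme.Modules

namespace Groth.Agent.Lib.Helper7.BigConeA

open Groth.Agent.Lib.Helper3 Groth.Agent.Lib.Helper3.InvMonoidal Groth.Agent.Lib.Helper3.InvTensor
open Groth.Agent.Lib.Helper3.InvGen
open Groth.Agent.Lib.Helper23 Groth.Agent.Lib.Helper23.HilbP
open Groth.Agent.Lib.Helper7.SnapFGA Groth.Agent.Lib.Helper7.TwFun
open Groth.Agent.Lib.Helper7.VolMono Groth.Agent.Lib.Helper7.GrowthA
open Groth.Agent.Lib.Helper7.GrowthC Groth.Agent.Lib.Helper7.GrowthG

/-- bigness in the form used for the cones. -/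
def IsBigM {X : Scheme.{u}} (L : X.Modules) : Prop :=
  ∀ A : X.Modules, CohB1.IsAmple A → ∃ (m : ℕ) (φ : A ⟶ CohB1.tensorPow L m), 0 < m ∧ Mono φ

variable (k : Type u) [Field k] (X : Scheme.{u}) [X.Over (Spec (CommRingCat.of k))]
  [IsProper (X ↘ Spec (CommRingCat.of k))]

include k in
/-- ample modules are big. -/
theorem isBigM_of_isAmple [IsIntegral X] {L : X.Modules} (hL : CohB1.IsAmple L) : IsBigM L := by
  intro A hA
  haveI : IsNoetherian X := isNoetherian_of_isProper k X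
  obtain ⟨eA⟩ := Groth.Agent.Lib.Helper23.Inverse.tensor_dual_iso hA.1
  have hA' := isInvertible_of_inverse hA.1 ⟨eA⟩
  obtain ⟨n₀, hn₀⟩ := exists_section_twist k X hL _ hA'
  have hpos := hn₀ (n₀ + 1) (Nat.le_succ n₀)
  have hinv : PicF.IsInvertible (CohB1.tensorMod (Groth.Agent.Lib.Helper23.Inverse.dual A)
      (CohB1.tensorPow L (n₀ + 1))) :=
    isInvertible_tensorMod hA' (isInvertible_tensorPow hL.1 _)
  obtain ⟨s, hs⟩ := exists_section_of_pos k X _
    ⟨InvCoh.isQuasicoherent_of_isInvertible hinv, InvCoh.isFiniteType_of_isInvertible hinv⟩ hpos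
  obtain ⟨φ, hφ⟩ := mono_of_section hA.1 (braid _ _ ≪≫ eA) _
    (isInvertible_tensorPow hL.1 (n₀ + 1)) s hs
  exact ⟨n₀ + 1, φ, Nat.succ_pos n₀, hφ⟩

include k in
/-- big ⊗ effective is big. -/
theorem isBigM_tensor [IsIntegral X] {L G : X.Modules} (hL : PicF.IsInvertible L)
    (hG : PicF.IsInvertible G) (hbig : IsBigM L) (t : Coh.structureModule X ⟶ G) (ht : t ≠ 0) :
    IsBigM (CohB1.tensorMod L G) := by
  intro A hA
  haveI : IsNoetherian X := isNoetherian_of_isProper k X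
  obtain ⟨m, φ, hm, hφ⟩ := hbig A hA
  have hLm := isInvertible_tensorPow hL m
  have hGm := isInvertible_tensorPow hG m
  have hGmc : Coh.IsCoh (CohB1.tensorPow G m) :=
    ⟨InvCoh.isQuasicoherent_of_isInvertible hGm, InvCoh.isFiniteType_of_isInvertible hGm⟩
  obtain ⟨tm, htm⟩ := exists_section_of_pos k X _ hGmc (finrank_H0_pow_pos k X G hG t ht m)
  obtain ⟨eLm⟩ := Groth.Agent.Lib.Helper23.Inverse.tensor_dual_iso hLm
  -- `G^m ≅ (L^m)' ⊗ (L^m ⊗ G^m)`
  let e₁ : CohB1.tensorPow G m ≅ CohB1.tensorMod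
      (Groth.Agent.Lib.Helper23.Inverse.dual (CohB1.tensorPow L m))
      (CohB1.tensorMod (CohB1.tensorPow L m) (CohB1.tensorPow G m)) :=
    (unitorL _).symm ≪≫ tensorMapIso (braid _ _ ≪≫ eLm).symm (Iso.refl _) ≪≫ assoc _ _ _
  have hs : tm ≫ e₁.hom ≠ 0 := by
    intro h0
    apply htm
    have h1 : tm = (tm ≫ e₁.hom) ≫ e₁.inv := by simp
    rw [h1, h0, zero_comp]
  obtain ⟨ψ, hψ⟩ := mono_of_section hLm (braid _ _ ≪≫ eLm) _
    (isInvertible_tensorMod hLm hGm) _ hs
  haveI := hφ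
  haveI := hψ
  exact ⟨m, φ ≫ ψ ≫ (powTensor L G m).inv, hm, inferInstance⟩

/-- a power of a big module is ample ⊗ effective. -/
theorem exists_iso_of_isBigM [IsIntegral X] {H : X.Modules} (hH : CohB1.IsAmple H)
    {L : X.Modules} (hL : PicF.IsInvertible L) (hbig : IsBigM L) :
    ∃ (m : ℕ) (E : X.Modules), 0 < m ∧ PicF.IsInvertible E ∧
      (∃ s : Coh.structureModule X ⟶ E, s ≠ 0) ∧
      Nonempty (CohB1.tensorPow L m ≅ CohB1.tensorMod H E) := by
  obtain ⟨m, φ, hm, hφ⟩ := hbig H hH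
  haveI := hφ
  obtain ⟨eH⟩ := Groth.Agent.Lib.Helper23.Inverse.tensor_dual_iso hH.1
  have hH' := isInvertible_of_inverse hH.1 ⟨eH⟩
  obtain ⟨s, hs⟩ := section_of_mono hH.1 (braid _ _ ≪≫ eH) _ φ
  exact ⟨m, _, hm, isInvertible_tensorMod hH' (isInvertible_tensorPow hL m), ⟨s, hs⟩,
    ⟨(unitorL _).symm ≪≫ tensorMapIso eH.symm (Iso.refl _) ≪≫ assoc _ _ _⟩⟩

end Groth.Agent.Lib.Helper7.BigConeA
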