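import Mathlib
import Groth.Prelude
import Groth.Agent.Lib.Helper7.BigConeA
import Groth.Agent.Lib.Helper7.AmpleConeOpen

/-!
# Helper library (helper7): the big cone is the sum of the ample cone and the effective cone
-/

set_option autoImplicit false
set_option linter.unusedSectionVars false
set_option linter.style.haveILetI false
universe u
open CategoryTheory CategoryTheory.Limits AlgebraicGeometry Opposite TopologicalSpace
open Scheme.Modules

namespace Groth.Agent.Lib.Helper7.BigConeB

open Groth.Agent.Lib.Helper3 Groth.Agent.Lib.Helper3.InvMonoidal Groth.Agent.Lib.Helper3.InvTensor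
open Groth.Agent.Lib.Helper3.InvGen
open Groth.Agent.Lib.Helper23 Groth.Agent.Lib.Helper23.HilbP
open Groth.Agent.Lib.Helper7.SnapFGA
open Groth.Agent.Lib.Helper7.VolMono Groth.Agent.Lib.Helper7.GrowthC
open Groth.Agent.Lib.Helper7.BigConeA Groth.Agent.Lib.Helper7.AmpleConeOpen

variable (k : Type u) [Field k] (X : Scheme.{u}) [X.Over (Spec (CommRingCat.of k))]
  [IsProper (X ↘ Spec (CommRingCat.of k))] [PicGrp.Law X]

/-- the big cone. -/
noncomputable abbrev bigCone : ConvexCone ℝ (NumR.N1R k X) :=
  NumR.coneOf k X (fun L : X.Modules => IsBigM L)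

theorem clR_mem_bigCone {L : X.Modules} (hL : PicF.IsInvertible L) (hbig : IsBigM L) :
    NumR.clR k X L hL ∈ bigCone k X :=
  ConvexCone.subset_hull ⟨L, hL, hbig, rfl⟩

theorem clR_mem_ampleCone {L : X.Modules} (hL : CohB1.IsAmple L) :
    NumR.clR k X L hL.1 ∈ NumR.ampleCone k X :=
  ConvexCone.subset_hull ⟨L, hL.1, hL, rfl⟩

theorem clR_mem_effCone {L : X.Modules} (hL : PicF.IsInvertible L)
    (s : Coh.structureModule X ⟶ L) (hs : s ≠ 0) :
    NumR.clR k X L hL ∈ NumR.effCone k X :=
  ConvexCone.subset_hull ⟨L, hL, ⟨s, hs⟩, rfl⟩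

theorem ampleCone_le_bigCone [IsIntegral X] : NumR.ampleCone k X ≤ bigCone k X := by
  apply ConvexCone.hull_min
  rintro _ ⟨L, hLinv, hL, rfl⟩
  exact clR_mem_bigCone k X hLinv (isBigM_of_isAmple k X hL)

/-- the class of a big module is ample plus effective. -/
theorem clR_big_decomp [IsIntegral X] {H : X.Modules} (hH : CohB1.IsAmple H) {L : X.Modules}
    (hL : PicF.IsInvertible L) (hbig : IsBigM L) :
    ∃ a ∈ NumR.ampleCone k X, NumR.clR k X L hL - a ∈ NumR.effCone k X := by
  obtain ⟨m, E, hm, hE, ⟨s, hs⟩, ⟨e⟩⟩ := exists_iso_of_isBigM X hH hL hbig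
  have hmr : (0 : ℝ) < (m : ℝ) := by exact_mod_cast hm
  have h1 : (m : ℝ) • NumR.clR k X L hL = NumR.clR k X H hH.1 + NumR.clR k X E hE := by
    rw [← clR_tensorPow k X hL m, clR_iso k X e (isInvertible_tensorPow hL m)
      (isInvertible_tensorMod hH.1 hE), clR_tensorMod k X hH.1 hE]
  have h2 : NumR.clR k X L hL = (1 / (m : ℝ)) • NumR.clR k X H hH.1 +
      (1 / (m : ℝ)) • NumR.clR k X E hE := by
    rw [← smul_add, ← h1, smul_smul, one_div_mul_cancel hmr.ne', one_smul]
  refine ⟨(1 / (m : ℝ)) • NumR.clR k X H hH.1,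
    (NumR.ampleCone k X).smul_mem (by positivity) (clR_mem_ampleCone k X hH), ?_⟩
  rw [h2, add_sub_cancel_left]
  exact (NumR.effCone k X).smul_mem (by positivity) (clR_mem_effCone k X hE s hs)

/-- the sum of the ample and the effective cone, as a cone. -/
noncomputable def sumCone : ConvexCone ℝ (NumR.N1R k X) where
  carrier := {x | ∃ a ∈ NumR.ampleCone k X, x - a ∈ NumR.effCone k X}
  smul_mem' := by
    rintro c hc x ⟨a, ha, hxa⟩
    refine ⟨c • a, (NumR.ampleCone k X).smul_mem hc ha, ?_⟩
    rw [← smul_sub]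
    exact (NumR.effCone k X).smul_mem hc hxa
  add_mem' := by
    rintro x ⟨a, ha, hxa⟩ y ⟨b, hb, hyb⟩
    refine ⟨a + b, (NumR.ampleCone k X).add_mem ha hb, ?_⟩
    have : x + y - (a + b) = (x - a) + (y - b) := by abel
    rw [this]
    exact (NumR.effCone k X).add_mem hxa hyb

theorem bigCone_le_sumCone [IsIntegral X] {H : X.Modules} (hH : CohB1.IsAmple H) :
    bigCone k X ≤ sumCone k X := by
  apply ConvexCone.hull_min
  rintro _ ⟨L, hLinv, hL, rfl⟩
  exact clR_big_decomp k X hH hLinv hL

/-- big plus a positive multiple of effective is in the big cone (generators). -/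
theorem clR_add_smul_mem [IsIntegral X] {L E : X.Modules} (hL : PicF.IsInvertible L)
    (hE : PicF.IsInvertible E) (hbig : IsBigM L) (s : Coh.structureModule X ⟶ E) (hs : s ≠ 0)
    (t : ℝ) (ht : 0 < t) :
    NumR.clR k X L hL + t • NumR.clR k X E hE ∈ bigCone k X := by
  haveI : IsNoetherian X := isNoetherian_of_isProper k X
  set N : ℕ := ⌈t⌉₊ + 1 with hN
  have hNt : t < (N : ℝ) := by
    have := Nat.le_ceil t
    rw [hN]
    push_cast
    linarith
  have hN0 : (0 : ℝ) < (N : ℝ) := lt_trans ht hNt
  have hEN := isInvertible_tensorPow hE N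
  have hENc : Coh.IsCoh (CohB1.tensorPow E N) :=
    ⟨InvCoh.isQuasicoherent_of_isInvertible hEN, InvCoh.isFiniteType_of_isInvertible hEN⟩
  obtain ⟨tN, htN⟩ := exists_section_of_pos k X _ hENc (finrank_H0_pow_pos k X E hE s hs N)
  have hbigN := isBigM_tensor k X hL hEN hbig tN htN
  have hinv := isInvertible_tensorMod hL hEN
  have hcl : NumR.clR k X (CohB1.tensorMod L (CohB1.tensorPow E N)) hinv =
      NumR.clR k X L hL + (N : ℝ) • NumR.clR k X E hE := by
    rw [clR_tensorMod k X hL hEN, clR_tensorPow k X hE N]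
  have hdecomp : NumR.clR k X L hL + t • NumR.clR k X E hE =
      (1 - t / N) • NumR.clR k X L hL +
        (t / N) • NumR.clR k X (CohB1.tensorMod L (CohB1.tensorPow E N)) hinv := by
    rw [hcl, smul_add, smul_smul, div_mul_cancel₀ t hN0.ne', ← add_assoc, ← add_smul]
    simp
  rw [hdecomp]
  have h1 : 0 < 1 - t / N := by
    rw [sub_pos, div_lt_one hN0]
    exact hNt
  exact (bigCone k X).add_mem ((bigCone k X).smul_mem h1 (clR_mem_bigCone k X hL hbig))
    ((bigCone k X).smul_mem (by positivity) (clR_mem_bigCone k X hinv hbigN))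

/-- adding an effective class preserves the big cone. -/
theorem add_mem_bigCone [IsIntegral X] {b e : NumR.N1R k X} (hb : b ∈ bigCone k X)
    (he : e ∈ NumR.effCone k X) : b + e ∈ bigCone k X := by
  -- the cone of classes `e` that can be added
  let CP : ConvexCone ℝ (NumR.N1R k X) :=
    { carrier := {e | ∀ b ∈ bigCone k X, b + e ∈ bigCone k X}
      smul_mem' := by
        intro c hc e he b hb
        have h1 := he (c⁻¹ • b) ((bigCone k X).smul_mem (inv_pos.mpr hc) hb)
        have h2 := (bigCone k X).smul_mem hc h1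
        rwa [smul_add, smul_smul, mul_inv_cancel₀ hc.ne', one_smul] at h2
      add_mem' := by
        intro e₁ h₁ e₂ h₂ b hb
        rw [← add_assoc]
        exact h₂ _ (h₁ b hb) }
  have hle : NumR.effCone k X ≤ CP := by
    apply ConvexCone.hull_min
    rintro _ ⟨E, hE, ⟨s, hs⟩, rfl⟩
    -- the cone of big classes to which all positive multiples of `[E]` can be added
    let CQ : ConvexCone ℝ (NumR.N1R k X) :=
      { carrier := {b | ∀ t : ℝ, 0 < t → b + t • NumR.clR k X E hE ∈ bigCone k X}
        smul_mem' := by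
          intro c hc b hb t ht
          have h1 := hb (t / c) (div_pos ht hc)
          have h2 := (bigCone k X).smul_mem hc h1
          rwa [smul_add, smul_smul, mul_div_cancel₀ t hc.ne'] at h2
        add_mem' := by
          intro b₁ h₁ b₂ h₂ t ht
          have h3 := (bigCone k X).add_mem (h₁ (t / 2) (by positivity)) (h₂ (t / 2) (by positivity))
          have h4 : b₁ + (t / 2) • NumR.clR k X E hE + (b₂ + (t / 2) • NumR.clR k X E hE) =
              b₁ + b₂ + t • NumR.clR k X E hE := by
            have : t • NumR.clR k X E hE = (t / 2) • NumR.clR k X E hE +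
                (t / 2) • NumR.clR k X E hE := by
              rw [← add_smul, add_halves]
            rw [this]
            abel
          rwa [h4] at h3 }
    have hle' : bigCone k X ≤ CQ := by
      apply ConvexCone.hull_min
      rintro _ ⟨L, hLinv, hL, rfl⟩
      intro t ht
      exact clR_add_smul_mem k X hLinv hE hL s hs t ht
    intro b hb
    have := hle' hb 1 one_pos
    rwa [one_smul] at this
  exact hle he b hb

/-- the big cone is the sum of the ample cone and the effective cone. -/
theorem mem_bigCone_iff [IsIntegral X] {H : X.Modules} (hH : CohB1.IsAmple H)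
    (x : NumR.N1R k X) :
    x ∈ bigCone k X ↔ ∃ a ∈ NumR.ampleCone k X, x - a ∈ NumR.effCone k X := by
  constructor
  · intro hx
    exact bigCone_le_sumCone k X hH hx
  · rintro ⟨a, ha, hxa⟩
    have := add_mem_bigCone k X (ampleCone_le_bigCone k X ha) hxa
    rwa [add_sub_cancel] at this

end Groth.Agent.Lib.Helper7.BigConeB
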