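import Mathlib

/-!
# Linear algebra / topology (Mathlib-only): `Big = Amp + Eff` is the interior of the closure of
`Eff`, and has the same closure as `Eff`, when `Amp` is open, nonempty and contained in `Eff`.
-/

set_option autoImplicit false

open Filter Topology Pointwise

namespace Groth.Agent.Lib.Helper7.BigConeLA

variable {V : Type*} [AddCommGroup V] [Module ℝ V] [TopologicalSpace V] [IsTopologicalAddGroup V]
  [ContinuousSMul ℝ V]

theorem big_eq_interior (Amp Eff Big : ConvexCone ℝ V)
    (h1 : ∀ x, x ∈ Big ↔ ∃ a ∈ Amp, x - a ∈ Eff)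
    (h2 : IsOpen (Amp : Set V)) (h3 : Amp ≤ Eff) (h : V) (hh : h ∈ Amp) :
    (Big : Set V) = interior (closure (Eff : Set V)) ∧
      closure (Eff : Set V) = closure (Big : Set V) := by
  have hBE : (Big : Set V) ⊆ (Eff : Set V) := by
    intro x hx
    obtain ⟨a, ha, hxa⟩ := (h1 x).mp hx
    have := Eff.add_mem (h3 ha) hxa
    rwa [add_sub_cancel] at this
  have hsum : (Big : Set V) = (Eff : Set V) + (Amp : Set V) := by
    ext x
    rw [Set.mem_add]
    constructor
    · intro hx
      obtain ⟨a, ha, hxa⟩ := (h1 x).mp hx
      exact ⟨x - a, hxa, a, ha, by abel⟩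
    · rintro ⟨e, he, a, ha, rfl⟩
      exact (h1 _).mpr ⟨a, ha, by rwa [add_sub_cancel_right]⟩
  have hopen : IsOpen (Big : Set V) := by
    rw [hsum]
    exact h2.add_left
  constructor
  · apply Set.Subset.antisymm (interior_maximal (hBE.trans subset_closure) hopen)
    intro x hx
    have hcont : Continuous (fun ε : ℝ => x - ε • h) :=
      continuous_const.sub (continuous_id.smul continuous_const)
    have h0 : (fun ε : ℝ => x - ε • h) 0 ∈ interior (closure (Eff : Set V)) := by
      simpa using hx
    have hmem := hcont.continuousAt.preimage_mem_nhds (isOpen_interior.mem_nhds h0)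
    obtain ⟨r, hr, hball⟩ := Metric.mem_nhds_iff.mp hmem
    have hε : x - (r / 2) • h ∈ interior (closure (Eff : Set V)) := by
      apply hball
      rw [Metric.mem_ball, Real.dist_eq, sub_zero, abs_of_pos (by positivity)]
      linarith
    have hy₀ : x - (r / 2) • h ∈ closure (Eff : Set V) := interior_subset hε
    have hW : IsOpen {y : V | x - y ∈ Amp} :=
      h2.preimage (continuous_const.sub continuous_id)
    have hy₀W : x - (r / 2) • h ∈ {y : V | x - y ∈ Amp} := by
      change x - (x - (r / 2) • h) ∈ Amp
      rw [sub_sub_cancel]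
      exact Amp.smul_mem (by positivity) hh
    obtain ⟨e, heW, heE⟩ := mem_closure_iff.mp hy₀ _ hW hy₀W
    exact (h1 x).mpr ⟨x - e, heW, by rwa [sub_sub_cancel]⟩
  · apply Set.Subset.antisymm
    · apply closure_minimal _ isClosed_closure
      intro e he
      have hcont : Continuous (fun ε : ℝ => e + ε • h) :=
        continuous_const.add (continuous_id.smul continuous_const)
      have ht : Tendsto (fun ε : ℝ => e + ε • h) (𝓝[>] 0) (𝓝 e) := by
        have := hcont.tendsto 0
        simp only [zero_smul, add_zero] at this
        exact tendsto_nhdsWithin_of_tendsto_nhds this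
      refine mem_closure_of_tendsto ht ?_
      filter_upwards [self_mem_nhdsWithin] with ε hε
      exact (h1 _).mpr ⟨ε • h, Amp.smul_mem hε hh, by rwa [add_sub_cancel_right]⟩
    · exact closure_mono hBE

end Groth.Agent.Lib.Helper7.BigConeLA
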