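import Mathlib
import Groth.Prelude
import Groth.Agent.Lib.Helper7.BigConeB
import Groth.Agent.Lib.Helper7.BigConeLA

/-!
# Helper library (helper7): the big cone is the interior of the pseudo-effective cone
-/

set_option autoImplicit false
set_option linter.unusedSectionVars false
set_option linter.style.haveILetI false
universe u
open CategoryTheory CategoryTheory.Limits AlgebraicGeometry Opposite TopologicalSpace
open Scheme.Modules

namespace Groth.Agent.Lib.Helper7.BigConeC

open Groth.Agent.Lib.Helper3 Groth.Agent.Lib.Helper3.InvMonoidal Groth.Agent.Lib.Helper3.InvTensor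
open Groth.Agent.Lib.Helper3.InvGen
open Groth.Agent.Lib.Helper23 Groth.Agent.Lib.Helper23.HilbP
open Groth.Agent.Lib.Helper7.SnapFGA Groth.Agent.Lib.Helper7.TwFun
open Groth.Agent.Lib.Helper7.VolMono Groth.Agent.Lib.Helper7.GrowthA
open Groth.Agent.Lib.Helper7.GrowthC Groth.Agent.Lib.Helper7.GrowthG
open Groth.Agent.Lib.Helper7.BigConeA Groth.Agent.Lib.Helper7.AmpleConeOpen
open Groth.Agent.Lib.Helper7.BigConeB Groth.Agent.Lib.Helper7.BigConeLA

variable (k : Type u) [Field k] (X : Scheme.{u}) [X.Over (Spec (CommRingCat.of k))]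
  [IsProper (X ↘ Spec (CommRingCat.of k))] [PicGrp.Law X]

/-- ample classes are effective classes (a multiple of an ample module has a section). -/
theorem ampleCone_le_effCone [IsIntegral X] : NumR.ampleCone k X ≤ NumR.effCone k X := by
  apply ConvexCone.hull_min
  rintro _ ⟨L, hLinv, hL, rfl⟩
  haveI : IsNoetherian X := isNoetherian_of_isProper k X
  have hO : PicF.IsInvertible (Coh.structureModule X) := isInvertible_tensorPow hLinv 0
  obtain ⟨n₀, hn₀⟩ := exists_section_twist k X hL _ hO
  have hpos := hn₀ (n₀ + 1) (Nat.le_succ n₀)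
  have hinv : PicF.IsInvertible (CohB1.tensorMod (Coh.structureModule X)
      (CohB1.tensorPow L (n₀ + 1))) :=
    isInvertible_tensorMod hO (isInvertible_tensorPow hLinv _)
  obtain ⟨s, hs⟩ := exists_section_of_pos k X _
    ⟨InvCoh.isQuasicoherent_of_isInvertible hinv, InvCoh.isFiniteType_of_isInvertible hinv⟩ hpos
  have hmem := clR_mem_effCone k X hinv s hs
  rw [clR_tensorMod k X hO (isInvertible_tensorPow hLinv _) hinv, clR_unit k X hO, zero_add,
    clR_tensorPow k X hLinv] at hmem
  have hnpos : (0 : ℝ) < ((n₀ + 1 : ℕ) : ℝ) := by positivity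
  have h2 := (NumR.effCone k X).smul_mem (show (0 : ℝ) < 1 / ((n₀ + 1 : ℕ) : ℝ) by positivity) hmem
  rw [smul_smul, one_div_mul_cancel hnpos.ne', one_smul] at h2
  exact h2

/-- the big cone is the interior of the pseudo-effective cone, which is the closure of the big
cone. -/
theorem big_interior [IsIntegral X] [Module.Finite ℝ (NumR.N1R k X)] {H : X.Modules}
    (hH : CohB1.IsAmple H) :
    ((bigCone k X : ConvexCone ℝ (NumR.N1R k X)) : Set (NumR.N1R k X)) =
        interior (NumR.psefCone k X) ∧
      NumR.psefCone k X =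
        closure ((bigCone k X : ConvexCone ℝ (NumR.N1R k X)) : Set (NumR.N1R k X)) := by
  haveI : IsTopologicalAddGroup (NumR.N1R k X) := IsModuleTopology.topologicalAddGroup ℝ _
  unfold NumR.psefCone
  exact big_eq_interior (NumR.ampleCone k X) (NumR.effCone k X) (bigCone k X)
    (fun x => mem_bigCone_iff k X hH x) (isOpen_ampleCone k X) (ampleCone_le_effCone k X)
    (NumR.clR k X H hH.1) (clR_mem_ampleCone k X hH)

end Groth.Agent.Lib.Helper7.BigConeC
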