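import Mathlib
import Groth.Prelude
import Groth.Agent.Lib.Helper7.CechCard
import Groth.Agent.Lib.Helper3.QCSec

/-!
# Čech acyclicity of a family of basic opens admitting a partition of unity

`X` separated, `f j` global functions with quasi-compact `X_{f_j}`, all contained in an open `T`
on which `Σ g_j f_j = 1`.  Then the Čech complex of a quasi-coherent module for the family
`(X_{f_j})` is exact in positive degrees (`isZero_cechH_of_partition`).
-/
set_option autoImplicit false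
universe u
open CategoryTheory CategoryTheory.Limits Opposite TopologicalSpace AlgebraicGeometry

noncomputable section

namespace Groth.Agent.Lib.Helper7.CechPU

open Groth.Agent.Lib.Helper13 Groth.Agent.Lib.Helper13.CechBasic Groth.Agent.Lib.Helper13.CechLow
  Groth.Agent.Lib.Helper13.CechLES Groth.Agent.Lib.Helper13.CechLocal
  Groth.Agent.Lib.Helper7.CechCard Groth.Agent.Lib.Helper3.QCSec

lemma exists_pow_partition {R : Type*} [CommRing R] {ι : Type*} [Fintype ι] (f g : ι → R)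
    (hfg : ∑ i, g i * f i = 1) (N : ι → ℕ) : ∃ h : ι → R, ∑ i, h i * f i ^ N i = 1 := by
  have htop : Ideal.span (Set.range fun i => f i ^ N i) = ⊤ := by
    by_contra hne
    obtain ⟨m, hm, hle⟩ := Ideal.exists_le_maximal _ hne
    have hf : ∀ i, f i ∈ m := fun i =>
      hm.isPrime.mem_of_pow_mem (N i) (hle (Ideal.subset_span ⟨i, rfl⟩))
    have h1 : (1 : R) ∈ m := by
      rw [← hfg]
      exact m.sum_mem (fun i _ => m.mul_mem_left _ (hf i))
    exact hm.ne_top ((Ideal.eq_top_iff_one _).2 h1)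
  have h1 : (1 : R) ∈ Ideal.span (Set.range fun i => f i ^ N i) := by
    rw [htop]
    trivial
  rw [Ideal.mem_span_range_iff_exists_fun] at h1
  exact h1

section Top

variable {X : TopCat.{u}} {ι : Type u}

lemma prod_cons (V : ι → Opens X) (j : ι) {n : ℕ} (i : Fin (n + 1) → ι) :
    ∏ᶜ (V ∘ (Fin.cons j i : Fin (n + 2) → ι)) = V j ⊓ ∏ᶜ (V ∘ i) := by
  apply le_antisymm
  · refine le_inf ?_ (le_cons V j i)
    exact (Pi.π (V ∘ (Fin.cons j i : Fin (n + 2) → ι)) 0).le
  · rw [prod_eq_iInf V (Fin.cons j i : Fin (n + 2) → ι)]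
    refine le_iInf (fun k => ?_)
    refine Fin.cases ?_ (fun k' => ?_) k
    · simp only [Fin.cons_zero]
      exact inf_le_left
    · simp only [Fin.cons_succ]
      exact inf_le_right.trans (Pi.π (V ∘ i) k').le

lemma isCompact_prod [QuasiSeparatedSpace X] (V : ι → Opens X)
    (hV : ∀ i, IsCompact (V i : Set X)) :
    ∀ (m : ℕ) (i : Fin (m + 1) → ι), IsCompact ((∏ᶜ (V ∘ i) : Opens X) : Set X)
  | 0, i => by
      have h : ∏ᶜ (V ∘ i) = V (i 0) := by
        rw [prod_eq_iInf]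
        exact le_antisymm (iInf_le _ 0) (le_iInf fun k =>
          le_of_eq (congrArg (fun t => V (i t)) (Fin.fin_one_eq_zero k).symm))
      rw [h]
      exact hV _
  | m + 1, i => by
      have h1 : i = Fin.cons (i 0) (Fin.tail i) := (Fin.cons_self_tail i).symm
      have h2 : ∏ᶜ (V ∘ i) = V (i 0) ⊓ ∏ᶜ (V ∘ Fin.tail i) := by
        conv_lhs => rw [h1]
        exact prod_cons V (i 0) (Fin.tail i)
      rw [h2]
      exact (hV (i 0)).inter_of_isOpen (isCompact_prod V hV m (Fin.tail i)) (V (i 0)).2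
        (∏ᶜ (V ∘ Fin.tail i)).2

/-- transfer of Čech exactness along a morphism of presheaves which is bijective on the iterated
intersections. -/
lemma cechExact_of_bijective {P Q : (Opens X)ᵒᵖ ⥤ AddCommGrpCat.{u}} (V : ι → Opens X)
    (τ : P ⟶ Q)
    (hτ : ∀ (m : ℕ) (i : Fin (m + 1) → ι),
      Function.Bijective (τ.app (op (∏ᶜ (V ∘ i)))).hom) (n : ℕ)
    (hQ : CechExact V Q n) : CechExact V P n := by
  intro c hc
  have hc' : ((cx V Q).d (n + 1) (n + 2)).hom (A P V τ (n + 1) c) = 0 := by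
    rw [d_A, hc, map_zero]
  obtain ⟨b', hb'⟩ := hQ _ hc'
  let b : (cx V P).X n := mk V P (fun i =>
    (Equiv.ofBijective _ (hτ n i)).symm ((proj V Q n i).hom b'))
  have hb : A P V τ n b = b' := by
    apply ext_elem
    intro i
    rw [proj_A]
    have h1 : (proj V P n i).hom b =
        (Equiv.ofBijective _ (hτ n i)).symm ((proj V Q n i).hom b') := proj_mk V P _ _
    rw [h1]
    exact (Equiv.ofBijective _ (hτ n i)).apply_symm_apply _
  refine ⟨b, ?_⟩
  have h2 : A P V τ (n + 1) (((cx V P).d n (n + 1)).hom b) = A P V τ (n + 1) c := by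
    rw [← d_A, hb, hb']
  apply ext_elem
  intro i
  apply (hτ (n + 1) i).1
  rw [← proj_A, ← proj_A, h2]

end Top

variable {X : Scheme.{u}} (G : X.Modules) (T : X.Opens)

/-- `W ↦ Γ(G, W ⊓ T)`. -/
def PT : (Opens X)ᵒᵖ ⥤ AddCommGrpCat.{u} :=
  Pa (fun _ : PUnit.{u + 1} => T) G.presheaf PUnit.unit

/-- the restriction `G ⟶ G(- ⊓ T)`. -/
def rhoT : G.presheaf ⟶ PT G T := rho (fun _ : PUnit.{u + 1} => T) G.presheaf PUnit.unit

variable {G} in
/-- multiplication by a function, on sections. -/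
def smulHom {W : X.Opens} (c : Γ(X, W)) : Γ(G, W) →+ Γ(G, W) where
  toFun x := c • x
  map_zero' := smul_zero c
  map_add' := smul_add c

/-- multiplication by a function on `T` as an endomorphism of `W ↦ Γ(G, W ⊓ T)`. -/
def mulT (h : Γ(X, T)) : PT G T ⟶ PT G T where
  app W := AddCommGrpCat.ofHom
    (smulHom (G := G) (rres X (inf_le_right : W.unop ⊓ T ≤ T) h))
  naturality W W' k := by
    apply AddCommGrpCat.hom_ext
    ext x
    change (rres X (inf_le_right : W'.unop ⊓ T ≤ T) h) •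
        res G (inf_le_inf_right T k.unop.le) (id x : Γ(G, W.unop ⊓ T)) =
      res G (inf_le_inf_right T k.unop.le) ((rres X (inf_le_right : W.unop ⊓ T ≤ T) h) •
        (id x : Γ(G, W.unop ⊓ T)))
    rw [res_smul, rres_rres]

lemma mulT_app (h : Γ(X, T)) (W : X.Opens) (x : Γ(G, W ⊓ T)) :
    ((mulT G T h).app (op W)).hom x = (rres X (inf_le_right : W ⊓ T ≤ T) h) • x := rfl

variable {G T} in
lemma smul_aux_mul {W : X.Opens} (hW : W ≤ T) (a b : Γ(X, T)) (x : Γ(G, W)) :
    rres X hW (a * b) • x = rres X hW a • (rres X hW b • x) := by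
  rw [← mul_smul]
  congr 1
  exact map_mul _ a b

variable {G T} in
lemma sum_aux {ι : Type*} [Fintype ι] {W : X.Opens} (hW : W ≤ T) (h fN : ι → Γ(X, T))
    (hh : ∑ i, h i * fN i = 1) (x : Γ(G, W)) :
    ∑ j, rres X hW (h j) • (rres X hW (fN j) • x) = x := by
  simp only [← mul_smul, ← map_mul]
  rw [← Finset.sum_smul, ← map_sum, hh, map_one, one_smul]

lemma mulT_mul (a b : Γ(X, T)) : mulT G T (a * b) = mulT G T b ≫ mulT G T a := by
  ext W x
  exact smul_aux_mul inf_le_right a b _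

lemma isLoc_PT [X.IsSeparated] [G.IsQuasicoherent] {ι : Type u} (V : ι → X.Opens)
    (hV : ∀ i, IsCompact (V i : Set X)) (hVT : ∀ i, V i ≤ T) (fT : Γ(X, T)) (j : ι)
    (hj : X.basicOpen fT = V j) {n : ℕ} (i : Fin (n + 1) → ι) :
    IsLoc (PT G T) (fun N => mulT G T (fT ^ N)) (le_cons V j i) := by
  have hWT : ∏ᶜ (V ∘ i) ≤ T := (Pi.π (V ∘ i) 0).le.trans (hVT (i 0))
  have hle : (∏ᶜ (V ∘ (Fin.cons j i : Fin (n + 2) → ι))) ⊓ T ≤ (∏ᶜ (V ∘ i)) ⊓ T :=
    inf_le_inf_right T (le_cons V j i)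
  have hcpt : IsCompact (((∏ᶜ (V ∘ i)) ⊓ T : X.Opens) : Set X) := by
    rw [inf_eq_left.2 hWT]
    exact isCompact_prod V hV n i
  have hqs : IsQuasiSeparated (((∏ᶜ (V ∘ i)) ⊓ T : X.Opens) : Set X) :=
    isQuasiSeparated_univ.of_subset (Set.subset_univ _)
  have hbo : (∏ᶜ (V ∘ (Fin.cons j i : Fin (n + 2) → ι))) ⊓ T =
      X.basicOpen (rres X (inf_le_right : (∏ᶜ (V ∘ i)) ⊓ T ≤ T) fT) := by
    rw [X.basicOpen_res fT (homOfLE (inf_le_right : (∏ᶜ (V ∘ i)) ⊓ T ≤ T)).op, hj, prod_cons,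
      inf_comm (V j) (∏ᶜ (V ∘ i)), inf_right_comm]
  have hloc := isLocSec_of_isCompact G hcpt hqs
    (rres X (inf_le_right : (∏ᶜ (V ∘ i)) ⊓ T ≤ T) fT) hbo hle
  have hgg : ∀ N : ℕ, rres X hle (rres X (inf_le_right : (∏ᶜ (V ∘ i)) ⊓ T ≤ T) fT) ^ N =
      rres X (inf_le_right : (∏ᶜ (V ∘ (Fin.cons j i : Fin (n + 2) → ι))) ⊓ T ≤ T) (fT ^ N) := by
    intro N
    rw [rres_rres, rres_pow]
  exact
    { surj := fun (y : Γ(G, (∏ᶜ (V ∘ (Fin.cons j i : Fin (n + 2) → ι))) ⊓ T)) => by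
        obtain ⟨N, s, hs⟩ := hloc.surj y
        exact ⟨N, s, hs.trans (congrArg (fun t => t • y) (hgg N))⟩
      inj := fun (x : Γ(G, (∏ᶜ (V ∘ i)) ⊓ T)) hx => by
        obtain ⟨N, hN⟩ := hloc.inj x hx
        exact ⟨N, (congrArg (fun t => t • x) (rres_pow _ fT N)).trans hN⟩ }

/-- **Čech acyclicity from a partition of unity.** -/
theorem isZero_cechH_of_partition (X : Scheme.{u}) [X.IsSeparated] {ι : Type u} [Fintype ι]
    (f : ι → Γ(X, ⊤)) (hqc : ∀ i, IsCompact (X.basicOpen (f i) : Set X))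
    (T : X.Opens) (hT : ∀ i, X.basicOpen (f i) ≤ T)
    (g : ι → Γ(X, T)) (hg : ∑ i, g i * rres X le_top (f i) = 1)
    (G : X.Modules) [G.IsQuasicoherent] (n : ℕ) :
    IsZero ((cx (fun i => X.basicOpen (f i)) G.presheaf).homology (n + 1)) := by
  rw [← cechExact_iff]
  refine cechExact_of_bijective (fun i => X.basicOpen (f i)) (rhoT G T) ?_ n ?_
  · intro m i
    have hWT : ∏ᶜ ((fun i => X.basicOpen (f i)) ∘ i) ≤ T :=
      (Pi.π ((fun i => X.basicOpen (f i)) ∘ i) 0).le.trans (hT (i 0))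
    exact r_bijective G.presheaf inf_le_left (le_inf le_rfl hWT)
  · intro c hc
    refine exists_primitive (P := PT G T) (V := fun i => X.basicOpen (f i))
      (fun j N => mulT G T (rres X le_top (f j) ^ N)) ?_ ?_ ?_ n c hc
    · intro j N K
      rw [pow_add, mul_comm, mulT_mul]
    · intro j m i
      refine isLoc_PT G T (fun i => X.basicOpen (f i)) hqc hT (rres X le_top (f j)) j ?_ i
      rw [X.basicOpen_res (f j) (homOfLE (le_top : T ≤ ⊤)).op]
      exact inf_eq_right.2 (hT j)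
    · intro N
      obtain ⟨h, hh⟩ := exists_pow_partition (fun i => rres X le_top (f i)) g hg N
      refine ⟨𝟙 _, fun j => mulT G T (h j), ?_, fun m i => Function.bijective_id⟩
      intro W x
      exact sum_aux inf_le_right h (fun j => rres X le_top (f j) ^ N j) hh _

end Groth.Agent.Lib.Helper7.CechPU
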