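import Mathlib

set_option autoImplicit false
universe u

open Polynomial TensorProduct

namespace Groth.Agent.Lib.Helper7


theorem aeval_baseChange_map {R S M : Type*} [CommRing R] [CommRing S] [Algebra R S]
    [AddCommGroup M] [Module R M] (f : Module.End R M) (q : R[X]) :
    aeval (f.baseChange S) (q.map (algebraMap R S)) = (aeval f q).baseChange S := by
  rw [aeval_map_algebraMap]
  exact aeval_algHom_apply (Module.End.baseChangeHom R S M) f q

theorem charpoly_coeff_isIntegral_of_moduleFinite (A : Type u) [CommRing A] [IsDomain A] (K : Type u)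
    [Field K] [Algebra A K] [IsFractionRing A K] (E : Type u) [AddCommGroup E] [Module A E]
    [Module.Finite A E] (u : E →ₗ[A] E) (i : ℕ) :
    IsIntegral A (((u.baseChange K).charpoly).coeff i) := by
  classical
  let Ω := AlgebraicClosure K
  obtain ⟨p₀, hp₀m, hp₀⟩ := LinearMap.exists_monic_and_aeval_eq_zero A u
  have h1 : aeval (u.baseChange K) (p₀.map (algebraMap A K)) = 0 := by
    rw [aeval_baseChange_map, hp₀, LinearMap.baseChange_zero]
  have h2 : aeval ((u.baseChange K).baseChange Ω)
      ((p₀.map (algebraMap A K)).map (algebraMap K Ω)) = 0 := by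
    rw [aeval_baseChange_map, h1, LinearMap.baseChange_zero]
  rw [← isIntegral_algebraMap_iff (FaithfulSMul.algebraMap_injective K Ω), ← Polynomial.coeff_map]
  refine Polynomial.isIntegral_coeff_of_factors _ ?_ (IsAlgClosed.splits _) ?_ i
  · rw [((u.baseChange K).charpoly_monic.map _).leadingCoeff]; exact isIntegral_one
  · intro μ hμ
    rw [← LinearMap.charpoly_baseChange, ← Module.End.hasEigenvalue_iff_isRoot_charpoly] at hμ
    obtain ⟨v, hv⟩ := hμ.exists_hasEigenvector
    have h3 := Module.End.aeval_apply_of_hasEigenvector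
      (p := (p₀.map (algebraMap A K)).map (algebraMap K Ω)) hv
    rw [h2, LinearMap.zero_apply] at h3
    have h4 : ((p₀.map (algebraMap A K)).map (algebraMap K Ω)).eval μ = 0 := by
      rcases smul_eq_zero.mp h3.symm with h | h
      · exact h
      · exact absurd h hv.2
    refine ⟨p₀, hp₀m, ?_⟩
    rw [Polynomial.map_map, Polynomial.eval_map, ← IsScalarTower.algebraMap_eq] at h4
    exact h4



theorem tmul_injective_of_isTorsionFree (A K E : Type*) [CommRing A] [IsDomain A] [Field K]
    [Algebra A K] [IsFractionRing A K] [AddCommGroup E] [Module A E] [Module.IsTorsionFree A E] :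
    Function.Injective (TensorProduct.mk A K E 1) := by
  rw [injective_iff_map_eq_zero]
  intro e he
  obtain ⟨s, hs⟩ :=
    (IsLocalizedModule.eq_zero_iff (nonZeroDivisors A) (TensorProduct.mk A K E 1)).mp he
  have hs0 : (s : A) ≠ 0 := nonZeroDivisors.coe_ne_zero s
  have hs' : (s : A) • e = 0 := hs
  exact (smul_eq_zero.mp hs').resolve_left hs0

theorem bijective_of_isUnit_det_of_isTorsionFree (A : Type u) [CommRing A] [IsDomain A] (K : Type u)
    [Field K] [Algebra A K] [IsFractionRing A K] (E : Type u) [AddCommGroup E] [Module A E]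
    [Module.Finite A E] [Module.IsTorsionFree A E]
    (u : E →ₗ[A] E)
    (hcoeff : ∀ i : ℕ, ((u.baseChange K).charpoly).coeff i ∈ (algebraMap A K).range)
    (a : A) (ha : algebraMap A K a = LinearMap.det (u.baseChange K)) (hunit : IsUnit a) :
    Function.Bijective u := by
  obtain ⟨P, hP⟩ : ∃ P : A[X], P.map (algebraMap A K) = (u.baseChange K).charpoly := by
    have : (u.baseChange K).charpoly ∈ Polynomial.lifts (algebraMap A K) :=
      (Polynomial.lifts_iff_coeff_lifts _).mpr (fun i => hcoeff i)
    exact (Polynomial.mem_lifts _).mp this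
  have hPu : aeval u P = 0 := by
    have h1 : (aeval u P).baseChange K = 0 := by
      rw [← aeval_baseChange_map, hP]; exact LinearMap.aeval_self_charpoly _
    ext e
    apply tmul_injective_of_isTorsionFree A K E
    have := LinearMap.congr_fun h1 ((1 : K) ⊗ₜ e)
    simpa using this
  have hc0 : algebraMap A K (P.coeff 0) = (u.baseChange K).charpoly.coeff 0 := by
    rw [← hP, Polynomial.coeff_map]
  have hdet := LinearMap.det_eq_sign_charpoly_coeff (u.baseChange K)
  have hcu : IsUnit (P.coeff 0) := by
    have : a = (-1) ^ Module.finrank K (K ⊗[A] E) * P.coeff 0 := by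
      apply IsFractionRing.injective A K
      rw [ha, hdet, map_mul, map_pow, map_neg, map_one, hc0]
    rw [this] at hunit
    exact (IsUnit.mul_iff.mp hunit).2
  obtain ⟨c, hc⟩ := hcu
  obtain ⟨Q, hQ⟩ : ∃ Q : A[X], Q = C ((c⁻¹ : Aˣ) : A) * (-(divX P)) := ⟨_, rfl⟩
  have key : aeval u (Q * X) = 1 := by
    have e : Q * X = C ((c⁻¹ : Aˣ) : A) * (C (P.coeff 0) - P) := by
      have := Polynomial.divX_mul_X_add P
      rw [hQ]
      linear_combination (-(C ((c⁻¹ : Aˣ) : A))) * this
    rw [e, map_mul, map_sub, hPu, sub_zero, aeval_C, aeval_C, ← map_mul, ← hc, Units.inv_mul,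
      map_one]
  have hwu : aeval u Q * u = 1 := by
    calc aeval u Q * u = aeval u (Q * X) := by rw [map_mul, aeval_X]
      _ = 1 := key
  have huw : u * aeval u Q = 1 := by
    calc u * aeval u Q = aeval u (X * Q) := by rw [map_mul, aeval_X]
      _ = aeval u (Q * X) := by rw [mul_comm]
      _ = 1 := key
  constructor
  · intro x y hxy
    have := congrArg (aeval u Q) hxy
    rwa [← Module.End.mul_apply, ← Module.End.mul_apply, hwu] at this
  · intro y
    refine ⟨aeval u Q y, ?_⟩
    rw [← Module.End.mul_apply, huw]; rfl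



theorem isUnit_of_det_eq_algebraMap_of_bijective (A : Type u) [CommRing A] [IsDomain A] (K : Type u)
    [Field K] [Algebra A K] [IsFractionRing A K] (E : Type u) [AddCommGroup E] [Module A E]
    [Module.Finite A E] (u : E →ₗ[A] E)
    (hcoeff : ∀ i : ℕ, ((u.baseChange K).charpoly).coeff i ∈ (algebraMap A K).range)
    (a : A) (ha : algebraMap A K a = LinearMap.det (u.baseChange K)) (hu : Function.Bijective u) :
    IsUnit a := by
  classical
  let Ω := AlgebraicClosure K
  -- the characteristic polynomial descends to `A`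
  obtain ⟨P, hP, -, hPm⟩ : ∃ P : A[X], P.map (algebraMap A K) = (u.baseChange K).charpoly ∧
      P.natDegree = (u.baseChange K).charpoly.natDegree ∧ P.Monic := by
    have : (u.baseChange K).charpoly ∈ Polynomial.lifts (algebraMap A K) :=
      (Polynomial.lifts_iff_coeff_lifts _).mpr (fun i => hcoeff i)
    exact Polynomial.lifts_and_natDegree_eq_and_monic this (LinearMap.charpoly_monic _)
  -- the inverse of `u`
  let u' : E →ₗ[A] E := ((LinearEquiv.ofBijective u hu).symm : E →ₗ[A] E)
  have hu'u : u' ∘ₗ u = LinearMap.id := by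
    ext e; exact (LinearEquiv.ofBijective u hu).symm_apply_apply e
  obtain ⟨R₀, hR₀m, hR₀⟩ := LinearMap.exists_monic_and_aeval_eq_zero A u'
  let uΩ := (u.baseChange K).baseChange Ω
  let u'Ω := (u'.baseChange K).baseChange Ω
  have hu'uΩ : u'Ω ∘ₗ uΩ = LinearMap.id := by
    simp only [u'Ω, uΩ]
    rw [← LinearMap.baseChange_comp, ← LinearMap.baseChange_comp, hu'u, LinearMap.baseChange_id,
      LinearMap.baseChange_id]
  have hR₀Ω : aeval u'Ω ((R₀.map (algebraMap A K)).map (algebraMap K Ω)) = 0 := by
    simp only [u'Ω]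
    rw [aeval_baseChange_map, aeval_baseChange_map, hR₀, LinearMap.baseChange_zero,
      LinearMap.baseChange_zero]
  let φ : A →+* Ω := algebraMap A Ω
  have hφ : (algebraMap K Ω).comp (algebraMap A K) = φ := (IsScalarTower.algebraMap_eq A K Ω).symm
  have hφinj : Function.Injective φ := by
    rw [← hφ]
    exact (FaithfulSMul.algebraMap_injective K Ω).comp (IsFractionRing.injective A K)
  let Q : A[X] := -(divX (reverse R₀))
  have hcharΩ : uΩ.charpoly = P.map φ := by
    simp only [uΩ]
    rw [LinearMap.charpoly_baseChange, ← hP, Polynomial.map_map, hφ]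
  -- every root `μ` of the characteristic polynomial satisfies `μ * Q(μ) = 1`
  have hroot : ∀ μ ∈ (P.map φ).roots, μ * (Q.map φ).eval μ = 1 := by
    intro μ hμ
    have hμroot : (uΩ.charpoly).IsRoot μ := by
      rw [hcharΩ]; exact (Polynomial.mem_roots'.mp hμ).2
    rw [← Module.End.hasEigenvalue_iff_isRoot_charpoly] at hμroot
    obtain ⟨v, hv⟩ := hμroot.exists_hasEigenvector
    have hv1 : uΩ v = μ • v := Module.End.mem_eigenspace_iff.mp hv.1
    have hv2 : v = μ • u'Ω v := by
      have := LinearMap.congr_fun hu'uΩ v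
      rw [LinearMap.comp_apply, hv1, map_smul, LinearMap.id_apply] at this
      exact this.symm
    have hμ0 : μ ≠ 0 := by
      rintro rfl
      rw [zero_smul] at hv2
      exact hv.2 hv2
    have hv3 : u'Ω v = μ⁻¹ • v := by
      conv_rhs => rw [hv2]
      rw [smul_smul, inv_mul_cancel₀ hμ0, one_smul]
    have h3 := Module.End.aeval_apply_of_mem_apply_eq_smul
      (p := (R₀.map (algebraMap A K)).map (algebraMap K Ω)) hv3
    rw [hR₀Ω, LinearMap.zero_apply] at h3
    have h4 : ((R₀.map (algebraMap A K)).map (algebraMap K Ω)).eval μ⁻¹ = 0 := by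
      rcases smul_eq_zero.mp h3.symm with h | h
      · exact h
      · exact absurd h hv.2
    rw [Polynomial.map_map, hφ, Polynomial.eval_map] at h4
    let _ : Invertible μ⁻¹ := invertibleOfNonzero (inv_ne_zero hμ0)
    have h5 : eval₂ φ (⅟(μ⁻¹)) (reverse R₀) = 0 := (eval₂_reverse_eq_zero_iff φ μ⁻¹ R₀).mpr h4
    rw [invOf_eq_inv, inv_inv] at h5
    have h6 := congrArg (eval₂ φ μ) (Polynomial.divX_mul_X_add (reverse R₀))
    rw [eval₂_add, eval₂_mul, eval₂_X, eval₂_C, h5, coeff_zero_reverse, hR₀m.leadingCoeff,
      map_one] at h6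
    rw [Polynomial.eval_map]
    simp only [Q, eval₂_neg]
    linear_combination -h6
  -- products over the roots
  have hsplit : (P.map φ).Splits := IsAlgClosed.splits _
  have hprod1 : (P.map φ).roots.prod = φ a := by
    have h1 := Module.End.det_eq_prod_roots_charpoly_of_splits (f := uΩ) (hcharΩ ▸ hsplit)
    rw [hcharΩ] at h1
    rw [← h1]
    simp only [uΩ]
    rw [LinearMap.det_baseChange, ← ha, ← hφ]; rfl
  have hprod2 : ((P.map φ).roots.map (Q.map φ).eval).prod =
      φ (resultant P Q P.natDegree Q.natDegree) := by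
    have h1 := resultant_eq_prod_eval (P.map φ) (Q.map φ) Q.natDegree
      (Polynomial.natDegree_map_le) hsplit
    rw [(hPm.map φ).leadingCoeff, one_pow, one_mul, hPm.natDegree_map, resultant_map_map] at h1
    exact h1.symm
  have hone : φ (a * resultant P Q P.natDegree Q.natDegree) = φ 1 := by
    rw [map_mul, ← hprod1, ← hprod2, map_one]
    have : ((P.map φ).roots.map fun μ => μ * (Q.map φ).eval μ).prod = 1 := by
      rw [Multiset.map_congr rfl hroot, Multiset.prod_map_one]
    rw [Multiset.prod_map_mul, Multiset.map_id'] at this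
    exact this
  exact IsUnit.of_mul_eq_one _ (hφinj hone)

end Groth.Agent.Lib.Helper7
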