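import Groth.Prelude.Def_AnCl
import Mathlib.CategoryTheory.Sites.DenseSubsite.Basic
import Mathlib.CategoryTheory.Sites.DenseSubsite.SheafEquiv

/-!
The opens of a space form a dense subsite of its site of local homeomorphisms `An.Cl T`
(shared helper library of helper7).
-/

set_option autoImplicit false
universe u
open CategoryTheory TopologicalSpace Topology Opposite

namespace Groth.Agent.Lib.Helper7

open An

variable (T : Type u) [TopologicalSpace T]

instance opensToCl_faithful : (opensToCl T).Faithful where
  map_injective _ := Subsingleton.elim _ _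

theorem opensToCl_le_of_hom {U V : Opens T} (f : (opensToCl T).obj U ⟶ (opensToCl T).obj V) :
    U ≤ V := by
  intro x hx
  have h1 : Subtype.val (f.toFun ⟨x, hx⟩) = x := f.over ⟨x, hx⟩
  rw [← h1]
  exact (f.toFun ⟨x, hx⟩).2

instance opensToCl_full : (opensToCl T).Full where
  map_surjective {U V} f := by
    refine ⟨homOfLE (opensToCl_le_of_hom T f), ?_⟩
    apply Cl.hom_ext
    funext a
    apply Subtype.ext
    exact (f.over a).symm

theorem opensToCl_map_isOpenEmbedding {U V : Opens T} (f : U ⟶ V) :
    IsOpenEmbedding ((opensToCl T).map f).toFun :=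
  Opens.isOpenEmbedding_of_le f.le

theorem opensToCl_isCoverDense : (opensToCl T).IsCoverDense (Cl.topology T) where
  is_cover A := by
    intro a
    obtain ⟨e, hae, hpe⟩ := A.lh a
    let U : Opens T := ⟨e.target, e.open_target⟩
    let g : (opensToCl T).obj U ⟶ A :=
      { toFun := fun t => e.symm t.1
        continuous := by
          have := e.continuousOn_symm
          exact continuousOn_iff_continuous_domRestrict.1 this
        over := fun t => by
          change A.p (e.symm t.1) = t.1
          rw [hpe]
          exact e.right_inv t.2 }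
    refine ⟨_, g, ⟨⟨U, 𝟙 _, g, Category.id_comp _⟩⟩, ?_, ?_⟩
    · have h1 : g.toFun = Subtype.val ∘ e.toHomeomorphSourceTarget.symm := by
        funext t
        rfl
      rw [h1]
      exact e.open_source.isOpenEmbedding_subtypeVal.comp
        e.toHomeomorphSourceTarget.symm.isOpenEmbedding
    · exact ⟨⟨e a, e.map_source hae⟩, e.left_inv hae⟩

theorem opensToCl_isDenseSubsite :
    (opensToCl T).IsDenseSubsite (Opens.grothendieckTopology T) (Cl.topology T) where
  isCoverDense' := opensToCl_isCoverDense T
  functorPushforward_mem_iff := by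
    intro U S
    constructor
    · intro h x hx
      obtain ⟨B, g, ⟨V, f, k, hSf, hfac⟩, -, b, hb⟩ := h ⟨x, hx⟩
      refine ⟨V, f, hSf, ?_⟩
      have h2 : ((opensToCl T).map f).toFun (k.toFun b) = ⟨x, hx⟩ := by
        rw [← hb, hfac]
        rfl
      have h3 := congrArg Subtype.val h2
      change (k.toFun b).1 = x at h3
      rw [← h3]
      exact (k.toFun b).2
    · intro h a
      obtain ⟨V, f, hSf, haV⟩ := h a.1 a.2
      exact ⟨_, (opensToCl T).map f, ⟨V, f, 𝟙 _, hSf, (Category.id_comp _).symm⟩,
        opensToCl_map_isOpenEmbedding T f, ⟨⟨a.1, haV⟩, rfl⟩⟩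

end Groth.Agent.Lib.Helper7
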