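import Mathlib

/-!
# Injectivity of surjections onto flat algebras that are injective modulo an ideal
-/

set_option autoImplicit false

namespace Groth.Agent.Lib.Helper7.CohenAlg7

/-- Let `v : B → B'` be a surjective `A`-algebra map with `B'` flat over `A`, `B` Noetherian, and
`I ⊆ A` a finitely generated ideal with `IB` in the Jacobson radical of `B`. If `v` is injective
modulo `I` then `v` is injective. -/
theorem injective_of_flat {A B B' : Type*} [CommRing A] [CommRing B] [CommRing B'] [Algebra A B]
    [Algebra A B'] [Module.Flat A B'] [IsNoetherianRing B] (I : Ideal A) (hI : I.FG)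
    (hjac : I.map (algebraMap A B) ≤ Ideal.jacobson ⊥) (v : B →ₐ[A] B')
    (hs : Function.Surjective v)
    (hmod : ∀ b : B, v b ∈ I.map (algebraMap A B') → b ∈ I.map (algebraMap A B)) :
    Function.Injective v := by
  classical
  obtain ⟨m, a, ha⟩ := Submodule.fg_iff_exists_fin_generating_family.mp hI
  have haI : ∀ i, a i ∈ I := fun i => by rw [← ha]; exact Submodule.subset_span ⟨i, rfl⟩
  obtain ⟨N, hN⟩ : ∃ N : Ideal B, N = RingHom.ker v.toRingHom := ⟨_, rfl⟩
  have hmemN : ∀ x, x ∈ N ↔ v x = 0 := fun x => by rw [hN, RingHom.mem_ker]; rfl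
  have hNfg : (N : Submodule B B).FG := IsNoetherian.noetherian N
  have hle : (N : Submodule B B) ≤ I.map (algebraMap A B) • (N : Submodule B B) := by
    intro x hx
    have hvx : v x = 0 := (hmemN x).mp hx
    have hxI : x ∈ I.map (algebraMap A B) := hmod x (by rw [hvx]; exact Ideal.zero_mem _)
    have hspan : I.map (algebraMap A B) = Ideal.span (Set.range fun i => algebraMap A B (a i)) := by
      rw [← ha, Ideal.map_span, ← Set.range_comp]
      rfl
    rw [hspan] at hxI
    obtain ⟨b, hb⟩ := (Ideal.mem_span_range_iff_exists_fun).mp hxI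
    have hrel : ∑ i, a i • v (b i) = 0 := by
      rw [← hvx, ← hb, map_sum]
      refine Finset.sum_congr rfl fun i _ => ?_
      rw [map_mul, AlgHom.commutes, Algebra.smul_def, mul_comm]
    obtain ⟨k, c, z, hz, hc⟩ := Module.Flat.isTrivialRelation_of_sum_smul_eq_zero (R := A) (M := B') hrel
    choose w hw using fun j => hs (z j)
    have hn : ∀ i, b i - ∑ j, c i j • w j ∈ N := by
      intro i
      have hz' : v (b i) = ∑ j, c i j • z j := hz i
      rw [hmemN, map_sub, map_sum, hz', sub_eq_zero]
      refine Finset.sum_congr rfl fun j _ => ?_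
      rw [map_smul, hw]
    have h2 : ∑ i, algebraMap A B (a i) * ∑ j, c i j • w j = 0 := by
      calc ∑ i, algebraMap A B (a i) * ∑ j, c i j • w j
          = ∑ i, ∑ j, (a i * c i j) • w j := by
            refine Finset.sum_congr rfl fun i _ => ?_
            rw [Finset.mul_sum]
            refine Finset.sum_congr rfl fun j _ => ?_
            rw [mul_smul, Algebra.smul_def (a i)]
        _ = ∑ j, ∑ i, (a i * c i j) • w j := Finset.sum_comm
        _ = ∑ j, (∑ i, a i * c i j) • w j := by
            refine Finset.sum_congr rfl fun j _ => ?_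
            rw [Finset.sum_smul]
        _ = 0 := by
            refine Finset.sum_eq_zero fun j _ => ?_
            rw [hc j, zero_smul]
    have hx' : x = ∑ i, algebraMap A B (a i) * (b i - ∑ j, c i j • w j) := by
      have h3 : ∑ i, algebraMap A B (a i) * (b i - ∑ j, c i j • w j) =
          ∑ i, algebraMap A B (a i) * b i - ∑ i, algebraMap A B (a i) * ∑ j, c i j • w j := by
        rw [← Finset.sum_sub_distrib]
        exact Finset.sum_congr rfl fun i _ => mul_sub _ _ _
      rw [h3, h2, sub_zero, ← hb]
      exact Finset.sum_congr rfl fun i _ => mul_comm _ _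
    rw [hx']
    refine Submodule.sum_mem _ fun i _ => ?_
    exact Submodule.smul_mem_smul (Ideal.mem_map_of_mem _ (haI i)) (hn i)
  have hbot : (N : Submodule B B) = ⊥ :=
    Submodule.eq_bot_of_le_smul_of_le_jacobson_bot _ N hNfg hle hjac
  rw [injective_iff_map_eq_zero]
  intro x hx
  have hxN : x ∈ (N : Submodule B B) := (hmemN x).mpr hx
  rw [hbot] at hxN
  exact hxN

end Groth.Agent.Lib.Helper7.CohenAlg7
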