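/-
Helper7 library: flatness descent along faithfully flat maps and injectivity of `𝔪A' ⊗ M → M`.

* `flat_of_faithfullyFlat_of_flat`: `A → B → C`, `C` faithfully flat over `B` and flat over `A`
  implies `B` flat over `A`;
* `rTensor_map_subtype_injective`: for an `A`-algebra `A'`, an `A'`-module `M` flat over `A`, and an
  ideal `𝔪` of `A`, the map `(𝔪A') ⊗[A'] M → A' ⊗[A'] M` is injective.
-/
import Mathlib
import Groth.Agent.Lib.Helper8.LocalCriterion3

set_option autoImplicit false

universe u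

open TensorProduct

namespace Groth.Agent.Lib.Helper7

theorem flat_of_faithfullyFlat_of_flat (A B C : Type u) [CommRing A] [CommRing B] [CommRing C]
    [Algebra A B] [Algebra B C] [Algebra A C] [IsScalarTower A B C]
    [Module.FaithfullyFlat B C] [Module.Flat A C] : Module.Flat A B := by
  rw [Module.Flat.iff_lTensor_injective']
  intro I
  have h1 : Function.Injective (I.subtype.lTensor C) :=
    Module.Flat.lTensor_preserves_injective_linearMap _ Subtype.val_injective
  have h2 := (Helper8.lTensor_baseChange_injective_iff (B := B) (N := C) I.subtype).mpr h1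
  have h3 := (Module.FaithfullyFlat.lTensor_injective_iff_injective B C
    (I.subtype.baseChange B)).mp h2
  rw [LinearMap.baseChange_eq_ltensor] at h3
  exact h3

section

variable {A A' : Type u} [CommRing A] [CommRing A'] [Algebra A A']
  (M : Type u) [AddCommGroup M] [Module A M] [Module A' M] [IsScalarTower A A' M]
  (𝔪 : Ideal A)

/-- the additive map `𝔪 ⊗[A] M → (𝔪A') ⊗[A'] M`. -/
noncomputable def mapTensorHom : 𝔪 ⊗[A] M →+ ↥(𝔪.map (algebraMap A A')) ⊗[A'] M :=
  TensorProduct.liftAddHom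
    (AddMonoidHom.mk' (fun a : 𝔪 => AddMonoidHom.mk'
      (fun b : M => (⟨algebraMap A A' a.1, Ideal.mem_map_of_mem _ a.2⟩ :
        ↥(𝔪.map (algebraMap A A'))) ⊗ₜ[A'] b) (fun x y => tmul_add _ _ _))
      (fun a a' => by
        ext b
        show (⟨algebraMap A A' (a + a').1, _⟩ : ↥(𝔪.map (algebraMap A A'))) ⊗ₜ[A'] b =
          (⟨algebraMap A A' a.1, _⟩ : ↥(𝔪.map (algebraMap A A'))) ⊗ₜ[A'] b +
          (⟨algebraMap A A' a'.1, _⟩ : ↥(𝔪.map (algebraMap A A'))) ⊗ₜ[A'] b
        rw [← add_tmul]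
        congr 1
        apply Subtype.ext
        simp))
    (fun r a b => by
      show (⟨algebraMap A A' (r • a).1, _⟩ : ↥(𝔪.map (algebraMap A A'))) ⊗ₜ[A'] b =
        (⟨algebraMap A A' a.1, _⟩ : ↥(𝔪.map (algebraMap A A'))) ⊗ₜ[A'] (r • b)
      rw [← algebraMap_smul A' r b, ← TensorProduct.smul_tmul]
      congr 1
      apply Subtype.ext
      simp [Algebra.smul_def])

@[simp] lemma mapTensorHom_tmul (a : 𝔪) (b : M) :
    mapTensorHom M 𝔪 (a ⊗ₜ[A] b) =
      (⟨algebraMap A A' a.1, Ideal.mem_map_of_mem _ a.2⟩ :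
        ↥(𝔪.map (algebraMap A A'))) ⊗ₜ[A'] b := rfl

lemma mapTensorHom_surjective : Function.Surjective (mapTensorHom (A' := A') M 𝔪) := by
  have key : ∀ (x : A') (hx : x ∈ 𝔪.map (algebraMap A A')) (b : M),
      (⟨x, hx⟩ : ↥(𝔪.map (algebraMap A A'))) ⊗ₜ[A'] b ∈ (mapTensorHom (A' := A') M 𝔪).range := by
    intro x hx
    refine Submodule.span_induction (p := fun x hx => ∀ b : M,
      (⟨x, hx⟩ : ↥(𝔪.map (algebraMap A A'))) ⊗ₜ[A'] b ∈ (mapTensorHom (A' := A') M 𝔪).range)
      ?_ ?_ ?_ ?_ hx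
    · rintro _ ⟨a, ha, rfl⟩ b
      exact ⟨(⟨a, ha⟩ : 𝔪) ⊗ₜ[A] b, rfl⟩
    · intro b
      have : (⟨0, zero_mem _⟩ : ↥(𝔪.map (algebraMap A A'))) = 0 := rfl
      rw [this, zero_tmul]
      exact zero_mem _
    · intro x y hx hy ihx ihy b
      have : (⟨x + y, add_mem hx hy⟩ : ↥(𝔪.map (algebraMap A A'))) =
          (⟨x, hx⟩ : ↥(𝔪.map (algebraMap A A'))) + ⟨y, hy⟩ := rfl
      rw [this, add_tmul]
      exact add_mem (ihx b) (ihy b)
    · intro c x hx ihx b
      have : (⟨c • x, Submodule.smul_mem _ c hx⟩ : ↥(𝔪.map (algebraMap A A'))) =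
          c • (⟨x, hx⟩ : ↥(𝔪.map (algebraMap A A'))) := rfl
      rw [this, TensorProduct.smul_tmul]
      exact ihx (c • b)
  intro z
  induction z using TensorProduct.induction_on with
  | zero => exact ⟨0, map_zero _⟩
  | tmul x b => exact key x.1 x.2 b
  | add x y hx hy =>
    obtain ⟨a, rfl⟩ := hx
    obtain ⟨b, rfl⟩ := hy
    exact ⟨a + b, map_add _ _ _⟩

theorem rTensor_map_subtype_injective [Module.Flat A M] :
    Function.Injective (((𝔪.map (algebraMap A A')).subtype).rTensor M) := by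
  have hcomp : ∀ w : 𝔪 ⊗[A] M,
      TensorProduct.lid A' M (((𝔪.map (algebraMap A A')).subtype).rTensor M
        (mapTensorHom M 𝔪 w)) = TensorProduct.lid A M (𝔪.subtype.rTensor M w) := by
    intro w
    induction w using TensorProduct.induction_on with
    | zero => simp
    | tmul a b =>
      rw [mapTensorHom_tmul, LinearMap.rTensor_tmul, LinearMap.rTensor_tmul,
        TensorProduct.lid_tmul, TensorProduct.lid_tmul]
      exact algebraMap_smul A' a.1 b
    | add x y hx hy => simp only [map_add, hx, hy]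
  have hinj : Function.Injective (𝔪.subtype.rTensor M) :=
    Module.Flat.rTensor_preserves_injective_linearMap _ Subtype.val_injective
  rw [injective_iff_map_eq_zero]
  intro z hz
  obtain ⟨w, rfl⟩ := mapTensorHom_surjective M 𝔪 z
  have h1 := hcomp w
  rw [hz, map_zero] at h1
  have h2 : 𝔪.subtype.rTensor M w = 0 := (TensorProduct.lid A M).injective (by rw [← h1, map_zero])
  have h3 : w = 0 := hinj (by rw [h2, map_zero])
  rw [h3, map_zero]

end

end Groth.Agent.Lib.Helper7
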