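import Mathlib
import Groth.Prelude.Def_CotT2
import Groth.Agent.Lib.Helper18.CotTApi
import Groth.Agent.Lib.Helper18.CotTBasic
import Groth.Agent.Lib.Helper18.CotTKoszul
import Groth.Agent.Lib.Helper18.CotTCI
import Groth.Agent.Lib.Helper18.CotTInv
import Groth.Agent.Lib.Helper18.CotTEmpty
import Groth.Agent.Lib.Helper18.CotTReg
import Groth.Agent.Lib.Helper5.RegQuot
import Groth.Agent.Lib.Helper21.ConormalReg

/-!
# `T¹`, `T²` of smooth algebras (helper7)

* `formallySmooth_iff_forall_subsingleton_T1`: `B` is formally smooth over `A` iff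
  `T¹(B/A, M) = 0` for all `M`.
* `subsingleton_T2_of_isRegularRing`: for a regular finite type algebra over a field (formally
  smooth), `T²(B/k, M) = 0` computed from a finite presentation.
-/

set_option autoImplicit false
universe u v w t m

open TensorProduct

namespace Groth.Agent.Lib.Helper7.CotTSmooth

open CotT Groth.Agent.Lib.Helper18.CotTApi Groth.Agent.Lib.Helper18.CotTBasic
  Groth.Agent.Lib.Helper18.CotTKoszul Groth.Agent.Lib.Helper18.CotTCI
  Groth.Agent.Lib.Helper18.CotTInv Groth.Agent.Lib.Helper18.CotTEmpty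
  Groth.Agent.Lib.Helper18.CotTReg

section General

variable {A : Type u} {B : Type v} {ι : Type w} {σ : Type t}
variable [CommRing A] [CommRing B] [Algebra A B]
variable (P : Algebra.Presentation A B ι σ)

theorem subsingleton_T1_of_split
    (l : P.toExtension.CotangentSpace →ₗ[B] P.toExtension.Cotangent)
    (hl : l ∘ₗ P.toExtension.cotangentComplex = LinearMap.id)
    (M : Type m) [AddCommGroup M] [Module B M] : Subsingleton (T1 P M) := by
  have h0 : ∀ z : T1 P M, z = 0 := by
    intro z
    obtain ⟨c, rfl⟩ := Submodule.Quotient.mk_surjective _ z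
    rw [T1_mk_eq_zero_iff]
    have hc : (c : L1 P →ₗ[B] M) ∘ₗ d2 P = 0 := (mem_cocycles1_iff P _).1 c.2
    obtain ⟨φ, hφ⟩ := exists_factor_toCot P (c : L1 P →ₗ[B] M) hc
    refine ⟨φ ∘ₗ l, ?_⟩
    rw [← hφ]
    show (φ ∘ₗ l) ∘ₗ (P.toExtension.cotangentComplex ∘ₗ toCot P) = φ ∘ₗ toCot P
    rw [LinearMap.comp_assoc, ← LinearMap.comp_assoc _ _ l, hl, LinearMap.id_comp]
  exact ⟨fun x y => by rw [h0 x, h0 y]⟩

theorem exists_split_of_subsingleton_T1
    (h : Subsingleton (T1 P P.toExtension.Cotangent)) :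
    ∃ l : P.toExtension.CotangentSpace →ₗ[B] P.toExtension.Cotangent,
      l ∘ₗ P.toExtension.cotangentComplex = LinearMap.id := by
  have hc : toCot P ∈ cocycles1 P P.toExtension.Cotangent := by
    rw [mem_cocycles1_iff]; exact toCot_comp_d2 P
  have h0 : (Submodule.Quotient.mk ⟨toCot P, hc⟩ : T1 P P.toExtension.Cotangent) = 0 :=
    Subsingleton.elim _ _
  obtain ⟨χ, hχ⟩ := (T1_mk_eq_zero_iff P _).1 h0
  refine ⟨χ, ?_⟩
  apply (LinearMap.cancel_right (toCot_surjective P)).1
  rw [LinearMap.id_comp, LinearMap.comp_assoc]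
  exact hχ

theorem subsingleton_T2_of_retraction (ρ : L1 P →ₗ[B] L2 P) (hρ : ρ ∘ₗ d2 P = LinearMap.id)
    (M : Type m) [AddCommGroup M] [Module B M] : Subsingleton (T2 P M) := by
  have h0 : ∀ z : T2 P M, z = 0 := by
    intro z
    obtain ⟨ψ, rfl⟩ := Submodule.Quotient.mk_surjective _ z
    rw [T2_mk_eq_zero_iff]
    exact ⟨ψ ∘ₗ ρ, by rw [LinearMap.comp_assoc, hρ, LinearMap.comp_id]⟩
  exact ⟨fun x y => by rw [h0 x, h0 y]⟩

theorem exists_retraction_d2 (hinj : Function.Injective (d2 P))
    [Module.Projective B P.toExtension.Cotangent] :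
    ∃ ρ : L1 P →ₗ[B] L2 P, ρ ∘ₗ d2 P = LinearMap.id := by
  obtain ⟨s, hs⟩ := Module.projective_lifting_property (toCot P)
    (LinearMap.id : P.toExtension.Cotangent →ₗ[B] P.toExtension.Cotangent) (toCot_surjective P)
  have hs' : ∀ y, toCot P (s y) = y := fun y => LinearMap.congr_fun hs y
  let e := LinearEquiv.ofInjective (d2 P) hinj
  have hmem : ∀ x : L1 P, x - s (toCot P x) ∈ LinearMap.range (d2 P) := by
    intro x
    rw [← ker_toCot, LinearMap.mem_ker, map_sub, hs', sub_self]
  let π : L1 P →ₗ[B] LinearMap.range (d2 P) :=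
    LinearMap.codRestrict (LinearMap.range (d2 P)) (LinearMap.id - s ∘ₗ toCot P) (fun x => by
      simpa using hmem x)
  refine ⟨e.symm.toLinearMap ∘ₗ π, LinearMap.ext fun z => ?_⟩
  show e.symm (π (d2 P z)) = z
  rw [LinearEquiv.symm_apply_eq]
  apply Subtype.ext
  show d2 P z - s (toCot P (d2 P z)) = d2 P z
  have h0 : toCot P (d2 P z) = 0 := LinearMap.congr_fun (toCot_comp_d2 P) z
  rw [h0, map_zero, sub_zero]

theorem trivRel_eq_trivS : trivRel P = trivS (rel P) := by
  apply le_antisymm
  · refine Submodule.span_le.mpr ?_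
    rintro _ ⟨a, b, rfl⟩
    exact lc_smul_sub_mem (rel P) a b
  · refine Submodule.span_le.mpr ?_
    rintro _ ⟨i, j, rfl⟩
    refine Submodule.subset_span ⟨Finsupp.single i 1, Finsupp.single j 1, ?_⟩
    rw [jmap_single, jmap_single, one_mul, one_mul, Finsupp.smul_single, Finsupp.smul_single,
      smul_eq_mul, smul_eq_mul, mul_one, mul_one]

theorem ker_eq_span_rel :
    RingHom.ker (algebraMap P.toExtension.Ring B) = Ideal.span (Set.range (rel P)) := by
  apply le_antisymm
  · intro a ha
    have ha' : a ∈ LinearMap.range (jmap P) := by rw [range_jmap]; exact ha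
    obtain ⟨f, rfl⟩ := ha'
    show Finsupp.linearCombination P.toExtension.Ring (rel P) f ∈
      Submodule.span P.toExtension.Ring (Set.range (rel P))
    rw [← Finsupp.range_linearCombination]
    exact LinearMap.mem_range_self _ f
  · rw [Ideal.span_le]
    rintro _ ⟨i, rfl⟩
    exact algebraMap_rel P i

end General

section Clear

variable {R : Type*} (A : Type*) [CommRing R] [CommRing A] [Algebra R A] {σ : Type*}

/-- coefficientwise `algebraMap`. -/
noncomputable def mr : (σ →₀ R) →+ (σ →₀ A) :=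
  Finsupp.mapRange.addMonoidHom (algebraMap R A).toAddMonoidHom

theorem mr_apply (x : σ →₀ R) (i : σ) : (mr A x) i = algebraMap R A (x i) := rfl

theorem mr_single (i : σ) (a : R) :
    mr A (Finsupp.single i a) = Finsupp.single i (algebraMap R A a) := by
  classical
  ext j
  rw [mr_apply, Finsupp.single_apply, Finsupp.single_apply]
  split_ifs
  · rfl
  · exact map_zero _

theorem mr_smul (c : R) (x : σ →₀ R) : mr A (c • x) = algebraMap R A c • mr A x := by
  ext i
  rw [mr_apply, Finsupp.smul_apply, Finsupp.smul_apply, mr_apply, smul_eq_mul, smul_eq_mul,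
    map_mul]

theorem lc_mr (r : σ → R) (x : σ →₀ R) :
    Finsupp.linearCombination A (fun i => algebraMap R A (r i)) (mr A x) =
      algebraMap R A (Finsupp.linearCombination R r x) := by
  induction x using Finsupp.induction_linear with
  | zero => simp
  | add a b ha hb => rw [map_add, map_add, ha, hb, map_add, map_add]
  | single i a =>
    rw [mr_single, Finsupp.linearCombination_single, Finsupp.linearCombination_single,
      smul_eq_mul, smul_eq_mul, map_mul]

theorem exists_smul_eq_mr (M : Submonoid R) [IsLocalization M A] (r : σ → R) (z : σ →₀ A)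
    (hz : z ∈ trivS (fun i => algebraMap R A (r i))) :
    ∃ u ∈ M, ∃ y ∈ trivS r, algebraMap R A u • z = mr A y := by
  induction hz using Submodule.span_induction with
  | mem z hz =>
    obtain ⟨i, j, rfl⟩ := hz
    refine ⟨1, M.one_mem, Finsupp.single j (r i) - Finsupp.single i (r j),
      Submodule.subset_span ⟨i, j, rfl⟩, ?_⟩
    rw [map_one, one_smul, map_sub, mr_single, mr_single]
  | zero => exact ⟨1, M.one_mem, 0, Submodule.zero_mem _, by rw [smul_zero, map_zero]⟩
  | add z₁ z₂ _ _ h₁ h₂ =>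
    obtain ⟨u₁, hu₁, y₁, hy₁, e₁⟩ := h₁
    obtain ⟨u₂, hu₂, y₂, hy₂, e₂⟩ := h₂
    refine ⟨u₁ * u₂, M.mul_mem hu₁ hu₂, u₂ • y₁ + u₁ • y₂,
      Submodule.add_mem _ (Submodule.smul_mem _ _ hy₁) (Submodule.smul_mem _ _ hy₂), ?_⟩
    rw [map_add, mr_smul, mr_smul, ← e₁, ← e₂, map_mul, smul_add, mul_smul, mul_smul,
      smul_comm (algebraMap R A u₁) (algebraMap R A u₂) z₁]
  | smul a z _ h =>
    obtain ⟨u, hu, y, hy, e⟩ := h
    obtain ⟨⟨a₀, v⟩, hav⟩ := IsLocalization.surj M a
    have hav' : a * algebraMap R A (v : R) = algebraMap R A a₀ := hav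
    refine ⟨v * u, M.mul_mem v.2 hu, a₀ • y, Submodule.smul_mem _ _ hy, ?_⟩
    rw [mr_smul, ← e, smul_smul, smul_smul, map_mul]
    congr 1
    rw [← hav']
    ring

theorem exists_smul_mem_trivS (M : Submonoid R) [IsLocalization M A] (r : σ → R) (x : σ →₀ R)
    (hx : mr A x ∈ trivS (fun i => algebraMap R A (r i))) : ∃ u ∈ M, u • x ∈ trivS r := by
  classical
  obtain ⟨u, hu, y, hy, e⟩ := exists_smul_eq_mr A M r _ hx
  have hmr : ∀ i, algebraMap R A ((u • x - y) i) = 0 := by
    intro i
    have h1 : mr A (u • x - y) = 0 := by rw [map_sub, mr_smul, e, sub_self]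
    have h2 := DFunLike.congr_fun h1 i
    simpa [mr_apply] using h2
  choose c hc using fun i => (IsLocalization.map_eq_zero_iff M A ((u • x - y) i)).1 (hmr i)
  let w : R := ∏ i ∈ (u • x - y).support, (c i : R)
  have hw : w ∈ M := Submonoid.prod_mem _ (fun i _ => (c i).2)
  have hwd : w • (u • x - y) = 0 := by
    ext i
    rw [Finsupp.smul_apply, Finsupp.zero_apply, smul_eq_mul]
    by_cases hi : i ∈ (u • x - y).support
    · have hwi : w = (c i : R) * ∏ j ∈ (u • x - y).support.erase i, (c j : R) :=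
        (Finset.mul_prod_erase _ _ hi).symm
      rw [hwi, mul_right_comm, hc i, zero_mul]
    · rw [Finsupp.notMem_support_iff.1 hi, mul_zero]
  refine ⟨w * u, M.mul_mem hw hu, ?_⟩
  have h3 : (w * u) • x = w • y := by
    rw [smul_sub, sub_eq_zero] at hwd
    rw [mul_smul]; exact hwd
  rw [h3]
  exact Submodule.smul_mem _ _ hy

theorem coord_mem_of_mem_smul_top (I : Ideal R) (x : σ →₀ R)
    (hx : x ∈ I • (⊤ : Submodule R (σ →₀ R))) (i : σ) : x i ∈ I := by
  refine Submodule.smul_induction_on hx (fun a ha f _ => ?_) (fun f g hf hg => ?_)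
  · rw [Finsupp.smul_apply, smul_eq_mul]; exact I.mul_mem_right _ ha
  · rw [Finsupp.add_apply]; exact I.add_mem hf hg

end Clear

section Local

variable {A : Type u} [CommRing A]

/-- In a ring `A`, if the ideal `J` is generated by a weakly regular sequence, then for any
finite generating family `r` of `J`, the relations among the `r i` with coefficients in `J`
are combinations of the Koszul relations. -/
theorem mem_trivS_of_regular (J : Ideal A) {n : ℕ} (r : Fin n → A)
    (hJ : Ideal.span (Set.range r) = J) (rs : List A)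
    (hreg : RingTheory.Sequence.IsWeaklyRegular A rs) (hrs : J = Ideal.ofList rs)
    (f : Fin n →₀ A) (hf : Finsupp.linearCombination A r f = 0) (hfJ : ∀ i, f i ∈ J) :
    f ∈ trivS r := by
  have hs : Function.Surjective (algebraMap A (A ⧸ J)) := Ideal.Quotient.mk_surjective
  have hker : RingHom.ker (algebraMap A (A ⧸ J)) = J := by
    rw [Ideal.Quotient.algebraMap_eq]; exact Ideal.mk_ker
  have hI : RingHom.ker (algebraMap A (A ⧸ J)) = Ideal.span (Set.range r) := by rw [hker, hJ]
  have hI2 : RingHom.ker (algebraMap A (A ⧸ J)) = Ideal.ofList rs := by rw [hker, hrs]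
  have hT : Subsingleton (T2 (quotPresFn hs r hI) (L2 (quotPresFn hs r hI))) :=
    (subsingleton_T2_iff (quotPresFn hs r hI) (quotPres hs rs hI2) (L2 (quotPresFn hs r hI))).2
      (subsingleton_T2_of_relKer_le _ _ (relKer_le_trivRel_quotPres hs rs hI2 hreg))
  have h0 : (Submodule.Quotient.mk
      (LinearMap.id : L2 (quotPresFn hs r hI) →ₗ[A ⧸ J] L2 (quotPresFn hs r hI)) :
      T2 (quotPresFn hs r hI) (L2 (quotPresFn hs r hI))) = 0 := Subsingleton.elim _ _
  obtain ⟨φ, hφ⟩ := (T2_mk_eq_zero_iff (quotPresFn hs r hI) _).1 h0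
  have hφ' : ∀ z, φ (d2 (quotPresFn hs r hI) z) = z := fun z => LinearMap.congr_fun hφ z
  have hq : liftRel hs r hI f ∈ relKer (quotPresFn hs r hI) := by
    change jmap (quotPresFn hs r hI) (liftRel hs r hI f) = 0
    rw [jmap_eq_zero_iff, rho_liftRel]
    exact hf
  have hL1 : mkL1 (quotPresFn hs r hI) (liftRel hs r hI f) = 0 := by
    have h1 := apply_mkL1 (quotPresFn hs r hI)
      (LinearMap.id : L1 (quotPresFn hs r hI) →ₗ[A ⧸ J] L1 (quotPresFn hs r hI))
      (liftRel hs r hI f)
    rw [LinearMap.id_apply] at h1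
    rw [h1, Finsupp.sum]
    refine Finset.sum_eq_zero fun s _ => ?_
    rw [liftRel_apply, algebraMap_CQ]
    have h2 : algebraMap A (A ⧸ J) (f s) = 0 := by
      rw [← RingHom.mem_ker, hker]; exact hfJ s
    rw [h2, zero_smul]
  have h2 : mkL2 (quotPresFn hs r hI) ⟨_, hq⟩ = 0 := by
    rw [← hφ' (mkL2 (quotPresFn hs r hI) ⟨_, hq⟩), d2_mkL2, hL1, map_zero]
  have h3 := (mkL2_eq_zero_iff (quotPresFn hs r hI) ⟨_, hq⟩).1 h2
  have h4 := rho_mem_trivS hs r hI _ h3
  rwa [rho_liftRel] at h4

end Local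

section Reg

theorem exists_regular_seq_localization {R : Type u} [CommRing R] (I : Ideal R)
    [IsRegularRing (R ⧸ I)] (𝔪 : Ideal R) [𝔪.IsPrime] (hI : I ≤ 𝔪)
    [IsRegularLocalRing (Localization.AtPrime 𝔪)] :
    ∃ rs : List (Localization.AtPrime 𝔪),
      RingTheory.Sequence.IsRegular (Localization.AtPrime 𝔪) rs ∧
        I.map (algebraMap R (Localization.AtPrime 𝔪)) = Ideal.ofList rs := by
  have hJtop : I.map (algebraMap R (Localization.AtPrime 𝔪)) ≠ ⊤ := by
    intro h
    have h1 : I.map (algebraMap R (Localization.AtPrime 𝔪)) ≤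
        IsLocalRing.maximalIdeal (Localization.AtPrime 𝔪) := by
      rw [← Localization.AtPrime.map_eq_maximalIdeal]
      exact Ideal.map_mono hI
    rw [h] at h1
    exact (IsLocalRing.maximalIdeal.isMaximal (Localization.AtPrime 𝔪)).ne_top (top_le_iff.1 h1)
  haveI hm' : (𝔪.map (Ideal.Quotient.mk I)).IsPrime :=
    Ideal.map_isPrime_of_surjective Ideal.Quotient.mk_surjective (by rw [Ideal.mk_ker]; exact hI)
  have hcomap : (𝔪.map (Ideal.Quotient.mk I)).comap (Ideal.Quotient.mk I) = 𝔪 := by
    rw [Ideal.comap_map_of_surjective _ Ideal.Quotient.mk_surjective, ← RingHom.ker_eq_comap_bot,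
      Ideal.mk_ker]
    exact sup_eq_left.2 hI
  have hsub : Algebra.algebraMapSubmonoid (R ⧸ I) 𝔪.primeCompl =
      (𝔪.map (Ideal.Quotient.mk I)).primeCompl := by
    ext x
    constructor
    · rintro ⟨y, hy, rfl⟩
      intro hmem
      apply hy
      have : y ∈ (𝔪.map (Ideal.Quotient.mk I)).comap (Ideal.Quotient.mk I) := hmem
      rwa [hcomap] at this
    · intro hx
      obtain ⟨y, rfl⟩ := Ideal.Quotient.mk_surjective x
      refine ⟨y, ?_, rfl⟩
      intro hy
      exact hx (Ideal.mem_map_of_mem _ hy)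
  haveI : IsLocalization (𝔪.map (Ideal.Quotient.mk I)).primeCompl
      (Localization.AtPrime 𝔪 ⧸ I.map (algebraMap R (Localization.AtPrime 𝔪))) := by
    rw [← hsub]; infer_instance
  haveI : IsRegularLocalRing (Localization.AtPrime (𝔪.map (Ideal.Quotient.mk I))) := inferInstance
  let e := IsLocalization.algEquiv (𝔪.map (Ideal.Quotient.mk I)).primeCompl
    (Localization.AtPrime (𝔪.map (Ideal.Quotient.mk I)))
    (Localization.AtPrime 𝔪 ⧸ I.map (algebraMap R (Localization.AtPrime 𝔪)))
  haveI : IsRegularLocalRing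
      (Localization.AtPrime 𝔪 ⧸ I.map (algebraMap R (Localization.AtPrime 𝔪))) :=
    IsRegularLocalRing.of_ringEquiv e.toRingEquiv
  exact Groth.Agent.Lib.Helper5.RegQuot.exists_isRegular_of_quotient_regular
    (Localization.AtPrime 𝔪) _ hJtop

end Reg

section Main

variable {k B : Type u} [Field k] [CommRing B] [Algebra k B] {n' n : ℕ}
  (P : Algebra.Presentation k B (Fin n') (Fin n))

theorem local_step [IsRegularRing B] (𝔪 : Ideal P.toExtension.Ring) [𝔪.IsPrime]
    (hI𝔪 : RingHom.ker (algebraMap P.toExtension.Ring B) ≤ 𝔪)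
    (x : relMod P) (hx : x ∈ relKer P)
    (hxI : x ∈ RingHom.ker (algebraMap P.toExtension.Ring B) •
      (⊤ : Submodule P.toExtension.Ring (relMod P))) :
    ∃ u ∈ 𝔪.primeCompl, u • x ∈ trivRel P := by
  haveI : IsRegularRing P.toExtension.Ring :=
    show IsRegularRing (MvPolynomial (Fin n') k) from inferInstance
  haveI : IsRegularRing (P.toExtension.Ring ⧸ RingHom.ker (algebraMap P.toExtension.Ring B)) :=
    IsRegularRing.of_ringEquiv
      (RingHom.quotientKerEquivOfSurjective (algebraMap_surjective P)).symm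
  obtain ⟨rs, hreg, hJrs⟩ := exists_regular_seq_localization
    (RingHom.ker (algebraMap P.toExtension.Ring B)) 𝔪 hI𝔪
  have hJ : Ideal.span (Set.range
      (fun i => algebraMap P.toExtension.Ring (Localization.AtPrime 𝔪) (rel P i))) =
      (RingHom.ker (algebraMap P.toExtension.Ring B)).map
        (algebraMap P.toExtension.Ring (Localization.AtPrime 𝔪)) := by
    rw [ker_eq_span_rel P, Ideal.map_span]
    congr 1
    ext y
    simp only [Set.mem_range, Set.mem_image]
    constructor
    · rintro ⟨i, rfl⟩; exact ⟨rel P i, ⟨i, rfl⟩, rfl⟩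
    · rintro ⟨_, ⟨i, rfl⟩, rfl⟩; exact ⟨i, rfl⟩
  have hf : Finsupp.linearCombination (Localization.AtPrime 𝔪)
      (fun i => algebraMap P.toExtension.Ring (Localization.AtPrime 𝔪) (rel P i))
      (mr (Localization.AtPrime 𝔪) x) = 0 := by
    rw [lc_mr]
    have h1 : Finsupp.linearCombination P.toExtension.Ring (rel P) x = 0 := hx
    rw [h1, map_zero]
  have hfJ : ∀ i, (mr (Localization.AtPrime 𝔪) x) i ∈
      (RingHom.ker (algebraMap P.toExtension.Ring B)).map
        (algebraMap P.toExtension.Ring (Localization.AtPrime 𝔪)) := by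
    intro i
    rw [mr_apply]
    exact Ideal.mem_map_of_mem _ (coord_mem_of_mem_smul_top _ x hxI i)
  have hx' := mem_trivS_of_regular _ _ hJ rs hreg.toIsWeaklyRegular hJrs _ hf hfJ
  obtain ⟨u, hu, h⟩ := exists_smul_mem_trivS (Localization.AtPrime 𝔪) 𝔪.primeCompl (rel P) x hx'
  exact ⟨u, hu, by rw [trivRel_eq_trivS]; exact h⟩

theorem mem_trivRel_of_mem_smul [IsRegularRing B] (x : relMod P) (hx : x ∈ relKer P)
    (hxI : x ∈ RingHom.ker (algebraMap P.toExtension.Ring B) •
      (⊤ : Submodule P.toExtension.Ring (relMod P))) :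
    x ∈ trivRel P := by
  let 𝔞 : Ideal P.toExtension.Ring :=
    LinearMap.ker ((trivRel P).mkQ ∘ₗ LinearMap.toSpanSingleton P.toExtension.Ring (relMod P) x)
  have h𝔞 : ∀ a : P.toExtension.Ring, a ∈ 𝔞 ↔ a • x ∈ trivRel P := by
    intro a
    rw [LinearMap.mem_ker, LinearMap.comp_apply, LinearMap.toSpanSingleton_apply,
      Submodule.mkQ_apply, Submodule.Quotient.mk_eq_zero]
  by_contra hxt
  have hne : 𝔞 ≠ ⊤ := by
    intro h
    have h1 : (1 : P.toExtension.Ring) ∈ 𝔞 := h ▸ Submodule.mem_top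
    rw [h𝔞, one_smul] at h1
    exact hxt h1
  obtain ⟨𝔪, h𝔪, hle⟩ := Ideal.exists_le_maximal 𝔞 hne
  haveI := h𝔪.isPrime
  have hI𝔪 : RingHom.ker (algebraMap P.toExtension.Ring B) ≤ 𝔪 := fun a ha =>
    hle ((h𝔞 a).2 (ker_smul_mem_trivRel P a ha x hx))
  obtain ⟨u, hu, hux⟩ := local_step P 𝔪 hI𝔪 x hx hxI
  exact hu (hle ((h𝔞 u).2 hux))

theorem subsingleton_T2_of_isRegularRing [IsRegularRing B] [Algebra.FormallySmooth k B]
    (M : Type m) [AddCommGroup M] [Module B M] : Subsingleton (T2 P M) := by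
  haveI : Algebra.FormallySmooth k P.toExtension.Ring :=
    show Algebra.FormallySmooth k (MvPolynomial (Fin n') k) from inferInstance
  obtain ⟨l, hl⟩ := (P.toExtension.formallySmooth_iff_split_injection).1 inferInstance
  haveI : Module.Free B P.toExtension.CotangentSpace :=
    Module.Free.of_basis P.toGenerators.cotangentSpaceBasis
  haveI : Module.Projective B P.toExtension.Cotangent :=
    Module.Projective.of_split P.toExtension.cotangentComplex l hl
  have hinj : Function.Injective (d2 P) := by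
    rw [injective_iff_map_eq_zero]
    intro z hz
    obtain ⟨q, rfl⟩ := mkL2_surjective P z
    rw [d2_mkL2, mkL1_apply] at hz
    have h1 := mem_ker_smul_top_of_one_tmul_eq_zero (algebraMap_surjective P) _ hz
    exact mkL2_eq_zero P q (mem_trivRel_of_mem_smul P q q.2 h1)
  obtain ⟨ρ, hρ⟩ := exists_retraction_d2 P hinj
  exact subsingleton_T2_of_retraction P ρ hρ M

end Main

section Canon

theorem formallySmooth_iff_forall_subsingleton_T1 (A B : Type u) [CommRing A] [CommRing B]
    [Algebra A B] :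
    Algebra.FormallySmooth A B ↔
      ∀ (M : Type u) [AddCommGroup M] [Module B M], Subsingleton (T1 (canon A B) M) := by
  haveI : Algebra.FormallySmooth A (canon A B).toExtension.Ring :=
    show Algebra.FormallySmooth A (MvPolynomial B A) from inferInstance
  rw [(canon A B).toExtension.formallySmooth_iff_split_injection]
  constructor
  · rintro ⟨l, hl⟩ M _ _
    exact subsingleton_T1_of_split (canon A B) l hl M
  · intro h
    exact exists_split_of_subsingleton_T1 (canon A B) (h _)

end Canon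

end Groth.Agent.Lib.Helper7.CotTSmooth
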