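import Mathlib
import Groth.Prelude.Def_CotT2
import Groth.Agent.Lib.Helper7.CotTSmooth
import Groth.Agent.Lib.Helper18.CotTNine4
import Groth.Agent.Lib.Helper21.KaehlerRank
import Groth.Agent.Lib.Helper21.CohenStructF
import Groth.Agent.S12288

/-!
# `T²` of localizations (helper7)

* `triv_of_regular_family`: a family (possibly infinite) each member of which is a nonzerodivisor
  modulo any finite subfamily not containing it has only trivial (Koszul) relations.
* `locPres`: the presentation `A[y_s : s ∈ S]/(s y_s - 1)` of a localization `S⁻¹A`; all its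
  relations are trivial, hence `T²(S⁻¹A/A, M) = 0`.
* `subsingleton_T2_localization`: `T²(B_m/k, M) = 0` for a regular localization of a finite type
  algebra over a field.
-/

set_option autoImplicit false
universe u v x w t w' t' w'' t'' m

open TensorProduct

namespace Groth.Agent.Lib.Helper7.CotTLoc

open CotT Groth.Agent.Lib.Helper18.CotTApi Groth.Agent.Lib.Helper18.CotTBasic
  Groth.Agent.Lib.Helper18.CotTKoszul Groth.Agent.Lib.Helper18.CotTCI
  Groth.Agent.Lib.Helper18.CotTInv Groth.Agent.Lib.Helper18.CotTEmpty
  Groth.Agent.Lib.Helper18.CotTComp Groth.Agent.Lib.Helper18.CotTNine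
  Groth.Agent.Lib.Helper7.CotTSmooth

section Koszul

variable {R : Type*} [CommRing R] {σ : Type*}

theorem triv_of_regular_family (r : σ → R)
    (H : ∀ (T : Finset σ) (t : σ), t ∉ T → ∀ f : R,
      f * r t ∈ Ideal.span (r '' (T : Set σ)) → f ∈ Ideal.span (r '' (T : Set σ))) :
    Triv r := by
  classical
  have key : ∀ T : Finset σ, ∀ q : σ →₀ R, q.support ⊆ T →
      Finsupp.linearCombination R r q = 0 → q ∈ trivS r := by
    intro T
    induction T using Finset.induction_on with
    | empty =>
      intro q hq _
      have h0 : q = 0 := by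
        rw [← Finsupp.support_eq_empty]; exact Finset.subset_empty.1 hq
      rw [h0]; exact Submodule.zero_mem _
    | insert t T ht ih =>
      intro q hq hlc
      have hsum : Finsupp.linearCombination R r q = q t * r t + ∑ i ∈ T, q i * r i := by
        rw [Finsupp.linearCombination_apply,
          Finsupp.sum_of_support_subset q hq (fun i a => a • r i) (fun i _ => zero_smul _ _),
          Finset.sum_insert ht]
        simp only [smul_eq_mul]
      have hmem : q t * r t ∈ Ideal.span (r '' (T : Set σ)) := by
        have h1 : q t * r t = - ∑ i ∈ T, q i * r i := by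
          rw [eq_neg_iff_add_eq_zero, ← hsum, hlc]
        rw [h1]
        refine Submodule.neg_mem _ (Submodule.sum_mem _ fun i hi => ?_)
        exact Ideal.mul_mem_left _ _ (Ideal.subset_span ⟨i, hi, rfl⟩)
      have hqt := H T t ht (q t) hmem
      obtain ⟨c, hc, hcq⟩ := (Finsupp.mem_span_image_iff_linearCombination R).1 hqt
      have hcsupp : ∀ i, i ∉ T → c i = 0 := by
        intro i hi
        by_contra h
        have h1 := (Finsupp.mem_supported R c).1 hc (Finsupp.mem_support_iff.2 h)
        exact hi (by exact_mod_cast h1)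
      have hτmem : Finsupp.single t (Finsupp.linearCombination R r c) - r t • c ∈ trivS r :=
        single_lc_sub_mem r t c
      have hq' : q - (Finsupp.single t (Finsupp.linearCombination R r c) - r t • c) ∈
          trivS r := by
        apply ih
        · intro i hi
          rw [Finsupp.mem_support_iff] at hi
          by_contra hiT
          apply hi
          by_cases hit : i = t
          · subst hit
            simp [hcsupp i ht, hcq]
          · have hqi : q i = 0 := by
              by_contra h
              have h1 := hq (Finsupp.mem_support_iff.2 h)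
              rw [Finset.mem_insert] at h1
              rcases h1 with h1 | h1
              · exact hit h1
              · exact hiT h1
            simp [Finsupp.single_apply, hcsupp i hiT, hqi, Ne.symm hit]
        · rw [map_sub, hlc, lc_eq_zero_of_mem_trivS r _ hτmem, sub_zero]
      have h2 : q = (q - (Finsupp.single t (Finsupp.linearCombination R r c) - r t • c)) +
          (Finsupp.single t (Finsupp.linearCombination R r c) - r t • c) := by abel
      rw [h2]
      exact Submodule.add_mem _ hq' hτmem
  intro f hf
  exact key f.support f (Finset.Subset.refl _) hf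

end Koszul

section Key

open MvPolynomial

variable {A : Type*} [CommRing A] {σ : Type*} (a : σ → A)

/-- `ρ i = a_i X_i - 1`. -/
noncomputable def rho' (i : σ) : MvPolynomial σ A := C (a i) * X i - 1

variable [DecidableEq σ] (t : σ)

/-- View a polynomial as a polynomial in `X_t` (with coefficients still in all variables). -/
noncomputable def Phi : MvPolynomial σ A →ₐ[A] Polynomial (MvPolynomial σ A) :=
  MvPolynomial.aeval (fun i => if i = t then Polynomial.X else Polynomial.C (X i))

theorem Phi_X_self : Phi t (X t : MvPolynomial σ A) = Polynomial.X := by simp [Phi]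

theorem Phi_X_ne {i : σ} (h : i ≠ t) :
    Phi t (X i : MvPolynomial σ A) = Polynomial.C (X i) := by simp [Phi, h]

theorem Phi_C (c : A) : Phi t (C c : MvPolynomial σ A) = Polynomial.C (C c) := by
  rw [Phi, MvPolynomial.aeval_C, Polynomial.algebraMap_apply, MvPolynomial.algebraMap_eq]

theorem aeval_Phi (f : MvPolynomial σ A) :
    Polynomial.aeval (X t : MvPolynomial σ A) (Phi t f) = f := by
  have h : ((Polynomial.aeval (X t : MvPolynomial σ A)).toRingHom.comp (Phi t).toRingHom) =
      RingHom.id (MvPolynomial σ A) := by
    apply MvPolynomial.ringHom_ext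
    · intro c
      show Polynomial.aeval (X t : MvPolynomial σ A) (Phi t (C c)) = C c
      rw [Phi_C, Polynomial.aeval_C]; rfl
    · intro i
      show Polynomial.aeval (X t : MvPolynomial σ A) (Phi t (X i)) = X i
      by_cases h : i = t
      · subst h; rw [Phi_X_self, Polynomial.aeval_X]
      · rw [Phi_X_ne t h, Polynomial.aeval_C]; rfl
  exact RingHom.congr_fun h f

theorem Phi_rho_ne {i : σ} (h : i ≠ t) : Phi t (rho' a i) = Polynomial.C (rho' a i) := by
  rw [rho', map_sub, map_mul, map_one, Phi_C, Phi_X_ne t h, map_sub, map_mul, map_one]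

theorem Phi_rho_self :
    Phi t (rho' a t) = Polynomial.C (C (a t)) * Polynomial.X - 1 := by
  rw [rho', map_sub, map_mul, map_one, Phi_C, Phi_X_self]

theorem coeff_Phi_mem (T : Set σ) (ht : t ∉ T) (h : MvPolynomial σ A)
    (hh : h ∈ Ideal.span (rho' a '' T)) (n : ℕ) :
    (Phi t h).coeff n ∈ Ideal.span (rho' a '' T) := by
  induction hh using Submodule.span_induction generalizing n with
  | mem x hx =>
    obtain ⟨i, hi, rfl⟩ := hx
    have hit : i ≠ t := fun e => ht (e ▸ hi)
    rw [Phi_rho_ne a t hit, Polynomial.coeff_C]
    split_ifs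
    · exact Ideal.subset_span ⟨i, hi, rfl⟩
    · exact Submodule.zero_mem _
  | zero => rw [map_zero, Polynomial.coeff_zero]; exact Submodule.zero_mem _
  | add x y _ _ hx hy =>
    rw [map_add, Polynomial.coeff_add]; exact Submodule.add_mem _ (hx n) (hy n)
  | smul c x _ hx =>
    rw [smul_eq_mul, map_mul, Polynomial.coeff_mul]
    exact Submodule.sum_mem _ fun p _ => Ideal.mul_mem_left _ _ (hx p.2)

theorem mem_of_mul_rho_mem (T : Set σ) (ht : t ∉ T) (f : MvPolynomial σ A)
    (hf : f * rho' a t ∈ Ideal.span (rho' a '' T)) : f ∈ Ideal.span (rho' a '' T) := by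
  have h1 : ∀ n, (Phi t f * (Polynomial.C (C (a t)) * Polynomial.X - 1)).coeff n ∈
      Ideal.span (rho' a '' T) := by
    intro n
    have h0 := coeff_Phi_mem a t T ht _ hf n
    rwa [map_mul, Phi_rho_self] at h0
  have h2 : ∀ n, (Phi t f).coeff n ∈ Ideal.span (rho' a '' T) := by
    intro n
    induction n with
    | zero =>
      have h0 := h1 0
      rw [mul_sub, mul_one, Polynomial.coeff_sub, ← mul_assoc, Polynomial.coeff_mul_X_zero,
        zero_sub] at h0
      exact (Submodule.neg_mem_iff _).1 h0
    | succ n ih =>
      have h0 := h1 (n + 1)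
      rw [mul_sub, mul_one, Polynomial.coeff_sub, ← mul_assoc, Polynomial.coeff_mul_X,
        Polynomial.coeff_mul_C] at h0
      have h3 : (Phi t f).coeff n * C (a t) ∈ Ideal.span (rho' a '' T) :=
        Ideal.mul_mem_right _ _ ih
      have h4 := Submodule.sub_mem _ h3 h0
      rwa [sub_sub_cancel] at h4
  rw [← aeval_Phi t f, Polynomial.aeval_eq_sum_range]
  refine Submodule.sum_mem _ fun i _ => ?_
  rw [smul_eq_mul]
  exact Ideal.mul_mem_right _ _ (h2 i)

omit [DecidableEq σ] in
theorem triv_rho' : Triv (rho' a) := by
  classical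
  apply triv_of_regular_family
  intro T t ht f hf
  exact mem_of_mul_rho_mem a t (T : Set σ) (by simpa using ht) f hf

end Key

section LocPres

open MvPolynomial

variable {A : Type u} [CommRing A] (S : Submonoid A) (A' : Type v) [CommRing A'] [Algebra A A']
  [IsLocalization S A']

/-- the inverses of the elements of `S`. -/
noncomputable def locVal : ↥S → A' := fun s => IsLocalization.mk' A' 1 s

theorem aeval_locVal_surjective :
    Function.Surjective (MvPolynomial.aeval (R := A) (locVal S A')) := by
  intro z
  obtain ⟨a, s, rfl⟩ := IsLocalization.exists_mk'_eq S z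
  refine ⟨C a * X s, ?_⟩
  rw [map_mul, aeval_C, aeval_X, locVal, ← IsLocalization.mk'_eq_mul_mk'_one]

theorem aeval_locVal_rho (s : ↥S) :
    MvPolynomial.aeval (R := A) (locVal S A') (rho' (fun s : ↥S => (s : A)) s) = 0 := by
  rw [rho', map_sub, map_mul, map_one, aeval_C, aeval_X, locVal, IsLocalization.mk'_spec', map_one,
    sub_self]

theorem ker_aeval_locVal :
    Ideal.span (Set.range (rho' (fun s : ↥S => (s : A)))) =
      RingHom.ker (MvPolynomial.aeval (R := A) (locVal S A')) := by
  apply le_antisymm
  · rw [Ideal.span_le]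
    rintro _ ⟨s, rfl⟩
    exact aeval_locVal_rho S A' s
  · intro p hp
    set I₀ : Ideal (MvPolynomial ↥S A) := Ideal.span (Set.range (rho' (fun s : ↥S => (s : A))))
      with hI₀
    let g₀ : A →+* MvPolynomial ↥S A ⧸ I₀ := (Ideal.Quotient.mk I₀).comp C
    have hXC : ∀ s : ↥S, Ideal.Quotient.mk I₀ (X s) * g₀ (s : A) = 1 := by
      intro s
      show Ideal.Quotient.mk I₀ (X s) * Ideal.Quotient.mk I₀ (C (s : A)) = 1
      rw [← map_mul, ← map_one (Ideal.Quotient.mk I₀), ← sub_eq_zero, ← map_sub,
        Ideal.Quotient.eq_zero_iff_mem]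
      have h1 : X s * C (s : A) - 1 = rho' (fun s : ↥S => (s : A)) s := by
        rw [rho', mul_comm]
      rw [h1]
      exact Ideal.subset_span ⟨s, rfl⟩
    have hunit : ∀ s : ↥S, IsUnit (g₀ (s : A)) := fun s =>
      IsUnit.of_mul_eq_one (Ideal.Quotient.mk I₀ (X s)) (by rw [mul_comm]; exact hXC s)
    let g : A' →+* MvPolynomial ↥S A ⧸ I₀ := IsLocalization.lift (M := S) hunit
    have hg : g.comp ((MvPolynomial.aeval (R := A) (locVal S A')).toRingHom) =
        Ideal.Quotient.mk I₀ := by
      apply MvPolynomial.ringHom_ext
      · intro c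
        show g (MvPolynomial.aeval (R := A) (locVal S A') (C c)) = Ideal.Quotient.mk I₀ (C c)
        rw [aeval_C, IsLocalization.lift_eq]
        rfl
      · intro s
        show g (MvPolynomial.aeval (R := A) (locVal S A') (X s)) = Ideal.Quotient.mk I₀ (X s)
        rw [aeval_X, locVal]
        have h1 : g (IsLocalization.mk' A' 1 s) * g₀ (s : A) = 1 := by
          have h2 : g₀ (s : A) = g (algebraMap A A' (s : A)) := (IsLocalization.lift_eq hunit _).symm
          rw [h2, ← map_mul, IsLocalization.mk'_spec, map_one, map_one]
        calc g (IsLocalization.mk' A' 1 s)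
            = g (IsLocalization.mk' A' 1 s) * (Ideal.Quotient.mk I₀ (X s) * g₀ (s : A)) := by
              rw [hXC, mul_one]
          _ = (g (IsLocalization.mk' A' 1 s) * g₀ (s : A)) * Ideal.Quotient.mk I₀ (X s) := by ring
          _ = Ideal.Quotient.mk I₀ (X s) := by rw [h1, one_mul]
    have h3 : Ideal.Quotient.mk I₀ p = 0 := by
      rw [← hg]
      show g (MvPolynomial.aeval (R := A) (locVal S A') p) = 0
      rw [RingHom.mem_ker.1 hp, map_zero]
    exact Ideal.Quotient.eq_zero_iff_mem.1 h3

/-- The presentation `A[y_s : s ∈ S]/(s y_s - 1)` of a localization. -/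
noncomputable def locPres : Algebra.Presentation A A' ↥S ↥S where
  __ := Algebra.Generators.ofSurjective (locVal S A') (aeval_locVal_surjective S A')
  relation := rho' (fun s : ↥S => (s : A))
  span_range_relation_eq_ker := by
    rw [Algebra.Generators.ker_eq_ker_aeval_val]
    exact ker_aeval_locVal S A'

theorem relKer_le_trivRel_locPres : relKer (locPres S A') ≤ trivRel (locPres S A') := by
  intro q hq
  rw [trivRel_eq_trivS]
  exact triv_rho' (fun s : ↥S => (s : A)) q hq

end LocPres

section Tower

variable {A : Type u} {B : Type v} {C : Type x} {ι : Type w} {σ : Type t} {ι' : Type w'}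
  {σ' : Type t'} {ι'' : Type w''} {σ'' : Type t''}
variable [CommRing A] [CommRing B] [CommRing C] [Algebra A B] [Algebra B C] [Algebra A C]
  [IsScalarTower A B C]

theorem subsingleton_T2_of_comp (P : Algebra.Presentation A B ι σ)
    (Q : Algebra.Presentation B C ι' σ') (Pc : Algebra.Presentation A C ι'' σ'')
    (M : Type m) [AddCommGroup M] [Module C M] [Module B M] [IsScalarTower B C M]
    (hP : Subsingleton (T2 P M)) (hQ : Subsingleton (T2 Q M)) : Subsingleton (T2 Pc M) := by
  obtain ⟨a⟩ := nonempty_presHom Pc Q
  obtain ⟨b⟩ := nonempty_presHom P Pc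
  obtain ⟨-, -, -, e2, -⟩ := nine_general P Q M Pc a b
  have h0 : ∀ y : T2 Pc M, y = 0 := by
    intro y
    obtain ⟨x, rfl⟩ := (e2 y).1 (Subsingleton.elim _ _)
    rw [Subsingleton.elim x 0, map_zero]
  exact ⟨fun x y => by rw [h0 x, h0 y]⟩

end Tower

section Main

theorem subsingleton_T2_of_tower (k R A C : Type u) [CommRing k] [CommRing R] [CommRing A]
    [CommRing C] [Algebra k R] [Algebra R A] [Algebra k A] [IsScalarTower k R A]
    [Algebra A C] [Algebra k C] [IsScalarTower k A C]
    (S : Submonoid R) [IsLocalization S A] {ι : Type w} {σ : Type t}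
    (PR : Algebra.Presentation k R ι σ)
    (hR : ∀ (M' : Type u) [AddCommGroup M'] [Module R M'], Subsingleton (T2 PR M'))
    [IsLocalRing A] (hs : Function.Surjective (algebraMap A C)) (rs : List A)
    (hreg : RingTheory.Sequence.IsRegular A rs)
    (hI : RingHom.ker (algebraMap A C) = Ideal.ofList rs)
    (M : Type u) [AddCommGroup M] [Module C M] : Subsingleton (T2 (canon k C) M) := by
  letI : Module A M := Module.compHom M (algebraMap A C)
  haveI : IsScalarTower A C M := IsScalarTower.of_compHom A C M
  letI : Module R M := Module.compHom M (algebraMap R A)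
  haveI : IsScalarTower R A M := IsScalarTower.of_compHom R A M
  have h1 : Subsingleton (T2 (canon k A) M) :=
    subsingleton_T2_of_comp PR (locPres S A) (canon k A) M (hR M)
      (subsingleton_T2_of_relKer_le _ M (relKer_le_trivRel_locPres S A))
  have h2 : Subsingleton (T2 (canon A C) M) := Groth.Agent.S12288.result A C hs rs hreg hI M
  exact subsingleton_T2_of_comp (canon k A) (canon A C) (canon k C) M h1 h2

theorem subsingleton_T2_localization (k B : Type u) [Field k] [CommRing B] [Algebra k B]
    [Algebra.FiniteType k B] (m : Ideal B) [m.IsPrime]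
    [IsRegularLocalRing (Localization.AtPrime m)]
    (M : Type u) [AddCommGroup M] [Module (Localization.AtPrime m) M] :
    Subsingleton (T2 (canon k (Localization.AtPrime m)) M) := by
  obtain ⟨n, π, hπ⟩ := Algebra.FiniteType.iff_quotient_mvPolynomial''.1
    (inferInstance : Algebra.FiniteType k B)
  let f : MvPolynomial (Fin n) k →+* B := π
  haveI h𝔪 : (m.comap f).IsPrime := Ideal.comap_isPrime f m
  let φ := Localization.localRingHom (m.comap f) m f rfl
  have hφ : Function.Surjective φ := RingHom.surjective_localRingHom_of_surjective f hπ m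
  letI : Algebra (Localization.AtPrime (m.comap f)) (Localization.AtPrime m) := φ.toAlgebra
  haveI : IsScalarTower k (Localization.AtPrime (m.comap f)) (Localization.AtPrime m) := by
    refine IsScalarTower.of_algebraMap_eq fun c => ?_
    show algebraMap k (Localization.AtPrime m) c =
      φ (algebraMap k (Localization.AtPrime (m.comap f)) c)
    rw [IsScalarTower.algebraMap_apply k (MvPolynomial (Fin n) k)
      (Localization.AtPrime (m.comap f)), Localization.localRingHom_to_map,
      IsScalarTower.algebraMap_apply k B (Localization.AtPrime m)]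
    congr 1
    exact (π.commutes c).symm
  haveI : IsRegularLocalRing (Localization.AtPrime (m.comap f)) := inferInstance
  have hker_ne : RingHom.ker φ ≠ ⊤ := RingHom.ker_ne_top φ
  haveI : IsRegularLocalRing (Localization.AtPrime (m.comap f) ⧸ RingHom.ker φ) :=
    IsRegularLocalRing.of_ringEquiv (RingHom.quotientKerEquivOfSurjective hφ).symm
  obtain ⟨rs, hreg, hrs⟩ :=
    Groth.Agent.Lib.Helper5.RegQuot.exists_isRegular_of_quotient_regular _ (RingHom.ker φ) hker_ne
  exact subsingleton_T2_of_tower k (MvPolynomial (Fin n) k) (Localization.AtPrime (m.comap f))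
    (Localization.AtPrime m) (m.comap f).primeCompl
    (polyPres (AlgEquiv.refl : MvPolynomial (Fin n) k ≃ₐ[k] MvPolynomial (Fin n) k))
    (fun M' _ _ => subsingleton_T2_of_isEmpty _ M') hφ rs hreg hrs M

theorem isRegularLocalRing_iff_formallySmooth (k B : Type u) [Field k] [IsAlgClosed k]
    [CommRing B] [Algebra k B] [Algebra.FiniteType k B] (m : Ideal B) [m.IsMaximal] :
    IsRegularLocalRing (Localization.AtPrime m) ↔
      Algebra.FormallySmooth k (Localization.AtPrime m) := by
  haveI : IsNoetherianRing (Localization.AtPrime m) :=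
    Algebra.EssFiniteType.isNoetherianRing k _
  constructor
  · intro h
    exact Groth.Agent.Lib.Helper21.KaehlerRank.formallySmooth_of_isRegularLocalRing k _
      (Groth.Agent.Lib.Helper21.KaehlerRank.bijective_algebraMap_residueField k B m) h
  · intro h
    refine (Groth.Agent.Lib.Helper21.CohenStruct.regular_of_isAdicFormallySmooth k _ ?_).1
    intro E _ _ J hJ ψ _
    exact Algebra.FormallySmooth.exists_lift J ⟨2, hJ⟩ ψ

end Main

end Groth.Agent.Lib.Helper7.CotTLoc
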