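import Groth.Agent.Lib.Helper7.CurvePair
import Groth.Agent.Lib.Helper23.EffCartDeg
import Groth.Agent.Lib.Helper23.Devissage
import Groth.Agent.Lib.Lead.ZeroDimPts

/-!
# CurvePair2: `χ(I_Z ⊗ L)` and vanishing of `H¹(I_Z ⊗ L)` on a proper integral curve
-/
set_option autoImplicit false
universe u
open CategoryTheory CategoryTheory.Limits Opposite TopologicalSpace AlgebraicGeometry
open Scheme.Modules

noncomputable section

namespace Groth.Agent.Lib.Helper7.CurvePair

open Groth.Agent.Lib.Helper3 Groth.Agent.Lib.Helper3.QCSec Groth.Agent.Lib.Helper3.InvGen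
  Groth.Agent.Lib.Helper3.IdealMod Groth.Agent.Lib.Helper3.InvMonoidal
  Groth.Agent.Lib.Helper7.TwFun
open Groth.Agent.Lib.Helper23.T2 Groth.Agent.Lib.Helper23.Curve Groth.Agent.Lib.Helper23.Twist
  Groth.Agent.Lib.Helper23.TwE Groth.Agent.Lib.Helper23.TensorPts Groth.Agent.Lib.Helper23.EffCart
  Groth.Agent.Lib.Helper23.Dev

variable {X : Scheme.{u}}

/-- if `j` and `σ ≫ j` are mono and `coker (σ ≫ j)` vanishes on `D`, so does `coker σ`. -/
theorem vanishesOn_cokernel_of_mono_comp {A M L : X.Modules} (σ : A ⟶ M) (j : M ⟶ L) [Mono j]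
    [Mono (σ ≫ j)] {D : X.Opens} (h : VanishesOn (cokernel (σ ≫ j)) D) :
    VanishesOn (cokernel σ) D := by
  intro V hVD t
  apply ModBasis.eq_zero_of_locally_zero
  intro y hy
  obtain ⟨V', hV'V, hyV', l, hl⟩ := QCExact.exists_local_lift (cokernel.π σ) V t y hy
  refine ⟨V', hV'V, hyV', ?_⟩
  have h0 : (cokernel.π (σ ≫ j)).app V' (j.app V' l) = 0 := h V' (hV'V.trans hVD) _
  haveI : Mono (ShortComplex.mk (σ ≫ j) (cokernel.π (σ ≫ j)) (cokernel.condition _)).f :=
    inferInstanceAs (Mono (σ ≫ j))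
  obtain ⟨a, ha⟩ := QCExact.exact_sections
    (ShortComplex.mk (σ ≫ j) (cokernel.π (σ ≫ j)) (cokernel.condition _))
    (ShortComplex.exact_cokernel (σ ≫ j)) V' (j.app V' l) h0
  have h1 : σ.app V' a = l := QCExact.injective_sections j V' ha
  have h2 : (cokernel.π σ).app V' (σ.app V' a) = 0 :=
    QCExact.app_f_g_apply (ShortComplex.mk σ (cokernel.π σ) (cokernel.condition _)) V' a
  rw [h1] at h2
  exact hl.symm.trans h2

variable (k : Type u) [Field k] [X.Over (Spec (CommRingCat.of k))]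
  [IsProper (X ↘ Spec (CommRingCat.of k))] [IsIntegral X]

/-- `H¹(M) ≠ 0` forces `h⁰(M) ≤ g` for a submodule `M` of an invertible module. -/
theorem h0_le_genus_of_h1_nontrivial_of_mono (hdim : topologicalKrullDim X ≤ 1) {M L : X.Modules}
    (hL : PicF.IsInvertible L) (j : M ⟶ L) [Mono j] (h1 : Nontrivial (Coh.HH X M 1)) :
    Module.finrank k (Coh.HH X M 0) ≤ Curv2.genus k X := by
  haveI := isNoetherian_of_isProper k X
  haveI : Module.Finite k (Coh.HH X (Coh.structureModule X) 1) :=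
    finite_HH k _ (Groth.Agent.Lib.Helper23.T2.isCoh_structureModule X) 1
  refine finrank_le_of_forall_surjective (pairL k M 1) ?_
  intro w hw y
  have hm0 : H0equiv M w ≠ 0 := fun h0 => hw ((H0equiv M).injective (by rw [map_zero]; exact h0))
  have hσ := globalHom_ne_zero M (H0equiv M w) hm0
  have hσj : InvAmple.globalHom M (H0equiv M w) ≫ j ≠ 0 :=
    fun h => hσ ((cancel_mono j).1 (h.trans zero_comp.symm))
  obtain ⟨hmono, -, -, -⟩ := invertible_map k hdim
    (Groth.Agent.Lib.Helper3.InvGen.isInvertible_structureModule X) hL _ hσj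
  haveI := hmono
  haveI : Mono (InvAmple.globalHom M (H0equiv M w)) := mono_of_mono _ j
  obtain ⟨D, hD, hvan⟩ := exists_vanishesOn_cokernel
    (Groth.Agent.Lib.Helper3.InvGen.isInvertible_structureModule X) hL _ hσj
  have hfl : IsFlq (cokernel (InvAmple.globalHom M (H0equiv M w))) :=
    @isFlq_of_vanishesOn k _ X _ _ _ hdim _ D hD (vanishesOn_cokernel_of_mono_comp _ j hvan)
  have hQ : Subsingleton (HHm (cokernel (InvAmple.globalHom M (H0equiv M w))) 1) :=
    acyclic_of_isFlq hfl 0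
  have hy : Hmap (cokernel.π (InvAmple.globalHom M (H0equiv M w))) 1 y = 0 := hQ.elim _ _
  obtain ⟨z, hz⟩ := exact₂ (cokerSC _)
    (cokerSC_shortExact (InvAmple.globalHom M (H0equiv M w))) 1 y hy
  exact ⟨z, hz⟩

section Ideal

variable (hdim : topologicalKrullDim X ≤ 1)
  (h0 : Module.finrank k (Coh.HH X (Coh.structureModule X) 0) = 1)
  {L : X.Modules} (hL : PicF.IsInvertible L) (Z : X.IdealSheafData)
  (hZ : topologicalKrullDim (Z.support : Set X) ≤ 0)

include k in
lemma isCoh_idealMod : Coh.IsCoh (ClSub.idealMod Z) := by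
  haveI := isNoetherian_of_isProper k X
  exact (Groth.Agent.S9514.result X (Groth.Agent.Lib.Helper23.T2.isCoh_structureModule X)
    (isCoh_quotMod Z) (ClSub.toSubscheme Z)).1

include hdim h0 hL hZ in
/-- `χ(I_Z ⊗ L) = deg L + 1 - g - deg Z`. -/
theorem euler_ideal_tensor :
    Curv2.euler k X (CohB1.tensorMod (ClSub.idealMod Z) L) =
      Curv2.deg k X L 1 + 1 - (Curv2.genus k X : ℤ) -
        Module.finrank k (Coh.HH X (ClSub.quotMod Z) 0) := by
  haveI := isNoetherian_of_isProper k X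
  have hE := isFinLocFreeOfRank_one_of_isInvertible hL
  have hpt : ∀ z ∈ (Z.support : Set X), IsClosed ({z} : Set X) := fun z hz =>
    Groth.Agent.Lib.Lead.ZeroDimPts.isClosed_singleton_of_dim_le_zero Z.support.isClosed hZ hz
  have hfin : (Z.support : Set X).Finite :=
    Groth.Agent.Lib.Helper13.ZeroDimSupp.finite_of_isClosed_of_points_closed Z.support.isClosed hpt
  have hOcoh : Coh.IsCoh (Coh.structureModule X) :=
    Groth.Agent.Lib.Helper23.T2.isCoh_structureModule X
  have hQcoh : Coh.IsCoh (ClSub.quotMod Z) := isCoh_quotMod Z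
  have hIcoh : Coh.IsCoh (ClSub.idealMod Z) := isCoh_idealMod k Z
  have hvan : ∀ V : X.Opens, Disjoint (V : Set X) (Z.support : Set X) →
      ∀ t : Γ(ClSub.quotMod Z, V), t = 0 := fun V hV t => quotMod_eq_zero_of_disjoint Z V hV t
  have hS := shortExact_ideal Z
  have hd := delta_additive k hE _ hS hIcoh hOcoh hQcoh
  have hd' : delta k 1 L (Coh.structureModule X) =
      delta k 1 L (ClSub.idealMod Z) + delta k 1 L (ClSub.quotMod Z) := hd
  have hdO := delta_structureModule k hE
  have h3 := euler_tensor_of_vanishing k X _ hQcoh _ Z.support.isClosed hfin hpt hvan 1 L hE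
  have hflQ : IsFlq (ClSub.quotMod Z) := isFlq_of_vanishing_off_finite _ _ hfin hpt hvan
  have h4 := euler_eq_finrank_of_isFlq k X _ hQcoh hflQ
  have he := euler_additive k X _ hS hIcoh hOcoh hQcoh
  have he' : Curv2.euler k X (Coh.structureModule X) =
      Curv2.euler k X (ClSub.idealMod Z) + Curv2.euler k X (ClSub.quotMod Z) := he
  have hO := euler_structureModule k hdim h0
  unfold delta at hd' hdO
  push_cast at hd' hdO h3
  linarith

include hL in
lemma exists_mono_ideal_tensor :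
    ∃ j : CohB1.tensorMod (ClSub.idealMod Z) L ⟶ L, Mono j := by
  have hE := isFinLocFreeOfRank_one_of_isInvertible hL
  let j1 : CohB1.tensorMod (ClSub.idealMod Z) L ⟶ CohB1.tensorMod (Coh.structureModule X) L :=
    (twR L).map (ClSub.idealModι Z)
  haveI : Mono j1 := mono_twE hE _
  exact ⟨j1 ≫ (unitorL L).hom, mono_comp _ _⟩

include hdim h0 hL hZ in
/-- S1531 -/
theorem deg_le_of_h1_ideal_tensor
    (h1 : Nontrivial (Coh.HH X (CohB1.tensorMod (ClSub.idealMod Z) L) 1)) :
    Curv2.deg k X L 1 ≤ 2 * (Curv2.genus k X : ℤ) - 2 +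
      Module.finrank k (Coh.HH X (ClSub.quotMod Z) 0) := by
  haveI := isNoetherian_of_isProper k X
  have hMcoh : Coh.IsCoh (CohB1.tensorMod (ClSub.idealMod Z) L) :=
    isCoh_tensor X (isCoh_idealMod k Z) (isCoh_of_isInvertible hL)
  obtain ⟨j, hj⟩ := exists_mono_ideal_tensor hL Z
  have hle := h0_le_genus_of_h1_nontrivial_of_mono k hdim hL j h1
  have hχ := euler_ideal_tensor k hdim h0 hL Z hZ
  have hχ2 := euler_eq_h0_sub_h1 k hdim _ hMcoh
  haveI : Module.Finite k (Coh.HH X (CohB1.tensorMod (ClSub.idealMod Z) L) 1) :=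
    finite_HH k _ hMcoh 1
  have hpos : 0 < Module.finrank k (Coh.HH X (CohB1.tensorMod (ClSub.idealMod Z) L) 1) :=
    Module.finrank_pos
  have h2 : (Module.finrank k (Coh.HH X (CohB1.tensorMod (ClSub.idealMod Z) L) 0) : ℤ) ≤
      (Curv2.genus k X : ℤ) := by exact_mod_cast hle
  have h3 : (0 : ℤ) < (Module.finrank k (Coh.HH X (CohB1.tensorMod (ClSub.idealMod Z) L) 1) : ℤ) := by
    exact_mod_cast hpos
  linarith

include hdim h0 hL hZ in
/-- S1532 -/
theorem h1_ideal_tensor_vanish
    (hdeg : 2 * (Curv2.genus k X : ℤ) - 2 +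
      Module.finrank k (Coh.HH X (ClSub.quotMod Z) 0) < Curv2.deg k X L 1) :
    Subsingleton (Coh.HH X (CohB1.tensorMod (ClSub.idealMod Z) L) 1) ∧
      (Subsingleton (Coh.HH X (CohB1.tensorMod (ClSub.idealMod Z) L) 0) →
        Curv2.genus k X = 0 ∧ Curv2.deg k X L 1 =
          Module.finrank k (Coh.HH X (ClSub.quotMod Z) 0) - 1) := by
  haveI := isNoetherian_of_isProper k X
  have hMcoh : Coh.IsCoh (CohB1.tensorMod (ClSub.idealMod Z) L) :=
    isCoh_tensor X (isCoh_idealMod k Z) (isCoh_of_isInvertible hL)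
  have hsub : Subsingleton (Coh.HH X (CohB1.tensorMod (ClSub.idealMod Z) L) 1) := by
    by_contra hns
    rw [not_subsingleton_iff_nontrivial] at hns
    have := deg_le_of_h1_ideal_tensor k hdim h0 hL Z hZ hns
    linarith
  refine ⟨hsub, fun h00 => ?_⟩
  have hχ := euler_ideal_tensor k hdim h0 hL Z hZ
  have hχ2 := euler_eq_h0_sub_h1 k hdim _ hMcoh
  have e0 : Module.finrank k (Coh.HH X (CohB1.tensorMod (ClSub.idealMod Z) L) 0) = 0 :=
    Module.finrank_zero_of_subsingleton
  have e1 : Module.finrank k (Coh.HH X (CohB1.tensorMod (ClSub.idealMod Z) L) 1) = 0 :=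
    Module.finrank_zero_of_subsingleton
  rw [hχ2, e0, e1] at hχ
  push_cast at hχ
  have hg0 := Int.natCast_nonneg (Curv2.genus k X)
  have hg : (Curv2.genus k X : ℤ) = 0 := by linarith
  refine ⟨by exact_mod_cast hg, by linarith⟩

end Ideal

end Groth.Agent.Lib.Helper7.CurvePair
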