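import Groth.Agent.Lib.Helper7.DegPull
import Groth.Agent.Lib.Helper23.IsoGenus

/-!
# DegPull2: `deg f^*E = δ_E(f_* O_X)` for affine `f`, and invariance of the degree under
birational morphisms of proper schemes of dimension `≤ 1`
-/
set_option autoImplicit false
set_option linter.style.haveILetI false
universe u
open CategoryTheory CategoryTheory.Limits AlgebraicGeometry TopologicalSpace Opposite
open Scheme.Modules

noncomputable section

namespace Groth.Agent.Lib.Helper7.DegPull

open Groth.Agent.Lib.Helper3 Groth.Agent.Lib.Helper3.QCSec Groth.Agent.Lib.Helper3.InvGen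
  Groth.Agent.Lib.Helper3.InvMonoidal Groth.Agent.Lib.Helper3.FreeBasis
  Groth.Agent.Lib.Helper3.SecLoc
  Groth.Agent.Lib.Helper7.TwFun
open Groth.Agent.Lib.Helper23.T2 Groth.Agent.Lib.Helper23.Curve Groth.Agent.Lib.Helper23.Twist
  Groth.Agent.Lib.Helper23.TwE Groth.Agent.Lib.Helper23.TensorPts
  Groth.Agent.Lib.Helper23.EffCart Groth.Agent.Lib.Helper23.Dev
  Groth.Agent.Lib.Helper23.DegTensorGen Groth.Agent.Lib.Helper23.StructPush

variable {X Y : Scheme.{u}}
variable (k : Type u) [Field k] [X.Over (Spec (CommRingCat.of k))]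
  [Y.Over (Spec (CommRingCat.of k))]

/-- `deg f^*E = χ(f_*O_X ⊗ E) - n χ(f_*O_X)` for an affine morphism `f : X ⟶ Y` over `k` -/
theorem deg_pullback_eq_delta [IsProper (Y ↘ Spec (CommRingCat.of k))] (f : X ⟶ Y)
    [IsAffineHom f]
    (hf : f ≫ (Y ↘ Spec (CommRingCat.of k)) = X ↘ Spec (CommRingCat.of k))
    (n : ℕ) (E : Y.Modules) (hE : FlatMod.IsFinLocFreeOfRank n E) :
    Curv2.deg k X ((Scheme.Modules.pullback f).obj E) n =
      delta k n E ((pushforward f).obj (Coh.structureModule X)) := by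
  have hpull := Groth.Agent.Lib.Helper17.LocFreeRank.isFinLocFreeOfRank_pullback f E n hE
  haveI : ((Scheme.Modules.pullback f).obj E).IsQuasicoherent :=
    (isCoh_of_isFinLocFreeOfRank hpull).1
  haveI : (Coh.structureModule X).IsQuasicoherent := (isCoh_structureModule X).1
  have hχ2 := euler_push k f hf (Coh.structureModule X)
  have hχ1a := euler_push k f hf ((Scheme.Modules.pullback f).obj E)
  have hχ1b : Curv2.euler k Y ((pushforward f).obj ((Scheme.Modules.pullback f).obj E)) =
      Curv2.euler k Y ((pushforward f).obj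
        (CohB1.tensorMod (Coh.structureModule X) ((Scheme.Modules.pullback f).obj E))) :=
    Groth.Agent.Lib.Helper23.FBC.euler_eq_of_iso' k
      ((pushforward f).mapIso (unitorL ((Scheme.Modules.pullback f).obj E)).symm)
  haveI : IsIso (Groth.Agent.Lib.Helper2.Mon.projHom f (Coh.structureModule X) E) :=
    Groth.Agent.Lib.Helper13.ProjFormulaLF.isIso_projHom_of_isFinLocFree f _ E
      (Groth.Agent.Lib.Helper17.LocFreeRank.isFinLocFree_of_rank hE)
  have hχ1c : Curv2.euler k Y (CohB1.tensorMod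
        ((pushforward f).obj (Coh.structureModule X)) E) =
      Curv2.euler k Y ((pushforward f).obj
        (CohB1.tensorMod (Coh.structureModule X) ((Scheme.Modules.pullback f).obj E))) :=
    Groth.Agent.Lib.Helper23.FBC.euler_eq_of_iso' k
      (asIso (Groth.Agent.Lib.Helper2.Mon.projHom f (Coh.structureModule X) E))
  unfold delta
  unfold Curv2.deg
  rw [hχ1a, hχ1b, ← hχ1c, hχ2]

/-- `O_Y ⟶ f_* O_X` is bijective on sections over opens over which `f` is an isomorphism -/
theorem isoOn_structMap (f : X ⟶ Y) (U : Y.Opens) [IsIso (f ∣_ U)] :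
    IsoOn (structMap f) U := by
  intro V hVU
  have hb := Groth.Agent.Lib.Helper23.IsoGenus.app_bijective_of_le f U V hVU
  constructor
  · intro a b hab
    have h1 := structMap_app f V (toFun V a)
    have h2 := structMap_app f V (toFun V b)
    have hab' : (ofFun (f ⁻¹ᵁ V) ((f.app V).hom (toFun V a)) :
        Γ(Coh.structureModule X, f ⁻¹ᵁ V)) = ofFun (f ⁻¹ᵁ V) ((f.app V).hom (toFun V b)) := by
      rw [← h1, ← h2]
      exact hab
    exact hb.1 (ofFun_injective _ hab')
  · intro y
    obtain ⟨r, hr⟩ := hb.2 (toFun (f ⁻¹ᵁ V) (y : Γ(Coh.structureModule X, f ⁻¹ᵁ V)))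
    refine ⟨ofFun V r, ?_⟩
    rw [structMap_app, hr]
    rfl

/-- **S1666** -/
theorem deg_pullback_birational [IsProper (X ↘ Spec (CommRingCat.of k))]
    [IsProper (Y ↘ Spec (CommRingCat.of k))] (hdim : topologicalKrullDim Y ≤ 1)
    (f : X ⟶ Y) (hf : f ≫ (Y ↘ Spec (CommRingCat.of k)) = X ↘ Spec (CommRingCat.of k))
    (U : Y.Opens) (hU : Dense (U : Set Y)) (hU' : Dense ((f ⁻¹ᵁ U : X.Opens) : Set X))
    [IsIso (f ∣_ U)] (n : ℕ) (E : Y.Modules) (hE : FlatMod.IsFinLocFreeOfRank n E) :
    Curv2.deg k X ((Scheme.Modules.pullback f).obj E) n = Curv2.deg k Y E n := by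
  haveI := isNoetherian_of_isProper k X
  haveI := isNoetherian_of_isProper k Y
  haveI : IsProper (f ≫ (Y ↘ Spec (CommRingCat.of k))) := by rw [hf]; infer_instance
  haveI : IsProper f := IsProper.of_comp f (Y ↘ Spec (CommRingCat.of k))
  haveI : IsFinite f :=
    Groth.Agent.Lib.Helper23.FinBirat.isFinite_of_isIso_restrict k f hf hdim U hU'
  rw [deg_pullback_eq_delta k f hf n E hE]
  have h := delta_eq_of_isoOn' k hE hdim (isCoh_structureModule Y) (isCoh_push_structure f)
    (structMap f) hU (isoOn_structMap f U)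
  rw [← h, delta_structureModule k hE]

end Groth.Agent.Lib.Helper7.DegPull
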