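import Mathlib
import Groth.Agent.Lib.Helper4.DerSub

set_option autoImplicit false
universe u
open Groth.Agent.Lib.Helper4.DerSub

namespace Groth.Agent.Lib.Helper7.DerCot

section
variable {k : Type u} [Field k] (O : Type u) [CommRing O] [Algebra k O] [IsLocalRing O]
  (resO : O →ₐ[k] k)

theorem ker_resO (hres : Function.Surjective resO) :
    RingHom.ker (resO : O →+* k) = IsLocalRing.maximalIdeal O := by
  have : (RingHom.ker (resO : O →+* k)).IsMaximal :=
    RingHom.ker_isMaximal_of_surjective _ hres
  exact IsLocalRing.eq_maximalIdeal this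

theorem mem_max_iff (hres : Function.Surjective resO) (x : O) :
    x ∈ IsLocalRing.maximalIdeal O ↔ resO x = 0 := by
  rw [← ker_resO O resO hres, RingHom.mem_ker]
  rfl

theorem sub_mem_max (hres : Function.Surjective resO) (o : O) :
    o - algebraMap k O (resO o) ∈ IsLocalRing.maximalIdeal O := by
  rw [mem_max_iff O resO hres, map_sub, AlgHom.commutes]
  simp

/-- the `𝔪`-part of an element, `k`-linear. -/
noncomputable def mpart (hres : Function.Surjective resO) :
    O →ₗ[k] ↥(IsLocalRing.maximalIdeal O) where
  toFun o := ⟨o - algebraMap k O (resO o), sub_mem_max O resO hres o⟩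
  map_add' a b := by
    apply Subtype.ext
    simp only [map_add, Submodule.coe_add]
    ring
  map_smul' c a := by
    apply Subtype.ext
    have h1 : resO (c • a) = c * resO a := by rw [map_smul, smul_eq_mul]
    change c • a - algebraMap k O (resO (c • a)) = c • (a - algebraMap k O (resO a))
    rw [h1, map_mul, Algebra.smul_def, Algebra.smul_def]
    ring

theorem mpart_coe (hres : Function.Surjective resO) (o : O) :
    ((mpart O resO hres o : ↥(IsLocalRing.maximalIdeal O)) : O) = o - algebraMap k O (resO o) := rfl

theorem mpart_of_mem (hres : Function.Surjective resO) (x : ↥(IsLocalRing.maximalIdeal O)) :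
    mpart O resO hres (x : O) = x := by
  apply Subtype.ext
  rw [mpart_coe, (mem_max_iff O resO hres _).mp x.2]
  simp

/-- the quotient map `𝔪 → 𝔪/𝔪²` as a `k`-linear map. -/
noncomputable def toCotK (k : Type u) [Field k] (O : Type u) [CommRing O] [Algebra k O]
    [IsLocalRing O] : ↥(IsLocalRing.maximalIdeal O) →ₗ[k] IsLocalRing.CotangentSpace O :=
  (IsLocalRing.maximalIdeal O).toCotangent.restrictScalars k

theorem toCotK_surjective : Function.Surjective (toCotK k O) :=
  (IsLocalRing.maximalIdeal O).toCotangent_surjective

theorem toCotK_eq_zero (x : ↥(IsLocalRing.maximalIdeal O)) :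
    toCotK k O x = 0 ↔ (x : O) ∈ IsLocalRing.maximalIdeal O ^ 2 :=
  (IsLocalRing.maximalIdeal O).toCotangent_eq_zero x

/-- a derivation kills `𝔪²`. -/
theorem der_sq (hres : Function.Surjective resO) (δ : O →ₗ[k] k) (hδ : δ ∈ derSub O resO)
    (x : O) (hx : x ∈ IsLocalRing.maximalIdeal O ^ 2) : δ x = 0 := by
  rw [pow_two] at hx
  refine Submodule.mul_induction_on hx ?_ ?_
  · intro a ha b hb
    rw [hδ a b, (mem_max_iff O resO hres a).mp ha, (mem_max_iff O resO hres b).mp hb]
    simp
  · intro a b ha hb
    rw [map_add, ha, hb, add_zero]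

theorem der_one (δ : O →ₗ[k] k) (hδ : δ ∈ derSub O resO) : δ 1 = 0 := by
  have h := hδ 1 1
  rw [mul_one, map_one resO, one_mul] at h
  have : δ 1 + δ 1 = δ 1 + 0 := by rw [add_zero]; exact h.symm
  exact add_left_cancel this

/-- from a functional on the cotangent space to a derivation. -/
noncomputable def ofDual (hres : Function.Surjective resO) :
    (IsLocalRing.CotangentSpace O →ₗ[k] k) →ₗ[k] ↥(derSub O resO) where
  toFun ℓ := ⟨ℓ ∘ₗ toCotK k O ∘ₗ mpart O resO hres, by
    intro a b
    simp only [LinearMap.comp_apply]
    have key : mpart O resO hres (a * b) =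
        (⟨(a - algebraMap k O (resO a)) * (b - algebraMap k O (resO b)),
          Ideal.mul_mem_right _ _ (sub_mem_max O resO hres a)⟩ :
            ↥(IsLocalRing.maximalIdeal O)) +
        (resO a • mpart O resO hres b + resO b • mpart O resO hres a) := by
      apply Subtype.ext
      simp only [Submodule.coe_add, Submodule.coe_smul_of_tower, mpart_coe, map_mul,
        Algebra.smul_def]
      ring
    have h0 : toCotK k O (⟨(a - algebraMap k O (resO a)) * (b - algebraMap k O (resO b)),
          Ideal.mul_mem_right _ _ (sub_mem_max O resO hres a)⟩ :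
            ↥(IsLocalRing.maximalIdeal O)) = 0 := by
      rw [toCotK_eq_zero, pow_two]
      exact Ideal.mul_mem_mul (sub_mem_max O resO hres a) (sub_mem_max O resO hres b)
    rw [key]
    simp only [map_add, map_smul, h0, map_zero, zero_add, smul_eq_mul]⟩
  map_add' ℓ ℓ' := by
    apply Subtype.ext
    ext o
    rfl
  map_smul' c ℓ := by
    apply Subtype.ext
    ext o
    rfl

theorem ofDual_apply (hres : Function.Surjective resO) (ℓ : IsLocalRing.CotangentSpace O →ₗ[k] k)
    (o : O) : (ofDual O resO hres ℓ : O →ₗ[k] k) o = ℓ (toCotK k O (mpart O resO hres o)) := rfl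

theorem ofDual_injective (hres : Function.Surjective resO) :
    Function.Injective (ofDual O resO hres) := by
  refine (injective_iff_map_eq_zero (ofDual O resO hres)).mpr ?_
  intro ℓ hℓ
  ext c
  obtain ⟨x, rfl⟩ := toCotK_surjective (k := k) O c
  have h1 := congrArg (fun d : ↥(derSub O resO) => (d : O →ₗ[k] k) (x : O)) hℓ
  simp only [ofDual_apply, mpart_of_mem] at h1
  exact h1

theorem ofDual_surjective (hres : Function.Surjective resO) :
    Function.Surjective (ofDual O resO hres) := by
  rintro ⟨δ, hδ⟩
  -- descend δ|𝔪 through the quotient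
  let g : ↥(IsLocalRing.maximalIdeal O) →ₗ[k] k :=
    δ ∘ₗ ((IsLocalRing.maximalIdeal O).subtype.restrictScalars k)
  have hker : LinearMap.ker (toCotK k O) ≤ LinearMap.ker g := by
    intro x hx
    rw [LinearMap.mem_ker] at hx ⊢
    exact der_sq O resO hres δ hδ _ ((toCotK_eq_zero O x).mp hx)
  let e := LinearMap.quotKerEquivOfSurjective (toCotK k O) (toCotK_surjective O)
  let ℓ : IsLocalRing.CotangentSpace O →ₗ[k] k :=
    (Submodule.liftQ _ g hker) ∘ₗ e.symm.toLinearMap
  have hℓ : ∀ x : ↥(IsLocalRing.maximalIdeal O), ℓ (toCotK k O x) = δ (x : O) := by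
    intro x
    have h1 : e.symm (toCotK k O x) = Submodule.Quotient.mk x := by
      rw [LinearEquiv.symm_apply_eq]
      rfl
    change Submodule.liftQ _ g hker (e.symm (toCotK k O x)) = _
    rw [h1]
    rfl
  refine ⟨ℓ, ?_⟩
  apply Subtype.ext
  ext o
  rw [ofDual_apply, hℓ, mpart_coe, map_sub]
  have h2 : δ (algebraMap k O (resO o)) = 0 := by
    rw [Algebra.algebraMap_eq_smul_one, map_smul, der_one O resO δ hδ, smul_zero]
  rw [h2, sub_zero]

end

/-- (D3a) pure algebra: the k-space of resO-derivations O → k has the dimension of m/m². -/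
theorem finrank_derSub {k : Type u} [Field k] (O : Type u) [CommRing O] [Algebra k O]
    [IsLocalRing O] [IsNoetherianRing O] (resO : O →ₐ[k] k) (hres : Function.Surjective resO) :
    Module.finrank k ↥(derSub O resO) =
      Module.finrank (IsLocalRing.ResidueField O) (IsLocalRing.CotangentSpace O) := by
  have e : (IsLocalRing.CotangentSpace O →ₗ[k] k) ≃ₗ[k] ↥(derSub O resO) :=
    LinearEquiv.ofBijective (ofDual O resO hres)
      ⟨ofDual_injective O resO hres, ofDual_surjective O resO hres⟩
  rw [← e.finrank_eq]
  have h1 : Module.finrank k (IsLocalRing.CotangentSpace O →ₗ[k] k) =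
      Module.finrank k (IsLocalRing.CotangentSpace O) :=
    Subspace.dual_finrank_eq
  rw [h1]
  -- compare `k` and the residue field
  have hbij : Function.Bijective
      (fun c : k => IsLocalRing.residue O (algebraMap k O c)) := by
    constructor
    · exact ((IsLocalRing.residue O).comp (algebraMap k O)).injective
    · intro z
      obtain ⟨o, rfl⟩ := IsLocalRing.residue_surjective z
      refine ⟨resO o, ?_⟩
      change IsLocalRing.residue O (algebraMap k O (resO o)) = IsLocalRing.residue O o
      rw [← sub_eq_zero, ← map_sub, IsLocalRing.residue_eq_zero_iff]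
      have := sub_mem_max O resO hres o
      rw [← neg_sub]
      exact neg_mem this
  have hr := rank_eq_of_equiv_equiv (M := IsLocalRing.CotangentSpace O)
    (M₁ := IsLocalRing.CotangentSpace O)
    (fun c : k => IsLocalRing.residue O (algebraMap k O c)) (AddEquiv.refl _) hbij
    (by
      intro c x
      change c • x = (IsLocalRing.residue O (algebraMap k O c)) • x
      rw [← algebraMap_smul O c x]
      exact (IsScalarTower.algebraMap_smul (IsLocalRing.ResidueField O) (algebraMap k O c) x).symm)
  exact congrArg Cardinal.toNat hr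

end Groth.Agent.Lib.Helper7.DerCot
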