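import Mathlib
import Groth.Prelude.Def_ega3
import Groth.Agent.Lib.Helper7.DvrTest
set_option autoImplicit false
universe u
open CategoryTheory CategoryTheory.Limits MonoidalCategory TensorProduct

namespace Groth.Agent.Lib.Helper7

variable {A : Type u} [CommRing A]

/-- valuative criterion of flatness for finite modules over a reduced Noetherian ring. -/
theorem flat_of_forall_dvr_flat [IsNoetherianRing A] [IsReduced A]
    (M : Type u) [AddCommGroup M] [Module A M] [Module.Finite A M]
    (h : ∀ (B : Type u) [CommRing B] [IsDomain B] [IsDiscreteValuationRing B] [Algebra A B],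
      Module.Flat B (TensorProduct A B M)) :
    Module.Flat A M := by
  haveI : Module.FinitePresentation A M := Module.finitePresentation_of_finite A M
  haveI : Module.Projective A M := by
    rw [← Module.freeLocus_eq_univ_iff, Set.eq_univ_iff_forall]
    intro y
    refine Groth.Agent.Lib.Helper12.FibreRank.mem_freeLocus_of_fdim_eq M y (fun x hxy => ?_)
    rcases eq_or_lt_of_le hxy with rfl | hlt
    · rfl
    · obtain ⟨B, _, _, _, _, hker, hle⟩ := exists_dvr_of_lt x y hlt
      haveI : Module.Flat B (B ⊗[A] M) := h B
      haveI : Module.Free B (B ⊗[A] M) := Module.free_of_flat_of_isLocalRing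
      have h1 : fibDim (B ⊗[A] M) (⟨⊥, Ideal.isPrime_bot⟩ : PrimeSpectrum B) =
          fibDim (B ⊗[A] M) (IsLocalRing.closedPoint B) := by
        rw [fibDim_of_free, fibDim_of_free]
      rw [fibDim_baseChange, fibDim_baseChange] at h1
      have hxg : PrimeSpectrum.comap (algebraMap A B) (⟨⊥, Ideal.isPrime_bot⟩ : PrimeSpectrum B)
          = x := PrimeSpectrum.ext hker
      have hyc : y ≤ PrimeSpectrum.comap (algebraMap A B) (IsLocalRing.closedPoint B) := hle
      rw [hxg] at h1
      have h2 := Groth.Agent.Lib.Helper12.FibreRank.fdim_le_of_le M hxy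
      have h3 := Groth.Agent.Lib.Helper12.FibreRank.fdim_le_of_le M hyc
      exact le_antisymm h2 (le_trans h3 (le_of_eq h1.symm))
  infer_instance

end Groth.Agent.Lib.Helper7
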