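import Mathlib
import Groth.Prelude.Def_AnFib

/-!
# Base change of elementary fibrations (`An.IsElementaryFibration`)
-/

set_option autoImplicit false
set_option backward.isDefEq.respectTransparency false
universe u
open CategoryTheory CategoryTheory.Limits AlgebraicGeometry

namespace Groth.Agent.Lib.Helper7.ElemFibBC

/-- Range of the second projection of a pullback square of schemes. -/
theorem range_snd_of_isPullback {P X Y Z : Scheme.{u}} {fst : P ⟶ X} {snd : P ⟶ Y}
    {f : X ⟶ Z} {g : Y ⟶ Z} (h : IsPullback fst snd f g) :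
    Set.range snd.base = g.base ⁻¹' Set.range f.base := by
  have := Scheme.image_preimage_eq_of_isPullback h Set.univ
  simpa [Set.image_univ] using this

/-- The base change square of a factor: `X ×_S S' → Xb ×_S S'` is the base change of `j : X → Xb`. -/
theorem isPullback_map_left {X Xb S S' : Scheme.{u}} (j : X ⟶ Xb) (fb : Xb ⟶ S) (u : S' ⟶ S) :
    IsPullback (pullback.map (j ≫ fb) u fb u j (𝟙 S') (𝟙 S) (by simp) (by simp))
      (pullback.fst (j ≫ fb) u) (pullback.fst fb u) j := by
  refine IsPullback.of_right ?_ ?_ (IsPullback.of_hasPullback fb u).flip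
  · have e : pullback.map (j ≫ fb) u fb u j (𝟙 S') (𝟙 S) (by simp) (by simp) ≫ pullback.snd fb u =
        pullback.snd (j ≫ fb) u := by simp [pullback.map]
    rw [e]
    exact (IsPullback.of_hasPullback (j ≫ fb) u).flip
  · simp [pullback.map]

set_option maxHeartbeats 800000 in
/-- Elementary fibrations are stable under arbitrary base change. -/
theorem isElementaryFibration_pullback_snd {X S S' : Scheme.{u}} (f : X ⟶ S) (u : S' ⟶ S)
    (hf : An.IsElementaryFibration f) : An.IsElementaryFibration (pullback.snd f u) := by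
  classical
  obtain ⟨Xb, Y, j, fb, i, hjf, hj, hi, hrange, hdense, hsm, hproj, hgeo, hfin, het, hsurj⟩ := hf
  subst hjf
  let p : pullback fb u ⟶ Xb := pullback.fst fb u
  let fb' : pullback fb u ⟶ S' := pullback.snd fb u
  let j' : pullback (j ≫ fb) u ⟶ pullback fb u :=
    pullback.map (j ≫ fb) u fb u j (𝟙 S') (𝟙 S) (by simp) (by simp)
  let i' : pullback (i ≫ fb) u ⟶ pullback fb u :=
    pullback.map (i ≫ fb) u fb u i (𝟙 S') (𝟙 S) (by simp) (by simp)
  have sqj : IsPullback j' (pullback.fst (j ≫ fb) u) p j := isPullback_map_left j fb u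
  have sqi : IsPullback i' (pullback.fst (i ≫ fb) u) p i := isPullback_map_left i fb u
  have hj'fb : j' ≫ fb' = pullback.snd (j ≫ fb) u := by simp [j', fb', pullback.map]
  have hi'fb : i' ≫ fb' = pullback.snd (i ≫ fb) u := by simp [i', fb', pullback.map]
  have rj : Set.range j'.base = p.base ⁻¹' Set.range j.base := range_snd_of_isPullback sqj.flip
  have ri : Set.range i'.base = p.base ⁻¹' Set.range i.base := range_snd_of_isPullback sqi.flip
  have hj' : IsOpenImmersion j' := MorphismProperty.of_isPullback (P := @IsOpenImmersion) sqj.flip hj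
  have hi' : IsClosedImmersion i' :=
    MorphismProperty.of_isPullback (P := @IsClosedImmersion) sqi.flip hi
  refine ⟨pullback fb u, pullback (i ≫ fb) u, j', fb', i', hj'fb, hj', hi', ?_, ?_, ?_, ?_, ?_, ?_, ?_, ?_⟩
  · -- complement
    rw [rj, ri, hrange]
    rfl
  · -- fibrewise density
    intro s'
    let Ω := AlgebraicClosure (S'.residueField s')
    let σ' : Spec (CommRingCat.of Ω) ⟶ S' :=
      Spec.map (CommRingCat.ofHom (algebraMap (S'.residueField s') Ω)) ≫ S'.fromSpecResidueField s'
    have hσ' : ∀ z, σ' z = s' := fun z => by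
      simp only [σ', Scheme.Hom.comp_apply]
      exact Scheme.fromSpecResidueField_apply _ _
    obtain ⟨hirr, -⟩ := hgeo Ω (σ' ≫ u)
    let g0 : pullback fb (σ' ≫ u) ⟶ pullback fb u :=
      pullback.lift (pullback.fst fb (σ' ≫ u)) (pullback.snd fb (σ' ≫ u) ≫ σ')
        (by rw [Category.assoc]; exact pullback.condition)
    have sqg : IsPullback g0 (pullback.snd fb (σ' ≫ u)) fb' σ' := by
      refine IsPullback.of_right ?_ ?_ (IsPullback.of_hasPullback fb u)
      · have e : g0 ≫ pullback.fst fb u = pullback.fst fb (σ' ≫ u) := by simp [g0]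
        rw [e]
        exact IsPullback.of_hasPullback fb (σ' ≫ u)
      · simp [g0, fb']
    have hrσ : Set.range σ'.base = {s'} := by
      ext y
      constructor
      · rintro ⟨z, rfl⟩
        exact hσ' z
      · intro hy
        have hy' : y = s' := hy
        subst hy'
        obtain ⟨z⟩ : Nonempty ↥(Spec (CommRingCat.of Ω)) := inferInstance
        exact ⟨z, hσ' z⟩
    have hrg0 : Set.range g0.base = fb'.base ⁻¹' {s'} := by
      rw [range_snd_of_isPullback sqg.flip, hrσ]
    haveI := hirr
    have hFirr : IsPreirreducible (fb'.base ⁻¹' {s'}) := by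
      rw [← hrg0, ← Set.image_univ]
      exact (PreirreducibleSpace.isPreirreducible_univ (X := ↥(pullback fb (σ' ≫ u)))).image _
        g0.continuous.continuousOn
    -- a point of the fibre lying in the open part
    obtain ⟨g⟩ : Nonempty ↥(pullback fb (σ' ≫ u)) := hirr.toNonempty
    have hg0 : fb.base ((pullback.fst fb (σ' ≫ u)).base g) = u.base s' := by
      have h1 : (pullback.fst fb (σ' ≫ u) ≫ fb) g = (pullback.snd fb (σ' ≫ u) ≫ σ' ≫ u) g := by
        rw [pullback.condition]
      rw [Scheme.Hom.comp_apply, Scheme.Hom.comp_apply, Scheme.Hom.comp_apply, hσ'] at h1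
      exact h1
    have hcl := hdense (u.base s') hg0
    obtain ⟨x0, hx0U, hx0s⟩ : (Set.range j.base ∩ fb.base ⁻¹' {u.base s'}).Nonempty := by
      by_contra hne
      rw [Set.not_nonempty_iff_eq_empty] at hne
      rw [hne, closure_empty] at hcl
      exact hcl
    obtain ⟨x', hx'1, hx'2⟩ :=
      Scheme.Pullback.exists_preimage_pullback (f := fb) (g := u) x0 s' hx0s
    have hx'U : x' ∈ Set.range j'.base := by
      rw [rj]
      refine Set.mem_preimage.mpr ?_
      rw [show p.base x' = x0 from hx'1]
      exact hx0U
    have hx'F : x' ∈ fb'.base ⁻¹' {s'} := hx'2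
    intro x hxF
    rw [mem_closure_iff]
    intro o ho hxo
    have hU : IsOpen (Set.range j'.base) := j'.isOpenEmbedding.isOpen_range
    obtain ⟨y, hyF, hyo, hyU⟩ :=
      hFirr o (Set.range j'.base) ho hU ⟨x, hxF, hxo⟩ ⟨x', hx'F, hx'U⟩
    exact ⟨y, hyo, hyU, hyF⟩
  · -- smooth
    exact MorphismProperty.pullback_snd (P := @Smooth) fb u hsm
  · -- strongly projective
    obtain ⟨n, c, hc, hcf⟩ := hproj
    let T := CohB1.ProjSpace.toSpec n (ULift.{u} ℤ)
    let tS := specULiftZIsTerminal.from S
    let tS' := specULiftZIsTerminal.from S'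
    have htu : u ≫ tS = tS' := specULiftZIsTerminal.hom_ext _ _
    let q : pullback T tS' ⟶ pullback T tS :=
      pullback.lift (pullback.fst T tS') (pullback.snd T tS' ≫ u)
        (by rw [Category.assoc, htu]; exact pullback.condition)
    have sqq : IsPullback q (pullback.snd T tS') (pullback.snd T tS) u := by
      refine IsPullback.of_right ?_ ?_ (IsPullback.of_hasPullback T tS)
      · have e : q ≫ pullback.fst T tS = pullback.fst T tS' := by simp [q]
        rw [e, htu]
        exact IsPullback.of_hasPullback T tS'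
      · simp [q]
    have hcf' : c ≫ pullback.snd T tS = fb := hcf
    let c' : pullback fb u ⟶ pullback T tS' :=
      pullback.lift (p ≫ c ≫ pullback.fst T tS) fb' (specULiftZIsTerminal.hom_ext _ _)
    have hc'q : c' ≫ q = p ≫ c := by
      apply pullback.hom_ext
      · simp [c', q]
      · simp only [Category.assoc, c', q, pullback.lift_snd, pullback.lift_snd_assoc]
        rw [hcf']
        exact pullback.condition.symm
    have sqc : IsPullback c' p q c := by
      refine IsPullback.of_right ?_ hc'q sqq.flip
      have e1 : c' ≫ pullback.snd T tS' = fb' := by simp [c']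
      rw [e1, hcf']
      exact (IsPullback.of_hasPullback fb u).flip
    refine ⟨n, c', MorphismProperty.of_isPullback (P := @IsClosedImmersion) sqc.flip hc, ?_⟩
    show c' ≫ pullback.snd T tS' = fb'
    simp [c']
  · -- geometric fibres
    intro Ω _ _ σ
    obtain ⟨hirr, hdim⟩ := hgeo Ω (σ ≫ u)
    let e := pullbackLeftPullbackSndIso fb u σ
    let h := Scheme.homeoOfIso e
    constructor
    · haveI := hirr
      have hpre : IsPreirreducible (Set.univ : Set ↥(pullback fb' σ)) := by
        have := (PreirreducibleSpace.isPreirreducible_univ (X := ↥(pullback fb (σ ≫ u)))).image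
          h.symm h.symm.continuous.continuousOn
        rwa [Set.image_univ, h.symm.surjective.range_eq] at this
      exact { toPreirreducibleSpace := ⟨hpre⟩, toNonempty := ⟨h.symm (Classical.arbitrary _)⟩ }
    · rw [← hdim]
      exact IsHomeomorph.topologicalKrullDim_eq h h.isHomeomorph
  · rw [hi'fb]
    exact MorphismProperty.pullback_snd (P := @IsFinite) _ _ hfin
  · rw [hi'fb]
    exact MorphismProperty.pullback_snd (P := @Etale) _ _ het
  · rw [hi'fb]
    haveI : Surjective (i ≫ fb) := ⟨hsurj⟩
    exact (MorphismProperty.pullback_snd (P := @Surjective) (i ≫ fb) u inferInstance).surj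

end Groth.Agent.Lib.Helper7.ElemFibBC
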