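import Mathlib

set_option autoImplicit false
universe u
open CategoryTheory CategoryTheory.Limits AlgebraicGeometry

namespace Groth.Agent.Lib.Helper7.EmbR3F1

open TensorProduct

/-- F1 (pure algebra): flatness criterion over the dual numbers. -/
theorem flat_dualNumber_of_ann {k : Type u} [Field k] {M : Type u} [AddCommGroup M]
    [Module (DualNumber k) M]
    (h : ∀ m : M, (DualNumber.eps : DualNumber k) • m = 0 →
      ∃ m' : M, m = (DualNumber.eps : DualNumber k) • m') :
    Module.Flat (DualNumber k) M := by
  rw [Module.Flat.iff_rTensor_injective']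
  intro I
  by_cases hI : ∃ x ∈ I, TrivSqZeroExt.fst x ≠ 0
  · obtain ⟨x, hx, hx0⟩ := hI
    have hu : IsUnit x := TrivSqZeroExt.isUnit_iff_isUnit_fst.2 (IsUnit.mk0 _ hx0)
    have hItop : I = ⊤ := Ideal.eq_top_of_isUnit_mem I hx hu
    subst hItop
    have : ((⊤ : Ideal (DualNumber k)).subtype : _ →ₗ[DualNumber k] DualNumber k) =
        (Submodule.topEquiv : _ ≃ₗ[DualNumber k] DualNumber k).toLinearMap := rfl
    change Function.Injective (LinearMap.rTensor M (⊤ : Ideal (DualNumber k)).subtype)
    rw [this]
    exact (LinearEquiv.rTensor M (Submodule.topEquiv : _ ≃ₗ[DualNumber k] DualNumber k)).injective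
  · push_neg at hI
    have hform : ∀ x ∈ I, x = TrivSqZeroExt.inl (TrivSqZeroExt.snd x) * DualNumber.eps := by
      intro x hx
      have h0 := hI x hx
      have hx' : x = TrivSqZeroExt.inr (TrivSqZeroExt.snd x) :=
        TrivSqZeroExt.ext (by rw [h0, TrivSqZeroExt.fst_inr]) (by rw [TrivSqZeroExt.snd_inr])
      rw [show (DualNumber.eps : DualNumber k) = TrivSqZeroExt.inr 1 from rfl,
        TrivSqZeroExt.inl_mul_inr, smul_eq_mul, mul_one]
      exact hx'
    by_cases hε : (DualNumber.eps : DualNumber k) ∈ I
    · have hall : ∀ t : I ⊗[DualNumber k] M, ∃ m : M, t = (⟨DualNumber.eps, hε⟩ : I) ⊗ₜ m := by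
        intro t
        induction t using TensorProduct.induction_on with
        | zero => exact ⟨0, (tmul_zero _ _).symm⟩
        | tmul x m =>
          refine ⟨(TrivSqZeroExt.inl (TrivSqZeroExt.snd x.1) : DualNumber k) • m, ?_⟩
          have hx : x = (TrivSqZeroExt.inl (TrivSqZeroExt.snd x.1) : DualNumber k) •
              (⟨DualNumber.eps, hε⟩ : I) := by
            apply Subtype.ext
            exact hform x.1 x.2
          conv_lhs => rw [hx]
          exact TensorProduct.smul_tmul _ _ _
        | add a b ha hb =>
          obtain ⟨m₁, rfl⟩ := ha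
          obtain ⟨m₂, rfl⟩ := hb
          exact ⟨m₁ + m₂, (tmul_add _ _ _).symm⟩
      rw [injective_iff_map_eq_zero]
      intro t ht
      obtain ⟨m, rfl⟩ := hall t
      rw [LinearMap.rTensor_tmul] at ht
      have h1 : (DualNumber.eps : DualNumber k) • m = 0 := by
        have := congrArg (TensorProduct.lid (DualNumber k) M) ht
        simpa using this
      obtain ⟨m', rfl⟩ := h m h1
      rw [← TensorProduct.smul_tmul]
      have : (DualNumber.eps : DualNumber k) • (⟨DualNumber.eps, hε⟩ : I) = 0 := by
        apply Subtype.ext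
        change (DualNumber.eps : DualNumber k) * DualNumber.eps = 0
        exact DualNumber.eps_mul_eps
      rw [this, zero_tmul]
    · have hbot : ∀ x : I, x = 0 := by
        intro x
        apply Subtype.ext
        have hx := hform x.1 x.2
        by_cases hc : TrivSqZeroExt.snd x.1 = 0
        · rw [hx, hc]
          simp
        · exfalso
          apply hε
          have : (DualNumber.eps : DualNumber k) =
              TrivSqZeroExt.inl (TrivSqZeroExt.snd x.1)⁻¹ * x.1 := by
            generalize TrivSqZeroExt.snd x.1 = c at hx hc ⊢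
            rw [hx, ← mul_assoc, ← TrivSqZeroExt.inl_mul, inv_mul_cancel₀ hc,
              TrivSqZeroExt.inl_one, one_mul]
          rw [this]
          exact I.mul_mem_left _ x.2
      haveI : Subsingleton I := ⟨fun a b => by rw [hbot a, hbot b]⟩
      haveI : Subsingleton (I ⊗[DualNumber k] M) := by
        refine ⟨fun a b => ?_⟩
        have hz : ∀ t : I ⊗[DualNumber k] M, t = 0 := by
          intro t
          induction t using TensorProduct.induction_on with
          | zero => rfl
          | tmul x m => rw [Subsingleton.elim x 0, zero_tmul]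
          | add a b ha hb => rw [ha, hb, add_zero]
        rw [hz a, hz b]
      exact Function.injective_of_subsingleton _

/-- F1' (corollary of F1, ring form). -/
theorem flat_quotient_dualNumber {k : Type u} [Field k] {B : Type u} [CommRing B]
    (a : DualNumber k →+* B) (J : Ideal B)
    (hJ : ∀ b : B, a DualNumber.eps * b ∈ J → ∃ j ∈ J, ∃ c : B, b = j + a DualNumber.eps * c) :
    ((Ideal.Quotient.mk J).comp a).Flat := by
  letI := ((Ideal.Quotient.mk J).comp a).toAlgebra
  change Module.Flat (DualNumber k) (B ⧸ J)
  apply flat_dualNumber_of_ann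
  intro m hm
  obtain ⟨b, rfl⟩ := Ideal.Quotient.mk_surjective m
  have h1 : (DualNumber.eps : DualNumber k) • (Ideal.Quotient.mk J b) =
      Ideal.Quotient.mk J (a DualNumber.eps * b) := by
    rw [Algebra.smul_def, map_mul]
    rfl
  rw [h1, Ideal.Quotient.eq_zero_iff_mem] at hm
  obtain ⟨j, hj, c, rfl⟩ := hJ b hm
  refine ⟨Ideal.Quotient.mk J c, ?_⟩
  have h2 : (DualNumber.eps : DualNumber k) • (Ideal.Quotient.mk J c) =
      Ideal.Quotient.mk J (a DualNumber.eps * c) := by
    rw [Algebra.smul_def, map_mul]
    rfl
  rw [h2, map_add, Ideal.Quotient.eq_zero_iff_mem.mpr hj, zero_add]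

end Groth.Agent.Lib.Helper7.EmbR3F1
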