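import Mathlib
import Groth.Prelude
import Groth.Agent.Lib.Helper7.FibFacF

/-!
# Helper library (helper7): regular models — the closed fibre is numerically trivial (S3318) and
the multiplicities of its components are positive.
-/

set_option autoImplicit false
set_option linter.unusedSectionVars false
set_option linter.style.haveILetI false
universe u
open CategoryTheory CategoryTheory.Limits AlgebraicGeometry Opposite TopologicalSpace
open Scheme.Modules

namespace Groth.Agent.Lib.Helper7.FibFacG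

open Groth.Agent.Lib.Helper3 Groth.Agent.Lib.Helper3.InvMonoidal Groth.Agent.Lib.Helper3.InvTensor
open Groth.Agent.Lib.Helper3.InvGen
open Groth.Agent.Lib.Helper7.SnapFGA Groth.Agent.Lib.Helper17
open Groth.Agent.Lib.Helper23
open Groth.Agent.Lib.Helper7.FibFacA Groth.Agent.Lib.Helper7.FibFacB
open Groth.Agent.Lib.Helper7.FibFacD Groth.Agent.Lib.Helper7.FibFacF
open Groth.Agent.Lib.Helper1.ModelComp Groth.Agent.Lib.Helper1.ModelMult

variable (R : Type u) [CommRing R] [IsDomain R] [IsDiscreteValuationRing R]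
  (X : Over (Spec (CommRingCat.of R)))

/-- the ideal of the closed fibre is trivial as a module. -/
theorem exists_iso_specialFibreIdeal [Flat X.hom] :
    Nonempty (Coh.structureModule X.left ≅ ClSub.idealMod (Models.specialFibreIdeal R X)) := by
  obtain ⟨ϖ, hϖ⟩ := IsDiscreteValuationRing.exists_irreducible R
  exact idealMod_iso_of_principal' _ (unif X ϖ)
    (fun V => piU_mem_nonZeroDivisors R X ϖ hϖ V)
    (fun x => by
      obtain ⟨V, hV, hxV, -⟩ := Opens.isBasis_iff_nbhd.mp X.left.isBasis_affineOpens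
        (show x ∈ (⊤ : X.left.Opens) from trivial)
      exact ⟨⟨V, hV⟩, hxV, specialFibreIdeal_ideal R X ϖ hϖ ⟨V, hV⟩⟩)

/-- **the closed fibre of a regular model is numerically trivial.** -/
theorem sum_mult_inter_eq_zero' (hproper : IsProper X.hom) [Flat X.hom]
    (hreg : ∀ x : X.left, IsRegularLocalRing (X.left.presheaf.stalk x))
    {n : ℕ} (Γ : Fin n → ArSurf.VertComp R X) (hΓ : Models.IsComponentList R X Γ)
    (L : Fin n → X.left.Modules)
    (hL : ∀ j, ClSub.IsInverseOf (L j) (ClSub.idealMod (Γ j).ι.ker)) (i : Fin n) :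
    ∑ j, (Models.mult R X (Γ j) : ℤ) * ArSurf.inter R X (L j) (Γ i) = 0 := by
  haveI := hproper
  haveI : IsLocallyNoetherian X.left := LocallyOfFiniteType.isLocallyNoetherian X.hom
  haveI : CompactSpace X.left := QuasiCompact.compactSpace_of_compactSpace X.hom
  haveI : IsNoetherian X.left := {}
  haveI : IsProper (Γ i).curve.hom := by
    haveI : IsClosedImmersion
        (Spec.map (CommRingCat.ofHom (IsLocalRing.residue R))) :=
      IsClosedImmersion.spec_of_surjective _ IsLocalRing.residue_surjective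
    haveI : IsProper ((Γ i).curve.hom ≫
        Spec.map (CommRingCat.ofHom (IsLocalRing.residue R))) := by
      rw [← (Γ i).w]
      infer_instance
    exact IsProper.of_comp (Γ i).curve.hom
      (Spec.map (CommRingCat.ofHom (IsLocalRing.residue R)))
  haveI : IsProper ((Γ i).curve.left ↘ Spec (CommRingCat.of (IsLocalRing.ResidueField R))) :=
    ‹IsProper (Γ i).curve.hom›
  have hd1 : topologicalKrullDim (Γ i).curve.left ≤ 1 := by rw [(Γ i).dim_eq]
  have hd1' : topologicalKrullDim (Γ i).curve.left ≤ ((1 : ℕ) : WithBot ℕ∞) := by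
    rw [(Γ i).dim_eq]
    norm_cast
  obtain ⟨hcart, hprod⟩ := specialFibreIdeal_eq_prod R X hreg Γ hΓ
  obtain ⟨e⟩ := exists_iso_specialFibreIdeal R X
  rw [hprod] at e
  have hInv : ∀ j, PicF.IsInvertible (ClSub.idealMod (Γ j).ι.ker) := fun j =>
    (EffCartMod.isInvertible_idealMod_iff _).mpr (hcart j)
  have h0 := (δ_of_iso (IsLocalRing.ResidueField R) (Γ i).ι _ e).2
  have h1 := (δ_prod' (IsLocalRing.ResidueField R) hd1 (Γ i).ι Finset.univ
    (fun j => (Γ j).ι.ker) (fun j => Models.mult R X (Γ j)) hInv).2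
  have hint : ∀ j, ArSurf.inter R X (L j) (Γ i) =
      - δ (IsLocalRing.ResidueField R) (Γ i).ι (Γ j).ι.ker := by
    intro j
    obtain ⟨ej⟩ := hL j
    have hLinv : PicF.IsInvertible (L j) :=
      isInvertible_of_inverse (hInv j) ⟨braid _ _ ≪≫ ej⟩
    have hMinv := PbBasic.isInvertible_pullback (Γ i).ι hLinv
    have hM'inv := PbBasic.isInvertible_pullback (Γ i).ι (hInv j)
    have hinv : ClSub.IsInverseOf ((Scheme.Modules.pullback (Γ i).ι).obj (L j))
        ((Scheme.Modules.pullback (Γ i).ι).obj (ClSub.idealMod (Γ j).ι.ker)) :=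
      ⟨(PbTensor.pbTensorIso (Γ i).ι (L j) _ hLinv (hInv j)).symm ≪≫
        (Scheme.Modules.pullback (Γ i).ι).mapIso ej ≪≫ PbBasic.pbUnit (Γ i).ι⟩
    have h := DegTensor.deg_of_isInverseOf (IsLocalRing.ResidueField R) hd1 hMinv hM'inv hinv
    unfold ArSurf.inter ArSurf.curveDeg
    rw [eulerLE_eq _ _ 1 hd1', eulerLE_eq _ _ 1 hd1']
    unfold δ
    rw [h]
    unfold Curv2.deg
    push_cast
    ring
  calc ∑ j, (Models.mult R X (Γ j) : ℤ) * ArSurf.inter R X (L j) (Γ i)
      = ∑ j, - ((Models.mult R X (Γ j) : ℤ) *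
          δ (IsLocalRing.ResidueField R) (Γ i).ι (Γ j).ι.ker) :=
        Finset.sum_congr rfl (fun j _ => by rw [hint j]; ring)
    _ = - ∑ j, (Models.mult R X (Γ j) : ℤ) *
          δ (IsLocalRing.ResidueField R) (Γ i).ι (Γ j).ι.ker := Finset.sum_neg_distrib _
    _ = 0 := by rw [← h1, h0, neg_zero]

/-- **S3318** (general form): `Σ_i m_i (Γ_j · Γ_i) = 0`. -/
theorem main3318 (hproper : IsProper X.hom) [Flat X.hom]
    (hreg : ∀ x : X.left, IsRegularLocalRing (X.left.presheaf.stalk x))
    {n : ℕ} (Γ : Fin n → ArSurf.VertComp R X) (hΓ : Models.IsComponentList R X Γ)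
    (L : Fin n → X.left.Modules)
    (hL : ∀ j, ClSub.IsInverseOf (L j) (ClSub.idealMod (Γ j).ι.ker)) (j : Fin n) :
    ∑ i, (Models.mult R X (Γ i) : ℤ) * ArSurf.inter R X (L j) (Γ i) = 0 := by
  rw [← sum_mult_inter_eq_zero' R X hproper hreg Γ hΓ L hL j]
  exact Finset.sum_congr rfl (fun i _ => by
    rw [Groth.Agent.Lib.Helper7.IntLenE.inter_symm R X hproper hreg Γ hΓ L hL i j])

/-- the multiplicities of the components of the closed fibre of a regular model are positive. -/
theorem mult_pos' [Flat X.hom] [IsNoetherian X.left]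
    (hreg : ∀ x : X.left, IsRegularLocalRing (X.left.presheaf.stalk x))
    {n : ℕ} (Γ : Fin n → ArSurf.VertComp R X) (hΓ : Models.IsComponentList R X Γ) (i : Fin n) :
    0 < Models.mult R X (Γ i) := by
  classical
  obtain ⟨ϖ, hϖ⟩ := IsDiscreteValuationRing.exists_irreducible R
  obtain ⟨-, hprod⟩ := specialFibreIdeal_eq_prod R X hreg Γ hΓ
  have hmem : ∀ k, Set.range (Γ k).ι ∈ Models.fibreComponents R X := fun k => by
    rw [← hΓ.2]
    exact ⟨k, rfl⟩
  by_contra hpos
  have hm0 : Models.mult R X (Γ i) = 0 := by omega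
  set ξ := (Γ i).ι.base (genericPoint (Γ i).curve.left) with hξdef
  -- an affine neighbourhood of the generic point missing the other components
  have hWo : IsOpen (⋂ j, (if j = i then Set.univ else (Set.range (Γ j).ι.base)ᶜ) :
      Set X.left) :=
    isOpen_iInter_of_finite fun j => by
      split_ifs
      · exact isOpen_univ
      · exact (Γ j).ι.isClosedEmbedding.isClosed_range.isOpen_compl
  have hξW : ξ ∈ (⟨_, hWo⟩ : X.left.Opens) := Set.mem_iInter.mpr fun j => by
    split_ifs with h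
    · trivial
    · intro hmemj
      have h1 := genPt_notMem_of_ne (Γ i) (Γ j) (hmem i) (hmem j)
        (fun h2 => h (hΓ.1 h2).symm)
      rw [support_ker] at h1
      exact h1 hmemj
  obtain ⟨V, hV, hξV, hVW⟩ := Opens.isBasis_iff_nbhd.mp X.left.isBasis_affineOpens hξW
  have htop : ∀ j, j ≠ i → (Γ j).ι.ker.ideal ⟨V, hV⟩ = ⊤ := fun j hj =>
    ker_ideal_eq_top (Γ j).ι ⟨V, hV⟩ (fun c hc => by
      have h1 := Set.mem_iInter.mp (hVW hc) j
      rw [if_neg hj] at h1
      exact h1 ⟨c, rfl⟩)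
  have h1 : (Models.specialFibreIdeal R X).ideal ⟨V, hV⟩ = ⊤ := by
    rw [hprod, ideal_prod_pow, ← Ideal.one_eq_top]
    refine Finset.prod_eq_one (fun j _ => ?_)
    by_cases hj : j = i
    · rw [hj, hm0, pow_zero]
    · rw [htop j hj, ← Ideal.one_eq_top, one_pow]
  rw [specialFibreIdeal_ideal R X ϖ hϖ ⟨V, hV⟩, Ideal.span_singleton_eq_top] at h1
  have h2 : ξ ∈ X.left.basicOpen (piU R X ϖ V) := by
    rw [Scheme.basicOpen_of_isUnit _ h1]
    exact hξV
  have h3 : ξ ∈ X.left.basicOpen (Coh.toGlobal X.hom ϖ) := by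
    have h4 : X.left.basicOpen (piU R X ϖ V) = V ⊓ X.left.basicOpen (Coh.toGlobal X.hom ϖ) :=
      Scheme.basicOpen_res _ _ _
    rw [h4] at h2
    exact h2.2
  have h5 : ξ ∈ Models.specialFibreSet R X := (maximal_of_mem (hmem i)).prop.2 ⟨_, rfl⟩
  rw [specialFibreSet_eq R X ϖ hϖ] at h5
  exact h5 h3

end Groth.Agent.Lib.Helper7.FibFacG
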