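import Mathlib
import Groth.Prelude
import Groth.Agent.Lib.Helper7.IntLenC
import Groth.Agent.Lib.Helper7.DegRestr
import Groth.Agent.Lib.Helper7.FibFacG
import Groth.Agent.Lib.Helper23.CurveD

/-!
# Helper library (helper7): the intersection number `L · Γ` of an invertible module with a vertical
prime divisor depends only on the ideal of `Γ`; non-negativity from a section.
-/

set_option autoImplicit false
set_option linter.unusedSectionVars false
set_option linter.style.haveILetI false
universe u
open CategoryTheory CategoryTheory.Limits AlgebraicGeometry Opposite TopologicalSpace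
open Scheme.Modules

namespace Groth.Agent.Lib.Helper7.InterInv

open Groth.Agent.Lib.Helper3 Groth.Agent.Lib.Helper3.InvMonoidal Groth.Agent.Lib.Helper3.InvTensor
open Groth.Agent.Lib.Helper7.SnapFGA Groth.Agent.Lib.Helper17
open Groth.Agent.Lib.Helper7.ArSurfDeg Groth.Agent.Lib.Helper7.CanSec
open Groth.Agent.Lib.Helper7.NumSec Groth.Agent.Lib.Helper23
open Groth.Agent.Lib.Helper7.IntLenC Groth.Agent.Lib.Helper7.DegRestr
open Groth.Agent.Lib.Helper7.FibFacD Groth.Agent.Lib.Helper7.FibFacF

variable {R : Type u} [CommRing R] [IsDomain R] [IsDiscreteValuationRing R]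
  {X : Over (Spec (CommRingCat.of R))}

theorem isProper_curve (hproper : IsProper X.hom) (Γ : ArSurf.VertComp R X) :
    IsProper (Γ.curve.left ↘ Spec (CommRingCat.of (IsLocalRing.ResidueField R))) := by
  haveI := hproper
  haveI : IsClosedImmersion
      (Spec.map (CommRingCat.ofHom (IsLocalRing.residue R))) :=
    IsClosedImmersion.spec_of_surjective _ IsLocalRing.residue_surjective
  haveI : IsProper (Γ.curve.hom ≫ Spec.map (CommRingCat.ofHom (IsLocalRing.residue R))) := by
    rw [← Γ.w]
    infer_instance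
  exact IsProper.of_comp Γ.curve.hom (Spec.map (CommRingCat.ofHom (IsLocalRing.residue R)))

/-- Euler characteristic in degrees `≤ 1` measured by lengths over the base ring. -/
noncomputable def chiR (F : X.left.Modules) : ℤ :=
  (Finset.range (1 + 1)).sum fun i =>
    (-1 : ℤ) ^ i * ((Module.length R (Coh.HH X.left F i)).toNat : ℤ)

theorem inter_eq_chiR (hproper : IsProper X.hom) (Γ : ArSurf.VertComp R X) (L : X.left.Modules)
    (hL : PicF.IsInvertible L) :
    ArSurf.inter R X L Γ =
      chiR (X := X) (CohB1.tensorMod (ClSub.quotMod Γ.ι.ker) L) -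
        chiR (X := X) (ClSub.quotMod Γ.ι.ker) := by
  have hcohL : Coh.IsCoh ((Scheme.Modules.pullback Γ.ι).obj L) :=
    Groth.Agent.Lib.Helper23.Curve.isCoh_of_isInvertible (PbBasic.isInvertible_pullback Γ.ι hL)
  have hcohO : Coh.IsCoh (Coh.structureModule Γ.curve.left) :=
    Groth.Agent.Lib.Helper23.Curve.isCoh_of_isInvertible
      (InvGen.isInvertible_structureModule Γ.curve.left)
  let e1 : CohB1.tensorMod (ClSub.quotMod Γ.ι.ker) L ≅
      (Scheme.Modules.pushforward Γ.ι).obj ((Scheme.Modules.pullback Γ.ι).obj L) :=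
    tensorMapIso (quotModKerIso Γ.ι) (Iso.refl L) ≪≫
      Groth.Agent.Lib.Helper2.Mon.projIso Γ.ι _ _ ≪≫
      (Scheme.Modules.pushforward Γ.ι).mapIso (unitorL _)
  have h1 : ∀ p : ℕ, (Module.finrank (IsLocalRing.ResidueField R)
      (Coh.HH Γ.curve.left ((Scheme.Modules.pullback Γ.ι).obj L) p) : ℤ) =
      ((Module.length R (Coh.HH X.left
        (CohB1.tensorMod (ClSub.quotMod Γ.ι.ker) L) p)).toNat : ℤ) := by
    intro p
    have h := length_push hproper Γ _ hcohL p
    rw [← (HmapEquivR (R := R) e1 p).length_eq] at h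
    rw [h]
    simp
  have h2 : ∀ p : ℕ, (Module.finrank (IsLocalRing.ResidueField R)
      (Coh.HH Γ.curve.left (Coh.structureModule Γ.curve.left) p) : ℤ) =
      ((Module.length R (Coh.HH X.left (ClSub.quotMod Γ.ι.ker) p)).toNat : ℤ) := by
    intro p
    have h := length_push hproper Γ _ hcohO p
    rw [← (HmapEquivR (R := R) (quotModKerIso Γ.ι) p).length_eq] at h
    rw [h]
    simp
  unfold ArSurf.inter ArSurf.curveDeg FGA.eulerCharLE chiR
  congr 1
  · exact Finset.sum_congr rfl fun p _ => by rw [h1 p]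
  · exact Finset.sum_congr rfl fun p _ => by rw [h2 p]

/-- **the intersection number depends only on the ideal of the vertical prime divisor.** -/
theorem inter_eq_of_ker_eq (hproper : IsProper X.hom) (Γ Γ' : ArSurf.VertComp R X)
    (h : Γ.ι.ker = Γ'.ι.ker) (L : X.left.Modules) (hL : PicF.IsInvertible L) :
    ArSurf.inter R X L Γ = ArSurf.inter R X L Γ' := by
  rw [inter_eq_chiR hproper Γ L hL, inter_eq_chiR hproper Γ' L hL, h]

/-- an invertible module with a section not vanishing identically on `Γ` has non-negative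
degree on `Γ`. -/
theorem inter_nonneg_of_section (hproper : IsProper X.hom) (Γ : ArSurf.VertComp R X)
    (N : X.left.Modules) (hN : PicF.IsInvertible N) (s : Coh.structureModule X.left ⟶ N)
    (hs : Γ.ι.base (genericPoint ↥Γ.curve.left) ∈ CohB1.genLocus N s) :
    0 ≤ ArSurf.inter R X N Γ := by
  haveI := isProper_curve hproper Γ
  have hgl := PbBasic.genLocus_pullHom Γ.ι hN s
  have hMinv := PbBasic.isInvertible_pullback Γ.ι hN
  have hη : genericPoint ↥Γ.curve.left ∈
      CohB1.genLocus ((Scheme.Modules.pullback Γ.ι).obj N) (PbBasic.pullHom Γ.ι s) := by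
    rw [hgl]
    exact hs
  have ht : PbBasic.pullHom Γ.ι s ≠ 0 := by
    intro h
    rw [h] at hη
    exact notMem_genLocus_zero _ _ hη
  have hle := Groth.Agent.Lib.Helper7.GGNef.euler_le_of_section (IsLocalRing.ResidueField R)
    Γ.curve.left Γ.dim_eq _ hMinv _ ht
  have hd1 : topologicalKrullDim Γ.curve.left ≤ ((1 : ℕ) : WithBot ℕ∞) := by
    rw [Γ.dim_eq]
    norm_cast
  have hinter : ArSurf.inter R X N Γ =
      Curv2.euler (IsLocalRing.ResidueField R) Γ.curve.left
        ((Scheme.Modules.pullback Γ.ι).obj N) -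
      Curv2.euler (IsLocalRing.ResidueField R) Γ.curve.left
        (Coh.structureModule Γ.curve.left) := by
    unfold ArSurf.inter ArSurf.curveDeg
    rw [eulerLE_eq _ _ 1 hd1, eulerLE_eq _ _ 1 hd1]
  rw [hinter]
  linarith

/-- `O(D) · Γ = - deg (I_D |_Γ)`. -/
theorem inter_eq_neg_delta (hproper : IsProper X.hom) (Γ : ArSurf.VertComp R X)
    (D : X.left.IdealSheafData) (hD : PicF.IsInvertible (ClSub.idealMod D))
    (L : X.left.Modules) (hL : ClSub.IsInverseOf L (ClSub.idealMod D)) :
    ArSurf.inter R X L Γ = - δ (IsLocalRing.ResidueField R) Γ.ι D := by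
  haveI := isProper_curve hproper Γ
  have hd1 : topologicalKrullDim Γ.curve.left ≤ 1 := by rw [Γ.dim_eq]
  have hd1' : topologicalKrullDim Γ.curve.left ≤ ((1 : ℕ) : WithBot ℕ∞) := by
    rw [Γ.dim_eq]
    norm_cast
  obtain ⟨ej⟩ := hL
  have hLinv : PicF.IsInvertible L :=
    isInvertible_of_inverse hD ⟨braid _ _ ≪≫ ej⟩
  have hMinv := PbBasic.isInvertible_pullback Γ.ι hLinv
  have hM'inv := PbBasic.isInvertible_pullback Γ.ι hD
  have hinv : ClSub.IsInverseOf ((Scheme.Modules.pullback Γ.ι).obj L)
      ((Scheme.Modules.pullback Γ.ι).obj (ClSub.idealMod D)) :=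
    ⟨(PbTensor.pbTensorIso Γ.ι L _ hLinv hD).symm ≪≫
      (Scheme.Modules.pullback Γ.ι).mapIso ej ≪≫ PbBasic.pbUnit Γ.ι⟩
  have h := DegTensor.deg_of_isInverseOf (IsLocalRing.ResidueField R) hd1 hMinv hM'inv hinv
  unfold ArSurf.inter ArSurf.curveDeg
  rw [eulerLE_eq _ _ 1 hd1', eulerLE_eq _ _ 1 hd1']
  unfold δ
  rw [h]
  unfold Curv2.deg
  push_cast
  ring

/-- the degree on `Γ` of the ideal module of an invertible ideal, as an intersection number. -/
theorem inter_idealMod_eq_delta (hproper : IsProper X.hom) (Γ : ArSurf.VertComp R X)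
    (D : X.left.IdealSheafData) :
    ArSurf.inter R X (ClSub.idealMod D) Γ = δ (IsLocalRing.ResidueField R) Γ.ι D := by
  haveI := isProper_curve hproper Γ
  have hd1' : topologicalKrullDim Γ.curve.left ≤ ((1 : ℕ) : WithBot ℕ∞) := by
    rw [Γ.dim_eq]
    norm_cast
  unfold ArSurf.inter ArSurf.curveDeg
  rw [eulerLE_eq _ _ 1 hd1', eulerLE_eq _ _ 1 hd1']
  unfold δ Curv2.deg
  push_cast
  ring

end Groth.Agent.Lib.Helper7.InterInv
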