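import Mathlib

/-!
# Helper library (helper7): linear algebra of the intersection matrix of a fibre (Mathlib only)

A symmetric integer matrix `M` with non-negative off-diagonal entries and a positive vector `n` in
its kernel is negative semi-definite; if moreover its graph is connected, its kernel is spanned by
`n`.
-/

set_option autoImplicit false
open Finset

namespace Groth.Agent.Lib.Helper7.SemiDefLA

variable {r : ℕ} (M : Fin r → Fin r → ℤ) (n : Fin r → ℕ)

/-- the basic identity: `Σ M_ij n_i n_j (x_i - x_j)² = -2 Σ M_ij (n_i x_i) (n_j x_j)`. -/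
theorem key_identity (hsymm : ∀ i j, M i j = M j i)
    (hker : ∀ i, ∑ j, (n j : ℤ) * M i j = 0) (x : Fin r → ℚ) :
    ∑ i, ∑ j, (M i j : ℚ) * (n i : ℚ) * (n j : ℚ) * (x i - x j) ^ 2 =
      -2 * ∑ i, ∑ j, (M i j : ℚ) * ((n i : ℚ) * x i) * ((n j : ℚ) * x j) := by
  have hkerQ : ∀ i, ∑ j, (n j : ℚ) * (M i j : ℚ) = 0 := fun i => by
    have := hker i
    exact_mod_cast this
  have h1 : ∑ i, ∑ j, (M i j : ℚ) * (n i : ℚ) * (n j : ℚ) * (x i) ^ 2 = 0 := by
    refine Finset.sum_eq_zero (fun i _ => ?_)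
    have : ∑ j, (M i j : ℚ) * (n i : ℚ) * (n j : ℚ) * (x i) ^ 2 =
        ((n i : ℚ) * (x i) ^ 2) * ∑ j, (n j : ℚ) * (M i j : ℚ) := by
      rw [Finset.mul_sum]
      exact Finset.sum_congr rfl (fun j _ => by ring)
    rw [this, hkerQ i, mul_zero]
  have h2 : ∑ i, ∑ j, (M i j : ℚ) * (n i : ℚ) * (n j : ℚ) * (x j) ^ 2 = 0 := by
    rw [Finset.sum_comm]
    refine Finset.sum_eq_zero (fun j _ => ?_)
    have : ∑ i, (M i j : ℚ) * (n i : ℚ) * (n j : ℚ) * (x j) ^ 2 =
        ((n j : ℚ) * (x j) ^ 2) * ∑ i, (n i : ℚ) * (M j i : ℚ) := by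
      rw [Finset.mul_sum]
      exact Finset.sum_congr rfl (fun i _ => by rw [hsymm i j]; ring)
    rw [this, hkerQ j, mul_zero]
  have h3 : ∀ i j, (M i j : ℚ) * (n i : ℚ) * (n j : ℚ) * (x i - x j) ^ 2 =
      (M i j : ℚ) * (n i : ℚ) * (n j : ℚ) * (x i) ^ 2 +
        (M i j : ℚ) * (n i : ℚ) * (n j : ℚ) * (x j) ^ 2 -
        2 * ((M i j : ℚ) * ((n i : ℚ) * x i) * ((n j : ℚ) * x j)) := fun i j => by ring
  simp only [h3, Finset.sum_sub_distrib, Finset.sum_add_distrib, h1, h2, ← Finset.mul_sum]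
  ring

/-- **negative semi-definiteness.** -/
theorem quad_nonpos (hn : ∀ i, 0 < n i) (hsymm : ∀ i j, M i j = M j i)
    (hoff : ∀ i j, i ≠ j → 0 ≤ M i j) (hker : ∀ i, ∑ j, (n j : ℤ) * M i j = 0)
    (a : Fin r → ℤ) : ∑ i, ∑ j, a i * a j * M i j ≤ 0 := by
  have hnQ : ∀ i, (n i : ℚ) ≠ 0 := fun i => by
    have := hn i
    positivity
  have hid := key_identity M n hsymm hker (fun i => (a i : ℚ) / (n i : ℚ))
  have hnonneg : 0 ≤ ∑ i, ∑ j, (M i j : ℚ) * (n i : ℚ) * (n j : ℚ) *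
      ((a i : ℚ) / (n i : ℚ) - (a j : ℚ) / (n j : ℚ)) ^ 2 := by
    refine Finset.sum_nonneg (fun i _ => Finset.sum_nonneg (fun j _ => ?_))
    by_cases hij : i = j
    · rw [hij, sub_self]
      simp
    · have h1 : (0 : ℚ) ≤ (M i j : ℚ) := by exact_mod_cast hoff i j hij
      positivity
  rw [hid] at hnonneg
  have h4 : ∑ i, ∑ j, (M i j : ℚ) * ((n i : ℚ) * ((a i : ℚ) / (n i : ℚ))) *
      ((n j : ℚ) * ((a j : ℚ) / (n j : ℚ))) = ((∑ i, ∑ j, a i * a j * M i j : ℤ) : ℚ) := by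
    push_cast
    refine Finset.sum_congr rfl (fun i _ => Finset.sum_congr rfl (fun j _ => ?_))
    rw [mul_div_cancel₀ _ (hnQ i), mul_div_cancel₀ _ (hnQ j)]
    ring
  rw [h4] at hnonneg
  have h5 : ((∑ i, ∑ j, a i * a j * M i j : ℤ) : ℚ) ≤ 0 := by linarith
  exact_mod_cast h5

/-- **the kernel is spanned by the positive vector**, if the graph is connected. -/
theorem exists_rat_of_kernel (hn : ∀ i, 0 < n i) (hsymm : ∀ i j, M i j = M j i)
    (hoff : ∀ i j, i ≠ j → 0 ≤ M i j) (hker : ∀ i, ∑ j, (n j : ℤ) * M i j = 0)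
    (hconn : ∀ I : Finset (Fin r), I.Nonempty → I ≠ Finset.univ →
      ∃ i ∈ I, ∃ j ∉ I, M i j ≠ 0)
    (a : Fin r → ℤ) (ha : ∑ i, ∑ j, a i * a j * M i j = 0) :
    ∃ c : ℚ, ∀ i, (a i : ℚ) = c * (n i : ℚ) := by
  classical
  have hnQ : ∀ i, (n i : ℚ) ≠ 0 := fun i => by
    have := hn i
    positivity
  have hnpos : ∀ i, (0 : ℚ) < (n i : ℚ) := fun i => by
    have := hn i
    positivity
  set x : Fin r → ℚ := fun i => (a i : ℚ) / (n i : ℚ) with hx
  have hid := key_identity M n hsymm hker x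
  have h4 : ∑ i, ∑ j, (M i j : ℚ) * ((n i : ℚ) * x i) * ((n j : ℚ) * x j) =
      ((∑ i, ∑ j, a i * a j * M i j : ℤ) : ℚ) := by
    push_cast
    refine Finset.sum_congr rfl (fun i _ => Finset.sum_congr rfl (fun j _ => ?_))
    simp only [hx]
    rw [mul_div_cancel₀ _ (hnQ i), mul_div_cancel₀ _ (hnQ j)]
    ring
  rw [h4, ha, Int.cast_zero, mul_zero] at hid
  have hterm : ∀ i j, 0 ≤ (M i j : ℚ) * (n i : ℚ) * (n j : ℚ) * (x i - x j) ^ 2 := by
    intro i j
    by_cases hij : i = j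
    · rw [hij, sub_self]
      simp
    · have h1 : (0 : ℚ) ≤ (M i j : ℚ) := by exact_mod_cast hoff i j hij
      positivity
  have hzero : ∀ i j, (M i j : ℚ) * (n i : ℚ) * (n j : ℚ) * (x i - x j) ^ 2 = 0 := by
    intro i j
    have h1 := (Finset.sum_eq_zero_iff_of_nonneg
      (fun i _ => Finset.sum_nonneg (fun j _ => hterm i j))).mp hid i (Finset.mem_univ i)
    exact (Finset.sum_eq_zero_iff_of_nonneg (fun j _ => hterm i j)).mp h1 j (Finset.mem_univ j)
  have heq : ∀ i j, M i j ≠ 0 → x i = x j := by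
    intro i j hM
    have h1 := hzero i j
    have hMQ : (M i j : ℚ) ≠ 0 := by exact_mod_cast hM
    have h2 : (x i - x j) ^ 2 = 0 := by
      rcases mul_eq_zero.mp h1 with h | h
      · rcases mul_eq_zero.mp h with h' | h'
        · rcases mul_eq_zero.mp h' with h'' | h''
          · exact absurd h'' hMQ
          · exact absurd h'' (hnQ i)
        · exact absurd h' (hnQ j)
      · exact h
    have h3 : x i - x j = 0 := by
      rcases pow_eq_zero_iff (two_ne_zero) |>.mp h2 with h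
      exact h
    linarith
  rcases Nat.eq_zero_or_pos r with hr | hr
  · subst hr
    exact ⟨0, fun i => i.elim0⟩
  · let i₀ : Fin r := ⟨0, hr⟩
    refine ⟨x i₀, fun i => ?_⟩
    let I : Finset (Fin r) := Finset.univ.filter (fun j => x j = x i₀)
    have hI : I.Nonempty := ⟨i₀, by simp [I]⟩
    have hIu : I = Finset.univ := by
      by_contra hne
      obtain ⟨i', hi', j', hj', hM⟩ := hconn I hI hne
      apply hj'
      have h1 : x i' = x i₀ := by simpa [I] using hi'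
      have h2 := heq i' j' hM
      simp only [I, Finset.mem_filter, Finset.mem_univ, true_and]
      rw [← h2, h1]
    have hi : i ∈ I := hIu ▸ Finset.mem_univ i
    have h1 : x i = x i₀ := by simpa [I] using hi
    rw [← h1]
    simp only [hx]
    rw [div_mul_cancel₀ _ (hnQ i)]

end Groth.Agent.Lib.Helper7.SemiDefLA
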