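import Mathlib
import Groth.Prelude
import Groth.Agent.Lib.Helper7.FibFacE
import Groth.Agent.Lib.Helper7.SemiDefLA

/-!
# Helper library (helper7): the kernel of the intersection form on the vertical divisors of an
arithmetic surface with connected closed fibre (S8727).
-/

set_option autoImplicit false
set_option linter.unusedSectionVars false
set_option linter.style.haveILetI false
universe u
open CategoryTheory CategoryTheory.Limits AlgebraicGeometry Opposite TopologicalSpace
open Scheme.Modules

namespace Groth.Agent.Lib.Helper7.KerForm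

open Groth.Agent.Lib.Helper7.ArSurfDeg Groth.Agent.Lib.Helper7.IntLenD
open Groth.Agent.Lib.Helper7.FibFacE

variable {R : Type u} [CommRing R] [IsDomain R] [IsDiscreteValuationRing R]
  {X : Over (Spec (CommRingCat.of R))}

/-- a vertical prime divisor lies in the closed fibre. -/
theorem range_subset_specialFibreSet (Γ : ArSurf.VertComp R X) :
    Set.range Γ.ι.base ⊆ Models.specialFibreSet R X := by
  rintro _ ⟨c, rfl⟩
  change X.hom.base (Γ.ι.base c) = IsLocalRing.closedPoint R
  have h : X.hom.base (Γ.ι.base c) =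
      (Spec.map (CommRingCat.ofHom (IsLocalRing.residue R))).base (Γ.curve.hom.base c) := by
    have h1 := congrArg (fun f => f.base c) Γ.w
    exact h1
  rw [h]
  exact IsLocalRing.PrimeSpectrum.comap_residue R _

/-- pairwise distinct vertical prime divisors covering the closed fibre are its components. -/
theorem isComponentList_of_cover {n : ℕ} (Γ : Fin n → ArSurf.VertComp R X)
    (hdist : Function.Injective fun i => Set.range (Γ i).ι.base)
    (hcov : ∀ x ∈ Models.specialFibreSet R X, ∃ i, x ∈ Set.range (Γ i).ι.base) :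
    Models.IsComponentList R X Γ := by
  classical
  refine ⟨hdist, ?_⟩
  have hclosed : ∀ k, IsClosed (Set.range (Γ k).ι.base) := fun k =>
    (Γ k).ι.isClosedEmbedding.isClosed_range
  have hirr : ∀ k, IsIrreducible (Set.range (Γ k).ι.base) := fun k => by
    rw [← Set.image_univ]
    exact (IrreducibleSpace.isIrreducible_univ _).image _ (Γ k).ι.continuous.continuousOn
  -- an irreducible subset of the closed fibre lies in some component
  have hsub : ∀ Z : Set X.left, IsIrreducible Z → Z ⊆ Models.specialFibreSet R X →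
      ∃ k, Z ⊆ Set.range (Γ k).ι.base := by
    intro Z hZ hZF
    obtain ⟨z, hz, hZz⟩ := isIrreducible_iff_sUnion_isClosed.mp hZ
      (Finset.univ.image (fun k => Set.range (Γ k).ι.base))
      (fun z hz => by
        obtain ⟨k, -, rfl⟩ := Finset.mem_image.mp hz
        exact hclosed k)
      (fun x hx => by
        obtain ⟨k, hk⟩ := hcov x (hZF hx)
        exact Set.mem_sUnion.mpr ⟨_, Finset.mem_coe.mpr
          (Finset.mem_image.mpr ⟨k, Finset.mem_univ k, rfl⟩), hk⟩)
    obtain ⟨k, -, rfl⟩ := Finset.mem_image.mp hz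
    exact ⟨k, hZz⟩
  have hle : ∀ i k, Set.range (Γ i).ι.base ⊆ Set.range (Γ k).ι.base → i = k := by
    intro i k hik
    by_contra hne
    have h1 := generic_notMem_of_ne (Γ i) (Γ k) (fun h => hne (hdist h))
    rw [support_ker_eq_range] at h1
    exact h1 (hik ⟨_, rfl⟩)
  ext Z
  constructor
  · rintro ⟨i, rfl⟩
    refine ⟨⟨hirr i, range_subset_specialFibreSet (Γ i)⟩, ?_⟩
    intro S hS hiS
    obtain ⟨k, hk⟩ := hsub S hS.1 hS.2
    have hik := hle i k (hiS.trans hk)
    subst hik
    exact hk
  · intro hZ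
    have hZ' : Maximal (fun S : Set X.left => IsIrreducible S ∧
        S ⊆ Models.specialFibreSet R X) Z := hZ
    obtain ⟨k, hk⟩ := hsub Z hZ'.prop.1 hZ'.prop.2
    have h2 := hZ'.le_of_ge ⟨hirr k, range_subset_specialFibreSet (Γ k)⟩ hk
    exact ⟨k, Set.Subset.antisymm h2 hk⟩

/-- **the kernel of the intersection form** (general form of S8727). -/
theorem kernel_iff (hX : ArSurf.IsArithSurface R X)
    (hconn : _root_.IsPreconnected (Models.specialFibreSet R X))
    {r : ℕ} (Γ : Fin r → ArSurf.VertComp R X)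
    (hdist : Function.Injective fun i => Set.range (Γ i).ι.base)
    (hcov : ∀ x ∈ Models.specialFibreSet R X, ∃ i, x ∈ Set.range (Γ i).ι.base)
    (L : Fin r → X.left.Modules)
    (hL : ∀ j, ClSub.IsInverseOf (L j) (ClSub.idealMod ((Γ j).ι.ker))) (a : Fin r → ℤ) :
    (∀ i, ∑ j, a j * ArSurf.inter R X (L j) (Γ i) = 0) ↔
      ∃ c : ℚ, ∀ i, (a i : ℚ) = c * (Models.mult R X (Γ i) : ℚ) := by
  have hp := isProper_hom R X hX
  haveI : IsIntegral X.left := hX.2.1
  haveI : Flat X.hom := hX.2.2.2.1
  haveI : IsLocallyNoetherian X.left := LocallyOfFiniteType.isLocallyNoetherian X.hom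
  have hΓ := isComponentList_of_cover Γ hdist hcov
  have hdist' : ∀ i j, i ≠ j → Set.range (Γ i).ι.base ≠ Set.range (Γ j).ι.base :=
    fun i j hij h => hij (hdist h)
  have hcart : ∀ j, BlowUp.IsEffCartierIdeal (Γ j).ι.ker := fun j => isEffCartierIdeal_ker hX (Γ j)
  set M : Fin r → Fin r → ℤ := fun i j => ArSurf.inter R X (L j) (Γ i) with hM
  have hn : ∀ i, 0 < Models.mult R X (Γ i) := fun i => mult_pos Γ hdist' hcov hcart i
  have hsymm : ∀ i j, M i j = M j i := by
    intro i j
    by_cases hij : i = j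
    · rw [hij]
    · exact main8730 hX (Γ i) (Γ j) (hdist' i j hij) (L i) (L j) (hL i) (hL j)
  have hoff : ∀ i j, i ≠ j → 0 ≤ M i j := by
    intro i j hij
    have hgen := generic_notMem_of_ne (Γ i) (Γ j) (hdist' i j hij)
    exact (Groth.Agent.Lib.Helper7.ArSurfDegB.inter_nonneg_and_eq_zero_iff hp (Γ i)
      (Γ j).ι.ker ((Groth.Agent.Lib.Helper17.EffCartMod.isInvertible_idealMod_iff _).mpr
        (hcart j)) hgen (L j) (hL j)).1
  have hker : ∀ i, ∑ j, (Models.mult R X (Γ j) : ℤ) * M i j = 0 := fun i =>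
    sum_mult_inter_eq_zero hp Γ hdist' hcov hcart L hL i
  have hgraph : ∀ I : Finset (Fin r), I.Nonempty → I ≠ Finset.univ →
      ∃ i ∈ I, ∃ j ∉ I, M i j ≠ 0 := fun I hI hI' =>
    Groth.Agent.Lib.Helper1.ModelComp.exists_inter_ne_zero R X hp hX.1 hconn Γ hΓ L hL I hI hI'
  constructor
  · intro ha
    refine Groth.Agent.Lib.Helper7.SemiDefLA.exists_rat_of_kernel M
      (fun i => Models.mult R X (Γ i)) hn hsymm hoff hker hgraph a ?_
    refine Finset.sum_eq_zero (fun i _ => ?_)
    have h1 : ∑ j, a i * a j * M i j = a i * ∑ j, a j * M i j := by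
      rw [Finset.mul_sum]
      exact Finset.sum_congr rfl (fun j _ => by ring)
    rw [h1, ha i, mul_zero]
  · rintro ⟨c, hc⟩ i
    have h1 : ((∑ j, a j * M i j : ℤ) : ℚ) = 0 := by
      push_cast
      have h2 : ∑ j, (a j : ℚ) * (M i j : ℚ) =
          c * ((∑ j, (Models.mult R X (Γ j) : ℤ) * M i j : ℤ) : ℚ) := by
        push_cast
        rw [Finset.mul_sum]
        exact Finset.sum_congr rfl (fun j _ => by rw [hc j]; ring)
      rw [h2, hker i, Int.cast_zero, mul_zero]
    exact_mod_cast h1

end Groth.Agent.Lib.Helper7.KerForm
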