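import Mathlib
import Groth.Prelude
import Groth.Agent.Lib.Helper7.MTwA
import Groth.Agent.Lib.Helper7.FibFacG
import Groth.Agent.Lib.Helper7.SemiDefLA

/-!
# Helper library (helper7): the kernel of `ℤⁿ → Pic X`, `e_i ↦ O_X(Γ_i)`, for a regular proper
model is generated by the multiplicity vector (S3314).
-/

set_option autoImplicit false
set_option linter.unusedSectionVars false
set_option linter.style.haveILetI false
universe u
open CategoryTheory CategoryTheory.Limits AlgebraicGeometry Opposite TopologicalSpace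
open Scheme.Modules

namespace Groth.Agent.Lib.Helper7.MTwB

open Groth.Agent.Lib.Helper3 Groth.Agent.Lib.Helper3.InvMonoidal Groth.Agent.Lib.Helper3.InvTensor
open Groth.Agent.Lib.Helper3.InvGen Groth.Agent.Lib.Helper3.QCSec
open Groth.Agent.Lib.Helper7.SnapFGA Groth.Agent.Lib.Helper17
open Groth.Agent.Lib.Helper23
open Groth.Agent.Lib.Helper7.FibFacA Groth.Agent.Lib.Helper7.FibFacB
open Groth.Agent.Lib.Helper7.FibFacD Groth.Agent.Lib.Helper7.FibFacF
open Groth.Agent.Lib.Helper7.FibFacG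
open Groth.Agent.Lib.Helper1.ModelComp Groth.Agent.Lib.Helper1.ModelMult
open Groth.Agent.Lib.Helper7.MTwA Groth.Agent.Lib.Helper13.ClMon

theorem monoid_aux {M : Type*} [CommMonoid M] {xa xb ya yb : M} (hA : xa * ya = 1)
    (hB : xb * yb = 1) (h : xa = xb) : ya = yb := by
  calc ya = ya * (xb * yb) := by rw [hB, mul_one]
    _ = (xa * ya) * yb := by rw [← h, ← mul_assoc, mul_comm ya xa]
    _ = yb := by rw [hA, one_mul]

variable (R : Type u) [CommRing R] [IsDomain R] [IsDiscreteValuationRing R]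
  (X : Over (Spec (CommRingCat.of R)))

section

variable (hproper : IsProper X.hom) [Flat X.hom]
  (hreg : ∀ x : X.left, IsRegularLocalRing (X.left.presheaf.stalk x))
  {n : ℕ} (Γ : Fin n → ArSurf.VertComp R X) (hΓ : Models.IsComponentList R X Γ)
  (L : Fin n → X.left.Modules)
  (hL : ∀ j, ClSub.IsInverseOf (L j) (ClSub.idealMod (Γ j).ι.ker))

include hproper hreg hΓ in
theorem isInvertible_ker (j : Fin n) : PicF.IsInvertible (ClSub.idealMod (Γ j).ι.ker) := by
  haveI := hproper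
  haveI : IsLocallyNoetherian X.left := LocallyOfFiniteType.isLocallyNoetherian X.hom
  haveI : CompactSpace X.left := QuasiCompact.compactSpace_of_compactSpace X.hom
  haveI : IsNoetherian X.left := {}
  exact (EffCartMod.isInvertible_idealMod_iff _).mpr
    ((specialFibreIdeal_eq_prod R X hreg Γ hΓ).1 j)

include hproper hreg hΓ hL in
/-- `O_X(Σ m_i Γ_i)` is trivial. -/
theorem cl_multiTwist_mult :
    PicF.cl (FGA.multiTwist L (fun i => Models.mult R X (Γ i))) = 1 := by
  haveI := hproper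
  haveI : IsLocallyNoetherian X.left := LocallyOfFiniteType.isLocallyNoetherian X.hom
  haveI : CompactSpace X.left := QuasiCompact.compactSpace_of_compactSpace X.hom
  haveI : IsNoetherian X.left := {}
  obtain ⟨hcart, hprod⟩ := specialFibreIdeal_eq_prod R X hreg Γ hΓ
  obtain ⟨e⟩ := exists_iso_specialFibreIdeal R X
  rw [hprod] at e
  have h1 := cl_multiTwist_mul_idealMod L (fun j => (Γ j).ι.ker)
    (isInvertible_ker R X hproper hreg Γ hΓ) hL (fun i => Models.mult R X (Γ i))
  have h2 : PicF.cl (ClSub.idealMod (∏ i, (Γ i).ι.ker ^ Models.mult R X (Γ i))) = 1 :=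
    (cl_eq_one_iff _).2 ⟨e⟩
  rw [h2, mul_one] at h1
  exact h1

include hproper hreg hΓ hL in
theorem cl_multiTwist_add_smul (b : Fin n → ℕ) (k : ℕ) :
    PicF.cl (FGA.multiTwist L (fun i => b i + k * Models.mult R X (Γ i))) =
      PicF.cl (FGA.multiTwist L b) := by
  have h := cl_multiTwist_mult R X hproper hreg Γ hΓ L hL
  rw [cl_multiTwist] at h
  rw [cl_multiTwist, cl_multiTwist]
  calc ∏ i, PicF.cl (L i) ^ (b i + k * Models.mult R X (Γ i))
      = ∏ i, (PicF.cl (L i) ^ b i * (PicF.cl (L i) ^ Models.mult R X (Γ i)) ^ k) := by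
        refine Finset.prod_congr rfl (fun i _ => ?_)
        rw [pow_add, mul_comm k, pow_mul]
    _ = (∏ i, PicF.cl (L i) ^ b i) * (∏ i, PicF.cl (L i) ^ Models.mult R X (Γ i)) ^ k := by
        rw [Finset.prod_mul_distrib, Finset.prod_pow]
    _ = ∏ i, PicF.cl (L i) ^ b i := by rw [h, one_pow, mul_one]

include hproper hreg hΓ hL in
/-- isomorphic multi-twists have the same degrees on every component. -/
theorem sum_inter_eq_of_cl_eq (a b : Fin n → ℕ)
    (h : PicF.cl (FGA.multiTwist L a) = PicF.cl (FGA.multiTwist L b)) (i : Fin n) :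
    ∑ j, (a j : ℤ) * ArSurf.inter R X (L j) (Γ i) =
      ∑ j, (b j : ℤ) * ArSurf.inter R X (L j) (Γ i) := by
  haveI := hproper
  haveI : IsLocallyNoetherian X.left := LocallyOfFiniteType.isLocallyNoetherian X.hom
  haveI : CompactSpace X.left := QuasiCompact.compactSpace_of_compactSpace X.hom
  haveI : IsNoetherian X.left := {}
  haveI : IsProper (Γ i).curve.hom := by
    haveI : IsClosedImmersion
        (Spec.map (CommRingCat.ofHom (IsLocalRing.residue R))) :=
      IsClosedImmersion.spec_of_surjective _ IsLocalRing.residue_surjective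
    haveI : IsProper ((Γ i).curve.hom ≫
        Spec.map (CommRingCat.ofHom (IsLocalRing.residue R))) := by
      rw [← (Γ i).w]
      infer_instance
    exact IsProper.of_comp (Γ i).curve.hom
      (Spec.map (CommRingCat.ofHom (IsLocalRing.residue R)))
  haveI : IsProper ((Γ i).curve.left ↘ Spec (CommRingCat.of (IsLocalRing.ResidueField R))) :=
    ‹IsProper (Γ i).curve.hom›
  have hd1 : topologicalKrullDim (Γ i).curve.left ≤ 1 := by rw [(Γ i).dim_eq]
  have hd1' : topologicalKrullDim (Γ i).curve.left ≤ ((1 : ℕ) : WithBot ℕ∞) := by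
    rw [(Γ i).dim_eq]
    norm_cast
  have hInv := isInvertible_ker R X hproper hreg Γ hΓ
  have hA := cl_multiTwist_mul_idealMod L (fun j => (Γ j).ι.ker) hInv hL a
  have hB := cl_multiTwist_mul_idealMod L (fun j => (Γ j).ι.ker) hInv hL b
  obtain ⟨e⟩ := (cl_eq_iff _ _).1 (monoid_aux hA hB h)
  have hδ : δ (IsLocalRing.ResidueField R) (Γ i).ι (∏ j, (Γ j).ι.ker ^ a j) =
      δ (IsLocalRing.ResidueField R) (Γ i).ι (∏ j, (Γ j).ι.ker ^ b j) := by
    unfold δ
    exact deg_eq_of_iso' (IsLocalRing.ResidueField R)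
      ((Scheme.Modules.pullback (Γ i).ι).mapIso e)
  have hint : ∀ j, ArSurf.inter R X (L j) (Γ i) =
      - δ (IsLocalRing.ResidueField R) (Γ i).ι (Γ j).ι.ker := by
    intro j
    obtain ⟨ej⟩ := hL j
    have hLinv : PicF.IsInvertible (L j) :=
      isInvertible_of_inverse (hInv j) ⟨braid _ _ ≪≫ ej⟩
    have hMinv := PbBasic.isInvertible_pullback (Γ i).ι hLinv
    have hM'inv := PbBasic.isInvertible_pullback (Γ i).ι (hInv j)
    have hinv : ClSub.IsInverseOf ((Scheme.Modules.pullback (Γ i).ι).obj (L j))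
        ((Scheme.Modules.pullback (Γ i).ι).obj (ClSub.idealMod (Γ j).ι.ker)) :=
      ⟨(PbTensor.pbTensorIso (Γ i).ι (L j) _ hLinv (hInv j)).symm ≪≫
        (Scheme.Modules.pullback (Γ i).ι).mapIso ej ≪≫ PbBasic.pbUnit (Γ i).ι⟩
    have h := DegTensor.deg_of_isInverseOf (IsLocalRing.ResidueField R) hd1 hMinv hM'inv hinv
    unfold ArSurf.inter ArSurf.curveDeg
    rw [eulerLE_eq _ _ 1 hd1', eulerLE_eq _ _ 1 hd1']
    unfold δ
    rw [h]
    unfold Curv2.deg
    push_cast
    ring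
  have e1 : ∀ c : Fin n → ℕ, ∑ j, (c j : ℤ) * ArSurf.inter R X (L j) (Γ i) =
      - δ (IsLocalRing.ResidueField R) (Γ i).ι (∏ j, (Γ j).ι.ker ^ c j) := by
    intro c
    rw [(δ_prod' (IsLocalRing.ResidueField R) hd1 (Γ i).ι Finset.univ
      (fun j => (Γ j).ι.ker) c hInv).2, ← Finset.sum_neg_distrib]
    exact Finset.sum_congr rfl (fun j _ => by rw [hint j]; ring)
  rw [e1 a, e1 b, hδ]

include hproper hreg hΓ hL in
theorem exists_rat_of_cl_eq
    (hoff : ∀ i j, i ≠ j → 0 ≤ ArSurf.inter R X (L j) (Γ i))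
    (hconn : ∀ I : Finset (Fin n), I.Nonempty → I ≠ Finset.univ →
      ∃ i ∈ I, ∃ j ∉ I, ArSurf.inter R X (L j) (Γ i) ≠ 0)
    (a b : Fin n → ℕ)
    (h : PicF.cl (FGA.multiTwist L a) = PicF.cl (FGA.multiTwist L b)) :
    ∃ c : ℚ, ∀ i, (a i : ℚ) - (b i : ℚ) = c * (Models.mult R X (Γ i) : ℚ) := by
  haveI := hproper
  haveI : IsLocallyNoetherian X.left := LocallyOfFiniteType.isLocallyNoetherian X.hom
  haveI : CompactSpace X.left := QuasiCompact.compactSpace_of_compactSpace X.hom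
  haveI : IsNoetherian X.left := {}
  have hrel := sum_inter_eq_of_cl_eq R X hproper hreg Γ hΓ L hL a b h
  obtain ⟨c, hc⟩ := Groth.Agent.Lib.Helper7.SemiDefLA.exists_rat_of_kernel
    (fun i j => ArSurf.inter R X (L j) (Γ i)) (fun i => Models.mult R X (Γ i))
    (fun i => mult_pos' R X hreg Γ hΓ i)
    (fun i j => Groth.Agent.Lib.Helper7.IntLenE.inter_symm R X hproper hreg Γ hΓ L hL i j)
    hoff
    (fun i => sum_mult_inter_eq_zero' R X hproper hreg Γ hΓ L hL i)
    hconn
    (fun i => (a i : ℤ) - (b i : ℤ))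
    (by
      refine Finset.sum_eq_zero (fun i _ => ?_)
      have h3 : ∑ j, ((a i : ℤ) - b i) * ((a j : ℤ) - b j) * ArSurf.inter R X (L j) (Γ i) =
          ((a i : ℤ) - b i) * (∑ j, (a j : ℤ) * ArSurf.inter R X (L j) (Γ i) -
            ∑ j, (b j : ℤ) * ArSurf.inter R X (L j) (Γ i)) := by
        rw [← Finset.sum_sub_distrib, Finset.mul_sum]
        exact Finset.sum_congr rfl (fun j _ => by ring)
      rw [h3, hrel i, sub_self, mul_zero])
  exact ⟨c, fun i => by
    have := hc i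
    push_cast at this
    exact this⟩

include hproper hreg hΓ hL in
/-- integrality: a trivial multi-twist whose exponent vector is a rational multiple of the
multiplicity vector is an integral multiple (uses `Γ(X, O_X) = R`). -/
theorem exists_nat_of_cl_eq_one
    (hsurj : ∀ h : Γ(X.left, ⊤), ∃ r : R, unif X r = h)
    (e : Fin n → ℕ) (he : PicF.cl (FGA.multiTwist L e) = 1)
    (p q : ℕ) (hq : 0 < q) (hpq : ∀ i, q * e i = p * Models.mult R X (Γ i)) :
    ∃ k : ℕ, ∀ i, e i = k * Models.mult R X (Γ i) := by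
  classical
  haveI := hproper
  haveI : IsLocallyNoetherian X.left := LocallyOfFiniteType.isLocallyNoetherian X.hom
  haveI : CompactSpace X.left := QuasiCompact.compactSpace_of_compactSpace X.hom
  haveI : IsNoetherian X.left := {}
  rcases Nat.eq_zero_or_pos n with hn0 | hnpos
  · subst hn0
    exact ⟨0, fun i => i.elim0⟩
  obtain ⟨ϖ, hϖ⟩ := IsDiscreteValuationRing.exists_irreducible R
  have hϖm : ϖ ∈ IsLocalRing.maximalIdeal R := by
    rw [hϖ.maximalIdeal_eq]
    exact Ideal.mem_span_singleton_self ϖ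
  obtain ⟨hcart, hprod⟩ := specialFibreIdeal_eq_prod R X hreg Γ hΓ
  have hInv := isInvertible_ker R X hproper hreg Γ hΓ
  have h1 := cl_multiTwist_mul_idealMod L (fun j => (Γ j).ι.ker) hInv hL e
  rw [he, one_mul] at h1
  obtain ⟨iso⟩ := (cl_eq_one_iff _).1 h1
  obtain ⟨h, hh⟩ := exists_generator_of_iso _ iso
  obtain ⟨r, hr⟩ := hsurj h
  have hEF : (∏ i, (Γ i).ι.ker ^ e i) ^ q = (Models.specialFibreIdeal R X) ^ p := by
    rw [hprod, ← Finset.prod_pow, ← Finset.prod_pow]
    refine Finset.prod_congr rfl (fun i _ => ?_)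
    rw [← pow_mul, ← pow_mul, mul_comm (e i), hpq i, mul_comm p]
  set i0 : Fin n := ⟨0, hnpos⟩ with hi0
  set ξ := (Γ i0).ι.base (genericPoint (Γ i0).curve.left) with hξ
  obtain ⟨V, hV, hξV, -⟩ := Opens.isBasis_iff_nbhd.mp X.left.isBasis_affineOpens
    (show ξ ∈ (⊤ : X.left.Opens) from trivial)
  set φ : R →+* Γ(X.left, V) :=
    (X.left.presheaf.map (homOfLE (le_top : V ≤ ⊤)).op).hom.comp
      ((X.hom.appTop).hom.comp (Scheme.ΓSpecIso (CommRingCat.of R)).inv.hom) with hφ
  set x : Γ(X.left, V) := φ ϖ with hx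
  have hxnzd : x ∈ nonZeroDivisors Γ(X.left, V) := piU_mem_nonZeroDivisors R X ϖ hϖ ⟨V, hV⟩
  have hxmem : x ∈ (Γ i0).ι.ker.ideal ⟨V, hV⟩ := res_toGlobal_mem_ker (Γ i0) ϖ hϖm ⟨V, hV⟩
  have hprime : ((Γ i0).ι.ker.ideal ⟨V, hV⟩).IsPrime :=
    isPrime_ker_ideal (Γ i0).ι ⟨V, hV⟩ ⟨_, hξV⟩
  have hxu : ¬ IsUnit x := fun hu => hprime.ne_top (Ideal.eq_top_of_isUnit_mem _ hxmem hu)
  have hF : (Models.specialFibreIdeal R X).ideal ⟨V, hV⟩ = Ideal.span {x} :=
    specialFibreIdeal_ideal R X ϖ hϖ ⟨V, hV⟩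
  have hEV : (∏ i, (Γ i).ι.ker ^ e i).ideal ⟨V, hV⟩ = Ideal.span {φ r} := by
    rw [hh ⟨V, hV⟩, ← hr]
    rfl
  have hcmp : Ideal.span {φ r ^ q} = Ideal.span {x ^ p} := by
    have h2 := congrArg (fun I : X.left.IdealSheafData => I.ideal ⟨V, hV⟩) hEF
    simp only [Scheme.IdealSheafData.ideal_pow, Pi.pow_apply] at h2
    rw [hEV, hF, Ideal.span_singleton_pow, Ideal.span_singleton_pow] at h2
    exact h2
  haveI : Nontrivial Γ(X.left, V) := by
    by_contra hnt
    rw [not_nontrivial_iff_subsingleton] at hnt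
    exact hxu (isUnit_of_subsingleton x)
  have hr0 : r ≠ 0 := by
    rintro rfl
    rw [map_zero, zero_pow hq.ne', Ideal.span_singleton_eq_bot.mpr rfl] at hcmp
    have h0 : x ^ p = 0 := by
      have h3 : x ^ p ∈ (⊥ : Ideal Γ(X.left, V)) := by
        rw [hcmp]
        exact Ideal.subset_span rfl
      exact h3
    have hnz := pow_mem hxnzd p
    rw [h0] at hnz
    exact zero_notMem_nonZeroDivisors hnz
  obtain ⟨k, u, hku⟩ := IsDiscreteValuationRing.eq_unit_mul_pow_irreducible hr0 hϖ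
  have hφr : Ideal.span {φ r} = Ideal.span {x ^ k} := by
    rw [hku, map_mul, map_pow]
    exact Ideal.span_singleton_mul_left_unit (u.isUnit.map φ) _
  have hkq : k * q = p := by
    have h4 : Ideal.span {x ^ (k * q)} = Ideal.span {x ^ p} := by
      rw [pow_mul, ← Ideal.span_singleton_pow, ← hφr, Ideal.span_singleton_pow, hcmp]
    exact pow_eq_of_span_eq x hxnzd hxu h4
  refine ⟨k, fun i => ?_⟩
  have h5 := hpq i
  rw [← hkq] at h5
  apply Nat.eq_of_mul_eq_mul_left hq
  rw [h5]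
  ring

include hproper hreg hΓ hL in
theorem key_nonneg
    (hsurj : ∀ h : Γ(X.left, ⊤), ∃ r : R, unif X r = h)
    (a b : Fin n → ℕ)
    (h : PicF.cl (FGA.multiTwist L a) = PicF.cl (FGA.multiTwist L b))
    (c : ℚ) (hc0 : 0 ≤ c)
    (hc : ∀ i, (a i : ℚ) - (b i : ℚ) = c * (Models.mult R X (Γ i) : ℚ)) :
    ∃ k : ℕ, ∀ i, a i = b i + k * Models.mult R X (Γ i) := by
  have hge : ∀ i, b i ≤ a i := by
    intro i
    have h1 := hc i
    have hm : (0 : ℚ) ≤ (Models.mult R X (Γ i) : ℚ) := Nat.cast_nonneg _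
    have h2 : (0 : ℚ) ≤ (a i : ℚ) - (b i : ℚ) := by
      rw [h1]
      exact mul_nonneg hc0 hm
    exact_mod_cast sub_nonneg.mp h2
  set e : Fin n → ℕ := fun i => a i - b i with he
  have hae : a = fun i => b i + e i := funext (fun i => (Nat.add_sub_cancel' (hge i)).symm)
  have hInv := isInvertible_ker R X hproper hreg Γ hΓ
  have hcl_e : PicF.cl (FGA.multiTwist L e) = 1 := by
    have h2 : PicF.cl (FGA.multiTwist L a) =
        PicF.cl (FGA.multiTwist L b) * PicF.cl (FGA.multiTwist L e) := by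
      conv_lhs => rw [hae]
      rw [cl_multiTwist, cl_multiTwist, cl_multiTwist, ← Finset.prod_mul_distrib]
      exact Finset.prod_congr rfl (fun i _ => pow_add _ _ _)
    have hB := cl_multiTwist_mul_idealMod L (fun j => (Γ j).ι.ker) hInv hL b
    calc PicF.cl (FGA.multiTwist L e)
        = PicF.cl (FGA.multiTwist L e) * (PicF.cl (FGA.multiTwist L b) *
            PicF.cl (ClSub.idealMod (∏ i, (Γ i).ι.ker ^ b i))) := by rw [hB, mul_one]
      _ = (PicF.cl (FGA.multiTwist L b) * PicF.cl (FGA.multiTwist L e)) *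
            PicF.cl (ClSub.idealMod (∏ i, (Γ i).ι.ker ^ b i)) := by
          rw [← mul_assoc, mul_comm (PicF.cl (FGA.multiTwist L e))]
      _ = PicF.cl (FGA.multiTwist L b) *
            PicF.cl (ClSub.idealMod (∏ i, (Γ i).ι.ker ^ b i)) := by rw [← h2, h]
      _ = 1 := hB
  have hnum : 0 ≤ c.num := Rat.num_nonneg.mpr hc0
  have hpq : ∀ i, c.den * e i = c.num.toNat * Models.mult R X (Γ i) := by
    intro i
    have h1 := hc i
    have h3 : ((e i : ℕ) : ℚ) = (a i : ℚ) - (b i : ℚ) := by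
      rw [he]
      exact Nat.cast_sub (hge i)
    have h4 : (c.num : ℚ) / (c.den : ℚ) = c := Rat.num_div_den c
    have hden : (c.den : ℚ) ≠ 0 := Nat.cast_ne_zero.mpr c.den_ne_zero
    have h5 : (c.den : ℚ) * (e i : ℚ) = (c.num : ℚ) * (Models.mult R X (Γ i) : ℚ) := by
      have h7 : c * (c.den : ℚ) = (c.num : ℚ) := Rat.mul_den_eq_num c
      rw [h3, h1, ← mul_assoc, mul_comm (c.den : ℚ) c, h7]
    have h6 : ((c.num.toNat : ℕ) : ℚ) = (c.num : ℚ) := by
      have : ((c.num.toNat : ℕ) : ℤ) = c.num := Int.toNat_of_nonneg hnum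
      exact_mod_cast congrArg (fun z : ℤ => (z : ℚ)) this
    rw [← h6] at h5
    exact_mod_cast h5
  obtain ⟨k, hk⟩ := exists_nat_of_cl_eq_one R X hproper hreg Γ hΓ L hL hsurj e hcl_e
    c.num.toNat c.den c.den_pos hpq
  exact ⟨k, fun i => by rw [← hk i, he]; exact (Nat.add_sub_cancel' (hge i)).symm⟩

include hproper hreg hΓ hL in
/-- **S3314** (general form). -/
theorem main3314
    (hoff : ∀ i j, i ≠ j → 0 ≤ ArSurf.inter R X (L j) (Γ i))
    (hconn : ∀ I : Finset (Fin n), I.Nonempty → I ≠ Finset.univ →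
      ∃ i ∈ I, ∃ j ∉ I, ArSurf.inter R X (L j) (Γ i) ≠ 0)
    (hsurj : ∀ h : Γ(X.left, ⊤), ∃ r : R, unif X r = h)
    (a b : Fin n → ℕ) :
    Nonempty (FGA.multiTwist L a ≅ FGA.multiTwist L b) ↔
      ∃ c : ℤ, ∀ i, (a i : ℤ) - (b i : ℤ) = c * (Models.mult R X (Γ i) : ℤ) := by
  rw [← cl_eq_iff]
  constructor
  · intro h
    obtain ⟨c, hc⟩ := exists_rat_of_cl_eq R X hproper hreg Γ hΓ L hL hoff hconn a b h
    rcases le_total 0 c with hc0 | hc0
    · obtain ⟨k, hk⟩ := key_nonneg R X hproper hreg Γ hΓ L hL hsurj a b h c hc0 hc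
      exact ⟨k, fun i => by rw [hk i]; push_cast; ring⟩
    · obtain ⟨k, hk⟩ := key_nonneg R X hproper hreg Γ hΓ L hL hsurj b a h.symm (-c)
        (by linarith) (fun i => by have := hc i; linarith)
      exact ⟨-k, fun i => by rw [hk i]; push_cast; ring⟩
  · rintro ⟨c, hc⟩
    rcases le_total 0 c with hc0 | hc0
    · obtain ⟨k, rfl⟩ := Int.eq_ofNat_of_zero_le hc0
      have hab : a = fun i => b i + k * Models.mult R X (Γ i) := funext (fun i => by
        have := hc i
        zify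
        linarith)
      rw [hab]
      exact cl_multiTwist_add_smul R X hproper hreg Γ hΓ L hL b k
    · obtain ⟨k, rfl⟩ : ∃ k : ℕ, c = -(k : ℤ) := ⟨(-c).toNat, by omega⟩
      have hab : b = fun i => a i + k * Models.mult R X (Γ i) := funext (fun i => by
        have := hc i
        zify
        linarith)
      conv_rhs => rw [hab]
      exact (cl_multiTwist_add_smul R X hproper hreg Γ hΓ L hL a k).symm

end

end Groth.Agent.Lib.Helper7.MTwB
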