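import Mathlib
import Groth.Prelude
import Groth.Agent.Lib.Helper7.MTwB
import Groth.Agent.Lib.Helper7.RegSec
import Groth.Agent.Lib.Helper23.Inverse
import Groth.Agent.Lib.Helper3.InvRestrict
import Groth.Agent.Lib.Helper1.DVRFib
import Groth.Agent.S1659

/-!
# Helper library (helper7): an invertible module on a regular proper model which is trivial on
the generic fibre is a multi-twist `O_X(Σ e_i Γ_i)` (S3315).
-/

set_option autoImplicit false
set_option linter.unusedSectionVars false
set_option linter.style.haveILetI false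
universe u
open CategoryTheory CategoryTheory.Limits AlgebraicGeometry Opposite TopologicalSpace
open Scheme.Modules

namespace Groth.Agent.Lib.Helper7.MTwC

open Groth.Agent.Lib.Helper3 Groth.Agent.Lib.Helper3.InvMonoidal Groth.Agent.Lib.Helper3.InvTensor
open Groth.Agent.Lib.Helper3.InvGen Groth.Agent.Lib.Helper3.QCSec Groth.Agent.Lib.Helper3.InvCoh
open Groth.Agent.Lib.Helper7.SnapFGA Groth.Agent.Lib.Helper17
open Groth.Agent.Lib.Helper23
open Groth.Agent.Lib.Helper7.FibFacA Groth.Agent.Lib.Helper7.FibFacB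
open Groth.Agent.Lib.Helper7.FibFacD Groth.Agent.Lib.Helper7.FibFacF
open Groth.Agent.Lib.Helper7.FibFacG
open Groth.Agent.Lib.Helper1.ModelComp Groth.Agent.Lib.Helper1.ModelMult
open Groth.Agent.Lib.Helper7.MTwA Groth.Agent.Lib.Helper7.MTwB Groth.Agent.Lib.Helper13.ClMon

section General

/-- a generator over the image of an open immersion from a trivialization of the pullback. -/
theorem exists_isGen_of_pullback_iso {Y X : Scheme.{u}} (j : Y ⟶ X) [IsOpenImmersion j]
    (M : X.Modules)
    (h : Nonempty ((Scheme.Modules.pullback j).obj M ≅ Coh.structureModule Y)) :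
    ∃ m : Γ(M, j ''ᵁ ⊤), IsGen M (j ''ᵁ ⊤) m := by
  obtain ⟨e⟩ := h
  let φ : M.restrict j ≅ Coh.structureModule Y :=
    (Scheme.Modules.restrictFunctorIsoPullback j).app M ≪≫ e
  let ψ : Coh.structureModule Y ⟶ M.restrict j := φ.inv
  have hψ : ∀ V' : Y.Opens, IsGenAt (M.restrict j) V' (sec ψ V') := by
    intro V'
    rw [← bijective_app_iff]
    exact (ConcreteCategory.isIso_iff_bijective (ψ.app V')).mp inferInstance
  have hgen : IsGen (M.restrict j) ⊤ (sec ψ ⊤) := by
    intro V hV
    rw [res_sec]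
    exact hψ V
  exact ⟨_, (InvRestrict.isGen_restrict_iff j M ⊤ (sec ψ ⊤)).mp hgen⟩

/-- an invertible module generated over the basic open `X_π` of a global function `π` that is a
nonzerodivisor on affine opens is the inverse of an effective Cartier ideal supported off `X_π`. -/
theorem exists_vertical_divisor {X : Scheme.{u}} [CompactSpace X] [QuasiSeparatedSpace X]
    (M : X.Modules) (hM : PicF.IsInvertible M) (π : Γ(X, ⊤))
    (hnzd : ∀ V : X.affineOpens, rres X (le_top : V.1 ≤ ⊤) π ∈ nonZeroDivisors Γ(X, V.1))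
    (σ : Γ(M, X.basicOpen π)) (hσ : IsGen M (X.basicOpen π) σ) :
    ∃ E : X.IdealSheafData, BlowUp.IsEffCartierIdeal E ∧
      PicF.cl M * PicF.cl (ClSub.idealMod E) = 1 ∧
      ∀ x ∈ E.support, x ∉ X.basicOpen π := by
  haveI : M.IsQuasicoherent := isQuasicoherent_of_isInvertible hM
  haveI : (Coh.structureModule X).IsQuasicoherent := (T2.isCoh_structureModule X).1
  have hloc := isLocSec_of_isCompact M (V := ⊤) (by rw [Opens.coe_top]; exact isCompact_univ)
    ((isQuasiSeparated_univ (α := X)).of_subset (Set.subset_univ _)) π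
    (W := X.basicOpen π) rfl le_top
  obtain ⟨N, t0, ht0⟩ := hloc.surj σ
  set s : Coh.structureModule X ⟶ M := InvAmple.globalHom M t0 with hs
  have hsec : ∀ W : X.Opens, sec s W = res M le_top t0 :=
    fun W => InvAmple.sec_globalHom M t0 W
  have hπu : IsUnit (rres X (le_top : X.basicOpen π ≤ ⊤) π) :=
    RingedSpace.isUnit_res_basicOpen X.toRingedSpace π
  have hBgen : IsGen M (X.basicOpen π) (sec s (X.basicOpen π)) := by
    rw [hsec, ht0]
    exact hσ.smul_unit (hπu.pow N)
  have hBle : X.basicOpen π ≤ CohB1.genLocus M s := le_genLocus s hBgen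
  have hreg : Groth.Agent.Lib.Helper7.RegSec.IsRegSec s := by
    intro x
    obtain ⟨U, ε, hU, hxU, hg⟩ := exists_affine_isGen hM x
    obtain ⟨c, hc⟩ := hg.self.exists_coord (sec s U)
    refine ⟨U, ε, c, hU, hxU, hg, ?_, hc.symm⟩
    rw [mem_nonZeroDivisors_iff_right]
    intro y hy
    have hgl := genLocus_inf_eq_basicOpen s hg c hc.symm
    set πU := rres X (le_top : U ≤ ⊤) π with hπU
    have hWeq : X.basicOpen πU = U ⊓ X.basicOpen π :=
      Scheme.basicOpen_res X π (homOfLE (le_top : U ≤ ⊤)).op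
    have hWU : X.basicOpen πU ≤ U := X.basicOpen_le πU
    have hWc : X.basicOpen πU ≤ X.basicOpen c := by
      rw [← hgl, hWeq]
      exact le_inf (inf_le_right.trans hBle) inf_le_left
    have hcu : IsUnit (rres X hWU c) := by
      have h1 : IsUnit (rres X (X.basicOpen_le c) c) :=
        RingedSpace.isUnit_res_basicOpen X.toRingedSpace c
      have h2 := rres_isUnit hWc h1
      rwa [rres_rres] at h2
    have hyW : rres X hWU y = 0 := by
      have h3 : rres X hWU y * rres X hWU c = 0 := by
        rw [← rres_mul, hy]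
        exact map_zero _
      exact (hcu.mul_left_eq_zero).mp h3
    have hlocO := isLocSec_of_isQuasicoherent (Coh.structureModule X) hU πU
      (X.basicOpen πU) rfl hWU
    obtain ⟨k, hk⟩ := hlocO.inj (ofFun U y) (by rw [res_ofFun, hyW]; rfl)
    have hk' : y * πU ^ k = 0 := by
      rw [mul_comm]
      exact hk
    exact (mem_nonZeroDivisors_iff_right.mp (pow_mem (hnzd ⟨U, hU⟩) k)) y hk'
  obtain ⟨eMM'⟩ := Groth.Agent.Lib.Helper23.Inverse.tensor_dual_iso hM
  have hM'inv : PicF.IsInvertible (Groth.Agent.Lib.Helper23.Inverse.dual M) :=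
    isInvertible_of_inverse hM ⟨eMM'⟩
  haveI : (Groth.Agent.Lib.Helper23.Inverse.dual M).IsQuasicoherent :=
    isQuasicoherent_of_isInvertible hM'inv
  obtain ⟨ι⟩ : Nonempty (CohB1.tensorMod (Groth.Agent.Lib.Helper23.Inverse.dual M) M ≅
      Coh.structureModule X) := ⟨braid _ _ ≪≫ eMM'⟩
  obtain ⟨eE⟩ := Groth.Agent.Lib.Helper7.RegSec.idealMod_zeroDiv_iso ι hreg
  refine ⟨Groth.Agent.Lib.Helper7.RegSec.zeroDiv ι s,
    Groth.Agent.Lib.Helper7.RegSec.isEffCartierIdeal_zeroDiv ι hreg, ?_, ?_⟩
  · rw [← (cl_eq_iff _ _).2 ⟨eE⟩, cl_mul, one_def]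
    exact (cl_eq_iff _ _).2 ⟨eMM'⟩
  · intro x hx hxB
    exact Groth.Agent.Lib.Helper7.RegSec.notMem_support_zeroDiv (ι := ι) (s := s) (hBle hxB) hx

end General

variable (R : Type u) [CommRing R] [IsDomain R] [IsDiscreteValuationRing R]
  (X : Over (Spec (CommRingCat.of R)))

section

variable (hproper : IsProper X.hom) [Flat X.hom]
  (hreg : ∀ x : X.left, IsRegularLocalRing (X.left.presheaf.stalk x))
  {n : ℕ} (Γ : Fin n → ArSurf.VertComp R X) (hΓ : Models.IsComponentList R X Γ)
  (L : Fin n → X.left.Modules)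
  (hL : ∀ j, ClSub.IsInverseOf (L j) (ClSub.idealMod (Γ j).ι.ker))

include hproper hreg hΓ hL in
/-- an invertible module generated off the closed fibre is a multi-twist. -/
theorem exists_multiTwist_of_isGen (ϖ : R) (hϖ : Irreducible ϖ)
    (M : X.left.Modules) (hM : PicF.IsInvertible M)
    (σ : Γ(M, X.left.basicOpen (unif X ϖ)))
    (hσ : IsGen M (X.left.basicOpen (unif X ϖ)) σ) :
    ∃ e : Fin n → ℕ, PicF.cl M = PicF.cl (FGA.multiTwist L e) := by
  haveI := hproper
  haveI : IsLocallyNoetherian X.left := LocallyOfFiniteType.isLocallyNoetherian X.hom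
  haveI : CompactSpace X.left := QuasiCompact.compactSpace_of_compactSpace X.hom
  haveI : IsNoetherian X.left := {}
  obtain ⟨E, hE, hcl, hsupp⟩ := exists_vertical_divisor M hM (unif X ϖ)
    (fun V => piU_mem_nonZeroDivisors R X ϖ hϖ V) σ hσ
  obtain ⟨hcart, -⟩ := specialFibreIdeal_eq_prod R X hreg Γ hΓ
  have hInv := isInvertible_ker R X hproper hreg Γ hΓ
  have hsub : (E.support : Set X.left) ⊆ ⋃ i, ((Γ i).ι.ker.support : Set X.left) := by
    intro x hx
    have hx' : x ∈ Models.specialFibreSet R X := by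
      rw [specialFibreSet_eq R X ϖ hϖ]
      exact hsupp x hx
    obtain ⟨Z, hZ, hxZ⟩ := exists_maximal_irreducible_subset (Models.specialFibreSet R X) {x}
      isIrreducible_singleton (Set.singleton_subset_iff.mpr hx')
    have hZ' : Z ∈ Models.fibreComponents R X := hZ
    rw [← hΓ.2] at hZ'
    obtain ⟨k, rfl⟩ := hZ'
    refine Set.mem_iUnion.mpr ⟨k, ?_⟩
    rw [support_ker]
    exact hxZ rfl
  obtain ⟨a, ha⟩ := Groth.Agent.S1659.result X.left E hE n (fun i => (Γ i).ι.ker) hcart
    (fun i => Groth.Agent.Lib.Helper7.ArSurfDeg.isIntegral_ker_subscheme (Γ i)) hsub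
  refine ⟨a, ?_⟩
  have h1 := cl_multiTwist_mul_idealMod L (fun j => (Γ j).ι.ker) hInv hL a
  rw [ha] at hcl
  calc PicF.cl M
      = PicF.cl M * (PicF.cl (FGA.multiTwist L a) *
          PicF.cl (ClSub.idealMod (∏ i, (Γ i).ι.ker ^ a i))) := by rw [h1, mul_one]
    _ = (PicF.cl M * PicF.cl (ClSub.idealMod (∏ i, (Γ i).ι.ker ^ a i))) *
          PicF.cl (FGA.multiTwist L a) := by
        rw [mul_comm (PicF.cl (FGA.multiTwist L a)), mul_assoc]
    _ = PicF.cl (FGA.multiTwist L a) := by rw [hcl, one_mul]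

/-- the complement of the closed fibre lies in the image of the generic fibre. -/
theorem basicOpen_le_image {C : Scheme.{u}}
    (f : C ⟶ Spec (CommRingCat.of (FractionRing R))) (g : C ⟶ X.left)
    (hsq : IsPullback g f X.hom
      (Spec.map (CommRingCat.ofHom (algebraMap R (FractionRing R)))))
    (ϖ : R) (hϖ : Irreducible ϖ) [IsOpenImmersion g] :
    X.left.basicOpen (unif X ϖ) ≤ g ''ᵁ ⊤ := by
  intro x hx
  have hx' : x ∉ Models.specialFibreSet R X := by
    rw [specialFibreSet_eq R X ϖ hϖ]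
    exact fun h => h hx
  set y := X.hom.base x with hy
  have hy0 : y.asIdeal = ⊥ := by
    by_contra hne
    haveI := y.isPrime
    have hmax : y.asIdeal.IsMaximal := Ideal.IsPrime.isMaximal y.isPrime hne
    have heq : y.asIdeal = IsLocalRing.maximalIdeal R := IsLocalRing.eq_maximalIdeal hmax
    apply hx'
    have h4 : X.hom.base x = IsLocalRing.closedPoint R := PrimeSpectrum.ext heq
    exact h4
  let y' : Spec (CommRingCat.of (FractionRing R)) := (⟨⊥, Ideal.isPrime_bot⟩ : PrimeSpectrum (FractionRing R))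
  have hxy : X.hom.base x =
      (Spec.map (CommRingCat.ofHom (algebraMap R (FractionRing R)))).base y' := by
    apply PrimeSpectrum.ext
    rw [← hy, hy0]
    change ⊥ = Ideal.comap (algebraMap R (FractionRing R)) ⊥
    rw [← RingHom.ker_eq_comap_bot]
    exact ((RingHom.injective_iff_ker_eq_bot _).mp (IsFractionRing.injective R (FractionRing R))).symm
  obtain ⟨c, hc, -⟩ := Scheme.exists_preimage_of_isPullback hsq x y' hxy
  exact ⟨c, trivial, hc⟩

end

end Groth.Agent.Lib.Helper7.MTwC
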