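import Mathlib
import Groth.Prelude
import Groth.Agent.Lib.Helper7.MTwC

/-!
# Helper library (helper7): torsion invertible modules on a regular proper model which are trivial
on the generic fibre (S19918).
-/

set_option autoImplicit false
set_option linter.unusedSectionVars false
set_option linter.style.haveILetI false
universe u
open CategoryTheory CategoryTheory.Limits AlgebraicGeometry Opposite TopologicalSpace
open Scheme.Modules

namespace Groth.Agent.Lib.Helper7.MTwD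

open Groth.Agent.Lib.Helper3 Groth.Agent.Lib.Helper3.InvMonoidal Groth.Agent.Lib.Helper3.InvTensor
open Groth.Agent.Lib.Helper3.InvGen Groth.Agent.Lib.Helper3.QCSec Groth.Agent.Lib.Helper3.InvCoh
open Groth.Agent.Lib.Helper7.FibFacA Groth.Agent.Lib.Helper7.FibFacB
open Groth.Agent.Lib.Helper7.FibFacG
open Groth.Agent.Lib.Helper1.ModelComp Groth.Agent.Lib.Helper1.ModelMult
open Groth.Agent.Lib.Helper7.MTwA Groth.Agent.Lib.Helper7.MTwB Groth.Agent.Lib.Helper13.ClMon

/-- if `h·a` is a multiple of `m` then `a` is a multiple of `m / gcd(h, gcd m)`. -/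
theorem nt1 {n : ℕ} (m a : Fin n → ℕ) (h c : ℕ) (hh : 0 < h)
    (hrel : ∀ i, h * a i = c * m i) :
    ∃ t, ∀ i, a i = t * (m i / Nat.gcd h (Finset.univ.gcd m)) := by
  obtain ⟨d, hd⟩ : ∃ d, d = Finset.univ.gcd m := ⟨_, rfl⟩
  obtain ⟨e, he⟩ : ∃ e, e = Nat.gcd h d := ⟨_, rfl⟩
  rw [← hd, ← he]
  have he0 : 0 < e := he ▸ Nat.gcd_pos_of_pos_left _ hh
  have hed : e ∣ d := he ▸ Nat.gcd_dvd_right h d
  have heh : e ∣ h := he ▸ Nat.gcd_dvd_left h d
  have hdm : ∀ i, d ∣ m i := fun i => hd ▸ Finset.gcd_dvd (Finset.mem_univ i)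
  obtain ⟨h', hh'⟩ := heh
  obtain ⟨d', hd'⟩ := hed
  have hcop : Nat.Coprime h' d' := by
    have h0 := Nat.coprime_div_gcd_div_gcd (m := h) (n := d) (he ▸ he0)
    rw [← he] at h0
    have e1 : h / e = h' := by rw [hh']; exact Nat.mul_div_cancel_left _ he0
    have e2 : d / e = d' := by rw [hd']; exact Nat.mul_div_cancel_left _ he0
    rwa [e1, e2] at h0
  have h1 : h ∣ c * d := by
    have h2 : h ∣ Finset.univ.gcd (fun i => c * m i) :=
      Finset.dvd_gcd (fun i _ => ⟨a i, (hrel i).symm⟩)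
    rwa [Finset.gcd_mul_left, normalize_eq, ← hd] at h2
  have h2 : h' ∣ c := by
    have h3 : e * h' ∣ e * (c * d') := by
      have h4 : e * (c * d') = c * d := by rw [hd']; ring
      rw [h4, ← hh']
      exact h1
    exact hcop.dvd_of_dvd_mul_right ((Nat.mul_dvd_mul_iff_left he0).mp h3)
  obtain ⟨t, ht⟩ := h2
  have h'0 : 0 < h' := by
    rcases Nat.eq_zero_or_pos h' with h0 | h0
    · rw [h0, mul_zero] at hh'
      omega
    · exact h0
  refine ⟨t, fun i => ?_⟩
  obtain ⟨q, hq⟩ := (Dvd.intro d' hd'.symm : e ∣ d).trans (hdm i)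
  rw [hq, Nat.mul_div_cancel_left _ he0]
  have h4 := hrel i
  have h5 : e * h' * a i = e * h' * (t * q) := by
    calc e * h' * a i = h * a i := by rw [hh']
      _ = c * m i := h4
      _ = e * h' * (t * q) := by rw [ht, hq]; ring
  exact Nat.eq_of_mul_eq_mul_left (Nat.mul_pos he0 h'0) h5

variable (R : Type u) [CommRing R] [IsDomain R] [IsDiscreteValuationRing R]
  (X : Over (Spec (CommRingCat.of R)))

section

variable (hproper : IsProper X.hom) [Flat X.hom]
  (hreg : ∀ x : X.left, IsRegularLocalRing (X.left.presheaf.stalk x))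
  {n : ℕ} (Γ : Fin n → ArSurf.VertComp R X) (hΓ : Models.IsComponentList R X Γ)
  (L : Fin n → X.left.Modules)
  (hL : ∀ j, ClSub.IsInverseOf (L j) (ClSub.idealMod (Γ j).ι.ker))

include hΓ in
theorem nonempty_fin (hne : (Models.specialFibreSet R X).Nonempty) : Nonempty (Fin n) := by
  obtain ⟨x, hx⟩ := hne
  obtain ⟨Z, hZ, -⟩ := exists_maximal_irreducible_subset (Models.specialFibreSet R X) {x}
    isIrreducible_singleton (Set.singleton_subset_iff.mpr hx)
  have hZ' : Z ∈ Models.fibreComponents R X := hZ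
  rw [← hΓ.2] at hZ'
  obtain ⟨k, -⟩ := hZ'
  exact ⟨k⟩

include hproper hreg hΓ hL in
/-- **S19918** (class form). -/
theorem main19918
    (hoff : ∀ i j, i ≠ j → 0 ≤ ArSurf.inter R X (L j) (Γ i))
    (hconn : ∀ I : Finset (Fin n), I.Nonempty → I ≠ Finset.univ →
      ∃ i ∈ I, ∃ j ∉ I, ArSurf.inter R X (L j) (Γ i) ≠ 0)
    (hsurj : ∀ h : Γ(X.left, ⊤), ∃ r : R, unif X r = h)
    (hne : (Models.specialFibreSet R X).Nonempty)
    (h : ℕ) (hh : 0 < h) (M : X.left.Modules) (htors : PicF.cl M ^ h = 1)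
    (hMT : ∃ a : Fin n → ℕ, PicF.cl M = PicF.cl (FGA.multiTwist L a)) :
    ∃! k : ℕ, k < Nat.gcd h (Models.multGcd R X Γ) ∧
      PicF.cl M = PicF.cl (FGA.multiTwist L
        (fun i => k * (Models.mult R X (Γ i) / Nat.gcd h (Models.multGcd R X Γ)))) := by
  haveI := hproper
  haveI : IsLocallyNoetherian X.left := LocallyOfFiniteType.isLocallyNoetherian X.hom
  haveI : CompactSpace X.left := QuasiCompact.compactSpace_of_compactSpace X.hom
  haveI : IsNoetherian X.left := {}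
  obtain ⟨i0⟩ := nonempty_fin R X Γ hΓ hne
  have hcrit : ∀ a b : Fin n → ℕ,
      PicF.cl (FGA.multiTwist L a) = PicF.cl (FGA.multiTwist L b) ↔
        ∃ c : ℤ, ∀ i, (a i : ℤ) - (b i : ℤ) = c * (Models.mult R X (Γ i) : ℤ) := fun a b =>
    (cl_eq_iff _ _).trans (main3314 R X hproper hreg Γ hΓ L hL hoff hconn hsurj a b)
  have hmpos : ∀ i, 0 < Models.mult R X (Γ i) := fun i => mult_pos' R X hreg Γ hΓ i
  obtain ⟨e, he⟩ : ∃ e, e = Nat.gcd h (Models.multGcd R X Γ) := ⟨_, rfl⟩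
  rw [← he]
  have he0 : 0 < e := he ▸ Nat.gcd_pos_of_pos_left _ hh
  have hem : ∀ i, e ∣ Models.mult R X (Γ i) := fun i =>
    (he ▸ Nat.gcd_dvd_right h _ : e ∣ Models.multGcd R X Γ).trans
      (Finset.gcd_dvd (Finset.mem_univ i))
  have hem' : ∀ i, e * (Models.mult R X (Γ i) / e) = Models.mult R X (Γ i) := fun i =>
    Nat.mul_div_cancel' (hem i)
  have hm'pos : ∀ i, 0 < Models.mult R X (Γ i) / e := fun i =>
    Nat.div_pos (Nat.le_of_dvd (hmpos i) (hem i)) he0
  obtain ⟨a, ha⟩ := hMT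
  -- `h • a` is a multiple of `m`
  have h1 : PicF.cl (FGA.multiTwist L (fun i => h * a i)) =
      PicF.cl (FGA.multiTwist L (fun _ => 0)) := by
    rw [cl_multiTwist, cl_multiTwist]
    simp only [pow_zero, Finset.prod_const_one]
    rw [← htors, ha, cl_multiTwist, ← Finset.prod_pow]
    exact Finset.prod_congr rfl (fun i _ => by rw [← pow_mul, mul_comm])
  obtain ⟨c, hc⟩ := (hcrit _ _).mp h1
  have hc0 : 0 ≤ c := by
    have h2 := hc i0
    have h3 : (0 : ℤ) < (Models.mult R X (Γ i0) : ℤ) := by exact_mod_cast hmpos i0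
    have h4 : (0 : ℤ) ≤ c * (Models.mult R X (Γ i0) : ℤ) := by
      rw [← h2]
      push_cast
      have : (0 : ℤ) ≤ (h : ℤ) * (a i0 : ℤ) := by positivity
      linarith
    exact nonneg_of_mul_nonneg_left h4 h3
  obtain ⟨c', rfl⟩ := Int.eq_ofNat_of_zero_le hc0
  have hrel : ∀ i, h * a i = c' * Models.mult R X (Γ i) := fun i => by
    have h2 := hc i
    push_cast at h2
    have h3 : ((h * a i : ℕ) : ℤ) = ((c' * Models.mult R X (Γ i) : ℕ) : ℤ) := by
      push_cast
      linarith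
    exact_mod_cast h3
  obtain ⟨t, ht⟩ := nt1 (fun i => Models.mult R X (Γ i)) a h c' hh hrel
  change ∀ i, a i = t * (Models.mult R X (Γ i) / Nat.gcd h (Models.multGcd R X Γ)) at ht
  rw [← he] at ht
  obtain ⟨r, hr⟩ : ∃ r, r = t % e := ⟨_, rfl⟩
  have hrlt : r < e := hr ▸ Nat.mod_lt _ he0
  have hae : a = fun i => r * (Models.mult R X (Γ i) / e) +
      (t / e) * Models.mult R X (Γ i) := funext (fun i => by
    have h2 := Nat.mod_add_div t e
    have h3 := hem' i
    calc a i = t * (Models.mult R X (Γ i) / e) := ht i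
      _ = (t % e + e * (t / e)) * (Models.mult R X (Γ i) / e) := by rw [h2]
      _ = (t % e) * (Models.mult R X (Γ i) / e) +
            (t / e) * (e * (Models.mult R X (Γ i) / e)) := by ring
      _ = r * (Models.mult R X (Γ i) / e) + (t / e) * Models.mult R X (Γ i) := by
          rw [h3, hr])
  have hMr : PicF.cl M =
      PicF.cl (FGA.multiTwist L (fun i => r * (Models.mult R X (Γ i) / e))) := by
    rw [ha]
    conv_lhs => rw [hae]
    exact cl_multiTwist_add_smul R X hproper hreg Γ hΓ L hL _ (t / e)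
  refine ⟨r, ⟨hrlt, hMr⟩, ?_⟩
  rintro k' ⟨hk', hk'cl⟩
  have hkk : PicF.cl (FGA.multiTwist L (fun i => k' * (Models.mult R X (Γ i) / e))) =
      PicF.cl (FGA.multiTwist L (fun i => r * (Models.mult R X (Γ i) / e))) := by
    rw [← hk'cl, hMr]
  obtain ⟨z, hz⟩ := (hcrit _ _).mp hkk
  obtain ⟨q, hq⟩ : ∃ q, q = Models.mult R X (Γ i0) / e := ⟨_, rfl⟩
  have hq' : e * q = Models.mult R X (Γ i0) := hq ▸ hem' i0
  have hqpos : 0 < q := hq ▸ hm'pos i0
  have h2 := hz i0
  beta_reduce at h2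
  rw [← hq, ← hq'] at h2
  push_cast at h2
  have h4 : (0 : ℤ) < (q : ℤ) := by exact_mod_cast hqpos
  have h5 : ((k' : ℤ) - (r : ℤ)) * (q : ℤ) = (z * (e : ℤ)) * (q : ℤ) := by
    rw [sub_mul, h2]
    ring
  have h6 : (k' : ℤ) - (r : ℤ) = z * e := mul_right_cancel₀ h4.ne' h5
  have h7 : (k' : ℤ) % (e : ℤ) = (r : ℤ) % (e : ℤ) := by
    have h8 : (k' : ℤ) = (r : ℤ) + z * e := by linarith
    rw [h8, Int.add_mul_emod_self_right]
  have h8 : k' % e = r % e := by exact_mod_cast h7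
  rw [Nat.mod_eq_of_lt hk', Nat.mod_eq_of_lt hrlt] at h8
  exact h8

end

end Groth.Agent.Lib.Helper7.MTwD
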