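import Mathlib
import Groth.Prelude
import Groth.Agent.Lib.Helper7.MTwD
import Groth.Agent.Lib.Helper7.KerForm

/-!
# Helper library (helper7): lifting torsion classes from the generic fibre to a regular proper
model (S19924).
-/

set_option autoImplicit false
set_option linter.unusedSectionVars false
set_option linter.style.haveILetI false
universe u
open CategoryTheory CategoryTheory.Limits AlgebraicGeometry Opposite TopologicalSpace
open Scheme.Modules

namespace Groth.Agent.Lib.Helper7.MTwE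

open Groth.Agent.Lib.Helper3 Groth.Agent.Lib.Helper3.InvMonoidal Groth.Agent.Lib.Helper3.InvTensor
open Groth.Agent.Lib.Helper3.InvGen Groth.Agent.Lib.Helper3.QCSec Groth.Agent.Lib.Helper3.InvCoh
open Groth.Agent.Lib.Helper7.SnapFGA
open Groth.Agent.Lib.Helper7.FibFacA Groth.Agent.Lib.Helper7.FibFacB
open Groth.Agent.Lib.Helper7.FibFacG
open Groth.Agent.Lib.Helper1.ModelComp Groth.Agent.Lib.Helper1.ModelMult
open Groth.Agent.Lib.Helper7.MTwA Groth.Agent.Lib.Helper7.MTwB Groth.Agent.Lib.Helper7.MTwC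
open Groth.Agent.Lib.Helper13.ClMon

section General

variable {Y X : Scheme.{u}}

theorem cl_multiTwist_add' {n : ℕ} (L : Fin n → X.Modules) (u v : Fin n → ℕ) :
    PicF.cl (FGA.multiTwist L (fun i => u i + v i)) =
      PicF.cl (FGA.multiTwist L u) * PicF.cl (FGA.multiTwist L v) := by
  rw [cl_multiTwist, cl_multiTwist, cl_multiTwist, ← Finset.prod_mul_distrib]
  exact Finset.prod_congr rfl (fun i _ => pow_add _ _ _)

theorem cl_multiTwist_smul' {n : ℕ} (L : Fin n → X.Modules) (h : ℕ) (u : Fin n → ℕ) :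
    PicF.cl (FGA.multiTwist L (fun i => h * u i)) = PicF.cl (FGA.multiTwist L u) ^ h := by
  rw [cl_multiTwist, cl_multiTwist, ← Finset.prod_pow]
  exact Finset.prod_congr rfl (fun i _ => by rw [← pow_mul, mul_comm])

theorem iso_of_global_gen (K : Y.Modules) (m : Γ(K, ⊤)) (hm : IsGen K ⊤ m) :
    Nonempty (Coh.structureModule Y ≅ K) := by
  have : IsIso (InvAmple.globalHom K m) := by
    rw [Scheme.Modules.Hom.isIso_iff_isIso_app]
    intro V
    have h2 : Function.Bijective ((InvAmple.globalHom K m).app V) := by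
      rw [bijective_app_iff, InvAmple.sec_globalHom]
      exact hm V le_top
    exact (ConcreteCategory.isIso_iff_bijective ((InvAmple.globalHom K m).app V)).mpr h2
  exact ⟨asIso (InvAmple.globalHom K m)⟩

/-- an ideal module is trivial on an open subscheme on which the ideal is the unit ideal. -/
theorem pullCl_idealMod_eq_one (j : Y ⟶ X) [IsOpenImmersion j] (E : X.IdealSheafData)
    (hE : ∀ V : X.affineOpens, V.1 ≤ j ''ᵁ ⊤ → E.ideal V = ⊤) :
    PicF.pullCl j (PicF.cl (ClSub.idealMod E)) = 1 := by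
  have hdisj : Disjoint (((j ''ᵁ ⊤ : X.Opens)) : Set X) (E.support : Set X) := by
    rw [Set.disjoint_left]
    intro x hxU hxE
    obtain ⟨V, hV, hxV, hVU⟩ := Opens.isBasis_iff_nbhd.mp X.isBasis_affineOpens hxU
    have hxE' : x ∈ E.support := hxE
    rw [Scheme.IdealSheafData.mem_support_iff_of_mem (U := ⟨V, hV⟩) hxV, hE ⟨V, hV⟩ hVU,
      Scheme.mem_zeroLocus_iff] at hxE'
    apply hxE' 1 Submodule.mem_top
    rw [Scheme.basicOpen_of_isUnit _ isUnit_one]
    exact hxV
  obtain ⟨s, hs⟩ := IdealMod.exists_val_eq_one E hdisj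
  have hgen : IsGen (ClSub.idealMod E) (j ''ᵁ ⊤) s :=
    IdealMod.isGen_of_valOf_eq_one (ClSub.idealModι E) s (by
      rw [← IdealMod.val_eq_valOf]
      exact hs)
  have hgen' : IsGen ((ClSub.idealMod E).restrict j) ⊤
      (show Γ((ClSub.idealMod E).restrict j, ⊤) from s) :=
    (InvRestrict.isGen_restrict_iff j (ClSub.idealMod E) ⊤ _).mpr hgen
  obtain ⟨e⟩ := iso_of_global_gen _ _ hgen'
  rw [pullCl_cl, cl_eq_one_iff]
  exact ⟨e ≪≫ (Scheme.Modules.restrictFunctorIsoPullback j).app (ClSub.idealMod E)⟩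

end General

variable (R : Type u) [CommRing R] [IsDomain R] [IsDiscreteValuationRing R]
  (X : Over (Spec (CommRingCat.of R)))

section

variable (hproper : IsProper X.hom) [Flat X.hom]
  (hreg : ∀ x : X.left, IsRegularLocalRing (X.left.presheaf.stalk x))
  {n : ℕ} (Γ : Fin n → ArSurf.VertComp R X) (hΓ : Models.IsComponentList R X Γ)
  (L : Fin n → X.left.Modules)
  (hL : ∀ j, ClSub.IsInverseOf (L j) (ClSub.idealMod (Γ j).ι.ker))
  {C : Scheme.{u}} (f : C ⟶ Spec (CommRingCat.of (FractionRing R))) (g : C ⟶ X.left)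
  (hsq : IsPullback g f X.hom
    (Spec.map (CommRingCat.ofHom (algebraMap R (FractionRing R)))))

include hsq in
/-- the generic fibre misses the closed fibre. -/
theorem notMem_specialFibreSet (c : C) : g.base c ∉ Models.specialFibreSet R X := by
  intro h
  have h1 : X.hom.base (g.base c) = IsLocalRing.closedPoint R := h
  have h2 : X.hom.base (g.base c) =
      (Spec.map (CommRingCat.ofHom (algebraMap R (FractionRing R)))).base (f.base c) := by
    have h0 := congrArg (fun φ => φ.base c) hsq.w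
    exact h0
  rw [h2] at h1
  obtain ⟨ϖ, hϖ⟩ := IsDiscreteValuationRing.exists_irreducible R
  have h3 : ϖ ∈ ((Spec.map (CommRingCat.ofHom (algebraMap R (FractionRing R)))).base
      (f.base c)).asIdeal := by
    rw [h1]
    change ϖ ∈ IsLocalRing.maximalIdeal R
    rw [hϖ.maximalIdeal_eq]
    exact Ideal.mem_span_singleton_self ϖ
  have h4 : algebraMap R (FractionRing R) ϖ ∈ (f.base c).asIdeal := h3
  have hu : IsUnit (algebraMap R (FractionRing R) ϖ) := IsUnit.mk0 _ (by
    rw [Ne, map_eq_zero_iff _ (IsFractionRing.injective R (FractionRing R))]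
    exact hϖ.ne_zero)
  exact (f.base c).isPrime.ne_top (Ideal.eq_top_of_isUnit_mem _ h4 hu)

variable [IsOpenImmersion g]

include hsq in
theorem ideal_prod_eq_top (e : Fin n → ℕ) (V : X.left.affineOpens) (hV : V.1 ≤ g ''ᵁ ⊤) :
    (∏ i, (Γ i).ι.ker ^ e i).ideal V = ⊤ := by
  rw [ideal_prod_pow]
  have h1 : ∀ i, (Γ i).ι.ker.ideal V = ⊤ := fun i =>
    ker_ideal_eq_top (Γ i).ι V (fun c hc => by
      obtain ⟨c', -, hc'⟩ := hV hc
      have h2 := notMem_specialFibreSet R X f g hsq c'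
      have h3 : g.base c' = (Γ i).ι.base c := hc'
      apply h2
      rw [h3]
      exact Groth.Agent.Lib.Helper7.KerForm.range_subset_specialFibreSet (Γ i) ⟨c, rfl⟩)
  refine (Finset.prod_congr rfl (fun i _ => by rw [h1 i, Ideal.top_pow])).trans ?_
  rw [← Ideal.one_eq_top, Finset.prod_const_one]

include hproper hreg hΓ hL hsq in
/-- vertical twists are trivial on the generic fibre. -/
theorem pullCl_twists (e : Fin n → ℕ) :
    PicF.IsInvertibleCl (PicF.cl (FGA.multiTwist L e)) ∧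
    PicF.pullCl g (PicF.cl (ClSub.idealMod (∏ i, (Γ i).ι.ker ^ e i))) = 1 ∧
      PicF.pullCl g (PicF.cl (FGA.multiTwist L e)) = 1 := by
  have h1 := pullCl_idealMod_eq_one g (∏ i, (Γ i).ι.ker ^ e i)
    (fun V hV => ideal_prod_eq_top R X Γ f g hsq e V hV)
  have hInv := isInvertible_ker R X hproper hreg Γ hΓ
  have h2 := cl_multiTwist_mul_idealMod L (fun j => (Γ j).ι.ker) hInv hL e
  have hI := isInvCl_cl (cl_idealMod_prod Finset.univ (fun j => (Γ j).ι.ker) e hInv).1
  have hT : PicF.IsInvertibleCl (PicF.cl (FGA.multiTwist L e)) :=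
    isInvCl_of_mul_eq hI isInvCl_one (by rw [mul_comm]; exact h2)
  refine ⟨hT, h1, ?_⟩
  have h3 := pullCl_mul g hT hI
  rw [h2, pullCl_one, h1, mul_one] at h3
  exact h3.symm

include hproper hreg hΓ hL hsq in
/-- **S19924** (class form). -/
theorem main19924
    (hoff : ∀ i j, i ≠ j → 0 ≤ ArSurf.inter R X (L j) (Γ i))
    (hconn : ∀ I : Finset (Fin n), I.Nonempty → I ≠ Finset.univ →
      ∃ i ∈ I, ∃ j ∉ I, ArSurf.inter R X (L j) (Γ i) ≠ 0)
    (hsurj : ∀ h : Γ(X.left, ⊤), ∃ r : R, unif X r = h)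
    (ϖ : R) (hϖ : Irreducible ϖ) (hle : X.left.basicOpen (unif X ϖ) ≤ g ''ᵁ ⊤)
    (h : ℕ) (N : C.Modules)
    (M : X.left.Modules) (hM : PicF.IsInvertible M)
    (hMN : PicF.pullCl g (PicF.cl M) = PicF.cl N)
    (a b : Fin n → ℕ)
    (hab : PicF.cl M ^ h * PicF.cl (FGA.multiTwist L a) = PicF.cl (FGA.multiTwist L b)) :
    (∃ M' : X.left.Modules, PicF.IsInvertible M' ∧ PicF.cl M' ^ h = 1 ∧
        PicF.pullCl g (PicF.cl M') = PicF.cl N) ↔
      ∃ (c : Fin n → ℤ) (e : ℤ), ∀ i, ((b i : ℤ) - (a i : ℤ)) =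
        (h : ℤ) * c i + e * (Models.mult R X (Γ i) : ℤ) := by
  have hcrit : ∀ a b : Fin n → ℕ,
      PicF.cl (FGA.multiTwist L a) = PicF.cl (FGA.multiTwist L b) ↔
        ∃ c : ℤ, ∀ i, (a i : ℤ) - (b i : ℤ) = c * (Models.mult R X (Γ i) : ℤ) := fun a b =>
    (cl_eq_iff _ _).trans (main3314 R X hproper hreg Γ hΓ L hL hoff hconn hsurj a b)
  have hInv := isInvertible_ker R X hproper hreg Γ hΓ
  constructor
  · rintro ⟨M', hM', hM't, hM'N⟩
    have hD := Groth.Agent.Lib.Helper23.Inverse.isInvertible_dual hM'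
    have hMD : PicF.cl M' * PicF.cl (Groth.Agent.Lib.Helper23.Inverse.dual M') = 1 :=
      cl_mul_eq_one_of_isInverseOf (Groth.Agent.Lib.Helper23.Inverse.tensor_dual_iso hM')
    have hQ : PicF.IsInvertible (CohB1.tensorMod M (Groth.Agent.Lib.Helper23.Inverse.dual M')) :=
      isInvertible_tensorMod hM hD
    have hpQ : PicF.pullCl g (PicF.cl (CohB1.tensorMod M
        (Groth.Agent.Lib.Helper23.Inverse.dual M'))) = 1 := by
      rw [← cl_mul, pullCl_mul g (isInvCl_cl hM) (isInvCl_cl hD), hMN, ← hM'N,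
        ← pullCl_mul g (isInvCl_cl hM') (isInvCl_cl hD), hMD, pullCl_one]
    rw [pullCl_cl, cl_eq_one_iff] at hpQ
    obtain ⟨isoQ⟩ := hpQ
    obtain ⟨m, hm⟩ := exists_isGen_of_pullback_iso g _ ⟨isoQ.symm⟩
    obtain ⟨e', he'⟩ := exists_multiTwist_of_isGen R X hproper hreg Γ hΓ L hL ϖ hϖ _ hQ _
      (hm.mono hle)
    rw [← cl_mul] at he'
    have hM1 : PicF.cl M = PicF.cl M' * PicF.cl (FGA.multiTwist L e') := by
      calc PicF.cl M = PicF.cl M * (PicF.cl M' *
            PicF.cl (Groth.Agent.Lib.Helper23.Inverse.dual M')) := by rw [hMD, mul_one]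
        _ = PicF.cl M' * (PicF.cl M *
            PicF.cl (Groth.Agent.Lib.Helper23.Inverse.dual M')) := by
            rw [← mul_assoc, ← mul_assoc, mul_comm (PicF.cl M)]
        _ = _ := by rw [he']
    have hM2 : PicF.cl M ^ h = PicF.cl (FGA.multiTwist L (fun i => h * e' i)) := by
      rw [hM1, mul_pow, hM't, one_mul, cl_multiTwist_smul']
    rw [hM2, ← cl_multiTwist_add'] at hab
    obtain ⟨z, hz⟩ := (hcrit _ _).mp hab
    refine ⟨fun i => (e' i : ℤ), -z, fun i => ?_⟩
    have h2 := hz i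
    push_cast at h2
    linarith
  · rintro ⟨c, e, hce⟩
    set cp : Fin n → ℕ := fun i => (c i).toNat with hcp
    set cm : Fin n → ℕ := fun i => (-c i).toNat with hcm
    have hc : ∀ i, (cp i : ℤ) - (cm i : ℤ) = c i := fun i => by
      simp only [hcp, hcm]
      omega
    obtain ⟨hTm, -, hpTm⟩ := pullCl_twists R X hproper hreg Γ hΓ L hL f g hsq cm
    obtain ⟨hTp, hpIp, -⟩ := pullCl_twists R X hproper hreg Γ hΓ L hL f g hsq cp
    obtain ⟨hTa, -, -⟩ := pullCl_twists R X hproper hreg Γ hΓ L hL f g hsq a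
    have hIp := cl_idealMod_prod Finset.univ (fun j => (Γ j).ι.ker) cp hInv
    have hGY := cl_multiTwist_mul_idealMod L (fun j => (Γ j).ι.ker) hInv hL cp
    have hTmInv : PicF.IsInvertible (FGA.multiTwist L cm) := isInvertible_of_isInvCl hTm
    have hTI : PicF.IsInvertible (CohB1.tensorMod (FGA.multiTwist L cm)
        (ClSub.idealMod (∏ i, (Γ i).ι.ker ^ cp i))) := isInvertible_tensorMod hTmInv hIp.1
    refine ⟨CohB1.tensorMod M (CohB1.tensorMod (FGA.multiTwist L cm)
      (ClSub.idealMod (∏ i, (Γ i).ι.ker ^ cp i))), isInvertible_tensorMod hM hTI, ?_, ?_⟩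
    · rw [← cl_mul, ← cl_mul]
      -- the key relation `G(b + h cm) = G(a + h cp)`
      have hkey : PicF.cl (FGA.multiTwist L (fun i => b i + h * cm i)) =
          PicF.cl (FGA.multiTwist L (fun i => a i + h * cp i)) := by
        rw [hcrit]
        refine ⟨e, fun i => ?_⟩
        have h1 := hce i
        have h2 := hc i
        push_cast
        have h3 : (h : ℤ) * c i = (h : ℤ) * (cp i : ℤ) - (h : ℤ) * (cm i : ℤ) := by
          rw [← h2]
          ring
        linarith
      rw [cl_multiTwist_add', cl_multiTwist_add', cl_multiTwist_smul', cl_multiTwist_smul',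
        ← hab] at hkey
      have hkey' : PicF.cl M ^ h * PicF.cl (FGA.multiTwist L cm) ^ h =
          PicF.cl (FGA.multiTwist L cp) ^ h := by
        apply mul_left_cancel_of_isInvCl hTa
        rw [← hkey, ← mul_assoc, mul_comm (PicF.cl (FGA.multiTwist L a))]
      rw [mul_pow, mul_pow, ← mul_assoc, hkey', ← mul_pow, hGY, one_pow]
    · rw [← cl_mul, ← cl_mul,
        pullCl_mul g (isInvCl_cl hM) (isInvCl_mul hTm (isInvCl_cl hIp.1)),
        pullCl_mul g hTm (isInvCl_cl hIp.1), hpTm, hpIp, mul_one, mul_one, hMN]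

end

end Groth.Agent.Lib.Helper7.MTwE
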