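import Mathlib
import Groth.Prelude
import Groth.Agent.Lib.Helper7.MTwE
import Groth.Agent.Lib.Helper7.InterInv
import Groth.Agent.Lib.Helper23.CurveF

/-!
# Helper library (helper7): degrees of twists by vertical divisors on a regular proper model;
invertible modules on the model with a given generic fibre and prescribed degrees (S3348, S3340).
-/

set_option autoImplicit false
set_option linter.unusedSectionVars false
set_option linter.style.haveILetI false
universe u
open CategoryTheory CategoryTheory.Limits AlgebraicGeometry Opposite TopologicalSpace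
open Scheme.Modules

namespace Groth.Agent.Lib.Helper7.MTwF

open Groth.Agent.Lib.Helper3 Groth.Agent.Lib.Helper3.InvMonoidal Groth.Agent.Lib.Helper3.InvTensor
open Groth.Agent.Lib.Helper3.InvGen Groth.Agent.Lib.Helper3.QCSec Groth.Agent.Lib.Helper3.InvCoh
open Groth.Agent.Lib.Helper7.SnapFGA
open Groth.Agent.Lib.Helper7.FibFacA Groth.Agent.Lib.Helper7.FibFacB
open Groth.Agent.Lib.Helper7.FibFacD Groth.Agent.Lib.Helper7.FibFacF
open Groth.Agent.Lib.Helper7.FibFacG
open Groth.Agent.Lib.Helper1.ModelComp Groth.Agent.Lib.Helper1.ModelMult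
open Groth.Agent.Lib.Helper7.MTwA Groth.Agent.Lib.Helper7.MTwB Groth.Agent.Lib.Helper7.MTwC
open Groth.Agent.Lib.Helper7.MTwD Groth.Agent.Lib.Helper7.MTwE
open Groth.Agent.Lib.Helper13.ClMon
open Groth.Agent.Lib.Helper7.InterInv
open Groth.Agent.Lib.Helper23 Groth.Agent.Lib.Helper23.Curve

section General

variable {R : Type u} [CommRing R] [IsDomain R] [IsDiscreteValuationRing R]
  {X : Over (Spec (CommRingCat.of R))}

theorem inter_eq_of_iso (hproper : IsProper X.hom) (Γ₀ : ArSurf.VertComp R X)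
    {M M' : X.left.Modules} (e : M ≅ M') :
    ArSurf.inter R X M Γ₀ = ArSurf.inter R X M' Γ₀ := by
  haveI := isProper_curve hproper Γ₀
  have hd1' : topologicalKrullDim Γ₀.curve.left ≤ ((1 : ℕ) : WithBot ℕ∞) := by
    rw [Γ₀.dim_eq]
    norm_cast
  unfold ArSurf.inter ArSurf.curveDeg
  rw [eulerLE_eq _ _ 1 hd1' ((Scheme.Modules.pullback Γ₀.ι).obj M),
    eulerLE_eq _ _ 1 hd1' ((Scheme.Modules.pullback Γ₀.ι).obj M'),
    FBC.euler_eq_of_iso' (IsLocalRing.ResidueField R) ((Scheme.Modules.pullback Γ₀.ι).mapIso e)]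

theorem inter_tensor (hproper : IsProper X.hom) (Γ₀ : ArSurf.VertComp R X)
    {M K : X.left.Modules} (hM : PicF.IsInvertible M) (hK : PicF.IsInvertible K) :
    ArSurf.inter R X (CohB1.tensorMod M K) Γ₀ =
      ArSurf.inter R X M Γ₀ + ArSurf.inter R X K Γ₀ := by
  haveI := isProper_curve hproper Γ₀
  have hd1 : topologicalKrullDim Γ₀.curve.left ≤ 1 := by rw [Γ₀.dim_eq]
  have hd1' : topologicalKrullDim Γ₀.curve.left ≤ ((1 : ℕ) : WithBot ℕ∞) := by
    rw [Γ₀.dim_eq]
    norm_cast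
  have hMp := PbBasic.isInvertible_pullback Γ₀.ι hM
  have hKp := PbBasic.isInvertible_pullback Γ₀.ι hK
  have h1 := Groth.Agent.Lib.Helper23.DegTensor.deg_tw (IsLocalRing.ResidueField R) hd1
    (isFinLocFreeOfRank_one_of_isInvertible hMp) hKp
  have h2 := deg_eq_of_iso' (IsLocalRing.ResidueField R) (PbTensor.pbTensorIso Γ₀.ι M K hM hK)
  unfold ArSurf.inter ArSurf.curveDeg
  rw [eulerLE_eq _ _ 1 hd1' ((Scheme.Modules.pullback Γ₀.ι).obj (CohB1.tensorMod M K)),
    eulerLE_eq _ _ 1 hd1' ((Scheme.Modules.pullback Γ₀.ι).obj M),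
    eulerLE_eq _ _ 1 hd1' ((Scheme.Modules.pullback Γ₀.ι).obj K),
    eulerLE_eq _ _ 1 hd1' (Coh.structureModule Γ₀.curve.left)]
  unfold Curv2.deg at h1 h2
  push_cast at h1 h2
  linarith

theorem inter_unit (hproper : IsProper X.hom) (Γ₀ : ArSurf.VertComp R X) :
    ArSurf.inter R X (Coh.structureModule X.left) Γ₀ = 0 := by
  have hO := InvGen.isInvertible_structureModule X.left
  have h1 := inter_tensor hproper Γ₀ hO hO
  have h2 := inter_eq_of_iso hproper Γ₀ (unitorL (Coh.structureModule X.left))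
  linarith

theorem inter_eq_of_cl_eq (hproper : IsProper X.hom) (Γ₀ : ArSurf.VertComp R X)
    {M M' : X.left.Modules} (h : PicF.cl M = PicF.cl M') :
    ArSurf.inter R X M Γ₀ = ArSurf.inter R X M' Γ₀ := by
  obtain ⟨e⟩ := (cl_eq_iff _ _).1 h
  exact inter_eq_of_iso hproper Γ₀ e

theorem inter_of_cl_eq_mul (hproper : IsProper X.hom) (Γ₀ : ArSurf.VertComp R X)
    {M A B : X.left.Modules} (hA : PicF.IsInvertible A) (hB : PicF.IsInvertible B)
    (h : PicF.cl M = PicF.cl A * PicF.cl B) :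
    ArSurf.inter R X M Γ₀ = ArSurf.inter R X A Γ₀ + ArSurf.inter R X B Γ₀ := by
  rw [cl_mul] at h
  rw [inter_eq_of_cl_eq hproper Γ₀ h, inter_tensor hproper Γ₀ hA hB]

theorem inter_of_cl_mul_eq_one (hproper : IsProper X.hom) (Γ₀ : ArSurf.VertComp R X)
    {A B : X.left.Modules} (hA : PicF.IsInvertible A) (hB : PicF.IsInvertible B)
    (h : PicF.cl A * PicF.cl B = 1) :
    ArSurf.inter R X A Γ₀ + ArSurf.inter R X B Γ₀ = 0 := by
  rw [cl_mul, one_def] at h
  rw [← inter_tensor hproper Γ₀ hA hB, inter_eq_of_cl_eq hproper Γ₀ h, inter_unit hproper Γ₀]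

end General

variable (R : Type u) [CommRing R] [IsDomain R] [IsDiscreteValuationRing R]
  (X : Over (Spec (CommRingCat.of R)))

section

variable (hproper : IsProper X.hom) [Flat X.hom]
  (hreg : ∀ x : X.left, IsRegularLocalRing (X.left.presheaf.stalk x))
  {n : ℕ} (Γ : Fin n → ArSurf.VertComp R X) (hΓ : Models.IsComponentList R X Γ)
  (L : Fin n → X.left.Modules)
  (hL : ∀ j, ClSub.IsInverseOf (L j) (ClSub.idealMod (Γ j).ι.ker))
  {C : Scheme.{u}} (f : C ⟶ Spec (CommRingCat.of (FractionRing R))) (g : C ⟶ X.left)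
  (hsq : IsPullback g f X.hom
    (Spec.map (CommRingCat.ofHom (algebraMap R (FractionRing R)))))

include hproper hreg hΓ hL in
theorem inter_idealMod_prod (e : Fin n → ℕ) (i : Fin n) :
    ArSurf.inter R X (ClSub.idealMod (∏ j, (Γ j).ι.ker ^ e j)) (Γ i) =
      - ∑ j, (e j : ℤ) * ArSurf.inter R X (L j) (Γ i) := by
  haveI := hproper
  haveI : IsLocallyNoetherian X.left := LocallyOfFiniteType.isLocallyNoetherian X.hom
  haveI : CompactSpace X.left := QuasiCompact.compactSpace_of_compactSpace X.hom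
  haveI : IsNoetherian X.left := {}
  haveI := isProper_curve hproper (Γ i)
  have hd1 : topologicalKrullDim (Γ i).curve.left ≤ 1 := by rw [(Γ i).dim_eq]
  have hInv := isInvertible_ker R X hproper hreg Γ hΓ
  rw [inter_idealMod_eq_delta hproper (Γ i),
    (δ_prod' (IsLocalRing.ResidueField R) hd1 (Γ i).ι Finset.univ
      (fun j => (Γ j).ι.ker) e hInv).2, ← Finset.sum_neg_distrib]
  exact Finset.sum_congr rfl fun j _ => by
    rw [inter_eq_neg_delta hproper (Γ i) _ (hInv j) (L j) (hL j)]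
    ring

include hproper hreg hΓ hL in
theorem isInvertible_multiTwist (e : Fin n → ℕ) : PicF.IsInvertible (FGA.multiTwist L e) := by
  have hInv := isInvertible_ker R X hproper hreg Γ hΓ
  have h2 := cl_multiTwist_mul_idealMod L (fun j => (Γ j).ι.ker) hInv hL e
  have hI := (cl_idealMod_prod Finset.univ (fun j => (Γ j).ι.ker) e hInv).1
  exact isInvertible_of_isInvCl
    (isInvCl_of_mul_eq (isInvCl_cl hI) isInvCl_one (by rw [mul_comm]; exact h2))

include hproper hreg hΓ hL in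
theorem inter_multiTwist (e : Fin n → ℕ) (i : Fin n) :
    ArSurf.inter R X (FGA.multiTwist L e) (Γ i) =
      ∑ j, (e j : ℤ) * ArSurf.inter R X (L j) (Γ i) := by
  have hInv := isInvertible_ker R X hproper hreg Γ hΓ
  have h2 := cl_multiTwist_mul_idealMod L (fun j => (Γ j).ι.ker) hInv hL e
  have hI := (cl_idealMod_prod Finset.univ (fun j => (Γ j).ι.ker) e hInv).1
  have hT := isInvertible_multiTwist R X hproper hreg Γ hΓ L hL e
  have h3 := inter_of_cl_mul_eq_one hproper (Γ i) hT hI h2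
  rw [inter_idealMod_prod R X hproper hreg Γ hΓ L hL e i] at h3
  linarith

variable [IsOpenImmersion g]

include hproper hreg hΓ hL hsq in
/-- **S3348** (class form). -/
theorem main3348 (ϖ : R) (hϖ : Irreducible ϖ) (hle : X.left.basicOpen (unif X ϖ) ≤ g ''ᵁ ⊤)
    (N : C.Modules) (M : X.left.Modules) (hM : PicF.IsInvertible M)
    (hMN : PicF.pullCl g (PicF.cl M) = PicF.cl N) :
    (∃ v : Fin n → ℤ, ∀ i, ArSurf.inter R X M (Γ i) =
        ∑ j, ArSurf.inter R X (L j) (Γ i) * v j) ↔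
      ∃ M' : X.left.Modules, PicF.IsInvertible M' ∧ PicF.pullCl g (PicF.cl M') = PicF.cl N ∧
        ∀ i, ArSurf.inter R X M' (Γ i) = 0 := by
  have hInv := isInvertible_ker R X hproper hreg Γ hΓ
  constructor
  · rintro ⟨v, hv⟩
    obtain ⟨vp, hvp⟩ : ∃ vp : Fin n → ℕ, ∀ i, vp i = (v i).toNat := ⟨_, fun _ => rfl⟩
    obtain ⟨vm, hvm⟩ : ∃ vm : Fin n → ℕ, ∀ i, vm i = (-v i).toNat := ⟨_, fun _ => rfl⟩
    have hvv : ∀ i, (vp i : ℤ) - (vm i : ℤ) = v i := fun i => by
      rw [hvp, hvm]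
      omega
    obtain ⟨hTm, -, hpTm⟩ := pullCl_twists R X hproper hreg Γ hΓ L hL f g hsq vm
    obtain ⟨-, hpIp, -⟩ := pullCl_twists R X hproper hreg Γ hΓ L hL f g hsq vp
    have hIp := cl_idealMod_prod Finset.univ (fun j => (Γ j).ι.ker) vp hInv
    have hTmInv : PicF.IsInvertible (FGA.multiTwist L vm) := isInvertible_of_isInvCl hTm
    have hTI : PicF.IsInvertible (CohB1.tensorMod (FGA.multiTwist L vm)
        (ClSub.idealMod (∏ i, (Γ i).ι.ker ^ vp i))) := isInvertible_tensorMod hTmInv hIp.1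
    refine ⟨CohB1.tensorMod M (CohB1.tensorMod (FGA.multiTwist L vm)
      (ClSub.idealMod (∏ i, (Γ i).ι.ker ^ vp i))), isInvertible_tensorMod hM hTI, ?_, ?_⟩
    · rw [← cl_mul, ← cl_mul,
        pullCl_mul g (isInvCl_cl hM) (isInvCl_mul hTm (isInvCl_cl hIp.1)),
        pullCl_mul g hTm (isInvCl_cl hIp.1), hpTm, hpIp, mul_one, mul_one, hMN]
    · intro i
      rw [inter_tensor hproper (Γ i) hM hTI, inter_tensor hproper (Γ i) hTmInv hIp.1,
        inter_multiTwist R X hproper hreg Γ hΓ L hL vm i,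
        inter_idealMod_prod R X hproper hreg Γ hΓ L hL vp i, hv i]
      have h5 : ∑ j, ArSurf.inter R X (L j) (Γ i) * v j =
          ∑ j, (vp j : ℤ) * ArSurf.inter R X (L j) (Γ i) -
            ∑ j, (vm j : ℤ) * ArSurf.inter R X (L j) (Γ i) := by
        rw [← Finset.sum_sub_distrib]
        exact Finset.sum_congr rfl fun j _ => by
          rw [← hvv j]
          ring
      rw [h5]
      ring
  · rintro ⟨M', hM', hM'N, hdeg⟩
    have hD := Groth.Agent.Lib.Helper23.Inverse.isInvertible_dual hM'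
    have hMD : PicF.cl M' * PicF.cl (Groth.Agent.Lib.Helper23.Inverse.dual M') = 1 :=
      cl_mul_eq_one_of_isInverseOf (Groth.Agent.Lib.Helper23.Inverse.tensor_dual_iso hM')
    have hQ : PicF.IsInvertible (CohB1.tensorMod M (Groth.Agent.Lib.Helper23.Inverse.dual M')) :=
      isInvertible_tensorMod hM hD
    have hpQ : PicF.pullCl g (PicF.cl (CohB1.tensorMod M
        (Groth.Agent.Lib.Helper23.Inverse.dual M'))) = 1 := by
      rw [← cl_mul, pullCl_mul g (isInvCl_cl hM) (isInvCl_cl hD), hMN, ← hM'N,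
        ← pullCl_mul g (isInvCl_cl hM') (isInvCl_cl hD), hMD, pullCl_one]
    rw [pullCl_cl, cl_eq_one_iff] at hpQ
    obtain ⟨isoQ⟩ := hpQ
    obtain ⟨m, hm⟩ := exists_isGen_of_pullback_iso g _ ⟨isoQ.symm⟩
    obtain ⟨e', he'⟩ := exists_multiTwist_of_isGen R X hproper hreg Γ hΓ L hL ϖ hϖ _ hQ _
      (hm.mono hle)
    rw [← cl_mul] at he'
    have hM1 : PicF.cl M = PicF.cl M' * PicF.cl (FGA.multiTwist L e') := by
      calc PicF.cl M = PicF.cl M * (PicF.cl M' *
            PicF.cl (Groth.Agent.Lib.Helper23.Inverse.dual M')) := by rw [hMD, mul_one]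
        _ = PicF.cl M' * (PicF.cl M *
            PicF.cl (Groth.Agent.Lib.Helper23.Inverse.dual M')) := by
            rw [← mul_assoc, ← mul_assoc, mul_comm (PicF.cl M)]
        _ = _ := by rw [he']
    have hTe := isInvertible_multiTwist R X hproper hreg Γ hΓ L hL e'
    refine ⟨fun j => (e' j : ℤ), fun i => ?_⟩
    rw [inter_of_cl_eq_mul hproper (Γ i) hM' hTe hM1, hdeg i, zero_add,
      inter_multiTwist R X hproper hreg Γ hΓ L hL e' i]
    exact Finset.sum_congr rfl fun j _ => by ring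

include hproper hreg hΓ hL in
/-- **S3340** (class form). -/
theorem main3340
    (hoff : ∀ i j, i ≠ j → 0 ≤ ArSurf.inter R X (L j) (Γ i))
    (hconn : ∀ I : Finset (Fin n), I.Nonempty → I ≠ Finset.univ →
      ∃ i ∈ I, ∃ j ∉ I, ArSurf.inter R X (L j) (Γ i) ≠ 0)
    (ϖ : R) (hϖ : Irreducible ϖ) (hle : X.left.basicOpen (unif X ϖ) ≤ g ''ᵁ ⊤)
    (M : X.left.Modules) (hM : PicF.IsInvertible M)
    (htriv : Nonempty ((Scheme.Modules.pullback g).obj M ≅ Coh.structureModule C))
    (hdeg : ∀ i, ArSurf.inter R X M (Γ i) = 0) :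
    PicF.cl M ^ (Models.multGcd R X Γ) = 1 := by
  haveI := hproper
  haveI : IsLocallyNoetherian X.left := LocallyOfFiniteType.isLocallyNoetherian X.hom
  haveI : CompactSpace X.left := QuasiCompact.compactSpace_of_compactSpace X.hom
  haveI : IsNoetherian X.left := {}
  obtain ⟨m0, hm0⟩ := exists_isGen_of_pullback_iso g M htriv
  obtain ⟨e, he⟩ := exists_multiTwist_of_isGen R X hproper hreg Γ hΓ L hL ϖ hϖ M hM _
    (hm0.mono hle)
  have hker : ∀ i, ∑ j, (e j : ℤ) * ArSurf.inter R X (L j) (Γ i) = 0 := fun i => by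
    rw [← inter_multiTwist R X hproper hreg Γ hΓ L hL e i,
      ← inter_eq_of_cl_eq hproper (Γ i) he, hdeg i]
  obtain ⟨c, hc⟩ := Groth.Agent.Lib.Helper7.SemiDefLA.exists_rat_of_kernel
    (fun i j => ArSurf.inter R X (L j) (Γ i)) (fun i => Models.mult R X (Γ i))
    (fun i => mult_pos' R X hreg Γ hΓ i)
    (fun i j => Groth.Agent.Lib.Helper7.IntLenE.inter_symm R X hproper hreg Γ hΓ L hL i j)
    hoff
    (fun i => sum_mult_inter_eq_zero' R X hproper hreg Γ hΓ L hL i)
    hconn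
    (fun i => (e i : ℤ))
    (by
      refine Finset.sum_eq_zero (fun i _ => ?_)
      have h3 : ∑ j, (e i : ℤ) * (e j : ℤ) * ArSurf.inter R X (L j) (Γ i) =
          (e i : ℤ) * ∑ j, (e j : ℤ) * ArSurf.inter R X (L j) (Γ i) := by
        rw [Finset.mul_sum]
        exact Finset.sum_congr rfl (fun j _ => by ring)
      rw [h3, hker i, mul_zero])
  rw [he]
  rcases Nat.eq_zero_or_pos n with hn0 | hnpos
  · subst hn0
    rw [cl_multiTwist]
    simp
  have hmpos : ∀ i, (0 : ℚ) < (Models.mult R X (Γ i) : ℚ) := fun i => by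
    exact_mod_cast mult_pos' R X hreg Γ hΓ i
  have hc' : ∀ i, (e i : ℚ) = c * (Models.mult R X (Γ i) : ℚ) := fun i => by
    have h1 := hc i
    push_cast at h1
    exact h1
  have hc0 : 0 ≤ c := by
    by_contra hneg
    have hneg' : c < 0 := not_le.mp hneg
    have h1 := hc' ⟨0, hnpos⟩
    have h2 : c * (Models.mult R X (Γ ⟨0, hnpos⟩) : ℚ) < 0 :=
      mul_neg_of_neg_of_pos hneg' (hmpos _)
    have h3 : (0 : ℚ) ≤ (e ⟨0, hnpos⟩ : ℚ) := Nat.cast_nonneg _
    linarith
  have hnum : ((c.num.toNat : ℕ) : ℚ) = (c.num : ℚ) := by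
    have h2 : ((c.num.toNat : ℕ) : ℤ) = c.num := Int.toNat_of_nonneg (Rat.num_nonneg.mpr hc0)
    rw [← Int.cast_natCast, h2]
  have hrel : ∀ i, c.den * e i = c.num.toNat * Models.mult R X (Γ i) := by
    intro i
    have h5 : c * (c.den : ℚ) = (c.num : ℚ) := Rat.mul_den_eq_num c
    have h4 : ((c.den * e i : ℕ) : ℚ) = ((c.num.toNat * Models.mult R X (Γ i) : ℕ) : ℚ) := by
      push_cast
      rw [hnum, ← h5, hc' i]
      ring
    exact_mod_cast h4
  obtain ⟨t, ht⟩ := nt1 (fun i => Models.mult R X (Γ i)) e c.den c.num.toNat c.den_pos hrel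
  obtain ⟨d, hd⟩ : ∃ d, d = Models.multGcd R X Γ := ⟨_, rfl⟩
  obtain ⟨g', hg'⟩ : ∃ g', g' = Nat.gcd c.den (Finset.univ.gcd fun i => Models.mult R X (Γ i)) :=
    ⟨_, rfl⟩
  rw [← hg'] at ht
  rw [← hd]
  have hg'd : g' ∣ d := by
    rw [hg', hd]
    exact Nat.gcd_dvd_right _ _
  have hdm : ∀ i, d ∣ Models.mult R X (Γ i) := fun i => by
    rw [hd]
    exact Finset.gcd_dvd (Finset.mem_univ i)
  have hg'pos : 0 < g' := by
    rw [hg']
    exact Nat.gcd_pos_of_pos_left _ c.den_pos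
  have hkey : ∀ i, d * e i = (t * (d / g')) * Models.mult R X (Γ i) := by
    intro i
    rw [ht i]
    obtain ⟨d', hd'⟩ := hg'd
    obtain ⟨m', hm'⟩ := (Dvd.intro d' hd'.symm : g' ∣ d).trans (hdm i)
    rw [hm', hd', Nat.mul_div_cancel_left _ hg'pos, Nat.mul_div_cancel_left _ hg'pos]
    ring
  rw [← cl_multiTwist_smul', show (fun i => d * e i) =
    fun i => (t * (d / g')) * Models.mult R X (Γ i) from funext hkey, cl_multiTwist_smul',
    cl_multiTwist_mult R X hproper hreg Γ hΓ L hL, one_pow]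

end

end Groth.Agent.Lib.Helper7.MTwF
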