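import Mathlib
import Groth.Prelude
import Groth.Agent.Lib.Helper7.IdealProd
import Groth.Agent.Lib.Helper7.AmpleH1
import Groth.Agent.Lib.Helper23.EffCart
import Groth.Agent.Lib.Helper24.ThirdIso

/-!
# Helper library (helper7): the sequence `0 → O_Γ(-D) → O_{D+Γ} → O_D → 0`
-/

set_option autoImplicit false
set_option linter.unusedSectionVars false
set_option linter.style.haveILetI false
universe v u
open CategoryTheory CategoryTheory.Limits AlgebraicGeometry TopologicalSpace Opposite
open Scheme.Modules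

noncomputable section

namespace Groth.Agent.Lib.Helper7.QuotMulSeq

open Groth.Agent.Lib.Helper3
open QCSec InvGen InvTensor InvMonoidal InvCoh SubIdeal IdealMod
open Groth.Agent.Lib.Helper7.TwFun Groth.Agent.Lib.Helper23.Twist
open Groth.Agent.Lib.Helper7.IdealProd

variable {X : Scheme.{u}} (J D : X.IdealSheafData)

/-- the multiplication map `I_J ⊗ I_D ⟶ I_D`. -/
def cMap : CohB1.tensorMod (ClSub.idealMod J) (ClSub.idealMod D) ⟶ ClSub.idealMod D :=
  tensorMap (ClSub.idealModι J) (𝟙 (ClSub.idealMod D)) ≫ (unitorL (ClSub.idealMod D)).hom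

/-- the quotient map `I_D ⟶ O/J ⊗ I_D`. -/
def qMap : ClSub.idealMod D ⟶ CohB1.tensorMod (ClSub.quotMod J) (ClSub.idealMod D) :=
  (unitorL (ClSub.idealMod D)).inv ≫ tensorMap (ClSub.toSubscheme J) (𝟙 (ClSub.idealMod D))

theorem cMap_comp_ι : cMap J D ≫ ClSub.idealModι D = prodMap J D := by
  apply tensor_hom_ext
  intro U a d
  change (ClSub.idealModι D).app U ((unitorL (ClSub.idealMod D)).hom.app U
    ((tensorMap (ClSub.idealModι J) (𝟙 (ClSub.idealMod D))).app U (tm _ _ U a d))) =
    (unitorL (Coh.structureModule X)).hom.app U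
      ((tensorMap (ClSub.idealModι J) (ClSub.idealModι D)).app U (tm _ _ U a d))
  rw [tensorMap_tm, tensorMap_tm]
  have h1 := unitorL_hom_tm (ClSub.idealMod D) U d (val J a)
  have h2 := unitorL_hom_tm (Coh.structureModule X) U ((ClSub.idealModι D).app U d) (val J a)
  refine (congrArg (fun z => (ClSub.idealModι D).app U z) h1).trans ?_
  refine Eq.trans ?_ h2.symm
  exact Scheme.Modules.Hom.app_smul (ClSub.idealModι D) (val J a) d

theorem cMap_qMap : cMap J D ≫ qMap J D = 0 := by
  have h : ClSub.idealModι J ≫ ClSub.toSubscheme J = 0 := kernel.condition _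
  have h1 : tensorMap (ClSub.idealModι J) (𝟙 (ClSub.idealMod D)) ≫
      tensorMap (ClSub.toSubscheme J) (𝟙 (ClSub.idealMod D)) = 0 := by
    rw [← tensorMap_comp, h, Category.comp_id]
    exact (twR (ClSub.idealMod D)).map_zero _ _
  unfold cMap qMap
  rw [Category.assoc, Iso.hom_inv_id_assoc]
  exact h1

variable {J D}

theorem shortExact_cq (hD : PicF.IsInvertible (ClSub.idealMod D)) :
    (ShortComplex.mk (cMap J D) (qMap J D) (cMap_qMap J D)).ShortExact := by
  have hS' := Groth.Agent.Lib.Helper7.AmpleH1.shortExact_tw hD _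
    (Groth.Agent.Lib.Helper23.EffCart.shortExact_ideal J)
  refine ShortComplex.shortExact_of_iso ?_ hS'
  refine ShortComplex.isoMk (Iso.refl _) (unitorL (ClSub.idealMod D)) (Iso.refl _) ?_ ?_
  · change 𝟙 _ ≫ cMap J D = (twR (ClSub.idealMod D)).map (ClSub.idealModι J) ≫
      (unitorL (ClSub.idealMod D)).hom
    rw [Category.id_comp]
    rfl
  · change (unitorL (ClSub.idealMod D)).hom ≫ qMap J D =
      (twR (ClSub.idealMod D)).map (ClSub.toSubscheme J) ≫ 𝟙 _
    unfold qMap
    rw [Iso.hom_inv_id_assoc, Category.comp_id]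
    rfl

theorem exists_iso_idealMod (hJ : PicF.IsInvertible (ClSub.idealMod J))
    (hD : PicF.IsInvertible (ClSub.idealMod D)) :
    ∃ θ : CohB1.tensorMod (ClSub.idealMod J) (ClSub.idealMod D) ≅ ClSub.idealMod (J * D),
      θ.hom ≫ ClSub.idealModι (J * D) = prodMap J D := by
  haveI : (CohB1.tensorMod (ClSub.idealMod J) (ClSub.idealMod D)).IsQuasicoherent :=
    isQuasicoherent_of_isInvertible (isInvertible_tensorMod hJ hD)
  haveI := mono_prodMap hJ hD
  have key : ∀ (I : X.IdealSheafData), idealOfSub (prodMap J D) = I →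
      ∃ θ : CohB1.tensorMod (ClSub.idealMod J) (ClSub.idealMod D) ≅ ClSub.idealMod I,
        θ.hom ≫ ClSub.idealModι I = prodMap J D := by
    rintro I rfl
    haveI := Groth.Agent.Lib.Helper7.SubIdealIso.isIso_lift (prodMap J D)
    exact ⟨asIso (Groth.Agent.Lib.Helper7.SubIdealIso.lift (prodMap J D)),
      Groth.Agent.Lib.Helper7.SubIdealIso.lift_ι (prodMap J D)⟩
  exact key _ (idealOfSub_prodMap_eq hJ hD)

theorem shortExact_prod (hJ : PicF.IsInvertible (ClSub.idealMod J))
    (hD : PicF.IsInvertible (ClSub.idealMod D)) (w₂) :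
    (ShortComplex.mk (cMap J D ≫ ClSub.idealModι D) (ClSub.toSubscheme (J * D)) w₂).ShortExact := by
  obtain ⟨θ, hθ⟩ := exists_iso_idealMod hJ hD
  have hS'' := Groth.Agent.Lib.Helper23.EffCart.shortExact_ideal (J * D)
  refine ShortComplex.shortExact_of_iso ?_ hS''
  refine ShortComplex.isoMk θ.symm (Iso.refl _) (Iso.refl _) ?_ ?_
  · change θ.inv ≫ (cMap J D ≫ ClSub.idealModι D) = ClSub.idealModι (J * D) ≫ 𝟙 _
    rw [cMap_comp_ι, ← hθ, Iso.inv_hom_id_assoc, Category.comp_id]
  · change 𝟙 _ ≫ ClSub.toSubscheme (J * D) = ClSub.toSubscheme (J * D) ≫ 𝟙 _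
    rw [Category.id_comp, Category.comp_id]

/-- **the sequence `0 → O/J ⊗ I_D → O/(J·D) → O/D → 0`.** -/
theorem exists_shortExact_quot_mul (hJ : PicF.IsInvertible (ClSub.idealMod J))
    (hD : PicF.IsInvertible (ClSub.idealMod D)) :
    ∃ (f : CohB1.tensorMod (ClSub.quotMod J) (ClSub.idealMod D) ⟶ ClSub.quotMod (J * D))
      (g : ClSub.quotMod (J * D) ⟶ ClSub.quotMod D) (w : f ≫ g = 0),
      (ShortComplex.mk f g w).ShortExact := by
  obtain ⟨θ, hθ⟩ := exists_iso_idealMod hJ hD
  have w₂ : (cMap J D ≫ ClSub.idealModι D) ≫ ClSub.toSubscheme (J * D) = 0 := by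
    rw [cMap_comp_ι, ← hθ, Category.assoc]
    have h : ClSub.idealModι (J * D) ≫ ClSub.toSubscheme (J * D) = 0 := kernel.condition _
    rw [h, comp_zero]
  exact Groth.Agent.Lib.Helper24.ThirdIso.exists_shortExact_of_comp (cMap J D) (ClSub.idealModι D) (qMap J D)
    (ClSub.toSubscheme (J * D)) (ClSub.toSubscheme D) (cMap_qMap J D) w₂
    (kernel.condition _) (shortExact_cq hD) (shortExact_prod hJ hD w₂)
    (Groth.Agent.Lib.Helper23.EffCart.shortExact_ideal D)

end Groth.Agent.Lib.Helper7.QuotMulSeq
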