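import Mathlib
import Groth.Prelude
import Groth.Agent.Lib.Helper7.QuotMulSeq
import Groth.Agent.Lib.Helper7.InterInv
import Groth.Agent.Lib.Helper7.MTwF
import Groth.Agent.Lib.Helper7.IntLenE
import Groth.Agent.Lib.Helper23.CurveGen
import Groth.Agent.Lib.Helper17.DevTest
import Groth.Agent.Lib.Helper4.ChiAdditive

/-!
# Helper library (helper7): `χ(O_{D+Γ}) - χ(O_D) = -(D·Γ) + χ(O_Γ)` on a regular proper model.
-/

set_option autoImplicit false
set_option linter.unusedSectionVars false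
set_option linter.style.haveILetI false
universe u
open CategoryTheory CategoryTheory.Limits AlgebraicGeometry Opposite TopologicalSpace
open Scheme.Modules

namespace Groth.Agent.Lib.Helper7.Euler3325

open Groth.Agent.Lib.Helper3 Groth.Agent.Lib.Helper3.InvMonoidal Groth.Agent.Lib.Helper3.InvTensor
open Groth.Agent.Lib.Helper7.SnapFGA Groth.Agent.Lib.Helper17
open Groth.Agent.Lib.Helper7.ArSurfDeg Groth.Agent.Lib.Helper7.CanSec
open Groth.Agent.Lib.Helper7.NumSec Groth.Agent.Lib.Helper23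
open Groth.Agent.Lib.Helper7.IntLenC Groth.Agent.Lib.Helper7.DegRestr
open Groth.Agent.Lib.Helper7.FibFacD Groth.Agent.Lib.Helper7.FibFacF
open Groth.Agent.Lib.Helper7.InterInv

variable {R : Type u} [CommRing R] [IsDomain R] [IsDiscreteValuationRing R]
  {X : Over (Spec (CommRingCat.of R))}

/-- the iso `O/I_Γ ⊗ L ≅ ι_* ι^* L`. -/
noncomputable def eK (Γ : ArSurf.VertComp R X) (L : X.left.Modules) :
    CohB1.tensorMod (ClSub.quotMod Γ.ι.ker) L ≅
      (Scheme.Modules.pushforward Γ.ι).obj ((Scheme.Modules.pullback Γ.ι).obj L) :=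
  tensorMapIso (quotModKerIso Γ.ι) (Iso.refl L) ≪≫
    Groth.Agent.Lib.Helper2.Mon.projIso Γ.ι _ _ ≪≫
    (Scheme.Modules.pushforward Γ.ι).mapIso (unitorL _)

theorem length_K_ne_top (hproper : IsProper X.hom) (Γ : ArSurf.VertComp R X)
    (L : X.left.Modules) (hL : PicF.IsInvertible L) (p : ℕ) :
    Module.length R (Coh.HH X.left (CohB1.tensorMod (ClSub.quotMod Γ.ι.ker) L) p) ≠ ⊤ := by
  have hcohL : Coh.IsCoh ((Scheme.Modules.pullback Γ.ι).obj L) :=
    Groth.Agent.Lib.Helper23.Curve.isCoh_of_isInvertible (PbBasic.isInvertible_pullback Γ.ι hL)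
  have h := length_push hproper Γ _ hcohL p
  rw [← (HmapEquivR (R := R) (eK Γ L) p).length_eq] at h
  rw [h]
  exact ENat.natCast_ne_top _

theorem length_quotMod_ker_ne_top (hproper : IsProper X.hom) (Γ : ArSurf.VertComp R X) (p : ℕ) :
    Module.length R (Coh.HH X.left (ClSub.quotMod Γ.ι.ker) p) ≠ ⊤ := by
  have hcohO : Coh.IsCoh (Coh.structureModule Γ.curve.left) :=
    Groth.Agent.Lib.Helper23.Curve.isCoh_of_isInvertible
      (InvGen.isInvertible_structureModule Γ.curve.left)
  have h := length_push hproper Γ _ hcohO p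
  rw [← (HmapEquivR (R := R) (quotModKerIso Γ.ι) p).length_eq] at h
  rw [h]
  exact ENat.natCast_ne_top _

theorem chiR_quotMod_ker (hproper : IsProper X.hom) (Γ : ArSurf.VertComp R X) :
    chiR (X := X) (ClSub.quotMod Γ.ι.ker) =
      (Models.wdeg R X Γ : ℤ) - (Models.h1 R X Γ : ℤ) := by
  have hcohO : Coh.IsCoh (Coh.structureModule Γ.curve.left) :=
    Groth.Agent.Lib.Helper23.Curve.isCoh_of_isInvertible
      (InvGen.isInvertible_structureModule Γ.curve.left)
  have h2 : ∀ p : ℕ, ((Module.length R (Coh.HH X.left (ClSub.quotMod Γ.ι.ker) p)).toNat : ℤ) =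
      (Module.finrank (IsLocalRing.ResidueField R)
        (Coh.HH Γ.curve.left (Coh.structureModule Γ.curve.left) p) : ℤ) := by
    intro p
    have h := length_push hproper Γ _ hcohO p
    rw [← (HmapEquivR (R := R) (quotModKerIso Γ.ι) p).length_eq] at h
    rw [h]
    simp
  unfold chiR Models.wdeg Models.h1
  rw [Finset.sum_range_succ, Finset.sum_range_one, h2 0, h2 1]
  ring

theorem chiR_eq (F : X.left.Modules) :
    chiR (X := X) F = ((Module.length R (Coh.HH X.left F 0)).toNat : ℤ) -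
      ((Module.length R (Coh.HH X.left F 1)).toNat : ℤ) := by
  unfold chiR
  rw [Finset.sum_range_succ, Finset.sum_range_one]
  ring

theorem subsingleton_H2_K (hproper : IsProper X.hom) (Γ : ArSurf.VertComp R X)
    (L : X.left.Modules) (hL : PicF.IsInvertible L) :
    Subsingleton (Coh.HH X.left (CohB1.tensorMod (ClSub.quotMod Γ.ι.ker) L) 2) := by
  haveI := isProper_curve hproper Γ
  letI : Γ.curve.left.Over (Spec (CommRingCat.of R)) := ⟨Γ.ι ≫ X.hom⟩
  have e := Groth.Agent.Lib.Helper7.PushLinear.pushLinearEquiv Γ.ι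
    ((Scheme.Modules.pullback Γ.ι).obj L) R rfl 2
  haveI : ((Scheme.Modules.pullback Γ.ι).obj L).IsQuasicoherent :=
    InvCoh.isQuasicoherent_of_isInvertible (PbBasic.isInvertible_pullback Γ.ι hL)
  haveI : Subsingleton (Coh.HH Γ.curve.left ((Scheme.Modules.pullback Γ.ι).obj L) 2) :=
    Groth.Agent.Lib.Helper23.CurveGen.subsingleton_HH_of_dim_le_one
      (IsLocalRing.ResidueField R) Γ.curve.left (by rw [Γ.dim_eq])
      ((Scheme.Modules.pullback Γ.ι).obj L) 0
  exact ((HmapEquivR (R := R) (eK Γ L) 2).trans e.symm).toEquiv.subsingleton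

theorem length_quotMod_top_ne_top (p : ℕ) :
    Module.length R (Coh.HH X.left (ClSub.quotMod (⊤ : X.left.IdealSheafData)) p) ≠ ⊤ := by
  have hemp : CohB1.support (ClSub.quotMod (⊤ : X.left.IdealSheafData)) = ∅ := by
    have h := DevTest.support_A (⊤ : X.left.IdealSheafData)
    rw [h, Scheme.IdealSheafData.support_top]
    rfl
  have hz : IsZero (ClSub.quotMod (⊤ : X.left.IdealSheafData)) :=
    DevBasic.isZero_of_support_eq_empty hemp
  haveI : Subsingleton (Coh.HH X.left (ClSub.quotMod (⊤ : X.left.IdealSheafData)) p) :=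
    Groth.Agent.Lib.Helper23.T2.subsingleton_HHm_of_isZero hz p
  rw [Module.length_eq_zero]
  exact ENat.zero_ne_top

/-- **one step: adding the component `Γ` to the divisor `D`.** -/
theorem chi_step (hproper : IsProper X.hom) (Γ : ArSurf.VertComp R X)
    (D : X.left.IdealSheafData) (hJ : PicF.IsInvertible (ClSub.idealMod Γ.ι.ker))
    (hD : PicF.IsInvertible (ClSub.idealMod D))
    (hfin : ∀ i : ℕ, Module.length R (Coh.HH X.left (ClSub.quotMod D) i) ≠ ⊤) :
    (∀ i : ℕ, Module.length R (Coh.HH X.left (ClSub.quotMod (Γ.ι.ker * D)) i) ≠ ⊤) ∧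
      ((Models.lengthH R X (ClSub.quotMod (Γ.ι.ker * D)) 0 : ℤ) -
          (Models.lengthH R X (ClSub.quotMod (Γ.ι.ker * D)) 1 : ℤ)) -
        ((Models.lengthH R X (ClSub.quotMod D) 0 : ℤ) -
          (Models.lengthH R X (ClSub.quotMod D) 1 : ℤ)) =
      ArSurf.inter R X (ClSub.idealMod D) Γ +
        ((Models.wdeg R X Γ : ℤ) - (Models.h1 R X Γ : ℤ)) := by
  obtain ⟨f, g, w, hS⟩ := Groth.Agent.Lib.Helper7.QuotMulSeq.exists_shortExact_quot_mul hJ hD
  obtain ⟨hfin', hχ⟩ := Groth.Agent.Lib.Helper4.ChiAdditive.chi_additive (R := R) (X := X) (ShortComplex.mk f g w) hS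
    (fun i => length_K_ne_top hproper Γ _ hD i) hfin (subsingleton_H2_K hproper Γ _ hD)
  refine ⟨hfin', ?_⟩
  have h1 := inter_eq_chiR hproper Γ (ClSub.idealMod D) hD
  rw [chiR_quotMod_ker hproper Γ, chiR_eq] at h1
  unfold Models.lengthH
  change ((Module.length R (Coh.HH X.left (ClSub.quotMod (Γ.ι.ker * D)) 0)).toNat : ℤ) -
      ((Module.length R (Coh.HH X.left (ClSub.quotMod (Γ.ι.ker * D)) 1)).toNat : ℤ) = _ at hχ
  rw [hχ, h1]
  change _ = _ + (((Module.length R (Coh.HH X.left (ClSub.quotMod D) 0)).toNat : ℤ) -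
      ((Module.length R (Coh.HH X.left (ClSub.quotMod D) 1)).toNat : ℤ)) at hχ
  change (((Module.length R (Coh.HH X.left
      (CohB1.tensorMod (ClSub.quotMod Γ.ι.ker) (ClSub.idealMod D)) 0)).toNat : ℤ) -
      ((Module.length R (Coh.HH X.left
      (CohB1.tensorMod (ClSub.quotMod Γ.ι.ker) (ClSub.idealMod D)) 1)).toNat : ℤ) +
      (((Module.length R (Coh.HH X.left (ClSub.quotMod D) 0)).toNat : ℤ) -
      ((Module.length R (Coh.HH X.left (ClSub.quotMod D) 1)).toNat : ℤ))) -
      (((Module.length R (Coh.HH X.left (ClSub.quotMod D) 0)).toNat : ℤ) -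
      ((Module.length R (Coh.HH X.left (ClSub.quotMod D) 1)).toNat : ℤ)) = _
  ring

theorem prod_pow_add_ite {M : Type*} [CommMonoid M] {n : ℕ} (I : Fin n → M) (a : Fin n → ℕ)
    (i : Fin n) :
    ∏ j, I j ^ (a j + if j = i then 1 else 0) = I i * ∏ j, I j ^ a j := by
  have h1 : ∀ j, I j ^ (a j + if j = i then 1 else 0) =
      I j ^ a j * (if j = i then I j else 1) := by
    intro j
    by_cases hj : j = i
    · rw [if_pos hj, if_pos hj, pow_succ]
    · rw [if_neg hj, if_neg hj, add_zero, mul_one]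
  rw [Finset.prod_congr rfl (fun j _ => h1 j), Finset.prod_mul_distrib,
    Finset.prod_ite_eq' Finset.univ i I, if_pos (Finset.mem_univ i), mul_comm]

section

variable (R X)
variable (hproper : IsProper X.hom) [Flat X.hom]
  (hreg : ∀ x : X.left, IsRegularLocalRing (X.left.presheaf.stalk x))
  {n : ℕ} (Γ : Fin n → ArSurf.VertComp R X) (hΓ : Models.IsComponentList R X Γ)
  (L : Fin n → X.left.Modules)
  (hL : ∀ j, ClSub.IsInverseOf (L j) (ClSub.idealMod (Γ j).ι.ker))

include hproper hreg hΓ in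
theorem length_quotMod_prod_ne_top (a : Fin n → ℕ) (p : ℕ) :
    Module.length R (Coh.HH X.left (ClSub.quotMod (∏ j, (Γ j).ι.ker ^ a j)) p) ≠ ⊤ := by
  have hInv := Groth.Agent.Lib.Helper7.MTwB.isInvertible_ker R X hproper hreg Γ hΓ
  have key : ∀ (m : ℕ) (a : Fin n → ℕ), ∑ j, a j = m → ∀ p : ℕ,
      Module.length R (Coh.HH X.left (ClSub.quotMod (∏ j, (Γ j).ι.ker ^ a j)) p) ≠ ⊤ := by
    intro m
    induction m with
    | zero =>
      intro a ha p
      have h0 : ∀ j, a j = 0 := fun j =>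
        (Finset.sum_eq_zero_iff.mp ha) j (Finset.mem_univ j)
      have h1 : ∏ j, (Γ j).ι.ker ^ a j = (⊤ : X.left.IdealSheafData) := by
        rw [Finset.prod_eq_one (fun j _ => by rw [h0 j, pow_zero]),
          Scheme.IdealSheafData.one_eq_top]
      rw [h1]
      exact length_quotMod_top_ne_top p
    | succ m ih =>
      intro a ha
      have hex : ∃ i, a i ≠ 0 := by
        by_contra hne
        push_neg at hne
        have : ∑ j, a j = 0 := Finset.sum_eq_zero (fun j _ => hne j)
        omega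
      obtain ⟨i, hi⟩ := hex
      set a' : Fin n → ℕ := Function.update a i (a i - 1) with ha'
      have haa : a = fun j => a' j + if j = i then 1 else 0 := by
        funext j
        by_cases hj : j = i
        · subst hj
          rw [ha', Function.update_self, if_pos rfl]
          omega
        · rw [ha', Function.update_of_ne hj, if_neg hj, add_zero]
      have hsum : ∑ j, a' j = m := by
        have h1 : ∑ j, a j = ∑ j, a' j + ∑ j, (if j = i then 1 else 0) := by
          rw [← Finset.sum_add_distrib]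
          exact Finset.sum_congr rfl (fun j _ => congrFun haa j)
        rw [Finset.sum_ite_eq' Finset.univ i (fun _ => 1), if_pos (Finset.mem_univ i)] at h1
        omega
      have hI := (Groth.Agent.Lib.Helper7.MTwA.cl_idealMod_prod Finset.univ
        (fun j => (Γ j).ι.ker) a' hInv).1
      have hstep := (chi_step hproper (Γ i) (∏ j, (Γ j).ι.ker ^ a' j) (hInv i) hI
        (ih a' hsum)).1
      have hprod : ∏ j, (Γ j).ι.ker ^ a j =
          (Γ i).ι.ker * ∏ j, (Γ j).ι.ker ^ a' j := by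
        rw [← prod_pow_add_ite (fun j => (Γ j).ι.ker) a' i]
        exact Finset.prod_congr rfl (fun j _ => by rw [congrFun haa j])
      rw [hprod]
      exact hstep
  exact key _ a rfl p

include hproper hreg hΓ hL in
/-- **`χ(O_{D+Γ_i}) - χ(O_D) = -(D·Γ_i) + χ(O_{Γ_i})`.** -/
theorem main (a : Fin n → ℕ) (i : Fin n) :
    ((Models.lengthH R X
          (ClSub.quotMod (∏ j, (Γ j).ι.ker ^ (a j + if j = i then 1 else 0))) 0 : ℤ) -
        (Models.lengthH R X
          (ClSub.quotMod (∏ j, (Γ j).ι.ker ^ (a j + if j = i then 1 else 0))) 1 : ℤ)) -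
      ((Models.lengthH R X (ClSub.quotMod (∏ j, (Γ j).ι.ker ^ a j)) 0 : ℤ) -
        (Models.lengthH R X (ClSub.quotMod (∏ j, (Γ j).ι.ker ^ a j)) 1 : ℤ)) =
    -(∑ j, (a j : ℤ) * ArSurf.inter R X (L i) (Γ j)) +
      ((Models.wdeg R X (Γ i) : ℤ) - (Models.h1 R X (Γ i) : ℤ)) := by
  have hInv := Groth.Agent.Lib.Helper7.MTwB.isInvertible_ker R X hproper hreg Γ hΓ
  have hI := (Groth.Agent.Lib.Helper7.MTwA.cl_idealMod_prod Finset.univ
    (fun j => (Γ j).ι.ker) a hInv).1
  have hstep := (chi_step hproper (Γ i) (∏ j, (Γ j).ι.ker ^ a j) (hInv i) hI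
    (length_quotMod_prod_ne_top R X hproper hreg Γ hΓ a)).2
  rw [prod_pow_add_ite (fun j => (Γ j).ι.ker) a i, hstep,
    Groth.Agent.Lib.Helper7.MTwF.inter_idealMod_prod R X hproper hreg Γ hΓ L hL a i]
  congr 2
  exact Finset.sum_congr rfl (fun j _ => by
    rw [Groth.Agent.Lib.Helper7.IntLenE.inter_symm R X hproper hreg Γ hΓ L hL i j])

end

end Groth.Agent.Lib.Helper7.Euler3325
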