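import Groth.Agent.Lib.Helper23.FBC5

/-!
# Helper library (helper7): flat base change of cohomology along a flat ring map `A → A'`
(port of helper23's `FBC1`–`FBC5`, which treat field extensions; the argument only uses flatness).
-/
set_option autoImplicit false
set_option linter.style.haveILetI false
set_option linter.unusedSectionVars false
universe u
open CategoryTheory CategoryTheory.Limits Opposite TopologicalSpace AlgebraicGeometry
open Scheme.Modules TensorProduct

noncomputable section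

namespace Groth.Agent.Lib.Helper7.FlatBCR

open Groth.Agent.Lib.Helper23.T2 Groth.Agent.Lib.Helper3 Groth.Agent.Lib.Helper3.QCSec
  Groth.Agent.Lib.Helper3.InvGen Groth.Agent.Lib.Helper13 Groth.Agent.Lib.Helper13.SerreCrit1
  Groth.Agent.Lib.Helper17.UnitBC Groth.Agent.Lib.Helper23.FBC

section Transfer

/-- A base change along `R → S` is a base change along `k → k'` when `k ≃ R`, `k' ≃ S`
compatibly. -/
theorem exists_equiv_of_isBaseChange {k k' R S : Type*} [CommRing k] [CommRing k'] [Algebra k k']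
    [CommRing R] [CommRing S] [Algebra R S] (ρ : k ≃+* R) (ρ' : k' ≃+* S)
    (hρ : ∀ c, algebraMap R S (ρ c) = ρ' (algebraMap k k' c))
    {M N : Type*} [AddCommGroup M] [Module R M] [Module k M]
    (hM : ∀ (c : k) (m : M), c • m = ρ c • m)
    [AddCommGroup N] [Module S N] [Module R N] [IsScalarTower R S N] [Module k' N]
    (hN : ∀ (c : k') (n : N), c • n = ρ' c • n)
    (lin : M →ₗ[R] N) (hbc : IsBaseChange S lin) :
    ∃ e : k' ⊗[k] M ≃ₗ[k'] N, ∀ (c : k') (m : M), e (c ⊗ₜ[k] m) = c • lin m := by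
  classical
  letI : Module k N := Module.compHom N (algebraMap k k')
  haveI : IsScalarTower k k' N := IsScalarTower.of_algebraMap_smul fun _ _ => rfl
  have hlin : ∀ (c : k) (m : M), lin (c • m) = c • lin m := by
    intro c m
    rw [hM, lin.map_smul]
    change ρ c • lin m = algebraMap k k' c • lin m
    rw [hN, ← hρ, algebraMap_smul]
  let lin' : M →ₗ[k] N :=
    { toFun := lin
      map_add' := lin.map_add
      map_smul' := hlin }
  let Φ : k' ⊗[k] M →ₗ[k'] N := LinearMap.liftBaseChange k' lin'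
  have hΦ : ∀ (c : k') (m : M), Φ (c ⊗ₜ[k] m) = c • lin m := fun c m =>
    LinearMap.liftBaseChange_tmul k' lin' c m
  -- the additive map `S ⊗[R] M → k' ⊗[k] M`
  let θ : S ⊗[R] M →+ k' ⊗[k] M :=
    TensorProduct.liftAddHom
      { toFun := fun s =>
          { toFun := fun m => (ρ'.symm s) ⊗ₜ[k] m
            map_zero' := TensorProduct.tmul_zero _ _
            map_add' := fun m m' => TensorProduct.tmul_add _ _ _ }
        map_zero' := by
          ext m
          change (ρ'.symm 0) ⊗ₜ[k] m = 0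
          rw [map_zero, TensorProduct.zero_tmul]
        map_add' := fun s s' => by
          ext m
          change (ρ'.symm (s + s')) ⊗ₜ[k] m = (ρ'.symm s) ⊗ₜ[k] m + (ρ'.symm s') ⊗ₜ[k] m
          rw [map_add, TensorProduct.add_tmul] }
      (fun r s m => by
        change (ρ'.symm (r • s)) ⊗ₜ[k] m = (ρ'.symm s) ⊗ₜ[k] (r • m)
        have h1 : r • m = ρ.symm r • m := by rw [hM, RingEquiv.apply_symm_apply]
        have h2 : ρ'.symm (r • s) = ρ.symm r • ρ'.symm s := by
          rw [Algebra.smul_def, map_mul, Algebra.smul_def]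
          congr 1
          apply ρ'.injective
          rw [RingEquiv.apply_symm_apply, ← hρ, RingEquiv.apply_symm_apply]
        rw [h1, h2, TensorProduct.smul_tmul])
  have hθ : ∀ (s : S) (m : M), θ (s ⊗ₜ[R] m) = (ρ'.symm s) ⊗ₜ[k] m := fun s m => rfl
  have hleft : ∀ t : k' ⊗[k] M, θ (hbc.equiv.symm (Φ t)) = t := by
    intro t
    induction t using TensorProduct.induction_on with
    | zero => simp
    | tmul c m =>
      have h1 : Φ (c ⊗ₜ[k] m) = hbc.equiv ((ρ' c) ⊗ₜ[R] m) := by
        rw [hΦ, IsBaseChange.equiv_tmul, hN]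
      rw [h1, LinearEquiv.symm_apply_apply, hθ, RingEquiv.symm_apply_apply]
    | add x y hx hy => rw [map_add, map_add, map_add, hx, hy]
  have hinj : Function.Injective Φ := fun a b hab => by
    rw [← hleft a, ← hleft b, hab]
  have hsurj : Function.Surjective Φ := by
    intro n
    obtain ⟨t, rfl⟩ := hbc.equiv.surjective n
    induction t using TensorProduct.induction_on with
    | zero => exact ⟨0, by simp⟩
    | tmul s m =>
      refine ⟨(ρ'.symm s) ⊗ₜ[k] m, ?_⟩
      rw [hΦ, IsBaseChange.equiv_tmul, hN, RingEquiv.apply_symm_apply]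
    | add x y hx hy =>
      obtain ⟨a, ha⟩ := hx
      obtain ⟨b, hb⟩ := hy
      exact ⟨a + b, by rw [map_add, map_add, ha, hb]⟩
  exact ⟨LinearEquiv.ofBijective Φ ⟨hinj, hsurj⟩, fun c m => hΦ c m⟩

/-- variant of `exists_equiv_of_isBaseChange` with the module structures transported along
additive equivalences -/
theorem exists_equiv_of_isBaseChange' {k k' R S : Type*} [CommRing k] [CommRing k'] [Algebra k k']
    [CommRing R] [CommRing S] [Algebra R S] (ρ : k ≃+* R) (ρ' : k' ≃+* S)
    (hρ : ∀ c, algebraMap R S (ρ c) = ρ' (algebraMap k k' c))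
    {M N H H' : Type*} [AddCommGroup M] [Module R M] [AddCommGroup N] [Module S N] [Module R N]
    [IsScalarTower R S N] [AddCommGroup H] [Module k H] [AddCommGroup H'] [Module k' H']
    (a : H ≃+ M) (ha : ∀ (c : k) (x : H), a (c • x) = ρ c • a x)
    (a' : H' ≃+ N) (ha' : ∀ (c : k') (y : H'), a' (c • y) = ρ' c • a' y)
    (lin : M →ₗ[R] N) (hbc : IsBaseChange S lin) :
    ∃ e : k' ⊗[k] H ≃ₗ[k'] H', ∀ (c : k') (x : H), e (c ⊗ₜ[k] x) = c • a'.symm (lin (a x)) := by
  letI : Module k M := Module.compHom M (ρ : k →+* R)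
  letI : Module k' N := Module.compHom N (ρ' : k' →+* S)
  obtain ⟨e0, he0⟩ := exists_equiv_of_isBaseChange ρ ρ' hρ (M := M) (N := N)
    (fun _ _ => rfl) (fun _ _ => rfl) lin hbc
  let aL : H ≃ₗ[k] M := a.toLinearEquiv ha
  let aL' : H' ≃ₗ[k'] N := a'.toLinearEquiv ha'
  refine ⟨(TensorProduct.AlgebraTensorModule.congr (LinearEquiv.refl k' k') aL) ≪≫ₗ e0 ≪≫ₗ
    aL'.symm, fun c x => ?_⟩
  rw [LinearEquiv.trans_apply, LinearEquiv.trans_apply,
    TensorProduct.AlgebraTensorModule.congr_tmul, LinearEquiv.refl_apply, he0, _root_.map_smul]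
  rfl

end Transfer

section Square

variable (k k' : Type u) [CommRing k] [CommRing k'] [Algebra k k'] [Module.Flat k k'] {X X' : Scheme.{u}}
  [X.Over (Spec (CommRingCat.of k))] [X'.Over (Spec (CommRingCat.of k'))] {π : X' ⟶ X}
  (hpb : IsPullback π (X' ↘ Spec (CommRingCat.of k')) (X ↘ Spec (CommRingCat.of k))
      (Spec.map (CommRingCat.ofHom (algebraMap k k'))))

include hpb

theorem flat_of_isPullback : Flat π := by
  have h : Flat (Spec.map (CommRingCat.ofHom (algebraMap k k'))) := by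
    rw [Flat.SpecMap_iff]
    exact RingHom.flat_algebraMap_iff.mpr inferInstance
  exact MorphismProperty.of_isPullback hpb.flip h

theorem isAffineHom_of_isPullback : IsAffineHom π := by
  have h : IsAffineHom (Spec.map (CommRingCat.ofHom (algebraMap k k'))) := inferInstance
  exact MorphismProperty.of_isPullback hpb.flip h

end Square

section H0

variable {X X' : Scheme.{u}} {π : X' ⟶ X}

variable (k k' : Type u) [CommRing k] [CommRing k'] [Algebra k k'] [Module.Flat k k']
  [X.Over (Spec (CommRingCat.of k))] [X'.Over (Spec (CommRingCat.of k'))]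
  (hpb : IsPullback π (X' ↘ Spec (CommRingCat.of k')) (X ↘ Spec (CommRingCat.of k))
      (Spec.map (CommRingCat.ofHom (algebraMap k k'))))

include hpb in
theorem exists_H0_equiv [CompactSpace X] [QuasiSeparatedSpace X] (F : X.Modules)
    [F.IsQuasicoherent] :
    ∃ e : k' ⊗[k] Coh.HH X F 0 ≃ₗ[k'] Coh.HH X' ((Scheme.Modules.pullback π).obj F) 0,
      ∀ (c : k') (x : Coh.HH X F 0), e (c ⊗ₜ[k] x) = c • θ π F x := by
  haveI : Flat (Spec.map (CommRingCat.ofHom (algebraMap k k'))) := by
    rw [Flat.SpecMap_iff]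
    exact RingHom.flat_algebraMap_iff.mpr inferInstance
  have hV'V : (⊤ : (Spec (CommRingCat.of k')).Opens) ≤
      (Spec.map (CommRingCat.ofHom (algebraMap k k'))) ⁻¹ᵁ ⊤ := fun _ _ => trivial
  have hW : (⊤ : X.Opens) ≤ (X ↘ Spec (CommRingCat.of k)) ⁻¹ᵁ ⊤ := fun _ _ => trivial
  have hc : IsCompact ((⊤ : X.Opens) : Set X) := by
    rw [Opens.coe_top]; exact isCompact_univ
  have hqs : IsQuasiSeparated ((⊤ : X.Opens) : Set X) := by
    rw [Opens.coe_top]; exact isQuasiSeparated_univ
  have h0 := isBCHom_cmp_of_qcqs hpb F hV'V (isAffineOpen_top _) (isAffineOpen_top _) hW hc hqs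
  have hup : up π (X' ↘ Spec (CommRingCat.of k')) ⊤ ⊤ = ⊤ := by
    rw [eq_top_iff]
    intro x _
    exact ⟨trivial, trivial⟩
  have h1 : (⊤ : X'.Opens) ≤ π ⁻¹ᵁ ⊤ := fun _ _ => trivial
  have h2 : (⊤ : X'.Opens) ≤ (X' ↘ Spec (CommRingCat.of k')) ⁻¹ᵁ ⊤ := fun _ _ => trivial
  have h3 := isBCHom_cmp_transport F hW hV'V hup h1 h2 h0
  letI := ((Spec.map (CommRingCat.ofHom (algebraMap k k'))).appLE ⊤ ⊤ hV'V).hom.toAlgebra
  letI : Module Γ(Spec (CommRingCat.of k), ⊤)
      (SecA (X' ↘ Spec (CommRingCat.of k')) ⊤ ((Scheme.Modules.pullback π).obj F) ⊤ h2) :=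
    Module.compHom _ ((Spec.map (CommRingCat.ofHom (algebraMap k k'))).appLE ⊤ ⊤ hV'V).hom
  haveI : IsScalarTower Γ(Spec (CommRingCat.of k), ⊤) Γ(Spec (CommRingCat.of k'), ⊤)
      (SecA (X' ↘ Spec (CommRingCat.of k')) ⊤ ((Scheme.Modules.pullback π).obj F) ⊤ h2) :=
    IsScalarTower.of_algebraMap_smul fun _ _ => rfl
  obtain ⟨lin, hlin, hbc⟩ := h3
  let ρ : k ≃+* Γ(Spec (CommRingCat.of k), ⊤) :=
    (Scheme.ΓSpecIso (CommRingCat.of k)).symm.commRingCatIsoToRingEquiv
  let ρ' : k' ≃+* Γ(Spec (CommRingCat.of k'), ⊤) :=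
    (Scheme.ΓSpecIso (CommRingCat.of k')).symm.commRingCatIsoToRingEquiv
  have hρ : ∀ c : k, algebraMap Γ(Spec (CommRingCat.of k), ⊤) Γ(Spec (CommRingCat.of k'), ⊤)
      (ρ c) = ρ' (algebraMap k k' c) := by
    intro c
    have h := Scheme.ΓSpecIso_inv_naturality (CommRingCat.ofHom (algebraMap k k'))
    have h' := congrArg (fun f => f.hom c) h
    change ((Spec.map (CommRingCat.ofHom (algebraMap k k'))).appLE ⊤ ⊤ hV'V).hom
      ((Scheme.ΓSpecIso (CommRingCat.of k)).inv.hom c) =
      (Scheme.ΓSpecIso (CommRingCat.of k')).inv.hom (algebraMap k k' c)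
    rw [appLE_top_top]
    exact h'.symm
  let a : Coh.HH X F 0 ≃+ SecA (X ↘ Spec (CommRingCat.of k)) ⊤ F ⊤ hW :=
    (H0equiv F).toAddEquiv
  let a' : Coh.HH X' ((Scheme.Modules.pullback π).obj F) 0 ≃+
      SecA (X' ↘ Spec (CommRingCat.of k')) ⊤ ((Scheme.Modules.pullback π).obj F) ⊤ h2 :=
    (H0equiv ((Scheme.Modules.pullback π).obj F)).toAddEquiv
  have ha : ∀ (c : k) (x : Coh.HH X F 0), a (c • x) = ρ c • a x := by
    intro c x
    have h := (H0equiv F).map_smul (Coh.toGlobal (X ↘ Spec (CommRingCat.of k)) c) x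
    change H0equiv F (c • x) = ((X ↘ Spec (CommRingCat.of k)).appLE ⊤ ⊤ hW).hom
      ((Scheme.ΓSpecIso (CommRingCat.of k)).inv.hom c) • (show Γ(F, ⊤) from H0equiv F x)
    rw [appLE_top_top]
    exact h
  have ha' : ∀ (c : k') (y : Coh.HH X' ((Scheme.Modules.pullback π).obj F) 0),
      a' (c • y) = ρ' c • a' y := by
    intro c y
    have h := (H0equiv ((Scheme.Modules.pullback π).obj F)).map_smul
      (Coh.toGlobal (X' ↘ Spec (CommRingCat.of k')) c) y
    change H0equiv ((Scheme.Modules.pullback π).obj F) (c • y) =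
      ((X' ↘ Spec (CommRingCat.of k')).appLE ⊤ ⊤ h2).hom
        ((Scheme.ΓSpecIso (CommRingCat.of k')).inv.hom c) •
          (show Γ((Scheme.Modules.pullback π).obj F, ⊤) from
            H0equiv ((Scheme.Modules.pullback π).obj F) y)
    rw [appLE_top_top]
    exact h
  obtain ⟨e, he⟩ := exists_equiv_of_isBaseChange' ρ ρ' hρ a ha a' ha' lin hbc
  refine ⟨e, fun c x => ?_⟩
  rw [he, hlin]
  rfl

end H0

section Main

variable (k k' : Type u) [CommRing k] [CommRing k'] [Algebra k k'] [Module.Flat k k'] {X X' : Scheme.{u}}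
  [X.Over (Spec (CommRingCat.of k))] [X'.Over (Spec (CommRingCat.of k'))] {π : X' ⟶ X}
  (hpb : IsPullback π (X' ↘ Spec (CommRingCat.of k')) (X ↘ Spec (CommRingCat.of k))
      (Spec.map (CommRingCat.ofHom (algebraMap k k'))))
  [CompactSpace X] [QuasiSeparatedSpace X]
  (haff : ∀ V : X.Opens, IsAffineOpen V → IsAffineHom V.ι)

include hpb haff in
/-- **Flat base change** for the cohomology of quasi-coherent modules along a flat ring map. -/
theorem nonempty_equiv : ∀ (p : ℕ) (F : X.Modules) [F.IsQuasicoherent],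
    Nonempty (k' ⊗[k] Coh.HH X F p ≃ₗ[k'] Coh.HH X' ((Scheme.Modules.pullback π).obj F) p) := by
  haveI : Flat π := flat_of_isPullback k k' hpb
  haveI : IsAffineHom π := isAffineHom_of_isPullback k k' hpb
  obtain ⟨ι, _, U, hU, hcov⟩ := exists_finite_affine_cover X
  haveI : ∀ i, IsAffineHom (U i).ι := fun i => haff (U i) (hU i)
  -- the step data for a quasi-coherent module
  have hstep : ∀ (F : X.Modules) [F.IsQuasicoherent],
      (cokernel (effMap U F)).IsQuasicoherent ∧
      (∀ p, Subsingleton (Coh.HH X (Eff U F) (p + 1))) ∧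
      (∀ p, Subsingleton (Coh.HH X' ((Scheme.Modules.pullback π).obj (Eff U F)) (p + 1))) := by
    intro F _
    haveI := isQuasicoherent_Eff U F
    exact ⟨QCProps.isQuasicoherent_cokernel _, fun p => subsingleton_HH_Eff U hU F p,
      fun p => subsingleton_HH_pullback_Eff π U hU F p⟩
  intro p
  induction p with
  | zero =>
    intro F _
    obtain ⟨e, -⟩ := exists_H0_equiv k k' hpb F
    exact ⟨e⟩
  | succ p ih =>
    intro F _
    obtain ⟨hQ, hG, hG'⟩ := hstep F
    haveI := hQ
    haveI := isQuasicoherent_Eff U F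
    have hS := effSC_shortExact U hcov F
    have hS' := shortExact_pullback π (effSC U F) hS
    rcases p with _ | p
    · -- degree one: cokernels
      obtain ⟨eA, heA⟩ := exists_H0_equiv k k' hpb (Eff U F)
      obtain ⟨eB, heB⟩ := exists_H0_equiv k k' hpb (cokernel (effMap U F))
      refine nonempty_baseChange_coker (R := k) (S := k')
        (HmapK k (effSC U F).g 0) (HδK k (effSC U F) hS 0)
        (exact_Hmap_Hδ k (effSC U F) hS 0) (surjective_Hδ k (effSC U F) hS 0 (hG 0))
        (HmapK k' ((effSC U F).map (Scheme.Modules.pullback π)).g 0)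
        (HδK k' ((effSC U F).map (Scheme.Modules.pullback π)) hS' 0)
        (exact_Hmap_Hδ k' _ hS' 0) (surjective_Hδ k' _ hS' 0 (hG' 0)) eA eB ?_
      intro s x
      have h1 : eB (s ⊗ₜ[k] Hmap (cokernel.π (effMap U F)) 0 x) =
          s • θ π _ (Hmap (cokernel.π (effMap U F)) 0 x) := heB s _
      have h2 : eA (s ⊗ₜ[k] x) = s • θ π (Eff U F) x := heA s x
      have h3 := θ_naturality π (cokernel.π (effMap U F)) x
      change eB (s ⊗ₜ[k] Hmap (cokernel.π (effMap U F)) 0 x) =
        HmapK k' ((Scheme.Modules.pullback π).map (cokernel.π (effMap U F))) 0 (eA (s ⊗ₜ[k] x))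
      rw [h1, h2, h3]
      exact ((HmapK k' ((Scheme.Modules.pullback π).map (cokernel.π (effMap U F))) 0).map_smul s
        (θ π (Eff U F) x)).symm
    · -- higher degrees: dimension shifting
      obtain ⟨e0⟩ := ih (cokernel (effMap U F))
      have hb := bijective_Hδ (effSC U F) hS (p + 1) (hG p) (hG (p + 1))
      have hb' := bijective_Hδ ((effSC U F).map (Scheme.Modules.pullback π)) hS' (p + 1)
        (hG' p) (hG' (p + 1))
      let e1 : k' ⊗[k] Coh.HH X (cokernel (effMap U F)) (p + 1) ≃ₗ[k']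
          k' ⊗[k] Coh.HH X F (p + 1 + 1) :=
        baseChangeEquivOfBijective (HδK k (effSC U F) hS (p + 1)) hb
      let e2 : Coh.HH X' ((Scheme.Modules.pullback π).obj (cokernel (effMap U F))) (p + 1) ≃ₗ[k']
          Coh.HH X' ((Scheme.Modules.pullback π).obj F) (p + 1 + 1) :=
        LinearEquiv.ofBijective (HδK k' ((effSC U F).map (Scheme.Modules.pullback π)) hS' (p + 1))
          hb'
      exact ⟨e1.symm ≪≫ₗ e0 ≪≫ₗ e2⟩

end Main

section Proper

variable (k k' : Type u) [CommRing k] [CommRing k'] [Algebra k k'] [Module.Flat k k']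
  {X X' : Scheme.{u}}
  [X.Over (Spec (CommRingCat.of k))] [X'.Over (Spec (CommRingCat.of k'))] {π : X' ⟶ X}
  (hpb : IsPullback π (X' ↘ Spec (CommRingCat.of k')) (X ↘ Spec (CommRingCat.of k))
      (Spec.map (CommRingCat.ofHom (algebraMap k k'))))

include hpb in
/-- **flat base change** for a scheme proper over a ring `k`, along a flat ring map `k → k'`. -/
theorem nonempty_equiv_of_isProper [IsProper (X ↘ Spec (CommRingCat.of k))] (p : ℕ)
    (F : X.Modules) [F.IsQuasicoherent] :
    Nonempty (k' ⊗[k] Coh.HH X F p ≃ₗ[k'] Coh.HH X' ((Scheme.Modules.pullback π).obj F) p) := by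
  haveI : CompactSpace X :=
    QuasiCompact.compactSpace_of_compactSpace (X ↘ Spec (CommRingCat.of k))
  haveI : QuasiSeparatedSpace X :=
    quasiSeparatedSpace_of_quasiSeparated (X ↘ Spec (CommRingCat.of k))
  exact nonempty_equiv k k' hpb (fun V hV => isAffineHom_ι_of_isSeparated k V hV) p F

end Proper

end Groth.Agent.Lib.Helper7.FlatBCR
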