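import Mathlib
import Groth.Prelude
import Groth.Agent.Lib.Helper7.FlatBCR
import Groth.Agent.Lib.Helper17.CohFlatDVR
import Groth.Agent.Lib.Helper4.ChiAdditive
import Groth.Agent.Lib.Helper3.PbBasic
import Groth.Agent.Lib.Helper26.DvrLenA
import Groth.Agent.Lib.Helper26.DvrLenB
import Groth.Agent.Lib.Helper4.H0Rank

/-!
# Helper library (helper7): constancy of the Euler characteristic of the structure sheaf in a
proper flat family over a discrete valuation ring (degrees `≤ 1`).
-/

set_option autoImplicit false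
set_option linter.unusedSectionVars false
set_option linter.unusedVariables false
set_option linter.style.haveILetI false
universe u
open CategoryTheory CategoryTheory.Limits AlgebraicGeometry Opposite TopologicalSpace
open Scheme.Modules TensorProduct

noncomputable section

namespace Groth.Agent.Lib.Helper7.EulerFib

open Groth.Agent.Lib.Helper3 Groth.Agent.Lib.Helper3.QCSec Groth.Agent.Lib.Helper3.InvGen
  Groth.Agent.Lib.Helper3.IdealMod
open Groth.Agent.Lib.Helper23.T2 Groth.Agent.Lib.Helper1.FFIM Formal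
open Groth.Agent.Lib.Helper17.CohFlatDVR Groth.Agent.Lib.Helper4.ChiAdditive

section General

variable (R : Type u) [CommRing R] [IsDomain R] [IsDiscreteValuationRing R]
  (X : Scheme.{u}) [X.Over (Spec (CommRingCat.of R))]
  [IsProper (X ↘ Spec (CommRingCat.of R))] [Flat (X ↘ Spec (CommRingCat.of R))]

/-- the sequence `0 → O_X →ϖ O_X → O_X/ϖ → 0`. -/
theorem shortExact_smul (ϖ : R) (hϖ : ϖ ≠ 0) :
    (ShortComplex.mk (smulMod R (Coh.structureModule X) ϖ)
      (ClSub.toSubscheme (pbIdeal R X (Ideal.span {ϖ})))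
      (smulMod_toSubscheme R X _ ϖ (Ideal.mem_span_singleton_self ϖ))).ShortExact := by
  have hreg : IsSMulRegular R ϖ := fun a b hab => mul_left_cancel₀ hϖ hab
  have hS := Groth.Agent.Lib.Helper23.EffCart.shortExact_ideal (pbIdeal R X (Ideal.span {ϖ}))
  let l := lam R X (Ideal.span {ϖ}) ϖ (Ideal.mem_span_singleton_self ϖ)
  haveI : Mono l := mono_lam R X _ ϖ _ hreg
  haveI : Epi l := epi_lam R X ϖ
  haveI : IsIso l := isIso_of_mono_of_epi l
  refine ShortComplex.shortExact_of_iso ?_ hS
  refine ShortComplex.isoMk (asIso l).symm (Iso.refl _) (Iso.refl _) ?_ ?_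
  · change inv l ≫ smulMod R (Coh.structureModule X) ϖ =
      ClSub.idealModι (pbIdeal R X (Ideal.span {ϖ})) ≫ 𝟙 _
    rw [Category.comp_id, ← lam_ι R X _ ϖ (Ideal.mem_span_singleton_self ϖ),
      IsIso.inv_hom_id_assoc]
  · change 𝟙 _ ≫ ClSub.toSubscheme (pbIdeal R X (Ideal.span {ϖ})) =
      ClSub.toSubscheme (pbIdeal R X (Ideal.span {ϖ})) ≫ 𝟙 _
    rw [Category.id_comp, Category.comp_id]

/-- the length of `H^n(X, O_X/ϖ)`. -/
theorem length_HH_quot (ϖ : R) (hϖ : ϖ ≠ 0) (n : ℕ) :
    Module.length R (Coh.HH X (ClSub.quotMod (pbIdeal R X (Ideal.span {ϖ}))) n) =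
      Module.length R (Coh.HH X (Coh.structureModule X) n ⧸
        LinearMap.range (LinearMap.lsmul R (Coh.HH X (Coh.structureModule X) n) ϖ)) +
      Module.length R (LinearMap.ker
        (LinearMap.lsmul R (Coh.HH X (Coh.structureModule X) (n + 1)) ϖ)) := by
  have hS := shortExact_smul R X ϖ hϖ
  set S := ShortComplex.mk (smulMod R (Coh.structureModule X) ϖ)
      (ClSub.toSubscheme (pbIdeal R X (Ideal.span {ϖ})))
      (smulMod_toSubscheme R X _ ϖ (Ideal.mem_span_singleton_self ϖ)) with hSdef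
  let g : Coh.HH X (Coh.structureModule X) n →ₗ[R]
      Coh.HH X (ClSub.quotMod (pbIdeal R X (Ideal.span {ϖ}))) n := toR (Hmap S.g n)
  let d : Coh.HH X (ClSub.quotMod (pbIdeal R X (Ideal.span {ϖ}))) n →ₗ[R]
      Coh.HH X (Coh.structureModule X) (n + 1) := toR (Hδ S hS n)
  have e₁ : Function.Exact (LinearMap.lsmul R (Coh.HH X (Coh.structureModule X) n) ϖ) g := by
    intro y
    constructor
    · intro h
      exact exact₂ S hS n y h
    · rintro ⟨x, rfl⟩
      exact Hmap_comp_eq_zero S.f S.g S.zero n x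
  have e₂ : Function.Exact g d := by
    intro y
    constructor
    · intro h
      exact exact₃ S hS n y h
    · rintro ⟨x, rfl⟩
      exact Hδ_Hmap_g S hS n x
  have e₃ : Function.Exact d
      (LinearMap.lsmul R (Coh.HH X (Coh.structureModule X) (n + 1)) ϖ) := by
    intro y
    constructor
    · intro h
      exact exact₁ S hS n y h
    · rintro ⟨x, rfl⟩
      exact Hmap_f_Hδ S hS n x
  exact Groth.Agent.Lib.Helper26.DvrLenA.length_mid_of_exact _ g d _ e₁ e₂ e₃

/-- **the Euler characteristic (degrees `≤ 1`) of the closed fibre, measured by `R`-lengths, is the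
difference of the generic ranks of `H⁰` and `H¹`.** -/
theorem chi_quot_eq (ϖ : R) (hϖ : Irreducible ϖ)
    (hfin : Module.length R (Coh.HH X (ClSub.quotMod (pbIdeal R X (Ideal.span {ϖ}))) 0) ≠ ⊤)
    (hQ2 : Subsingleton (Coh.HH X (ClSub.quotMod (pbIdeal R X (Ideal.span {ϖ}))) 2)) :
    ((Module.length R (Coh.HH X (ClSub.quotMod (pbIdeal R X (Ideal.span {ϖ}))) 0)).toNat : ℤ) -
      ((Module.length R (Coh.HH X (ClSub.quotMod (pbIdeal R X (Ideal.span {ϖ}))) 1)).toNat : ℤ) =
    (Module.finrank (FractionRing R)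
        (FractionRing R ⊗[R] Coh.HH X (Coh.structureModule X) 0) : ℤ) -
      (Module.finrank (FractionRing R)
        (FractionRing R ⊗[R] Coh.HH X (Coh.structureModule X) 1) : ℤ) := by
  have hϖ0 : ϖ ≠ 0 := hϖ.ne_zero
  have hcoh : Coh.IsCoh (Coh.structureModule X) :=
    Groth.Agent.Lib.Helper23.Curve.isCoh_of_isInvertible (isInvertible_structureModule X)
  haveI : ∀ n, Module.Finite R (Coh.HH X (Coh.structureModule X) n) := fun n =>
    finite_HH R (Coh.structureModule X) hcoh n
  have h0 := length_HH_quot R X ϖ hϖ0 0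
  have h1 := length_HH_quot R X ϖ hϖ0 1
  have h2 := length_HH_quot R X ϖ hϖ0 2
  have b0 := Groth.Agent.Lib.Helper26.DvrLenB.length_quot_smul_eq_add ϖ hϖ (Coh.HH X (Coh.structureModule X) 0)
  have b1 := Groth.Agent.Lib.Helper26.DvrLenB.length_quot_smul_eq_add ϖ hϖ (Coh.HH X (Coh.structureModule X) 1)
  -- `H⁰(O_X)` has no `ϖ`-torsion
  have hk0 : LinearMap.ker (LinearMap.lsmul R (Coh.HH X (Coh.structureModule X) 0) ϖ) = ⊥ := by
    haveI : Mono (smulMod R (Coh.structureModule X) ϖ) :=
      mono_smulMod R X ϖ (fun a b hab => mul_left_cancel₀ hϖ0 hab)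
    have hinj : Function.Injective (Hmap (smulMod R (Coh.structureModule X) ϖ) 0) :=
      Hmap_injective_zero _
    rw [LinearMap.ker_eq_bot]
    exact hinj
  -- `H²(O_X) = 0`
  have hM2 : Subsingleton (Coh.HH X (Coh.structureModule X) 2) := by
    apply Groth.Agent.Lib.Helper26.DvrLenA.subsingleton_of_smul_surjective ϖ
      ((IsLocalRing.mem_maximalIdeal ϖ).mpr hϖ.not_isUnit)
    intro y
    have hS := shortExact_smul R X ϖ hϖ0
    exact exact₂ _ hS 2 y (Subsingleton.elim _ _)
  have hk2 : Module.length R (LinearMap.ker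
      (LinearMap.lsmul R (Coh.HH X (Coh.structureModule X) (1 + 1)) ϖ)) = 0 := by
    haveI : Subsingleton (Coh.HH X (Coh.structureModule X) (1 + 1)) := hM2
    rw [Module.length_eq_zero_iff]
    infer_instance
  have hbot : Module.length R (⊥ : Submodule R (Coh.HH X (Coh.structureModule X) 0)) = 0 := by
    rw [Module.length_eq_zero_iff]
    infer_instance
  rw [hk0, hbot, zero_add] at b0
  have h0' : Module.length R (Coh.HH X (ClSub.quotMod (pbIdeal R X (Ideal.span {ϖ}))) 0) =
      (Module.finrank (FractionRing R)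
        (FractionRing R ⊗[R] Coh.HH X (Coh.structureModule X) 0) : ℕ∞) +
      Module.length R (LinearMap.ker
        (LinearMap.lsmul R (Coh.HH X (Coh.structureModule X) 1) ϖ)) := by
    rw [← b0]
    exact h0
  have h1' : Module.length R (Coh.HH X (ClSub.quotMod (pbIdeal R X (Ideal.span {ϖ}))) 1) =
      Module.length R (LinearMap.ker
        (LinearMap.lsmul R (Coh.HH X (Coh.structureModule X) 1) ϖ)) +
      (Module.finrank (FractionRing R)
        (FractionRing R ⊗[R] Coh.HH X (Coh.structureModule X) 1) : ℕ∞) := by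
    rw [← b1, h1, hk2, add_zero]
  generalize Module.length R (LinearMap.ker
        (LinearMap.lsmul R (Coh.HH X (Coh.structureModule X) 1) ϖ)) = t at h0' h1'
  have htfin : t ≠ ⊤ := by
    intro htop
    rw [htop] at h0'
    exact hfin (by rw [h0']; simp)
  obtain ⟨t', rfl⟩ := ENat.ne_top_iff_exists.mp htfin
  rw [h0', h1']
  have e0 : ((((Module.finrank (FractionRing R)
        (FractionRing R ⊗[R] Coh.HH X (Coh.structureModule X) 0) : ℕ) : ℕ∞) + (t' : ℕ∞)).toNat) =
      Module.finrank (FractionRing R)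
        (FractionRing R ⊗[R] Coh.HH X (Coh.structureModule X) 0) + t' := by
    rw [← Nat.cast_add, ENat.toNat_natCast]
  have e1 : (((t' : ℕ∞) + ((Module.finrank (FractionRing R)
        (FractionRing R ⊗[R] Coh.HH X (Coh.structureModule X) 1) : ℕ) : ℕ∞)).toNat) =
      t' + Module.finrank (FractionRing R)
        (FractionRing R ⊗[R] Coh.HH X (Coh.structureModule X) 1) := by
    rw [← Nat.cast_add, ENat.toNat_natCast]
  rw [e0, e1]
  push_cast
  ring

end General

section Generic

variable (R : Type u) [CommRing R] [IsDomain R] [IsDiscreteValuationRing R]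
  (X : Scheme.{u}) [X.Over (Spec (CommRingCat.of R))]
  [IsProper (X ↘ Spec (CommRingCat.of R))] [Flat (X ↘ Spec (CommRingCat.of R))]
  {C : Scheme.{u}} (f : C ⟶ Spec (CommRingCat.of (FractionRing R))) (g : C ⟶ X)
  (hsq : IsPullback g f (X ↘ Spec (CommRingCat.of R))
    (Spec.map (CommRingCat.ofHom (algebraMap R (FractionRing R)))))

include hsq in
/-- flat base change to the generic fibre for the structure sheaf. -/
theorem finrank_tensor_eq (p : ℕ) :
    letI : C.Over (Spec (CommRingCat.of (FractionRing R))) := ⟨f⟩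
    Module.finrank (FractionRing R) (FractionRing R ⊗[R] Coh.HH X (Coh.structureModule X) p) =
      Module.finrank (FractionRing R) (Coh.HH C (Coh.structureModule C) p) := by
  letI : C.Over (Spec (CommRingCat.of (FractionRing R))) := ⟨f⟩
  haveI : (Coh.structureModule X).IsQuasicoherent :=
    Groth.Agent.Lib.Helper3.QCOpen.isQuasicoherent_structureModule X
  obtain ⟨e⟩ := Groth.Agent.Lib.Helper7.FlatBCR.nonempty_equiv_of_isProper R (FractionRing R)
    (X := X) (X' := C) (π := g) hsq p (Coh.structureModule X)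
  rw [e.finrank_eq]
  exact (Groth.Agent.Lib.Helper23.FBC.HmapEquivK (FractionRing R)
    (Groth.Agent.Lib.Helper3.PbBasic.pbUnit g) p).finrank_eq

include hsq in
/-- **`χ(O_{X_k}) = 1 - g_C`** for a proper flat `X/R` with generic fibre `C`, `H⁰(C, O_C) = K`,
given that `H⁰(O_{X_k})` has finite length and `H²(O_{X_k}) = 0`. -/
theorem chi_specialFibre (hH0 : IsIso f.appTop) (ϖ : R) (hϖ : Irreducible ϖ)
    (hfin : Module.length R (Coh.HH X (ClSub.quotMod (pbIdeal R X (Ideal.span {ϖ}))) 0) ≠ ⊤)
    (hQ2 : Subsingleton (Coh.HH X (ClSub.quotMod (pbIdeal R X (Ideal.span {ϖ}))) 2)) :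
    ((Module.length R (Coh.HH X (ClSub.quotMod (pbIdeal R X (Ideal.span {ϖ}))) 0)).toNat : ℤ) -
      ((Module.length R (Coh.HH X (ClSub.quotMod (pbIdeal R X (Ideal.span {ϖ}))) 1)).toNat : ℤ) =
    1 - (Models.curveGenus (FractionRing R) C f : ℤ) := by
  rw [chi_quot_eq R X ϖ hϖ hfin hQ2, finrank_tensor_eq R X f g hsq 0,
    finrank_tensor_eq R X f g hsq 1]
  have h0 := Groth.Agent.Lib.Helper4.H0Rank.finrank_H0_eq_one (FractionRing R) C f hH0
  unfold Models.curveGenus Models.hRank
  rw [h0]
  rfl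

end Generic

end Groth.Agent.Lib.Helper7.EulerFib
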