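import Mathlib
import Groth.Prelude.Def_ega3
import Groth.Agent.Lib.Helper7.TorNat7
set_option autoImplicit false
universe u
open CategoryTheory CategoryTheory.Limits MonoidalCategory TensorProduct

namespace Groth.Agent.Lib.Helper7

variable {R : Type u} [CommRing R]

/-- If `Tor_1(α, N) = 0` then the kernel of `N ⊗ K → N ⊗ F` dies in `N ⊗ K'`. -/
theorem lTensor_eq_zero_of_Tor1_map_zero (N : Type u) [AddCommGroup N] [Module R N]
    {K F M K' F' M' : Type u} [AddCommGroup K] [Module R K] [AddCommGroup F] [Module R F]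
    [AddCommGroup M] [Module R M] [AddCommGroup K'] [Module R K'] [AddCommGroup F'] [Module R F']
    [AddCommGroup M'] [Module R M']
    (ι : K →ₗ[R] F) (π : F →ₗ[R] M) (hι : Function.Injective ι) (hex : Function.Exact ι π)
    (hπ : Function.Surjective π)
    (ι' : K' →ₗ[R] F') (π' : F' →ₗ[R] M') (hι' : Function.Injective ι')
    (hex' : Function.Exact ι' π') (hπ' : Function.Surjective π')
    (γ : K →ₗ[R] K') (β : F →ₗ[R] F') (α : M →ₗ[R] M')
    (c1 : ι' ∘ₗ γ = β ∘ₗ ι) (c2 : π' ∘ₗ β = α ∘ₗ π)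
    (h : ((Tor (ModuleCat.{u} R) 1).map (ModuleCat.ofHom α)).app (ModuleCat.of R N) = 0)
    (z : N ⊗[R] K) (hz : LinearMap.lTensor N ι z = 0) : LinearMap.lTensor N γ z = 0 := by
  let S : ShortComplex (ModuleCat.{u} R) := ModuleCat.shortComplexOfCompEqZero ι π
    (LinearMap.ext fun x => hex.apply_apply_eq_zero x)
  let S' : ShortComplex (ModuleCat.{u} R) := ModuleCat.shortComplexOfCompEqZero ι' π'
    (LinearMap.ext fun x => hex'.apply_apply_eq_zero x)
  have hS : S.ShortExact := ModuleCat.shortComplex_shortExact S hex hι hπ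
  have hS' : S'.ShortExact := ModuleCat.shortComplex_shortExact S' hex' hι' hπ'
  let ψ : S ⟶ S' :=
    { τ₁ := ModuleCat.ofHom γ
      τ₂ := ModuleCat.ofHom β
      τ₃ := ModuleCat.ofHom α
      comm₁₂ := by
        show ModuleCat.ofHom γ ≫ ModuleCat.ofHom ι' = ModuleCat.ofHom ι ≫ ModuleCat.ofHom β
        rw [← ModuleCat.ofHom_comp, ← ModuleCat.ofHom_comp, c1]
      comm₂₃ := by
        show ModuleCat.ofHom β ≫ ModuleCat.ofHom π' = ModuleCat.ofHom π ≫ ModuleCat.ofHom α
        rw [← ModuleCat.ofHom_comp, ← ModuleCat.ofHom_comp, c2] }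
  -- flip the hypothesis
  have hflip : ((Tor (ModuleCat.{u} R) 1).obj (ModuleCat.of R N)).map (ModuleCat.ofHom α) = 0 := by
    have h1 := torFlipIso_natural_left 1 (ModuleCat.ofHom α) (ModuleCat.of R N)
    rw [h, zero_comp] at h1
    rw [← cancel_epi (torFlipIso 1 (ModuleCat.of R M) (ModuleCat.of R N)).hom, ← h1, comp_zero]
  have hnat := torδ_naturality (ModuleCat.of R N) hS hS' ψ 0
  have hnat' : torδ (ModuleCat.of R N) S hS 0 ≫
      ((Tor (ModuleCat.{u} R) 0).obj (ModuleCat.of R N)).map (ModuleCat.ofHom γ) = 0 := by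
    have h2 : ((Tor (ModuleCat.{u} R) 1).obj (ModuleCat.of R N)).map ψ.τ₃ = 0 := hflip
    rw [h2, zero_comp] at hnat
    exact hnat
  obtain ⟨w₁, e₁⟩ := torδ_exact₁ (ModuleCat.of R N) S hS 0
  have hfe := (ShortComplex.ShortExact.moduleCat_exact_iff_function_exact _).mp e₁
  -- the element
  let t := (tor0Equiv (ModuleCat.of R N) S.X₁).symm z
  have ht : (((Tor (ModuleCat.{u} R) 0).obj (ModuleCat.of R N)).map S.f).hom t = 0 := by
    apply (tor0Equiv (ModuleCat.of R N) S.X₂).injective
    rw [tor0Equiv_naturality, map_zero]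
    show LinearMap.lTensor N ι ((tor0Equiv (ModuleCat.of R N) S.X₁)
      ((tor0Equiv (ModuleCat.of R N) S.X₁).symm z)) = 0
    rw [LinearEquiv.apply_symm_apply]
    exact hz
  obtain ⟨w, hw⟩ := (hfe t).mp ht
  have h3 : (((Tor (ModuleCat.{u} R) 0).obj (ModuleCat.of R N)).map (ModuleCat.ofHom γ)).hom t = 0 := by
    rw [← hw]
    exact congrArg (fun F => F.hom w) hnat'
  have h4 := tor0Equiv_naturality (ModuleCat.of R N) (ModuleCat.ofHom γ : S.X₁ ⟶ S'.X₁) t
  rw [h3, map_zero] at h4
  have h5 : LinearMap.lTensor N γ ((tor0Equiv (ModuleCat.of R N) S.X₁) t) = 0 := h4.symm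
  have h6 : (tor0Equiv (ModuleCat.of R N) S.X₁) t = z := LinearEquiv.apply_symm_apply _ z
  rw [h6] at h5
  exact h5

/-- S1740: a map from a finitely presented module inducing zero on `Tor_1(-, N)` for all `N`
factors through a free module. -/
theorem factors_through_free (M M' : Type u) [AddCommGroup M] [Module R M]
    [Module.FinitePresentation R M] [AddCommGroup M'] [Module R M'] (α : M →ₗ[R] M')
    (h : ∀ (N : Type u) [AddCommGroup N] [Module R N],
      ((Tor (ModuleCat.{u} R) 1).map (ModuleCat.ofHom α)).app (ModuleCat.of R N) = 0) :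
    ∃ (ι : Type u) (g : M →ₗ[R] (ι →₀ R)) (h : (ι →₀ R) →ₗ[R] M'), α = h ∘ₗ g := by
  classical
  obtain ⟨r, π, hπ⟩ := Module.Finite.exists_fin' R M
  have hKfg : (LinearMap.ker π).FG := Module.FinitePresentation.fg_ker π hπ
  obtain ⟨s, k, hk⟩ := Submodule.fg_iff_exists_fin_generating_family.mp hKfg
  have hkmem : ∀ j, k j ∈ LinearMap.ker π := fun j => hk ▸ Submodule.subset_span ⟨j, rfl⟩
  -- free cover of M'
  let π' : (M' →₀ R) →ₗ[R] M' := Finsupp.linearCombination R id
  have hπ' : Function.Surjective π' := Finsupp.linearCombination_id_surjective R M'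
  -- the lift β
  let β : (Fin r → R) →ₗ[R] (M' →₀ R) :=
    Fintype.linearCombination R (fun i => Finsupp.single (α (π (Pi.single i 1))) (1 : R))
  have hβsingle : ∀ i, β (Pi.single i 1) = Finsupp.single (α (π (Pi.single i 1))) (1 : R) := by
    intro i
    show Fintype.linearCombination R _ (Pi.single i 1) = _
    rw [Fintype.linearCombination_apply_single, one_smul]
  have hβ : π' ∘ₗ β = α ∘ₗ π := by
    refine LinearMap.pi_ext' fun i => LinearMap.ext_ring ?_
    show π' (β (Pi.single i 1)) = α (π (Pi.single i 1))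
    rw [hβsingle i]
    show Finsupp.linearCombination R id (Finsupp.single (α (π (Pi.single i 1))) (1 : R)) = _
    rw [Finsupp.linearCombination_single, one_smul]
    rfl
  have hβK : ∀ x ∈ LinearMap.ker π, β x ∈ LinearMap.ker π' := by
    intro x hx
    rw [LinearMap.mem_ker] at hx ⊢
    have := LinearMap.congr_fun hβ x
    rw [LinearMap.comp_apply, LinearMap.comp_apply, hx, map_zero] at this
    exact this
  let γ : LinearMap.ker π →ₗ[R] LinearMap.ker π' := β.restrict hβK
  have hγ : ∀ x : LinearMap.ker π, ((γ x : LinearMap.ker π') : M' →₀ R) = β x := fun x => rfl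
  -- the test module
  let row : Fin r → (Fin s → R) := fun i j => k j i
  let ρ : (Fin r → R) →ₗ[R] (Fin s → R) := Fintype.linearCombination R row
  let q := (LinearMap.range ρ).mkQ
  have hq : ∀ i, q (row i) = 0 := by
    intro i
    refine (Submodule.Quotient.mk_eq_zero _).mpr ⟨Pi.single i 1, ?_⟩
    show Fintype.linearCombination R row (Pi.single i 1) = row i
    rw [Fintype.linearCombination_apply_single, one_smul]
  let z : ((Fin s → R) ⧸ LinearMap.range ρ) ⊗[R] LinearMap.ker π :=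
    ∑ j, q (Pi.single j 1) ⊗ₜ[R] (⟨k j, hkmem j⟩ : LinearMap.ker π)
  have hz : LinearMap.lTensor ((Fin s → R) ⧸ LinearMap.range ρ) (LinearMap.ker π).subtype z = 0 := by
    have h1 : LinearMap.lTensor ((Fin s → R) ⧸ LinearMap.range ρ) (LinearMap.ker π).subtype z =
        ∑ j, q (Pi.single j 1) ⊗ₜ[R] (k j) := by
      show LinearMap.lTensor _ _ (∑ j, q (Pi.single j 1) ⊗ₜ[R]
        (⟨k j, hkmem j⟩ : LinearMap.ker π)) = _
      rw [map_sum]
      rfl
    have h2 : ∀ j, q (Pi.single j 1) ⊗ₜ[R] (k j) =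
        ∑ i, (k j i • q (Pi.single j 1)) ⊗ₜ[R] (Pi.single i (1 : R) : Fin r → R) := by
      intro j
      conv_lhs => rw [pi_eq_sum_univ' (k j)]
      rw [TensorProduct.tmul_sum]
      refine Finset.sum_congr rfl fun i _ => ?_
      rw [TensorProduct.tmul_smul, TensorProduct.smul_tmul']
    rw [h1, Finset.sum_congr rfl (fun j _ => h2 j), Finset.sum_comm]
    refine Finset.sum_eq_zero fun i _ => ?_
    rw [← TensorProduct.sum_tmul]
    have h3 : ∑ j, k j i • q (Pi.single j 1) = q (row i) := by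
      rw [pi_eq_sum_univ' (row i), map_sum]
      refine Finset.sum_congr rfl fun j _ => ?_
      rw [map_smul]
    rw [h3, hq i, TensorProduct.zero_tmul]
  -- apply the Tor hypothesis
  have c1 : (LinearMap.ker π').subtype ∘ₗ γ = β ∘ₗ (LinearMap.ker π).subtype :=
    LinearMap.ext fun x => rfl
  have hγz := lTensor_eq_zero_of_Tor1_map_zero (K := LinearMap.ker π) (F := Fin r → R) (M := M)
    (K' := LinearMap.ker π') (F' := M' →₀ R) (M' := M') ((Fin s → R) ⧸ LinearMap.range ρ)
    (LinearMap.ker π).subtype π (Submodule.subtype_injective _) (LinearMap.exact_subtype_ker_map π)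
    hπ (LinearMap.ker π').subtype π' (Submodule.subtype_injective _)
    (LinearMap.exact_subtype_ker_map π') hπ' γ β α c1 hβ
    (h ((Fin s → R) ⧸ LinearMap.range ρ)) z hz
  -- lift to `(Fin s → R) ⊗ K'`
  let y : (Fin s → R) ⊗[R] LinearMap.ker π' :=
    ∑ j, (Pi.single j (1 : R) : Fin s → R) ⊗ₜ[R] γ ⟨k j, hkmem j⟩
  have hy : LinearMap.rTensor (LinearMap.ker π') q y = 0 := by
    have h1 : LinearMap.rTensor (LinearMap.ker π') q y =
        LinearMap.lTensor ((Fin s → R) ⧸ LinearMap.range ρ) γ z := by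
      show LinearMap.rTensor _ q (∑ j, (Pi.single j (1 : R) : Fin s → R) ⊗ₜ[R] γ ⟨k j, hkmem j⟩) =
        LinearMap.lTensor _ γ (∑ j, q (Pi.single j 1) ⊗ₜ[R] (⟨k j, hkmem j⟩ : LinearMap.ker π))
      rw [map_sum, map_sum]
      rfl
    rw [h1, hγz]
  have hexq : Function.Exact (LinearMap.rTensor (LinearMap.ker π') ρ)
      (LinearMap.rTensor (LinearMap.ker π') q) :=
    rTensor_exact (LinearMap.ker π') (LinearMap.exact_map_mkQ_range ρ)
      (Submodule.mkQ_surjective _)
  obtain ⟨u, hu⟩ := (hexq y).mp hy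
  -- coordinates
  let c : Fin s → ((Fin s → R) ⊗[R] LinearMap.ker π' →ₗ[R] LinearMap.ker π') := fun j =>
    (TensorProduct.lid R (LinearMap.ker π')).toLinearMap ∘ₗ
      LinearMap.rTensor (LinearMap.ker π') (LinearMap.proj j)
  let d : Fin r → ((Fin r → R) ⊗[R] LinearMap.ker π' →ₗ[R] LinearMap.ker π') := fun i =>
    (TensorProduct.lid R (LinearMap.ker π')).toLinearMap ∘ₗ
      LinearMap.rTensor (LinearMap.ker π') (LinearMap.proj i)
  have hc : ∀ j, c j y = γ ⟨k j, hkmem j⟩ := by
    intro j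
    show c j (∑ j', (Pi.single j' (1 : R) : Fin s → R) ⊗ₜ[R] γ ⟨k j', hkmem j'⟩) = _
    rw [map_sum, Finset.sum_eq_single j]
    · show ((Pi.single j (1 : R) : Fin s → R) j) • γ ⟨k j, hkmem j⟩ = _
      rw [Pi.single_eq_same, one_smul]
    · intro j' _ hne
      show ((Pi.single j' (1 : R) : Fin s → R) j) • γ ⟨k j', hkmem j'⟩ = 0
      rw [Pi.single_eq_of_ne hne.symm, zero_smul]
    · intro hj
      exact absurd (Finset.mem_univ j) hj
  have hd : ∀ j, c j ∘ₗ LinearMap.rTensor (LinearMap.ker π') ρ = ∑ i, k j i • d i := by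
    intro j
    apply TensorProduct.ext'
    intro f x
    show (ρ f) j • x = (∑ i, k j i • d i) (f ⊗ₜ[R] x)
    rw [LinearMap.sum_apply]
    have h1 : (ρ f) j = ∑ i, f i * k j i := by
      show (Fintype.linearCombination R row f) j = _
      rw [Fintype.linearCombination_apply, Finset.sum_apply]
      rfl
    rw [h1, Finset.sum_smul]
    refine Finset.sum_congr rfl fun i _ => ?_
    show (f i * k j i) • x = k j i • (f i • x)
    rw [mul_comm, mul_smul]
  let x : Fin r → LinearMap.ker π' := fun i => d i u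
  have hx : ∀ j, γ ⟨k j, hkmem j⟩ = ∑ i, k j i • x i := by
    intro j
    rw [← hc j, ← hu, ← LinearMap.comp_apply, hd j, LinearMap.sum_apply]
    rfl
  -- the correction map
  let ε : (Fin r → R) →ₗ[R] LinearMap.ker π' := Fintype.linearCombination R x
  let β' : (Fin r → R) →ₗ[R] (M' →₀ R) := β - (LinearMap.ker π').subtype ∘ₗ ε
  have hβ'K : LinearMap.ker π ≤ LinearMap.ker β' := by
    rw [← hk, Submodule.span_le]
    rintro _ ⟨j, rfl⟩
    show β' (k j) = 0
    show β (k j) - ((ε (k j) : LinearMap.ker π') : M' →₀ R) = 0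
    have h1 : ε (k j) = γ ⟨k j, hkmem j⟩ := by
      rw [hx j]
      exact Fintype.linearCombination_apply R x (k j)
    rw [h1, hγ, sub_self]
  let g : M →ₗ[R] (M' →₀ R) := (LinearMap.ker π).liftQ β' hβ'K ∘ₗ
    (π.quotKerEquivOfSurjective hπ).symm.toLinearMap
  have hg : ∀ cF, g (π cF) = β' cF := by
    intro cF
    have h1 : (π.quotKerEquivOfSurjective hπ).symm (π cF) = Submodule.Quotient.mk cF := by
      rw [LinearEquiv.symm_apply_eq]
      exact (LinearMap.quotKerEquivOfSurjective_apply_mk π hπ cF).symm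
    show (LinearMap.ker π).liftQ β' hβ'K ((π.quotKerEquivOfSurjective hπ).symm (π cF)) = _
    rw [h1]
    exact Submodule.liftQ_apply _ _ _
  refine ⟨M', g, π', ?_⟩
  apply (LinearMap.cancel_right hπ).mp
  apply LinearMap.ext
  intro cF
  show α (π cF) = π' (g (π cF))
  rw [hg cF]
  show α (π cF) = π' (β cF - ((ε cF : LinearMap.ker π') : M' →₀ R))
  have h1 : π' ((ε cF : LinearMap.ker π') : M' →₀ R) = 0 := (ε cF).2
  have h2 : π' (β cF) = α (π cF) := LinearMap.congr_fun hβ cF
  rw [map_sub, h1, sub_zero, h2]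

end Groth.Agent.Lib.Helper7
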