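import Mathlib
import Groth.Agent.Lib.Helper7.AvoidGen
import Groth.Agent.Lib.Helper7.RankTwoC
import Groth.Agent.Lib.Helper3.InvRestrict
import Groth.Agent.Lib.Helper11.XQ3

/-!
# Finite sets of points of a scheme with an ample invertible module lie in an affine open

* `exists_affine_of_finite_of_isQuasiAffine`: quasi-affine case (prime avoidance).
* `exists_affine_of_finite`: `L` ample on `X`, `E` a finite set of points: some affine open
  contains `E`.
-/

set_option autoImplicit false
set_option linter.unusedSectionVars false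
set_option linter.style.haveILetI false
universe u
open CategoryTheory CategoryTheory.Limits AlgebraicGeometry TopologicalSpace Opposite
open Scheme.Modules

noncomputable section

namespace Groth.Agent.Lib.Helper7.FinAffine

open Groth.Agent.Lib.Helper3
open QCSec InvGen InvTensor InvTwist InvMonoidal InvAmple InvCoh InvRestrict

/-- a finite set of points of a quasi-affine scheme lies in an affine open -/
theorem exists_affine_of_finite_of_isQuasiAffine (Y : Scheme.{u}) [Y.IsQuasiAffine]
    (E : Set Y) (hE : E.Finite) : ∃ U : Y.Opens, IsAffineOpen U ∧ E ⊆ U := by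
  let j := Y.toSpecΓ
  obtain ⟨f, hfO, hsf⟩ := Groth.Agent.Lib.Helper11.XQ3.exists_basicOpen_of_finite
    (X := Spec Γ(Y, ⊤)) (U := ⊤) (isAffineOpen_top _) j.opensRange (j '' E) (hE.image _)
    (fun _ _ => trivial) (by rintro _ ⟨e, -, rfl⟩; exact ⟨e, rfl⟩)
  refine ⟨j ⁻¹ᵁ (Spec Γ(Y, ⊤)).basicOpen f, ?_, ?_⟩
  · rw [← j.isAffineOpen_iff_of_isOpenImmersion, Scheme.Hom.image_preimage_eq_opensRange_inf,
      inf_eq_right.mpr hfO]
    exact (isAffineOpen_top _).basicOpen f
  · intro e he
    exact hsf ⟨e, he, rfl⟩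

/-- **Finite sets lie in affine opens.** On a scheme with an ample invertible module every finite
set of points is contained in an affine open. -/
theorem exists_affine_of_finite {X : Scheme.{u}} {L : X.Modules} (hA : CohB1.IsAmple L)
    (E : Set X) (hE : E.Finite) : ∃ U : X.Opens, IsAffineOpen U ∧ E ⊆ U := by
  classical
  haveI : CompactSpace X := hA.2.1
  haveI : X.IsSeparated := isSeparated_of_secLocus_cover hA.1 (exists_secLocus_of_isAmple hA)
  haveI : Finite E := hE.to_subtype
  obtain ⟨N₀, hN₀⟩ := AvoidGen.exists_section_gen_at_points hA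
    (isInvertible_structureModule X) (fun e : E => e.1)
  obtain ⟨s, hs⟩ := hN₀ (N₀ + 1) (Nat.le_succ _)
  let s' : Coh.structureModule X ⟶ CohB1.tensorPow L (N₀ + 1) := s ≫ (unitorL _).hom
  have hs' : ∀ e : E, e.1 ∈ CohB1.genLocus _ s' := by
    intro e
    rw [genLocus_comp_iso]
    exact hs e
  obtain ⟨Y, hY⟩ : ∃ Y : X.Opens, Y = CohB1.genLocus _ s' := ⟨_, rfl⟩
  haveI : IsAffineHom Y.ι := by
    rw [hY]
    exact isAffineHom_genLocus_ι (isInvertible_tensorPow hA.1 _) s'
  haveI : CompactSpace (Y : Scheme.{u}) := QuasiCompact.compactSpace_of_compactSpace Y.ι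
  have hAY : CohB1.IsAmple (L.restrict Y.ι) := isAmple_restrict Y.ι hA
  let σ := restrictSec Y.ι s'
  haveI hσ : IsIso σ := Groth.Agent.Lib.Helper7.RankTwo.isIso_of_forall_mem_genLocus σ (by
    intro y
    rw [genLocus_restrictSec, ← hY]
    exact y.2)
  have hApow : CohB1.IsAmple (CohB1.tensorPow (L.restrict Y.ι) (N₀ + 1)) :=
    (isAmple_pow_iff hAY.1 (Nat.succ_pos _)).mp hAY
  have hAO : CohB1.IsAmple (Coh.structureModule (Y : Scheme.{u})) :=
    isAmple_of_iso ((restrictPowIso Y.ι L (N₀ + 1)) ≪≫ (asIso σ).symm) hApow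
  haveI : (Y : Scheme.{u}).IsQuasiAffine := isQuasiAffine_iff_isAmple_unit.mpr hAO
  obtain ⟨U, hU, hEU⟩ := exists_affine_of_finite_of_isQuasiAffine (Y : Scheme.{u})
    (Y.ι ⁻¹' E) (hE.preimage (Y.ι.isOpenEmbedding.injective.injOn))
  refine ⟨Y.ι ''ᵁ U, hU.image_of_isOpenImmersion Y.ι, ?_⟩
  intro e he
  have heY : e ∈ Y := by rw [hY]; exact hs' ⟨e, he⟩
  exact ⟨⟨e, heY⟩, hEU (show Y.ι ⟨e, heY⟩ ∈ E from he), rfl⟩

end Groth.Agent.Lib.Helper7.FinAffine
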