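import Mathlib.AlgebraicGeometry.Morphisms.QuasiCompact
import Mathlib.AlgebraicGeometry.Morphisms.Immersion
import Mathlib.AlgebraicGeometry.Noetherian
import Mathlib.Topology.NoetherianSpace

/-! Helper7: finiteness-condition lemmas (locally Noetherian spaces, quasi-compactness). -/

universe u

namespace Groth.Agent.Lib.Helper7

open TopologicalSpace AlgebraicGeometry CategoryTheory

/-- In a space in which every point has a Noetherian open neighbourhood, every subset of a
compact set is compact. -/
theorem isCompact_of_subset_of_locallyNoetherianSpace {α : Type*} [TopologicalSpace α]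
    (h : ∀ x : α, ∃ U : Opens α, x ∈ U ∧ NoetherianSpace U) {K t : Set α}
    (hK : IsCompact K) (ht : t ⊆ K) : IsCompact t := by
  choose U hxU hU using h
  obtain ⟨s, -, hs⟩ := hK.elim_nhds_subcover (fun x => (U x : Set α))
    (fun x _ => (U x).2.mem_nhds (hxU x))
  have hN : ∀ i : s, NoetherianSpace ((fun i : s => (U i.1 : Set α)) i) := fun i => hU i.1
  have := NoetherianSpace.iUnion (fun i : s => (U i.1 : Set α))
  rw [noetherianSpace_set_iff] at this
  refine this t (ht.trans (hs.trans ?_))
  intro x hx
  simp only [Set.mem_iUnion] at hx ⊢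
  obtain ⟨i, hi, hx⟩ := hx
  exact ⟨⟨i, hi⟩, hx⟩

/-- `f ≫ g` quasi-compact with locally Noetherian source space implies `f` quasi-compact. -/
theorem quasiCompact_of_comp_of_locallyNoetherianSpace
    {X Y Z : Scheme.{u}} (f : X ⟶ Y) (g : Y ⟶ Z) [QuasiCompact (f ≫ g)]
    (hX : ∀ x : X, ∃ U : X.Opens, x ∈ U ∧ NoetherianSpace U) :
    QuasiCompact f := by
  constructor
  intro V hV hVc
  have hK : IsCompact (g '' V) := hVc.image g.continuous
  obtain ⟨W, hWc, hWo, hKW, -⟩ :=
    PrespectralSpace.exists_isCompact_and_isOpen_between hK isOpen_univ (Set.subset_univ _)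
  have hT : IsCompact ((f ≫ g) ⁻¹' W) := QuasiCompact.isCompact_preimage W hWo hWc
  refine isCompact_of_subset_of_locallyNoetherianSpace hX hT ?_
  intro x hx
  exact hKW ⟨f x, hx, by simp⟩

/-- A locally Noetherian scheme has a locally Noetherian underlying space. -/
theorem exists_noetherianSpace_nhds_of_isLocallyNoetherian (X : Scheme.{u}) [IsLocallyNoetherian X]
    (x : X) : ∃ U : X.Opens, x ∈ U ∧ NoetherianSpace U := by
  obtain ⟨_, ⟨U, hU, rfl⟩, hxU, -⟩ :=
    X.isBasis_affineOpens.exists_subset_of_mem_open (Set.mem_univ x) isOpen_univ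
  have : IsNoetherianRing Γ(X, U) := IsLocallyNoetherian.component_noetherian ⟨U, hU⟩
  exact ⟨U, hxU, noetherianSpace_of_isAffineOpen U hU⟩

end Groth.Agent.Lib.Helper7
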