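import Mathlib
import Groth.Agent.Lib.Helper26.NilNak
set_option autoImplicit false
universe u
namespace Groth.Agent.Lib.Helper7

theorem bijective_of_flat_complete {A : Type u} [CommRing A] (J : Ideal A)
    {M N : Type u} [AddCommGroup M] [Module A M] [AddCommGroup N] [Module A N]
    [IsHausdorff J M] [IsAdicComplete J N] [Module.Flat A M] (u : N →ₗ[A] M)
    (hsurj : ∀ m : M, ∃ n : N, m - u n ∈ (J • ⊤ : Submodule A M))
    (hinj : ∀ n : N, u n ∈ (J • ⊤ : Submodule A M) → n ∈ (J • ⊤ : Submodule A N)) :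
    Function.Bijective u := by
  have hs : Function.Surjective u := by
    apply surjective_of_mkQ_comp_surjective (I := J)
    intro y
    obtain ⟨m, rfl⟩ := Submodule.mkQ_surjective _ y
    obtain ⟨n, hn⟩ := hsurj m
    refine ⟨n, ?_⟩
    rw [LinearMap.comp_apply, eq_comm, ← sub_eq_zero, ← map_sub, Submodule.mkQ_apply,
      Submodule.Quotient.mk_eq_zero]
    exact hn
  refine ⟨?_, hs⟩
  have hker : LinearMap.ker u ≤ J • (⊤ : Submodule A N) := fun x hx =>
    hinj x (by rw [LinearMap.mem_ker.mp hx]; exact zero_mem _)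
  have h1 : LinearMap.ker u ≤ J • LinearMap.ker u :=
    fun x hx => Groth.Agent.Lib.Helper26.NilNak.ker_inf_smul_top_le J u hs ⟨hx, hker hx⟩
  have key : ∀ n : ℕ, LinearMap.ker u ≤ J ^ n • LinearMap.ker u := by
    intro n
    induction n with
    | zero => simp
    | succ n ih =>
      calc LinearMap.ker u ≤ J • LinearMap.ker u := h1
        _ ≤ J • (J ^ n • LinearMap.ker u) := Submodule.smul_mono le_rfl ih
        _ = J ^ (n + 1) • LinearMap.ker u := by rw [← Submodule.mul_smul, ← pow_succ']
  rw [← LinearMap.ker_eq_bot, eq_bot_iff]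
  intro x hx
  rw [Submodule.mem_bot]
  apply IsHausdorff.haus' (I := J)
  intro n
  rw [SModEq.zero]
  exact Submodule.smul_mono le_rfl le_top (key n hx)

end Groth.Agent.Lib.Helper7
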