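import Mathlib
import Groth.Agent.Lib.Helper7.FlatFS

set_option autoImplicit false

universe u
open IsLocalRing

namespace Groth.Agent.Lib.Helper7.FlatFS

/-- Discrete one-step version: a square-zero `A`-algebra extension `E → B` of a flat `A`-algebra
`B`, whose kernel is killed by an ideal `𝔪` with `A/𝔪` a quotient of `k`, splits when `B/𝔪B` is
formally smooth over `k`. -/
theorem exists_section_of_formallySmooth_fibre {k A B E : Type u} [CommRing k] [CommRing A]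
    [CommRing B] [CommRing E] [Algebra k A] [Algebra A B] [Algebra k B] [IsScalarTower k A B]
    [Algebra A E] [Module.Flat A B]
    (𝔪 : Ideal A) (hres : ∀ a : A, ∃ c : k, a - algebraMap k A c ∈ 𝔪)
    (hsm : Algebra.FormallySmooth k (B ⧸ 𝔪.map (algebraMap A B)))
    (p₁ : E →ₐ[A] B) (hp₁ : Function.Surjective p₁)
    (hsq : ∀ x ∈ RingHom.ker p₁, ∀ y ∈ RingHom.ker p₁, x * y = 0)
    (hkill : ∀ a ∈ 𝔪, ∀ i ∈ RingHom.ker p₁, algebraMap A E a * i = 0) :
    ∃ s : B →ₐ[A] E, p₁.comp s = AlgHom.id A B := by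
  letI : Algebra k E := ((algebraMap A E).comp (algebraMap k A)).toAlgebra
  haveI : IsScalarTower k A E := IsScalarTower.of_algebraMap_eq (fun _ => rfl)
  obtain ⟨K, hKdef⟩ : ∃ K : Ideal E, K = 𝔪.map (algebraMap A E) := ⟨_, rfl⟩
  have hK : RingHom.ker p₁ ⊓ K = ⊥ := by
    rw [hKdef]; exact ker_inf_map_eq_bot p₁ hp₁ 𝔪 hkill
  have hKmap : K.map p₁ = 𝔪.map (algebraMap A B) := by
    rw [hKdef]
    show Ideal.map (p₁ : E →+* B) (Ideal.map (algebraMap A E) 𝔪) = _
    rw [Ideal.map_map]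
    congr 1
    ext a
    exact p₁.commutes a
  have hKle : K ≤ (𝔪.map (algebraMap A B)).comap (p₁.restrictScalars k) := by
    intro x hx
    rw [Ideal.mem_comap, ← hKmap]
    exact Ideal.mem_map_of_mem p₁ hx
  obtain ⟨q, hq⟩ : ∃ q : E ⧸ K →ₐ[k] B ⧸ 𝔪.map (algebraMap A B),
      ∀ e, q (Ideal.Quotient.mk K e) = Ideal.Quotient.mk _ (p₁ e) :=
    ⟨Ideal.quotientMapₐ (𝔪.map (algebraMap A B)) (p₁.restrictScalars k) hKle, fun _ => rfl⟩
  have hqs : Function.Surjective q := by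
    intro y
    obtain ⟨b, rfl⟩ := Ideal.Quotient.mk_surjective y
    obtain ⟨e, rfl⟩ := hp₁ b
    exact ⟨Ideal.Quotient.mk K e, hq e⟩
  -- kernel of q comes from the kernel of p₁
  have hqker : ∀ x : E ⧸ K, q x = 0 → ∃ i ∈ RingHom.ker p₁, Ideal.Quotient.mk K i = x := by
    intro x hx
    obtain ⟨e', rfl⟩ := Ideal.Quotient.mk_surjective x
    rw [hq, Ideal.Quotient.eq_zero_iff_mem, ← hKmap] at hx
    obtain ⟨y, hy, hye⟩ := (Ideal.mem_map_iff_of_surjective p₁ hp₁).mp hx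
    refine ⟨e' - y, ?_, ?_⟩
    · rw [RingHom.mem_ker, map_sub, hye, sub_self]
    · rw [map_sub, Ideal.Quotient.eq_zero_iff_mem.mpr hy, sub_zero]
  have hqnil : IsNilpotent (RingHom.ker (q : E ⧸ K →+* B ⧸ 𝔪.map (algebraMap A B))) := by
    refine ⟨2, ?_⟩
    rw [Ideal.zero_eq_bot, eq_bot_iff, sq, Ideal.mul_le]
    intro x hx y hy
    obtain ⟨i, hi, rfl⟩ := hqker x (RingHom.mem_ker.mp hx)
    obtain ⟨j, hj, rfl⟩ := hqker y (RingHom.mem_ker.mp hy)
    rw [← map_mul, hsq i hi j hj, map_zero]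
    exact Submodule.zero_mem _
  haveI := hsm
  obtain ⟨s₀, hs₀⟩ : ∃ s₀ : (B ⧸ 𝔪.map (algebraMap A B)) →ₐ[k] E ⧸ K, ∀ x, q (s₀ x) = x :=
    ⟨Algebra.FormallySmooth.liftOfSurjective (AlgHom.id k _) q hqs hqnil,
      fun x => Algebra.FormallySmooth.liftOfSurjective_apply (AlgHom.id k _) q hqs hqnil x⟩
  have hcomm : ∀ a : A, s₀ (Ideal.Quotient.mk (𝔪.map (algebraMap A B)) (algebraMap A B a)) =
      algebraMap A (E ⧸ K) a := by
    intro a
    obtain ⟨c, hc⟩ := hres a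
    have h1 : Ideal.Quotient.mk (𝔪.map (algebraMap A B)) (algebraMap A B a) =
        algebraMap k (B ⧸ 𝔪.map (algebraMap A B)) c := by
      show _ = Ideal.Quotient.mk (𝔪.map (algebraMap A B)) (algebraMap k B c)
      rw [IsScalarTower.algebraMap_apply k A B, Ideal.Quotient.eq, ← map_sub]
      exact Ideal.mem_map_of_mem _ hc
    have h2 : algebraMap A (E ⧸ K) a = algebraMap k (E ⧸ K) c := by
      show Ideal.Quotient.mk K (algebraMap A E a) =
        Ideal.Quotient.mk K (algebraMap A E (algebraMap k A c))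
      rw [Ideal.Quotient.eq, ← map_sub, hKdef]
      exact Ideal.mem_map_of_mem _ hc
    rw [h1, h2, AlgHom.commutes]
  let χ₀ : B →ₐ[A] E ⧸ K :=
    { toRingHom := s₀.toRingHom.comp (Ideal.Quotient.mk (𝔪.map (algebraMap A B)))
      commutes' := hcomm }
  have hχ₀ : ∀ b, χ₀ b = s₀ (Ideal.Quotient.mk (𝔪.map (algebraMap A B)) b) := fun _ => rfl
  apply exists_section_of_lift p₁ hp₁ K hK χ₀
  intro e
  have h1 : q (s₀ (q (Ideal.Quotient.mk K e)) - Ideal.Quotient.mk K e) = 0 := by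
    rw [map_sub, hs₀, sub_self]
  obtain ⟨i, hi, hie⟩ := hqker _ h1
  refine ⟨i, hi, ?_⟩
  rw [hχ₀, ← hq, map_add, hie]
  ring

/-- Lifting along a small extension `B → B/tB` for a flat `A`-algebra with formally smooth
closed fibre. -/
theorem exists_lift_mod_span {k A B : Type u} [CommRing k] [CommRing A] [CommRing B]
    [Algebra k A] [Algebra A B] [Algebra k B] [IsScalarTower k A B] [Module.Flat A B]
    (𝔪 : Ideal A) (hres : ∀ a : A, ∃ c : k, a - algebraMap k A c ∈ 𝔪)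
    (hsm : Algebra.FormallySmooth k (B ⧸ 𝔪.map (algebraMap A B)))
    (t : A) (ht : ∀ a ∈ 𝔪, a * t = 0) (htt : t * t = 0)
    (g : B →ₐ[A] B ⧸ Ideal.span {algebraMap A B t}) :
    ∃ τ : B →ₐ[A] B, ∀ b, Ideal.Quotient.mk (Ideal.span {algebraMap A B t}) (τ b) = g b := by
  obtain ⟨E, hE⟩ : ∃ E : Subalgebra A (B × B), ∀ x, x ∈ E ↔
      g x.1 = Ideal.Quotient.mk (Ideal.span {algebraMap A B t}) x.2 :=
    ⟨AlgHom.equalizer (g.comp (AlgHom.fst A B B))
      ((Ideal.Quotient.mkₐ A (Ideal.span {algebraMap A B t})).comp (AlgHom.snd A B B)),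
      fun x => Iff.rfl⟩
  obtain ⟨p₁, hp₁⟩ : ∃ p₁ : ↥E →ₐ[A] B, ∀ x, p₁ x = x.1.1 :=
    ⟨(AlgHom.fst A B B).comp E.val, fun _ => rfl⟩
  obtain ⟨p₂, hp₂⟩ : ∃ p₂ : ↥E →ₐ[A] B, ∀ x, p₂ x = x.1.2 :=
    ⟨(AlgHom.snd A B B).comp E.val, fun _ => rfl⟩
  have hcomm : ∀ x : ↥E, g (p₁ x) = Ideal.Quotient.mk _ (p₂ x) := by
    intro x
    rw [hp₁, hp₂]
    exact (hE x.1).mp x.2
  have hp₁s : Function.Surjective p₁ := by
    intro b
    obtain ⟨c, hc⟩ := Ideal.Quotient.mk_surjective (g b)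
    exact ⟨⟨(b, c), (hE _).mpr hc.symm⟩, hp₁ _⟩
  have hkerE : ∀ x ∈ RingHom.ker p₁, x.1.1 = 0 ∧ ∃ c : B, x.1.2 = c * algebraMap A B t := by
    intro x hx
    have hx1 : x.1.1 = 0 := by rw [← hp₁]; exact RingHom.mem_ker.mp hx
    refine ⟨hx1, ?_⟩
    have hx2 : x.1.2 ∈ Ideal.span {algebraMap A B t} := by
      rw [← Ideal.Quotient.eq_zero_iff_mem, ← (hE x.1).mp x.2, hx1, map_zero]
    obtain ⟨c, hc⟩ := Ideal.mem_span_singleton'.mp hx2
    exact ⟨c, hc.symm⟩
  have hsq : ∀ x ∈ RingHom.ker p₁, ∀ y ∈ RingHom.ker p₁, x * y = 0 := by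
    intro x hx y hy
    obtain ⟨hx1, c, hc⟩ := hkerE x hx
    obtain ⟨hy1, d, hd⟩ := hkerE y hy
    apply Subtype.ext
    apply Prod.ext
    · show x.1.1 * y.1.1 = 0
      rw [hx1, zero_mul]
    · show x.1.2 * y.1.2 = 0
      rw [hc, hd]
      have h0 : algebraMap A B t * algebraMap A B t = 0 := by rw [← map_mul, htt, map_zero]
      linear_combination (c * d) * h0
  have hkill : ∀ a ∈ 𝔪, ∀ i ∈ RingHom.ker p₁, algebraMap A ↥E a * i = 0 := by
    intro a ha i hi
    obtain ⟨hi1, c, hc⟩ := hkerE i hi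
    apply Subtype.ext
    apply Prod.ext
    · show algebraMap A B a * i.1.1 = 0
      rw [hi1, mul_zero]
    · show algebraMap A B a * i.1.2 = 0
      rw [hc]
      have h0 : algebraMap A B a * algebraMap A B t = 0 := by rw [← map_mul, ht a ha, map_zero]
      linear_combination c * h0
  obtain ⟨s, hs⟩ := exists_section_of_formallySmooth_fibre 𝔪 hres hsm p₁ hp₁s hsq hkill
  refine ⟨p₂.comp s, fun b => ?_⟩
  show Ideal.Quotient.mk _ (p₂ (s b)) = g b
  rw [← hcomm]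
  exact congrArg g (AlgHom.congr_fun hs b)

/-- An `A`-algebra endomorphism congruent to the identity modulo a square-zero principal ideal
`tB` is bijective. -/
theorem bijective_of_congr_id {A B : Type*} [CommRing A] [CommRing B] [Algebra A B] (t : A)
    (htt : t * t = 0) (φ : B →ₐ[A] B)
    (hφ : ∀ b, φ b - b ∈ Ideal.span {algebraMap A B t}) : Function.Bijective φ := by
  have h0 : algebraMap A B t * algebraMap A B t = 0 := by rw [← map_mul, htt, map_zero]
  -- u = φ - id kills tB and lands in tB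
  have hu : ∀ b, φ (φ b - b) - (φ b - b) = 0 := by
    intro b
    obtain ⟨c, hc⟩ := Ideal.mem_span_singleton'.mp (hφ b)
    obtain ⟨d, hd⟩ := Ideal.mem_span_singleton'.mp (hφ c)
    rw [← hc, map_mul, AlgHom.commutes]
    have : φ c = c + d * algebraMap A B t := by rw [hd]; ring
    rw [this]
    linear_combination d * h0
  -- inverse is 2 id - φ
  have hleft : ∀ b, (2 * b - φ b) = b - (φ b - b) := fun b => by ring
  refine ⟨?_, ?_⟩
  · intro x y hxy
    have hx := hu x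
    have hy := hu y
    rw [map_sub] at hx hy
    have h1 : x = 2 * φ x - φ (φ x) := by linear_combination hx
    have h2 : y = 2 * φ y - φ (φ y) := by linear_combination hy
    rw [h1, h2, hxy]
  · intro y
    refine ⟨2 * y - φ y, ?_⟩
    have hy := hu y
    rw [map_sub] at hy
    rw [map_sub, map_mul, map_ofNat]
    linear_combination (-1 : B) * hy

end Groth.Agent.Lib.Helper7.FlatFS
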