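import Mathlib
import Groth.Agent.Lib.Helper9.RegFlat
import Groth.Agent.Lib.Helper9.NilpFlat

/-!
# Lifting generators of an ideal with flat quotient along a nilpotent thickening

If `A/I` is flat over `C`, `𝔫 ⊆ C` is nilpotent, and `K ⊆ I` has the same image as `I` modulo
`𝔫 A`, then `I = K`.
-/

namespace Groth.Agent.Lib.Helper7.FlatLift

universe u

open Groth.Agent.Lib.Helper9

/-- If `A/I` is `C`-flat and `K ≤ I` has the same image in `A/𝔫A`, then `I ≤ K + 𝔫 I`. -/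
theorem le_sup_mul {C A : Type u} [CommRing C] [CommRing A] [Algebra C A] (𝔫 : Ideal C)
    (I K : Ideal A) [Module.Flat C (A ⧸ I)] (hKI : K ≤ I)
    (h : I.map (Ideal.Quotient.mk (𝔫.map (algebraMap C A))) ≤
      K.map (Ideal.Quotient.mk (𝔫.map (algebraMap C A)))) :
    I ≤ K ⊔ 𝔫.map (algebraMap C A) * I := by
  intro x hx
  have h1 : Ideal.Quotient.mk (𝔫.map (algebraMap C A)) x ∈
      K.map (Ideal.Quotient.mk (𝔫.map (algebraMap C A))) := h (Ideal.mem_map_of_mem _ hx)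
  obtain ⟨y, hyK, hy⟩ := (Ideal.mem_map_iff_of_surjective _ Ideal.Quotient.mk_surjective).mp h1
  have h2 : x - y ∈ 𝔫.map (algebraMap C A) := by
    rw [← Ideal.Quotient.eq]
    exact hy.symm
  have h3 : x - y ∈ I := sub_mem hx (hKI hyK)
  have h2' : x - y ∈ 𝔫 • (⊤ : Submodule C A) := by
    rw [← NilpFlat.mem_map_smul_top_iff (B := A), Ideal.smul_eq_mul, Ideal.mul_top]
    exact h2
  have h4 : x - y ∈ (𝔫.map (algebraMap C A)) • (I : Submodule A A) :=
    RegFlat.mem_smul_of_flat_quotient (A := C) (B := A) (M := A) 𝔫 I h3 h2'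
  have h5 : x = y + (x - y) := by ring
  rw [h5]
  exact Submodule.add_mem_sup hyK h4

/-- If `A/I` is `C`-flat, `𝔫` is nilpotent and `K ≤ I` has the same image in `A/𝔫A`,
then `I ≤ K`. -/
theorem le_of_nilpotent {C A : Type u} [CommRing C] [CommRing A] [Algebra C A] (𝔫 : Ideal C)
    (h𝔫 : IsNilpotent 𝔫) (I K : Ideal A) [Module.Flat C (A ⧸ I)] (hKI : K ≤ I)
    (h : I.map (Ideal.Quotient.mk (𝔫.map (algebraMap C A))) ≤
      K.map (Ideal.Quotient.mk (𝔫.map (algebraMap C A)))) :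
    I ≤ K := by
  have h1 := le_sup_mul 𝔫 I K hKI h
  have key : ∀ k : ℕ, I ≤ K ⊔ (𝔫.map (algebraMap C A)) ^ k * I := by
    intro k
    induction k with
    | zero =>
      rw [pow_zero, Ideal.one_eq_top, Ideal.top_mul]
      exact le_sup_right
    | succ k ih =>
      calc I ≤ K ⊔ (𝔫.map (algebraMap C A)) ^ k * I := ih
        _ ≤ K ⊔ (𝔫.map (algebraMap C A)) ^ k * (K ⊔ 𝔫.map (algebraMap C A) * I) :=
            sup_le_sup_left (Ideal.mul_mono_right h1) K
        _ ≤ K ⊔ (𝔫.map (algebraMap C A)) ^ (k + 1) * I := by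
            rw [Ideal.mul_sup, ← mul_assoc, ← pow_succ]
            exact sup_le le_sup_left (sup_le (le_sup_of_le_left Ideal.mul_le_right) le_sup_right)
  obtain ⟨n, hn⟩ := h𝔫
  have h2 := key n
  rw [← Ideal.map_pow, hn, Ideal.zero_eq_bot, Ideal.map_bot, Ideal.bot_mul, sup_bot_eq] at h2
  exact h2

end Groth.Agent.Lib.Helper7.FlatLift
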