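import Mathlib
import Groth.Prelude
import Groth.Agent.Lib.Helper7.Gaeta1

/-!
# Gaeta resolutions on `P²`, part 2: facts on `P²` and the construction of the resolution

* abstract lemmas: `exists_proj_coprod`, `ses_transport3`, `hom_eq_zero_of_ses`.
* `surj_H0_of_surj_hom`, `surj_hom_of_surj_H0`, `surj_H0_tw_of_surj_hom`: `Hom`-level versus
  `H^0`-level surjectivity.
* `sub_H1_of_surj`, `surj_H0_of_sub_H1`, `sub_biprod`.
* on `P²`: dimensions of `Hom` spaces between `O(-1)` and `O`, vanishing for `O(-1)^a ⊕ O^b`,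
  the multiplication map `mu`, and `gaeta_backward`.
-/
set_option autoImplicit false
universe u
open CategoryTheory CategoryTheory.Limits AlgebraicGeometry TopologicalSpace Opposite
open Scheme.Modules
open scoped TensorProduct

noncomputable section

namespace Groth.Agent.Lib.Helper7.Gaeta

open Groth.Agent.Lib.Helper3 Groth.Agent.Lib.Helper3.QCSec Groth.Agent.Lib.Helper3.InvGen
  Groth.Agent.Lib.Helper3.InvTensor Groth.Agent.Lib.Helper3.InvMonoidal
  Groth.Agent.Lib.Helper3.TwistBasic Groth.Agent.Lib.Helper3.TwistMul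
  Groth.Agent.Lib.Helper7.TwFun Groth.Agent.Lib.Helper7.TwProj Groth.Agent.Lib.Helper7.MulSurj
  Groth.Agent.Lib.Helper7.RegRes Groth.Agent.Lib.Helper7.CohFinite
  Groth.Agent.Lib.Helper7.PnDual Groth.Agent.Lib.Helper7.PnExt
  Groth.Agent.Lib.Helper13 Groth.Agent.Lib.Helper13.SerreCrit1
  Groth.Agent.Lib.Helper7.Horrocks Groth.Agent.Lib.Helper7.TorsFree
  Groth.Agent.Lib.Helper7.LocFreePn Groth.Agent.Lib.Helper7.MumLemA Groth.Agent.Lib.Helper2
  Groth.Agent.Lib.Helper7.Syzygy Groth.Agent.Lib.Helper7.Hypersurf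
  Groth.Agent.Lib.Helper7.SyzygyB

section Abstract

variable {C : Type*} [Category C]

lemma exists_proj_coprod [Preadditive C] [HasFiniteBiproducts C] {r : ℕ} (f : Fin r → C) :
    ∃ p : ∀ j, ∐ f ⟶ f j, ∑ j, p j ≫ Sigma.ι f j = 𝟙 (∐ f) := by
  refine ⟨fun j => (biproduct.isoCoproduct f).inv ≫ biproduct.π f j, ?_⟩
  have h : ∀ j, Sigma.ι f j = biproduct.ι f j ≫ (biproduct.isoCoproduct f).hom := by
    intro j
    simp
  calc ∑ j, ((biproduct.isoCoproduct f).inv ≫ biproduct.π f j) ≫ Sigma.ι f j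
      = ∑ j, (biproduct.isoCoproduct f).inv ≫ (biproduct.π f j ≫ biproduct.ι f j) ≫
          (biproduct.isoCoproduct f).hom :=
        Finset.sum_congr rfl (fun j _ => by rw [h j, Category.assoc, Category.assoc])
    _ = (biproduct.isoCoproduct f).inv ≫ (∑ j, biproduct.π f j ≫ biproduct.ι f j) ≫
          (biproduct.isoCoproduct f).hom := by
        rw [Preadditive.sum_comp, Preadditive.comp_sum]
    _ = 𝟙 _ := by rw [biproduct.total, Category.id_comp, Iso.inv_hom_id]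

lemma ses_transport3 [Abelian C] (S : ShortComplex C) (hS : S.ShortExact)
    {A' B' Q' : C} (e₁ : S.X₁ ≅ A') (e₂ : S.X₂ ≅ B') (e₃ : S.X₃ ≅ Q') :
    ∃ (f' : A' ⟶ B') (g' : B' ⟶ Q') (w' : f' ≫ g' = 0),
      (ShortComplex.mk f' g' w').ShortExact := by
  have w' : (e₁.inv ≫ S.f ≫ e₂.hom) ≫ (e₂.inv ≫ S.g ≫ e₃.hom) = 0 := by
    simp
  refine ⟨_, _, w', ShortComplex.shortExact_of_iso
    (ShortComplex.isoMk (S₁ := S)
      (S₂ := ShortComplex.mk (e₁.inv ≫ S.f ≫ e₂.hom) (e₂.inv ≫ S.g ≫ e₃.hom) w') e₁ e₂ e₃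
      (by simp) (by simp)) hS⟩

lemma hom_eq_zero_of_ses [Abelian C] (S : ShortComplex C) (hS : S.ShortExact) (L : C)
    (h0 : ∀ φ : L ⟶ S.X₁, φ = 0) (φ : L ⟶ S.X₂) (hφ : φ ≫ S.g = 0) : φ = 0 := by
  obtain ⟨l, hl⟩ := KernelFork.IsLimit.lift' hS.fIsKernel φ hφ
  rw [← hl, h0 l, zero_comp]

end Abstract

section Gen

variable {X : Scheme.{u}} (A : Type u) [CommRing A] [X.Over (Spec (CommRingCat.of A))]

lemma surj_H0_of_surj_hom {M N : X.Modules} (f : M ⟶ N)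
    (h : ∀ s : Coh.structureModule X ⟶ N, ∃ s' : Coh.structureModule X ⟶ M, s' ≫ f = s) :
    Function.Surjective (HmapL A f 0) := by
  intro y
  obtain ⟨s, rfl⟩ := dict0_surjective A N y
  obtain ⟨s', rfl⟩ := h s
  exact ⟨dict0 A M s', (dict0_natural A f s').symm⟩

lemma surj_hom_of_surj_H0 {M N : X.Modules} (f : M ⟶ N)
    (h : Function.Surjective (HmapL A f 0)) (s : Coh.structureModule X ⟶ N) :
    ∃ s' : Coh.structureModule X ⟶ M, s' ≫ f = s := by
  obtain ⟨y, hy⟩ := h (dict0 A N s)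
  obtain ⟨s', rfl⟩ := dict0_surjective A M y
  refine ⟨s', dict0_injective A N ?_⟩
  rw [dict0_natural]
  exact hy

variable (L L' : X.Modules) (e : CohB1.tensorMod L L' ≅ Coh.structureModule X)
  (pair : (twR L).obj L' ≅ Coh.structureModule X)

include e pair in
lemma surj_H0_tw_of_surj_hom {M N : X.Modules} (f : M ⟶ N)
    (h : ∀ s : L' ⟶ N, ∃ s' : L' ⟶ M, s' ≫ f = s) :
    Function.Surjective (HmapL A ((twR L).map f) 0) := by
  intro y
  obtain ⟨s, rfl⟩ := (dictT_bijective A L L' e pair N).2 y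
  obtain ⟨s', rfl⟩ := h s
  exact ⟨dictT A L L' pair M s', (dictT_natural A L L' pair f s').symm⟩

lemma sub_H1_of_surj (S : ShortComplex X.Modules) (hS : S.ShortExact)
    (hsurj : Function.Surjective (HmapL A S.g 0)) (h : Subsingleton (Coh.HH X S.X₂ 1)) :
    Subsingleton (Coh.HH X S.X₁ 1) := by
  have key : ∀ y : Coh.HH X S.X₁ 1, y = 0 := by
    intro y
    obtain ⟨x, hx⟩ := Hypersurf.exact_left A S hS 0 y (@Subsingleton.elim _ h _ _)
    obtain ⟨x', rfl⟩ := hsurj x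
    rw [← hx]
    exact Hypersurf.deltaL_g A S hS 0 x'
  exact ⟨fun a b => (key a).trans (key b).symm⟩

lemma surj_H0_of_sub_H1 (S : ShortComplex X.Modules) (hS : S.ShortExact)
    (h : Subsingleton (Coh.HH X S.X₁ 1)) : Function.Surjective (HmapL A S.g 0) := by
  intro x
  exact CohFinite.exact_right A S hS 0 x (@Subsingleton.elim _ h _ _)

omit [X.Over (Spec (CommRingCat.of A))] in
lemma sub_biprod (T : X.Modules ⥤ X.Modules) [T.Additive] (M N : X.Modules) (i : ℕ)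
    (hM : Subsingleton (Coh.HH X (T.obj M) i)) (hN : Subsingleton (Coh.HH X (T.obj N) i)) :
    Subsingleton (Coh.HH X (T.obj (M ⊞ N)) i) := by
  have key : ∀ z : Coh.HH X (T.obj (M ⊞ N)) i, z = 0 := by
    intro z
    have h1 : T.map (biprod.fst : M ⊞ N ⟶ M) ≫ T.map biprod.inl +
        T.map (biprod.snd : M ⊞ N ⟶ N) ≫ T.map biprod.inr = 𝟙 (T.obj (M ⊞ N)) := by
      rw [← T.map_comp, ← T.map_comp, ← T.map_add, biprod.total, T.map_id]
    have h2 : Hm (T.map (biprod.fst : M ⊞ N ⟶ M) ≫ T.map biprod.inl +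
        T.map (biprod.snd : M ⊞ N ⟶ N) ≫ T.map biprod.inr) i z = z := by
      rw [h1, Hm_id]
    rw [Hm_add, Hm_comp, Hm_comp] at h2
    rw [← h2, Subsingleton.elim (Hm (T.map (biprod.fst : M ⊞ N ⟶ M)) i z) 0,
      Subsingleton.elim (Hm (T.map (biprod.snd : M ⊞ N ⟶ N)) i z) 0, map_zero, map_zero, add_zero]
  exact ⟨fun a b => (key a).trans (key b).symm⟩

end Gen

section P2

variable (k : Type u) [Field k]

local notation "PP" => CohB1.ProjSpace 2 k
local notation "PM" => AlgebraicGeometry.Scheme.Modules (CohB1.ProjSpace 2 k)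
local notation "OO" => Coh.structureModule (CohB1.ProjSpace 2 k)
local notation "Ot" => Twist.twistProjSpace 2 k
local notation "EE[" a ", " b "]" =>
  ((∐ fun _ : Fin a => Twist.twistProjSpace 2 k (-1)) ⊞
    (∐ fun _ : Fin b => Coh.structureModule (CohB1.ProjSpace 2 k)))

/-- `O ≅ O(0)`. -/
def uI : OO ≅ Ot 0 := TwistMul.unitIso

/-- `O(a) ⊗ O(b) ≅ O(a+b)`. -/
def mI (a b s : ℤ) (h : a + b = s) : CohB1.tensorMod (Ot a) (Ot b) ≅ Ot s :=
  mulIso' (Mumford.hU 2 k) a b s h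

/-- `M(0) ≅ M`. -/
def tw0 (M : PM) : CohB1.tensorMod M (Ot 0) ≅ M :=
  tensorMapIso (Iso.refl M) (uI k).symm ≪≫ SecTwist.unitorR M

/-- `O ⊗ O(t) ≅ O(t)`. -/
def unitTw (t : ℤ) : CohB1.tensorMod OO (Ot t) ≅ Ot t :=
  tensorMapIso (uI k) (Iso.refl _) ≪≫ mI k 0 t t (zero_add t)

def pr1 : CohB1.tensorMod (Ot (-1)) (Ot 1) ≅ OO :=
  pairIso' (Mumford.hU 2 k) (-1) 1 (by norm_num)

def e1 : CohB1.tensorMod (Ot 1) (Ot (-1)) ≅ OO := pairIso (Mumford.hU 2 k) 1

def pr0 : CohB1.tensorMod (Ot 0) (Ot 0) ≅ OO :=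
  pairIso' (Mumford.hU 2 k) 0 0 (by norm_num)

lemma dict0_bij (M : PM) : Function.Bijective (dict0 k M) :=
  ⟨dict0_injective k M, dict0_surjective k M⟩

lemma dict1_bij (M : PM) :
    Function.Bijective (dictT k (Ot 1) (Ot (-1)) (pr1 k) M) :=
  dictT_bijective k _ _ (e1 k) (pr1 k) M

lemma finite_hom_unit (M : PM) (hM : Coh.IsCoh M) : Module.Finite k (OO ⟶ M) := by
  haveI : Module.Finite k (Coh.HH PP M 0) := PnFinite.finite_HH 2 k 3 0 rfl M hM
  exact Module.Finite.equiv (LinearEquiv.ofBijective (dict0 k M) (dict0_bij k M)).symm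

lemma finite_hom_m1 (M : PM) (hM : Coh.IsCoh M) : Module.Finite k (Ot (-1) ⟶ M) := by
  haveI : Module.Finite k (Coh.HH PP ((twR (Ot 1)).obj M) 0) :=
    PnFinite.finite_HH 2 k 3 0 rfl _ (MumLem.isCoh_tw 2 k M hM 1)
  exact Module.Finite.equiv
    (LinearEquiv.ofBijective (dictT k (Ot 1) (Ot (-1)) (pr1 k) M) (dict1_bij k M)).symm

lemma finrank_hom_unit (M : PM) :
    Module.finrank k (OO ⟶ M) = Module.finrank k (Coh.HH PP M 0) :=
  (LinearEquiv.ofBijective (dict0 k M) (dict0_bij k M)).finrank_eq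

lemma finrank_hom_m1 (M : PM) :
    Module.finrank k (Ot (-1) ⟶ M) =
      Module.finrank k (Coh.HH PP (CohB1.tensorMod M (Ot 1)) 0) :=
  (LinearEquiv.ofBijective (dictT k (Ot 1) (Ot (-1)) (pr1 k) M) (dict1_bij k M)).finrank_eq

lemma finrank_O_O : Module.finrank k (OO ⟶ OO) = 1 :=
  (finrank_hom_unit k _).trans ((finrank_HH_of_iso k (uI k) 0).trans
    ((Hypersurf.finrank_H0_twist 2 k (by norm_num) 0).trans
      (show ((0 : ℤ) + ((2 : ℕ) : ℤ)).toNat.choose 2 = 1 by decide)))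

lemma finrank_V : Module.finrank k (Ot (-1) ⟶ OO) = 3 :=
  (finrank_hom_m1 k _).trans ((finrank_HH_of_iso k (unitTw k 1) 0).trans
    ((Hypersurf.finrank_H0_twist 2 k (by norm_num) 1).trans
      (show ((1 : ℤ) + ((2 : ℕ) : ℤ)).toNat.choose 2 = 3 by decide)))

lemma finrank_m1_m1 : Module.finrank k (Ot (-1) ⟶ Ot (-1)) = 1 :=
  (finrank_hom_m1 k _).trans ((finrank_HH_of_iso k (mI k (-1) 1 0 (by norm_num)) 0).trans
    ((Hypersurf.finrank_H0_twist 2 k (by norm_num) 0).trans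
      (show ((0 : ℤ) + ((2 : ℕ) : ℤ)).toNat.choose 2 = 1 by decide)))

lemma finite_V : Module.Finite k (Ot (-1) ⟶ OO) :=
  Module.finite_of_finrank_pos (by rw [finrank_V]; norm_num)

lemma finite_O_O : Module.Finite k (OO ⟶ OO) :=
  Module.finite_of_finrank_pos (by rw [finrank_O_O]; norm_num)

lemma finite_m1_m1 : Module.Finite k (Ot (-1) ⟶ Ot (-1)) :=
  Module.finite_of_finrank_pos (by rw [finrank_m1_m1]; norm_num)

lemma sub_unit_tw (t : ℤ) (q : ℕ) (h₀ : ¬(q = 0 ∧ 0 ≤ t)) (hn : ¬(q = 2 ∧ t ≤ -3)) :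
    Subsingleton (Coh.HH PP (CohB1.tensorMod OO (Ot t)) q) :=
  subsingleton_HH_of_iso (unitTw k t) q
    (Groth.Agent.S0844.result k 2 t q h₀ (fun h => hn ⟨h.1, by have := h.2; omega⟩))

lemma sub_E (a₂ a₃ : ℕ) (t : ℤ) (q : ℕ) (h₀ : ¬(q = 0 ∧ 0 ≤ t)) (hn : ¬(q = 2 ∧ t ≤ -2)) :
    Subsingleton (Coh.HH PP (CohB1.tensorMod EE[a₂, a₃] (Ot t)) q) :=
  sub_biprod (twR (Ot t)) (∐ fun _ : Fin a₂ => Ot (-1)) (∐ fun _ : Fin a₃ => OO) q
    (sub_P 2 k a₂ 1 t (t - 1) (by ring) q (fun h => h₀ ⟨h.1, by have := h.2; omega⟩)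
      (fun h => hn ⟨h.1, by have := h.2; omega⟩))
    (sub_coprod (twR (Ot t)) (fun _ : Fin a₃ => OO) q
      (fun _ => sub_unit_tw k t q h₀ (fun h => hn ⟨h.1, by have := h.2; omega⟩)))

lemma isSplit_E (a₂ a₃ : ℕ) : IsSplit 2 k EE[a₂, a₃] :=
  isSplit_biprod' 2 k _ _ ⟨a₂, fun _ => -1, ⟨Iso.refl _⟩⟩
    ⟨a₃, fun _ => 0, ⟨Sigma.mapIso (fun _ => uI k)⟩⟩

/-- `H^0(F(-1)) = 0` implies `H^0(F(t)) = 0` for all `t ≤ -1`. -/
lemma H0_neg_of_H0_m1 (F : PM)
    (h : Subsingleton (Coh.HH PP (CohB1.tensorMod F (Ot (-1))) 0)) (t : ℤ) (ht : t ≤ -1) :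
    Subsingleton (Coh.HH PP (CohB1.tensorMod F (Ot t)) 0) := by
  by_contra hne
  have hne' : ¬ Subsingleton (Coh.HH PP (CohB1.tensorMod F (Ot (-(-t)))) 0) := by
    rwa [neg_neg]
  obtain ⟨φ, hφ⟩ := exists_hom_twist_of_H0 2 k (-t) F hne'
  apply hφ
  haveI := isEquivalence_twR (Ot (-1)) (Ot 1) (pr1 k)
  have hgg : Curv2.IsGloballyGenerated (CohB1.tensorMod (Ot (-t)) (Ot (-1))) := by
    refine GGTwist.isGloballyGenerated_twist 2 k (Ot (-t)) (PnFinite.isCoh_twist 2 k (-t)) (-1)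
      (fun i hi => ?_)
    exact subsingleton_HH_of_iso (mI k (-t) (-1 - (i : ℤ)) (-t - 1 - (i : ℤ)) (by ring)) i
      (Groth.Agent.S0844.result k 2 _ i (fun h => by omega) (fun h => by have := h.2; omega))
  have hz : (twR (Ot (-1))).map φ = 0 :=
    eq_zero_of_gg hgg _ (fun s => sections_eq_zero _ h _)
  exact (twR (Ot (-1))).map_injective (hz.trans (Functor.map_zero _ _ _).symm)

/-- the multiplication map `Hom(O(-1), O) ⊗ Hom(O, M) → Hom(O(-1), M)`. -/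
def mu (M : PM) : ((Ot (-1) ⟶ OO) ⊗[k] (OO ⟶ M)) →ₗ[k] (Ot (-1) ⟶ M) :=
  TensorProduct.lift
    (Linear.comp (Ot (-1)) OO M : (Ot (-1) ⟶ OO) →ₗ[k] (OO ⟶ M) →ₗ[k] (Ot (-1) ⟶ M))

lemma mu_tmul (M : PM) (ψ : Ot (-1) ⟶ OO) (s : OO ⟶ M) :
    mu k M (ψ ⊗ₜ[k] s) = ψ ≫ s := by
  unfold mu
  rw [TensorProduct.lift.tmul]
  rfl

lemma mu_natural {M N : PM} (h : M ⟶ N) (z : (Ot (-1) ⟶ OO) ⊗[k] (OO ⟶ M)) :
    mu k N ((Linear.rightComp k OO h).lTensor (Ot (-1) ⟶ OO) z) = mu k M z ≫ h := by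
  induction z using TensorProduct.induction_on with
  | zero => simp only [map_zero, zero_comp]
  | tmul ψ s =>
    rw [LinearMap.lTensor_tmul, mu_tmul, mu_tmul]
    exact (Category.assoc _ _ _).symm
  | add x y hx hy => rw [map_add, map_add, map_add, hx, hy, Preadditive.add_comp]

/-- the construction of a Gaeta resolution from the cohomological conditions. -/
theorem gaeta_backward (F : PM) (hF : Coh.IsCoh F)
    (ha : Subsingleton (Coh.HH PP (CohB1.tensorMod F (Ot (-1))) 0))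
    (hb : Subsingleton (Coh.HH PP (CohB1.tensorMod F (Ot (-1))) 2))
    (hc : Subsingleton (Coh.HH PP F 1))
    (hg : Function.Injective (mu k F)) :
    ∃ (α₁ α₂ α₃ : ℕ) (S : ShortComplex PM), S.ShortExact ∧
      Nonempty (S.X₁ ≅ ∐ fun _ : Fin α₁ => Ot (-2)) ∧
      Nonempty (S.X₂ ≅ EE[α₂, α₃]) ∧ Nonempty (S.X₃ ≅ F) := by
  classical
  haveI hfinH : Module.Finite k (OO ⟶ F) := finite_hom_unit k F hF
  haveI hfinM : Module.Finite k (Ot (-1) ⟶ F) := finite_hom_m1 k F hF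
  haveI hfinV : Module.Finite k (Ot (-1) ⟶ OO) := finite_V k
  haveI hfin11 : Module.Finite k (Ot (-1) ⟶ Ot (-1)) := finite_m1_m1 k
  obtain ⟨W, hW⟩ := Submodule.exists_isCompl (LinearMap.range (mu k F))
  obtain ⟨α₃, ⟨bH⟩, hα₃⟩ : ∃ n : ℕ, Nonempty (Module.Basis (Fin n) k (OO ⟶ F)) ∧
      Module.finrank k (OO ⟶ F) = n := ⟨_, ⟨Module.finBasis k _⟩, rfl⟩
  obtain ⟨α₂, ⟨bW⟩, hα₂⟩ : ∃ n : ℕ, Nonempty (Module.Basis (Fin n) k W) ∧
      Module.finrank k W = n := ⟨_, ⟨Module.finBasis k _⟩, rfl⟩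
  obtain ⟨π, hπ⟩ : ∃ π : EE[α₂, α₃] ⟶ F,
      π = biprod.desc (Sigma.desc fun j => ((bW j : W) : Ot (-1) ⟶ F))
        (Sigma.desc fun j => bH j) := ⟨_, rfl⟩
  have hπH : ∀ j, (Sigma.ι (fun _ : Fin α₃ => OO) j ≫
      (biprod.inr : (∐ fun _ : Fin α₃ => OO) ⟶ EE[α₂, α₃])) ≫ π = bH j := by
    intro j
    rw [hπ, Category.assoc, biprod.inr_desc, Sigma.ι_desc]
  have hπW : ∀ j, (Sigma.ι (fun _ : Fin α₂ => Ot (-1)) j ≫
      (biprod.inl : (∐ fun _ : Fin α₂ => Ot (-1)) ⟶ EE[α₂, α₃])) ≫ π =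
        ((bW j : W) : Ot (-1) ⟶ F) := by
    intro j
    rw [hπ, Category.assoc, biprod.inl_desc, Sigma.ι_desc]
  -- `Hom(O, E) → Hom(O, F)` is surjective
  have hP0 : ∀ s : OO ⟶ F, ∃ s' : OO ⟶ EE[α₂, α₃], s' ≫ π = s := by
    intro s
    have hspan : Submodule.span k (Set.range bH) ≤ LinearMap.range (Linear.rightComp k OO π) := by
      rw [Submodule.span_le]
      rintro _ ⟨j, rfl⟩
      exact ⟨_, hπH j⟩
    have hs : s ∈ LinearMap.range (Linear.rightComp k OO π) :=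
      hspan (by rw [bH.span_eq]; exact Submodule.mem_top)
    obtain ⟨y, hy⟩ := hs
    exact ⟨y, hy⟩
  -- `Hom(O(-1), E) → Hom(O(-1), F)` is surjective
  have hP1 : ∀ s : Ot (-1) ⟶ F, ∃ s' : Ot (-1) ⟶ EE[α₂, α₃], s' ≫ π = s := by
    intro s
    have hW' : W ≤ LinearMap.range (Linear.rightComp k (Ot (-1)) π) := by
      intro x hx
      have h1 := congrArg W.subtype (bW.sum_repr ⟨x, hx⟩)
      simp only [map_sum, _root_.map_smul] at h1
      have h2 : x = ∑ j, (bW.repr ⟨x, hx⟩ j) • ((bW j : W) : Ot (-1) ⟶ F) := h1.symm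
      rw [h2]
      exact Submodule.sum_mem _ (fun j _ => Submodule.smul_mem _ _ ⟨_, hπW j⟩)
    have hμ' : LinearMap.range (mu k F) ≤ LinearMap.range (Linear.rightComp k (Ot (-1)) π) := by
      rintro _ ⟨z, rfl⟩
      induction z using TensorProduct.induction_on with
      | zero =>
        rw [map_zero]
        exact Submodule.zero_mem _
      | tmul ψ s₀ =>
        obtain ⟨s', hs'⟩ := hP0 s₀
        refine ⟨ψ ≫ s', ?_⟩
        rw [mu_tmul, ← hs']
        exact Category.assoc ψ s' π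
      | add x y hx hy =>
        rw [map_add]
        exact Submodule.add_mem _ hx hy
    have htop : LinearMap.range (Linear.rightComp k (Ot (-1)) π) = ⊤ := by
      apply top_le_iff.mp
      rw [← hW.sup_eq_top]
      exact sup_le hμ' hW'
    have hs : s ∈ LinearMap.range (Linear.rightComp k (Ot (-1)) π) := by
      rw [htop]
      exact Submodule.mem_top
    obtain ⟨y, hy⟩ := hs
    exact ⟨y, hy⟩
  -- dimension count: `Hom(O(-1), E) → Hom(O(-1), F)` is injective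
  obtain ⟨hfA, hdA⟩ := finrank_hom_coprod k (Ot (-1)) (Ot (-1)) α₂
  obtain ⟨hfB, hdB⟩ := finrank_hom_coprod k (Ot (-1)) OO α₃
  haveI := hfA
  haveI := hfB
  obtain ⟨hfE, hdE⟩ := finrank_hom_biprod k (Ot (-1)) (∐ fun _ : Fin α₂ => Ot (-1))
    (∐ fun _ : Fin α₃ => OO)
  haveI := hfE
  have hdM : Module.finrank k (Ot (-1) ⟶ F) = 3 * α₃ + α₂ := by
    have h1 := Submodule.finrank_add_eq_of_isCompl hW
    rw [LinearMap.finrank_range_of_inj hg, Module.finrank_tensorProduct, finrank_V, hα₃,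
      hα₂] at h1
    exact h1.symm
  have hP1inj : Function.Injective (Linear.rightComp k (Ot (-1)) π) := by
    have hsurj : Function.Surjective (Linear.rightComp k (Ot (-1)) π) := fun s => hP1 s
    refine (LinearMap.injective_iff_surjective_of_finrank_eq_finrank ?_).mpr hsurj
    rw [hdE, hdA, hdB, hdM, finrank_m1_m1, finrank_V]
    ring
  -- `F` is `1`-regular, so `F(1)` is globally generated and `π` is an epimorphism
  have hreg : ∀ i : ℕ, 1 ≤ i → Subsingleton (Coh.HH PP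
      (CohB1.tensorMod F (Ot (1 - (i : ℤ)))) i) := by
    intro i hi
    rcases (show i = 1 ∨ i = 2 ∨ 3 ≤ i by omega) with rfl | rfl | h3
    · have h1 : (1 : ℤ) - ((1 : ℕ) : ℤ) = 0 := by norm_num
      rw [h1]
      exact subsingleton_HH_of_iso (tw0 k F) 1 hc
    · have h1 : (1 : ℤ) - ((2 : ℕ) : ℤ) = -1 := by norm_num
      rw [h1]
      exact hb
    · haveI hq := Mumford.isQCoh_tw 2 k F hF.1 (1 - (i : ℤ))
      exact @Mumford.hvan 2 k _ _ hq i (by omega)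
  have hgg1 : Curv2.IsGloballyGenerated (CohB1.tensorMod F (Ot 1)) :=
    GGTwist.isGloballyGenerated_twist 2 k F hF 1 hreg
  haveI hEq1 := isEquivalence_twR (Ot 1) (Ot (-1)) (e1 k)
  have hs1 : Function.Surjective (HmapL k ((twR (Ot 1)).map π) 0) :=
    surj_H0_tw_of_surj_hom k (Ot 1) (Ot (-1)) (e1 k) (pr1 k) π hP1
  haveI hπepi : Epi π := by
    have hs2 := surj_top_of_surj_H0 k _ hs1
    haveI : Epi ((twR (Ot 1)).map π) := epi_of_surj_top _ hgg1 hs2
    exact (twR (Ot 1)).epi_of_epi_map ‹_›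
  -- the kernel
  have hEsplit := isSplit_E k α₂ α₃
  have hEcoh := isCoh_of_isSplit 2 k _ hEsplit
  have hKcoh : Coh.IsCoh (kernel π) := isCoh_kernel 2 k π hEcoh hF
  have hSE := CechCard.shortExact_kernel π
  have hEII := (cond_of_isSplit 2 k (by norm_num) _ hEsplit).2
  have hK1_1 : Subsingleton (Coh.HH PP (CohB1.tensorMod (kernel π) (Ot 1)) 1) := by
    have hSt := Mumford.shortExact_tw 2 k 1 _ hSE
    have h := sub_H1_of_surj k _ hSt hs1 (hEII 1 1 le_rfl (by norm_num))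
    exact h
  have hK2_0 : Subsingleton (Coh.HH PP (CohB1.tensorMod (kernel π) (Ot 0)) 2) := by
    have hSt := Mumford.shortExact_tw 2 k 0 _ hSE
    have h := sub_left _ hSt 1 (subsingleton_HH_of_iso (tw0 k F) 1 hc)
      (sub_E k α₂ α₃ 0 2 (by norm_num) (by norm_num))
    exact h
  have hKreg : ∀ i : ℕ, 1 ≤ i → Subsingleton (Coh.HH PP
      (CohB1.tensorMod (kernel π) (Ot (2 - (i : ℤ)))) i) := by
    intro i hi
    rcases (show i = 1 ∨ i = 2 ∨ 3 ≤ i by omega) with rfl | rfl | h3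
    · have h1 : (2 : ℤ) - ((1 : ℕ) : ℤ) = 1 := by norm_num
      rw [h1]
      exact hK1_1
    · have h1 : (2 : ℤ) - ((2 : ℕ) : ℤ) = 0 := by norm_num
      rw [h1]
      exact hK2_0
    · haveI hq := Mumford.isQCoh_tw 2 k (kernel π) hKcoh.1 (2 - (i : ℤ))
      exact @Mumford.hvan 2 k _ _ hq i (by omega)
  have hK1 : ∀ t : ℤ, Subsingleton (Coh.HH PP (CohB1.tensorMod (kernel π) (Ot t)) 1) := by
    intro t
    have hSt := Mumford.shortExact_tw 2 k t _ hSE
    rcases (show t ≤ -1 ∨ t = 0 ∨ 1 ≤ t by omega) with ht | rfl | ht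
    · have h := sub_left _ hSt 0 (H0_neg_of_H0_m1 k F ha t ht) (hEII t 1 le_rfl (by norm_num))
      exact h
    · have hs0 : Function.Surjective (HmapL k ((twR (Ot 0)).map π) 0) := by
        refine surj_H0_tw_of_surj_hom k (Ot 0) (Ot 0) (pr0 k) (pr0 k) π (fun s => ?_)
        obtain ⟨s', hs'⟩ := hP0 ((uI k).hom ≫ s)
        exact ⟨(uI k).inv ≫ s', by rw [Category.assoc, hs', Iso.inv_hom_id_assoc]⟩
      have h := sub_H1_of_surj k _ hSt hs0 (hEII 0 1 le_rfl (by norm_num))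
      exact h
    · exact Mumford.regular_ge 2 k (kernel π) hKcoh.1 2 hKreg 1 t le_rfl (by push_cast; omega)
  have hKI : CondI 2 k (kernel π) := condI_kernel 2 k (by norm_num) π hEsplit
  have hKII : CondII 2 k (kernel π) := by
    intro m i hi1 hi2
    obtain rfl : i = 1 := by omega
    exact hK1 m
  obtain ⟨r, a, ⟨eK⟩⟩ := (horrocks 2 k (by norm_num) (kernel π) hKcoh).mpr ⟨hKI, hKII⟩
  -- `H^0(K(1)) = 0`
  have hK0_1 : Subsingleton (Coh.HH PP (CohB1.tensorMod (kernel π) (Ot 1)) 0) := by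
    by_contra hne
    have hne' : ¬ Subsingleton (Coh.HH PP (CohB1.tensorMod (kernel π) (Ot (-(-1)))) 0) := by
      rwa [neg_neg]
    obtain ⟨φ, hφ⟩ := exists_hom_twist_of_H0 2 k (-1) (kernel π) hne'
    apply hφ
    have h1 : (φ ≫ kernel.ι π) ≫ π = 0 := by
      rw [Category.assoc, kernel.condition, comp_zero]
    have h2 : φ ≫ kernel.ι π = 0 := hP1inj (h1.trans zero_comp.symm)
    exact (cancel_mono (kernel.ι π)).mp (h2.trans zero_comp.symm)
  have ha2 : ∀ j, a j = -2 := by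
    intro j
    obtain ⟨ι, q, hιq⟩ := exists_retract_of_iso_coprod (fun j => Ot (a j)) eK j
    have h2 : Subsingleton (Coh.HH PP (CohB1.tensorMod (Ot (a j)) (Ot 0)) 2) :=
      sub_retract ι q hιq (twR (Ot 0)) 2 hK2_0
    have h0 : Subsingleton (Coh.HH PP (CohB1.tensorMod (Ot (a j)) (Ot 1)) 0) :=
      sub_retract ι q hιq (twR (Ot 1)) 0 hK0_1
    haveI h2' : Subsingleton (Coh.HH PP (Ot (a j)) 2) :=
      subsingleton_HH_of_iso (mI k (a j) 0 (a j) (add_zero _)).symm 2 h2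
    haveI h0' : Subsingleton (Coh.HH PP (Ot (a j + 1)) 0) :=
      subsingleton_HH_of_iso (mI k (a j) 1 (a j + 1) rfl).symm 0 h0
    have e2 := Hypersurf.finrank_Htop_twist 2 k (by norm_num) (a j)
    have e0 := Hypersurf.finrank_H0_twist 2 k (by norm_num) (a j + 1)
    rw [Module.finrank_zero_of_subsingleton] at e2 e0
    have i2 := Nat.choose_eq_zero_iff.mp e2.symm
    have i0 := Nat.choose_eq_zero_iff.mp e0.symm
    omega
  have ha' : a = fun _ => -2 := funext ha2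
  subst ha'
  exact ⟨r, α₂, α₃, ShortComplex.mk (kernel.ι π) π (kernel.condition π), hSE, ⟨eK⟩,
    ⟨Iso.refl _⟩, ⟨Iso.refl _⟩⟩

end P2

end Groth.Agent.Lib.Helper7.Gaeta
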