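import Mathlib
import Groth.Prelude
import Groth.Agent.Lib.Helper7.Gaeta2

/-!
# Gaeta resolutions on `P²`, part 3: the cohomological conditions are necessary

* `mu_coprod_surjective`, `mu_coprod_injective`: the multiplication map of `O^b` is bijective.
* `mu_E_injective`: the multiplication map of `O(-1)^a ⊕ O^b` is injective.
* `gaeta_forward`: a sheaf with a Gaeta resolution satisfies the cohomological conditions.
-/
set_option autoImplicit false
universe u
open CategoryTheory CategoryTheory.Limits AlgebraicGeometry TopologicalSpace Opposite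
open Scheme.Modules
open scoped TensorProduct

noncomputable section

namespace Groth.Agent.Lib.Helper7.Gaeta

open Groth.Agent.Lib.Helper3 Groth.Agent.Lib.Helper3.QCSec Groth.Agent.Lib.Helper3.InvGen
  Groth.Agent.Lib.Helper3.InvTensor Groth.Agent.Lib.Helper3.InvMonoidal
  Groth.Agent.Lib.Helper3.TwistBasic Groth.Agent.Lib.Helper3.TwistMul
  Groth.Agent.Lib.Helper7.TwFun Groth.Agent.Lib.Helper7.TwProj Groth.Agent.Lib.Helper7.MulSurj
  Groth.Agent.Lib.Helper7.RegRes Groth.Agent.Lib.Helper7.CohFinite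
  Groth.Agent.Lib.Helper7.PnDual Groth.Agent.Lib.Helper7.PnExt
  Groth.Agent.Lib.Helper13 Groth.Agent.Lib.Helper13.SerreCrit1
  Groth.Agent.Lib.Helper7.Horrocks Groth.Agent.Lib.Helper7.TorsFree
  Groth.Agent.Lib.Helper7.LocFreePn Groth.Agent.Lib.Helper7.MumLemA Groth.Agent.Lib.Helper2
  Groth.Agent.Lib.Helper7.Syzygy Groth.Agent.Lib.Helper7.Hypersurf
  Groth.Agent.Lib.Helper7.SyzygyB

section P2

variable (k : Type u) [Field k]

local notation "PP" => CohB1.ProjSpace 2 k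
local notation "PM" => AlgebraicGeometry.Scheme.Modules (CohB1.ProjSpace 2 k)
local notation "OO" => Coh.structureModule (CohB1.ProjSpace 2 k)
local notation "Ot" => Twist.twistProjSpace 2 k
local notation "EE[" a ", " b "]" =>
  ((∐ fun _ : Fin a => Twist.twistProjSpace 2 k (-1)) ⊞
    (∐ fun _ : Fin b => Coh.structureModule (CohB1.ProjSpace 2 k)))

lemma mu_coprod_surjective (b : ℕ) :
    Function.Surjective (mu k (∐ fun _ : Fin b => OO)) := by
  intro φ
  obtain ⟨p, hp⟩ : ∃ p : Fin b → ((∐ fun _ : Fin b => OO) ⟶ OO),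
      ∑ j, p j ≫ (Sigma.ι (fun _ : Fin b => OO) j : OO ⟶ ∐ fun _ : Fin b => OO) = 𝟙 _ :=
    exists_proj_coprod (fun _ : Fin b => OO)
  refine ⟨∑ j, (φ ≫ p j) ⊗ₜ[k]
    (Sigma.ι (fun _ : Fin b => OO) j : OO ⟶ ∐ fun _ : Fin b => OO), ?_⟩
  rw [map_sum]
  calc ∑ j, mu k (∐ fun _ : Fin b => OO) ((φ ≫ p j) ⊗ₜ[k]
        (Sigma.ι (fun _ : Fin b => OO) j : OO ⟶ ∐ fun _ : Fin b => OO))
      = ∑ j, φ ≫ (p j ≫
          (Sigma.ι (fun _ : Fin b => OO) j : OO ⟶ ∐ fun _ : Fin b => OO)) :=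
        Finset.sum_congr rfl (fun j _ => by rw [mu_tmul, Category.assoc])
    _ = φ ≫ ∑ j, p j ≫
          (Sigma.ι (fun _ : Fin b => OO) j : OO ⟶ ∐ fun _ : Fin b => OO) := by
        rw [Preadditive.comp_sum]
    _ = φ := by rw [hp, Category.comp_id]

lemma mu_coprod_injective (b : ℕ) :
    Function.Injective (mu k (∐ fun _ : Fin b => OO)) := by
  haveI := finite_V k
  haveI := finite_O_O k
  obtain ⟨hf0, hd0⟩ := finrank_hom_coprod k OO OO b
  obtain ⟨hf1, hd1⟩ := finrank_hom_coprod k (Ot (-1)) OO b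
  haveI := hf0
  haveI := hf1
  refine (LinearMap.injective_iff_surjective_of_finrank_eq_finrank ?_).mpr
    (mu_coprod_surjective k b)
  rw [Module.finrank_tensorProduct, hd0, hd1, finrank_O_O, finrank_V]
  ring

lemma mu_E_injective (a₂ a₃ : ℕ) : Function.Injective (mu k EE[a₂, a₃]) := by
  have hH0A : Subsingleton (Coh.HH PP (∐ fun _ : Fin a₂ => Ot (-1)) 0) :=
    subsingleton_HH_of_iso (tw0 k _).symm 0
      (sub_P 2 k a₂ 1 0 (-1) (by norm_num) 0 (by norm_num) (by norm_num))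
  have hr : Function.Injective (Linear.rightComp k OO
      (biprod.snd : EE[a₂, a₃] ⟶ ∐ fun _ : Fin a₃ => OO)) := by
    rw [injective_iff_map_eq_zero]
    intro s hs
    have h1 : s ≫ (biprod.fst : EE[a₂, a₃] ⟶ ∐ fun _ : Fin a₂ => Ot (-1)) = 0 :=
      hom_unit_eq_zero _ hH0A _
    exact biprod.hom_ext _ _ (h1.trans zero_comp.symm) (hs.trans zero_comp.symm)
  rw [injective_iff_map_eq_zero]
  intro z hz
  have h2 := mu_natural k (biprod.snd : EE[a₂, a₃] ⟶ ∐ fun _ : Fin a₃ => OO) z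
  rw [hz, zero_comp] at h2
  have h3 := mu_coprod_injective k a₃ (h2.trans (map_zero _).symm)
  exact Module.Flat.lTensor_preserves_injective_linearMap _ hr (h3.trans (map_zero _).symm)

/-- a sheaf with a Gaeta resolution satisfies the cohomological conditions. -/
theorem gaeta_forward (a₁ a₂ a₃ : ℕ) (F : PM)
    (f : (∐ fun _ : Fin a₁ => Ot (-2)) ⟶ EE[a₂, a₃]) (g : EE[a₂, a₃] ⟶ F) (w : f ≫ g = 0)
    (hS : (ShortComplex.mk f g w).ShortExact) :
    Subsingleton (Coh.HH PP (CohB1.tensorMod F (Ot (-1))) 0) ∧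
    Subsingleton (Coh.HH PP (CohB1.tensorMod F (Ot (-1))) 2) ∧
    Subsingleton (Coh.HH PP F 1) ∧ Subsingleton (Coh.HH PP F 2) ∧
    Subsingleton (Coh.HH PP (CohB1.tensorMod F (Ot 1)) 1) ∧
    Subsingleton (Coh.HH PP (CohB1.tensorMod F (Ot 1)) 2) ∧
    Function.Injective (mu k F) := by
  have hA' : ∀ (t : ℤ) (q : ℕ), ¬(q = 0 ∧ 2 ≤ t) → ¬(q = 2 ∧ t ≤ -1) →
      Subsingleton (Coh.HH PP (CohB1.tensorMod (∐ fun _ : Fin a₁ => Ot (-2)) (Ot t)) q) := by
    intro t q h₀ hn
    exact sub_P 2 k a₁ 2 t (t - 2) (by ring) q (fun h => h₀ ⟨h.1, by have := h.2; omega⟩)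
      (fun h => hn ⟨h.1, by have := h.2; omega⟩)
  have van : ∀ (t : ℤ) (q : ℕ), ¬(q = 0 ∧ 0 ≤ t) → ¬(q = 2 ∧ t ≤ -2) →
      ¬(q + 1 = 2 ∧ t ≤ -1) → Subsingleton (Coh.HH PP (CohB1.tensorMod F (Ot t)) q) := by
    intro t q h₀ hn hn'
    have hSt := Mumford.shortExact_tw 2 k t _ hS
    have h := sub_right _ hSt q (sub_E k a₂ a₃ t q h₀ hn)
      (hA' t (q + 1) (fun h => absurd h.1 (by omega)) hn')
    exact h
  have hP0 : Function.Surjective (Linear.rightComp k OO g) := by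
    have hH1 : Subsingleton (Coh.HH PP (∐ fun _ : Fin a₁ => Ot (-2)) 1) :=
      subsingleton_HH_of_iso (tw0 k _).symm 1 (hA' 0 1 (by norm_num) (by norm_num))
    have h1 := surj_H0_of_sub_H1 k _ hS hH1
    intro s
    exact surj_hom_of_surj_H0 k g h1 s
  have hP1 : Function.Injective (Linear.rightComp k (Ot (-1)) g) := by
    rw [injective_iff_map_eq_zero]
    intro φ hφ
    have h0 : Subsingleton (Coh.HH PP
        (CohB1.tensorMod (∐ fun _ : Fin a₁ => Ot (-2)) (Ot (-(-1)))) 0) := by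
      rw [neg_neg]
      exact hA' 1 0 (by norm_num) (by norm_num)
    exact hom_eq_zero_of_ses _ hS (Ot (-1)) (hom_twist_eq_zero_of_H0 2 k (-1) _ h0) φ hφ
  have hinj : Function.Injective (mu k F) := by
    rw [injective_iff_map_eq_zero]
    intro z hz
    obtain ⟨z', rfl⟩ := LinearMap.lTensor_surjective (Ot (-1) ⟶ OO) hP0 z
    have h1 := mu_natural k g z'
    rw [hz] at h1
    have h2 : mu k EE[a₂, a₃] z' = 0 := hP1 (h1.symm.trans (map_zero _).symm)
    have h3 : z' = 0 := mu_E_injective k a₂ a₃ (h2.trans (map_zero _).symm)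
    rw [h3, map_zero]
  exact ⟨van (-1) 0 (by norm_num) (by norm_num) (by norm_num),
    van (-1) 2 (by norm_num) (by norm_num) (by norm_num),
    subsingleton_HH_of_iso (tw0 k F).symm 1
      (van 0 1 (by norm_num) (by norm_num) (by norm_num)),
    subsingleton_HH_of_iso (tw0 k F).symm 2
      (van 0 2 (by norm_num) (by norm_num) (by norm_num)),
    van 1 1 (by norm_num) (by norm_num) (by norm_num),
    van 1 2 (by norm_num) (by norm_num) (by norm_num), hinj⟩

end P2

end Groth.Agent.Lib.Helper7.Gaeta
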