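import Mathlib
import Groth.Prelude.Def_ega3
import Groth.Agent.Lib.Helper7.TFunExact2
import Groth.Agent.Lib.Helper7.TFunFree
import Groth.Agent.Lib.Helper7.TFunLES
import Groth.Agent.Lib.Helper7.DRankT
import Groth.Agent.Lib.Helper7.DvrRank
import Groth.Agent.Lib.Helper7.BcFlat
import Groth.Agent.Lib.Helper7.BcOpcycles
import Groth.Agent.Lib.Helper7.BcLink
import Groth.Agent.Lib.Helper7.BcLocus
import Groth.Agent.Lib.Helper12.FibreRank
set_option autoImplicit false
universe u
open CategoryTheory CategoryTheory.Limits MonoidalCategory TensorProduct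

namespace Groth.Agent.Lib.Helper7

section finiteness
variable {A : Type u} [CommRing A]

lemma finite_of_exact_noeth [IsNoetherianRing A] {M₁ M₂ M₃ : Type u} [AddCommGroup M₁]
    [AddCommGroup M₂] [AddCommGroup M₃] [Module A M₁] [Module A M₂] [Module A M₃]
    (f : M₁ →ₗ[A] M₂) (g : M₂ →ₗ[A] M₃) (hex : Function.Exact f g) [Module.Finite A M₁]
    [Module.Finite A M₃] : Module.Finite A M₂ := by
  haveI : IsNoetherian A M₃ := isNoetherian_of_isNoetherianRing_of_finite A M₃
  rw [Module.finite_def]
  refine Submodule.fg_of_fg_map_of_fg_inf_ker g ?_ ?_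
  · exact IsNoetherian.noetherian _
  · rw [top_inf_eq, LinearMap.exact_iff.mp hex, LinearMap.range_eq_map]
    exact (Module.Finite.fg_top).map f

/-- `T_n(M)` is finite for every finite `M` when `P` is bounded below, flat, and every `T_n(A)`
is finite (`A` Noetherian). -/
theorem TFun_finite_of_bounded [IsNoetherianRing A] (P : ChainComplex (ModuleCat.{u} A) ℤ)
    (hP : ∀ i, Module.Flat A (P.X i)) (i₀ : ℤ) (hb : ∀ i < i₀, IsZero (P.X i))
    (hfg : ∀ n : ℤ, Module.Finite A (CohIII.T P n (ModuleCat.of A A))) (n : ℤ)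
    (M : ModuleCat.{u} A) [hM : Module.Finite A M] : Module.Finite A (CohIII.T P n M) := by
  have key : ∀ k : ℕ, ∀ n : ℤ, n < i₀ + k → ∀ M : ModuleCat.{u} A, Module.Finite A M →
      Module.Finite A (CohIII.T P n M) := by
    intro k
    induction k with
    | zero =>
      intro n hn M _
      have hz : IsZero ((CohIII.TFun P n).obj M) :=
        TFun_isZero_of_isZero P n (hb n (by simpa using hn)) M
      haveI : Subsingleton (CohIII.T P n M) := ModuleCat.subsingleton_of_isZero hz
      infer_instance
    | succ k ih =>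
      intro n hn M hM
      haveI := hM
      obtain ⟨r, s, hs⟩ := Module.Finite.exists_fin (R := A) (M := M)
      let X : Type u := ULift.{u} (Fin r)
      let g : (X →₀ A) →ₗ[A] M := Finsupp.linearCombination A (fun x : X => s x.down)
      have hg : Function.Surjective g := by
        rw [← LinearMap.range_eq_top, Finsupp.range_linearCombination]
        have hr : Set.range (fun x : X => s x.down) = Set.range s := by
          ext m
          constructor
          · rintro ⟨x, rfl⟩
            exact ⟨x.down, rfl⟩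
          · rintro ⟨i, rfl⟩
            exact ⟨⟨i⟩, rfl⟩
        rw [hr]
        exact hs
      let f' : ModuleCat.of A (LinearMap.ker g) ⟶ ModuleCat.of A (X →₀ A) :=
        ModuleCat.ofHom (LinearMap.ker g).subtype
      let g' : ModuleCat.of A (X →₀ A) ⟶ M := ModuleCat.ofHom g
      let S : ShortComplex (ModuleCat.{u} A) :=
        ShortComplex.mk f' g' (by
          apply ModuleCat.hom_ext
          apply LinearMap.ext
          intro x
          exact x.2)
      have hS : S.ShortExact := by
        apply ModuleCat.shortComplex_shortExact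
        · show Function.Exact (LinearMap.ker g).subtype g
          exact LinearMap.exact_subtype_ker_map g
        · show Function.Injective (LinearMap.ker g).subtype
          exact Submodule.injective_subtype _
        · exact hg
      have hSE := tensorSC_shortExact P hP S hS
      have hrel : (ComplexShape.down ℤ).Rel n (n - 1) := by
        show n - 1 + 1 = n
        ring
      have hex3 := hSE.homology_exact₃ n (n - 1) hrel
      have hfe := (ShortComplex.ShortExact.moduleCat_exact_iff_function_exact _).mp hex3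
      haveI : Module.Finite A ((CohIII.TFun P n).obj (ModuleCat.of A A)) := hfg n
      have h1 : Module.Finite A (CohIII.T P n (ModuleCat.of A (X →₀ A))) :=
        Module.Finite.of_surjective (tMap (CohIII.TFun P n) (ModuleCat.of A (X →₀ A)))
          (tMap_surjective_finsupp_fintype (CohIII.TFun P n) X)
      haveI : IsNoetherian A (X →₀ A) := isNoetherian_of_isNoetherianRing_of_finite A _
      have h3 : Module.Finite A (CohIII.T P (n - 1) (ModuleCat.of A (LinearMap.ker g))) :=
        ih (n - 1) (by push_cast at hn ⊢; omega) (ModuleCat.of A (LinearMap.ker g))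
          (inferInstanceAs (Module.Finite A (LinearMap.ker g)))
      exact @finite_of_exact_noeth A _ _ _ _ _ _ _ _ _ _ _ _ _ hfe h1 h3
  obtain ⟨k, hk⟩ : ∃ k : ℕ, n < i₀ + k := ⟨(n - i₀ + 1).toNat, by omega⟩
  exact key k n hk M hM

lemma finite_of_semilinear_addEquiv {B : Type u} [CommRing B] (φ : A →+* B)
    {M N : Type u} [AddCommGroup M] [Module B M] [AddCommGroup N] [Module A N] (e : M ≃+ N)
    (he : ∀ a m, e (φ a • m) = a • e m) [hN : Module.Finite A N] : Module.Finite B M := by
  classical
  obtain ⟨s, hs⟩ := Module.finite_def.mp hN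
  rw [Module.finite_def]
  refine ⟨s.image e.symm, ?_⟩
  rw [eq_top_iff]
  intro m _
  have hm : e m ∈ Submodule.span A (s : Set N) := by
    rw [hs]
    trivial
  have key : ∀ y ∈ Submodule.span A (s : Set N),
      e.symm y ∈ Submodule.span B ((s.image e.symm : Finset M) : Set M) := by
    intro y hy
    induction hy using Submodule.span_induction with
    | mem y hy =>
      refine Submodule.subset_span ?_
      rw [Finset.coe_image]
      exact ⟨y, hy, rfl⟩
    | zero =>
      rw [map_zero]
      exact Submodule.zero_mem _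
    | add y z _ _ hy hz =>
      rw [map_add]
      exact Submodule.add_mem _ hy hz
    | smul a y _ hy =>
      have h1 : e.symm (a • y) = φ a • e.symm y := by
        rw [AddEquiv.symm_apply_eq, he, AddEquiv.apply_symm_apply]
      rw [h1]
      exact Submodule.smul_mem _ _ hy
  have h2 := key (e m) hm
  rwa [AddEquiv.symm_apply_apply] at h2

end finiteness

section bc
variable {A B : Type u} [CommRing A] [CommRing B] {ι : Type} {c : ComplexShape ι}

/-- `T^{P_B}_p(B) ≃ B ⊗_A T^P_p(A)` for flat `A → B`. -/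
theorem nonempty_T_bcCx_unit_equiv (φ : A →+* B) [alg : Algebra A B] (halg : alg = φ.toAlgebra)
    [Module.Flat A B] (P : HomologicalComplex (ModuleCat.{u} A) c) (p : ι) :
    Nonempty (CohIII.T (CohIII.bcCx φ P) p (ModuleCat.of B B) ≃ₗ[B]
      B ⊗[A] (CohIII.T P p (ModuleCat.of A A))) := by
  subst halg
  letI := φ.toAlgebra
  have e1 := unitHomologyEquiv (CohIII.bcCx φ P) p
  have e2 : (CohIII.bcCx φ P).homology p ≃ₗ[B] B ⊗[A] (P.homology p) :=
    (homologyBcCxIso φ rfl P p).toLinearEquiv
  have e3 : B ⊗[A] (CohIII.T P p (ModuleCat.of A A)) ≃ₗ[B] B ⊗[A] (P.homology p) :=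
    LinearEquiv.baseChange A B _ _ (unitHomologyEquiv P p)
  exact ⟨e1.trans (e2.trans e3.symm)⟩

lemma isZero_bcCx_X (φ : A →+* B) (P : HomologicalComplex (ModuleCat.{u} A) c) (i : ι)
    (h : IsZero (P.X i)) : IsZero ((CohIII.bcCx φ P).X i) :=
  (ModuleCat.extendScalars φ).map_isZero h

end bc

section away
variable {A : Type u} [CommRing A]

/-- if `D(f)` lies in the free locus of `T_q(A)` for `i₀ ≤ q ≤ N`, then the `T_q` of `P_f` are
exact for `q ≤ N`. -/
theorem exact_upTo_away_of_subset_freeLocus (B : Type u) [CommRing B] [Algebra A B] (f : A)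
    [IsLocalization.Away f B]
    (P : ChainComplex (ModuleCat.{u} A) ℤ) (hP : ∀ i, Module.Flat A (P.X i)) (i₀ : ℤ)
    (hb : ∀ i < i₀, IsZero (P.X i))
    (hfp : ∀ n : ℤ, Module.FinitePresentation A (CohIII.T P n (ModuleCat.of A A))) (N : ℤ)
    (hf : ∀ q, i₀ ≤ q → q ≤ N → (PrimeSpectrum.basicOpen f : Set (PrimeSpectrum A)) ⊆
      Module.freeLocus A (CohIII.T P q (ModuleCat.of A A))) :
    ∀ p ≤ N, (CohIII.TFun (CohIII.bcCx (algebraMap A B) P) p).PreservesMonomorphisms ∧
      (CohIII.TFun (CohIII.bcCx (algebraMap A B) P) p).PreservesEpimorphisms := by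
  have halg : (inferInstance : Algebra A B) = (algebraMap A B).toAlgebra :=
    Algebra.algebra_ext _ _ (fun r => rfl)
  haveI : Module.Flat A B := IsLocalization.flat B (Submonoid.powers f)
  have hPf : ∀ i, Module.Flat B ((CohIII.bcCx (algebraMap A B) P).X i) :=
    fun i => flat_bcCx_X (algebraMap A B) halg P hP i
  have hbf : ∀ i < i₀, IsZero ((CohIII.bcCx (algebraMap A B) P).X i) :=
    fun i hi => isZero_bcCx_X _ P i (hb i hi)
  refine TFun_exact_upTo_of_flat (CohIII.bcCx (algebraMap A B) P) hPf i₀ hbf N ?_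
  intro q hq
  show Module.Flat B (CohIII.T (CohIII.bcCx (algebraMap A B) P) q (ModuleCat.of B B))
  by_cases hq0 : i₀ ≤ q
  · obtain ⟨e⟩ := nonempty_T_bcCx_unit_equiv (algebraMap A B) halg P q
    rw [Module.Flat.equiv_iff e]
    haveI := hfp q
    haveI : Module.Projective B (B ⊗[A] CohIII.T P q (ModuleCat.of A A)) := by
      rw [← Module.freeLocus_eq_univ_iff, Set.eq_univ_iff_forall]
      intro y
      refine Module.comap_freeLocus_le (?_ : y ∈ PrimeSpectrum.comap (algebraMap A B) ⁻¹'
        Module.freeLocus A (CohIII.T P q (ModuleCat.of A A)))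
      refine hf q hq0 hq ?_
      show f ∉ (PrimeSpectrum.comap (algebraMap A B) y).asIdeal
      intro hmem
      have hu : IsUnit (algebraMap A B f) := IsLocalization.Away.algebraMap_isUnit f
      exact y.isPrime.ne_top (Ideal.eq_top_of_isUnit_mem _ hmem hu)
    exact Module.Flat.of_projective
  · rw [not_le] at hq0
    have hz := TFun_isZero_of_isZero (CohIII.bcCx (algebraMap A B) P) q (hbf q hq0)
      (ModuleCat.of B B)
    haveI : Subsingleton (CohIII.T (CohIII.bcCx (algebraMap A B) P) q (ModuleCat.of B B)) :=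
      ModuleCat.subsingleton_of_isZero hz
    haveI := Module.Free.of_subsingleton B
      (CohIII.T (CohIII.bcCx (algebraMap A B) P) q (ModuleCat.of B B))
    exact Module.Flat.of_free

theorem exists_away_exact_upTo_of_isDomain [IsDomain A]
    (P : ChainComplex (ModuleCat.{u} A) ℤ) (hP : ∀ i, Module.Flat A (P.X i)) (i₀ : ℤ)
    (hb : ∀ i < i₀, IsZero (P.X i))
    (hfp : ∀ n : ℤ, Module.FinitePresentation A (CohIII.T P n (ModuleCat.of A A))) (N : ℤ) :
    ∃ f : A, f ≠ 0 ∧ ∀ p ≤ N,
      (CohIII.TFun (CohIII.bcCx (algebraMap A (Localization.Away f)) P) p).PreservesMonomorphisms ∧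
        (CohIII.TFun (CohIII.bcCx (algebraMap A (Localization.Away f)) P)
          p).PreservesEpimorphisms := by
  let U : Set (PrimeSpectrum A) :=
    ⋂ q ∈ Finset.Icc i₀ N, Module.freeLocus A (CohIII.T P q (ModuleCat.of A A))
  have hUo : IsOpen U := isOpen_biInter_finset (fun q _ => by
    haveI := hfp q
    exact Module.isOpen_freeLocus)
  have hbot : (⟨⊥, Ideal.isPrime_bot⟩ : PrimeSpectrum A) ∈ U := by
    simp only [U, Set.mem_iInter]
    intro q _
    exact bot_mem_freeLocus _
  obtain ⟨_, ⟨f, rfl⟩, hxf, hfU⟩ :=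
    PrimeSpectrum.isTopologicalBasis_basic_opens.exists_subset_of_mem_open hbot hUo
  have hxf' : f ∉ (⊥ : Ideal A) := hxf
  refine ⟨f, ?_, exact_upTo_away_of_subset_freeLocus (Localization.Away f) f P hP i₀ hb hfp N
    (fun q h1 h2 => hfU.trans (Set.iInter₂_subset q (Finset.mem_Icc.mpr ⟨h1, h2⟩)))⟩
  intro h0
  exact hxf' (h0 ▸ Submodule.zero_mem _)

end away

section transfer
variable {A B : Type u} [CommRing A] [CommRing B] [Algebra A B]

lemma dRank_eventually_eq_of_isOpenEmbedding
    (hemb : Topology.IsOpenEmbedding (PrimeSpectrum.comap (algebraMap A B)))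
    (P : ChainComplex (ModuleCat.{u} A) ℤ) (p : ℤ) (x' : PrimeSpectrum B)
    (h : ∀ᶠ y' in nhds x', CohIII.dRank (CohIII.bcCx (algebraMap A B) P) p y' =
      CohIII.dRank (CohIII.bcCx (algebraMap A B) P) p x') :
    ∀ᶠ y in nhds (PrimeSpectrum.comap (algebraMap A B) x'),
      CohIII.dRank P p y = CohIII.dRank P p (PrimeSpectrum.comap (algebraMap A B) x') := by
  rw [← hemb.map_nhds_eq x', Filter.eventually_map]
  filter_upwards [h] with y' hy'
  rw [← dRank_baseChange, ← dRank_baseChange, hy']

end transfer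

section main
variable {A : Type u} [CommRing A]

theorem exists_dense_open_dRank_eventually_eq_of_isReduced [IsNoetherianRing A] [IsReduced A]
    (P : ChainComplex (ModuleCat.{u} A) ℤ) (hP : ∀ i, Module.Flat A (P.X i)) (i₀ : ℤ)
    (hb : ∀ i < i₀, IsZero (P.X i))
    (hfg : ∀ n : ℤ, Module.Finite A (CohIII.T P n (ModuleCat.of A A))) (N : ℤ) :
    ∃ U : Set (PrimeSpectrum A), IsOpen U ∧ Dense U ∧
      ∀ p ≤ N, ∀ x ∈ U, ∀ᶠ y in nhds x, CohIII.dRank P p y = CohIII.dRank P p x := by
  have hfp : ∀ n, Module.FinitePresentation A (CohIII.T P n (ModuleCat.of A A)) := fun n => by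
    haveI := hfg n
    exact Module.finitePresentation_of_finite A _
  let U : Set (PrimeSpectrum A) :=
    ⋂ q ∈ Finset.Icc i₀ N, Module.freeLocus A (CohIII.T P q (ModuleCat.of A A))
  have hUo : IsOpen U := isOpen_biInter_finset (fun q _ => by
    haveI := hfp q
    exact Module.isOpen_freeLocus)
  have hmin : ∀ η : PrimeSpectrum A, η.asIdeal ∈ minimalPrimes A → η ∈ U := by
    intro η hη
    simp only [U, Set.mem_iInter]
    intro q _
    haveI := hfg q
    refine Groth.Agent.Lib.Helper12.FibreRank.mem_freeLocus_of_fdim_eq _ η (fun z hz => ?_)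
    have hzη : z = η :=
      PrimeSpectrum.ext (le_antisymm (show z.asIdeal ≤ η.asIdeal from hz)
        (hη.2 ⟨z.isPrime, bot_le⟩ (show z.asIdeal ≤ η.asIdeal from hz)))
    rw [hzη]
  have hUd : Dense U := by
    rw [dense_iff_inter_open]
    rintro V hV ⟨x, hx⟩
    obtain ⟨p, hp, hpx⟩ := Ideal.exists_minimalPrimes_le (I := ⊥) (J := x.asIdeal) bot_le
    let η : PrimeSpectrum A := ⟨p, hp.1.1⟩
    have hspec : η ⤳ x := (PrimeSpectrum.le_iff_specializes η x).1 hpx
    exact ⟨η, hspec.mem_open hV hx, hmin η hp⟩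
  refine ⟨U, hUo, hUd, ?_⟩
  intro p hp x hx
  obtain ⟨_, ⟨f, rfl⟩, hxf, hfU⟩ :=
    PrimeSpectrum.isTopologicalBasis_basic_opens.exists_subset_of_mem_open hx hUo
  have hex := exact_upTo_away_of_subset_freeLocus (Localization.Away f) f P hP i₀ hb hfp N
    (fun q h1 h2 => hfU.trans (Set.iInter₂_subset q (Finset.mem_Icc.mpr ⟨h1, h2⟩)))
  have halg : (inferInstance : Algebra A (Localization.Away f)) =
      (algebraMap A (Localization.Away f)).toAlgebra :=
    Algebra.algebra_ext _ _ (fun r => rfl)
  haveI : Module.Flat A (Localization.Away f) :=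
    IsLocalization.flat (Localization.Away f) (Submonoid.powers f)
  have hPf : ∀ i, Module.Flat (Localization.Away f)
      ((CohIII.bcCx (algebraMap A (Localization.Away f)) P).X i) :=
    fun i => flat_bcCx_X _ halg P hP i
  have hfpB : Module.FinitePresentation (Localization.Away f)
      (CohIII.T (CohIII.bcCx (algebraMap A (Localization.Away f)) P) p
        (ModuleCat.of (Localization.Away f) (Localization.Away f))) := by
    obtain ⟨e⟩ := nonempty_T_bcCx_unit_equiv (algebraMap A (Localization.Away f)) halg P p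
    haveI := hfp p
    exact Module.FinitePresentation.of_equiv e.symm
  have hlc := dRank_locallyConstant_of_exact_of_fp
    (CohIII.bcCx (algebraMap A (Localization.Away f)) P) hPf p (hex p hp) hfpB
  have hemb := PrimeSpectrum.localization_away_isOpenEmbedding (Localization.Away f) f
  have hrange := PrimeSpectrum.localization_away_comap_range (Localization.Away f) f
  obtain ⟨x', rfl⟩ : x ∈ Set.range (PrimeSpectrum.comap (algebraMap A (Localization.Away f))) := by
    rw [hrange]
    exact hxf
  exact dRank_eventually_eq_of_isOpenEmbedding hemb P p x'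
    ((IsLocallyConstant.iff_eventually_eq _).mp hlc x')

theorem exists_dense_open_dRank_eventually_eq [IsNoetherianRing A]
    (P : ChainComplex (ModuleCat.{u} A) ℤ) (hP : ∀ i, Module.Flat A (P.X i)) (i₀ : ℤ)
    (hb : ∀ i < i₀, IsZero (P.X i))
    (hfg : ∀ n : ℤ, Module.Finite A (CohIII.T P n (ModuleCat.of A A))) (N : ℤ) :
    ∃ U : Set (PrimeSpectrum A), IsOpen U ∧ Dense U ∧
      ∀ p ≤ N, ∀ x ∈ U, ∀ᶠ y in nhds x, CohIII.dRank P p y = CohIII.dRank P p x := by
  have halg : (inferInstance : Algebra A (A ⧸ nilradical A)) =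
      (algebraMap A (A ⧸ nilradical A)).toAlgebra :=
    Algebra.algebra_ext _ _ (fun r => rfl)
  haveI : IsReduced (A ⧸ nilradical A) :=
    (Ideal.isRadical_iff_quotient_reduced (nilradical A)).mp (Ideal.radical_isRadical _)
  have hPB := fun i => flat_bcCx_X (algebraMap A (A ⧸ nilradical A)) halg P hP i
  have hbB : ∀ i < i₀, IsZero ((CohIII.bcCx (algebraMap A (A ⧸ nilradical A)) P).X i) :=
    fun i hi => isZero_bcCx_X _ P i (hb i hi)
  have hfgB : ∀ n, Module.Finite (A ⧸ nilradical A)
      (CohIII.T (CohIII.bcCx (algebraMap A (A ⧸ nilradical A)) P) n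
        (ModuleCat.of (A ⧸ nilradical A) (A ⧸ nilradical A))) := by
    intro n
    haveI : Module.Finite A ((ModuleCat.restrictScalars (algebraMap A (A ⧸ nilradical A))).obj
        (ModuleCat.of (A ⧸ nilradical A) (A ⧸ nilradical A))) := by
      let l : A →ₗ[A] ((ModuleCat.restrictScalars (algebraMap A (A ⧸ nilradical A))).obj
          (ModuleCat.of (A ⧸ nilradical A) (A ⧸ nilradical A))) :=
        LinearMap.toSpanSingleton A _ (1 : A ⧸ nilradical A)
      refine Module.Finite.of_surjective l ?_
      intro b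
      obtain ⟨a, rfl⟩ := Ideal.Quotient.mk_surjective (I := nilradical A) b
      refine ⟨a, ?_⟩
      show a • (1 : A ⧸ nilradical A) = _
      rw [Algebra.smul_def, mul_one]
      rfl
    haveI : Module.Finite A ((CohIII.TFun P n).obj
        ((ModuleCat.restrictScalars (algebraMap A (A ⧸ nilradical A))).obj
          (ModuleCat.of (A ⧸ nilradical A) (A ⧸ nilradical A)))) :=
      TFun_finite_of_bounded P hP i₀ hb hfg n _
    haveI : Module.Finite (A ⧸ nilradical A)
        ((CohIII.bcCx (algebraMap A (A ⧸ nilradical A)) P).homology n) :=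
      finite_of_semilinear_addEquiv (algebraMap A (A ⧸ nilradical A))
        (linkHEquiv (algebraMap A (A ⧸ nilradical A)) P n)
        (fun a m => linkHEquiv_smul (algebraMap A (A ⧸ nilradical A)) P n a m)
    exact Module.Finite.equiv
      (unitHomologyEquiv (CohIII.bcCx (algebraMap A (A ⧸ nilradical A)) P) n).symm
  obtain ⟨U', hU'o, hU'd, hU'⟩ := exists_dense_open_dRank_eventually_eq_of_isReduced
    (CohIII.bcCx (algebraMap A (A ⧸ nilradical A)) P) hPB i₀ hbB hfgB N
  have hhomeo : IsHomeomorph (PrimeSpectrum.comap (algebraMap A (A ⧸ nilradical A))) :=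
    PrimeSpectrum.isHomeomorph_comap _
      (fun x => ⟨1, one_pos, by
        rw [pow_one]
        exact Ideal.Quotient.mk_surjective x⟩)
      (by rw [Ideal.Quotient.algebraMap_eq, Ideal.mk_ker])
  refine ⟨PrimeSpectrum.comap (algebraMap A (A ⧸ nilradical A)) '' U',
    hhomeo.isOpenMap _ hU'o, ?_, ?_⟩
  · exact hhomeo.surjective.denseRange.dense_image hhomeo.continuous hU'd
  · rintro p hp _ ⟨x', hx', rfl⟩
    exact dRank_eventually_eq_of_isOpenEmbedding hhomeo.isOpenEmbedding P p x' (hU' p hp x' hx')

theorem exists_dense_open_dRank_locallyConstant_upTo [IsNoetherianRing A]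
    (P : ChainComplex (ModuleCat.{u} A) ℤ) (hP : ∀ i, Module.Flat A (P.X i)) (i₀ : ℤ)
    (hb : ∀ i < i₀, IsZero (P.X i))
    (hfg : ∀ n : ℤ, Module.Finite A (CohIII.T P n (ModuleCat.of A A))) (N : ℤ) :
    ∃ U : Set (PrimeSpectrum A), IsOpen U ∧ Dense U ∧
      ∀ p ≤ N, IsLocallyConstant (fun x : U => CohIII.dRank P p x) := by
  obtain ⟨U, hUo, hUd, hU⟩ := exists_dense_open_dRank_eventually_eq P hP i₀ hb hfg N
  refine ⟨U, hUo, hUd, fun p hp => ?_⟩
  rw [IsLocallyConstant.iff_eventually_eq]
  intro x
  have h := hU p hp x.1 x.2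
  rw [nhds_subtype_eq_comap]
  exact h.comap _

end main

end Groth.Agent.Lib.Helper7
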