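import Mathlib
import Groth.Prelude
import Groth.Agent.Lib.Helper7.EulerFib
import Groth.Agent.Lib.Helper7.Euler3325
import Groth.Agent.Lib.Helper7.FibFacG
import Groth.Agent.Lib.Helper1.ModelMult
import Groth.Agent.Lib.Helper13.StepSum

/-!
# Helper library (helper7): the genus formula `2g_C = 2 + Σ m_i (2(h¹_i - w_i) - Γ_i²)` on a regular
proper model.
-/

set_option autoImplicit false
set_option linter.unusedSectionVars false
set_option linter.unusedVariables false
set_option linter.style.haveILetI false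
universe u
open CategoryTheory CategoryTheory.Limits AlgebraicGeometry Opposite TopologicalSpace
open Scheme.Modules

namespace Groth.Agent.Lib.Helper7.Genus3321

open Groth.Agent.Lib.Helper3 Groth.Agent.Lib.Helper23
open Groth.Agent.Lib.Helper7.InterInv Groth.Agent.Lib.Helper7.Euler3325
open Groth.Agent.Lib.Helper17

variable {R : Type u} [CommRing R] [IsDomain R] [IsDiscreteValuationRing R]
  {X : Over (Spec (CommRingCat.of R))}

theorem length_quotMod_top_eq_zero (p : ℕ) :
    Module.length R (Coh.HH X.left (ClSub.quotMod (⊤ : X.left.IdealSheafData)) p) = 0 := by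
  have hemp : CohB1.support (ClSub.quotMod (⊤ : X.left.IdealSheafData)) = ∅ := by
    have h := DevTest.support_A (⊤ : X.left.IdealSheafData)
    rw [h, Scheme.IdealSheafData.support_top]
    rfl
  have hz : IsZero (ClSub.quotMod (⊤ : X.left.IdealSheafData)) :=
    DevBasic.isZero_of_support_eq_empty hemp
  haveI : Subsingleton (Coh.HH X.left (ClSub.quotMod (⊤ : X.left.IdealSheafData)) p) :=
    Groth.Agent.Lib.Helper23.T2.subsingleton_HHm_of_isZero hz p
  rw [Module.length_eq_zero_iff]
  infer_instance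

theorem subsingleton_H2_top :
    Subsingleton (Coh.HH X.left (ClSub.quotMod (⊤ : X.left.IdealSheafData)) 2) := by
  have h := length_quotMod_top_eq_zero (R := R) (X := X) 2
  rwa [Module.length_eq_zero_iff] at h

/-- one step for the vanishing of `H²`. -/
theorem H2_step (hproper : IsProper X.hom) (Γ : ArSurf.VertComp R X)
    (D : X.left.IdealSheafData) (hJ : PicF.IsInvertible (ClSub.idealMod Γ.ι.ker))
    (hD : PicF.IsInvertible (ClSub.idealMod D))
    (h : Subsingleton (Coh.HH X.left (ClSub.quotMod D) 2)) :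
    Subsingleton (Coh.HH X.left (ClSub.quotMod (Γ.ι.ker * D)) 2) := by
  obtain ⟨f, g, w, hS⟩ := Groth.Agent.Lib.Helper7.QuotMulSeq.exists_shortExact_quot_mul hJ hD
  haveI := subsingleton_H2_K hproper Γ _ hD
  refine ⟨fun x y => ?_⟩
  have key : ∀ z : Coh.HH X.left (ClSub.quotMod (Γ.ι.ker * D)) 2, z = 0 := by
    intro z
    obtain ⟨t, ht⟩ := T2.exact₂ (ShortComplex.mk f g w) hS 2 z (Subsingleton.elim _ _)
    rw [← ht, Subsingleton.elim t 0, map_zero]
  rw [key x, key y]

section

variable (R X)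
variable (hproper : IsProper X.hom) [Flat X.hom]
  (hreg : ∀ x : X.left, IsRegularLocalRing (X.left.presheaf.stalk x))
  {n : ℕ} (Γ : Fin n → ArSurf.VertComp R X) (hΓ : Models.IsComponentList R X Γ)
  (L : Fin n → X.left.Modules)
  (hL : ∀ j, ClSub.IsInverseOf (L j) (ClSub.idealMod (Γ j).ι.ker))

include hproper hreg hΓ in
theorem subsingleton_H2_quotMod_prod (a : Fin n → ℕ) :
    Subsingleton (Coh.HH X.left (ClSub.quotMod (∏ j, (Γ j).ι.ker ^ a j)) 2) := by
  have hInv := Groth.Agent.Lib.Helper7.MTwB.isInvertible_ker R X hproper hreg Γ hΓ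
  have key : ∀ (m : ℕ) (a : Fin n → ℕ), ∑ j, a j = m →
      Subsingleton (Coh.HH X.left (ClSub.quotMod (∏ j, (Γ j).ι.ker ^ a j)) 2) := by
    intro m
    induction m with
    | zero =>
      intro a ha
      have h0 : ∀ j, a j = 0 := fun j =>
        (Finset.sum_eq_zero_iff.mp ha) j (Finset.mem_univ j)
      have h1 : ∏ j, (Γ j).ι.ker ^ a j = (⊤ : X.left.IdealSheafData) := by
        rw [Finset.prod_eq_one (fun j _ => by rw [h0 j, pow_zero]),
          Scheme.IdealSheafData.one_eq_top]
      rw [h1]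
      exact subsingleton_H2_top
    | succ m ih =>
      intro a ha
      have hex : ∃ i, a i ≠ 0 := by
        by_contra hne
        push_neg at hne
        have : ∑ j, a j = 0 := Finset.sum_eq_zero (fun j _ => hne j)
        omega
      obtain ⟨i, hi⟩ := hex
      set a' : Fin n → ℕ := Function.update a i (a i - 1) with ha'
      have haa : a = fun j => a' j + if j = i then 1 else 0 := by
        funext j
        by_cases hj : j = i
        · subst hj
          rw [ha', Function.update_self, if_pos rfl]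
          omega
        · rw [ha', Function.update_of_ne hj, if_neg hj, add_zero]
      have hsum : ∑ j, a' j = m := by
        have h1 : ∑ j, a j = ∑ j, a' j + ∑ j, (if j = i then 1 else 0) := by
          rw [← Finset.sum_add_distrib]
          exact Finset.sum_congr rfl (fun j _ => congrFun haa j)
        rw [Finset.sum_ite_eq' Finset.univ i (fun _ => 1), if_pos (Finset.mem_univ i)] at h1
        omega
      have hI := (Groth.Agent.Lib.Helper7.MTwA.cl_idealMod_prod Finset.univ
        (fun j => (Γ j).ι.ker) a' hInv).1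
      have hstep := H2_step hproper (Γ i) (∏ j, (Γ j).ι.ker ^ a' j) (hInv i) hI (ih a' hsum)
      have hprod : ∏ j, (Γ j).ι.ker ^ a j =
          (Γ i).ι.ker * ∏ j, (Γ j).ι.ker ^ a' j := by
        rw [← prod_pow_add_ite (fun j => (Γ j).ι.ker) a' i]
        exact Finset.prod_congr rfl (fun j _ => by rw [congrFun haa j])
      rw [hprod]
      exact hstep
  exact key _ a rfl

include hproper hreg hΓ hL in
/-- `2χ(O_{Σ a_jΓ_j}) = Σ a_i (2χ(O_{Γ_i}) + Γ_i²) - Σ_{i,j} a_i a_j (Γ_i·Γ_j)`. -/
theorem two_chi_prod (a : Fin n → ℕ) :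
    2 * ((Models.lengthH R X (ClSub.quotMod (∏ j, (Γ j).ι.ker ^ a j)) 0 : ℤ) -
        (Models.lengthH R X (ClSub.quotMod (∏ j, (Γ j).ι.ker ^ a j)) 1 : ℤ)) =
      ∑ i, (a i : ℤ) * (2 * ((Models.wdeg R X (Γ i) : ℤ) - (Models.h1 R X (Γ i) : ℤ)) +
        ArSurf.inter R X (L i) (Γ i)) -
      ∑ i, ∑ j, (a i : ℤ) * (a j : ℤ) * ArSurf.inter R X (L i) (Γ j) := by
  refine Groth.Agent.Lib.Helper13.StepSum.two_mul_eq_of_step
    (fun i j => ArSurf.inter R X (L i) (Γ j))
    (fun i j => (Groth.Agent.Lib.Helper7.IntLenE.inter_symm R X hproper hreg Γ hΓ L hL j i))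
    (fun i => (Models.wdeg R X (Γ i) : ℤ) - (Models.h1 R X (Γ i) : ℤ))
    (fun a => (Models.lengthH R X (ClSub.quotMod (∏ j, (Γ j).ι.ker ^ a j)) 0 : ℤ) -
        (Models.lengthH R X (ClSub.quotMod (∏ j, (Γ j).ι.ker ^ a j)) 1 : ℤ)) ?_ ?_ a
  · have h1 : ∏ j : Fin n, (Γ j).ι.ker ^ (0 : ℕ) = (⊤ : X.left.IdealSheafData) := by
      rw [Finset.prod_eq_one (fun j _ => pow_zero _), Scheme.IdealSheafData.one_eq_top]
    change (Models.lengthH R X (ClSub.quotMod (∏ j : Fin n, (Γ j).ι.ker ^ (0 : ℕ))) 0 : ℤ) -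
        (Models.lengthH R X (ClSub.quotMod (∏ j : Fin n, (Γ j).ι.ker ^ (0 : ℕ))) 1 : ℤ) = 0
    rw [h1]
    unfold Models.lengthH
    rw [length_quotMod_top_eq_zero, length_quotMod_top_eq_zero]
    simp
  · intro a i
    exact Groth.Agent.Lib.Helper7.Euler3325.main R X hproper hreg Γ hΓ L hL a i

include hproper hreg hΓ hL in
/-- **the genus formula.** -/
theorem main3321 {C : Scheme.{u}} (f : C ⟶ Spec (CommRingCat.of (FractionRing R)))
    (g : C ⟶ X.left)
    (hsq : IsPullback g f X.hom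
      (Spec.map (CommRingCat.ofHom (algebraMap R (FractionRing R)))))
    (hH0 : IsIso f.appTop) :
    2 * (Models.curveGenus (FractionRing R) C f : ℤ) =
      2 + ∑ i, (Models.mult R X (Γ i) : ℤ) *
        (2 * ((Models.h1 R X (Γ i) : ℤ) - (Models.wdeg R X (Γ i) : ℤ)) -
          ArSurf.inter R X (L i) (Γ i)) := by
  haveI := hproper
  haveI : IsLocallyNoetherian X.left := LocallyOfFiniteType.isLocallyNoetherian X.hom
  haveI : CompactSpace X.left := QuasiCompact.compactSpace_of_compactSpace X.hom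
  haveI : IsNoetherian X.left := {}
  haveI : IsProper (X.left ↘ Spec (CommRingCat.of R)) := hproper
  haveI : Flat (X.left ↘ Spec (CommRingCat.of R)) := ‹Flat X.hom›
  obtain ⟨ϖ, hϖ⟩ := IsDiscreteValuationRing.exists_irreducible R
  have hm : IsLocalRing.maximalIdeal R = Ideal.span {ϖ} := hϖ.maximalIdeal_eq
  obtain ⟨-, hprod⟩ := Groth.Agent.Lib.Helper1.ModelMult.specialFibreIdeal_eq_prod R X hreg Γ hΓ
  have hsf : Models.specialFibreIdeal R X =
      Groth.Agent.Lib.Helper17.CohFlatDVR.pbIdeal R X.left (Ideal.span {ϖ}) := by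
    unfold Models.specialFibreIdeal Groth.Agent.Lib.Helper17.CohFlatDVR.pbIdeal
    rw [hm]
    rfl
  have hpb : ∏ i, (Γ i).ι.ker ^ Models.mult R X (Γ i) =
      Groth.Agent.Lib.Helper17.CohFlatDVR.pbIdeal R X.left (Ideal.span {ϖ}) := by
    rw [← hprod, hsf]
  have hfin := length_quotMod_prod_ne_top R X hproper hreg Γ hΓ
    (fun i => Models.mult R X (Γ i)) 0
  have hQ2 := subsingleton_H2_quotMod_prod R X hproper hreg Γ hΓ
    (fun i => Models.mult R X (Γ i))
  have h2 := two_chi_prod R X hproper hreg Γ hΓ L hL (fun i => Models.mult R X (Γ i))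
  rw [hpb] at hfin hQ2 h2
  have hchi := Groth.Agent.Lib.Helper7.EulerFib.chi_specialFibre R X.left f g hsq hH0 ϖ hϖ hfin hQ2
  have hF : (Models.lengthH R X (ClSub.quotMod
        (Groth.Agent.Lib.Helper17.CohFlatDVR.pbIdeal R X.left (Ideal.span {ϖ}))) 0 : ℤ) -
      (Models.lengthH R X (ClSub.quotMod
        (Groth.Agent.Lib.Helper17.CohFlatDVR.pbIdeal R X.left (Ideal.span {ϖ}))) 1 : ℤ) =
      1 - (Models.curveGenus (FractionRing R) C f : ℤ) := hchi
  rw [hF] at h2
  have hzero : ∑ i, ∑ j, (Models.mult R X (Γ i) : ℤ) * (Models.mult R X (Γ j) : ℤ) *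
      ArSurf.inter R X (L i) (Γ j) = 0 := by
    refine Finset.sum_eq_zero (fun i _ => ?_)
    have h := Groth.Agent.Lib.Helper7.FibFacG.main3318 R X hproper hreg Γ hΓ L hL i
    have h' : ∑ j, (Models.mult R X (Γ i) : ℤ) * (Models.mult R X (Γ j) : ℤ) *
        ArSurf.inter R X (L i) (Γ j) =
        (Models.mult R X (Γ i) : ℤ) *
          ∑ j, (Models.mult R X (Γ j) : ℤ) * ArSurf.inter R X (L i) (Γ j) := by
      rw [Finset.mul_sum]
      exact Finset.sum_congr rfl (fun j _ => by ring)
    rw [h', h, mul_zero]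
  rw [hzero, sub_zero] at h2
  have hneg : ∑ i, (Models.mult R X (Γ i) : ℤ) *
        (2 * ((Models.h1 R X (Γ i) : ℤ) - (Models.wdeg R X (Γ i) : ℤ)) -
          ArSurf.inter R X (L i) (Γ i)) =
      - ∑ i, (Models.mult R X (Γ i) : ℤ) *
        (2 * ((Models.wdeg R X (Γ i) : ℤ) - (Models.h1 R X (Γ i) : ℤ)) +
          ArSurf.inter R X (L i) (Γ i)) := by
    rw [← Finset.sum_neg_distrib]
    exact Finset.sum_congr rfl (fun i _ => by ring)
  rw [hneg]
  linarith

end

end Groth.Agent.Lib.Helper7.Genus3321
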