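import Mathlib
import Groth.Prelude
import Groth.Agent.Lib.Helper7.GrAlphaGen

/-!
# Global sections of `M(k+e)~` are generated by `A_e · Γ(M(k)~)` for `k` large
-/

set_option autoImplicit false
set_option linter.unusedSectionVars false
set_option linter.style.haveILetI false
universe u
open CategoryTheory CategoryTheory.Limits AlgebraicGeometry TopologicalSpace Opposite
open Scheme.Modules
open scoped HomogeneousIdeal

noncomputable section

namespace Groth.Agent.Lib.Helper7.GrAlphaIter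

open Groth.Agent.Lib.Helper3 Groth.Agent.Lib.Helper7.GrAlphaMul
open QCSec TwistBasic GrTildeQC

variable {R A : Type u} [CommRing R] [CommRing A] [Algebra R A] {𝒜 : ℕ → Submodule R A}
  [GradedAlgebra 𝒜] {M : Type u} [AddCommGroup M] [Module R M] [Module A M]
  {ℳ : ℕ → Submodule R M} [SetLike.GradedSMul 𝒜 ℳ]

/-- the set of products `a · u`, `a ∈ A_e`, `u ∈ Γ(M(k)~)` -/
def prods (ℳ : ℕ → Submodule R M) [SetLike.GradedSMul 𝒜 ℳ] (e : ℕ) (k q : ℤ)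
    (hq : (e : ℤ) + k = q) : Set Γ(GrTilde.tilde 𝒜 ℳ q, (⊤ : (Proj 𝒜).Opens)) :=
  {s | ∃ (a : A) (ha : a ∈ 𝒜 e) (u : Γ(GrTilde.tilde 𝒜 ℳ k, (⊤ : (Proj 𝒜).Opens))),
    s = mulSec ha hq u}

theorem mulSec_add' {d : ℕ} {a : A} (ha : a ∈ 𝒜 d) {p q : ℤ} (hq : (d : ℤ) + p = q)
    (s s' : Γ(GrTilde.tilde 𝒜 ℳ p, (⊤ : (Proj 𝒜).Opens))) :
    mulSec ha hq (s + s') = mulSec ha hq s + mulSec ha hq s' :=
  mval_ext fun x => by
    rw [mval_add, mval_mulSec, mval_mulSec, mval_mulSec, mval_add, smul_add]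

theorem mulSec_zero' {d : ℕ} {a : A} (ha : a ∈ 𝒜 d) {p q : ℤ} (hq : (d : ℤ) + p = q) :
    mulSec ha hq (0 : Γ(GrTilde.tilde 𝒜 ℳ p, (⊤ : (Proj 𝒜).Opens))) = 0 :=
  mval_ext fun x => by
    rw [mval_mulSec, mval_zero, mval_zero, smul_zero]

theorem mulSec_neg' {d : ℕ} {a : A} (ha : a ∈ 𝒜 d) {p q : ℤ} (hq : (d : ℤ) + p = q)
    (s : Γ(GrTilde.tilde 𝒜 ℳ p, (⊤ : (Proj 𝒜).Opens))) :
    mulSec ha hq (-s) = -mulSec ha hq s := by
  have h := mulSec_add' (ℳ := ℳ) ha hq s (-s)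
  rw [add_neg_cancel, mulSec_zero'] at h
  exact (neg_eq_of_add_eq_zero_right h.symm).symm

theorem mulSec_mulSec {d d' : ℕ} {a a' : A} (ha : a ∈ 𝒜 d) (ha' : a' ∈ 𝒜 d') {p q q' : ℤ}
    (hq : (d' : ℤ) + p = q) (hq' : (d : ℤ) + q = q') (hm : a * a' ∈ 𝒜 (d + d'))
    (hqq : ((d + d' : ℕ) : ℤ) + p = q')
    (s : Γ(GrTilde.tilde 𝒜 ℳ p, (⊤ : (Proj 𝒜).Opens))) :
    mulSec ha hq' (mulSec ha' hq s) = mulSec hm hqq s :=
  mval_ext fun x => by
    rw [mval_mulSec, mval_mulSec, mval_mulSec, ← mul_smul, Localization.mk_mul, one_mul]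

variable {r : ℕ} (f : Fin r → A) (hf1 : ∀ i, f i ∈ 𝒜 1)
  (hcov : ∀ x : Proj 𝒜, ∃ i, x ∈ Proj.basicOpen 𝒜 (f i))

include hf1 hcov in
theorem exists_iter [IsNoetherianRing A] [DirectSum.Decomposition ℳ]
    (hTF : ∃ n : ℕ, (Submodule.span A (⋃ k ∈ Set.Ici n, (ℳ k : Set M))).FG) :
    ∃ k : ℕ, ∀ (e : ℕ) (q : ℤ) (hq : (e : ℤ) + (k : ℤ) = q)
      (t : Γ(GrTilde.tilde 𝒜 ℳ q, (⊤ : (Proj 𝒜).Opens))),
      t ∈ AddSubgroup.closure (prods ℳ e (k : ℤ) q hq) := by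
  classical
  obtain ⟨k, hk⟩ := GrAlphaGen.exists_gen (ℳ := ℳ) f hf1 hcov hTF
  refine ⟨k, fun e => ?_⟩
  induction e with
  | zero =>
    intro q hq t
    have hqk : q = (k : ℤ) := by rw [← hq]; simp
    let u : Γ(GrTilde.tilde 𝒜 ℳ (k : ℤ), (⊤ : (Proj 𝒜).Opens)) :=
      mkMSec ℳ (k : ℤ) ⊤ (fun x => mval t x) ((isLocMFrac_mval t).cast hqk)
    refine AddSubgroup.subset_closure ⟨1, SetLike.GradedOne.one_mem, u, ?_⟩
    refine mval_ext fun x => ?_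
    rw [mval_mulSec, mval_mkMSec, Localization.mk_one, one_smul]
  | succ e ih =>
    intro q hq t
    have hq1 : ((1 : ℕ) : ℤ) + ((k + e : ℕ) : ℤ) = q := by rw [← hq]; push_cast; ring
    obtain ⟨u, hu⟩ := hk (k + e) (Nat.le_add_right k e) q hq1 t
    rw [hu]
    refine AddSubgroup.sum_mem _ (fun i _ => ?_)
    have hqe : (e : ℤ) + (k : ℤ) = ((k + e : ℕ) : ℤ) := by push_cast; ring
    have hui := ih ((k + e : ℕ) : ℤ) hqe (u i)
    have key : ∀ w ∈ AddSubgroup.closure (prods ℳ e (k : ℤ) ((k + e : ℕ) : ℤ) hqe),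
        mulSec (hf1 i) hq1 w ∈ AddSubgroup.closure (prods ℳ (e + 1) (k : ℤ) q hq) := by
      intro w hw
      induction hw using AddSubgroup.closure_induction with
      | mem s hs =>
        obtain ⟨a, ha, w, rfl⟩ := hs
        have hm : f i * a ∈ 𝒜 (1 + e) := SetLike.mul_mem_graded (hf1 i) ha
        have hm' : f i * a ∈ 𝒜 (e + 1) := by rwa [add_comm] at hm
        refine AddSubgroup.subset_closure ⟨f i * a, hm', w, ?_⟩
        refine mval_ext fun x => ?_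
        rw [mval_mulSec, mval_mulSec, mval_mulSec, ← mul_smul, Localization.mk_mul, one_mul]
      | zero => rw [mulSec_zero']; exact zero_mem _
      | add s s' _ _ hs hs' => rw [mulSec_add']; exact add_mem hs hs'
      | neg s _ hs => rw [mulSec_neg']; exact neg_mem hs
    exact key _ hui

include hf1 hcov in
/-- the same statement in the language of `GrMod` -/
theorem exists_iter_grMod [IsNoetherianRing A] [DirectSum.Decomposition ℳ]
    (hTF : ∃ n : ℕ, (Submodule.span A (⋃ k ∈ Set.Ici n, (ℳ k : Set M))).FG) :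
    ∃ k : ℕ, ∀ e : ℕ,
      (⨆ a : 𝒜 e, (GrMod.smulSect 𝒜 ℳ a (k : ℤ)
        (op (⊤ : Opens (ProjectiveSpectrum.top 𝒜)))).range) = ⊤ := by
  obtain ⟨k, hk⟩ := exists_iter (ℳ := ℳ) f hf1 hcov hTF
  refine ⟨k, fun e => ?_⟩
  rw [eq_top_iff]
  intro t _
  have key : ∀ t' ∈ AddSubgroup.closure
      (prods ℳ e (k : ℤ) ((k : ℤ) + (e : ℤ)) (add_comm _ _)),
      (show GrMod.sect 𝒜 ℳ ((k : ℤ) + (e : ℤ)) (op ⊤) from t') ∈
        (⨆ a : 𝒜 e, (GrMod.smulSect 𝒜 ℳ a (k : ℤ)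
          (op (⊤ : Opens (ProjectiveSpectrum.top 𝒜)))).range) := by
    intro t' ht'
    induction ht' using AddSubgroup.closure_induction with
    | mem s hs =>
      obtain ⟨a, ha, u, rfl⟩ := hs
      exact AddSubgroup.mem_iSup_of_mem (⟨a, ha⟩ : 𝒜 e) ⟨u, rfl⟩
    | zero => exact zero_mem _
    | add x y _ _ hx hy => exact add_mem hx hy
    | neg x _ hx => exact neg_mem hx
  exact key _ (hk e ((k : ℤ) + (e : ℤ)) (add_comm _ _) t)

end Groth.Agent.Lib.Helper7.GrAlphaIter
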