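import Mathlib
import Groth.Prelude
import Groth.Agent.Lib.Helper7.GrAlphaMain
import Groth.Agent.Lib.Helper7.ProjSerre
import Groth.Agent.Lib.Helper7.TwFun
import Groth.Agent.Lib.Helper3.GrTildeTwist

/-!
# `length_A H⁰(Proj S, M(n)~) = length_A M_n` and `χ(M(n)~) = length M_n` for large `n`
-/

set_option autoImplicit false
set_option linter.unusedSectionVars false
set_option linter.style.haveILetI false
universe u
open CategoryTheory CategoryTheory.Limits AlgebraicGeometry TopologicalSpace Opposite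
open Scheme.Modules
open scoped HomogeneousIdeal

noncomputable section

namespace Groth.Agent.Lib.Helper7.GrAlphaLen

open Groth.Agent.Lib.Helper3 Groth.Agent.Lib.Helper7.GrAlphaMul
open QCSec TwistBasic GrTildeQC GrTildeTwist

variable {A S : Type u} [CommRing A] [CommRing S] [Algebra A S] (𝒜 : ℕ → Submodule A S)
  [GradedAlgebra 𝒜]

theorem toGlobal_over (a : A) :
    Coh.toGlobal ((Proj 𝒜) ↘ Spec (CommRingCat.of A)) a =
      GrAlphaFin.gfun 𝒜 (algebraMap A (𝒜 0) a) := by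
  change ((Proj.toSpecZero 𝒜 ≫ Spec.map (CommRingCat.ofHom (algebraMap A (𝒜 0)))).appTop).hom
      ((Scheme.ΓSpecIso (CommRingCat.of A)).inv.hom a) =
    ((Proj.toSpecZero 𝒜).appTop).hom
      ((Scheme.ΓSpecIso (CommRingCat.of (𝒜 0))).inv.hom (algebraMap A (𝒜 0) a))
  rw [Scheme.Hom.comp_appTop]
  have h := Scheme.ΓSpecIso_inv_naturality (CommRingCat.ofHom (algebraMap A (𝒜 0)))
  have h2 := congrArg (fun φ => φ.hom a) h
  simp only [CommRingCat.hom_comp, RingHom.coe_comp, Function.comp_apply,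
    CommRingCat.hom_ofHom] at h2
  rw [h2]
  rfl

variable {𝒜}

/-- `H⁰(X, F) ≃+ Γ(X, F)` -/
def h0Equiv (F : (Proj 𝒜).Modules) : Coh.HH (Proj 𝒜) F 0 ≃+ Γ(F, (⊤ : (Proj 𝒜).Opens)) :=
  Sheaf.H.equiv₀ (Coh.toAb F) (isTerminalTop : IsTerminal (⊤ : (Proj 𝒜).Opens))

theorem h0Equiv_smul (F : (Proj 𝒜).Modules) (r : Coh.Γtop (Proj 𝒜))
    (x : Coh.HH (Proj 𝒜) F 0) :
    h0Equiv F (r • x) = (show Γ(Proj 𝒜, (⊤ : (Proj 𝒜).Opens)) from r) • h0Equiv F x := by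
  have hT : IsTerminal (⊤ : (Proj 𝒜).Opens) := isTerminalTop
  have h1 := Sheaf.H.equiv₀_naturality hT (Coh.smulAb F r) x
  change Sheaf.H.equiv₀ (Coh.toAb F) hT (Sheaf.H.map (Coh.smulAb F r) 0 x) = _
  rw [← h1]
  change (Coh.resTop (Proj 𝒜) (op ⊤) r •
    (show F.val.obj (op ⊤) from Sheaf.H.equiv₀ (Coh.toAb F) hT x) : F.val.obj (op ⊤)) = _
  have h2 : Coh.resTop (Proj 𝒜) (op ⊤) r = r := by
    change ((Proj 𝒜).ringCatSheaf.obj.map (𝟙 (op ⊤))).hom r = r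
    rw [CategoryTheory.Functor.map_id]
    rfl
  rw [h2]
  rfl

variable {M : Type u} [AddCommGroup M] [Module A M] [Module S M] [IsScalarTower A S M]
  {ℳ : ℕ → Submodule A M} [SetLike.GradedSMul 𝒜 ℳ]

theorem smul_gsec {n : ℕ} (a : A) (m : ℳ n) :
    GrAlphaFin.gfun 𝒜 (algebraMap A (𝒜 0) a) • gsec (𝒜 := 𝒜) m = gsec (𝒜 := 𝒜) (a • m) := by
  refine mval_ext fun x => ?_
  rw [mval_smul, GrAlphaFin.fval_gfun, mval_gsec, mval_gsec, LocalizedModule.mk_smul_mk, one_mul]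
  congr 1
  change (algebraMap A S a) • (m : M) = a • (m : M)
  rw [algebraMap_smul]

theorem gsec_add {n : ℕ} (m m' : ℳ n) :
    gsec (𝒜 := 𝒜) (m + m') = gsec (𝒜 := 𝒜) m + gsec (𝒜 := 𝒜) m' :=
  (GrMod.alpha 𝒜 ℳ n).map_add m m'

/-- the `A`-linear map `M_n → H⁰(Proj S, M(n)~)` -/
def toH0 (n : ℕ) : ℳ n →ₗ[A] Coh.HH (Proj 𝒜) (GrTilde.tilde 𝒜 ℳ (n : ℤ)) 0 where
  toFun m := (h0Equiv (GrTilde.tilde 𝒜 ℳ (n : ℤ))).symm (gsec (𝒜 := 𝒜) m)
  map_add' m m' := by rw [gsec_add, map_add]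
  map_smul' a m := by
    apply (h0Equiv (GrTilde.tilde 𝒜 ℳ (n : ℤ))).injective
    rw [AddEquiv.apply_symm_apply, RingHom.id_apply]
    change _ = h0Equiv (GrTilde.tilde 𝒜 ℳ (n : ℤ))
      ((Coh.toGlobal ((Proj 𝒜) ↘ Spec (CommRingCat.of A)) a) •
        (h0Equiv (GrTilde.tilde 𝒜 ℳ (n : ℤ))).symm (gsec (𝒜 := 𝒜) m))
    rw [h0Equiv_smul, AddEquiv.apply_symm_apply, toGlobal_over]
    exact (smul_gsec a m).symm

theorem length_H0_eq (n : ℕ)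
    (hbij : Function.Bijective (fun m : ℳ n => GrTilde.globalOf 𝒜 ℳ m)) :
    Module.length A (Coh.HH (Proj 𝒜) (GrTilde.tilde 𝒜 ℳ (n : ℤ)) 0) =
      Module.length A (ℳ n) := by
  have hφ : Function.Bijective (toH0 (𝒜 := 𝒜) (ℳ := ℳ) n) :=
    (h0Equiv (GrTilde.tilde 𝒜 ℳ (n : ℤ))).symm.bijective.comp hbij
  exact (LinearEquiv.ofBijective _ hφ).length_eq.symm

variable {r' : ℕ} (f : Fin r' → S) (hf1 : ∀ i, f i ∈ 𝒜 1)
  (hirr : (HomogeneousIdeal.irrelevant 𝒜).toIdeal ≤ Ideal.span (Set.range f))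

include hf1 hirr in
theorem exists_vanishing [IsNoetherianRing S] [DirectSum.Decomposition ℳ]
    (hTF : ∃ n : ℕ, (Submodule.span S (⋃ k ∈ Set.Ici n, (ℳ k : Set M))).FG) :
    ∃ N : ℕ, ∀ n : ℕ, N ≤ n → ∀ p : ℕ, 0 < p →
      Subsingleton (Coh.HH (Proj 𝒜) (GrTilde.tilde 𝒜 ℳ (n : ℤ)) p) := by
  have hcov : ∀ x : Proj 𝒜, ∃ i, x ∈ Proj.basicOpen 𝒜 (f i) :=
    TwistProj.exists_mem_basicOpen_of_span f hirr
  have hcoh := GrAlphaGen.isCoh_tilde (ℳ := ℳ) f hf1 hcov hTF 0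
  obtain ⟨d₀, hd₀⟩ := ProjSerre.serre_vanishing 𝒜 _ hcoh
  refine ⟨d₀.toNat, fun n hn p hp => ?_⟩
  have hle : d₀ ≤ (n : ℤ) := by
    have := Int.self_le_toNat d₀
    omega
  have h1 := hd₀ (n : ℤ) hle p hp
  exact TwFun.subsingleton_HH_of_iso
    (mmulIso (ℳ := ℳ) (add_zero (n : ℤ)) ((GrAlphaGen.hU f hf1 hcov) (n : ℤ))).symm p h1

include hf1 hirr in
/-- `χ(M(n)~) = length M_n` for large `n` -/
theorem exists_euler_eq [IsNoetherianRing S] [DirectSum.Decomposition ℳ]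
    (hTF : ∃ n : ℕ, (Submodule.span S (⋃ k ∈ Set.Ici n, (ℳ k : Set M))).FG) (r : ℕ) :
    ∃ N : ℕ, ∀ n : ℕ, N ≤ n →
      ((Finset.range (r + 1)).sum fun j => (-1 : ℤ) ^ j *
          ((Module.length A (Coh.HH (Proj 𝒜) (GrTilde.tilde 𝒜 ℳ (n : ℤ)) j)).toNat : ℤ)) =
        ((Module.length A ↥(ℳ n)).toNat : ℤ) := by
  obtain ⟨N₁, h₁⟩ := exists_vanishing (ℳ := ℳ) f hf1 hirr hTF
  obtain ⟨N₂, h₂⟩ := GrAlphaMain.exists_bijective (ℳ := ℳ) f hf1 hirr hTF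
  refine ⟨max N₁ N₂, fun n hn => ?_⟩
  rw [Finset.sum_range_succ']
  have hz : ∀ j ∈ Finset.range r, (-1 : ℤ) ^ (j + 1) *
      ((Module.length A (Coh.HH (Proj 𝒜) (GrTilde.tilde 𝒜 ℳ (n : ℤ)) (j + 1))).toNat : ℤ) = 0 := by
    intro j _
    haveI := h₁ n (le_trans (le_max_left _ _) hn) (j + 1) (by omega)
    rw [Module.length_eq_zero]
    simp
  rw [Finset.sum_eq_zero hz, zero_add, pow_zero, one_mul,
    length_H0_eq n (h₂ n (le_trans (le_max_right _ _) hn))]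

end Groth.Agent.Lib.Helper7.GrAlphaLen
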