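import Mathlib
import Groth.Prelude
import Groth.Agent.Lib.Helper3.GrModComap

/-!
# Bridge from gradings by general additive subgroups to gradings by `ℤ`-submodules

For `𝒜 : ℕ → σ` a grading of `A` by additive subgroups (`SetLike σ A`), `toZ 𝒜 i` is the same
piece viewed as a `ULift ℤ`-submodule (`ULift` for universe reasons).  The identity is a graded ring homomorphism
`𝒜 →+*ᵍ toZ 𝒜`, and `GrMod.comap` along it identifies `M(n)~` on `Proj 𝒜` with the direct image
of `M(n)~` on `Proj (toZ 𝒜)`.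
-/

set_option autoImplicit false
set_option linter.unusedSectionVars false
universe u
open CategoryTheory CategoryTheory.Limits AlgebraicGeometry TopologicalSpace Opposite
open Scheme.Modules
open scoped HomogeneousIdeal

noncomputable section

namespace Groth.Agent.Lib.Helper7.GrModBridge

open Groth.Agent.Lib.Helper3

section pieces

variable {M τ : Type u} [AddCommGroup M] [SetLike τ M] [AddSubgroupClass τ M]

theorem ulift_smul_mem {S : τ} (c : ULift.{u} ℤ) {x : M} (hx : x ∈ S) : c • x ∈ S := by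
  change c.down • x ∈ S
  exact zsmul_mem hx _

/-- the `ULift ℤ`-submodule grading attached to a grading by additive subgroups -/
def toZ (ℳ : ℕ → τ) (i : ℕ) : Submodule (ULift.{u} ℤ) M where
  carrier := (ℳ i : Set M)
  add_mem' := fun ha hb => add_mem ha hb
  zero_mem' := zero_mem (ℳ i)
  smul_mem' := fun c x hx => SetLike.mem_coe.mpr (ulift_smul_mem c (SetLike.mem_coe.mp hx))

theorem mem_toZ {ℳ : ℕ → τ} {i : ℕ} {m : M} : m ∈ toZ ℳ i ↔ m ∈ ℳ i := Iff.rfl

theorem coe_toZ (ℳ : ℕ → τ) (i : ℕ) : (toZ ℳ i : Set M) = (ℳ i : Set M) := rfl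

/-- inclusion of pieces -/
def incl (ℳ : ℕ → τ) (i : ℕ) : ℳ i →+ toZ ℳ i where
  toFun x := ⟨x.1, x.2⟩
  map_zero' := rfl
  map_add' _ _ := rfl

theorem coe_map_incl (ℳ : ℕ → τ) (x : DirectSum ℕ fun i => ℳ i) :
    DirectSum.coeAddMonoidHom (toZ ℳ) (DirectSum.map (incl ℳ) x) =
      DirectSum.coeAddMonoidHom ℳ x := by
  classical
  induction x using DirectSum.induction_on with
  | zero => rw [map_zero, map_zero, map_zero]
  | of i y =>
    rw [DirectSum.map_of, DirectSum.coeAddMonoidHom_of, DirectSum.coeAddMonoidHom_of]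
    rfl
  | add x y hx hy => rw [map_add, map_add, map_add, hx, hy]

instance decompToZ (ℳ : ℕ → τ) [DirectSum.Decomposition ℳ] :
    DirectSum.Decomposition (toZ ℳ) :=
  DirectSum.Decomposition.ofAddHom (toZ ℳ)
    ((DirectSum.map (incl ℳ)).comp (DirectSum.decomposeAddEquiv ℳ).toAddMonoidHom)
    (by
      ext m
      change DirectSum.coeAddMonoidHom (toZ ℳ)
        (DirectSum.map (incl ℳ) (DirectSum.decompose ℳ m)) = m
      rw [coe_map_incl]
      exact DirectSum.Decomposition.left_inv m)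
    (by
      refine DirectSum.addHom_ext fun i x => ?_
      change DirectSum.map (incl ℳ) (DirectSum.decompose ℳ
        (DirectSum.coeAddMonoidHom (toZ ℳ) (DirectSum.of (fun i => toZ ℳ i) i x))) =
          DirectSum.of (fun i => toZ ℳ i) i x
      rw [DirectSum.coeAddMonoidHom_of, DirectSum.decompose_of_mem ℳ (mem_toZ.mp x.2),
        DirectSum.map_of]
      rfl)

end pieces

section ring

attribute [local instance] ULift.algebra'

variable {A σ : Type u} [CommRing A] [SetLike σ A] [AddSubgroupClass σ A] (𝒜 : ℕ → σ)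
  [GradedRing 𝒜]

instance gradedMonoidToZ : SetLike.GradedMonoid (toZ 𝒜) where
  one_mem := SetLike.GradedOne.one_mem (A := 𝒜)
  mul_mem _ _ _ _ hi hj := SetLike.GradedMul.mul_mem (A := 𝒜) hi hj

instance gradedRingToZ : GradedRing (toZ 𝒜) :=
  { gradedMonoidToZ 𝒜, decompToZ 𝒜 with }

/-- the identity as a graded ring homomorphism -/
def idHom : 𝒜 →+*ᵍ toZ 𝒜 :=
  { RingHom.id A with map_mem := fun h => h }

theorem idHom_apply (a : A) : idHom 𝒜 a = a := rfl

theorem irrelevant_le_map :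
    (HomogeneousIdeal.irrelevant (toZ 𝒜)) ≤ (HomogeneousIdeal.irrelevant 𝒜).map (idHom 𝒜) := by
  rw [HomogeneousIdeal.irrelevant_le]
  intro i hi x hx
  have hx' : x ∈ 𝒜 i := hx
  have h := HomogeneousIdeal.mem_irrelevant_of_mem 𝒜 hi hx'
  exact Ideal.mem_map_of_mem (idHom 𝒜) h

variable {M τ : Type u} [AddCommGroup M] [Module A M] [SetLike τ M] [AddSubgroupClass τ M]
  (ℳ : ℕ → τ) [SetLike.GradedSMul 𝒜 ℳ]

instance gradedSMulToZ : SetLike.GradedSMul (toZ 𝒜) (toZ ℳ) where
  smul_mem _ _ _ _ hi hj := SetLike.GradedSMul.smul_mem (A := 𝒜) (B := ℳ) hi hj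

/-- the identity as a semilinear map -/
def idLin : M →ₛₗ[(idHom 𝒜).toRingHom] M where
  toFun := id
  map_add' _ _ := rfl
  map_smul' _ _ := rfl

theorem idLin_apply (m : M) : idLin 𝒜 (M := M) m = m := rfl

variable [DirectSum.Decomposition ℳ]

/-- the comparison morphism -/
def cmp (n : ℤ) : GrMod.tilde 𝒜 ℳ n ⟶
    (Scheme.Modules.pushforward (Proj.map (idHom 𝒜) (irrelevant_le_map 𝒜))).obj
      (GrMod.tilde (toZ 𝒜) (toZ ℳ) n) :=
  GrMod.comap (ℳ := ℳ) (𝒩 := toZ ℳ) (idHom 𝒜) (irrelevant_le_map 𝒜) (idLin 𝒜)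
    (fun _ _ h => h) n

instance isIso_cmp (n : ℤ) : IsIso (cmp 𝒜 ℳ n) :=
  GrModComap.isIso_comap (idHom 𝒜) (irrelevant_le_map 𝒜) ℳ (toZ ℳ) (idLin 𝒜) (fun _ _ h => h)
    Function.bijective_id n

end ring

end Groth.Agent.Lib.Helper7.GrModBridge
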