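import Mathlib
import Groth.Prelude
import Groth.Agent.Lib.Helper7.GrModBridge
import Groth.Agent.Lib.Helper7.GrAlphaIter
import Groth.Agent.Lib.Helper7.GrAlphaApp

/-!
# Eventual generation of the sections of `M(n)~` over degree-one generated graded rings,
for gradings by general additive subgroups
-/

set_option autoImplicit false
set_option linter.unusedSectionVars false
universe u
open CategoryTheory CategoryTheory.Limits AlgebraicGeometry TopologicalSpace Opposite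
open Scheme.Modules
open scoped HomogeneousIdeal

noncomputable section

namespace Groth.Agent.Lib.Helper7.GrModBridge

open Groth.Agent.Lib.Helper3 Groth.Agent.Lib.Helper7.GrAlphaMul
open QCSec TwistBasic GrTildeQC

theorem app_bijective_of_isIso {X : Scheme.{u}} {F G : X.Modules} (φ : F ⟶ G) [IsIso φ]
    (U : X.Opens) : Function.Bijective (φ.app U) := by
  refine Function.bijective_iff_has_inverse.mpr ⟨(inv φ).app U, fun s => ?_, fun s => ?_⟩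
  · have h : (φ ≫ inv φ).app U s = (𝟙 F : F ⟶ F).app U s := by rw [IsIso.hom_inv_id]
    exact h
  · have h : (inv φ ≫ φ).app U s = (𝟙 G : G ⟶ G).app U s := by rw [IsIso.inv_hom_id]
    exact h

attribute [local instance] ULift.algebra'

variable {A σ : Type u} [CommRing A] [SetLike σ A] [AddSubgroupClass σ A] (𝒜 : ℕ → σ)
  [GradedRing 𝒜]
  {M τ : Type u} [AddCommGroup M] [Module A M] [SetLike τ M] [AddSubgroupClass τ M]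
  (ℳ : ℕ → τ) [SetLike.GradedSMul 𝒜 ℳ] [DirectSum.Decomposition ℳ]

/-- comparison on global sections -/
def cTop (n : ℤ) (s : Γ(GrMod.tilde 𝒜 ℳ n, (⊤ : (Proj 𝒜).Opens))) :
    Γ(GrTilde.tilde (toZ 𝒜) (toZ ℳ) n, (⊤ : (Proj (toZ 𝒜)).Opens)) :=
  (cmp 𝒜 ℳ n).app ⊤ s

theorem cTop_bijective (n : ℤ) : Function.Bijective (cTop 𝒜 ℳ n) :=
  app_bijective_of_isIso (cmp 𝒜 ℳ n) ⊤

theorem cTop_zero (n : ℤ) : cTop 𝒜 ℳ n 0 = 0 := map_zero ((cmp 𝒜 ℳ n).app ⊤).hom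

theorem cTop_add (n : ℤ) (s s' : Γ(GrMod.tilde 𝒜 ℳ n, (⊤ : (Proj 𝒜).Opens))) :
    cTop 𝒜 ℳ n (s + s') = cTop 𝒜 ℳ n s + cTop 𝒜 ℳ n s' :=
  map_add ((cmp 𝒜 ℳ n).app ⊤).hom s s'

theorem cTop_neg (n : ℤ) (s : Γ(GrMod.tilde 𝒜 ℳ n, (⊤ : (Proj 𝒜).Opens))) :
    cTop 𝒜 ℳ n (-s) = -cTop 𝒜 ℳ n s :=
  map_neg ((cmp 𝒜 ℳ n).app ⊤).hom s

/-- the comparison on global sections as an additive map between the `sect` groups -/
def cHom (n : ℤ) : GrMod.sect 𝒜 ℳ n (op ⊤) →+ GrMod.sect (toZ 𝒜) (toZ ℳ) n (op ⊤) :=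
  GrMod.comapApp (ℳ := ℳ) (𝒩 := toZ ℳ) (idHom 𝒜) (irrelevant_le_map 𝒜) (idLin 𝒜)
    (fun _ _ h => h) n ⊤ ⊤ (fun _ _ => trivial)

theorem cHom_apply (n : ℤ) (s : Γ(GrMod.tilde 𝒜 ℳ n, (⊤ : (Proj 𝒜).Opens))) :
    cHom 𝒜 ℳ n s = cTop 𝒜 ℳ n s := rfl

theorem cHom_bijective (n : ℤ) : Function.Bijective (cHom 𝒜 ℳ n) :=
  cTop_bijective 𝒜 ℳ n

theorem cTop_smulSect {e : ℕ} (a : 𝒜 e) (k : ℤ)
    (u : Γ(GrMod.tilde 𝒜 ℳ k, (⊤ : (Proj 𝒜).Opens))) :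
    cTop 𝒜 ℳ (k + (e : ℤ)) (GrMod.smulSect 𝒜 ℳ a k (op ⊤) u) =
      mulSec (𝒜 := toZ 𝒜) (ℳ := toZ ℳ) (d := e) (a := (a : A)) a.2 (add_comm (e : ℤ) k)
        (cTop 𝒜 ℳ k u) := by
  refine mval_ext fun y => ?_
  change GrMod.locModMap (idHom 𝒜) (irrelevant_le_map 𝒜) (idLin 𝒜) y.1
      ((Localization.mk (a : A) 1 : GrTwist.Loc 𝒜 _) •
        GrMod.val u ⟨ProjectiveSpectrum.comap (idHom 𝒜) (irrelevant_le_map 𝒜) y.1, trivial⟩) =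
    (Localization.mk (a : A) 1 : Twist.Loc (toZ 𝒜) y.1) •
      GrMod.locModMap (idHom 𝒜) (irrelevant_le_map 𝒜) (idLin 𝒜) y.1
        (GrMod.val u ⟨ProjectiveSpectrum.comap (idHom 𝒜) (irrelevant_le_map 𝒜) y.1, trivial⟩)
  refine (GrMod.locModMap_smul (idHom 𝒜) (irrelevant_le_map 𝒜) (idLin 𝒜) y.1 _ _).trans ?_
  have h := GrTwist.locMap_mk (idHom 𝒜) (irrelevant_le_map 𝒜) y.1 (a : A) 1
  rw [h]
  rfl

theorem exists_generated [IsNoetherianRing A]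
    (hgen : (HomogeneousIdeal.irrelevant 𝒜).toIdeal = Ideal.span (𝒜 1 : Set A))
    (hTF : ∃ k : ℕ, (Submodule.span A (⋃ i ∈ Set.Ici k, (ℳ i : Set M))).FG) :
    ∃ k : ℕ, ∀ e : ℕ,
      (⨆ a : 𝒜 e, (GrMod.smulSect 𝒜 ℳ a (k : ℤ)
        (op (⊤ : Opens (ProjectiveSpectrum.top 𝒜)))).range) = ⊤ := by
  classical
  have hirrZ : (HomogeneousIdeal.irrelevant (toZ 𝒜)).toIdeal ≤
      Ideal.span ((toZ 𝒜 1 : Submodule (ULift.{u} ℤ) A) : Set A) := by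
    rw [HomogeneousIdeal.toIdeal_irrelevant_le]
    intro i hi x hx
    have hx' : x ∈ 𝒜 i := hx
    have h := HomogeneousIdeal.mem_irrelevant_of_mem 𝒜 hi hx'
    change x ∈ (HomogeneousIdeal.irrelevant 𝒜).toIdeal at h
    rw [hgen] at h
    exact h
  obtain ⟨r, f, hf1, hf⟩ := GrAlphaApp.exists_fin_family (𝒜 := toZ 𝒜) hirrZ
  have hcov := TwistProj.exists_mem_basicOpen_of_span f hf
  have hTF' : ∃ k : ℕ, (Submodule.span A (⋃ i ∈ Set.Ici k, ((toZ ℳ i : Submodule (ULift.{u} ℤ) M) : Set M))).FG :=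
    hTF
  obtain ⟨k, hk⟩ := GrAlphaIter.exists_iter (𝒜 := toZ 𝒜) (ℳ := toZ ℳ) f hf1 hcov hTF'
  refine ⟨k, fun e => ?_⟩
  rw [eq_top_iff]
  intro t _
  have hb := cHom_bijective 𝒜 ℳ ((k : ℤ) + (e : ℤ))
  have key : ∀ t' ∈ AddSubgroup.closure
      (GrAlphaIter.prods (𝒜 := toZ 𝒜) (toZ ℳ) e (k : ℤ) ((k : ℤ) + (e : ℤ)) (add_comm _ _)),
      ∃ h ∈ (⨆ a : 𝒜 e, (GrMod.smulSect 𝒜 ℳ a (k : ℤ)
            (op (⊤ : Opens (ProjectiveSpectrum.top 𝒜)))).range),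
        cHom 𝒜 ℳ ((k : ℤ) + (e : ℤ)) h = t' := by
    intro t' ht'
    induction ht' using AddSubgroup.closure_induction with
    | mem s hs =>
      obtain ⟨a, ha, u', rfl⟩ := hs
      obtain ⟨u, rfl⟩ := (cTop_bijective 𝒜 ℳ (k : ℤ)).2 u'
      exact ⟨GrMod.smulSect 𝒜 ℳ (⟨a, ha⟩ : 𝒜 e) (k : ℤ) (op ⊤) u,
        AddSubgroup.mem_iSup_of_mem (⟨a, ha⟩ : 𝒜 e) ⟨u, rfl⟩,
        cTop_smulSect 𝒜 ℳ (⟨a, ha⟩ : 𝒜 e) (k : ℤ) u⟩
    | zero => exact ⟨0, zero_mem _, (cHom 𝒜 ℳ ((k : ℤ) + (e : ℤ))).map_zero⟩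
    | add x y _ _ hx hy =>
      obtain ⟨tx, htx, rfl⟩ := hx
      obtain ⟨ty, hty, rfl⟩ := hy
      exact ⟨tx + ty, add_mem htx hty, (cHom 𝒜 ℳ ((k : ℤ) + (e : ℤ))).map_add tx ty⟩
    | neg x _ hx =>
      obtain ⟨tx, htx, rfl⟩ := hx
      have h : cHom 𝒜 ℳ ((k : ℤ) + (e : ℤ)) (-tx) = -cHom 𝒜 ℳ ((k : ℤ) + (e : ℤ)) tx :=
        map_neg (cHom 𝒜 ℳ ((k : ℤ) + (e : ℤ))) tx
      exact ⟨-tx, neg_mem htx, h⟩
  obtain ⟨h, hH, hh⟩ := key _ (hk e ((k : ℤ) + (e : ℤ)) (add_comm _ _)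
    (cTop 𝒜 ℳ ((k : ℤ) + (e : ℤ)) t))
  have hht : h = t := hb.1 hh
  rw [← hht]
  exact hH

end Groth.Agent.Lib.Helper7.GrModBridge
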