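import Groth.Agent.Lib.Helper7.GradedLib

set_option autoImplicit false

namespace Groth.Agent.Lib.Helper7

open DirectSum

section Graded2

variable {R A : Type*} [CommRing R] [CommRing A] [Algebra R A] (𝒜 : ℕ → Submodule R A) [GradedAlgebra 𝒜]

theorem graded_mul_le (i j : ℕ) : 𝒜 i * 𝒜 j ≤ 𝒜 (i + j) :=
  Submodule.mul_le.mpr fun _ ha _ hb => SetLike.mul_mem_graded ha hb

theorem exists_mul_le_iterate {q N₀ : ℕ} (h : ∀ n : ℕ, N₀ ≤ n → 𝒜 (n + q) ≤ 𝒜 q * 𝒜 n)
    (k : ℕ) (hk : 0 < k) :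
    ∀ n : ℕ, N₀ ≤ n → 𝒜 (n + k * q) ≤ 𝒜 (k * q) * 𝒜 n := by
  induction k, hk using Nat.le_induction with
  | base => intro n hn; simpa using h n hn
  | succ k hk ih =>
    intro n hn
    have e1 : n + (k + 1) * q = (n + k * q) + q := by ring
    rw [e1]
    calc 𝒜 (n + k * q + q) ≤ 𝒜 q * 𝒜 (n + k * q) := h _ (by omega)
      _ ≤ 𝒜 q * (𝒜 (k * q) * 𝒜 n) := mul_le_mul' le_rfl (ih n hn)
      _ = (𝒜 q * 𝒜 (k * q)) * 𝒜 n := (mul_assoc _ _ _).symm
      _ ≤ 𝒜 ((k + 1) * q) * 𝒜 n := by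
          refine mul_le_mul' ?_ le_rfl
          have := graded_mul_le 𝒜 q (k * q)
          rwa [show q + k * q = (k + 1) * q by ring] at this

theorem exists_pow_degree_eq [Algebra.FiniteType (𝒜 0) A] :
    ∃ h : ℕ, 0 < h ∧ ∀ m : ℕ, 0 < m → 𝒜 (m * h) = (𝒜 h : Submodule R A) ^ m := by
  obtain ⟨q, hq, -, N₀, hN₀⟩ := exists_mul_le 𝒜 1 one_pos
  have hiter := exists_mul_le_iterate 𝒜 hN₀ (N₀ + 1) (Nat.succ_pos _)
  have hge : N₀ ≤ (N₀ + 1) * q := by
    have : (N₀ + 1) * 1 ≤ (N₀ + 1) * q := Nat.mul_le_mul_left _ hq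
    omega
  refine ⟨(N₀ + 1) * q, Nat.mul_pos (Nat.succ_pos _) hq, fun m hm => ?_⟩
  generalize (N₀ + 1) * q = h at hiter hge ⊢
  induction m, hm using Nat.le_induction with
  | base => simp
  | succ m hm ih =>
    apply le_antisymm
    · have e1 : (m + 1) * h = m * h + h := by ring
      rw [e1]
      calc 𝒜 (m * h + h) ≤ 𝒜 h * 𝒜 (m * h) :=
            hiter (m * h) (le_trans hge (Nat.le_mul_of_pos_left _ hm))
        _ = 𝒜 h * (𝒜 h) ^ m := by rw [ih]
        _ = (𝒜 h) ^ (m + 1) := (pow_succ' _ _).symm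
    · rw [pow_succ, ← ih]
      have := graded_mul_le 𝒜 (m * h) h
      rwa [show m * h + h = (m + 1) * h by ring] at this

variable {M : Type*} [AddCommGroup M] [Module R M] [Module A M] [IsScalarTower R A M]
  (ℳ : ℕ → Submodule R M) [DirectSum.Decomposition ℳ] [SetLike.GradedSMul 𝒜 ℳ]

theorem coe_decompose_smul_of_mem {e : M} {d : ℕ} (he : e ∈ ℳ d) (m : ℕ) (b : A) :
    (decompose ℳ (b • e) m : M) = if d ≤ m then (decompose 𝒜 b (m - d) : A) • e else 0 := by
  induction b using DirectSum.Decomposition.inductionOn 𝒜 with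
  | zero => simp
  | @homogeneous i b =>
    have hmem : (b : A) • e ∈ ℳ (i + d) := SetLike.GradedSMul.smul_mem b.2 he
    by_cases h : i + d = m
    · subst h
      rw [decompose_of_mem_same ℳ hmem, if_pos (Nat.le_add_left _ _), Nat.add_sub_cancel,
        decompose_coe, of_eq_same]
    · rw [decompose_of_mem_ne ℳ hmem h]
      split_ifs with hdm
      · rw [decompose_coe, of_eq_of_ne _ _ _ (by omega), ZeroMemClass.coe_zero, zero_smul]
      · rfl
  | add b b' hb hb' =>
    rw [add_smul, decompose_add, DirectSum.add_apply, Submodule.coe_add, hb, hb']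
    split_ifs
    · rw [decompose_add, DirectSum.add_apply, Submodule.coe_add, add_smul]
    · simp

theorem homog_span_induction_module {E : Set M} (P : M → Prop) (h0 : P 0)
    (hadd : ∀ x y, P x → P y → P (x + y)) {m : ℕ}
    (hE : ∀ e ∈ E, ∃ d : ℕ, e ∈ ℳ d ∧ (d ≤ m → ∀ a ∈ 𝒜 (m - d), P (a • e)))
    {x : M} (hx : x ∈ ℳ m) (hxE : x ∈ Submodule.span A E) : P x := by
  have key : ∀ y ∈ Submodule.span A E, ∀ b : A, P (decompose ℳ (b • y) m : M) := by
    intro y hy
    refine Submodule.span_induction (p := fun y _ => ∀ b : A, P (decompose ℳ (b • y) m : M))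
      ?_ ?_ ?_ ?_ hy
    · intro e he b
      obtain ⟨d, hd, hP⟩ := hE e he
      rw [coe_decompose_smul_of_mem 𝒜 ℳ hd]
      split_ifs with hdm
      · exact hP hdm _ (SetLike.coe_mem _)
      · exact h0
    · intro b; simpa using h0
    · intro y z _ _ hy hz b
      rw [smul_add, decompose_add, DirectSum.add_apply, Submodule.coe_add]
      exact hadd _ _ (hy b) (hz b)
    · intro a y _ hy b
      rw [← mul_smul]
      exact hy (b * a)
  have := key x hxE 1
  rwa [one_smul, decompose_of_mem_same ℳ hx] at this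

omit [SetLike.GradedSMul 𝒜 ℳ] [IsScalarTower R A M] in
theorem exists_finset_homogeneous_span_eq_top [Module.Finite A M] :
    ∃ (T : Finset M) (deg : M → ℕ), (∀ t ∈ T, t ∈ ℳ (deg t)) ∧
      Submodule.span A (T : Set M) = ⊤ := by
  classical
  obtain ⟨F, hF⟩ := Module.Finite.fg_top (R := A) (M := M)
  let T : Finset M :=
    F.biUnion fun f => (decompose ℳ f).support.image fun i => (decompose ℳ f i : M)
  have hmemT : ∀ e, e ∈ T ↔ ∃ f ∈ F, ∃ i ∈ (decompose ℳ f).support,
      (decompose ℳ f i : M) = e := by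
    intro e
    simp [T]
  have hT : ∀ t ∈ T, ∃ d, t ∈ ℳ d := by
    intro t ht
    obtain ⟨f, _, i, _, rfl⟩ := (hmemT t).mp ht
    exact ⟨i, SetLike.coe_mem _⟩
  choose! deg hdeg using hT
  refine ⟨T, deg, hdeg, ?_⟩
  rw [eq_top_iff, ← hF, Submodule.span_le]
  intro f hf
  rw [SetLike.mem_coe, ← sum_support_decompose ℳ f]
  exact sum_mem fun i hi => Submodule.subset_span ((hmemT _).mpr ⟨f, hf, i, hi, rfl⟩)

theorem exists_shift_generated [Algebra.FiniteType (𝒜 0) A] [Module.Finite A M] :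
    ∃ (n₁ h : ℕ), 0 < h ∧ ∀ n : ℕ, n₁ ≤ n →
      ℳ (n + h) = (𝒜 h : Submodule R A) • (ℳ n : Submodule R M) := by
  obtain ⟨q, hq, -, N₀, hN₀⟩ := exists_mul_le 𝒜 1 one_pos
  obtain ⟨T, deg, hT, hspan⟩ := exists_finset_homogeneous_span_eq_top (A := A) ℳ
  refine ⟨N₀ + T.sup deg, q, hq, fun n hn => le_antisymm ?_ ?_⟩
  · intro x hx
    have hxE : x ∈ Submodule.span A (T : Set M) := hspan ▸ Submodule.mem_top
    refine homog_span_induction_module 𝒜 ℳ
      (· ∈ (𝒜 q : Submodule R A) • (ℳ n : Submodule R M)) (zero_mem _)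
      (fun _ _ => add_mem) ?_ hx hxE
    intro e he
    refine ⟨deg e, hT e he, fun hdm a ha => ?_⟩
    have hle : deg e ≤ T.sup deg := Finset.le_sup he
    have e1 : n + q - deg e = (n - deg e) + q := by omega
    rw [e1] at ha
    have ha' := hN₀ (n - deg e) (by omega) ha
    refine Submodule.mul_induction_on ha' ?_ ?_
    · intro b hb c hc
      rw [mul_smul]
      refine Submodule.smul_mem_smul hb ?_
      have := SetLike.GradedSMul.smul_mem hc (hT e he)
      rwa [vadd_eq_add, Nat.sub_add_cancel (by omega)] at this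
    · intro u v hu hv
      rw [add_smul]; exact add_mem hu hv
  · rw [Submodule.smul_le]
    intro b hb x hx
    have := SetLike.GradedSMul.smul_mem hb hx
    rwa [vadd_eq_add, add_comm] at this

end Graded2

end Groth.Agent.Lib.Helper7
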