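import Groth.Agent.Lib.Helper7.GradedLib2

set_option autoImplicit false

namespace Groth.Agent.Lib.Helper7

open DirectSum

section Graded3

variable {R A : Type*} [CommRing R] [CommRing A] [Algebra R A] (𝒜 : ℕ → Submodule R A) [GradedAlgebra 𝒜]

theorem away_isNoetherianRing [IsNoetherianRing A] {d : ℕ} (f : A) (hf : f ∈ 𝒜 d) :
    IsNoetherianRing (HomogeneousLocalization.Away 𝒜 f) := by
  obtain ⟨h0, hft⟩ := (isNoetherianRing_iff_degZero_and_finiteType 𝒜).mp ‹_›
  haveI := HomogeneousLocalization.Away.finiteType (𝒜 := 𝒜) f d hf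
  exact Algebra.FiniteType.isNoetherianRing (𝒜 0) (HomogeneousLocalization.Away 𝒜 f)

theorem mem_radical_of_forall_mem_proj {I : Ideal A} (hI : I.IsHomogeneous 𝒜) {x : A}
    (hx : x ∈ (HomogeneousIdeal.irrelevant 𝒜).toIdeal)
    (h : ∀ p ∈ ProjectiveSpectrum.zeroLocus 𝒜 (I : Set A), x ∈ p.asHomogeneousIdeal) :
    x ∈ I.radical := by
  rw [hI.radical_eq, Ideal.mem_sInf]
  rintro J ⟨hJhom, hIJ, hJprime⟩
  by_cases hirr : HomogeneousIdeal.irrelevant 𝒜 ≤ ⟨J, hJhom⟩
  · exact hirr hx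
  · exact h ⟨⟨J, hJhom⟩, hJprime, hirr⟩ hIJ

theorem zeroLocus_eq_univ_iff_forall_isNilpotent (E : Set A)
    (hE : E ⊆ (HomogeneousIdeal.irrelevant 𝒜).toIdeal) :
    ProjectiveSpectrum.zeroLocus 𝒜 E = Set.univ ↔ ∀ e ∈ E, IsNilpotent e := by
  constructor
  · intro h e he
    rw [← mem_nilradical]
    change e ∈ (⊥ : Ideal A).radical
    refine mem_radical_of_forall_mem_proj 𝒜 (Ideal.IsHomogeneous.bot 𝒜) (hE he) ?_
    intro p _
    have hp : p ∈ ProjectiveSpectrum.zeroLocus 𝒜 E := h ▸ Set.mem_univ p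
    exact hp he
  · intro h
    refine Set.eq_univ_of_forall fun p => ?_
    intro e he
    obtain ⟨n, hn⟩ := h e he
    have : e ^ n ∈ p.asHomogeneousIdeal.toIdeal := by rw [hn]; exact zero_mem _
    exact p.isPrime.mem_of_pow_mem n this

theorem irrelevant_inf_vanishingIdeal_zeroLocus (E : Set A) :
    (HomogeneousIdeal.irrelevant 𝒜).toIdeal ⊓
        (ProjectiveSpectrum.vanishingIdeal (ProjectiveSpectrum.zeroLocus 𝒜 E)).toIdeal =
      (HomogeneousIdeal.irrelevant 𝒜).toIdeal ⊓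
        (Ideal.homogeneousHull 𝒜 (Ideal.span E)).toIdeal.radical := by
  ext x
  simp only [Ideal.mem_inf]
  constructor
  · rintro ⟨hx, hv⟩
    refine ⟨hx, mem_radical_of_forall_mem_proj 𝒜 (Ideal.homogeneousHull 𝒜 (Ideal.span E)).isHomogeneous hx ?_⟩
    intro p hp
    have hv' := (ProjectiveSpectrum.mem_vanishingIdeal _ x).mp hv
    refine hv' p ?_
    intro e he
    exact hp (Ideal.le_toIdeal_homogeneousHull 𝒜 _ (Ideal.subset_span he))
  · rintro ⟨hx, hr⟩
    refine ⟨hx, (ProjectiveSpectrum.mem_vanishingIdeal _ x).mpr fun p hp => ?_⟩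
    have h1 : Ideal.span E ≤ p.asHomogeneousIdeal.toIdeal := Ideal.span_le.mpr hp
    have h2 : Ideal.homogeneousHull 𝒜 (Ideal.span E) ≤ p.asHomogeneousIdeal :=
      (Ideal.homogeneousHull.gc 𝒜 _ _).mpr h1
    have h3 : (Ideal.homogeneousHull 𝒜 (Ideal.span E)).toIdeal.radical ≤
        p.asHomogeneousIdeal.toIdeal := by
      rw [← p.isPrime.radical]
      exact Ideal.radical_mono h2
    exact h3 hr

end Graded3

end Groth.Agent.Lib.Helper7
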