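import Mathlib
import Groth.Prelude
import Groth.Agent.Lib.Helper7.GrowthE

/-!
# Helper library (helper7): the top cohomology of high powers of a big invertible module vanishes

On an integral projective scheme of dimension `n ≥ 1`, if some `L^m ⊗ A⁻¹` (`A` ample) is
effective, then `Hⁿ(X, L^m) = 0` for all large `m`.
-/

set_option autoImplicit false
set_option linter.unusedSectionVars false
set_option linter.style.haveILetI false
universe u
open CategoryTheory CategoryTheory.Limits AlgebraicGeometry Opposite TopologicalSpace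
open Scheme.Modules

namespace Groth.Agent.Lib.Helper7.GrowthF

open Groth.Agent.Lib.Helper3 Groth.Agent.Lib.Helper3.InvMonoidal Groth.Agent.Lib.Helper3.InvTensor
open Groth.Agent.Lib.Helper3.InvGen Groth.Agent.Lib.Helper3.QCSec Groth.Agent.Lib.Helper3.InvAmple
open Groth.Agent.Lib.Helper23 Groth.Agent.Lib.Helper23.Snap Groth.Agent.Lib.Helper23.HilbP
open Groth.Agent.Lib.Helper7.SnapAlt Groth.Agent.Lib.Helper7.SnapFGA
open Groth.Agent.Lib.Helper7.IntNumPos Groth.Agent.Lib.Helper7.IntNumDiv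
open Groth.Agent.Lib.Helper7.SecDeg Groth.Agent.Lib.Helper7.HilbCoeff
open Groth.Agent.Lib.Helper7.SecDegB
open Groth.Agent.Lib.Helper7.SecDegC Groth.Agent.Lib.Helper7.RegSec Groth.Agent.Lib.Helper17
open Groth.Agent.Lib.Helper7.TwFun Groth.Agent.Lib.Helper7.SurfSecA Groth.Agent.Lib.Helper7.SurfSecB
open Groth.Agent.Lib.Helper7.VolMono Groth.Agent.Lib.Helper7.GrowthA
open Groth.Agent.Lib.Helper7.GrowthB Groth.Agent.Lib.Helper7.GrowthC
open Groth.Agent.Lib.Helper7.GrowthD

section Iso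

variable {X : Scheme.{u}}

/-- `L^n ≅ E^q ⊗ (L^r ⊗ A^q)` for `n = r + m₀ q`, given `L^{m₀} ≅ A ⊗ E`. -/
noncomputable def powSplit {L A E : X.Modules} {m₀ : ℕ}
    (e₀ : CohB1.tensorPow L m₀ ≅ CohB1.tensorMod A E) (n r q : ℕ) (hn : n = r + m₀ * q) :
    CohB1.tensorPow L n ≅ CohB1.tensorMod (CohB1.tensorPow E q)
      (CohB1.tensorMod (CohB1.tensorPow L r) (CohB1.tensorPow A q)) :=
  powCast L hn ≪≫ (powAdd L r (m₀ * q)).symm ≪≫
    tensorMapIso (Iso.refl _)
      ((powMul L m₀ q).symm ≪≫ tensorPowIso e₀ q ≪≫ powTensor A E q) ≪≫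
    (assoc _ _ _).symm ≪≫ braid _ _

end Iso

variable (k : Type u) [Field k] (X : Scheme.{u}) [X.Over (Spec (CommRingCat.of k))]
  [IsProper (X ↘ Spec (CommRingCat.of k))]

/-- if `G` has a nonzero section, then `hⁿ(G ⊗ T) ≤ hⁿ(T)` in the top degree `n = dim X`. -/
theorem finrank_top_le [IsIntegral X] (e : ℕ)
    (hX : topologicalKrullDim X = ((e + 1 : ℕ) : WithBot ℕ∞))
    (G G' : X.Modules) (hG : PicF.IsInvertible G)
    (ι : CohB1.tensorMod G' G ≅ Coh.structureModule X)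
    (s : Coh.structureModule X ⟶ G) (hs : s ≠ 0) (T : X.Modules) (hT : PicF.IsInvertible T) :
    Module.finrank k (Coh.HH X (CohB1.tensorMod G T) (e + 1)) ≤
      Module.finrank k (Coh.HH X T (e + 1)) := by
  haveI : IsNoetherian X := isNoetherian_of_isProper k X
  have hG' : PicF.IsInvertible G' := isInvertible_of_inverse hG ⟨braid G G' ≪≫ ι⟩
  haveI : G'.IsQuasicoherent := InvCoh.isQuasicoherent_of_isInvertible hG'
  have hreg := isRegSec_of_ne_zero hG s hs
  have hD := isEffCartierIdeal_zeroDiv ι hreg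
  obtain ⟨eI⟩ := idealMod_zeroDiv_iso ι hreg
  set D := zeroDiv ι s with hDdef
  have hI : PicF.IsInvertible (ClSub.idealMod D) :=
    (EffCartMod.isInvertible_idealMod_iff _).mpr hD
  have hGT : PicF.IsInvertible (CohB1.tensorMod G T) := isInvertible_tensorMod hG hT
  obtain ⟨eGT⟩ := Groth.Agent.Lib.Helper23.Inverse.tensor_dual_iso hGT
  have hS₀ := EffCart.shortExact_ideal D
  have hS := shortExact_twR (CohB1.tensorMod G T) _ eGT _ hS₀
  have hO := T2.isCoh_structureModule X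
  have hOD : Coh.IsCoh (ClSub.quotMod D) := EffCart.isCoh_quotMod D
  have hID : Coh.IsCoh (ClSub.idealMod D) :=
    ⟨InvCoh.isQuasicoherent_of_isInvertible hI, InvCoh.isFiniteType_of_isInvertible hI⟩
  have hc1 : Coh.IsCoh (CohB1.tensorMod (ClSub.idealMod D) (CohB1.tensorMod G T)) :=
    isCoh_tensor_inv X hGT hID
  have hc3 : Coh.IsCoh (CohB1.tensorMod (ClSub.quotMod D) (CohB1.tensorMod G T)) :=
    isCoh_tensor_inv X hGT hOD
  have hsupp : topologicalKrullDim
      (CohB1.support (CohB1.tensorMod (ClSub.quotMod D) (CohB1.tensorMod G T))) ≤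
        ((e : ℕ) : WithBot ℕ∞) := by
    have h1 : CohB1.support (CohB1.tensorMod (ClSub.quotMod D) (CohB1.tensorMod G T)) =
        (D.support : Set X) := by
      rw [DevBasic.support_eq_of_iso (braid (ClSub.quotMod D) (CohB1.tensorMod G T)),
        support_tensor_inv_left hGT hOD, DevTest.support_A]
    rw [h1]
    exact le_of_lt_succ_dim (dim_support_lt D hD e hX)
  haveI hvan : Subsingleton (Coh.HH X
      (CohB1.tensorMod (ClSub.quotMod D) (CohB1.tensorMod G T)) (e + 1)) :=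
    Groth.Agent.Lib.Helper7.GVSupp.subsingleton_HH_of_dim_support_lt k X _ hc3 e hsupp (e + 1)
      (Nat.lt_succ_self e)
  have hle := finrank_le_of_shortExact k X _ hS hc1 (e + 1) hvan
  change Module.finrank k (Coh.HH X
      (CohB1.tensorMod (Coh.structureModule X) (CohB1.tensorMod G T)) (e + 1)) ≤
    Module.finrank k (Coh.HH X
      (CohB1.tensorMod (ClSub.idealMod D) (CohB1.tensorMod G T)) (e + 1)) at hle
  let e1 : CohB1.tensorMod (ClSub.idealMod D) (CohB1.tensorMod G T) ≅ T :=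
    tensorMapIso eI.symm (Iso.refl _) ≪≫ (assoc G' G T).symm ≪≫
      tensorMapIso ι (Iso.refl T) ≪≫ unitorL T
  let e2 : CohB1.tensorMod (Coh.structureModule X) (CohB1.tensorMod G T) ≅ CohB1.tensorMod G T :=
    unitorL _
  rw [← (FBC.HmapEquivK k e1 (e + 1)).finrank_eq, ← (FBC.HmapEquivK k e2 (e + 1)).finrank_eq]
  exact hle

/-- the top cohomology of high powers vanishes once `A' ⊗ L^{m₀}` is effective. -/
theorem eventually_top_vanishing [IsIntegral X] (e : ℕ)
    (hX : topologicalKrullDim X = ((e + 1 : ℕ) : WithBot ℕ∞))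
    {A : X.Modules} (hA : CohB1.IsAmple A) (A' : X.Modules)
    (eA : CohB1.tensorMod A' A ≅ Coh.structureModule X)
    (L : X.Modules) (hL : PicF.IsInvertible L) (m₀ : ℕ) (hm₀ : 0 < m₀)
    (hnt : Nontrivial (Coh.HH X (CohB1.tensorMod A' (CohB1.tensorPow L m₀)) 0)) :
    ∃ N : ℕ, ∀ n : ℕ, N ≤ n →
      Module.finrank k (Coh.HH X (CohB1.tensorPow L n) (e + 1)) = 0 := by
  haveI : IsNoetherian X := isNoetherian_of_isProper k X
  have coh : ∀ {M : X.Modules}, PicF.IsInvertible M → Coh.IsCoh M := fun hM =>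
    ⟨InvCoh.isQuasicoherent_of_isInvertible hM, InvCoh.isFiniteType_of_isInvertible hM⟩
  have hA' : PicF.IsInvertible A' := isInvertible_of_inverse hA.1 ⟨braid A A' ≪≫ eA⟩
  have hLm₀ := isInvertible_tensorPow hL m₀
  have hE : PicF.IsInvertible (CohB1.tensorMod A' (CohB1.tensorPow L m₀)) :=
    isInvertible_tensorMod hA' hLm₀
  obtain ⟨s, hs⟩ := exists_section_ne_zero X _ hnt
  let e₀ : CohB1.tensorPow L m₀ ≅
      CohB1.tensorMod A (CohB1.tensorMod A' (CohB1.tensorPow L m₀)) :=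
    (unitorL _).symm ≪≫ tensorMapIso (braid A A' ≪≫ eA).symm (Iso.refl _) ≪≫ assoc A A' _
  have hvan : ∀ r : ℕ, ∃ N₀ : ℕ, ∀ q : ℕ, N₀ ≤ q → ∀ p : ℕ, 0 < p →
      Subsingleton (Coh.HH X (CohB1.tensorMod (CohB1.tensorPow L r) (CohB1.tensorPow A q)) p) :=
    fun r => Groth.Agent.Lib.Helper7.AmpleSerre.serre_vanishing_of_isAmple k
      (X ↘ Spec (CommRingCat.of k)) hA _ (coh (isInvertible_tensorPow hL r))
  choose N₀ hN₀ using hvan
  refine ⟨m₀ * ((Finset.range m₀).sup N₀ + 1), fun n hn => ?_⟩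
  have hr : n % m₀ < m₀ := Nat.mod_lt n hm₀
  have hq : (Finset.range m₀).sup N₀ ≤ n / m₀ := by
    have : (Finset.range m₀).sup N₀ + 1 ≤ n / m₀ :=
      (Nat.le_div_iff_mul_le hm₀).mpr (by rw [mul_comm]; exact hn)
    omega
  have hNr : N₀ (n % m₀) ≤ n / m₀ :=
    (Finset.le_sup (f := N₀) (Finset.mem_range.mpr hr)).trans hq
  haveI := hN₀ (n % m₀) (n / m₀) hNr (e + 1) (Nat.succ_pos e)
  have hn' : n = n % m₀ + m₀ * (n / m₀) := (Nat.mod_add_div n m₀).symm
  have hEq := isInvertible_tensorPow hE (n / m₀)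
  have hpos := finrank_H0_pow_pos k X _ hE s hs (n / m₀)
  obtain ⟨sq, hsq⟩ := exists_section_of_pos k X _ (coh hEq) hpos
  obtain ⟨eEq⟩ := Groth.Agent.Lib.Helper23.Inverse.tensor_dual_iso hEq
  have hT : PicF.IsInvertible (CohB1.tensorMod (CohB1.tensorPow L (n % m₀))
      (CohB1.tensorPow A (n / m₀))) :=
    isInvertible_tensorMod (isInvertible_tensorPow hL _) (isInvertible_tensorPow hA.1 _)
  have h1 := finrank_top_le k X e hX _ _ hEq (braid _ _ ≪≫ eEq) sq hsq _ hT
  have h0 : Module.finrank k (Coh.HH X (CohB1.tensorMod (CohB1.tensorPow L (n % m₀))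
      (CohB1.tensorPow A (n / m₀))) (e + 1)) = 0 := Module.finrank_zero_of_subsingleton
  rw [h0] at h1
  rw [(FBC.HmapEquivK k (powSplit e₀ n (n % m₀) (n / m₀) hn') (e + 1)).finrank_eq]
  omega

end Groth.Agent.Lib.Helper7.GrowthF
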