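import Mathlib
import Groth.Agent.Lib.Helper7.HilbBurch2
import Groth.Agent.Lib.Helper7.FlatLift
import Groth.Agent.Lib.Helper9.NilpFlat
import Groth.Agent.Lib.Helper9.RegFlat
import Groth.Agent.S12907
import Groth.Agent.S12908

/-!
# Lifting Hilbert–Burch resolutions along flat deformations over Artinian local rings
-/

set_option autoImplicit false

namespace Groth.Agent.Lib.Helper7.HBLift

universe u

open Groth.Agent.Lib.Helper9 RingTheory.Sequence

section basic

variable {R : Type u} [CommRing R] {t : ℕ}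

/-- signed maximal minors of a `(t+1) × t` matrix. -/
def sm (Ψ : Matrix (Fin (t + 1)) (Fin t) R) (i : Fin (t + 1)) : R :=
  (-1 : R) ^ (i : ℕ) * (Ψ.submatrix i.succAbove id).det

theorem sm_eq (Ψ : Matrix (Fin (t + 1)) (Fin t) R) :
    sm Ψ = fun i : Fin (t + 1) => (-1 : R) ^ (i : ℕ) * (Ψ.submatrix i.succAbove id).det := rfl

theorem span_sm (Ψ : Matrix (Fin (t + 1)) (Fin t) R) :
    Ideal.span (Set.range (sm Ψ)) = CAlgX.minorIdeal Ψ t := by
  rw [Groth.Agent.Lib.Helper7.HilbBurch.minorIdeal_eq]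
  apply le_antisymm
  · rw [Ideal.span_le]
    rintro _ ⟨i, rfl⟩
    exact Ideal.mul_mem_left _ _ (Ideal.subset_span ⟨i, rfl⟩)
  · rw [Ideal.span_le]
    rintro _ ⟨i, rfl⟩
    show Groth.Agent.Lib.Helper7.HilbBurch.dd Ψ i ∈ Ideal.span _
    have h1 : Groth.Agent.Lib.Helper7.HilbBurch.dd Ψ i = (-1 : R) ^ (i : ℕ) * sm Ψ i := by
      rw [sm, ← mul_assoc, ← mul_pow, neg_mul_neg, one_mul, one_pow, one_mul]
      rfl
    rw [h1]
    exact Ideal.mul_mem_left _ _ (Ideal.subset_span ⟨i, rfl⟩)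

theorem sm_map {S : Type u} [CommRing S] (f : R →+* S) (Ψ : Matrix (Fin (t + 1)) (Fin t) R)
    (i : Fin (t + 1)) : sm (Ψ.map f) i = f (sm Ψ i) := by
  rw [sm, sm, Matrix.submatrix_map, map_mul, map_pow, map_neg, map_one]
  congr 1
  rw [RingHom.map_det]
  rfl

theorem sum_sm_mul (Ψ : Matrix (Fin (t + 1)) (Fin t) R) (w : Fin t → R) :
    ∑ i, sm Ψ i * (Ψ.mulVec w) i = 0 := by
  have h := Groth.Agent.Lib.Helper7.HilbBurch.sum_mulVec Ψ 1 w
  rw [← h]
  refine Finset.sum_congr rfl fun i _ => ?_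
  rw [sm, one_mul, mul_comm]
  rfl

theorem sum_sm_mul_col (Ψ : Matrix (Fin (t + 1)) (Fin t) R) (j : Fin t) :
    ∑ i, sm Ψ i * Ψ i j = 0 := by
  classical
  have h := sum_sm_mul Ψ (Pi.single j 1)
  rw [← h]
  refine Finset.sum_congr rfl fun i _ => ?_
  rw [Matrix.mulVec_single_one]
  rfl

theorem isWeaklyRegular_pair (x y : R) (hxreg : ∀ r : R, x * r = 0 → r = 0)
    (hyreg : ∀ r : R, (∃ s, y * r = x * s) → ∃ s', r = x * s') :
    IsWeaklyRegular R [x, y] := by
  rw [Groth.Agent.Lib.Helper5.RegSeq.isWeaklyRegular_iff_forall_mem]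
  intro i hi z hz
  have hi' : i = 0 ∨ i = 1 := by
    simp only [List.length_cons, List.length_nil] at hi
    omega
  rcases hi' with rfl | rfl
  · simp only [List.getElem_cons_zero, List.take_zero, Ideal.ofList_nil, Ideal.mem_bot] at hz ⊢
    exact hxreg z hz
  · simp only [List.getElem_cons_succ, List.getElem_cons_zero, List.take_succ_cons,
      List.take_zero, Ideal.ofList_singleton, Ideal.mem_span_singleton'] at hz ⊢
    obtain ⟨s, hs⟩ := hz
    obtain ⟨s', hs'⟩ := hyreg z ⟨s, by rw [← hs, mul_comm]⟩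
    exact ⟨s', by rw [hs', mul_comm]⟩

theorem isSMulRegular_of_pair (x y : R) (h : IsWeaklyRegular R [x, y]) : IsSMulRegular R x :=
  ((isWeaklyRegular_cons_iff R x [y]).1 h).1

/-- Hilbert–Burch converse in a convenient form. -/
theorem hb_exact_of_pair [IsNoetherianRing R] (Ψ : Matrix (Fin (t + 1)) (Fin t) R) (x y : R)
    (hx : x ∈ CAlgX.minorIdeal Ψ t) (hy : y ∈ CAlgX.minorIdeal Ψ t)
    (h : IsWeaklyRegular R [x, y]) :
    Function.Injective Ψ.mulVecLin ∧
      LinearMap.range Ψ.mulVecLin = LinearMap.ker (Fintype.linearCombination R (sm Ψ)) := by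
  have hd := Groth.Agent.Lib.Helper4.length_le_idealDepth (CAlgX.minorIdeal Ψ t) [x, y] h (by
    intro r hr
    simp only [List.mem_cons, List.not_mem_nil, or_false] at hr
    rcases hr with rfl | rfl
    · exact hx
    · exact hy)
  have hdepth : 2 ≤ LocCoh.idealDepth (CAlgX.minorIdeal Ψ t) R := by simpa using hd
  obtain ⟨h1, h2, -⟩ := Groth.Agent.S12908.result t Ψ hdepth 1 (one_mem _)
  have hfun : (fun i : Fin (t + 1) =>
      (1 : R) * ((-1 : R) ^ (i : ℕ) * (Ψ.submatrix i.succAbove id).det)) = sm Ψ := by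
    funext i
    rw [one_mul, sm]
  rw [hfun] at h2
  exact ⟨LinearMap.ker_eq_bot.1 h1, h2.symm⟩

theorem minorIdeal_map_ge {S : Type u} [CommRing S] (f : R →+* S) {n m : ℕ}
    (Ψ : Matrix (Fin n) (Fin m) R) (r : ℕ) :
    (CAlgX.minorIdeal Ψ r).map f ≤ CAlgX.minorIdeal (Ψ.map f) r := by
  rw [CAlgX.minorIdeal, Ideal.map_span, Ideal.span_le]
  rintro _ ⟨_, ⟨⟨a, b⟩, rfl⟩, rfl⟩
  show f (Ψ.submatrix a b).det ∈ CAlgX.minorIdeal (Ψ.map f) r
  have h1 : f (Ψ.submatrix a b).det = ((Ψ.map f).submatrix a b).det := by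
    rw [Matrix.submatrix_map, RingHom.map_det]
    rfl
  rw [h1]
  exact Ideal.subset_span ⟨(a, b), rfl⟩

end basic


section modexact

theorem mod_exact {A B : Type u} [CommRing A] [CommRing B] (q : A →+* B)
    (hq : Function.Surjective q) {t : ℕ}
    (φ : Matrix (Fin (t + 1)) (Fin t) A) (f : Fin (t + 1) → A) (hf : ∀ i, q (f i) = q (sm φ i))
    (hex : LinearMap.range (φ.map q).mulVecLin =
      LinearMap.ker (Fintype.linearCombination B (sm (φ.map q))))
    (y : Fin (t + 1) → A) (hy : q (∑ i, f i * y i) = 0) :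
    ∃ w : Fin t → A, ∀ i, q (y i - (φ.mulVec w) i) = 0 := by
  have h1 : (q ∘ y) ∈ LinearMap.ker (Fintype.linearCombination B (sm (φ.map q))) := by
    rw [LinearMap.mem_ker, Fintype.linearCombination_apply]
    rw [map_sum] at hy
    rw [← hy]
    refine Finset.sum_congr rfl fun i _ => ?_
    rw [Function.comp_apply, smul_eq_mul, sm_map, map_mul, hf i, mul_comm]
  rw [← hex] at h1
  obtain ⟨wb, hwb⟩ := h1
  choose w hw using fun j => hq (wb j)
  refine ⟨w, fun i => ?_⟩
  have h2 : q ((φ.mulVec w) i) = ((φ.map q).mulVec (q ∘ w)) i := RingHom.map_mulVec q φ w i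
  have h3 : (q ∘ w) = wb := funext hw
  rw [Matrix.mulVecLin_apply] at hwb
  rw [map_sub, h2, h3, hwb, Function.comp_apply, sub_self]

theorem pi_mem_smul_top {C M : Type u} [CommRing C] [AddCommGroup M] [Module C M] (I : Ideal C)
    {n : ℕ} (z : Fin n → M) (hz : ∀ i, z i ∈ I • (⊤ : Submodule C M)) :
    z ∈ I • (⊤ : Submodule C (Fin n → M)) := by
  classical
  have h1 : z = ∑ i, (LinearMap.single C (fun _ : Fin n => M) i) (z i) := by
    simp only [LinearMap.coe_single]
    exact (Finset.univ_sum_single z).symm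
  rw [h1]
  refine Submodule.sum_mem _ fun i _ => ?_
  have h2 := Submodule.mem_map_of_mem (f := LinearMap.single C (fun _ : Fin n => M) i) (hz i)
  rw [Submodule.map_smul''] at h2
  exact Submodule.smul_mono le_rfl le_top h2

theorem ker_eq_range_and_flat {C A : Type u} [CommRing C] [IsLocalRing C] [CommRing A]
    [Algebra C A] [Module.Flat C A]
    (hnil : IsNilpotent (IsLocalRing.maximalIdeal C)) {t : ℕ}
    (φ : Matrix (Fin (t + 1)) (Fin t) A) (f : Fin (t + 1) → A)
    (hfφ : ∀ w : Fin t → A, ∑ i, f i * (φ.mulVec w) i = 0)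
    (hmod : ∀ y : Fin (t + 1) → A,
      (∑ i, f i * y i) ∈ (IsLocalRing.maximalIdeal C).map (algebraMap C A) →
      ∃ w : Fin t → A, ∀ i,
        y i - (φ.mulVec w) i ∈ (IsLocalRing.maximalIdeal C).map (algebraMap C A)) :
    LinearMap.range φ.mulVecLin = LinearMap.ker (Fintype.linearCombination A f) ∧
      Module.Flat C (A ⧸ Ideal.span (Set.range f)) := by
  classical
  have hg_apply : ∀ y, Fintype.linearCombination A f y = ∑ i, f i * y i := by
    intro y
    rw [Fintype.linearCombination_apply]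
    exact Finset.sum_congr rfl (fun i _ => by rw [smul_eq_mul, mul_comm])
  have hPg : LinearMap.range φ.mulVecLin ≤ LinearMap.ker (Fintype.linearCombination A f) := by
    rintro _ ⟨w, rfl⟩
    rw [LinearMap.mem_ker, hg_apply, Matrix.mulVecLin_apply]
    exact hfφ w
  let P : Submodule A (Fin (t + 1) → A) := LinearMap.range φ.mulVecLin
  let ubar : ((Fin (t + 1) → A) ⧸ P) →ₗ[A] A := P.liftQ (Fintype.linearCombination A f) hPg
  let u : ((Fin (t + 1) → A) ⧸ P) →ₗ[C] A := ubar.restrictScalars C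
  have hu_mk : ∀ y, u (P.mkQ y) = ∑ i, f i * y i := fun y => hg_apply y
  have hu : ∀ x : (Fin (t + 1) → A) ⧸ P,
      u x ∈ (IsLocalRing.maximalIdeal C) • (⊤ : Submodule C A) →
      x ∈ (IsLocalRing.maximalIdeal C) • (⊤ : Submodule C ((Fin (t + 1) → A) ⧸ P)) := by
    intro x hx
    obtain ⟨y, rfl⟩ := P.mkQ_surjective x
    have hx' : (∑ i, f i * y i) ∈ (IsLocalRing.maximalIdeal C).map (algebraMap C A) := by
      rw [hu_mk] at hx
      rw [← NilpFlat.mem_map_smul_top_iff (B := A), Ideal.smul_eq_mul, Ideal.mul_top] at hx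
      exact hx
    obtain ⟨w, hw⟩ := hmod y hx'
    have h0 : P.mkQ (φ.mulVec w) = 0 := by
      rw [Submodule.mkQ_apply, Submodule.Quotient.mk_eq_zero]
      exact ⟨w, rfl⟩
    have h1 : P.mkQ y = P.mkQ (y - φ.mulVec w) := by
      rw [map_sub, h0, sub_zero]
    rw [h1]
    have h2 : (y - φ.mulVec w) ∈
        (IsLocalRing.maximalIdeal C) • (⊤ : Submodule C (Fin (t + 1) → A)) :=
      pi_mem_smul_top _ _ (fun i => by
        rw [← NilpFlat.mem_map_smul_top_iff (B := A), Ideal.smul_eq_mul, Ideal.mul_top]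
        exact hw i)
    have h3 := Submodule.mem_map_of_mem (f := (P.mkQ.restrictScalars C)) h2
    rw [Submodule.map_smul''] at h3
    exact Submodule.smul_mono le_rfl le_top h3
  obtain ⟨hinj, hflat⟩ := NilpFlat.injective_and_flat_coker (IsLocalRing.maximalIdeal C) hnil u hu
  refine ⟨le_antisymm hPg ?_, ?_⟩
  · intro y hy
    have h1 : u (P.mkQ y) = 0 := by
      rw [hu_mk, ← hg_apply]
      exact hy
    have h2 : P.mkQ y = 0 := hinj (by rw [h1, map_zero])
    rwa [Submodule.mkQ_apply, Submodule.Quotient.mk_eq_zero] at h2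
  · have hrange : LinearMap.range u = (Ideal.span (Set.range f)).restrictScalars C := by
      apply Submodule.ext
      intro a
      rw [Submodule.restrictScalars_mem]
      show a ∈ LinearMap.range u ↔ a ∈ Submodule.span A (Set.range f)
      rw [← Fintype.range_linearCombination (R := A) f]
      constructor
      · rintro ⟨x, rfl⟩
        obtain ⟨y, rfl⟩ := P.mkQ_surjective x
        exact ⟨y, rfl⟩
      · rintro ⟨y, rfl⟩
        exact ⟨P.mkQ y, rfl⟩
    haveI := hflat
    exact Module.Flat.of_linearEquiv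
      ((Submodule.Quotient.restrictScalarsEquiv C (Ideal.span (Set.range f))).symm ≪≫ₗ
        (Submodule.quotEquivOfEq _ _ hrange.symm))

end modexact

section lift

variable {C A : Type u} [CommRing C] [IsLocalRing C] [IsArtinianRing C] [CommRing A] [Algebra C A]
  [Module.Flat C A]

theorem isNilpotent_maximalIdeal (C : Type u) [CommRing C] [IsLocalRing C] [IsArtinianRing C] :
    IsNilpotent (IsLocalRing.maximalIdeal C) := by
  rw [← IsLocalRing.jacobson_eq_maximalIdeal ⊥ bot_ne_top]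
  exact IsArtinianRing.isNilpotent_jacobson_bot

/-- weak regularity of a sequence on `A` is equivalent to weak regularity on `A/𝔠A`. -/
theorem isWeaklyRegular_iff_quotient (𝔠 : Ideal C) (h𝔠 : 𝔠 ≠ ⊤) (rs : List A) :
    IsWeaklyRegular A rs ↔
      IsWeaklyRegular (A ⧸ 𝔠.map (algebraMap C A))
        (rs.map (algebraMap A (A ⧸ 𝔠.map (algebraMap C A)))) := by
  obtain ⟨hR1, -⟩ := NilpFlat.weaklyRegular_iff_and_flat (isNilpotent_maximalIdeal C) 𝔠 h𝔠 rs A
  have hIStop : (𝔠.map (algebraMap C A)) • (⊤ : Submodule A A) = 𝔠.map (algebraMap C A) := by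
    rw [Ideal.smul_eq_mul, Ideal.mul_top]
  rw [hR1, isWeaklyRegular_map_algebraMap_iff]
  exact (Submodule.quotEquivOfEq _ _ hIStop).isWeaklyRegular_congr rs

theorem exists_pair [IsNoetherianRing A] (𝔠 : Ideal C) (h𝔠 : 𝔠 ≠ ⊤) {t : ℕ}
    (φ : Matrix (Fin (t + 1)) (Fin t) A)
    (hinj : Function.Injective (φ.map (Ideal.Quotient.mk (𝔠.map (algebraMap C A)))).mulVecLin)
    (hex : LinearMap.range (φ.map (Ideal.Quotient.mk (𝔠.map (algebraMap C A)))).mulVecLin =
      LinearMap.ker (Fintype.linearCombination (A ⧸ 𝔠.map (algebraMap C A))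
        (sm (φ.map (Ideal.Quotient.mk (𝔠.map (algebraMap C A))))))) :
    ∃ x ∈ CAlgX.minorIdeal φ t, ∃ y ∈ CAlgX.minorIdeal φ t, IsWeaklyRegular A [x, y] := by
  obtain ⟨xb, hxb, yb, hyb, hxreg, hyreg⟩ :=
    Groth.Agent.Lib.Helper7.HilbBurch2.exists_regular_pair
      (φ.map (Ideal.Quotient.mk (𝔠.map (algebraMap C A))))
      (Fintype.linearCombination (A ⧸ 𝔠.map (algebraMap C A))
        (sm (φ.map (Ideal.Quotient.mk (𝔠.map (algebraMap C A))))))
      (LinearMap.ker_eq_bot.2 hinj) hex.symm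
  have hreg := isWeaklyRegular_pair xb yb hxreg hyreg
  obtain ⟨x, hx, rfl⟩ := (Ideal.mem_map_iff_of_surjective
    (Ideal.Quotient.mk (𝔠.map (algebraMap C A))) Ideal.Quotient.mk_surjective).1
    (Groth.Agent.Lib.Helper7.HilbBurch2.minorIdeal_map_le
      (Ideal.Quotient.mk (𝔠.map (algebraMap C A))) φ t hxb)
  obtain ⟨y, hy, rfl⟩ := (Ideal.mem_map_iff_of_surjective
    (Ideal.Quotient.mk (𝔠.map (algebraMap C A))) Ideal.Quotient.mk_surjective).1
    (Groth.Agent.Lib.Helper7.HilbBurch2.minorIdeal_map_le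
      (Ideal.Quotient.mk (𝔠.map (algebraMap C A))) φ t hyb)
  refine ⟨x, hx, y, hy, ?_⟩
  rw [isWeaklyRegular_iff_quotient 𝔠 h𝔠]
  exact hreg

theorem hb_exact_map [IsNoetherianRing A] (𝔠' : Ideal C) (h𝔠' : 𝔠' ≠ ⊤) {t : ℕ}
    (φ : Matrix (Fin (t + 1)) (Fin t) A) (x y : A) (hx : x ∈ CAlgX.minorIdeal φ t)
    (hy : y ∈ CAlgX.minorIdeal φ t) (h : IsWeaklyRegular A [x, y]) :
    Function.Injective (φ.map (Ideal.Quotient.mk (𝔠'.map (algebraMap C A)))).mulVecLin ∧
      LinearMap.range (φ.map (Ideal.Quotient.mk (𝔠'.map (algebraMap C A)))).mulVecLin =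
      LinearMap.ker (Fintype.linearCombination (A ⧸ 𝔠'.map (algebraMap C A))
        (sm (φ.map (Ideal.Quotient.mk (𝔠'.map (algebraMap C A)))))) :=
  hb_exact_of_pair _ (Ideal.Quotient.mk (𝔠'.map (algebraMap C A)) x)
    (Ideal.Quotient.mk (𝔠'.map (algebraMap C A)) y)
    (minorIdeal_map_ge _ φ t (Ideal.mem_map_of_mem _ hx))
    (minorIdeal_map_ge _ φ t (Ideal.mem_map_of_mem _ hy))
    ((isWeaklyRegular_iff_quotient 𝔠' h𝔠' [x, y]).1 h)


theorem hmod_of_exact {A : Type u} [CommRing A] (𝔞 : Ideal A) {t : ℕ}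
    (φ : Matrix (Fin (t + 1)) (Fin t) A) (f : Fin (t + 1) → A) (hf : ∀ i, f i - sm φ i ∈ 𝔞)
    (h3 : LinearMap.range (φ.map (Ideal.Quotient.mk 𝔞)).mulVecLin =
      LinearMap.ker (Fintype.linearCombination (A ⧸ 𝔞) (sm (φ.map (Ideal.Quotient.mk 𝔞))))) :
    ∀ y : Fin (t + 1) → A, (∑ i, f i * y i) ∈ 𝔞 →
      ∃ w : Fin t → A, ∀ i, y i - (φ.mulVec w) i ∈ 𝔞 := by
  intro y hy
  obtain ⟨w, hw⟩ := mod_exact (Ideal.Quotient.mk 𝔞) Ideal.Quotient.mk_surjective φ f
    (fun i => by
      rw [← sub_eq_zero, ← map_sub, Ideal.Quotient.eq_zero_iff_mem]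
      exact hf i) h3 y
    (Ideal.Quotient.eq_zero_iff_mem.2 hy)
  exact ⟨w, fun i => Ideal.Quotient.eq_zero_iff_mem.1 (hw i)⟩

/-- Hilbert–Burch exactness and flatness lift from `A/𝔠A` to `A`. -/
theorem hb_flat [IsNoetherianRing A] (𝔠 : Ideal C) (h𝔠 : 𝔠 ≠ ⊤) {t : ℕ}
    (φ : Matrix (Fin (t + 1)) (Fin t) A)
    (hinj : Function.Injective (φ.map (Ideal.Quotient.mk (𝔠.map (algebraMap C A)))).mulVecLin)
    (hex : LinearMap.range (φ.map (Ideal.Quotient.mk (𝔠.map (algebraMap C A)))).mulVecLin =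
      LinearMap.ker (Fintype.linearCombination (A ⧸ 𝔠.map (algebraMap C A))
        (sm (φ.map (Ideal.Quotient.mk (𝔠.map (algebraMap C A))))))) :
    Function.Injective φ.mulVecLin ∧
      LinearMap.range φ.mulVecLin = LinearMap.ker (Fintype.linearCombination A (sm φ)) ∧
      Module.Flat C (A ⧸ Ideal.span (Set.range (sm φ))) := by
  obtain ⟨x, hx, y, hy, hreg⟩ := exists_pair 𝔠 h𝔠 φ hinj hex
  obtain ⟨h1, h2⟩ := hb_exact_of_pair φ x y hx hy hreg
  obtain ⟨-, h3⟩ := hb_exact_map (IsLocalRing.maximalIdeal C)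
    (Ideal.IsMaximal.ne_top inferInstance) φ x y hx hy hreg
  obtain ⟨-, h4⟩ := ker_eq_range_and_flat (isNilpotent_maximalIdeal C) φ (sm φ)
    (fun w => sum_sm_mul φ w)
    (hmod_of_exact _ φ (sm φ) (fun i => by rw [sub_self]; exact zero_mem _) h3)
  exact ⟨h1, h2, h4⟩

omit [IsLocalRing C] [IsArtinianRing C] [Module.Flat C A] in
theorem exists_lift_relations (𝔠 : Ideal C) (I : Ideal A)
    [Module.Flat C (A ⧸ I)] {t : ℕ} (f : Fin (t + 1) → A) (hI : I = Ideal.span (Set.range f))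
    (φb : Matrix (Fin (t + 1)) (Fin t) (A ⧸ 𝔠.map (algebraMap C A)))
    (hrel : ∀ j, ∑ i, Ideal.Quotient.mk (𝔠.map (algebraMap C A)) (f i) * φb i j = 0) :
    ∃ φ : Matrix (Fin (t + 1)) (Fin t) A,
      φ.map (Ideal.Quotient.mk (𝔠.map (algebraMap C A))) = φb ∧ ∀ j, ∑ i, f i * φ i j = 0 := by
  classical
  choose φ0 hφ0 using fun i j =>
    Ideal.Quotient.mk_surjective (I := 𝔠.map (algebraMap C A)) (φb i j)
  have hε : ∀ j, ∃ η : Fin (t + 1) → A, (∀ i, η i ∈ 𝔠.map (algebraMap C A)) ∧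
      ∑ i, f i * φ0 i j = ∑ i, f i * η i := by
    intro j
    have h1 : (∑ i, f i * φ0 i j) ∈ I := by
      rw [hI]
      exact Ideal.sum_mem _ (fun i _ => Ideal.mul_mem_right _ _ (Ideal.subset_span ⟨i, rfl⟩))
    have h2 : (∑ i, f i * φ0 i j) ∈ 𝔠.map (algebraMap C A) := by
      rw [← Ideal.Quotient.eq_zero_iff_mem, map_sum, ← hrel j]
      refine Finset.sum_congr rfl fun i _ => ?_
      rw [map_mul, hφ0]
    have h2' : (∑ i, f i * φ0 i j) ∈ 𝔠 • (⊤ : Submodule C A) := by
      rw [← NilpFlat.mem_map_smul_top_iff (B := A), Ideal.smul_eq_mul, Ideal.mul_top]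
      exact h2
    have h3 : (∑ i, f i * φ0 i j) ∈ (𝔠.map (algebraMap C A)) • (I : Submodule A A) :=
      RegFlat.mem_smul_of_flat_quotient (A := C) (B := A) (M := A) 𝔠 I h1 h2'
    rw [hI] at h3
    obtain ⟨a, ha, hsum⟩ := (Submodule.mem_ideal_smul_span_iff_exists_sum _ f _).1 h3
    refine ⟨fun i => a i, ha, ?_⟩
    rw [← hsum, Finsupp.sum_fintype]
    · exact Finset.sum_congr rfl fun i _ => by rw [smul_eq_mul, mul_comm]
    · intro i
      rw [zero_smul]
  choose η hη1 hη2 using hε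
  refine ⟨Matrix.of (fun i j => φ0 i j - η j i), ?_, ?_⟩
  · ext i j
    rw [Matrix.map_apply, Matrix.of_apply, map_sub, hφ0,
      Ideal.Quotient.eq_zero_iff_mem.2 (hη1 j i), sub_zero]
  · intro j
    simp only [Matrix.of_apply, mul_sub, Finset.sum_sub_distrib]
    rw [hη2 j, sub_self]

theorem isUnit_of_map_eq {A B : Type u} [CommRing A] [CommRing B] (q : A →+* B)
    (hq : Function.Surjective q) (hker : ∃ k : ℕ, (RingHom.ker q) ^ k = ⊥)
    (a : A) (K : Ideal A) (hK : K.FG) (h : (Ideal.span {a} * K).map q = K.map q)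
    (x : B) (hxK : x ∈ K.map q) (hx : ∀ r : B, x * r = 0 → r = 0) : IsUnit a := by
  have hN : K.map q ≤ Ideal.span {q a} • (K.map q) := by
    rw [Ideal.smul_eq_mul, ← Set.image_singleton, ← Ideal.map_span, ← Ideal.map_mul, h]
  obtain ⟨r, hr1, hr2⟩ := Submodule.exists_sub_one_mem_and_smul_eq_zero_of_fg_of_le_smul
    (Ideal.span {q a}) (K.map q) (hK.map q) hN
  have hr0 : r = 0 := hx r (by
    have := hr2 x hxK
    rwa [smul_eq_mul, mul_comm] at this)
  have h1 : (1 : B) ∈ Ideal.span {q a} := by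
    rw [hr0, zero_sub] at hr1
    exact (Ideal.neg_mem_iff _).1 hr1
  obtain ⟨b, hb⟩ := Ideal.mem_span_singleton'.1 h1
  obtain ⟨b', rfl⟩ := hq b
  have h2 : b' * a - 1 ∈ RingHom.ker q := by
    rw [RingHom.mem_ker, map_sub, map_mul, hb, map_one, sub_self]
  obtain ⟨k, hk⟩ := hker
  have h3 : IsNilpotent (b' * a - 1) := ⟨k, by
    have := Ideal.pow_mem_pow h2 k
    rw [hk] at this
    exact this⟩
  have h4 : IsUnit (b' * a) := by
    have := h3.isUnit_add_one
    rwa [sub_add_cancel] at this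
  exact isUnit_of_mul_isUnit_right h4


/-- Core lifting theorem: a Hilbert–Burch presentation of `I` modulo `𝔠A` lifts to one of `I`
when `A/I` is flat over the Artinian local ring `C`. -/
theorem exists_lift [IsNoetherianRing A] (𝔠 : Ideal C) (h𝔠 : 𝔠 ≠ ⊤) (I : Ideal A)
    [Module.Flat C (A ⧸ I)] {t : ℕ}
    (φb : Matrix (Fin (t + 1)) (Fin t) (A ⧸ 𝔠.map (algebraMap C A)))
    (hinj : Function.Injective φb.mulVecLin)
    (hex : LinearMap.range φb.mulVecLin =
      LinearMap.ker (Fintype.linearCombination (A ⧸ 𝔠.map (algebraMap C A)) (sm φb)))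
    (hI : I.map (Ideal.Quotient.mk (𝔠.map (algebraMap C A))) = Ideal.span (Set.range (sm φb))) :
    ∃ φ : Matrix (Fin (t + 1)) (Fin t) A,
      φ.map (Ideal.Quotient.mk (𝔠.map (algebraMap C A))) = φb ∧
      I = Ideal.span (Set.range (sm φ)) ∧ Function.Injective φ.mulVecLin ∧
      LinearMap.range φ.mulVecLin = LinearMap.ker (Fintype.linearCombination A (sm φ)) := by
  classical
  have h𝔠m : 𝔠 ≤ IsLocalRing.maximalIdeal C := IsLocalRing.le_maximalIdeal h𝔠
  have hnil := isNilpotent_maximalIdeal C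
  obtain ⟨k, hk⟩ := hnil
  have h𝔠k : 𝔠 ^ k = ⊥ := by
    have h1 := Ideal.pow_right_mono h𝔠m k
    rw [hk] at h1
    exact le_bot_iff.mp h1
  have h𝔠nil : IsNilpotent 𝔠 := ⟨k, h𝔠k⟩
  rcases subsingleton_or_nontrivial A with hA | hA
  · haveI : Subsingleton (A ⧸ 𝔠.map (algebraMap C A)) :=
      Function.Surjective.subsingleton Ideal.Quotient.mk_surjective
    refine ⟨0, Subsingleton.elim _ _, ?_, fun a b _ => Subsingleton.elim _ _, ?_⟩
    · exact Ideal.ext (fun a => by
        rw [Subsingleton.elim a 0]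
        exact ⟨fun _ => zero_mem _, fun _ => zero_mem _⟩)
    · exact Submodule.ext (fun v => by
        rw [Subsingleton.elim v 0]
        exact ⟨fun _ => zero_mem _, fun _ => zero_mem _⟩)
  · have h𝔠A : 𝔠.map (algebraMap C A) ≠ ⊤ := by
      intro htop
      have h1 : (𝔠.map (algebraMap C A)) ^ k = ⊥ := by
        rw [← Ideal.map_pow, h𝔠k, Ideal.map_bot]
      rw [htop, Ideal.top_pow] at h1
      exact top_ne_bot h1
    haveI : Nontrivial (A ⧸ 𝔠.map (algebraMap C A)) := Ideal.Quotient.nontrivial_iff.2 h𝔠A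
    -- lifts of the generators
    have hmem : ∀ i, ∃ x ∈ I, Ideal.Quotient.mk (𝔠.map (algebraMap C A)) x = sm φb i := by
      intro i
      have h1 : sm φb i ∈ I.map (Ideal.Quotient.mk (𝔠.map (algebraMap C A))) := by
        rw [hI]
        exact Ideal.subset_span ⟨i, rfl⟩
      exact (Ideal.mem_map_iff_of_surjective _ Ideal.Quotient.mk_surjective).mp h1
    choose f hfI hf using hmem
    have hIf : I = Ideal.span (Set.range f) := by
      have hKI : Ideal.span (Set.range f) ≤ I := by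
        rw [Ideal.span_le]
        rintro _ ⟨i, rfl⟩
        exact hfI i
      apply le_antisymm _ hKI
      apply Groth.Agent.Lib.Helper7.FlatLift.le_of_nilpotent 𝔠 h𝔠nil I _ hKI
      rw [hI, Ideal.map_span, ← Set.range_comp]
      have hfun : (⇑(Ideal.Quotient.mk (𝔠.map (algebraMap C A))) ∘ f) = sm φb := funext hf
      rw [hfun]
    -- lift the relations
    obtain ⟨φ, hφ, hrel⟩ := exists_lift_relations 𝔠 I f hIf φb (fun j => by
      rw [← sum_sm_mul_col φb j]
      exact Finset.sum_congr rfl (fun i _ => by rw [hf i]))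
    have hfφ : ∀ w : Fin t → A, ∑ i, f i * (φ.mulVec w) i = 0 := by
      intro w
      simp only [Matrix.mulVec, dotProduct, Finset.mul_sum]
      rw [Finset.sum_comm]
      refine Finset.sum_eq_zero fun j _ => ?_
      have h1 : ∑ i, f i * (φ i j * w j) = (∑ i, f i * φ i j) * w j := by
        rw [Finset.sum_mul]
        exact Finset.sum_congr rfl (fun i _ => by ring)
      rw [h1, hrel j, zero_mul]
    have hinj' : Function.Injective
        (φ.map (Ideal.Quotient.mk (𝔠.map (algebraMap C A)))).mulVecLin := by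
      rw [hφ]
      exact hinj
    have hex' : LinearMap.range (φ.map (Ideal.Quotient.mk (𝔠.map (algebraMap C A)))).mulVecLin =
        LinearMap.ker (Fintype.linearCombination (A ⧸ 𝔠.map (algebraMap C A))
          (sm (φ.map (Ideal.Quotient.mk (𝔠.map (algebraMap C A)))))) := by
      rw [hφ]
      exact hex
    obtain ⟨x, hx, y, hy, hreg⟩ := exists_pair 𝔠 h𝔠 φ hinj' hex'
    obtain ⟨h1, h2⟩ := hb_exact_of_pair φ x y hx hy hreg
    obtain ⟨-, h3⟩ := hb_exact_map (IsLocalRing.maximalIdeal C)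
      (Ideal.IsMaximal.ne_top inferInstance) φ x y hx hy hreg
    have hfsm : ∀ i, f i - sm φ i ∈ (IsLocalRing.maximalIdeal C).map (algebraMap C A) := by
      intro i
      have h4 : f i - sm φ i ∈ 𝔠.map (algebraMap C A) := by
        rw [← Ideal.Quotient.eq_zero_iff_mem, map_sub, hf i, ← sm_map, hφ, sub_self]
      exact Ideal.map_mono h𝔠m h4
    obtain ⟨h5, -⟩ := ker_eq_range_and_flat ⟨k, hk⟩ φ f hfφ (hmod_of_exact _ φ f hfsm h3)
    -- `I ≠ ⊥`
    have hIne : I ≠ ⊥ := by
      intro hI0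
      rw [hI0, Ideal.map_bot] at hI
      have hzero : ∀ i, sm φb i = 0 := by
        intro i
        have h6 : sm φb i ∈ Ideal.span (Set.range (sm φb)) := Ideal.subset_span ⟨i, rfl⟩
        rw [← hI] at h6
        exact h6
      have hker : LinearMap.ker (Fintype.linearCombination (A ⧸ 𝔠.map (algebraMap C A)) (sm φb))
          = ⊤ := by
        rw [eq_top_iff]
        intro v _
        rw [LinearMap.mem_ker, Fintype.linearCombination_apply]
        exact Finset.sum_eq_zero (fun i _ => by rw [hzero i, smul_zero])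
      rw [hker] at hex
      have e := LinearEquiv.ofBijective φb.mulVecLin ⟨hinj, LinearMap.range_eq_top.1 hex⟩
      have h7 := e.finrank_eq
      rw [Module.finrank_fin_fun, Module.finrank_fin_fun] at h7
      omega
    obtain ⟨-, ⟨a, ha, hIa⟩, -⟩ := Groth.Agent.S12907.result t (t + 1) φ
      (Fintype.linearCombination A f) (LinearMap.ker_eq_bot.2 h1) h5.symm (by
        rw [Fintype.range_linearCombination]
        intro h8
        apply hIne
        rw [hIf]
        exact h8)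
    have hIa' : I = Ideal.span {a} * CAlgX.minorIdeal φ t := by
      rw [← hIa, hIf]
      exact (Fintype.range_linearCombination A f).symm
    -- `a` is a unit
    have hKmap : (CAlgX.minorIdeal φ t).map (Ideal.Quotient.mk (𝔠.map (algebraMap C A))) =
        CAlgX.minorIdeal φb t := by
      rw [← hφ]
      exact le_antisymm (minorIdeal_map_ge _ φ t)
        (Groth.Agent.Lib.Helper7.HilbBurch2.minorIdeal_map_le _ φ t)
    have hxb : IsSMulRegular (A ⧸ 𝔠.map (algebraMap C A))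
        (Ideal.Quotient.mk (𝔠.map (algebraMap C A)) x) :=
      isSMulRegular_of_pair _ (Ideal.Quotient.mk (𝔠.map (algebraMap C A)) y)
        ((isWeaklyRegular_iff_quotient 𝔠 h𝔠 [x, y]).1 hreg)
    have haU : IsUnit a := by
      apply isUnit_of_map_eq (Ideal.Quotient.mk (𝔠.map (algebraMap C A)))
        Ideal.Quotient.mk_surjective ⟨k, ?_⟩ a (CAlgX.minorIdeal φ t)
        (IsNoetherian.noetherian _) ?_
        (Ideal.Quotient.mk (𝔠.map (algebraMap C A)) x) (Ideal.mem_map_of_mem _ hx) ?_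
      · rw [Ideal.mk_ker, ← Ideal.map_pow, h𝔠k, Ideal.map_bot]
      · rw [← hIa', hI, hKmap, span_sm]
      · intro r hr
        exact hxb (show _ • r = _ • (0 : A ⧸ 𝔠.map (algebraMap C A)) by
          rw [smul_eq_mul, hr, smul_zero])
    refine ⟨φ, hφ, ?_, h1, h2⟩
    rw [span_sm, hIa', Ideal.span_singleton_eq_top.2 haU, Ideal.top_mul]

end lift

end Groth.Agent.Lib.Helper7.HBLift
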