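import Mathlib.AlgebraicGeometry.AffineScheme
import Mathlib.AlgebraicGeometry.Properties
import Mathlib.Algebra.MvPolynomial.CommRing
import Mathlib.Algebra.MvPolynomial.Division

/-! Helper7: a Hartogs-type extension lemma on integral affine schemes and non-affineness of the
punctured plane. -/

universe u

namespace Groth.Agent.Lib.Helper7

open AlgebraicGeometry TopologicalSpace Opposite CategoryTheory

/-- restriction of sections as a ring hom -/
noncomputable abbrev rs {X : Scheme.{u}} {U V : X.Opens} (h : V ≤ U) : Γ(X, U) →+* Γ(X, V) :=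
  (X.presheaf.map (homOfLE h).op).hom

theorem rs_rs {X : Scheme.{u}} {U V W : X.Opens} (h1 : V ≤ U) (h2 : W ≤ V) (a : Γ(X, U)) :
    rs h2 (rs h1 a) = rs (h2.trans h1) a := by
  simp only [rs]
  rw [← CommRingCat.comp_apply, ← Functor.map_comp]; rfl

theorem hartogs {X : Scheme.{u}} [IsAffine X] [IsIntegral X] (f g : Γ(X, ⊤)) (hf : Prime f)
    (hfg : ¬ f ∣ g) (hg : g ≠ 0) :
    Function.Surjective (rs (le_top : X.basicOpen f ⊔ X.basicOpen g ≤ ⊤)) := by
  intro a
  have hf0 : f ≠ 0 := hf.ne_zero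
  have hDf : X.basicOpen f ≤ X.basicOpen f ⊔ X.basicOpen g := le_sup_left
  have hDg : X.basicOpen g ≤ X.basicOpen f ⊔ X.basicOpen g := le_sup_right
  have hDDf : X.basicOpen (f * g) ≤ X.basicOpen f := by
    rw [Scheme.basicOpen_mul]; exact inf_le_left
  have hDDg : X.basicOpen (f * g) ≤ X.basicOpen g := by
    rw [Scheme.basicOpen_mul]; exact inf_le_right
  have locF := (isAffineOpen_top X).isLocalization_basicOpen f
  have locG := (isAffineOpen_top X).isLocalization_basicOpen g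
  have locFG := (isAffineOpen_top X).isLocalization_basicOpen (f * g)
  obtain ⟨⟨p, ⟨_, n, rfl⟩⟩, hp⟩ := IsLocalization.surj (Submonoid.powers f) (rs hDf a)
  obtain ⟨⟨q, ⟨_, m, rfl⟩⟩, hq⟩ := IsLocalization.surj (Submonoid.powers g) (rs hDg a)
  change rs hDf a * rs (X.basicOpen_le f) (f ^ n) = rs (X.basicOpen_le f) p at hp
  change rs hDg a * rs (X.basicOpen_le g) (g ^ m) = rs (X.basicOpen_le g) q at hq
  have hp' := congrArg (rs hDDf) hp
  have hq' := congrArg (rs hDDg) hq
  rw [map_mul, rs_rs, rs_rs, rs_rs] at hp' hq'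
  have hinj : Function.Injective (rs (X.basicOpen_le (f * g))) :=
    IsLocalization.injective _ (M := Submonoid.powers (f * g))
      (powers_le_nonZeroDivisors_of_noZeroDivisors (mul_ne_zero hf0 hg))
  have hpq : p * g ^ m = q * f ^ n := by
    apply hinj
    rw [map_mul, map_mul, ← hp', ← hq']
    ring
  have hdvd : f ^ n ∣ p := by
    refine hf.pow_dvd_of_dvd_mul_right (b := g ^ m) n (fun h => hfg (hf.dvd_of_dvd_pow h)) ?_
    exact ⟨q, by rw [hpq]; ring⟩
  obtain ⟨c, rfl⟩ := hdvd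
  have hq2 : q = c * g ^ m := by
    apply mul_left_cancel₀ (pow_ne_zero n hf0)
    rw [mul_comm _ q, ← hpq]; ring
  refine ⟨c, ?_⟩
  have hunitF : IsUnit (rs (X.basicOpen_le f) (f ^ n)) :=
    IsLocalization.map_units _ (⟨f ^ n, n, rfl⟩ : Submonoid.powers f)
  have hunitG : IsUnit (rs (X.basicOpen_le g) (g ^ m)) :=
    IsLocalization.map_units _ (⟨g ^ m, m, rfl⟩ : Submonoid.powers g)
  refine X.sheaf.eq_of_locally_eq₂ (homOfLE hDf) (homOfLE hDg) le_rfl _ _ ?_ ?_
  · change rs hDf (rs le_top c) = rs hDf a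
    rw [rs_rs]
    apply hunitF.mul_right_cancel
    rw [hp, ← map_mul, mul_comm]
  · change rs hDg (rs le_top c) = rs hDg a
    rw [rs_rs]
    apply hunitG.mul_right_cancel
    rw [hq, hq2, ← map_mul]

theorem not_isAffineOpen_of_hartogs {X : Scheme.{u}} [IsAffine X] [IsIntegral X] (f g : Γ(X, ⊤))
    (hf : Prime f) (hfg : ¬ f ∣ g) (hg : g ≠ 0) (hspan : Ideal.span {f, g} ≠ ⊤) :
    ¬ IsAffineOpen (X.basicOpen f ⊔ X.basicOpen g) := by
  intro hU
  apply hspan
  have locF := (isAffineOpen_top X).isLocalization_basicOpen f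
  have h1 : Ideal.span ({rs (le_top : X.basicOpen f ⊔ X.basicOpen g ≤ ⊤) f,
      rs (le_top : X.basicOpen f ⊔ X.basicOpen g ≤ ⊤) g} :
      Set Γ(X, X.basicOpen f ⊔ X.basicOpen g)) = ⊤ := by
    rw [← hU.self_le_iSup_basicOpen_iff]
    intro x hx
    rw [Opens.mem_iSup]
    rcases (show x ∈ (X.basicOpen f : Set X) ∪ X.basicOpen g from hx) with hx' | hx'
    · refine ⟨⟨rs le_top f, by simp⟩, ?_⟩
      change x ∈ X.basicOpen ((X.presheaf.map (homOfLE le_top).op).hom f)
      rw [Scheme.basicOpen_res]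
      exact ⟨hx, hx'⟩
    · refine ⟨⟨rs le_top g, by simp⟩, ?_⟩
      change x ∈ X.basicOpen ((X.presheaf.map (homOfLE le_top).op).hom g)
      rw [Scheme.basicOpen_res]
      exact ⟨hx, hx'⟩
  have h2 : (1 : Γ(X, X.basicOpen f ⊔ X.basicOpen g)) ∈
      Ideal.span ({rs (le_top : X.basicOpen f ⊔ X.basicOpen g ≤ ⊤) f,
      rs (le_top : X.basicOpen f ⊔ X.basicOpen g ≤ ⊤) g} :
      Set Γ(X, X.basicOpen f ⊔ X.basicOpen g)) := by
    rw [h1]; trivial
  rw [Ideal.mem_span_pair] at h2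
  obtain ⟨a, b, hab⟩ := h2
  obtain ⟨a', rfl⟩ := hartogs f g hf hfg hg a
  obtain ⟨b', rfl⟩ := hartogs f g hf hfg hg b
  have hinj : Function.Injective (rs (le_top : X.basicOpen f ⊔ X.basicOpen g ≤ ⊤)) := by
    intro r s hrs
    have := congrArg (rs (le_sup_left : X.basicOpen f ≤ X.basicOpen f ⊔ X.basicOpen g)) hrs
    rw [rs_rs, rs_rs] at this
    exact (IsLocalization.injective _ (M := Submonoid.powers f)
      (powers_le_nonZeroDivisors_of_noZeroDivisors hf.ne_zero)) this
  rw [Ideal.eq_top_iff_one, Ideal.mem_span_pair]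
  refine ⟨a', b', hinj ?_⟩
  rw [map_add, map_mul, map_mul, map_one, hab]

theorem not_isAffineOpen_plane (K : Type u) [Field K] :
    ¬ IsAffineOpen (X := Spec (CommRingCat.of (MvPolynomial (Fin 2) K)))
      (PrimeSpectrum.basicOpen (MvPolynomial.X 0 : MvPolynomial (Fin 2) K) ⊔
        PrimeSpectrum.basicOpen (MvPolynomial.X 1 : MvPolynomial (Fin 2) K)) := by
  let R : CommRingCat.{u} := CommRingCat.of (MvPolynomial (Fin 2) K)
  let e : Γ(Spec R, ⊤) ≃+* R := (Scheme.ΓSpecIso R).commRingCatIsoToRingEquiv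
  have he0 : (Scheme.ΓSpecIso R).inv (MvPolynomial.X 0 : MvPolynomial (Fin 2) K) =
      e.symm (MvPolynomial.X 0) := rfl
  have he1 : (Scheme.ΓSpecIso R).inv (MvPolynomial.X 1 : MvPolynomial (Fin 2) K) =
      e.symm (MvPolynomial.X 1) := rfl
  rw [← basicOpen_eq_of_affine (R := R), ← basicOpen_eq_of_affine (R := R), he0, he1]
  let ev : MvPolynomial (Fin 2) K →+* K := MvPolynomial.eval (fun i => if i = 0 then 0 else 1)
  have hev0 : ev (MvPolynomial.X 0) = 0 := by simp [ev]
  have hev1 : ev (MvPolynomial.X 1) = 1 := by simp [ev]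
  have hndvd : ¬ (MvPolynomial.X 0 : MvPolynomial (Fin 2) K) ∣ MvPolynomial.X 1 := by
    rintro ⟨c, hc⟩
    have := congrArg ev hc
    rw [map_mul, hev0, hev1, zero_mul] at this
    exact one_ne_zero this
  refine not_isAffineOpen_of_hartogs (X := Spec R) _ _ ?_ ?_ ?_ ?_
  · exact (MulEquiv.prime_iff e.symm.toMulEquiv).mpr MvPolynomial.X_prime
  · rw [map_dvd_iff]; exact hndvd
  · exact (map_ne_zero_iff _ e.symm.injective).mpr (MvPolynomial.X_ne_zero 1)
  · intro htop
    rw [Ideal.eq_top_iff_one, Ideal.mem_span_pair] at htop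
    obtain ⟨a, b, hab⟩ := htop
    have h3 := congrArg (MvPolynomial.constantCoeff.comp e.toRingHom) hab
    simp at h3

end Groth.Agent.Lib.Helper7
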