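import Mathlib

/-!
# Computing the homology of a cochain complex of abelian groups by an explicit map
-/
set_option autoImplicit false
universe u
open CategoryTheory CategoryTheory.Limits

noncomputable section

namespace Groth.Agent.Lib.Helper7.HomologyElem

variable (K : CochainComplex AddCommGrpCat.{u} ℕ) (n : ℕ)

/-- if `ψ : Kⁿ → A` kills the coboundaries, is surjective on cocycles, and its kernel on cocycles
consists of coboundaries, then `Hⁿ(K) ≃ A`. -/
theorem exists_homologyEquiv {A : Type u} [AddCommGroup A] (ψ : K.X n →+ A)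
    (ha : ∀ (i : ℕ) (b : K.X i), i + 1 = n → ψ ((K.d i n).hom b) = 0)
    (hb : ∀ y : A, ∃ x : K.X n, (K.d n (n + 1)).hom x = 0 ∧ ψ x = y)
    (hc : ∀ x : K.X n, (K.d n (n + 1)).hom x = 0 → ψ x = 0 →
      ∃ (i : ℕ) (b : K.X i), (K.d i n).hom b = x) :
    ∃ E : K.homology n ≃+ A,
      ∀ z : K.cycles n, E ((K.homologyπ n).hom z) = ψ ((K.iCycles n).hom z) := by
  have hk : K.toCycles ((ComplexShape.up ℕ).prev n) n ≫
      (K.iCycles n ≫ AddCommGrpCat.ofHom ψ) = 0 := by
    rw [K.toCycles_i_assoc]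
    ext b
    change ψ ((K.d ((ComplexShape.up ℕ).prev n) n).hom b) = 0
    by_cases hrel : (ComplexShape.up ℕ).Rel ((ComplexShape.up ℕ).prev n) n
    · exact ha _ b hrel
    · rw [K.shape _ _ hrel]
      exact map_zero ψ
  let E₀ : K.homology n ⟶ AddCommGrpCat.of A :=
    (K.homologyIsCokernel ((ComplexShape.up ℕ).prev n) n rfl).desc (CokernelCofork.ofπ _ hk)
  have hE₀ : K.homologyπ n ≫ E₀ = K.iCycles n ≫ AddCommGrpCat.ofHom ψ :=
    Cofork.IsColimit.π_desc (K.homologyIsCokernel ((ComplexShape.up ℕ).prev n) n rfl)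
  have hE₀' : ∀ z : K.cycles n, E₀.hom ((K.homologyπ n).hom z) = ψ ((K.iCycles n).hom z) :=
    fun z => ConcreteCategory.congr_hom hE₀ z
  have hπ : Function.Surjective (K.homologyπ n).hom :=
    (AddCommGrpCat.epi_iff_surjective _).1 inferInstance
  have hι : Function.Injective (K.iCycles n).hom :=
    (AddCommGrpCat.mono_iff_injective _).1 inferInstance
  have hinj : Function.Injective E₀.hom := by
    rw [injective_iff_map_eq_zero]
    intro h hh
    obtain ⟨z, rfl⟩ := hπ h
    rw [hE₀'] at hh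
    have hz : (K.d n (n + 1)).hom ((K.iCycles n).hom z) = 0 :=
      ConcreteCategory.congr_hom (K.iCycles_d n (n + 1)) z
    obtain ⟨i, b, hb'⟩ := hc _ hz hh
    have h1 : (K.toCycles i n).hom b = z :=
      hι ((ConcreteCategory.congr_hom (K.toCycles_i i n) b).trans hb')
    rw [← h1]
    exact ConcreteCategory.congr_hom (K.toCycles_comp_homologyπ i n) b
  have hsurj : Function.Surjective E₀.hom := by
    intro y
    obtain ⟨x, hx, rfl⟩ := hb y
    have hx' : (K.d n ((ComplexShape.up ℕ).next n)).hom x = 0 := by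
      rw [CochainComplex.next]
      exact hx
    let x' : (K.sc n).X₂ := x
    have hx'' : x' ∈ AddMonoidHom.ker (K.sc n).g.hom := hx'
    let z : K.cycles n := (K.sc n).abCyclesIso.inv.hom ⟨x', hx''⟩
    have hz : (K.iCycles n).hom z = x := (K.sc n).abCyclesIso_inv_apply_iCycles ⟨x', hx''⟩
    exact ⟨(K.homologyπ n).hom z, (hE₀' z).trans (congrArg ψ hz)⟩
  exact ⟨AddEquiv.ofBijective E₀.hom ⟨hinj, hsurj⟩, hE₀'⟩

variable {K}

/-- compatibility of the isomorphisms of `exists_homologyEquiv` with morphisms of complexes. -/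
theorem homologyEquiv_natural {L : CochainComplex AddCommGrpCat.{u} ℕ} (φ : K ⟶ L) (n : ℕ)
    {A A' : Type u} [AddCommGroup A] [AddCommGroup A'] (ψ : K.X n →+ A) (ψ' : L.X n →+ A')
    (E : K.homology n ≃+ A) (E' : L.homology n ≃+ A')
    (hE : ∀ z : K.cycles n, E ((K.homologyπ n).hom z) = ψ ((K.iCycles n).hom z))
    (hE' : ∀ z : L.cycles n, E' ((L.homologyπ n).hom z) = ψ' ((L.iCycles n).hom z))
    (θ : A → A') (hθ : ∀ x, ψ' ((φ.f n).hom x) = θ (ψ x)) (h : K.homology n) :
    E' ((HomologicalComplex.homologyMap φ n).hom h) = θ (E h) := by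
  have hπ : Function.Surjective (K.homologyπ n).hom :=
    (AddCommGrpCat.epi_iff_surjective _).1 inferInstance
  obtain ⟨z, rfl⟩ := hπ h
  have h1 : (HomologicalComplex.homologyMap φ n).hom ((K.homologyπ n).hom z) =
      (L.homologyπ n).hom ((HomologicalComplex.cyclesMap φ n).hom z) :=
    ConcreteCategory.congr_hom (HomologicalComplex.homologyπ_naturality φ n) z
  have h2 : (L.iCycles n).hom ((HomologicalComplex.cyclesMap φ n).hom z) =
      (φ.f n).hom ((K.iCycles n).hom z) :=
    ConcreteCategory.congr_hom (HomologicalComplex.cyclesMap_i φ n) z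
  rw [h1, hE', h2, hθ, hE]

end Groth.Agent.Lib.Helper7.HomologyElem
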