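import Groth.Agent.Lib.Helper7.HypIdeal

/-!
# The ideal sheaf of the "hypersurface" of the zero form is zero (helper7)
-/

set_option autoImplicit false
universe u
open CategoryTheory CategoryTheory.Limits AlgebraicGeometry TopologicalSpace Opposite
open Scheme.Modules MvPolynomial

noncomputable section

namespace Groth.Agent.Lib.Helper7.HypIdeal

open Groth.Agent.Lib.Helper3 Groth.Agent.Lib.Helper3.QCSec Groth.Agent.Lib.Helper3.InvGen
  Groth.Agent.Lib.Helper3.HomMk Groth.Agent.Lib.Helper3.TwistBasic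
  Groth.Agent.Lib.Helper3.SubIdeal

variable {r : ℕ} {k : Type u} [Field k] {d : ℕ} (G : LefPen.Form r k d)

local notation "𝒜" => CohB1.polyGrading r k
local notation "PP" => Proj (CohB1.polyGrading r k)
local notation "PO" => Scheme.Opens (Proj (CohB1.polyGrading r k))
local notation "PA" => Scheme.affineOpens (Proj (CohB1.polyGrading r k))

lemma val_eq_zero_of_eq_zero (hG : G = 0) {V : PO} (hV : IsAffineOpen V)
    (s : Γ(ClSub.idealMod (hyp G), V)) : IdealMod.val (hyp G) s = 0 := by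
  have hg : IdealMod.val (hyp G) s ∈ (hyp G).ideal ⟨V, hV⟩ :=
    (Groth.Agent.Lib.Helper17.EffCartMod.mem_ideal_iff _ ⟨V, hV⟩ _).mpr ⟨s, rfl⟩
  have hm := (mem_hypFam_iff G ⟨V, hV⟩ _).mp (hyp_ideal_le G ⟨V, hV⟩ hg)
  apply fval_ext
  intro x
  obtain ⟨i, hi⟩ := exists_chart r k x.1
  obtain ⟨a, ha⟩ := hm i
  have h1 := congrArg (fun c => fval c (⟨x.1, ⟨x.2, hi⟩⟩ : ↥(V ⊓ chartP r k i))) ha
  simp only [fval_mul, fval_res] at h1
  have h2 : fval (dehomP G i) ⟨x.1, hi⟩ = 0 := by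
    rw [fval_dehomP]
    subst hG
    exact Localization.mk_zero _
  rw [h2, mul_zero] at h1
  rw [fval_zero]
  exact h1.symm

lemma eq_zero_of_eq_zero (hG : G = 0) {V : PO} (hV : IsAffineOpen V)
    (s : Γ(ClSub.idealMod (hyp G), V)) : s = 0 := by
  have hz : IdealMod.val (hyp G) (0 : Γ(ClSub.idealMod (hyp G), V)) = 0 := by
    unfold IdealMod.val
    rw [map_zero]
    rfl
  apply IdealMod.val_injective (hyp G) V
  rw [hz]
  exact val_eq_zero_of_eq_zero G hG hV s

lemma isZero_idealMod_hyp (hG : G = 0) : IsZero (ClSub.idealMod (hyp G)) := by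
  rw [IsZero.iff_id_eq_zero]
  apply ModGlue.hom_ext_of_small (fun V => IsAffineOpen V)
  · intro W x hx
    obtain ⟨V, hV, hxV, hVW⟩ :=
      Opens.isBasis_iff_nbhd.mp (Scheme.isBasis_affineOpens PP) hx
    exact ⟨V, hV, hxV, hVW⟩
  · intro V hV s
    rw [eq_zero_of_eq_zero G hG hV s, map_zero, map_zero]

theorem isZero_idealMod_of_eq_zero (hG : G = 0) :
    IsZero (ClSub.idealMod (LefPen.hypIdeal G)) :=
  isZero_idealMod_hyp G hG

end Groth.Agent.Lib.Helper7.HypIdeal
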