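import Mathlib
import Groth.Prelude
import Groth.Agent.Lib.Helper7.GrowthG

/-!
# Helper library (helper7): maximal growth of sections iff a power contains an ample module

On an integral projective scheme of dimension `n`, `h⁰(L^(νμ)) ≥ μ^n / a` for all `μ ≥ 1` (some
`ν, a > 0`) iff some ample module embeds in a positive power of `L` (Kodaira's lemma).
-/

set_option autoImplicit false
set_option linter.unusedSectionVars false
set_option linter.style.haveILetI false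
universe u
open CategoryTheory CategoryTheory.Limits AlgebraicGeometry Opposite TopologicalSpace
open Scheme.Modules

namespace Groth.Agent.Lib.Helper7.IitakaBig

open Groth.Agent.Lib.Helper3 Groth.Agent.Lib.Helper3.InvMonoidal Groth.Agent.Lib.Helper3.InvTensor
open Groth.Agent.Lib.Helper3.InvGen
open Groth.Agent.Lib.Helper23 Groth.Agent.Lib.Helper23.HilbP
open Groth.Agent.Lib.Helper7.SnapFGA Groth.Agent.Lib.Helper7.TwFun
open Groth.Agent.Lib.Helper7.SecDeg Groth.Agent.Lib.Helper7.SurfSecB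
open Groth.Agent.Lib.Helper7.VolMono Groth.Agent.Lib.Helper7.GrowthA
open Groth.Agent.Lib.Helper7.GrowthB Groth.Agent.Lib.Helper7.GrowthC
open Groth.Agent.Lib.Helper7.GrowthD Groth.Agent.Lib.Helper7.GrowthG

variable (k : Type u) [Field k] (X : Scheme.{u}) [X.Over (Spec (CommRingCat.of k))]
  [IsProper (X ↘ Spec (CommRingCat.of k))]

/-- maximal growth gives an ample submodule of a power (Kodaira's lemma). -/
theorem ample_mono_of_growth [IsIntegral X] (n : ℕ) (hn : topologicalKrullDim X = n)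
    {H : X.Modules} (hH : CohB1.IsAmple H) (L : X.Modules) (hL : PicF.IsInvertible L)
    (ν a : ℕ) (hν : 0 < ν) (ha : 0 < a)
    (hgrow : ∀ μ : ℕ, 1 ≤ μ →
      μ ^ n ≤ a * Module.finrank k (Coh.HH X (CohB1.tensorPow L (ν * μ)) 0)) :
    ∃ (m : ℕ) (φ : H ⟶ CohB1.tensorPow L m), 0 < m ∧ Mono φ := by
  obtain ⟨eH0⟩ := Groth.Agent.Lib.Helper23.Inverse.tensor_dual_iso hH.1
  have hM : PicF.IsInvertible (CohB1.tensorPow L ν) := isInvertible_tensorPow hL ν
  have hfin : ∀ m : ℕ,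
      Module.finrank k (Coh.HH X (CohB1.tensorPow (CohB1.tensorPow L ν) m) 0) =
        Module.finrank k (Coh.HH X (CohB1.tensorPow L (ν * m)) 0) :=
    fun m => (FBC.HmapEquivK k (powMul L ν m) 0).finrank_eq
  have har : (0 : ℝ) < (a : ℝ) := by exact_mod_cast ha
  have hfreq : ∃ᶠ μ : ℕ in Filter.atTop, (1 / (2 * (a : ℝ))) * (μ : ℝ) ^ n <
      ((fun m : ℕ => Module.finrank k
        (Coh.HH X (CohB1.tensorPow (CohB1.tensorPow L ν) m) 0)) μ : ℝ) := by
    apply Filter.Eventually.frequently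
    filter_upwards [Filter.eventually_ge_atTop 1] with μ hμ
    rw [hfin μ]
    have h1 := hgrow μ hμ
    have h2 : ((μ : ℝ)) ^ n ≤
        (a : ℝ) * (Module.finrank k (Coh.HH X (CohB1.tensorPow L (ν * μ)) 0) : ℝ) := by
      exact_mod_cast h1
    have hμr : (1 : ℝ) ≤ (μ : ℝ) := by exact_mod_cast hμ
    have hμpos : (0 : ℝ) < (μ : ℝ) ^ n := by positivity
    rw [div_mul_eq_mul_div, one_mul, div_lt_iff₀ (by positivity)]
    nlinarith
  have hbig := hbig_of_frequently (fun m : ℕ => Module.finrank k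
    (Coh.HH X (CohB1.tensorPow (CohB1.tensorPow L ν) m) 0)) n (1 / (2 * (a : ℝ)))
    (by positivity) hfreq
  obtain ⟨m, hm, hnt⟩ := kodaira k X n hn hH _ (braid _ _ ≪≫ eH0) (CohB1.tensorPow L ν) hM hbig
  obtain ⟨s, hs⟩ := exists_section_ne_zero X _ hnt
  obtain ⟨φ, hφ⟩ := mono_of_section hH.1 (braid _ _ ≪≫ eH0) _ (isInvertible_tensorPow hM m) s hs
  haveI := hφ
  exact ⟨ν * m, φ ≫ (powMul L ν m).hom, Nat.mul_pos hν hm, mono_comp _ _⟩

/-- an ample submodule of a power gives maximal growth. -/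
theorem growth_of_ample_mono [IsIntegral X] (n : ℕ) (hn : topologicalKrullDim X = n)
    (L : X.Modules) (hL : PicF.IsInvertible L)
    (ν : ℕ) (A : X.Modules) (φ : A ⟶ CohB1.tensorPow L ν) (hν : 0 < ν) (hA : CohB1.IsAmple A)
    [Mono φ] :
    ∃ ν' a : ℕ, 0 < ν' ∧ 0 < a ∧ ∀ μ : ℕ, 1 ≤ μ →
      μ ^ n ≤ a * Module.finrank k (Coh.HH X (CohB1.tensorPow L (ν' * μ)) 0) := by
  obtain ⟨eA0⟩ := Groth.Agent.Lib.Helper23.Inverse.tensor_dual_iso hA.1
  obtain ⟨s, hs⟩ := section_of_mono hA.1 (braid _ _ ≪≫ eA0) (CohB1.tensorPow L ν) φ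
  have hnt := nontrivial_H0_of_section _ s hs
  obtain ⟨c, hc, N, hN⟩ := exists_lower_bound k X n hn hA _ (braid _ _ ≪≫ eA0) L hL ν hν hnt
  obtain ⟨a, ha⟩ := exists_nat_gt (1 / c)
  have hapos : (0 : ℚ) < (a : ℚ) := lt_trans (by positivity) ha
  refine ⟨N + 1, a, Nat.succ_pos N, by exact_mod_cast hapos, ?_⟩
  intro μ hμ
  have h1 := hN ((N + 1) * μ) (by nlinarith)
  have hμq : (1 : ℚ) ≤ (μ : ℚ) := by exact_mod_cast hμ
  have h2 : ((μ : ℚ)) ^ n ≤ (((N + 1) * μ : ℕ) : ℚ) ^ n := by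
    apply pow_le_pow_left₀ (by positivity)
    push_cast
    nlinarith
  have hh : (0 : ℚ) ≤
      (Module.finrank k (Coh.HH X (CohB1.tensorPow L ((N + 1) * μ)) 0) : ℚ) := by positivity
  have h3 : ((μ : ℚ)) ^ n ≤
      (a : ℚ) * (Module.finrank k (Coh.HH X (CohB1.tensorPow L ((N + 1) * μ)) 0) : ℚ) := by
    calc ((μ : ℚ)) ^ n ≤ (((N + 1) * μ : ℕ) : ℚ) ^ n := h2
      _ = (1 / c) * (c * (((N + 1) * μ : ℕ) : ℚ) ^ n) := by field_simp
      _ ≤ (1 / c) * (Module.finrank k (Coh.HH X (CohB1.tensorPow L ((N + 1) * μ)) 0) : ℚ) := by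
          gcongr
      _ ≤ (a : ℚ) * (Module.finrank k (Coh.HH X (CohB1.tensorPow L ((N + 1) * μ)) 0) : ℚ) := by
          gcongr
  exact_mod_cast h3

end Groth.Agent.Lib.Helper7.IitakaBig
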