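import Mathlib
set_option autoImplicit false
universe u
open scoped IntermediateField

namespace Groth.Agent.Lib.Helper7

theorem formallySmooth_of_charZero (F L : Type u) [Field F] [Field L] [Algebra F L] [CharZero F] :
    Algebra.FormallySmooth F L := by
  obtain ⟨s, hs⟩ := exists_isTranscendenceBasis F L
  have : CharZero L := charZero_of_injective_algebraMap (algebraMap F L).injective
  have : Algebra.IsAlgebraic (IntermediateField.adjoin F (Set.range ((↑) : s → L))) L :=
    hs.isAlgebraic_field
  exact Algebra.FormallySmooth.of_algebraicIndependent_of_isSeparable hs.1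

theorem mapBaseChange_injective_of_formallySmooth (R S T : Type u) [CommRing R] [CommRing S]
    [CommRing T] [Algebra R S] [Algebra S T] [Algebra R T] [IsScalarTower R S T]
    [Algebra.FormallySmooth S T] :
    Function.Injective (KaehlerDifferential.mapBaseChange R S T) := by
  rw [injective_iff_map_eq_zero]
  intro x hx
  obtain ⟨y, rfl⟩ := (Algebra.H1Cotangent.exact_δ_mapBaseChange R S T x).mp hx
  have : Subsingleton (Algebra.H1Cotangent S T) := Algebra.FormallySmooth.subsingleton_h1Cotangent
  rw [Subsingleton.elim y 0, map_zero]

theorem isAlgebraic_of_subsingleton_kaehler {k K : Type u} [Field k] [CharZero k] [Field K]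
    [Algebra k K] (h : Subsingleton (Ω[K⁄k])) : Algebra.IsAlgebraic k K := by
  refine ⟨fun x => ?_⟩
  let E : IntermediateField k K := k⟮x⟯
  have : CharZero E := charZero_of_injective_algebraMap (algebraMap k E).injective
  have : Algebra.FormallySmooth E K := formallySmooth_of_charZero E K
  have hinj := mapBaseChange_injective_of_formallySmooth k E K
  have h1 : Subsingleton (TensorProduct E K (Ω[E⁄k])) := hinj.subsingleton
  have h2 : Subsingleton (Ω[E⁄k]) := Module.FaithfullyFlat.lTensor_reflects_triviality E K _
  have : Algebra.FormallyUnramified k E := ⟨h2⟩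
  have : Algebra.EssFiniteType k E :=
    IntermediateField.essFiniteType_iff.mpr ⟨{x}, by simp [E]⟩
  have hsep : Algebra.IsSeparable k E := Algebra.FormallyUnramified.isSeparable k E
  have hx : IsIntegral k (⟨x, IntermediateField.mem_adjoin_simple_self k x⟩ : E) :=
    (Algebra.IsSeparable.isSeparable k _).isIntegral
  exact (hx.map (IsScalarTower.toAlgHom k E K)).isAlgebraic

theorem subsingleton_kaehler_iff_isAlgebraic {k K : Type u} [Field k] [CharZero k] [Field K]
    [Algebra k K] : Subsingleton (Ω[K⁄k]) ↔ Algebra.IsAlgebraic k K := by
  constructor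
  · exact isAlgebraic_of_subsingleton_kaehler
  · intro h
    have : Algebra.FormallyUnramified k K := Algebra.FormallyUnramified.of_isSeparable k K
    exact Algebra.FormallyUnramified.subsingleton_kaehlerDifferential

end Groth.Agent.Lib.Helper7
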