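import Mathlib
import Groth.Prelude.Def_CAlgX

/-!
# Lifting against finite-dimensional local square-zero extensions ⇒ adic formal smoothness
-/

set_option autoImplicit false

namespace Groth.Agent.Lib.Helper7.LiftReg

universe u

open IsLocalRing MvPolynomial

theorem finite_quotient_pow_idealOfVars (k : Type*) [Field k] (σ : Type*) [Finite σ] (M : ℕ)
    (hM : M ≠ 0) :
    Module.Finite k (MvPolynomial σ k ⧸ (MvPolynomial.idealOfVars σ k) ^ M) := by
  classical
  let L : MvPolynomial.restrictTotalDegree σ k M →ₗ[k]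
      (MvPolynomial σ k ⧸ (MvPolynomial.idealOfVars σ k) ^ M) :=
    ((Ideal.Quotient.mkₐ k ((MvPolynomial.idealOfVars σ k) ^ M)).toLinearMap).comp
      (Submodule.subtype _)
  refine Module.Finite.of_surjective L ?_
  intro y
  obtain ⟨p, rfl⟩ := Ideal.Quotient.mk_surjective y
  refine ⟨⟨MvPowerSeries.truncTotal M (p : MvPowerSeries σ k), ?_⟩, ?_⟩
  · rw [MvPolynomial.mem_restrictTotalDegree]
    exact (MvPowerSeries.totalDegree_truncTotal_lt _ hM).le
  · show Ideal.Quotient.mk _ (MvPowerSeries.truncTotal M (p : MvPowerSeries σ k)) =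
      Ideal.Quotient.mk _ p
    rw [eq_comm, Ideal.Quotient.eq]
    exact (MvPolynomial.mem_pow_idealOfVars_iff' ..).mpr fun x hx ↦ by
      simp [MvPowerSeries.coeff_truncTotal _ hx]

theorem sub_C_constantCoeff_mem (k : Type*) [Field k] (σ : Type*) (p : MvPolynomial σ k) :
    p - C (constantCoeff p) ∈ MvPolynomial.idealOfVars σ k := by
  have h := (MvPolynomial.mem_pow_idealOfVars_iff' (σ := σ) (R := k) 1
    (p - C (constantCoeff p))).mpr ?_
  · rwa [pow_one] at h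
  · intro x hx
    have hx0 : x = 0 := by
      have : Finsupp.degree x = 0 := by omega
      exact (Finsupp.degree_eq_zero_iff x).1 this
    subst hx0
    simp [MvPolynomial.constantCoeff_eq]

theorem isLocalRing_quotient_of_pow_le {k : Type*} [Field k] {σ : Type*}
    (𝔟 : Ideal (MvPolynomial σ k)) (h𝔟 : 𝔟 ≠ ⊤) (M : ℕ)
    (hM : MvPolynomial.idealOfVars σ k ^ M ≤ 𝔟) : IsLocalRing (MvPolynomial σ k ⧸ 𝔟) := by
  haveI : Nontrivial (MvPolynomial σ k ⧸ 𝔟) := Ideal.Quotient.nontrivial_iff.2 h𝔟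
  refine IsLocalRing.of_isUnit_or_isUnit_one_sub_self fun b => ?_
  obtain ⟨p, rfl⟩ := Ideal.Quotient.mk_surjective b
  have hnil : IsNilpotent (Ideal.Quotient.mk 𝔟 (p - C (constantCoeff p))) := by
    refine ⟨M, ?_⟩
    rw [← map_pow]
    exact Ideal.Quotient.eq_zero_iff_mem.2
      (hM (Ideal.pow_mem_pow (sub_C_constantCoeff_mem k σ p) M))
  by_cases hc : constantCoeff p = 0
  · right
    rw [hc, map_zero, sub_zero] at hnil
    exact hnil.isUnit_one_sub
  · left
    have hu : IsUnit (Ideal.Quotient.mk 𝔟 (C (constantCoeff p))) :=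
      ((IsUnit.mk0 _ hc).map (C (σ := σ) (R := k))).map (Ideal.Quotient.mk 𝔟)
    have h1 : Ideal.Quotient.mk 𝔟 p = Ideal.Quotient.mk 𝔟 (C (constantCoeff p)) +
        Ideal.Quotient.mk 𝔟 (p - C (constantCoeff p)) := by
      rw [← map_add]
      congr 1
      ring
    rw [h1]
    exact hnil.isUnit_add_left_of_commute hu (Commute.all _ _)

section

variable {k A : Type*} [Field k] [CommRing A] [IsLocalRing A] [Algebra k A]
  (hres : Function.Surjective (algebraMap k (ResidueField A))) {n : ℕ} (x : Fin n → A)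
  (hx : Ideal.span (Set.range x) = maximalIdeal A)

include hres in
theorem exists_sub_algebraMap_mem (a : A) : ∃ c : k, a - algebraMap k A c ∈ maximalIdeal A := by
  obtain ⟨c, hc⟩ := hres (residue A a)
  refine ⟨c, ?_⟩
  rw [← residue_eq_zero_iff, map_sub, ← hc, sub_eq_zero]
  rfl

include hres hx in
theorem exists_aeval_sub_mem_sq (t : A) (ht : t ∈ maximalIdeal A) :
    ∃ p : MvPolynomial (Fin n) k, aeval x p ∈ maximalIdeal A ∧
      t - aeval x p ∈ maximalIdeal A ^ 2 := by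
  have hxm : ∀ i, x i ∈ maximalIdeal A := fun i => hx ▸ Ideal.subset_span ⟨i, rfl⟩
  rw [← hx] at ht
  obtain ⟨a, rfl⟩ := (Submodule.mem_span_range_iff_exists_fun A).1 ht
  choose c hc using fun i => exists_sub_algebraMap_mem hres (a i)
  refine ⟨∑ i, C (c i) * X i, ?_, ?_⟩
  · rw [map_sum]
    refine Ideal.sum_mem _ fun i _ => ?_
    rw [map_mul, aeval_X]
    exact Ideal.mul_mem_left _ _ (hxm i)
  · rw [map_sum, ← Finset.sum_sub_distrib]
    refine Ideal.sum_mem _ fun i _ => ?_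
    rw [map_mul, aeval_X, aeval_C, smul_eq_mul, ← sub_mul, pow_two]
    exact Ideal.mul_mem_mul (hc i) (hxm i)

include hres hx in
theorem exists_aeval_sub_mem_succ (N : ℕ) : ∀ y ∈ maximalIdeal A ^ N,
    ∃ p : MvPolynomial (Fin n) k, aeval x p ∈ maximalIdeal A ^ N ∧
      y - aeval x p ∈ maximalIdeal A ^ (N + 1) := by
  induction N with
  | zero =>
    intro y _
    obtain ⟨c, hc⟩ := exists_sub_algebraMap_mem hres y
    refine ⟨C c, by simp, ?_⟩
    rw [aeval_C, zero_add, pow_one]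
    exact hc
  | succ N ih =>
    intro y hy
    rw [pow_succ] at hy
    refine Submodule.mul_induction_on hy ?_ ?_
    · intro s hs t ht
      obtain ⟨ps, hps1, hps2⟩ := ih s hs
      obtain ⟨pt, hpt1, hpt2⟩ := exists_aeval_sub_mem_sq hres x hx t ht
      refine ⟨ps * pt, ?_, ?_⟩
      · rw [map_mul, pow_succ]
        exact Ideal.mul_mem_mul hps1 hpt1
      · have h1 : s * t - aeval x (ps * pt) =
            (s - aeval x ps) * t + aeval x ps * (t - aeval x pt) := by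
          rw [map_mul]; ring
        rw [h1]
        refine add_mem ?_ ?_
        · have : maximalIdeal A ^ (N + 1 + 1) = maximalIdeal A ^ (N + 1) * maximalIdeal A :=
            pow_succ _ _
          rw [this]
          exact Ideal.mul_mem_mul hps2 ht
        · have : maximalIdeal A ^ (N + 1 + 1) = maximalIdeal A ^ N * maximalIdeal A ^ 2 := by
            rw [← pow_add]
          rw [this]
          exact Ideal.mul_mem_mul hps1 hpt2
    · rintro y1 y2 ⟨p1, h11, h12⟩ ⟨p2, h21, h22⟩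
      refine ⟨p1 + p2, ?_, ?_⟩
      · rw [map_add]; exact add_mem h11 h21
      · have h1 : y1 + y2 - aeval x (p1 + p2) = (y1 - aeval x p1) + (y2 - aeval x p2) := by
          rw [map_add]; ring
        rw [h1]
        exact add_mem h12 h22

include hres hx in
theorem exists_aeval_sub_mem (N : ℕ) (a : A) :
    ∃ p : MvPolynomial (Fin n) k, a - aeval x p ∈ maximalIdeal A ^ N := by
  induction N with
  | zero => exact ⟨0, by simp⟩
  | succ N ih =>
    obtain ⟨p, hp⟩ := ih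
    obtain ⟨p', -, hp'⟩ := exists_aeval_sub_mem_succ hres x hx N _ hp
    refine ⟨p + p', ?_⟩
    have h1 : a - aeval x (p + p') = a - aeval x p - aeval x p' := by
      rw [map_add]; ring
    rw [h1]
    exact hp'

end

/-- If `A` (Noetherian local `k`-algebra with residue field `k`) has the lifting property against
square-zero extensions of finite-dimensional local `k`-algebras, it is `m`-adically formally smooth
over `k`. -/
theorem isAdicFormallySmooth_of_lifting {k A : Type u} [Field k] [CommRing A] [IsLocalRing A]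
    [IsNoetherianRing A] [Algebra k A]
    (hres : Function.Surjective (algebraMap k (ResidueField A)))
    (hlift : ∀ (B' : Type u) [CommRing B'] [IsLocalRing B'] [Algebra k B'] [Module.Finite k B']
        (J : Ideal B'), J ^ 2 = ⊥ → ∀ f : A →ₐ[k] B' ⧸ J,
          ∃ g : A →ₐ[k] B', (Ideal.Quotient.mkₐ k J).comp g = f) :
    CAlgX.IsAdicFormallySmooth k A (maximalIdeal A) := by
  intro C _ _ J hJ ψ hψ
  obtain ⟨N₀, hN₀⟩ := hψ
  obtain ⟨N, hN1, hN⟩ : ∃ N : ℕ, 1 ≤ N ∧ ∀ x ∈ maximalIdeal A ^ N, ψ x = 0 :=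
    ⟨N₀ + 1, by omega, fun x hx => hN₀ x (Ideal.pow_le_pow_right (Nat.le_succ _) hx)⟩
  obtain ⟨n, x, hx⟩ := Submodule.fg_iff_exists_fin_generating_family.1
    (IsNoetherian.noetherian (maximalIdeal A))
  have hxm : ∀ i, x i ∈ maximalIdeal A := fun i => hx ▸ Submodule.subset_span ⟨i, rfl⟩
  let α : MvPolynomial (Fin n) k →ₐ[k] A := aeval x
  let φ : MvPolynomial (Fin n) k →ₐ[k] A ⧸ maximalIdeal A ^ N :=
    (Ideal.Quotient.mkₐ k (maximalIdeal A ^ N)).comp α
  have hφ : Function.Surjective φ := by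
    intro y
    obtain ⟨a, rfl⟩ := Ideal.Quotient.mk_surjective y
    obtain ⟨p, hp⟩ := exists_aeval_sub_mem hres x hx N a
    exact ⟨p, (Ideal.Quotient.eq.2 hp).symm⟩
  obtain ⟨𝔞, h𝔞⟩ : ∃ 𝔞 : Ideal (MvPolynomial (Fin n) k), 𝔞 = RingHom.ker φ := ⟨_, rfl⟩
  have hmem : ∀ p, p ∈ 𝔞 ↔ α p ∈ maximalIdeal A ^ N := by
    intro p
    rw [h𝔞, RingHom.mem_ker]
    exact Ideal.Quotient.eq_zero_iff_mem
  have h𝔞top : 𝔞 ≠ ⊤ := by
    intro h
    have h1 : (1 : MvPolynomial (Fin n) k) ∈ 𝔞 := h ▸ Submodule.mem_top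
    rw [hmem, map_one] at h1
    exact (Ideal.ne_top_iff_one _).1 (maximalIdeal.isMaximal A).ne_top
      (Ideal.pow_le_self (by omega) h1)
  have hvars : MvPolynomial.idealOfVars (Fin n) k ^ N ≤ 𝔞 := by
    have h1 : MvPolynomial.idealOfVars (Fin n) k ≤ (maximalIdeal A).comap α := by
      refine Ideal.span_le.2 ?_
      rintro _ ⟨i, rfl⟩
      show α (X i) ∈ maximalIdeal A
      simp only [α, aeval_X]
      exact hxm i
    refine ((Ideal.pow_right_mono h1 N).trans (Ideal.le_comap_pow α N)).trans ?_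
    intro p hp
    exact (hmem p).2 hp
  have hsq𝔞 : 𝔞 ^ 2 ≤ 𝔞 := Ideal.pow_le_self two_ne_zero
  have hsqtop : 𝔞 ^ 2 ≠ ⊤ := fun h => h𝔞top (top_le_iff.1 (h ▸ hsq𝔞))
  have hvars2 : MvPolynomial.idealOfVars (Fin n) k ^ (N * 2) ≤ 𝔞 ^ 2 := by
    rw [pow_mul]
    exact Ideal.pow_right_mono hvars 2
  haveI : IsLocalRing (MvPolynomial (Fin n) k ⧸ 𝔞 ^ 2) :=
    isLocalRing_quotient_of_pow_le (𝔞 ^ 2) hsqtop (N * 2) hvars2
  haveI : Module.Finite k (MvPolynomial (Fin n) k ⧸ 𝔞 ^ 2) := by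
    haveI := finite_quotient_pow_idealOfVars k (Fin n) (N * 2) (by omega)
    exact Module.Finite.of_surjective (Ideal.Quotient.factorₐ k hvars2).toLinearMap
      (Ideal.Quotient.factor_surjective hvars2)
  obtain ⟨J', hJ'⟩ : ∃ J' : Ideal (MvPolynomial (Fin n) k ⧸ 𝔞 ^ 2),
      J' = 𝔞.map (Ideal.Quotient.mkₐ k (𝔞 ^ 2)) := ⟨_, rfl⟩
  have hJ'sq : J' ^ 2 = ⊥ := by
    rw [hJ', ← Ideal.map_pow, Ideal.map_eq_bot_iff_le_ker]
    intro p hp
    exact Ideal.Quotient.eq_zero_iff_mem.2 hp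
  subst h𝔞
  let e := Ideal.quotientKerAlgEquivOfSurjective hφ
  subst hJ'
  let f : A →ₐ[k] (MvPolynomial (Fin n) k ⧸ RingHom.ker φ ^ 2) ⧸
      (RingHom.ker φ).map (Ideal.Quotient.mkₐ k (RingHom.ker φ ^ 2)) :=
    ((DoubleQuot.quotQuotEquivQuotOfLEₐ k hsq𝔞).symm :
      (MvPolynomial (Fin n) k ⧸ RingHom.ker φ) →ₐ[k] _).comp
      ((e.symm : (A ⧸ maximalIdeal A ^ N) →ₐ[k] _).comp
        (Ideal.Quotient.mkₐ k (maximalIdeal A ^ N)))
  obtain ⟨g, hg⟩ := hlift _ _ hJ'sq f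
  choose c hc using fun i => Ideal.Quotient.mk_surjective (ψ (x i))
  let θ₀ : MvPolynomial (Fin n) k →ₐ[k] C := aeval c
  have hθ₀ : ∀ p, Ideal.Quotient.mk J (θ₀ p) = ψ (α p) := by
    have h1 : (Ideal.Quotient.mkₐ k J).comp θ₀ = ψ.comp α := by
      refine MvPolynomial.algHom_ext fun i => ?_
      simp only [AlgHom.comp_apply, θ₀, α, aeval_X, Ideal.Quotient.mkₐ_eq_mk]
      exact hc i
    exact fun p => DFunLike.congr_fun h1 p
  have hθ₀𝔞 : RingHom.ker φ ≤ J.comap θ₀ := by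
    intro p hp
    show θ₀ p ∈ J
    rw [← Ideal.Quotient.eq_zero_iff_mem, hθ₀ p]
    exact hN _ ((hmem p).1 hp)
  have hθ₀sq : ∀ p ∈ RingHom.ker φ ^ 2, θ₀ p = 0 := by
    intro p hp
    have h1 := (Ideal.le_comap_pow θ₀ 2) (Ideal.pow_right_mono hθ₀𝔞 2 hp)
    rw [hJ] at h1
    exact h1
  let θ : (MvPolynomial (Fin n) k ⧸ RingHom.ker φ ^ 2) →ₐ[k] C :=
    Ideal.Quotient.liftₐ (RingHom.ker φ ^ 2) θ₀ hθ₀sq
  refine ⟨θ.comp g, AlgHom.ext fun a => ?_⟩
  obtain ⟨p, hp⟩ := Ideal.Quotient.mk_surjective (g a)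
  have h1 : θ (g a) = θ₀ p := by rw [← hp]; rfl
  show Ideal.Quotient.mk J (θ (g a)) = ψ a
  rw [h1, hθ₀ p]
  have h2 : Ideal.Quotient.mk _ (g a) = f a := DFunLike.congr_fun hg a
  have h3 : (DoubleQuot.quotQuotEquivQuotOfLEₐ k hsq𝔞) (Ideal.Quotient.mk _ (g a)) =
      e.symm (Ideal.Quotient.mk (maximalIdeal A ^ N) a) := by
    rw [h2]
    exact AlgEquiv.apply_symm_apply _ _
  have h4 : (DoubleQuot.quotQuotEquivQuotOfLEₐ k hsq𝔞)
      (Ideal.Quotient.mk ((RingHom.ker φ).map (Ideal.Quotient.mkₐ k (RingHom.ker φ ^ 2)))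
        (Ideal.Quotient.mk (RingHom.ker φ ^ 2) p)) = Ideal.Quotient.mk (RingHom.ker φ) p := rfl
  have h5 : e (Ideal.Quotient.mk (RingHom.ker φ) p) =
      Ideal.Quotient.mk (maximalIdeal A ^ N) a := by
    rw [← h4, hp, h3, AlgEquiv.apply_symm_apply]
  have h6 : e (Ideal.Quotient.mk (RingHom.ker φ) p) =
      Ideal.Quotient.mk (maximalIdeal A ^ N) (α p) := rfl
  have h7 : α p - a ∈ maximalIdeal A ^ N := Ideal.Quotient.eq.1 (h6.symm.trans h5)
  have h8 := hN _ h7
  rw [map_sub, sub_eq_zero] at h8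
  exact h8

end Groth.Agent.Lib.Helper7.LiftReg
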