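import Groth.Prelude.Def_LinTop
import Mathlib

/-!
Admissible rings: ideals of definition lie in the Jacobson radical (shared helper library of helper7).
-/

set_option autoImplicit false
universe u
open Filter Topology

namespace Groth.Agent.Lib.Helper7

variable (A : Type u) [CommRing A] [UniformSpace A] [IsUniformAddGroup A] [IsTopologicalRing A]

theorem nonarchimedeanRing_of_isLinearTopology [IsLinearTopology A A] : NonarchimedeanRing A where
  is_nonarchimedean U hU := by
    obtain ⟨I, hI, hIU⟩ := (IsLinearTopology.hasBasis_open_ideal (R := A)).mem_iff.1 hU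
    exact ⟨⟨I.toAddSubgroup, hI⟩, hIU⟩

variable {A}

theorem tendsto_pow_zero_of_mem {J : Ideal A} (hJ : LinTop.IsIdealOfDefinition A J) {x : A}
    (hx : x ∈ J) : Tendsto (fun n : ℕ => x ^ n) atTop (𝓝 0) := by
  rw [tendsto_atTop']
  intro U hU
  obtain ⟨n, -, hn⟩ := hJ.2 U hU
  refine ⟨n, fun m hm => hn ?_⟩
  exact Ideal.pow_le_pow_right hm (Ideal.pow_mem_pow hx m)

theorem isUnit_one_sub_of_mem (hA : LinTop.IsAdmissible A) {J : Ideal A}
    (hJ : LinTop.IsIdealOfDefinition A J) {x : A} (hx : x ∈ J) : IsUnit (1 - x) := by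
  obtain ⟨⟨hlin, -⟩, hT2, hC⟩ := hA
  have := nonarchimedeanRing_of_isLinearTopology A
  have hsum : Summable (fun n : ℕ => x ^ n) := by
    apply NonarchimedeanAddGroup.summable_of_tendsto_cofinite_zero
    rw [Nat.cofinite_eq_atTop]
    exact tendsto_pow_zero_of_mem hJ hx
  exact IsUnit.of_mul_eq_one _ hsum.one_sub_mul_tsum_pow

theorem le_jacobson_bot (hA : LinTop.IsAdmissible A) {J : Ideal A}
    (hJ : LinTop.IsIdealOfDefinition A J) : J ≤ Ideal.jacobson ⊥ := by
  intro x hx
  rw [Ideal.mem_jacobson_bot]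
  intro y
  have h1 : -(x * y) ∈ J := J.neg_mem (J.mul_mem_right y hx)
  have h2 := isUnit_one_sub_of_mem hA hJ h1
  convert h2 using 1
  ring

/-- elements of `span (range m) * K` are combinations of the `m j` with coefficients in `K` -/
theorem exists_sum_of_mem_span_mul {A : Type u} [CommRing A] {ι : Type*} [Fintype ι] (m : ι → A)
    (K : Ideal A) {x : A} (hx : x ∈ Ideal.span (Set.range m) * K) :
    ∃ c : ι → A, (∀ j, c j ∈ K) ∧ x = ∑ j, m j * c j := by
  refine Submodule.mul_induction_on hx ?_ ?_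
  · intro a ha b hb
    obtain ⟨r, rfl⟩ := (Ideal.mem_span_range_iff_exists_fun).mp ha
    refine ⟨fun j => r j * b, fun j => K.mul_mem_left _ hb, ?_⟩
    rw [Finset.sum_mul]
    exact Finset.sum_congr rfl (fun j _ => by ring)
  · rintro x y ⟨c, hc, rfl⟩ ⟨c', hc', rfl⟩
    refine ⟨fun j => c j + c' j, fun j => K.add_mem (hc j) (hc' j), ?_⟩
    rw [← Finset.sum_add_distrib]
    exact Finset.sum_congr rfl (fun j _ => by ring)

theorem isAdicComplete_of_fg_of_le_idealOfDefinition
    (A : Type u) [CommRing A] [UniformSpace A] [IsUniformAddGroup A] [IsTopologicalRing A]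
    (hA : LinTop.IsAdmissible A) (J : Ideal A) (hJ : LinTop.IsIdealOfDefinition A J)
    (I : Ideal A) (hI : I.FG) (hIJ : I ≤ J) :
    IsAdicComplete I A := by
  obtain ⟨⟨hlin, -⟩, hT2, hC⟩ := hA
  have := nonarchimedeanRing_of_isLinearTopology A
  have hpow : ∀ U ∈ 𝓝 (0:A), ∃ n, ∀ m ≥ n, ((I ^ m : Ideal A) : Set A) ⊆ U := by
    intro U hU
    obtain ⟨n, -, hn⟩ := hJ.2 U hU
    exact ⟨n, fun m hm x hx =>
      hn (Ideal.pow_le_pow_right hm (Ideal.pow_right_mono hIJ m hx))⟩
  have htend : ∀ g : ℕ → A, (∀ k, g k ∈ I ^ k) → Tendsto g atTop (𝓝 0) := by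
    intro g hg
    rw [tendsto_atTop']
    intro U hU
    obtain ⟨n, hn⟩ := hpow U hU
    exact ⟨n, fun m hm => hn m hm (hg m)⟩
  have hsmul : ∀ n : ℕ, (I ^ n • ⊤ : Submodule A A) = I ^ n := fun n => by simp
  refine { toIsHausdorff := ⟨?_⟩, toIsPrecomplete := ⟨?_⟩ }
  · intro x hx
    have hx' : ∀ n, x ∈ I ^ n := by
      intro n
      have := hx n
      rw [SModEq.zero, hsmul] at this
      exact this
    by_contra hne
    have hU : ({x}ᶜ : Set A) ∈ 𝓝 (0:A) :=
      isOpen_compl_singleton.mem_nhds (by simpa using Ne.symm hne)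
    obtain ⟨n, hn⟩ := hpow _ hU
    exact (hn n le_rfl (hx' n)) rfl
  · intro f hf
    have hf' : ∀ m n, m ≤ n → f n - f m ∈ I ^ m := by
      intro m n hmn
      have := (hf hmn).symm
      rw [SModEq.sub_mem, hsmul] at this
      exact this
    have hcau : CauchySeq f := by
      apply NonarchimedeanAddGroup.cauchySeq_of_tendsto_sub_nhds_zero
      exact htend _ (fun k => hf' k (k + 1) (Nat.le_succ k))
    obtain ⟨L, hL⟩ := cauchySeq_tendsto_of_complete hcau
    refine ⟨L, fun n => ?_⟩
    rw [SModEq.sub_mem, hsmul]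
    -- generators of I ^ n
    obtain ⟨s, hs⟩ := hI.pow (n := n)
    have hs' : Ideal.span (Set.range ((↑) : s → A)) = I ^ n := by
      rw [Subtype.range_coe]; exact hs
    -- decompose the differences
    have hd : ∀ k, ∃ c : s → A, (∀ j, c j ∈ I ^ k) ∧
        f (n + k + 1) - f (n + k) = ∑ j : s, (j : A) * c j := by
      intro k
      apply exists_sum_of_mem_span_mul
      rw [hs', ← pow_add]
      exact hf' (n + k) (n + k + 1) (Nat.le_succ _)
    choose c hc hcd using hd
    have hsum : ∀ j, Summable (fun k => c k j) := by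
      intro j
      apply NonarchimedeanAddGroup.summable_of_tendsto_cofinite_zero
      rw [Nat.cofinite_eq_atTop]
      exact htend _ (fun k => hc k j)
    have h1 : Tendsto (fun N => ∑ j : s, (j : A) * ∑ k ∈ Finset.range N, c k j) atTop
        (𝓝 (∑ j : s, (j : A) * ∑' k, c k j)) := by
      apply tendsto_finsetSum
      intro j _
      exact ((hsum j).hasSum.tendsto_sum_nat).const_mul _
    have h2 : ∀ N, ∑ j : s, (j : A) * ∑ k ∈ Finset.range N, c k j = f (n + N) - f n := by
      intro N
      simp_rw [Finset.mul_sum]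
      rw [Finset.sum_comm]
      simp_rw [← hcd]
      exact Finset.sum_range_sub (fun k => f (n + k)) N
    have h3 : Tendsto (fun N => f (n + N) - f n) atTop (𝓝 (L - f n)) := by
      have : Tendsto (fun N => f (n + N)) atTop (𝓝 L) := by
        simpa [add_comm] using (tendsto_add_atTop_iff_nat n).mpr hL
      exact this.sub_const _
    simp_rw [h2] at h1
    have h4 : L - f n = ∑ j : s, (j : A) * ∑' k, c k j := tendsto_nhds_unique h3 h1
    have h5 : L - f n ∈ I ^ n := by
      rw [h4]
      refine Ideal.sum_mem _ (fun j _ => Ideal.mul_mem_right _ _ ?_)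
      rw [← hs]
      exact Ideal.subset_span j.2
    have := (I ^ n).neg_mem h5
    rwa [neg_sub] at this

end Groth.Agent.Lib.Helper7
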