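import Groth.Agent.Lib.Helper7.AmpleRes2
import Groth.Agent.Lib.Helper13.SerreCrit1
import Groth.Agent.Lib.Helper3.AvoidPoints

/-!
# Locally projective modules and affineness from vanishing of negative powers of an ample module

* `LP K`: `K` is quasi-coherent and, locally, its sections over affine opens are finite projective.
* `LP.of_isInvertible`, `LP.biproduct`, `lp_of_shortExact` (kernels of epimorphisms), `LP.of_iso`.
* `lp_vanishing`: if `H^p(L'^{⊗ n}) = 0` for `p > 0`, `n ≥ n₀` (`L'` an inverse of an ample `L`),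
  then `H^p(K) = 0` for `p > 0` and all `K` in `LP`.
* `isAffine_of_negPowers_vanishing`: under the same hypothesis the scheme is affine.
-/

set_option autoImplicit false
set_option linter.unusedSectionVars false
set_option linter.style.haveILetI false
universe u
open CategoryTheory CategoryTheory.Limits AlgebraicGeometry TopologicalSpace Opposite
open Scheme.Modules

noncomputable section

namespace Groth.Agent.Lib.Helper7.LocProj

open Groth.Agent.Lib.Helper3 Groth.Agent.Lib.Helper13
open QCSec InvGen InvTensor InvMonoidal InvCoh InvAmple GlobGen GlobGenFin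
open Groth.Agent.Lib.Helper7.TwFun Groth.Agent.Lib.Helper7.RegRes

variable {X : Scheme.{u}}

/-- sections of `K` over the affine opens inside `U` are finite projective. -/
def LPat (K : X.Modules) (U : X.Opens) : Prop :=
  ∀ V : X.Opens, V ≤ U → IsAffineOpen V →
    Module.Finite Γ(X, V) Γ(K, V) ∧ Module.Projective Γ(X, V) Γ(K, V)

/-- quasi-coherent and locally with finite projective sections over affine opens. -/
def LP (K : X.Modules) : Prop :=
  K.IsQuasicoherent ∧ ∀ x : X, ∃ U : X.Opens, x ∈ U ∧ LPat K U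

lemma LPat.mono {K : X.Modules} {U U' : X.Opens} (h : LPat K U) (hle : U' ≤ U) : LPat K U' :=
  fun V hV hVa => h V (hV.trans hle) hVa

/-- the linear equivalence on sections induced by an isomorphism. -/
def secEquiv {K K' : X.Modules} (e : K ≅ K') (V : X.Opens) : Γ(K, V) ≃ₗ[Γ(X, V)] Γ(K', V) :=
  LinearEquiv.ofLinearMap (QCProps.appₗ e.hom V) (QCProps.appₗ e.inv V)
    (LinearMap.ext fun t => iso_hom_inv_app e V t) (LinearMap.ext fun t => iso_inv_hom_app e V t)

lemma LP.of_iso {K K' : X.Modules} (e : K ≅ K') (h : LP K) : LP K' := by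
  refine ⟨(SheafOfModules.isQuasicoherent X.ringCatSheaf).prop_of_iso e h.1, fun x => ?_⟩
  obtain ⟨U, hxU, hU⟩ := h.2 x
  refine ⟨U, hxU, fun V hV hVa => ?_⟩
  obtain ⟨h1, h2⟩ := hU V hV hVa
  exact ⟨Module.Finite.equiv (secEquiv e V), Module.Projective.of_equiv (secEquiv e V)⟩

lemma LP.of_isInvertible {N : X.Modules} (hN : PicF.IsInvertible N) : LP N := by
  refine ⟨isQuasicoherent_of_isInvertible hN, fun x => ?_⟩
  obtain ⟨U, e, hxU, hg⟩ := exists_isGen hN x
  refine ⟨U, hxU, fun V hV _ => ?_⟩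
  have hb : Function.Bijective (fun a : Γ(X, V) => a • res N hV e) := hg V hV
  let l : Γ(X, V) →ₗ[Γ(X, V)] Γ(N, V) := LinearMap.toSpanSingleton _ _ (res N hV e)
  let eq : Γ(X, V) ≃ₗ[Γ(X, V)] Γ(N, V) := LinearEquiv.ofBijective l hb
  exact ⟨Module.Finite.equiv eq, Module.Projective.of_equiv eq⟩

lemma LP.biproduct {b : ℕ} {N : X.Modules} (h : LP N) : LP (⨁ fun _ : Fin b => N : X.Modules) := by
  refine ⟨Groth.Agent.Lib.Helper1.FFCoh.isQuasicoherent_biproduct _ (fun _ => h.1), fun x => ?_⟩
  obtain ⟨U, hxU, hU⟩ := h.2 x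
  refine ⟨U, hxU, fun V hV hVa => ?_⟩
  obtain ⟨h1, h2⟩ := hU V hV hVa
  let f : Fin b → X.Modules := fun _ => N
  let g : (∀ i : Fin b, Γ(f i, V)) →ₗ[Γ(X, V)] Γ((⨁ f : X.Modules), V) :=
    ∑ i, (QCProps.appₗ (biproduct.ι f i) V).comp (LinearMap.proj i)
  let t : Γ((⨁ f : X.Modules), V) →ₗ[Γ(X, V)] (∀ i : Fin b, Γ(f i, V)) :=
    LinearMap.pi (fun i => QCProps.appₗ (biproduct.π f i) V)
  have hgt : g.comp t = LinearMap.id := by
    ext y
    have h1 : (∑ i, biproduct.π f i ≫ biproduct.ι f i).app V y = y := by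
      rw [biproduct.total]; rfl
    rw [Groth.Agent.Lib.Helper13.SerreCrit2.sum_app] at h1
    simp only [LinearMap.coe_comp, Function.comp_apply, LinearMap.id_coe, id_eq]
    rw [LinearMap.sum_apply]
    exact h1
  haveI : ∀ i : Fin b, Module.Finite Γ(X, V) Γ(f i, V) := fun _ => h1
  haveI : ∀ i : Fin b, Module.Projective Γ(X, V) Γ(f i, V) := fun _ => h2
  haveI : Module.Projective Γ(X, V) (∀ i : Fin b, Γ(f i, V)) :=
    Module.Projective.of_equiv (DFinsupp.linearEquivFunOnFintype (R := Γ(X, V))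
      (M := fun i : Fin b => Γ(f i, V)))
  have hsurj : Function.Surjective g := fun y => ⟨t y, LinearMap.congr_fun hgt y⟩
  exact ⟨Module.Finite.of_surjective g hsurj, Module.Projective.of_split t g hgt⟩

lemma LP.isFiniteType {K : X.Modules} (h : LP K) : K.IsFiniteType := by
  haveI := h.1
  apply QCProps.isFiniteType_of_charts
  intro x
  obtain ⟨U, hxU, hU⟩ := h.2 x
  obtain ⟨V, hVa, hxV, hVU⟩ := Opens.isBasis_iff_nbhd.mp X.isBasis_affineOpens hxU
  exact ⟨V, hVa, hxV, inferInstance, (hU V hVU hVa).1⟩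

/-- the kernel of an epimorphism between modules in `LP` is in `LP`. -/
theorem lp_of_shortExact (S : ShortComplex X.Modules) (hS : S.ShortExact) (h2 : LP S.X₂)
    (h3 : LP S.X₃) [S.X₁.IsQuasicoherent] : LP S.X₁ := by
  refine ⟨inferInstance, fun x => ?_⟩
  obtain ⟨U₂, hx₂, hU₂⟩ := h2.2 x
  obtain ⟨U₃, hx₃, hU₃⟩ := h3.2 x
  refine ⟨U₂ ⊓ U₃, ⟨hx₂, hx₃⟩, fun V hV hVa => ?_⟩
  obtain ⟨hf2, hp2⟩ := hU₂ V (hV.trans inf_le_left) hVa
  obtain ⟨hf3, hp3⟩ := hU₃ V (hV.trans inf_le_right) hVa
  haveI := hS.mono_f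
  let f := QCProps.appₗ S.f V
  let g := QCProps.appₗ S.g V
  have hg : Function.Surjective g := QCExact.surjective_app_of_isAffineOpen S hS hVa
  have hf : Function.Injective f := QCExact.injective_sections S.f V
  have hex : ∀ y, g y = 0 → ∃ x, f x = y := QCExact.exact_sections S hS.exact V
  have hgf : ∀ x, g (f x) = 0 := QCExact.app_f_g_apply S V
  obtain ⟨σ, hσ⟩ := Module.projective_lifting_property g LinearMap.id hg
  -- the retraction
  have hq : ∀ y, ∃ x, f x = y - σ (g y) := by
    intro y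
    apply hex
    have h1 : g (σ (g y)) = g y := LinearMap.congr_fun hσ (g y)
    rw [map_sub, h1, sub_self]
  choose r hr using hq
  have hr_add : ∀ y y', r (y + y') = r y + r y' := by
    intro y y'
    apply hf
    rw [map_add, hr, hr, hr, map_add, map_add]
    abel
  have hr_smul : ∀ (c : Γ(X, V)) y, r (c • y) = c • r y := by
    intro c y
    apply hf
    rw [hr, LinearMap.map_smul f c (r y), hr, LinearMap.map_smul g, LinearMap.map_smul σ, smul_sub]
  let rl : Γ(S.X₂, V) →ₗ[Γ(X, V)] Γ(S.X₁, V) :=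
    { toFun := r
      map_add' := hr_add
      map_smul' := hr_smul }
  have hrf : rl.comp f = LinearMap.id := by
    ext z
    apply hf
    change f (r (f z)) = f z
    rw [hr, hgf, map_zero, sub_zero]
  have hsurj : Function.Surjective rl := fun z => ⟨f z, LinearMap.congr_fun hrf z⟩
  exact ⟨Module.Finite.of_surjective rl hsurj, Module.Projective.of_split f rl hrf⟩

/-- if the higher cohomology of `L'^{⊗ n}` vanishes for `n ≥ n₀` (`L'` an inverse of an ample
invertible module) then the higher cohomology of every module in `LP` vanishes. -/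
theorem lp_vanishing [CompactSpace X] [QuasiSeparatedSpace X] {L L' : X.Modules}
    (hA : CohB1.IsAmple L) (hM : ClSub.IsInverseOf L' L) (n₀ : ℕ)
    (h : ∀ n : ℕ, n₀ ≤ n → ∀ p : ℕ, 0 < p → Subsingleton (Coh.HH X (CohB1.tensorPow L' n) p))
    (K : X.Modules) (hK : LP K) (p : ℕ) (hp : 0 < p) : Subsingleton (Coh.HH X K p) := by
  obtain ⟨d, hd⟩ := QCDim.QC.exists_top (X := X)
  have hT : CategoryTheory.Limits.IsTerminal (⊤ : X.Opens) := CategoryTheory.Limits.isTerminalTop
  have hL' : PicF.IsInvertible L' := AmpleRes2.isInvertible_of_isInverseOf hA.1 hM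
  suffices H : ∀ (t : ℕ) (K : X.Modules), LP K → ∀ i : ℕ, 0 < i → d ≤ i + t →
      Subsingleton (Coh.HH X K i) from H d K hK p hp (Nat.le_add_left d p)
  intro t
  induction t with
  | zero =>
    intro K hK i _ hdi
    haveI : K.IsQuasicoherent := hK.1
    have h0 := hd.vanish K i hdi
    exact (ProfiniteAcyclic.HEquivHU (Opens.grothendieckTopology X) hT (Coh.toAb K)
      i).toEquiv.subsingleton_congr.2 h0
  | succ t ih =>
    intro K hK i hi hdi
    haveI : K.IsQuasicoherent := hK.1
    haveI : K.IsFiniteType := hK.isFiniteType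
    obtain ⟨m, b, q, hm, hq⟩ := AmpleRes2.exists_epi_coprod_inverse hA hM K n₀
    haveI := hq
    have hE : LP (∐ fun _ : Fin b => CohB1.tensorPow L' m) :=
      LP.of_iso (biproduct.isoCoproduct (fun _ : Fin b => CohB1.tensorPow L' m))
        (LP.biproduct (LP.of_isInvertible (isInvertible_tensorPow hL' m)))
    haveI := hE.1
    haveI : (kernel q : X.Modules).IsQuasicoherent := QCProps.isQuasicoherent_kernel q
    let S : ShortComplex X.Modules := ShortComplex.mk (kernel.ι q) q (kernel.condition _)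
    have hS : S.ShortExact :=
      { exact := ShortComplex.exact_kernel _
        mono_f := inferInstanceAs (Mono (kernel.ι q))
        epi_g := inferInstanceAs (Epi q) }
    have hKer : LP (kernel q) := lp_of_shortExact S hS hE hK
    have hE' : Subsingleton (Coh.HH X (∐ fun _ : Fin b => CohB1.tensorPow L' m) i) :=
      sub_coprod (𝟭 X.Modules) (fun _ : Fin b => CohB1.tensorPow L' m) i
        (fun _ => h m hm i hi)
    exact sub_right S hS i hE' (ih (kernel q) hKer (i + 1) (by omega) (by omega))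

/-- **Affineness criterion**: if `L` is ample with inverse `L'` and the higher cohomology of
`L'^{⊗ n}` vanishes for all large `n`, then the scheme is affine. -/
theorem isAffine_of_negPowers_vanishing {L L' : X.Modules} (hA : CohB1.IsAmple L)
    (e : CohB1.tensorMod L L' ≅ Coh.structureModule X) (n₀ : ℕ)
    (h : ∀ n : ℕ, n₀ ≤ n → ∀ p : ℕ, 0 < p → Subsingleton (Coh.HH X (CohB1.tensorPow L' n) p)) :
    IsAffine X := by
  haveI : CompactSpace X := hA.2.1
  haveI : X.IsSeparated := isSeparated_of_secLocus_cover hA.1 (exists_secLocus_of_isAmple hA)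
  have eML : CohB1.tensorMod L' L ≅ Coh.structureModule X := braid L' L ≪≫ e
  have hM : ClSub.IsInverseOf L' L := ⟨eML⟩
  have hL' : PicF.IsInvertible L' := AmpleRes2.isInvertible_of_isInverseOf hA.1 hM
  obtain ⟨d, hd, ι, hι, s, haff, hcov⟩ := exists_finite_secLocus_cover hA
  have hP : PicF.IsInvertible (CohB1.tensorPow L d) := isInvertible_tensorPow hA.1 d
  have hP' : PicF.IsInvertible (CohB1.tensorPow L' d) := isInvertible_tensorPow hL' d
  let θ : CohB1.tensorMod (CohB1.tensorPow L' d) (CohB1.tensorPow L d) ≅ Coh.structureModule X :=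
    (powTensor L' L d).symm ≪≫ tensorPowIso eML d ≪≫ powUnit X d
  let eq := Finite.equivFin ι
  let s' : Fin (Nat.card ι) → (Coh.structureModule X ⟶ CohB1.tensorPow L d) :=
    fun j => s (eq.symm j)
  let φj : Fin (Nat.card ι) → (CohB1.tensorPow L' d ⟶ Coh.structureModule X) := fun j =>
    (SecTwist.unitorR (CohB1.tensorPow L' d)).inv ≫ tensorMap (𝟙 (CohB1.tensorPow L' d)) (s' j) ≫
      θ.hom
  have hφj : ∀ (j : Fin (Nat.card ι)) (V : X.Opens) (a : Γ(CohB1.tensorPow L' d, V)),
      (φj j).app V a = θ.hom.app V (tm (CohB1.tensorPow L' d) (CohB1.tensorPow L d) V a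
        (sec (s' j) V)) := by
    intro j V a
    have h1 : (SecTwist.unitorR (CohB1.tensorPow L' d)).inv.app V a =
        tm (CohB1.tensorPow L' d) (Coh.structureModule X) V a (ofFun V 1) := by
      have h2 := unitorR_hom_tm (CohB1.tensorPow L' d) V a 1
      rw [one_smul] at h2
      have h3 := iso_inv_hom_app (SecTwist.unitorR (CohB1.tensorPow L' d)) V
        (tm (CohB1.tensorPow L' d) (Coh.structureModule X) V a (ofFun V 1))
      rw [h2] at h3
      exact h3
    change θ.hom.app V ((tensorMap (𝟙 (CohB1.tensorPow L' d)) (s' j)).app V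
      ((SecTwist.unitorR (CohB1.tensorPow L' d)).inv.app V a)) = _
    rw [h1, tensorMap_tm]
    rfl
  let φ : (⨁ fun _ : Fin (Nat.card ι) => CohB1.tensorPow L' d : X.Modules) ⟶
      Coh.structureModule X := biproduct.desc φj
  haveI hepi : Epi φ := by
    apply QCExact.epi_of_locally_surjective
    intro W t x hx
    obtain ⟨i, hi⟩ := hcov x
    have hxj : x ∈ CohB1.genLocus (CohB1.tensorPow L d) (s' (eq i)) := by
      change x ∈ CohB1.genLocus (CohB1.tensorPow L d) (s (eq.symm (eq i)))
      rw [Equiv.symm_apply_apply]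
      exact hi
    obtain ⟨V, e', -, hxV, hVle, hg'⟩ := exists_affine_isGen_le hP' x
      (W ⊓ CohB1.genLocus (CohB1.tensorPow L d) (s' (eq i))) ⟨hx, hxj⟩
    have hVW : V ≤ W := hVle.trans inf_le_left
    have hg2 : IsGen (CohB1.tensorPow L d) V (sec (s' (eq i)) V) :=
      isGen_sec_of_le (s' (eq i)) (hVle.trans inf_le_right)
    have hgu : IsGen (Coh.structureModule X) V ((φj (eq i)).app V e') := by
      rw [hφj]
      exact AvoidPoints.isGen_iso θ (isGen_tm hg' hg2)
    obtain ⟨c, hc⟩ := hgu.self.exists_coord (res (Coh.structureModule X) hVW t)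
    refine ⟨V, hVW, hxV, (biproduct.ι (fun _ : Fin (Nat.card ι) => CohB1.tensorPow L' d)
      (eq i)).app V (c • e'), ?_⟩
    rw [← MulSurj.comp_app, biproduct.ι_desc, Scheme.Modules.Hom.app_smul, hc]
  let S : ShortComplex X.Modules := ShortComplex.mk (kernel.ι φ) φ (kernel.condition _)
  have hS : S.ShortExact :=
    { exact := ShortComplex.exact_kernel _
      mono_f := inferInstanceAs (Mono (kernel.ι φ))
      epi_g := inferInstanceAs (Epi φ) }
  have hE : LP (⨁ fun _ : Fin (Nat.card ι) => CohB1.tensorPow L' d : X.Modules) :=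
    LP.biproduct (LP.of_isInvertible hP')
  have hO : LP (Coh.structureModule X) := LP.of_isInvertible (isInvertible_structureModule X)
  haveI := hE.1
  haveI := hO.1
  haveI : (kernel φ : X.Modules).IsQuasicoherent := QCProps.isQuasicoherent_kernel φ
  have hKer : LP (kernel φ) := lp_of_shortExact S hS hE hO
  have h1 : Subsingleton (Coh.HH X (kernel φ) 1) :=
    lp_vanishing hA hM n₀ h _ hKer 1 Nat.one_pos
  obtain ⟨y, hy⟩ := SerreCrit1.surjective_app_top_of_H1 S hS h1 (ofFun ⊤ 1)
  let a : Fin (Nat.card ι) → Γ(CohB1.tensorPow L' d, (⊤ : X.Opens)) := fun j =>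
    (biproduct.π (fun _ : Fin (Nat.card ι) => CohB1.tensorPow L' d) j).app ⊤ y
  let fj : Fin (Nat.card ι) → Γ(X, (⊤ : X.Opens)) := fun j => toFun ⊤ ((φj j).app ⊤ (a j))
  have hsum : ∑ j, fj j = 1 := by
    have h2 : φ = ∑ j, biproduct.π (fun _ : Fin (Nat.card ι) => CohB1.tensorPow L' d) j ≫ φj j :=
      biproduct.desc_eq
    have h3 : (∑ j, biproduct.π (fun _ : Fin (Nat.card ι) => CohB1.tensorPow L' d) j ≫ φj j).app ⊤ y
        = ofFun ⊤ 1 := by
      rw [← h2]; exact hy
    rw [Groth.Agent.Lib.Helper13.SerreCrit2.sum_app] at h3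
    exact h3
  have haffj : ∀ j, IsAffineOpen (X.basicOpen (fj j)) := by
    intro j
    let α : Coh.structureModule X ⟶ CohB1.tensorPow L' d := globalHom _ (a j)
    let τ : Coh.structureModule X ⟶ Coh.structureModule X := SecTwist.tmulHom α (s' j) ≫ θ.hom
    have hτ : sec τ ⊤ = (φj j).app ⊤ (a j) := by
      rw [sec_comp, sec_tmulHom, sec_globalHom, res_self, hφj]
    have hgl : CohB1.genLocus (Coh.structureModule X) τ = X.basicOpen (fj j) := by
      rw [genLocus_unit_eq_basicOpen, hτ]
    have hle : X.basicOpen (fj j) ≤ CohB1.genLocus (CohB1.tensorPow L d) (s' j) := by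
      rw [← hgl, genLocus_comp_iso, genLocus_tmulHom hP' hP]
      exact inf_le_right
    have hU : IsAffineOpen (CohB1.genLocus (CohB1.tensorPow L d) (s' j)) := haff (eq.symm j)
    have h4 := hU.basicOpen (X.presheaf.map (homOfLE (le_top :
      CohB1.genLocus (CohB1.tensorPow L d) (s' j) ≤ ⊤)).op (fj j))
    rw [Scheme.basicOpen_res, inf_eq_right.mpr hle] at h4
    exact h4
  refine isAffine_of_isAffineOpen_basicOpen (Set.range fj) ?_ ?_
  · rw [Ideal.eq_top_iff_one, ← hsum]
    exact Ideal.sum_mem _ (fun j _ => Ideal.subset_span ⟨j, rfl⟩)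
  · rintro _ ⟨j, rfl⟩
    exact haffj j

end Groth.Agent.Lib.Helper7.LocProj
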