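import Mathlib.RingTheory.LocalRing.LocalSubring
import Mathlib.RingTheory.Ideal.Maps
import Mathlib.RingTheory.Spectrum.Prime.Basic
import Mathlib.Data.List.TFAE
import Mathlib.RingTheory.Localization.AtPrime.Basic

/-! Helper7: local subrings of a field obtained by localizing subrings (`LocalSubring.ofPrime`):
domination criteria and the comparison of the families `L(A)`, `L(B)`, `L(A ⊔ B)`. -/

universe u

namespace Groth.Agent.Lib.Helper7

open IsLocalRing LocalSubring

section
variable {K : Type u} [Field K]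

theorem ofPrime_congr (A : Subring K) {P P' : Ideal A} [P.IsPrime] [P'.IsPrime] (h : P = P') :
    ofPrime A P = ofPrime A P' := by subst h; rfl

theorem comap_comap_inclusion {A C : Subring K} (hAC : A ≤ C) (Q : LocalSubring K)
    (hC : C ≤ Q.toSubring) :
    ((maximalIdeal Q.toSubring).comap (Subring.inclusion hC)).comap (Subring.inclusion hAC) =
      (maximalIdeal Q.toSubring).comap (Subring.inclusion (hAC.trans hC)) := by
  rw [Ideal.comap_comap]; rfl

theorem comap_eq_of_le {C : Subring K} {Q₁ Q₂ : LocalSubring K} (h : Q₁ ≤ Q₂)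
    (hC : C ≤ Q₁.toSubring) :
    (maximalIdeal Q₁.toSubring).comap (Subring.inclusion hC) =
      (maximalIdeal Q₂.toSubring).comap (Subring.inclusion (hC.trans h.1)) := by
  obtain ⟨hle, hloc⟩ := h
  have h1 : (maximalIdeal Q₂.toSubring).comap (Subring.inclusion hle) =
      maximalIdeal Q₁.toSubring := ((local_hom_TFAE (Subring.inclusion hle)).out 0 4).mp hloc
  rw [← h1, Ideal.comap_comap]
  rfl

theorem comap_ofPrime_self (A : Subring K) (P : Ideal A) [P.IsPrime]
    (hA : A ≤ (ofPrime A P).toSubring) :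
    (maximalIdeal (ofPrime A P).toSubring).comap (Subring.inclusion hA) = P :=
  IsLocalization.AtPrime.under_maximalIdeal (ofPrime A P).toSubring P

theorem exists_comap_eq_of_ofPrime_le (A : Subring K) (P : Ideal A) [P.IsPrime]
    (Q : LocalSubring K) (h : ofPrime A P ≤ Q) :
    ∃ hA : A ≤ Q.toSubring, (maximalIdeal Q.toSubring).comap (Subring.inclusion hA) = P := by
  refine ⟨(le_ofPrime A P).trans h.1, ?_⟩
  rw [← comap_eq_of_le h (le_ofPrime A P)]
  exact comap_ofPrime_self A P _

theorem ofPrime_le_of_comap_eq (A : Subring K) (P : Ideal A) [P.IsPrime] (Q : LocalSubring K)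
    (hA : A ≤ Q.toSubring)
    (h : (maximalIdeal Q.toSubring).comap (Subring.inclusion hA) = P) :
    ofPrime A P ≤ Q := by
  have hunit : ∀ s : P.primeCompl, IsUnit (Subring.inclusion hA (s : A)) := by
    intro s
    by_contra hnu
    have hs : (s : A) ∈ Ideal.comap (Subring.inclusion hA) (maximalIdeal Q.toSubring) :=
      (mem_maximalIdeal _).mpr hnu
    exact s.2 (h.le hs)
  let φ : (ofPrime A P).toSubring →+* Q.toSubring :=
    IsLocalization.lift (M := P.primeCompl) (g := Subring.inclusion hA) hunit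
  have hφ : Q.toSubring.subtype.comp φ = (ofPrime A P).toSubring.subtype := by
    apply IsLocalization.ringHom_ext P.primeCompl
    ext a
    simp only [RingHom.comp_apply, φ, IsLocalization.lift_eq]
    rfl
  have hle : (ofPrime A P).toSubring ≤ Q.toSubring := by
    intro z hz
    have := congrArg (fun ψ => ψ ⟨z, hz⟩) hφ
    simp only [RingHom.comp_apply, Subring.subtype_apply] at this
    rw [← this]
    exact (φ ⟨z, hz⟩).2
  refine ⟨hle, ((local_hom_TFAE (Subring.inclusion hle)).out 0 2).mpr ?_⟩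
  rw [← IsLocalization.AtPrime.map_eq_maximalIdeal P (ofPrime A P).toSubring, Ideal.map_map,
    Ideal.map_le_iff_le_comap]
  exact h.ge

theorem comap_ofPrime {A C : Subring K} (hAC : A ≤ C) (r : Ideal C) [r.IsPrime]
    (hA : A ≤ (ofPrime C r).toSubring) :
    (maximalIdeal (ofPrime C r).toSubring).comap (Subring.inclusion hA) =
      r.comap (Subring.inclusion hAC) := by
  rw [← comap_comap_inclusion hAC _ (le_ofPrime C r), comap_ofPrime_self]

theorem ofPrime_comap_le {A C : Subring K} (hAC : A ≤ C) (r : Ideal C) [r.IsPrime] :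
    ofPrime A (r.comap (Subring.inclusion hAC)) ≤ ofPrime C r :=
  ofPrime_le_of_comap_eq A _ _ (hAC.trans (le_ofPrime C r)) (comap_ofPrime hAC r _)


theorem localizations_tfae (R : Type u) [Field R] (A B : Subring R) :
    [ ∀ (Q : LocalSubring R) (hA : A ≤ Q.toSubring) (hB : B ≤ Q.toSubring),
        LocalSubring.ofPrime A ((IsLocalRing.maximalIdeal Q.toSubring).comap (Subring.inclusion hA)) =
          LocalSubring.ofPrime B ((IsLocalRing.maximalIdeal Q.toSubring).comap (Subring.inclusion hB)),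
      ∀ r : PrimeSpectrum ↥(A ⊔ B),
        LocalSubring.ofPrime A (r.asIdeal.comap (Subring.inclusion (le_sup_left : A ≤ A ⊔ B))) =
          LocalSubring.ofPrime B (r.asIdeal.comap (Subring.inclusion (le_sup_right : B ≤ A ⊔ B))),
      ∀ (p : PrimeSpectrum A) (q : PrimeSpectrum B),
        (∃ Q : LocalSubring R, LocalSubring.ofPrime A p.asIdeal ≤ Q ∧ LocalSubring.ofPrime B q.asIdeal ≤ Q) →
          LocalSubring.ofPrime A p.asIdeal = LocalSubring.ofPrime B q.asIdeal,
      Set.range (fun p : PrimeSpectrum A ↦ LocalSubring.ofPrime A p.asIdeal) ∩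
          Set.range (fun q : PrimeSpectrum B ↦ LocalSubring.ofPrime B q.asIdeal) =
        Set.range (fun r : PrimeSpectrum ↥(A ⊔ B) ↦ LocalSubring.ofPrime (A ⊔ B) r.asIdeal) ].TFAE := by
  tfae_have 1 → 2 := by
    intro h r
    have hA : A ≤ (ofPrime (A ⊔ B) r.asIdeal).toSubring := le_sup_left.trans (le_ofPrime _ _)
    have hB : B ≤ (ofPrime (A ⊔ B) r.asIdeal).toSubring := le_sup_right.trans (le_ofPrime _ _)
    exact (ofPrime_congr A (comap_ofPrime le_sup_left r.asIdeal hA)).symm.trans
      ((h _ hA hB).trans (ofPrime_congr B (comap_ofPrime le_sup_right r.asIdeal hB)))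
  tfae_have 2 → 1 := by
    intro h Q hA hB
    have hC : A ⊔ B ≤ Q.toSubring := sup_le hA hB
    let r : PrimeSpectrum ↥(A ⊔ B) :=
      ⟨(maximalIdeal Q.toSubring).comap (Subring.inclusion hC), inferInstance⟩
    exact (ofPrime_congr A (comap_comap_inclusion le_sup_left Q hC)).symm.trans
      ((h r).trans (ofPrime_congr B (comap_comap_inclusion le_sup_right Q hC)))
  tfae_have 1 → 3 := by
    rintro h p q ⟨Q, hp, hq⟩
    obtain ⟨hA, eA⟩ := exists_comap_eq_of_ofPrime_le A p.asIdeal Q hp
    obtain ⟨hB, eB⟩ := exists_comap_eq_of_ofPrime_le B q.asIdeal Q hq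
    exact (ofPrime_congr A eA).symm.trans ((h Q hA hB).trans (ofPrime_congr B eB))
  tfae_have 3 → 1 := by
    intro h Q hA hB
    exact h ⟨(maximalIdeal Q.toSubring).comap (Subring.inclusion hA), inferInstance⟩
      ⟨(maximalIdeal Q.toSubring).comap (Subring.inclusion hB), inferInstance⟩
      ⟨Q, ofPrime_le_of_comap_eq A _ Q hA rfl, ofPrime_le_of_comap_eq B _ Q hB rfl⟩
  tfae_have 2 → 4 := by
    intro h
    ext Q'
    constructor
    · rintro ⟨⟨p, hp⟩, ⟨q, hq⟩⟩
      dsimp only at hp hq
      have hA : A ≤ Q'.toSubring := hp ▸ le_ofPrime A p.asIdeal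
      have hB : B ≤ Q'.toSubring := hq ▸ le_ofPrime B q.asIdeal
      have hC : A ⊔ B ≤ Q'.toSubring := sup_le hA hB
      refine ⟨⟨(maximalIdeal Q'.toSubring).comap (Subring.inclusion hC), inferInstance⟩, ?_⟩
      dsimp only
      apply le_antisymm
      · exact ofPrime_le_of_comap_eq (A ⊔ B) _ Q' hC rfl
      · obtain ⟨hA', eA⟩ := exists_comap_eq_of_ofPrime_le A p.asIdeal Q' hp.le
        have h1 := ofPrime_comap_le (le_sup_left : A ≤ A ⊔ B)
          ((maximalIdeal Q'.toSubring).comap (Subring.inclusion hC))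
        have h2 : ((maximalIdeal Q'.toSubring).comap (Subring.inclusion hC)).comap
            (Subring.inclusion (le_sup_left : A ≤ A ⊔ B)) = p.asIdeal :=
          (comap_comap_inclusion le_sup_left Q' hC).trans eA
        exact hp.ge.trans ((ofPrime_congr A h2).ge.trans h1)
    · rintro ⟨r, rfl⟩
      dsimp only
      have h1 := ofPrime_comap_le (le_sup_left : A ≤ A ⊔ B) r.asIdeal
      have hAB := h r
      -- Q₁ := ofPrime A (r ∩ A) contains A and B
      have hA1 : A ≤ (ofPrime A (r.asIdeal.comap (Subring.inclusion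
          (le_sup_left : A ≤ A ⊔ B)))).toSubring := le_ofPrime _ _
      have hB1 : B ≤ (ofPrime A (r.asIdeal.comap (Subring.inclusion
          (le_sup_left : A ≤ A ⊔ B)))).toSubring := by
        rw [hAB]; exact le_ofPrime _ _
      have hC1 := sup_le hA1 hB1
      have h2 : ofPrime (A ⊔ B) r.asIdeal ≤ ofPrime A (r.asIdeal.comap (Subring.inclusion
          (le_sup_left : A ≤ A ⊔ B))) := by
        apply ofPrime_le_of_comap_eq (A ⊔ B) r.asIdeal _ hC1
        rw [comap_eq_of_le h1 hC1]
        exact comap_ofPrime_self _ _ _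
      have h3 := le_antisymm h1 h2
      exact ⟨⟨⟨r.asIdeal.comap (Subring.inclusion (le_sup_left : A ≤ A ⊔ B)), inferInstance⟩, h3⟩,
        ⟨⟨r.asIdeal.comap (Subring.inclusion (le_sup_right : B ≤ A ⊔ B)), inferInstance⟩,
          hAB.symm.trans h3⟩⟩
  tfae_have 4 → 2 := by
    intro h r
    have hr : ofPrime (A ⊔ B) r.asIdeal ∈
        Set.range (fun r : PrimeSpectrum ↥(A ⊔ B) ↦ LocalSubring.ofPrime (A ⊔ B) r.asIdeal) :=
      ⟨r, rfl⟩
    rw [← h] at hr
    obtain ⟨⟨p, hp⟩, ⟨q, hq⟩⟩ := hr
    dsimp only at hp hq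
    obtain ⟨hA, eA⟩ := exists_comap_eq_of_ofPrime_le A p.asIdeal _ hp.le
    obtain ⟨hB, eB⟩ := exists_comap_eq_of_ofPrime_le B q.asIdeal _ hq.le
    have eA' := (comap_ofPrime le_sup_left r.asIdeal hA).symm.trans eA
    have eB' := (comap_ofPrime le_sup_right r.asIdeal hB).symm.trans eB
    exact (ofPrime_congr A eA').trans (hp.trans (hq.symm.trans (ofPrime_congr B eB').symm))
  tfae_finish

end

end Groth.Agent.Lib.Helper7
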