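import Mathlib
import Groth.Prelude
import Groth.Agent.Lib.Helper7.MTwF

/-!
# Helper library (helper7): torsion classes on the generic fibre whose degree vector is in the image
of the intersection matrix lift to torsion classes on a regular proper model (S3342).
-/

set_option autoImplicit false
set_option linter.unusedSectionVars false
set_option linter.style.haveILetI false
universe u
open CategoryTheory CategoryTheory.Limits AlgebraicGeometry Opposite TopologicalSpace
open Scheme.Modules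

namespace Groth.Agent.Lib.Helper7.MTwG

open Groth.Agent.Lib.Helper3 Groth.Agent.Lib.Helper3.InvMonoidal Groth.Agent.Lib.Helper3.InvTensor
open Groth.Agent.Lib.Helper3.InvGen Groth.Agent.Lib.Helper3.QCSec Groth.Agent.Lib.Helper3.InvCoh
open Groth.Agent.Lib.Helper7.SnapFGA
open Groth.Agent.Lib.Helper7.FibFacA Groth.Agent.Lib.Helper7.FibFacB
open Groth.Agent.Lib.Helper7.FibFacG
open Groth.Agent.Lib.Helper1.ModelComp Groth.Agent.Lib.Helper1.ModelMult
open Groth.Agent.Lib.Helper7.MTwA Groth.Agent.Lib.Helper7.MTwB Groth.Agent.Lib.Helper7.MTwC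
open Groth.Agent.Lib.Helper7.MTwD Groth.Agent.Lib.Helper7.MTwE Groth.Agent.Lib.Helper7.MTwF
open Groth.Agent.Lib.Helper13.ClMon
open Groth.Agent.Lib.Helper7.InterInv

/-- number theory: a rational multiple of `m` which is integral is congruent modulo `h` to an
integral multiple of `m`, when `h` is prime to `gcd m`. -/
theorem nt2 {n : ℕ} (m : Fin n → ℕ) (w : Fin n → ℤ) (h : ℕ) (c' : ℚ)
    (hcop : Nat.Coprime h (Finset.univ.gcd m)) (hw : ∀ i, (w i : ℚ) = c' * (m i : ℚ)) :
    ∃ (c : Fin n → ℤ) (z : ℤ), ∀ i, w i = (h : ℤ) * c i + z * (m i : ℤ) := by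
  have h5 : c' * (c'.den : ℚ) = (c'.num : ℚ) := Rat.mul_den_eq_num c'
  have hrel : ∀ i, w i * (c'.den : ℤ) = c'.num * (m i : ℤ) := by
    intro i
    have h4 : ((w i * (c'.den : ℤ) : ℤ) : ℚ) = ((c'.num * (m i : ℤ) : ℤ) : ℚ) := by
      push_cast
      rw [← h5, hw i]
      ring
    exact_mod_cast h4
  have hQm : ∀ i, c'.den ∣ m i := by
    intro i
    have h1 := congrArg Int.natAbs (hrel i)
    rw [Int.natAbs_mul, Int.natAbs_mul, Int.natAbs_natCast, Int.natAbs_natCast] at h1
    have h2 : c'.den ∣ m i * c'.num.natAbs := ⟨(w i).natAbs, by rw [mul_comm (m i), ← h1, mul_comm]⟩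
    exact Nat.Coprime.dvd_of_dvd_mul_right c'.reduced.symm h2
  have hQd : c'.den ∣ Finset.univ.gcd m := Finset.dvd_gcd (fun i _ => hQm i)
  have hcopQ : Nat.Coprime h c'.den := Nat.Coprime.coprime_dvd_right hQd hcop
  obtain ⟨α, β, hαβ⟩ := Nat.isCoprime_iff_coprime.mpr hcopQ
  choose μ hμ using hQm
  have hQ0 : (c'.den : ℤ) ≠ 0 := by exact_mod_cast c'.den_ne_zero
  have hwμ : ∀ i, w i = c'.num * (μ i : ℤ) := by
    intro i
    have h1 := hrel i
    rw [hμ i] at h1
    push_cast at h1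
    have h2 : w i * (c'.den : ℤ) = (c'.num * (μ i : ℤ)) * (c'.den : ℤ) := by
      rw [h1]
      ring
    exact mul_right_cancel₀ hQ0 h2
  refine ⟨fun i => α * c'.num * (μ i : ℤ), β * c'.num, fun i => ?_⟩
  have E2 : (m i : ℤ) = (c'.den : ℤ) * (μ i : ℤ) := by
    rw [hμ i]
    push_cast
    ring
  linear_combination hwμ i - (β * c'.num) * E2 - (c'.num * (μ i : ℤ)) * hαβ

theorem isInvCl_pow {Y : Scheme.{u}} {a : PicF.Cl Y} (ha : PicF.IsInvertibleCl a) (k : ℕ) :
    PicF.IsInvertibleCl (a ^ k) := by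
  induction k with
  | zero =>
    rw [pow_zero]
    exact isInvCl_one
  | succ k ih =>
    rw [pow_succ]
    exact isInvCl_mul ih ha

theorem pullCl_pow {Y X : Scheme.{u}} (g : Y ⟶ X) {a : PicF.Cl X} (ha : PicF.IsInvertibleCl a)
    (k : ℕ) : PicF.pullCl g (a ^ k) = PicF.pullCl g a ^ k := by
  induction k with
  | zero =>
    rw [pow_zero, pow_zero]
    exact pullCl_one g
  | succ k ih =>
    rw [pow_succ, pow_succ, pullCl_mul g (isInvCl_pow ha k) ha, ih]

section General

variable {R : Type u} [CommRing R] [IsDomain R] [IsDiscreteValuationRing R]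
  {X : Over (Spec (CommRingCat.of R))}

theorem inter_tensorPow (hproper : IsProper X.hom) (Γ₀ : ArSurf.VertComp R X)
    {M : X.left.Modules} (hM : PicF.IsInvertible M) (k : ℕ) :
    ArSurf.inter R X (CohB1.tensorPow M k) Γ₀ = (k : ℤ) * ArSurf.inter R X M Γ₀ := by
  induction k with
  | zero =>
    rw [Nat.cast_zero, zero_mul]
    exact inter_unit hproper Γ₀
  | succ k ih =>
    show ArSurf.inter R X (CohB1.tensorMod (CohB1.tensorPow M k) M) Γ₀ = _
    rw [inter_tensor hproper Γ₀ (isInvertible_tensorPow hM k) hM, ih]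
    push_cast
    ring

end General

variable (R : Type u) [CommRing R] [IsDomain R] [IsDiscreteValuationRing R]
  (X : Over (Spec (CommRingCat.of R)))

section

variable (hproper : IsProper X.hom) [Flat X.hom]
  (hreg : ∀ x : X.left, IsRegularLocalRing (X.left.presheaf.stalk x))
  {n : ℕ} (Γ : Fin n → ArSurf.VertComp R X) (hΓ : Models.IsComponentList R X Γ)
  (L : Fin n → X.left.Modules)
  (hL : ∀ j, ClSub.IsInverseOf (L j) (ClSub.idealMod (Γ j).ι.ker))
  {C : Scheme.{u}} (f : C ⟶ Spec (CommRingCat.of (FractionRing R))) (g : C ⟶ X.left)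
  (hsq : IsPullback g f X.hom
    (Spec.map (CommRingCat.ofHom (algebraMap R (FractionRing R)))))
  [IsOpenImmersion g]

include hproper hreg hΓ hL hsq in
/-- **S3342** (class form). -/
theorem main3342
    (hoff : ∀ i j, i ≠ j → 0 ≤ ArSurf.inter R X (L j) (Γ i))
    (hconn : ∀ I : Finset (Fin n), I.Nonempty → I ≠ Finset.univ →
      ∃ i ∈ I, ∃ j ∉ I, ArSurf.inter R X (L j) (Γ i) ≠ 0)
    (hsurj : ∀ h : Γ(X.left, ⊤), ∃ r : R, unif X r = h)
    (ϖ : R) (hϖ : Irreducible ϖ) (hle : X.left.basicOpen (unif X ϖ) ≤ g ''ᵁ ⊤)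
    (h : ℕ) (hcop : Nat.Coprime h (Models.multGcd R X Γ))
    (N : C.Modules) (hNt : PicF.cl N ^ h = 1)
    (M : X.left.Modules) (hM : PicF.IsInvertible M)
    (hMN : PicF.pullCl g (PicF.cl M) = PicF.cl N)
    (v : Fin n → ℤ)
    (hv : ∀ i, ArSurf.inter R X M (Γ i) = ∑ j, ArSurf.inter R X (L j) (Γ i) * v j) :
    ∃ M' : X.left.Modules, PicF.IsInvertible M' ∧ PicF.cl M' ^ h = 1 ∧
      PicF.pullCl g (PicF.cl M') = PicF.cl N := by
  haveI := hproper
  haveI : IsLocallyNoetherian X.left := LocallyOfFiniteType.isLocallyNoetherian X.hom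
  haveI : CompactSpace X.left := QuasiCompact.compactSpace_of_compactSpace X.hom
  haveI : IsNoetherian X.left := {}
  have hMh : PicF.IsInvertible (CohB1.tensorPow M h) := isInvertible_tensorPow hM h
  have hp1 : PicF.pullCl g (PicF.cl (CohB1.tensorPow M h)) = 1 := by
    rw [cl_tensorPow, pullCl_pow g (isInvCl_cl hM) h, hMN, hNt]
  rw [pullCl_cl, cl_eq_one_iff] at hp1
  obtain ⟨iso1⟩ := hp1
  obtain ⟨m0, hm0⟩ := exists_isGen_of_pullback_iso g _ ⟨iso1.symm⟩
  obtain ⟨e, he⟩ := exists_multiTwist_of_isGen R X hproper hreg Γ hΓ L hL ϖ hϖ _ hMh _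
    (hm0.mono hle)
  have hw : ∀ i, ∑ j, ((e j : ℤ) - (h : ℤ) * v j) * ArSurf.inter R X (L j) (Γ i) = 0 := by
    intro i
    have h1 := inter_multiTwist R X hproper hreg Γ hΓ L hL e i
    rw [← inter_eq_of_cl_eq hproper (Γ i) he, inter_tensorPow hproper (Γ i) hM h, hv i] at h1
    have h2 : ∑ j, ((e j : ℤ) - (h : ℤ) * v j) * ArSurf.inter R X (L j) (Γ i) =
        ∑ j, (e j : ℤ) * ArSurf.inter R X (L j) (Γ i) -
          (h : ℤ) * ∑ j, ArSurf.inter R X (L j) (Γ i) * v j := by
      rw [Finset.mul_sum, ← Finset.sum_sub_distrib]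
      exact Finset.sum_congr rfl fun j _ => by ring
    rw [h2, h1, sub_self]
  obtain ⟨c', hc'⟩ := Groth.Agent.Lib.Helper7.SemiDefLA.exists_rat_of_kernel
    (fun i j => ArSurf.inter R X (L j) (Γ i)) (fun i => Models.mult R X (Γ i))
    (fun i => mult_pos' R X hreg Γ hΓ i)
    (fun i j => Groth.Agent.Lib.Helper7.IntLenE.inter_symm R X hproper hreg Γ hΓ L hL i j)
    hoff
    (fun i => sum_mult_inter_eq_zero' R X hproper hreg Γ hΓ L hL i)
    hconn
    (fun i => (e i : ℤ) - (h : ℤ) * v i)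
    (by
      refine Finset.sum_eq_zero (fun i _ => ?_)
      have h3 : ∑ j, ((e i : ℤ) - (h : ℤ) * v i) * ((e j : ℤ) - (h : ℤ) * v j) *
            ArSurf.inter R X (L j) (Γ i) =
          ((e i : ℤ) - (h : ℤ) * v i) *
            ∑ j, ((e j : ℤ) - (h : ℤ) * v j) * ArSurf.inter R X (L j) (Γ i) := by
        rw [Finset.mul_sum]
        exact Finset.sum_congr rfl (fun j _ => by ring)
      rw [h3, hw i, mul_zero])
  have hcop' : Nat.Coprime h (Finset.univ.gcd fun i => Models.mult R X (Γ i)) := hcop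
  obtain ⟨c, z, hcz⟩ := nt2 (fun i => Models.mult R X (Γ i))
    (fun i => (e i : ℤ) - (h : ℤ) * v i) h c' hcop' hc'
  have hab : PicF.cl M ^ h * PicF.cl (FGA.multiTwist L (fun _ => 0)) =
      PicF.cl (FGA.multiTwist L e) := by
    rw [← cl_tensorPow, he, cl_multiTwist L (fun _ => 0)]
    simp
  refine (main19924 R X hproper hreg Γ hΓ L hL f g hsq hoff hconn hsurj ϖ hϖ hle h N M hM hMN
    (fun _ => 0) e hab).mpr ⟨fun i => v i + c i, z, fun i => ?_⟩
  have h1 := hcz i
  push_cast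
  linarith

end

end Groth.Agent.Lib.Helper7.MTwG
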