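import Mathlib
import Groth.Prelude.Def_ega3
import Groth.Prelude.Def_EtMil
import Groth.Agent.Lib.Helper7.TorNat7
set_option autoImplicit false
universe u
open CategoryTheory CategoryTheory.Limits MonoidalCategory TensorProduct

namespace Groth.Agent.Lib.Helper7

section
variable (B' B A' A : Type u) [CommRing B'] [CommRing B] [CommRing A'] [CommRing A]
  [Algebra B' B] [Algebra B' A'] [Algebra B A] [Algebra A' A] [Algebra B' A]
  [IsScalarTower B' B A] [IsScalarTower B' A' A]

/-- `B' → B × A'`. -/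
noncomputable def milF : B' →ₗ[B'] (B × A') :=
  LinearMap.prod (Algebra.linearMap B' B) (Algebra.linearMap B' A')

/-- `B × A' → A`, `(x, y) ↦ x̄ - ȳ`. -/
noncomputable def milG : (B × A') →ₗ[B'] A :=
  LinearMap.coprod (IsScalarTower.toAlgHom B' B A).toLinearMap
    (-(IsScalarTower.toAlgHom B' A' A).toLinearMap)

lemma milG_apply (x : B) (y : A') :
    milG B' B A' A (x, y) = algebraMap B A x - algebraMap A' A y := by
  unfold milG
  rw [LinearMap.coprod_apply, LinearMap.neg_apply, sub_eq_add_neg]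
  rfl

lemma milF_apply (x : B') : milF B' B A' x = (algebraMap B' B x, algebraMap B' A' x) := rfl

variable {B' B A' A}

lemma milF_injective (hsq : EtMil.IsFibreSquare B' B A' A) :
    Function.Injective (milF B' B A') := by
  rw [injective_iff_map_eq_zero]
  intro x hx
  rw [milF_apply, Prod.mk_eq_zero] at hx
  exact (hsq.2 0 0 (by rw [map_zero, map_zero])).unique ⟨hx.1, hx.2⟩ ⟨map_zero _, map_zero _⟩

lemma mil_exact (hsq : EtMil.IsFibreSquare B' B A' A) :
    Function.Exact (milF B' B A') (milG B' B A' A) := by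
  rintro ⟨x, y⟩
  rw [milG_apply, sub_eq_zero]
  constructor
  · intro h
    obtain ⟨b', ⟨h1, h2⟩, -⟩ := hsq.2 x y h
    exact ⟨b', by rw [milF_apply, h1, h2]⟩
  · rintro ⟨b', hb'⟩
    rw [milF_apply, Prod.mk.injEq] at hb'
    rw [← hb'.1, ← hb'.2, ← IsScalarTower.algebraMap_apply, ← IsScalarTower.algebraMap_apply]

lemma milG_surjective (hsq : EtMil.IsFibreSquare B' B A' A) :
    Function.Surjective (milG B' B A' A) := by
  intro z
  obtain ⟨y, rfl⟩ := hsq.1 z
  exact ⟨(0, -y), by rw [milG_apply, map_zero, map_neg, zero_sub, neg_neg]⟩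

end

section partI
variable {B' B A' : Type u} [CommRing B'] [CommRing B] [CommRing A'] [Algebra B' B] [Algebra B' A']
  (L' : Type u) [AddCommGroup L'] [Module B' L']

lemma lTensor_milF_injective_iff :
    Function.Injective (LinearMap.lTensor L' (milF B' B A')) ↔
      ∀ l : L', ((1 : B) ⊗ₜ[B'] l : B ⊗[B'] L') = 0 →
        ((1 : A') ⊗ₜ[B'] l : A' ⊗[B'] L') = 0 → l = 0 := by
  have key1 : ∀ l : L', LinearMap.lTensor L' (LinearMap.fst B' B A')
      (LinearMap.lTensor L' (milF B' B A') (l ⊗ₜ[B'] (1 : B'))) = l ⊗ₜ[B'] (1 : B) := by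
    intro l
    rw [LinearMap.lTensor_tmul, LinearMap.lTensor_tmul, milF_apply, map_one, map_one]
    rfl
  have key2 : ∀ l : L', LinearMap.lTensor L' (LinearMap.snd B' B A')
      (LinearMap.lTensor L' (milF B' B A') (l ⊗ₜ[B'] (1 : B'))) = l ⊗ₜ[B'] (1 : A') := by
    intro l
    rw [LinearMap.lTensor_tmul, LinearMap.lTensor_tmul, milF_apply, map_one, map_one]
    rfl
  have hw : ∀ w : L' ⊗[B'] B', w = (TensorProduct.rid B' L' w) ⊗ₜ[B'] (1 : B') := by
    intro w
    rw [← TensorProduct.rid_symm_apply, LinearEquiv.symm_apply_apply]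
  have hid : LinearMap.inl B' B A' ∘ₗ LinearMap.fst B' B A' +
      LinearMap.inr B' B A' ∘ₗ LinearMap.snd B' B A' = LinearMap.id := by
    apply LinearMap.ext
    rintro ⟨x, y⟩
    simp
  have hsplit : ∀ z : L' ⊗[B'] (B × A'), LinearMap.lTensor L' (LinearMap.fst B' B A') z = 0 →
      LinearMap.lTensor L' (LinearMap.snd B' B A') z = 0 → z = 0 := by
    intro z h1 h2
    have h : LinearMap.lTensor L' (LinearMap.inl B' B A' ∘ₗ LinearMap.fst B' B A' +
        LinearMap.inr B' B A' ∘ₗ LinearMap.snd B' B A') z = z := by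
      rw [hid, LinearMap.lTensor_id, LinearMap.id_apply]
    rw [LinearMap.lTensor_add, LinearMap.add_apply, LinearMap.lTensor_comp,
      LinearMap.lTensor_comp, LinearMap.comp_apply, LinearMap.comp_apply, h1, h2, map_zero,
      map_zero, add_zero] at h
    exact h.symm
  constructor
  · intro hinj l h1 h2
    have hz : LinearMap.lTensor L' (milF B' B A') (l ⊗ₜ[B'] (1 : B')) = 0 := by
      apply hsplit
      · rw [key1]
        have := congrArg (TensorProduct.comm B' B L') h1
        rwa [TensorProduct.comm_tmul, map_zero] at this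
      · rw [key2]
        have := congrArg (TensorProduct.comm B' A' L') h2
        rwa [TensorProduct.comm_tmul, map_zero] at this
    have h0 : l ⊗ₜ[B'] (1 : B') = 0 := hinj (hz.trans (map_zero _).symm)
    have := congrArg (TensorProduct.rid B' L') h0
    rwa [TensorProduct.rid_tmul, one_smul, map_zero] at this
  · intro hcond
    rw [injective_iff_map_eq_zero]
    intro w hw0
    rw [hw w] at hw0 ⊢
    have hl : TensorProduct.rid B' L' w = 0 := by
      apply hcond
      · have := congrArg (LinearMap.lTensor L' (LinearMap.fst B' B A')) hw0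
        rw [key1, map_zero] at this
        have h2 := congrArg (TensorProduct.comm B' L' B) this
        rwa [TensorProduct.comm_tmul, map_zero] at h2
      · have := congrArg (LinearMap.lTensor L' (LinearMap.snd B' B A')) hw0
        rw [key2, map_zero] at this
        have h2 := congrArg (TensorProduct.comm B' L' A') this
        rwa [TensorProduct.comm_tmul, map_zero] at h2
    rw [hl, TensorProduct.zero_tmul]

end partI

section partII
variable {R : Type u} [CommRing R] (G : ModuleCat.{u} R ⥤ ModuleCat.{u} R) [G.Additive]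
  {X Y Z : Type u} [AddCommGroup X] [AddCommGroup Y] [AddCommGroup Z] [Module R X] [Module R Y]
  [Module R Z] (a : X →ₗ[R] Z) (b : Y →ₗ[R] Z)

lemma epi_map_coprod_neg_iff :
    Epi (G.map (ModuleCat.ofHom (LinearMap.coprod a (-b)))) ↔
      Epi (biprod.desc (G.map (ModuleCat.ofHom a)) (G.map (ModuleCat.ofHom b))) := by
  have hg : ModuleCat.ofHom (LinearMap.coprod a (-b)) =
      ModuleCat.ofHom (LinearMap.fst R X Y) ≫ ModuleCat.ofHom a -
        ModuleCat.ofHom (LinearMap.snd R X Y) ≫ ModuleCat.ofHom b := by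
    apply ModuleCat.hom_ext
    apply LinearMap.ext
    rintro ⟨x, y⟩
    show a x + (-b) y = a x - b y
    rw [LinearMap.neg_apply, sub_eq_add_neg]
  have hinl : ModuleCat.ofHom (LinearMap.inl R X Y) ≫ ModuleCat.ofHom (LinearMap.coprod a (-b)) =
      ModuleCat.ofHom a :=
    (ModuleCat.ofHom_comp _ _).symm.trans (congrArg ModuleCat.ofHom (LinearMap.coprod_inl a (-b)))
  have hinr : ModuleCat.ofHom (LinearMap.inr R X Y) ≫ ModuleCat.ofHom (LinearMap.coprod a (-b)) =
      - ModuleCat.ofHom b :=
    (ModuleCat.ofHom_comp _ _).symm.trans (congrArg ModuleCat.ofHom (LinearMap.coprod_inr a (-b)))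
  constructor
  · intro h
    have fac : (G.map (ModuleCat.ofHom (LinearMap.fst R X Y)) ≫ biprod.inl -
        G.map (ModuleCat.ofHom (LinearMap.snd R X Y)) ≫ biprod.inr) ≫
        biprod.desc (G.map (ModuleCat.ofHom a)) (G.map (ModuleCat.ofHom b)) =
        G.map (ModuleCat.ofHom (LinearMap.coprod a (-b))) := by
      rw [Preadditive.sub_comp, Category.assoc, Category.assoc, biprod.inl_desc, biprod.inr_desc,
        hg, G.map_sub, G.map_comp, G.map_comp]
    exact epi_of_epi_fac fac
  · intro h
    have fac : biprod.desc (G.map (ModuleCat.ofHom (LinearMap.inl R X Y)))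
        (-G.map (ModuleCat.ofHom (LinearMap.inr R X Y))) ≫
        G.map (ModuleCat.ofHom (LinearMap.coprod a (-b))) =
        biprod.desc (G.map (ModuleCat.ofHom a)) (G.map (ModuleCat.ofHom b)) := by
      apply biprod.hom_ext'
      · rw [biprod.inl_desc_assoc, biprod.inl_desc, ← G.map_comp, hinl]
      · rw [biprod.inr_desc_assoc, biprod.inr_desc, Preadditive.neg_comp, ← G.map_comp, hinr,
          G.map_neg, neg_neg]
    exact epi_of_epi_fac fac

end partII

section main
variable {B' B A' A : Type u} [CommRing B'] [CommRing B] [CommRing A'] [CommRing A]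
  [Algebra B' B] [Algebra B' A'] [Algebra B A] [Algebra A' A] [Algebra B' A]
  [IsScalarTower B' B A] [IsScalarTower B' A' A]

/-- S14958. -/
theorem milnor_tor_criterion (hsq : EtMil.IsFibreSquare B' B A' A)
    (L' : Type u) [AddCommGroup L'] [Module B' L'] :
    (∀ l : L', ((1 : B) ⊗ₜ[B'] l : B ⊗[B'] L') = 0 →
        ((1 : A') ⊗ₜ[B'] l : A' ⊗[B'] L') = 0 → l = 0) ↔
    Epi (biprod.desc
      (((Tor (ModuleCat.{u} B') 1).obj (ModuleCat.of B' L')).map
        (ModuleCat.ofHom (IsScalarTower.toAlgHom B' B A).toLinearMap))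
      (((Tor (ModuleCat.{u} B') 1).obj (ModuleCat.of B' L')).map
        (ModuleCat.ofHom (IsScalarTower.toAlgHom B' A' A).toLinearMap))) := by
  let S : ShortComplex (ModuleCat.{u} B') :=
    ModuleCat.shortComplexOfCompEqZero (milF B' B A') (milG B' B A' A)
      (LinearMap.ext fun x => (mil_exact hsq).apply_apply_eq_zero x)
  have hS : S.ShortExact := ModuleCat.shortComplex_shortExact S (mil_exact hsq)
    (milF_injective hsq) (milG_surjective hsq)
  obtain ⟨w₁, e₁⟩ := torδ_exact₁ (ModuleCat.of B' L') S hS 0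
  obtain ⟨w₃, e₃⟩ := torδ_exact₃ (ModuleCat.of B' L') S hS 0
  have h1 : Mono (((Tor (ModuleCat.{u} B') 0).obj (ModuleCat.of B' L')).map S.f) ↔
      torδ (ModuleCat.of B' L') S hS 0 = 0 := e₁.mono_g_iff
  have h3 : Epi (((Tor (ModuleCat.{u} B') 1).obj (ModuleCat.of B' L')).map S.g) ↔
      torδ (ModuleCat.of B' L') S hS 0 = 0 := e₃.epi_f_iff
  haveI : ((Tor (ModuleCat.{u} B') 1).obj (ModuleCat.of B' L')).Additive :=
    tor_obj_additive 1 (ModuleCat.of B' L')
  have h4 : Epi (((Tor (ModuleCat.{u} B') 1).obj (ModuleCat.of B' L')).map S.g) ↔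
      Epi (biprod.desc
        (((Tor (ModuleCat.{u} B') 1).obj (ModuleCat.of B' L')).map
          (ModuleCat.ofHom (IsScalarTower.toAlgHom B' B A).toLinearMap))
        (((Tor (ModuleCat.{u} B') 1).obj (ModuleCat.of B' L')).map
          (ModuleCat.ofHom (IsScalarTower.toAlgHom B' A' A).toLinearMap))) :=
    epi_map_coprod_neg_iff ((Tor (ModuleCat.{u} B') 1).obj (ModuleCat.of B' L'))
      (IsScalarTower.toAlgHom B' B A).toLinearMap (IsScalarTower.toAlgHom B' A' A).toLinearMap
  have hcomm : ⇑(LinearMap.lTensor L' (milF B' B A')) ∘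
      ⇑(tor0Equiv (ModuleCat.of B' L') S.X₁) =
      ⇑(tor0Equiv (ModuleCat.of B' L') S.X₂) ∘
        ⇑(((Tor (ModuleCat.{u} B') 0).obj (ModuleCat.of B' L')).map S.f).hom :=
    funext fun t => (tor0Equiv_naturality (ModuleCat.of B' L') S.f t).symm
  have h0 : Function.Injective (LinearMap.lTensor L' (milF B' B A')) ↔
      Mono (((Tor (ModuleCat.{u} B') 0).obj (ModuleCat.of B' L')).map S.f) := by
    rw [ModuleCat.mono_iff_injective,
      ← EquivLike.injective_comp (tor0Equiv (ModuleCat.of B' L') S.X₁)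
        (LinearMap.lTensor L' (milF B' B A')), hcomm, EquivLike.comp_injective]
  rw [← lTensor_milF_injective_iff L', h0, h1, ← h3, h4]

end main

end Groth.Agent.Lib.Helper7
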