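import Mathlib
import Groth.Prelude.Def_W4sfdMinVersal
import Groth.Agent.Lib.Helper7.ArtHull
import Groth.Agent.S12716
import Groth.Agent.S12720

/-!
# Minimal versal families (helper7)

* `app_eq_of_toFormalElt_eq`: a family over a coefficient ring is determined by its formal element;
* `app_eq_of_push`: if the formal element of `ξ'` is pushed forward along `f`, then `ξ'(ψ)` only
  depends on `ψ ∘ f`;
* `exists_der_of_not_surjective`: a non-surjective morphism `f` of coefficient rings kills some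
  derivation `D` (i.e. `D ∘ f = 0`) with `D x = 1` for some `x` in the maximal ideal;
* `isVersal_quot_of_inv`: if `ξ(ψ)` only depends on `ψ ∘ f` and `D ∘ f = 0`, `D x = 1`, the
  restriction of a versal `ξ` to `R/(x)` is versal;
* `exists_minimal_quot`: a versal family restricts to a minimal versal family on some quotient;
* `isVersal_self_along`: if `ξ` over `R` is versal, `ξ = g_* ξ'` for `g : R' → R` having a retraction,
  then `h_R → h_{R'}` is versal (smooth).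
-/

set_option autoImplicit false
universe u v

open CategoryTheory

namespace Groth.Agent.Lib.Helper7.MinVersal

open ArtFun ArtFun.Art Groth.Agent.Lib.Helper19.ArtFunHR Groth.Agent.Lib.Helper19.ArtFunBasic
open Groth.Agent.Lib.Helper19.ArtFunTangent Groth.Agent.Lib.Helper19.ArtFunDouble
open Groth.Agent.Lib.Helper19.ArtFunComplete Groth.Agent.Lib.Helper7.ArtHull

attribute [local instance] Groth.Agent.Lib.Helper19.ArtFunHR.algK
  Groth.Agent.Lib.Helper19.ArtFunHR.isScalarTower_algK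

variable {Λ : Type u} {k : Type u} [CommRing Λ] [Field k] [Algebra Λ k]

theorem app_eq_of_toFormalElt_eq {F : Art Λ k ⥤ Type v} (R : CRing Λ k)
    (ξ₁ ξ₂ : Family R.carrier R.res F) (h : ξ₁.toFormalElt = ξ₂.toFormalElt)
    (A : Art Λ k) (φ : HomSet R.carrier R.res A) : ξ₁.app A φ = ξ₂.app A φ := by
  obtain ⟨n, hn⟩ := exists_maximalIdeal_pow_eq_bot A
  have hn' : IsLocalRing.maximalIdeal A ^ (n + 1) = ⊥ := by
    rw [pow_succ, hn, Ideal.bot_mul]
  obtain ⟨φ', hφ'⟩ := exists_factor_trunc R φ n hn'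
  have h1 : ξ₁.app _ (R.truncHom n) = ξ₂.app _ (R.truncHom n) :=
    congrArg (fun u => u.elt n) h
  rw [← hφ', ξ₁.natural, ξ₂.natural, h1]

theorem app_eq_of_push {F : Art Λ k ⥤ Type v} {R'' R' : CRing Λ k}
    (f : R''.carrier →ₐ[Λ] R'.carrier) (hf : R'.res.comp f = R''.res) (u : FormalElt F R'')
    (ξ' : Family R'.carrier R'.res F) (hpush : u.push f hf = ξ'.toFormalElt)
    (B : Art Λ k) (ψ₁ ψ₂ : HomSet R'.carrier R'.res B) (h : ψ₁.1.comp f = ψ₂.1.comp f) :
    ξ'.app B ψ₁ = ξ'.app B ψ₂ := by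
  obtain ⟨n, hn⟩ := exists_maximalIdeal_pow_eq_bot B
  have hn' : IsLocalRing.maximalIdeal B ^ (n + 1) = ⊥ := by
    rw [pow_succ, hn, Ideal.bot_mul]
  obtain ⟨ψ₁', h1⟩ := exists_factor_trunc R' ψ₁ n hn'
  obtain ⟨ψ₂', h2⟩ := exists_factor_trunc R' ψ₂ n hn'
  have helt : ξ'.app _ (R'.truncHom n) = F.map (CRing.truncMapOfHom f hf n) (u.elt n) :=
    (congrArg (fun w => w.elt n) hpush).symm
  have hcomp : CRing.truncMapOfHom f hf n ≫ ψ₁' = CRing.truncMapOfHom f hf n ≫ ψ₂' := by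
    apply Art.hom_ext
    apply AlgHom.ext
    intro x
    obtain ⟨a, rfl⟩ := Ideal.Quotient.mk_surjective x
    show ψ₁' (Ideal.Quotient.mk (CRing.mpow R' n) (f a)) =
      ψ₂' (Ideal.Quotient.mk (CRing.mpow R' n) (f a))
    have e1 : ψ₁' (Ideal.Quotient.mk (CRing.mpow R' n) (f a)) = ψ₁.1 (f a) :=
      AlgHom.congr_fun (congrArg Subtype.val h1) (f a)
    have e2 : ψ₂' (Ideal.Quotient.mk (CRing.mpow R' n) (f a)) = ψ₂.1 (f a) :=
      AlgHom.congr_fun (congrArg Subtype.val h2) (f a)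
    rw [e1, e2]
    exact AlgHom.congr_fun h a
  rw [← h1, ← h2, ξ'.natural, ξ'.natural, helt, ← FunctorToTypes.map_comp_apply,
    ← FunctorToTypes.map_comp_apply, hcomp]

variable [IsNoetherianRing Λ] [Module.Finite Λ k]

theorem exists_der_of_not_surjective {R'' R' : CRing Λ k}
    (f : R''.carrier →ₐ[Λ] R'.carrier) (hf : R'.res.comp f = R''.res)
    (hns : ¬ Function.Surjective f) :
    ∃ (D : Derivation Λ R'.carrier k) (x : R'.carrier),
      x ∈ IsLocalRing.maximalIdeal R'.carrier ∧ D x = 1 ∧ ∀ s, D (f s) = 0 := by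
  classical
  haveI := R'.isAdicComplete
  have hex : ∃ D₁ D₂ : Derivation Λ R'.carrier k, (∀ r, D₁ (f r) = D₂ (f r)) ∧ D₁ ≠ D₂ := by
    by_contra hcon
    push_neg at hcon
    apply hns
    refine Groth.Agent.S12716.result R'' R'.carrier ?_ f ?_ (fun D₁ D₂ h => hcon D₁ D₂ h)
    · intro c
      obtain ⟨a, ha⟩ := R'.res_surjective c
      exact ⟨a, ha⟩
    · apply AlgHom.ext
      intro r
      exact AlgHom.congr_fun hf r
  obtain ⟨D₁, D₂, hD12, hne⟩ := hex
  obtain ⟨D, hDdef⟩ : ∃ D, D = D₁ - D₂ := ⟨_, rfl⟩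
  have hD0 : ∀ s, D (f s) = 0 := by
    intro s
    rw [hDdef, Derivation.sub_apply, hD12 s, sub_self]
  have hDne : D ≠ 0 := by
    rw [hDdef]; exact sub_ne_zero.mpr hne
  have hex2 : ∃ y ∈ IsLocalRing.maximalIdeal R'.carrier, D y ≠ 0 := by
    by_contra hcon
    push_neg at hcon
    apply hDne
    ext r
    show D r = 0
    obtain ⟨s, hs⟩ := R''.res_surjective (R'.res r)
    have hm : r - f s ∈ IsLocalRing.maximalIdeal R'.carrier := by
      rw [CRing.mem_maximalIdeal_iff, map_sub, CRing.res_comp_apply f hf, hs, sub_self]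
    have h1 := hcon _ hm
    rw [map_sub, hD0, sub_zero] at h1
    exact h1
  obtain ⟨y, hym, hy0⟩ := hex2
  obtain ⟨r, hr⟩ := R'.res_surjective (D y)⁻¹
  refine ⟨D, r * y, Ideal.mul_mem_left _ _ hym, ?_, hD0⟩
  rw [Derivation.leibniz, algK_smul, algK_smul, hr, (CRing.mem_maximalIdeal_iff R' y).mp hym,
    zero_mul, add_zero]
  exact inv_mul_cancel₀ hy0

theorem isVersal_quot_of_inv {F : Art Λ k ⥤ Type v}
    (R : CRing Λ k) (ξ : Family R.carrier R.res F) (hv : IsVersal ξ)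
    {S : Type u} [CommRing S] [Algebra Λ S] (f : S →ₐ[Λ] R.carrier)
    (hinv : ∀ (B : Art Λ k) (ψ₁ ψ₂ : HomSet R.carrier R.res B),
      ψ₁.1.comp f = ψ₂.1.comp f → ξ.app B ψ₁ = ξ.app B ψ₂)
    (D : Derivation Λ R.carrier k) (hD : ∀ s, D (f s) = 0)
    (x : R.carrier) (hxm : x ∈ IsLocalRing.maximalIdeal R.carrier) (hDx : D x = 1)
    (R' : CRing Λ k) (q : R.carrier →ₐ[Λ] R'.carrier) (hq : R'.res.comp q = R.res)
    (hqs : Function.Surjective q) (hker : RingHom.ker q = Ideal.span {x}) :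
    IsVersal (ξ.along q hq) := by
  classical
  apply isVersal_of_smallExt
  intro B A μ hμ φ' y hy
  let φ : HomSet R.carrier R.res A := ⟨φ'.1.comp q, by rw [← AlgHom.comp_assoc, φ'.2, hq]⟩
  obtain ⟨ψ, hψμ, hψy⟩ := hv μ hμ.1 φ y hy
  obtain ⟨G, π₁, π₂, δ, hG, hδ⟩ := exists_double μ hμ
  obtain ⟨Δψ, hΔ1, hΔ2⟩ := hR_exists_lift hG ψ ψ rfl
  have hqx : q x = 0 := by
    have h1 : x ∈ RingHom.ker q := by rw [hker]; exact Ideal.subset_span rfl
    exact h1
  have hμx : μ (ψ.1 x) = μ 0 := by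
    have h1 : μ (ψ.1 x) = φ.1 x := AlgHom.congr_fun (congrArg Subtype.val hψμ) x
    rw [h1]
    show φ'.1 (q x) = μ.toAlgHom 0
    rw [hqx, map_zero, map_zero]
  obtain ⟨γ, hγ1, hγ2⟩ := hG.surj (ψ.1 x) 0 hμx
  obtain ⟨c, hc⟩ : ∃ c : k, c = (δ γ).snd - derOf R (HomSet.map δ Δψ) x := ⟨_, rfl⟩
  obtain ⟨g, hg1, hgδ⟩ := hR_exists_lift hδ ψ
    (derHom R (derOf R (HomSet.map δ Δψ) + c • D)) (homSet_base_ext _ _)
  have hgx : g.1 x = γ := by
    apply hδ.inj
    · have h1 := AlgHom.congr_fun (congrArg Subtype.val hg1) x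
      exact h1.trans hγ1.symm
    · have h1 : δ (g.1 x) = (derHom R (derOf R (HomSet.map δ Δψ) + c • D)).1 x :=
        AlgHom.congr_fun (congrArg Subtype.val hgδ) x
      rw [h1, derHom_apply]
      refine TrivSqZeroExt.ext ?_ ?_
      · show R.res x = (δ γ).fst
        have h2 : (δ γ).fst = G.res γ := Art.res_app δ γ
        have h3 : G.res γ = B.res (π₁ γ) := (Art.res_app π₁ γ).symm
        have h4 : B.res (ψ.1 x) = R.res x := AlgHom.congr_fun ψ.2 x
        rw [h2, h3, hγ1, h4]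
      · show (derOf R (HomSet.map δ Δψ) + c • D) x = (δ γ).snd
        rw [Derivation.add_apply, Derivation.smul_apply, hDx, hc, smul_eq_mul, mul_one]
        ring
  have hψ'x : (HomSet.map π₂ g).1 x = 0 := by
    show π₂ (g.1 x) = 0
    rw [hgx, hγ2]
  have hψ'μ : HomSet.map μ (HomSet.map π₂ g) = φ := by
    rw [← hψμ, ← hg1]
    apply Subtype.ext; apply AlgHom.ext; intro r
    exact (hG.w_apply (g.1 r)).symm
  have hξg : ξ.app G g = ξ.app G Δψ := by
    apply hinv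
    apply AlgHom.ext
    intro s
    show g.1 (f s) = Δψ.1 (f s)
    apply hδ.inj
    · have h1 : π₁ (g.1 (f s)) = ψ.1 (f s) :=
        AlgHom.congr_fun (congrArg Subtype.val hg1) (f s)
      have h2 : π₁ (Δψ.1 (f s)) = ψ.1 (f s) :=
        AlgHom.congr_fun (congrArg Subtype.val hΔ1) (f s)
      exact h1.trans h2.symm
    · have h1 : δ (g.1 (f s)) = (derHom R (derOf R (HomSet.map δ Δψ) + c • D)).1 (f s) :=
        AlgHom.congr_fun (congrArg Subtype.val hgδ) (f s)
      have h2 : (derHom R (derOf R (HomSet.map δ Δψ))).1 (f s) = δ (Δψ.1 (f s)) := by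
        rw [derHom_derOf]; rfl
      rw [h1, ← h2, derHom_apply, derHom_apply]
      refine TrivSqZeroExt.ext rfl ?_
      show (derOf R (HomSet.map δ Δψ) + c • D) (f s) = (derOf R (HomSet.map δ Δψ)) (f s)
      rw [Derivation.add_apply, Derivation.smul_apply, hD, smul_zero, add_zero]
  have hψ'y : ξ.app B (HomSet.map π₂ g) = y := by
    rw [ξ.natural, hξg, ← ξ.natural, hΔ2, hψy]
  have hkerle : RingHom.ker q ≤ RingHom.ker (HomSet.map π₂ g).1 := by
    rw [hker, Ideal.span_le, Set.singleton_subset_iff]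
    exact (RingHom.mem_ker).mpr hψ'x
  obtain ⟨φ'', hφ''⟩ := exists_factor_cring q hq hqs (HomSet.map π₂ g) hkerle
  refine ⟨φ'', ?_, ?_⟩
  · apply Subtype.ext; apply AlgHom.ext; intro r'
    obtain ⟨p, rfl⟩ := hqs r'
    show μ (φ''.1 (q p)) = φ'.1 (q p)
    rw [hφ'']
    exact AlgHom.congr_fun (congrArg Subtype.val hψ'μ) p
  · show ξ.app B ⟨φ''.1.comp q, _⟩ = y
    have h5 : (⟨φ''.1.comp q, by rw [← AlgHom.comp_assoc, φ''.2, hq]⟩ :
        HomSet R.carrier R.res B) = HomSet.map π₂ g :=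
      Subtype.ext (AlgHom.ext hφ'')
    rw [h5]; exact hψ'y

theorem exists_minimal_quot {F : Art Λ k ⥤ Type v}
    (R : CRing Λ k) (ξ : Family R.carrier R.res F) (hv : IsVersal ξ) :
    ∃ (R' : CRing Λ k) (q : R.carrier →ₐ[Λ] R'.carrier) (hq : R'.res.comp q = R.res),
      Function.Surjective q ∧ (ξ.along q hq).IsMinimalVersal := by
  classical
  let 𝒮 : Set (Ideal R.carrier) := {J | ∃ (R' : CRing Λ k) (q : R.carrier →ₐ[Λ] R'.carrier)
    (hq : R'.res.comp q = R.res), Function.Surjective q ∧ RingHom.ker q = J ∧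
      IsVersal (ξ.along q hq)}
  have hne : 𝒮.Nonempty := by
    refine ⟨⊥, R, AlgHom.id Λ R.carrier, AlgHom.comp_id _, Function.surjective_id, ?_, ?_⟩
    · ext r
      rw [RingHom.mem_ker, Ideal.mem_bot]
      rfl
    · exact isVersal_congr ξ _ (fun A φ => rfl) hv
  obtain ⟨J₀, ⟨R', q, hq, hqs, hker, hver⟩, hmax⟩ :=
    (set_has_maximal_iff_noetherian (R := R.carrier) (M := R.carrier)).mpr inferInstance 𝒮 hne
  refine ⟨R', q, hq, hqs, hver, ?_⟩
  intro R'' u f hf hpush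
  by_contra hns
  obtain ⟨D', x', hx'm, hD'x', hD'f⟩ := exists_der_of_not_surjective f hf hns
  have hspan : Ideal.span {x'} ≤ IsLocalRing.maximalIdeal R'.carrier := by
    rw [Ideal.span_le, Set.singleton_subset_iff]; exact hx'm
  obtain ⟨R₃, q', hq', hq's, hker'⟩ := exists_cring_quot R' (Ideal.span {x'}) hspan
  have hver' := isVersal_quot_of_inv R' (ξ.along q hq) hver f
    (fun B ψ₁ ψ₂ h => app_eq_of_push f hf u (ξ.along q hq) hpush B ψ₁ ψ₂ h)
    D' hD'f x' hx'm hD'x' R₃ q' hq' hq's hker'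
  have hqq : R₃.res.comp (q'.comp q) = R.res := by rw [← AlgHom.comp_assoc, hq', hq]
  obtain ⟨p, hp⟩ := hqs x'
  have hx'0 : x' ≠ 0 := by
    intro h
    rw [h, map_zero] at hD'x'
    exact zero_ne_one hD'x'
  apply hmax (RingHom.ker (q'.comp q)) ⟨R₃, q'.comp q, hqq, hq's.comp hqs, rfl,
    isVersal_congr _ _ (fun A φ => rfl) hver'⟩
  refine lt_of_le_of_ne ?_ ?_
  · rw [← hker]
    intro r hr
    rw [RingHom.mem_ker] at hr ⊢
    show q' (q r) = 0
    rw [hr, map_zero]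
  · intro h
    have hpmem : p ∈ RingHom.ker (q'.comp q) := by
      rw [RingHom.mem_ker]
      show q' (q p) = 0
      rw [hp]
      have h1 : x' ∈ RingHom.ker q' := by rw [hker']; exact Ideal.subset_span rfl
      exact h1
    rw [← h, ← hker, RingHom.mem_ker, hp] at hpmem
    exact hx'0 hpmem

theorem isVersal_self_along {F : Art Λ k ⥤ Type v}
    (R R' : CRing Λ k) (ξ : Family R.carrier R.res F) (hv : IsVersal ξ)
    (ξ' : Family R'.carrier R'.res F)
    (g : R'.carrier →ₐ[Λ] R.carrier) (hg : R.res.comp g = R'.res)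
    (hgξ : ∀ (A : Art Λ k) (φ : HomSet R.carrier R.res A),
      (ξ'.along g hg).app A φ = ξ.app A φ)
    (p : R.carrier →ₐ[Λ] R'.carrier) (hp : R'.res.comp p = R.res)
    (hpg : ∀ r', p (g r') = r') :
    IsVersal ((Family.self R'.carrier R'.res).along g hg) := by
  classical
  apply isVersal_of_smallExt
  intro B A μ hμ φ χ0 hχ0
  let χ' : HomSet R'.carrier R'.res B := χ0
  have hχ : ∀ r', μ (χ'.1 r') = φ.1 (g r') := by
    intro r'
    have h1 : HomSet.map μ χ' = ⟨φ.1.comp g, by rw [← AlgHom.comp_assoc, φ.2, hg]⟩ := hχ0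
    exact AlgHom.congr_fun (congrArg Subtype.val h1) r'
  have hy : F.map μ (ξ'.app B χ') = ξ.app A φ := by
    rw [← ξ'.natural, ← hgξ A φ]
    exact congrArg (ξ'.app A) (Subtype.ext (AlgHom.ext hχ))
  obtain ⟨ψ₀, hψ₀μ, -⟩ := hv μ hμ.1 φ (ξ'.app B χ') hy
  obtain ⟨G, π₁, π₂, δ, hG, hδ⟩ := exists_double μ hμ
  let ψ₀g : HomSet R'.carrier R'.res B :=
    ⟨ψ₀.1.comp g, by rw [← AlgHom.comp_assoc, ψ₀.2, hg]⟩
  have hμψ₀ : ∀ r, μ (ψ₀.1 r) = φ.1 r := fun r =>
    AlgHom.congr_fun (congrArg Subtype.val hψ₀μ) r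
  obtain ⟨uu, hu1, hu2⟩ := hR_exists_lift hG ψ₀g χ' (by
    apply Subtype.ext; apply AlgHom.ext; intro r'
    show μ (ψ₀.1 (g r')) = μ (χ'.1 r')
    rw [hμψ₀, hχ])
  obtain ⟨Δ, hΔ1, hΔ2⟩ := hR_exists_lift hG ψ₀ ψ₀ rfl
  let E₁ : HomSet R.carrier R.res (dual Λ k) := HomSet.map δ Δ
  let E₂ : HomSet R.carrier R.res (dual Λ k) := ⟨(HomSet.map δ uu).1.comp p, by
    rw [← AlgHom.comp_assoc, (HomSet.map δ uu).2, hp]⟩
  let E₃ : HomSet R.carrier R.res (dual Λ k) := ⟨(HomSet.map δ Δ).1.comp (g.comp p), by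
    rw [← AlgHom.comp_assoc, (HomSet.map δ Δ).2, ← AlgHom.comp_assoc, hg, hp]⟩
  let Dv : Derivation Λ R.carrier k := derOf R E₁ + derOf R E₂ - derOf R E₃
  obtain ⟨vv, hv1, hvδ⟩ := hR_exists_lift hδ ψ₀ (derHom R Dv) (homSet_base_ext _ _)
  have hvg : ∀ r', vv.1 (g r') = uu.1 r' := by
    intro r'
    apply hδ.inj
    · have h1 : π₁ (vv.1 (g r')) = ψ₀.1 (g r') :=
        AlgHom.congr_fun (congrArg Subtype.val hv1) (g r')
      have h2 : π₁ (uu.1 r') = ψ₀.1 (g r') :=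
        AlgHom.congr_fun (congrArg Subtype.val hu1) r'
      exact h1.trans h2.symm
    · have h1 : δ (vv.1 (g r')) = (derHom R Dv).1 (g r') :=
        AlgHom.congr_fun (congrArg Subtype.val hvδ) (g r')
      rw [h1, derHom_apply]
      refine TrivSqZeroExt.ext ?_ ?_
      · show R.res (g r') = (δ (uu.1 r')).fst
        have h2 : (δ (uu.1 r')).fst = G.res (uu.1 r') := Art.res_app δ (uu.1 r')
        have h3 : G.res (uu.1 r') = R'.res r' := AlgHom.congr_fun uu.2 r'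
        rw [h2, h3]
        exact CRing.res_comp_apply g hg r'
      · show (derOf R E₁ + derOf R E₂ - derOf R E₃) (g r') = (δ (uu.1 r')).snd
        rw [Derivation.sub_apply, Derivation.add_apply]
        show (δ (Δ.1 (g r'))).snd + (δ (uu.1 (p (g r')))).snd -
          (δ (Δ.1 (g (p (g r'))))).snd = (δ (uu.1 r')).snd
        rw [hpg]
        ring
  refine ⟨HomSet.map π₂ vv, Subtype.ext (AlgHom.ext fun r => ?_),
    Subtype.ext (AlgHom.ext fun r' => ?_)⟩
  · show μ (π₂ (vv.1 r)) = φ.1 r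
    rw [← hG.w_apply (vv.1 r)]
    have h1 : π₁ (vv.1 r) = ψ₀.1 r := AlgHom.congr_fun (congrArg Subtype.val hv1) r
    rw [h1, hμψ₀]
  · show π₂ (vv.1 (g r')) = χ'.1 r'
    rw [hvg]
    exact AlgHom.congr_fun (congrArg Subtype.val hu2) r'

end Groth.Agent.Lib.Helper7.MinVersal
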