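import Mathlib
import Groth.Agent.Lib.Helper7.RealHodgeLA

/-!
# Helper library (helper7): linear algebra for the non-negativity of the square of a nef class
(Mathlib only)

* `exists_int_point` : rational approximation in the positive cone;
* `sq_nonneg_of_cone` : if `x` pairs non-negatively with the positive cone, then `B x x ≥ 0`.
-/

set_option autoImplicit false
open Filter Topology

namespace Groth.Agent.Lib.Helper7.NefSqLA

open Groth.Agent.Lib.Helper7.RealHodgeLA

/-- open conditions on a real combination hold for some integral combination. -/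
theorem exists_int_point {V : Type*} [AddCommGroup V] [Module ℝ V] (B : V →ₗ[ℝ] V →ₗ[ℝ] ℝ)
    {ι : Type*} [Fintype ι] (w : ι → V) (h x : V) (c : ι → ℝ)
    (h1 : 0 < B (∑ i, c i • w i) (∑ i, c i • w i)) (h2 : 0 < B (∑ i, c i • w i) h)
    (h3 : B (∑ i, c i • w i) x < 0) :
    ∃ z : ι → ℤ, 0 < B (∑ i, (z i : ℝ) • w i) (∑ i, (z i : ℝ) • w i) ∧
      0 < B (∑ i, (z i : ℝ) • w i) h ∧ B (∑ i, (z i : ℝ) • w i) x < 0 := by
  let f₁ : (ι → ℝ) → ℝ := fun t => B (∑ i, t i • w i) (∑ i, t i • w i)
  let f₂ : (ι → ℝ) → ℝ := fun t => B (∑ i, t i • w i) h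
  let f₃ : (ι → ℝ) → ℝ := fun t => B (∑ i, t i • w i) x
  have hf₁ : Continuous f₁ := by
    simp only [f₁, map_sum, map_smul, LinearMap.sum_apply, LinearMap.smul_apply, smul_eq_mul]
    fun_prop
  have hf₂ : Continuous f₂ := by
    simp only [f₂, map_sum, map_smul, LinearMap.sum_apply, LinearMap.smul_apply, smul_eq_mul]
    fun_prop
  have hf₃ : Continuous f₃ := by
    simp only [f₃, map_sum, map_smul, LinearMap.sum_apply, LinearMap.smul_apply, smul_eq_mul]
    fun_prop
  have hlim : Tendsto (fun N : ℕ => fun i => ((⌊((N : ℝ) + 1) * c i⌋ : ℤ) : ℝ) / ((N : ℝ) + 1))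
      atTop (𝓝 c) := tendsto_pi_nhds.mpr fun i => tendsto_floor_div (c i)
  have e1 := ((hf₁.tendsto c).comp hlim).eventually_const_lt h1
  have e2 := ((hf₂.tendsto c).comp hlim).eventually_const_lt h2
  have e3 := ((hf₃.tendsto c).comp hlim).eventually_lt_const h3
  obtain ⟨N, hN1, hN2, hN3⟩ := (e1.and (e2.and e3)).exists
  have hNpos : (0 : ℝ) < 1 / ((N : ℝ) + 1) := by positivity
  have hseq : (fun i => ((⌊((N : ℝ) + 1) * c i⌋ : ℤ) : ℝ) / ((N : ℝ) + 1)) =
      (1 / ((N : ℝ) + 1)) • (fun i => ((⌊((N : ℝ) + 1) * c i⌋ : ℤ) : ℝ)) := by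
    funext i
    simp only [Pi.smul_apply, smul_eq_mul]
    ring
  have hsum : ∀ t : ι → ℝ, ∑ i, ((1 / ((N : ℝ) + 1)) • t) i • w i =
      (1 / ((N : ℝ) + 1)) • ∑ i, t i • w i := by
    intro t
    simp [Finset.smul_sum, smul_smul]
  refine ⟨fun i => ⌊((N : ℝ) + 1) * c i⌋, ?_, ?_, ?_⟩
  · have h4 : f₁ ((1 / ((N : ℝ) + 1)) • (fun i => ((⌊((N : ℝ) + 1) * c i⌋ : ℤ) : ℝ))) =
        (1 / ((N : ℝ) + 1)) ^ 2 *
          B (∑ i, ((⌊((N : ℝ) + 1) * c i⌋ : ℤ) : ℝ) • w i)
            (∑ i, ((⌊((N : ℝ) + 1) * c i⌋ : ℤ) : ℝ) • w i) := by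
      simp only [f₁, hsum, map_smul, LinearMap.smul_apply, smul_eq_mul]
      ring
    simp only [Function.comp] at hN1
    rw [hseq, h4] at hN1
    exact (mul_pos_iff_of_pos_left (by positivity)).mp hN1
  · have h4 : f₂ ((1 / ((N : ℝ) + 1)) • (fun i => ((⌊((N : ℝ) + 1) * c i⌋ : ℤ) : ℝ))) =
        (1 / ((N : ℝ) + 1)) * B (∑ i, ((⌊((N : ℝ) + 1) * c i⌋ : ℤ) : ℝ) • w i) h := by
      simp only [f₂, hsum, map_smul, LinearMap.smul_apply, smul_eq_mul]
    simp only [Function.comp] at hN2
    rw [hseq, h4] at hN2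
    exact (mul_pos_iff_of_pos_left hNpos).mp hN2
  · have h4 : f₃ ((1 / ((N : ℝ) + 1)) • (fun i => ((⌊((N : ℝ) + 1) * c i⌋ : ℤ) : ℝ))) =
        (1 / ((N : ℝ) + 1)) * B (∑ i, ((⌊((N : ℝ) + 1) * c i⌋ : ℤ) : ℝ) • w i) x := by
      simp only [f₃, hsum, map_smul, LinearMap.smul_apply, smul_eq_mul]
    simp only [Function.comp] at hN3
    rw [hseq, h4] at hN3
    by_contra hc
    push Not at hc
    have := mul_nonneg hNpos.le hc
    linarith

/-- Kleiman's trick: a class pairing non-negatively with the positive cone has non-negative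
square. -/
theorem sq_nonneg_of_cone {V : Type*} [AddCommGroup V] [Module ℝ V] (B : V →ₗ[ℝ] V →ₗ[ℝ] ℝ)
    (hsymm : ∀ x y, B x y = B y x) (h : V) (hh : 0 < B h h) (x : V)
    (hA : ∀ y, 0 < B y y → 0 < B y h → 0 ≤ B y x) : 0 ≤ B x x := by
  by_contra hc
  push Not at hc
  have hb : 0 ≤ B h x := hA h hh hh
  have expand : ∀ t : ℝ, B (x + t • h) (x + t • h) = B x x + 2 * t * B h x + t ^ 2 * B h h := by
    intro t
    simp only [map_add, map_smul, LinearMap.add_apply, LinearMap.smul_apply, smul_eq_mul,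
      hsymm x h]
    ring
  have e2 : ∀ t : ℝ, B (x + t • h) h = B h x + t * B h h := by
    intro t
    simp only [map_add, map_smul, LinearMap.add_apply, LinearMap.smul_apply, smul_eq_mul,
      hsymm x h]
  have e3 : ∀ t : ℝ, B (x + t • h) x = B x x + t * B h x := by
    intro t
    simp only [map_add, map_smul, LinearMap.add_apply, LinearMap.smul_apply, smul_eq_mul]
  rcases hb.lt_or_eq with hbpos | hb0
  · -- `t = - c / (2 b)`
    set t : ℝ := - B x x / (2 * B h x) with ht
    have htpos : 0 < t := by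
      rw [ht]
      apply div_pos
      · linarith
      · linarith
    have htb : t * B h x = - B x x / 2 := by
      rw [ht]
      field_simp
    have h1 : 0 < B (x + t • h) (x + t • h) := by
      rw [expand]
      have : 2 * t * B h x = - B x x := by linarith
      rw [this]
      have := mul_pos (pow_pos htpos 2) hh
      linarith
    have h2 : 0 < B (x + t • h) h := by
      rw [e2]
      have := mul_pos htpos hh
      linarith
    have h3 := hA _ h1 h2
    rw [e3, htb] at h3
    linarith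
  · -- `b = 0`
    set t : ℝ := 1 - B x x / B h h with ht
    have hq : 0 < - B x x / B h h := div_pos (by linarith) hh
    have ht1 : 1 ≤ t := by
      rw [ht]
      have : B x x / B h h = - (- B x x / B h h) := by ring
      linarith
    have htpos : 0 < t := by linarith
    have hta : t * B h h = B h h - B x x := by
      rw [ht]
      field_simp
    have h1 : 0 < B (x + t • h) (x + t • h) := by
      rw [expand, ← hb0]
      have h5 : t ^ 2 * B h h = t * (t * B h h) := by ring
      rw [h5, hta]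
      have h6 : 0 < B h h - B x x := by linarith
      have h7 : B h h - B x x ≤ t * (B h h - B x x) := by
        have := mul_le_mul_of_nonneg_right ht1 h6.le
        linarith
      linarith
    have h2 : 0 < B (x + t • h) h := by
      rw [e2, ← hb0]
      have := mul_pos htpos hh
      linarith
    have h3 := hA _ h1 h2
    rw [e3, ← hb0] at h3
    linarith

end Groth.Agent.Lib.Helper7.NefSqLA
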