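import Mathlib
import Groth.Prelude
import Groth.Agent.Lib.Helper7.RealHodge
import Groth.Agent.Lib.Helper7.NegDefNef
import Groth.Agent.Lib.Helper7.DegRestr

/-!
# Helper library (helper7): nondegeneracy of the intersection form on `N¹(X)_ℝ` of a smooth
projective surface, and the light cone lemma (S19727)

* `eq_zero_of_orth` (linear algebra): for a nondegenerate symmetric form satisfying the Hodge
  inequality with respect to `h`, a class of non-negative square orthogonal to a class of the
  positive cone is zero;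
* `isNumEquivZero_of_ip_zero` : a module orthogonal to all invertible modules on a smooth surface is
  numerically trivial in the sense of `Pic13.IsNumEquivZero`;
* `nondegenerate` : the intersection form on `N¹(X)_ℝ` is nondegenerate;
* `main19727`.
-/

set_option autoImplicit false
set_option linter.unusedSectionVars false
set_option linter.style.haveILetI false
universe u
open CategoryTheory CategoryTheory.Limits AlgebraicGeometry Opposite

namespace Groth.Agent.Lib.Helper7.RealND

open Groth.Agent.Lib.Helper7.SurfIP Groth.Agent.Lib.Helper7.SurfRows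
open Groth.Agent.Lib.Helper7.RealHodgeLA Groth.Agent.Lib.Helper7.RealHodge
open Groth.Agent.Lib.Helper7.NegDefNef Groth.Agent.Lib.Helper7.DegRestr
open Groth.Agent.Lib.Helper7.SnapFGA Groth.Agent.Lib.Helper17

section LA

/-- the light cone lemma. -/
theorem eq_zero_of_orth {V : Type*} [AddCommGroup V] [Module ℝ V] (B : V →ₗ[ℝ] V →ₗ[ℝ] ℝ)
    (hsymm : ∀ x y, B x y = B y x) (h : V)
    (hodge : ∀ v, B v v * B h h ≤ B v h ^ 2) (hh : 0 < B h h)
    (hnd : ∀ y, (∀ v, B y v = 0) → y = 0)
    (x y : V) (hx : 0 < B x x) (hxh : 0 < B x h) (hy : 0 ≤ B y y) (hxy : B x y = 0) :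
    y = 0 := by
  -- `B y h = 0`
  have hyh : B y h = 0 := by
    rcases lt_trichotomy (B y h) 0 with hlt | heq | hgt
    · have h1 : 0 ≤ B (-y) (-y) := by
        simp only [map_neg, LinearMap.neg_apply, neg_neg]
        exact hy
      have h2 : 0 < B (-y) h := by
        simp only [map_neg, LinearMap.neg_apply]
        linarith
      have h3 := pos_of_cone B hsymm h hodge hh x (-y) hx hxh h1 h2
      simp only [map_neg] at h3
      linarith
    · exact heq
    · have h3 := pos_of_cone B hsymm h hodge hh x y hx hxh hy hgt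
      linarith
  -- `B y y = 0`
  have hyy : B y y = 0 := by
    have h1 := hodge y
    rw [hyh] at h1
    have h2 : B y y ≤ 0 := by
      by_contra hc
      push Not at hc
      have := mul_pos hc hh
      nlinarith
    linarith
  apply hnd
  intro v
  -- reduce to `w ⟂ h`
  set w := v - (B v h / B h h) • h with hw
  have hwh : B w h = 0 := by
    simp only [hw, map_sub, map_smul, LinearMap.sub_apply, LinearMap.smul_apply, smul_eq_mul]
    field_simp
    ring
  have hwle : B w w ≤ 0 := by
    have h1 := hodge w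
    rw [hwh] at h1
    by_contra hc
    push Not at hc
    have := mul_pos hc hh
    nlinarith
  have hyw : B y w = 0 := by
    by_contra hβ
    have hd : 0 < 1 - B w w := by linarith
    have hu : B (y + (B y w / (1 - B w w)) • w) h = 0 := by
      simp only [map_add, map_smul, LinearMap.add_apply, LinearMap.smul_apply, smul_eq_mul, hyh,
        hwh]
      ring
    have h1 := hodge (y + (B y w / (1 - B w w)) • w)
    rw [hu] at h1
    have h2 : B (y + (B y w / (1 - B w w)) • w) (y + (B y w / (1 - B w w)) • w) ≤ 0 := by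
      by_contra hc
      push Not at hc
      have := mul_pos hc hh
      nlinarith
    have h3 : B (y + (B y w / (1 - B w w)) • w) (y + (B y w / (1 - B w w)) • w) =
        2 * (B y w / (1 - B w w)) * B y w + (B y w / (1 - B w w)) ^ 2 * B w w := by
      simp only [map_add, map_smul, LinearMap.add_apply, LinearMap.smul_apply, smul_eq_mul,
        hsymm w y, hyy]
      ring
    rw [h3] at h2
    have h4 : (2 * (B y w / (1 - B w w)) * B y w + (B y w / (1 - B w w)) ^ 2 * B w w) *
        (1 - B w w) ^ 2 = B y w ^ 2 * (2 - B w w) := by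
      field_simp
      ring
    have h5 : 0 < B y w ^ 2 := by positivity
    have h6 : 0 < B y w ^ 2 * (2 - B w w) := mul_pos h5 (by linarith)
    have h7 : (2 * (B y w / (1 - B w w)) * B y w + (B y w / (1 - B w w)) ^ 2 * B w w) *
        (1 - B w w) ^ 2 ≤ 0 := mul_nonpos_of_nonpos_of_nonneg h2 (sq_nonneg _)
    linarith
  have hv : v = w + (B v h / B h h) • h := by
    rw [hw]
    abel
  rw [hv, map_add, map_smul, hyw, hyh, smul_zero, add_zero]

end LA

variable (k : Type u) [Field k] (X : Scheme.{u}) [X.Over (Spec (CommRingCat.of k))]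
  [IsProper (X ↘ Spec (CommRingCat.of k))] [IsIntegral X]
  [Smooth (X ↘ Spec (CommRingCat.of k))]

/-- a module orthogonal to all invertible modules on a smooth surface is numerically trivial. -/
theorem isNumEquivZero_of_ip_zero (hdim : topologicalKrullDim X = 2) (M : X.Modules)
    (hM : PicF.IsInvertible M) (h : ∀ N : X.Modules, PicF.IsInvertible N → ip k X N M = 0) :
    Pic13.IsNumEquivZero k X M := by
  intro Y i _ hYi hY1
  haveI := hYi
  letI : Y.Over (Spec (CommRingCat.of k)) := ⟨i ≫ (X ↘ Spec (CommRingCat.of k))⟩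
  have hov : Y ↘ Spec (CommRingCat.of k) = i ≫ (X ↘ Spec (CommRingCat.of k)) := rfl
  haveI : IsProper (Y ↘ Spec (CommRingCat.of k)) := by
    show IsProper (i ≫ (X ↘ Spec (CommRingCat.of k)))
    infer_instance
  have hd : topologicalKrullDim X ≤ ((2 : ℕ) : WithBot ℕ∞) := by
    rw [hdim]
    norm_cast
  have hDi : IsIntegral i.ker.subscheme := by
    haveI : Nonempty i.ker.subscheme := ⟨i.toImage (Classical.arbitrary _)⟩
    exact isIntegral_of_isOpenImmersion (inv i.toImage)
  have hD1 : topologicalKrullDim (i.ker.support : Set X) = 1 := by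
    rw [← hY1]
    have hemb : Topology.IsEmbedding i := i.isClosedEmbedding.isEmbedding
    have h1 := hemb.toHomeomorph.isHomeomorph.topologicalKrullDim_eq
    rw [h1]
    have h2 : (i.ker.support : Set X) = Set.range i := by
      rw [Scheme.Hom.support_ker i]
      exact i.isClosedEmbedding.isClosed_range.closure_eq
    rw [h2]
  have hID := (EffCartMod.isInvertible_idealMod_iff _).mpr
    (Groth.Agent.Lib.Helper7.CurveCartier.isEffCartierIdeal_of_smooth k hdim i.ker hDi hD1)
  have hdY : topologicalKrullDim Y ≤ ((1 : ℕ) : WithBot ℕ∞) := by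
    rw [hY1]
    norm_cast
  show FGA.eulerCharLE k Y ((Scheme.Modules.pullback i).obj M) 1 -
    FGA.eulerCharLE k Y (Coh.structureModule Y) 1 = 0
  rw [eulerLE_eq k Y 1 hdY, eulerLE_eq k Y 1 hdY, ← euler_quotMod_ker_tensor k X i hov M,
    ← euler_quotMod_ker k X i hov, deg_eq_neg_ip k X hd i.ker hID M hM, h _ hID, neg_zero]

variable [PicGrp.Law X] (B : NumR.N1R k X →ₗ[ℝ] NumR.N1R k X →ₗ[ℝ] ℝ)
  (hB : NumR.IsIntForm₂ k X B)
include hB

/-- **the intersection form on `N¹(X)_ℝ` is nondegenerate.** -/
theorem nondegenerate (hdim : topologicalKrullDim X = 2) [Module.Finite ℝ (NumR.N1R k X)]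
    (y : NumR.N1R k X) (hy : ∀ v, B y v = 0) : y = 0 := by
  classical
  have hfg : (Submodule.span ℝ {x : NumR.N1R k X |
      ∃ (L : X.Modules) (hL : PicF.IsInvertible L), x = NumR.clR k X L hL}).FG := by
    rw [NumR.span_clR]
    exact Module.Finite.fg_top
  obtain ⟨s', hs's, hspan⟩ := (Submodule.fg_span_iff_fg_span_finset_subset _).mp hfg
  obtain ⟨b, hbs, hbspan, hbli⟩ := exists_linearIndependent ℝ (s' : Set (NumR.N1R k X))
  have hbfin : b.Finite := s'.finite_toSet.subset hbs
  haveI : Fintype b := hbfin.fintype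
  have hbtop : Submodule.span ℝ (Set.range ((↑) : b → NumR.N1R k X)) = ⊤ := by
    rw [Subtype.range_coe, hbspan, ← hspan, NumR.span_clR]
  have hw : ∀ i : b, ∃ (L : X.Modules) (hL : PicF.IsInvertible L),
      (i : NumR.N1R k X) = NumR.clR k X L hL := fun i => hs's (hbs i.2)
  choose L hL hLeq using hw
  have hBw : ∀ i j : b, B (i : NumR.N1R k X) (j : NumR.N1R k X) =
      ((ip k X (L i) (L j) : ℤ) : ℝ) := by
    intro i j
    rw [hLeq i, hLeq j, hB]
    rfl
  have hymem : y ∈ Submodule.span ℝ (Set.range ((↑) : b → NumR.N1R k X)) := by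
    rw [hbtop]
    trivial
  obtain ⟨t, hty⟩ := (Submodule.mem_span_range_iff_exists_fun ℝ).mp hymem
  by_cases ht : t = 0
  · rw [← hty, ht]
    simp
  exfalso
  -- the Gram matrix is singular
  set G : Matrix b b ℤ := Matrix.of fun i j => ip k X (L i) (L j) with hG
  have h0 : ∀ j : b, ∑ i, t i * ((G i j : ℤ) : ℝ) = 0 := by
    intro j
    have h1 := hy (j : NumR.N1R k X)
    rw [← hty, map_sum, LinearMap.sum_apply] at h1
    rw [← h1]
    refine Finset.sum_congr rfl fun i _ => ?_
    rw [map_smul, LinearMap.smul_apply, smul_eq_mul, hBw i j]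
    rfl
  have hdetR : ((Int.castRingHom ℝ).mapMatrix G).det = 0 := by
    apply Matrix.exists_vecMul_eq_zero_iff.mp
    refine ⟨t, ht, ?_⟩
    funext j
    simp only [Matrix.vecMul, dotProduct, RingHom.mapMatrix_apply, Matrix.map_apply,
      Pi.zero_apply]
    exact h0 j
  have hdetZ : G.det = 0 := by
    rw [← RingHom.map_det, eq_intCast] at hdetR
    exact_mod_cast hdetR
  obtain ⟨n, hn, hnG⟩ := Matrix.exists_vecMul_eq_zero_iff.mpr hdetZ
  have hnG' : ∀ j : b, ∑ i, n i * G i j = 0 := by
    intro j
    have := congrFun hnG j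
    simpa only [Matrix.vecMul, dotProduct, Pi.zero_apply] using this
  obtain ⟨M, hM, hMeq⟩ := exists_clR_eq_sum k X (fun i : b => (i : NumR.N1R k X))
    (fun i => ⟨L i, hL i, hLeq i⟩) n
  have hMorth : B (NumR.clR k X M hM) = 0 := by
    refine LinearMap.ext_on hbtop ?_
    rintro _ ⟨j, rfl⟩
    rw [← hMeq, map_sum, LinearMap.sum_apply, LinearMap.zero_apply]
    have h2 : ∀ i : b, B ((n i : ℝ) • (i : NumR.N1R k X)) (j : NumR.N1R k X) =
        ((n i * G i j : ℤ) : ℝ) := by
      intro i
      rw [map_smul, LinearMap.smul_apply, smul_eq_mul, hBw i j]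
      push_cast
      rfl
    rw [Finset.sum_congr rfl fun i _ => h2 i]
    exact_mod_cast hnG' j
  have hip : ∀ N : X.Modules, PicF.IsInvertible N → ip k X N M = 0 := by
    intro N hN
    have h1 : B (NumR.clR k X M hM) (NumR.clR k X N hN) = 0 := by
      rw [hMorth]
      rfl
    rw [hB] at h1
    have h2 : ip k X M N = 0 := by exact_mod_cast h1
    rw [ip_symm k X N M]
    exact h2
  have hnum := isNumEquivZero_of_ip_zero k X hdim M hM hip
  have hcl : NumR.clR k X M hM = 0 := by
    rw [NumR.clR_def, NumR.cl_eq_zero hM hnum, map_zero]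
  rw [hcl] at hMeq
  have h3 := (Fintype.linearIndependent_iff.mp hbli) (fun i => (n i : ℝ)) hMeq
  apply hn
  funext i
  have := h3 i
  exact_mod_cast this

/-- **S19727**. -/
theorem main19727 (hdim : topologicalKrullDim X = 2) [Module.Finite ℝ (NumR.N1R k X)]
    (H : X.Modules) (hH : CohB1.IsAmple H)
    (x y : NumR.N1R k X) (hx : x ∈ NumR.posCone k X B H hH.1) (hy : 0 ≤ B y y)
    (hxy : B x y = 0) : y = 0 := by
  have hhh : 0 < B (NumR.clR k X H hH.1) (NumR.clR k X H hH.1) := by
    rw [hB]
    have := ip_self_pos_of_ample k X hdim H hH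
    unfold ip at this
    exact_mod_cast this
  exact eq_zero_of_orth B (isIntForm₂_symm k X B hB) (NumR.clR k X H hH.1)
    (real_hodge k X B hB hdim H hH) hhh (nondegenerate k X B hB hdim) x y hx.1 hx.2 hy hxy

end Groth.Agent.Lib.Helper7.RealND
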