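import Mathlib
import Groth.Prelude
import Groth.Agent.Lib.Helper7.RealND
import Groth.Agent.Lib.Helper7.NefSqLA
import Groth.Agent.Lib.Helper7.NefTrivA

/-!
# Helper library (helper7): a nef real class on a smooth projective surface has non-negative
square (S19730)

* `pair_section_nonneg` : a nef real class pairs non-negatively with the class of an invertible
  module having a nonzero section (multiplicity formula);
* `pair_posCone_int_nonneg` : ... and with integral classes of the positive cone;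
* `main19730`.
-/

set_option autoImplicit false
set_option linter.unusedSectionVars false
set_option linter.style.haveILetI false
universe u
open CategoryTheory CategoryTheory.Limits AlgebraicGeometry Opposite TopologicalSpace
open Scheme.Modules

namespace Groth.Agent.Lib.Helper7.NefSq

open Groth.Agent.Lib.Helper3 Groth.Agent.Lib.Helper3.InvMonoidal Groth.Agent.Lib.Helper3.InvTensor
open Groth.Agent.Lib.Helper3.InvGen
open Groth.Agent.Lib.Helper23 Groth.Agent.Lib.Helper23.Snap Groth.Agent.Lib.Helper23.HilbP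
open Groth.Agent.Lib.Helper7.SnapAlt Groth.Agent.Lib.Helper7.SnapFGA
open Groth.Agent.Lib.Helper7.IntNumPos Groth.Agent.Lib.Helper7.IntNumDiv
open Groth.Agent.Lib.Helper7.SecDeg Groth.Agent.Lib.Helper7.HilbCoeff
open Groth.Agent.Lib.Helper7.SecDegB
open Groth.Agent.Lib.Helper7.SecDegC Groth.Agent.Lib.Helper7.RegSec Groth.Agent.Lib.Helper17
open Groth.Agent.Lib.Helper7.SurfSecC Groth.Agent.Lib.Helper7.SurfIP
open Groth.Agent.Lib.Helper7.SurfRows Groth.Agent.Lib.Helper7.NefCoh
open Groth.Agent.Lib.Helper7.NefTrivA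
open Groth.Agent.Lib.Helper7.RealHodgeLA Groth.Agent.Lib.Helper7.RealHodge
open Groth.Agent.Lib.Helper7.NegDefNef Groth.Agent.Lib.Helper7.NefSqLA

variable (k : Type u) [Field k] (X : Scheme.{u}) [X.Over (Spec (CommRingCat.of k))]
  [IsProper (X ↘ Spec (CommRingCat.of k))] [IsIntegral X]
  [Smooth (X ↘ Spec (CommRingCat.of k))]
  [PicGrp.Law X] (B : NumR.N1R k X →ₗ[ℝ] NumR.N1R k X →ₗ[ℝ] ℝ)
  (hB : NumR.IsIntForm₂ k X B)
include hB

/-- a nef real class pairs non-negatively with the class of an invertible module having a nonzero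
section. -/
theorem pair_section_nonneg (hdim : topologicalKrullDim X = 2)
    (x : NumR.N1R k X) (hx : x ∈ NumR.nefCone₂ k X B)
    (E : X.Modules) (hE : PicF.IsInvertible E) (s : Coh.structureModule X ⟶ E) (hs : s ≠ 0) :
    0 ≤ B x (NumR.clR k X E hE) := by
  classical
  haveI : IsNoetherian X := isNoetherian_of_isProper k X
  have hd : topologicalKrullDim X ≤ ((2 : ℕ) : WithBot ℕ∞) := by
    rw [hdim]
    norm_cast
  have hcart : ∀ D : X.IdealSheafData, IsIntegral D.subscheme →
      topologicalKrullDim (D.support : Set X) = 1 → PicF.IsInvertible (ClSub.idealMod D) :=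
    fun D hDi hD1 => (EffCartMod.isInvertible_idealMod_iff _).mpr
      (Groth.Agent.Lib.Helper7.CurveCartier.isEffCartierIdeal_of_smooth k hdim D hDi hD1)
  obtain ⟨eE⟩ := Groth.Agent.Lib.Helper23.Inverse.tensor_dual_iso hE
  have hE' := isInvertible_of_inverse hE ⟨eE⟩
  haveI : (Groth.Agent.Lib.Helper23.Inverse.dual E).IsQuasicoherent :=
    InvCoh.isQuasicoherent_of_isInvertible hE'
  have hreg := isRegSec_of_ne_zero hE s hs
  have hZ := isEffCartierIdeal_zeroDiv (braid _ _ ≪≫ eE) hreg
  obtain ⟨eI⟩ := idealMod_zeroDiv_iso (braid _ _ ≪≫ eE) hreg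
  set Z := zeroDiv (braid _ _ ≪≫ eE) s with hZdef
  have hIZ : PicF.IsInvertible (ClSub.idealMod Z) := (EffCartMod.isInvertible_idealMod_iff Z).mpr hZ
  have hcoh : Coh.IsCoh (ClSub.quotMod Z) := EffCart.isCoh_quotMod Z
  have hsupp := dim_support_quotMod_le X hdim Z hZ
  obtain ⟨S, hS⟩ := exists_finset k X (ClSub.quotMod Z) hcoh 1 hsupp
  -- the curves
  have hint : ∀ ξ : X, IsIntegral (Scheme.IdealSheafData.vanishingIdeal
      (⟨closure ({ξ} : Set X), isClosed_closure⟩ : TopologicalSpace.Closeds X)).subscheme :=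
    fun ξ => Groth.Agent.Lib.Helper17.DevInt.isIntegral_sub
      (⟨closure ({ξ} : Set X), isClosed_closure⟩ : TopologicalSpace.Closeds X)
      isIrreducible_singleton.closure
  have hdim1 : ∀ ξ ∈ S, topologicalKrullDim ((Scheme.IdealSheafData.vanishingIdeal
      (⟨closure ({ξ} : Set X), isClosed_closure⟩ : TopologicalSpace.Closeds X)).support : Set X)
        = 1 := by
    intro ξ hξ
    have hξ' := ((hS ξ).mp hξ).2
    rw [Scheme.IdealSheafData.coe_support_vanishingIdeal]
    change topologicalKrullDim ↥(closure ({ξ} : Set X)) = 1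
    rw [hξ']
    norm_cast
  have hinv : ∀ ξ ∈ S, PicF.IsInvertible (ClSub.idealMod (Scheme.IdealSheafData.vanishingIdeal
      (⟨closure ({ξ} : Set X), isClosed_closure⟩ : TopologicalSpace.Closeds X))) :=
    fun ξ hξ => hcart _ (hint ξ) (hdim1 ξ hξ)
  -- the two functionals
  have key : B.flip (NumR.clR k X E hE) =
      ∑ ξ ∈ S.attach, (((Module.length (X.presheaf.stalk ξ.1)
        ((ClSub.quotMod Z).presheaf.stalk ξ.1)).toNat : ℤ) : ℝ) •
        B.flip (NumR.curveCl k X _ (hinv ξ.1 ξ.2)) := by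
    refine LinearMap.ext_on NumR.span_clR ?_
    rintro _ ⟨N, hN, rfl⟩
    rw [LinearMap.flip_apply, hB, LinearMap.sum_apply]
    have h1 : ip k X N E = - ip k X (ClSub.idealMod Z) N := by
      rw [ip_symm k X N E, ← ip_iso_left k X eI N, ip_neg_left k X hd hE eE hN]
      ring
    have h2 : ip k X (ClSub.idealMod Z) N =
        FGA.intNum k X 2 (fun _ : Fin 1 => N) (ClSub.quotMod Z) := by
      rw [ip_ideal k X hd Z hIZ N hN, intNum_one k X 2 hd]
    have h3 := intNum_eq_sum k X 2 hd (fun _ : Fin 1 => N) (fun _ => hN) (ClSub.quotMod Z) hcoh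
      hsupp S hS
    have h4 : ∀ ξ : S, ((((Module.length (X.presheaf.stalk ξ.1)
        ((ClSub.quotMod Z).presheaf.stalk ξ.1)).toNat : ℤ) : ℝ) •
        B.flip (NumR.curveCl k X _ (hinv ξ.1 ξ.2))) (NumR.clR k X N hN) =
        ((- ((Module.length (X.presheaf.stalk ξ.1)
          ((ClSub.quotMod Z).presheaf.stalk ξ.1)).toNat : ℤ) *
          FGA.intNum k X 2 (fun _ : Fin 1 => N) (ClSub.quotMod
            (Scheme.IdealSheafData.vanishingIdeal
              ⟨closure ({ξ.1} : Set X), isClosed_closure⟩)) : ℤ) : ℝ) := by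
      intro ξ
      rw [LinearMap.smul_apply, LinearMap.flip_apply, NumR.curveCl, map_neg, hB, smul_eq_mul]
      have h5 : FGA.intNum k X 2 ![N, ClSub.idealMod (Scheme.IdealSheafData.vanishingIdeal
          (⟨closure ({ξ.1} : Set X), isClosed_closure⟩ : TopologicalSpace.Closeds X))]
          (Coh.structureModule X) = FGA.intNum k X 2 (fun _ : Fin 1 => N) (ClSub.quotMod
            (Scheme.IdealSheafData.vanishingIdeal
              ⟨closure ({ξ.1} : Set X), isClosed_closure⟩)) := by
        change ip k X N _ = _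
        rw [ip_symm k X N _, ip_ideal k X hd _ (hinv ξ.1 ξ.2) N hN, intNum_one k X 2 hd]
      rw [h5]
      push_cast
      ring
    rw [Finset.sum_congr rfl fun ξ _ => h4 ξ]
    change ((ip k X N E : ℤ) : ℝ) = _
    rw [h1, h2, h3, ← Finset.sum_attach S]
    push_cast
    rw [← Finset.sum_neg_distrib]
    refine Finset.sum_congr rfl fun ξ _ => ?_
    ring
  have h6 : B x (NumR.clR k X E hE) = B.flip (NumR.clR k X E hE) x := rfl
  rw [h6, key, LinearMap.sum_apply]
  refine Finset.sum_nonneg fun ξ _ => ?_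
  rw [LinearMap.smul_apply, LinearMap.flip_apply, smul_eq_mul]
  refine mul_nonneg (by positivity) ?_
  exact hx _ (hint ξ.1) (hdim1 ξ.1 ξ.2) (hinv ξ.1 ξ.2)

/-- a nef real class pairs non-negatively with integral classes of the positive cone. -/
theorem pair_posCone_int_nonneg (hdim : topologicalKrullDim X = 2)
    (H : X.Modules) (hH : CohB1.IsAmple H)
    (x : NumR.N1R k X) (hx : x ∈ NumR.nefCone₂ k X B)
    (D : X.Modules) (hD : PicF.IsInvertible D) (hDD : 0 < ip k X D D) (hDH : 0 < ip k X D H) :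
    0 ≤ B x (NumR.clR k X D hD) := by
  have hd : topologicalKrullDim X ≤ ((2 : ℕ) : WithBot ℕ∞) := by
    rw [hdim]
    norm_cast
  obtain ⟨eD⟩ := Groth.Agent.Lib.Helper23.Inverse.tensor_dual_iso hD
  obtain ⟨eH⟩ := Groth.Agent.Lib.Helper23.Inverse.tensor_dual_iso hH.1
  have hNN : 0 < FGA.intNum k X 2 ![Groth.Agent.Lib.Helper23.Inverse.dual D,
      Groth.Agent.Lib.Helper23.Inverse.dual D] (Coh.structureModule X) := by
    have := ip_inv k X hd hD eD hD eD
    unfold ip at this
    rw [this]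
    exact hDD
  have hNH : 0 < FGA.intNum k X 2 ![Groth.Agent.Lib.Helper23.Inverse.dual D,
      Groth.Agent.Lib.Helper23.Inverse.dual H] (Coh.structureModule X) := by
    have := ip_inv k X hd hD eD hH.1 eH
    unfold ip at this
    rw [this]
    exact hDH
  obtain ⟨n₀, hn₀⟩ := exists_sections k X hdim D _ hD eD H _ hH eH hNN hNH
  have hnt := hn₀ (n₀ + 1) (Nat.le_succ n₀)
  obtain ⟨s, hs⟩ := exists_section_ne_zero X _ hnt
  have hM : PicF.IsInvertible (CohB1.tensorPow D (n₀ + 1)) := isInvertible_tensorPow hD _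
  have h1 := pair_section_nonneg k X B hB hdim x hx _ hM s hs
  have key : B.flip (NumR.clR k X (CohB1.tensorPow D (n₀ + 1)) hM) =
      ((n₀ + 1 : ℕ) : ℝ) • B.flip (NumR.clR k X D hD) := by
    refine LinearMap.ext_on NumR.span_clR ?_
    rintro _ ⟨N, hN, rfl⟩
    rw [LinearMap.smul_apply, LinearMap.flip_apply, LinearMap.flip_apply, hB, hB, smul_eq_mul]
    have := ip_pow_right k X hd hD hN (n₀ + 1)
    unfold ip at this
    rw [this]
    push_cast
    ring
  have h2 : B x (NumR.clR k X (CohB1.tensorPow D (n₀ + 1)) hM) =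
      ((n₀ + 1 : ℕ) : ℝ) * B x (NumR.clR k X D hD) := by
    have := congrArg (fun φ => φ x) key
    simpa only [LinearMap.flip_apply, LinearMap.smul_apply, smul_eq_mul] using this
  rw [h2] at h1
  have hn : (0 : ℝ) < ((n₀ + 1 : ℕ) : ℝ) := by positivity
  exact nonneg_of_mul_nonneg_right h1 hn

/-- **S19730**: a nef real class has non-negative square. -/
theorem main19730 (hdim : topologicalKrullDim X = 2) [Module.Finite ℝ (NumR.N1R k X)]
    (hproj : ∃ H : X.Modules, CohB1.IsAmple H)
    (x : NumR.N1R k X) (hx : x ∈ NumR.nefCone₂ k X B) : 0 ≤ B x x := by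
  obtain ⟨H, hH⟩ := hproj
  have hsymm := isIntForm₂_symm k X B hB
  have hhh : 0 < B (NumR.clR k X H hH.1) (NumR.clR k X H hH.1) := by
    rw [hB]
    have := ip_self_pos_of_ample k X hdim H hH
    unfold ip at this
    exact_mod_cast this
  refine sq_nonneg_of_cone B hsymm (NumR.clR k X H hH.1) hhh x ?_
  intro y hy1 hy2
  by_contra hneg
  push Not at hneg
  have hfg : (Submodule.span ℝ {x : NumR.N1R k X |
      ∃ (L : X.Modules) (hL : PicF.IsInvertible L), x = NumR.clR k X L hL}).FG := by
    rw [NumR.span_clR]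
    exact Module.Finite.fg_top
  obtain ⟨s', hs's, hspan⟩ := (Submodule.fg_span_iff_fg_span_finset_subset _).mp hfg
  have hy : y ∈ Submodule.span ℝ (s' : Set (NumR.N1R k X)) := by
    rw [← hspan, NumR.span_clR]
    trivial
  obtain ⟨c, rfl⟩ := Submodule.mem_span_finset'.mp hy
  obtain ⟨z, hz1, hz2, hz3⟩ := exists_int_point B (fun a : s' => (a : NumR.N1R k X))
    (NumR.clR k X H hH.1) x c hy1 hy2 hneg
  obtain ⟨D, hD, hDeq⟩ := exists_clR_eq_sum k X (fun a : s' => (a : NumR.N1R k X))
    (fun a => hs's a.2) z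
  rw [hDeq] at hz1 hz2 hz3
  rw [hB] at hz1 hz2
  have h1 : 0 < ip k X D D := by
    unfold ip
    exact_mod_cast hz1
  have h2 : 0 < ip k X D H := by
    unfold ip
    exact_mod_cast hz2
  have h3 := pair_posCone_int_nonneg k X B hB hdim H hH x hx D hD h1 h2
  rw [hsymm] at hz3
  linarith

end Groth.Agent.Lib.Helper7.NefSq
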