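import Mathlib
import Groth.Agent.Lib.Helper7.RealHodgeLA

/-!
# Linear algebra: a negative definite integral lattice plus a positive vector is independent

Mathlib-only.  If `c₁, …, c_r` have an integral Gram matrix which is negative definite on `ℤ^r`
and `h` has `B h h > 0`, then `h, c₁, …, c_r` are linearly independent over `ℝ`.
-/

set_option autoImplicit false

open Filter Topology

namespace Groth.Agent.Lib.Helper7.NegDefLA

open Groth.Agent.Lib.Helper7.RealHodgeLA

theorem det_ne_zero_of_negDef {r : ℕ} (G : Matrix (Fin r) (Fin r) ℤ)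
    (hneg : ∀ a : Fin r → ℤ, a ≠ 0 → ∑ i, ∑ j, a i * a j * G i j < 0) : G.det ≠ 0 := by
  intro h0
  obtain ⟨v, hv, hGv⟩ := Matrix.exists_mulVec_eq_zero_iff.mpr h0
  have h1 := hneg v hv
  have e : ∑ i, ∑ j, v i * v j * G i j = ∑ i, v i * (G.mulVec v) i := by
    refine Finset.sum_congr rfl fun i _ => ?_
    simp only [Matrix.mulVec, dotProduct, Finset.mul_sum]
    refine Finset.sum_congr rfl fun j _ => ?_
    ring
  rw [e, hGv] at h1
  simp at h1

theorem semidef_real {r : ℕ} (G : Matrix (Fin r) (Fin r) ℤ)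
    (hneg : ∀ a : Fin r → ℤ, a ≠ 0 → ∑ i, ∑ j, a i * a j * G i j < 0) (t : Fin r → ℝ) :
    ∑ i, ∑ j, t i * t j * (G i j : ℝ) ≤ 0 := by
  have h := quad_nonneg_of_int (fun t : Fin r → ℝ => - ∑ i, ∑ j, t i * t j * (G i j : ℝ))
    (by fun_prop) ?_ ?_ t
  · have h' : 0 ≤ - ∑ i, ∑ j, t i * t j * (G i j : ℝ) := h
    linarith
  · intro s t
    simp only [Pi.smul_apply, smul_eq_mul, Finset.mul_sum, ← Finset.sum_neg_distrib]
    refine Finset.sum_congr rfl fun i _ => Finset.sum_congr rfl fun j _ => ?_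
    ring
  · intro z
    by_cases hz : z = 0
    · subst hz
      simp
    · have h1 := hneg z hz
      have h2 : ((∑ i, ∑ j, z i * z j * G i j : ℤ) : ℝ) < 0 := by exact_mod_cast h1
      push_cast at h2
      simp only
      linarith

theorem linearIndependent_of_negDef {V : Type*} [AddCommGroup V] [Module ℝ V]
    (B : V →ₗ[ℝ] V →ₗ[ℝ] ℝ) {r : ℕ} (c : Fin r → V) (h : V)
    (G : Matrix (Fin r) (Fin r) ℤ) (hG : ∀ i j, B (c i) (c j) = (G i j : ℝ))
    (hneg : ∀ a : Fin r → ℤ, a ≠ 0 → ∑ i, ∑ j, a i * a j * G i j < 0)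
    (hh : 0 < B h h) :
    LinearIndependent ℝ (fun o : Option (Fin r) => o.elim h c) := by
  classical
  rw [Fintype.linearIndependent_iff]
  intro g hg
  rw [Fintype.sum_option] at hg
  simp only [Option.elim] at hg
  have hv : ∑ i, g (some i) • c i = - (g none • h) := by
    rw [eq_neg_iff_add_eq_zero, add_comm]
    exact hg
  have h1 : B (∑ i, g (some i) • c i) (∑ i, g (some i) • c i) =
      ∑ i, ∑ j, g (some i) * g (some j) * (G i j : ℝ) := by
    simp only [map_sum, map_smul, LinearMap.sum_apply, LinearMap.smul_apply, smul_eq_mul, hG,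
      Finset.mul_sum]
    rw [Finset.sum_comm]
    refine Finset.sum_congr rfl fun i _ => Finset.sum_congr rfl fun j _ => ?_
    ring
  have h2 : B (∑ i, g (some i) • c i) (∑ i, g (some i) • c i) = g none ^ 2 * B h h := by
    rw [hv]
    simp only [map_neg, map_smul, LinearMap.neg_apply, LinearMap.smul_apply, smul_eq_mul]
    ring
  have h3 := semidef_real G hneg (fun i => g (some i))
  have hb : g none = 0 := by
    by_contra hne
    have : 0 < g none ^ 2 := by positivity
    nlinarith
  have hv0 : ∑ i, g (some i) • c i = 0 := by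
    rw [hv, hb, zero_smul, neg_zero]
  have hdet : (G.map (Int.castRingHom ℝ)).det ≠ 0 := by
    have := det_ne_zero_of_negDef G hneg
    rw [← RingHom.mapMatrix_apply, ← RingHom.map_det]
    simpa using this
  have hvm : Matrix.vecMul (fun i => g (some i)) (G.map (Int.castRingHom ℝ)) = 0 := by
    funext j
    have h4 : B (∑ i, g (some i) • c i) (c j) = 0 := by rw [hv0]; simp
    simp only [map_sum, map_smul, LinearMap.sum_apply, LinearMap.smul_apply, smul_eq_mul, hG] at h4
    simp only [Matrix.vecMul, dotProduct, Matrix.map_apply, Int.coe_castRingHom, Pi.zero_apply]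
    exact h4
  have ha := Matrix.eq_zero_of_vecMul_eq_zero hdet hvm
  intro o
  cases o with
  | none => exact hb
  | some i => exact congrFun ha i

theorem card_succ_le_finrank {V : Type*} [AddCommGroup V] [Module ℝ V] [Module.Finite ℝ V]
    (B : V →ₗ[ℝ] V →ₗ[ℝ] ℝ) {r : ℕ} (c : Fin r → V) (h : V)
    (G : Matrix (Fin r) (Fin r) ℤ) (hG : ∀ i j, B (c i) (c j) = (G i j : ℝ))
    (hneg : ∀ a : Fin r → ℤ, a ≠ 0 → ∑ i, ∑ j, a i * a j * G i j < 0)
    (hh : 0 < B h h) : r + 1 ≤ Module.finrank ℝ V := by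
  have h1 := (linearIndependent_of_negDef B c h G hG hneg hh).fintype_card_le_finrank
  simpa using h1

end Groth.Agent.Lib.Helper7.NegDefLA
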