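import Mathlib
import Groth.Prelude
import Groth.Agent.Lib.Helper7.NegDefNef

/-!
# Helper library (helper7): negative definite configurations of curves, II (S18451, S18462)

* `ip_nonneg_of_generic_notMem` : an integral curve meets non-negatively an effective Cartier
  divisor not containing it;
* `cross_nonneg` (linear algebra);
* `main18451`, `main18462`.
-/

set_option autoImplicit false
set_option linter.unusedSectionVars false
set_option linter.style.haveILetI false
universe u
open CategoryTheory CategoryTheory.Limits AlgebraicGeometry Opposite TopologicalSpace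
open Scheme.Modules

namespace Groth.Agent.Lib.Helper7.NegDefNefB

open Groth.Agent.Lib.Helper3 Groth.Agent.Lib.Helper3.InvMonoidal Groth.Agent.Lib.Helper3.InvTensor
open Groth.Agent.Lib.Helper3.InvGen Groth.Agent.Lib.Helper3.InvAmple
open Groth.Agent.Lib.Helper23 Groth.Agent.Lib.Helper23.Snap Groth.Agent.Lib.Helper23.HilbP
open Groth.Agent.Lib.Helper7.SnapAlt Groth.Agent.Lib.Helper7.SnapFGA
open Groth.Agent.Lib.Helper7.IntNumPos Groth.Agent.Lib.Helper7.IntNumDiv
open Groth.Agent.Lib.Helper7.SecDeg Groth.Agent.Lib.Helper7.HilbCoeff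
open Groth.Agent.Lib.Helper7.SecDegB Groth.Agent.Lib.Helper7.TwFun
open Groth.Agent.Lib.Helper7.SecDegC Groth.Agent.Lib.Helper17
open Groth.Agent.Lib.Helper7.SurfIP Groth.Agent.Lib.Helper7.NefCoh
open Groth.Agent.Lib.Helper7.NefTrivA Groth.Agent.Lib.Helper7.NumSec
open Groth.Agent.Lib.Helper7.CanSec Groth.Agent.Lib.Helper7.GGNef
open Groth.Agent.Lib.Helper7.NegDefNef
open Groth.Agent.Lib.Helper12 Groth.Agent.Lib.Helper12.SchemeDimFT

section LA

variable {r : ℕ} (G : Fin r → Fin r → ℤ)

theorem cross_nonneg (hsymm : ∀ i j, G i j = G j i) (hoff : ∀ i j, i ≠ j → 0 ≤ G i j)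
    (p n : Fin r → ℤ) (hp0 : ∀ i, 0 ≤ p i) (hn0 : ∀ i, 0 ≤ n i) (hpn : ∀ i, p i * n i = 0)
    (hrow : ∀ i, ∑ j, (p j - n j) * G j i = 0) :
    0 ≤ ∑ i, ∑ j, p i * p j * G i j := by
  have h1 : ∀ i, ∑ j, p i * p j * G i j =
      p i * ∑ j, (p j - n j) * G j i + ∑ j, p i * n j * G i j := by
    intro i
    rw [Finset.mul_sum, ← Finset.sum_add_distrib]
    apply Finset.sum_congr rfl
    intro j _
    rw [hsymm j i]
    ring
  simp only [h1, hrow, mul_zero, zero_add]
  apply Finset.sum_nonneg
  intro i _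
  apply Finset.sum_nonneg
  intro j _
  by_cases hij : i = j
  · subst hij
    rw [hpn i, zero_mul]
  · exact mul_nonneg (mul_nonneg (hp0 i) (hn0 j)) (hoff i j hij)

end LA

variable (k : Type u) [Field k] (X : Scheme.{u}) [X.Over (Spec (CommRingCat.of k))]
  [IsProper (X ↘ Spec (CommRingCat.of k))] [IsIntegral X]

/-- an integral curve meets non-negatively an effective Cartier divisor not containing its
generic point. -/
theorem ip_nonneg_of_generic_notMem (hdim : topologicalKrullDim X = 2) (D E : X.IdealSheafData)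
    (hDi : IsIntegral D.subscheme) (hD1 : topologicalKrullDim (D.support : Set X) = 1)
    (hID : PicF.IsInvertible (ClSub.idealMod D)) (hIE : PicF.IsInvertible (ClSub.idealMod E))
    (hgen : D.subschemeι (genericPoint D.subscheme) ∉ (E.support : Set X)) :
    0 ≤ ip k X (ClSub.idealMod D) (ClSub.idealMod E) := by
  have hd : topologicalKrullDim X ≤ ((2 : ℕ) : WithBot ℕ∞) := by
    rw [hdim]
    norm_cast
  obtain ⟨eE⟩ := Groth.Agent.Lib.Helper23.Inverse.tensor_dual_iso hIE
  have hE' := isInvertible_of_inverse hIE ⟨eE⟩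
  have hs := (mem_genLocus_canSec_iff E eE hE' _).mpr hgen
  have h1 := deg_nonneg_of_section k X D hDi hD1 _ hE' (canSec E eE) hs
  rw [deg_eq_neg_ip k X hd D hID _ hE', ip_neg_right k X hd hIE eE hID] at h1
  linarith

variable [Smooth (X ↘ Spec (CommRingCat.of k))]

/-- **S18462**. -/
theorem main18462 (hdim : topologicalKrullDim X = 2)
    (r : ℕ) (C : Fin r → X.IdealSheafData) (hC : Function.Injective C)
    (hCi : ∀ i, IsIntegral (C i).subscheme)
    (hCd : ∀ i, topologicalKrullDim ((C i).support : Set X) = 1)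
    (hneg : ∀ a : Fin r → ℤ, a ≠ 0 →
      ∑ i, ∑ j, a i * a j * FGA.intNum k X 2
        ![(ClSub.idealMod (C i)), (ClSub.idealMod (C j))] (Coh.structureModule X) < 0)
    (F : X.IdealSheafData) (hF : FGA.IsEffCartier F)
    (hFC : ∀ i, ¬ ((C i).support : Set X) ⊆ (F.support : Set X))
    (s : Fin r → ℤ)
    (horth : ∀ j, Curv2.euler k X (CohB1.tensorMod (ClSub.quotMod (C j)) (ClSub.idealMod F)) -
        Curv2.euler k X (ClSub.quotMod (C j)) =
      ∑ i, s i * FGA.intNum k X 2 ![(ClSub.idealMod (C i)), (ClSub.idealMod (C j))]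
        (Coh.structureModule X)) :
    ∀ i, 0 ≤ s i := by
  have hd : topologicalKrullDim X ≤ ((2 : ℕ) : WithBot ℕ∞) := by
    rw [hdim]
    norm_cast
  have hI : ∀ i, PicF.IsInvertible (ClSub.idealMod (C i)) := fun i =>
    (EffCartMod.isInvertible_idealMod_iff _).mpr
      (Groth.Agent.Lib.Helper7.CurveCartier.isEffCartierIdeal_of_smooth k hdim (C i) (hCi i)
        (hCd i))
  have hIF : PicF.IsInvertible (ClSub.idealMod F) :=
    (EffCartMod.isInvertible_idealMod_iff F).mpr hF
  have hoff : ∀ i j, i ≠ j →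
      0 ≤ ip k X (ClSub.idealMod (C i)) (ClSub.idealMod (C j)) := fun i j hij =>
    ip_nonneg_of_ne k X hdim (C i) (C j) (hCi i) (hCd i) (hCi j) (hCd j) (hI i) (hI j)
      (fun h => hij (hC h))
  have hb : ∀ j, 0 ≤ ip k X (ClSub.idealMod (C j)) (ClSub.idealMod F) := by
    intro j
    haveI := hCi j
    apply ip_nonneg_of_generic_notMem k X hdim (C j) F (hCi j) (hCd j) (hI j) hIF
    intro hmem
    apply hFC j
    rw [← closure_generic X (C j)]
    exact closure_minimal (Set.singleton_subset_iff.mpr hmem) F.support.isClosed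
  have hx : ∀ j, ∑ i, ((ip k X (ClSub.idealMod (C j)) (ClSub.idealMod (C i)) : ℤ) : ℚ) *
      ((s i : ℤ) : ℚ) = - ((ip k X (ClSub.idealMod (C j)) (ClSub.idealMod F) : ℤ) : ℚ) := by
    intro j
    have h1 := horth j
    rw [deg_eq_neg_ip k X hd (C j) (hI j) _ hIF] at h1
    have h2 : ∑ i, ip k X (ClSub.idealMod (C j)) (ClSub.idealMod (C i)) * s i =
        - ip k X (ClSub.idealMod (C j)) (ClSub.idealMod F) := by
      rw [h1]
      apply Finset.sum_congr rfl
      intro i _
      show ip k X (ClSub.idealMod (C j)) (ClSub.idealMod (C i)) * s i =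
        s i * ip k X (ClSub.idealMod (C i)) (ClSub.idealMod (C j))
      rw [ip_symm k X (ClSub.idealMod (C j)), mul_comm]
    exact_mod_cast h2
  have h3 := Groth.Agent.Lib.Helper7.MMatrixLA.solution_nonneg
    (fun i j => ip k X (ClSub.idealMod (C i)) (ClSub.idealMod (C j))) hoff hneg
    (fun j => ((ip k X (ClSub.idealMod (C j)) (ClSub.idealMod F) : ℤ) : ℚ))
    (fun j => by exact_mod_cast hb j) (fun i => ((s i : ℤ) : ℚ)) hx
  intro i
  exact_mod_cast h3 i

/-- **S18451**. -/
theorem main18451 (hdim : topologicalKrullDim X = 2)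
    (hproj : ∃ H : X.Modules, CohB1.IsAmple H)
    (r : ℕ) (C : Fin r → X.IdealSheafData) (hC : Function.Injective C)
    (hCi : ∀ i, IsIntegral (C i).subscheme)
    (hCd : ∀ i, topologicalKrullDim ((C i).support : Set X) = 1)
    (hneg : ∀ a : Fin r → ℤ,
      (∃ M : X.Modules, PicF.IsInvertible M ∧
        ∑ i, a i * FGA.intNum k X 2 ![(ClSub.idealMod (C i)), M] (Coh.structureModule X) ≠ 0) →
      ∑ i, ∑ j, a i * a j * FGA.intNum k X 2
        ![(ClSub.idealMod (C i)), (ClSub.idealMod (C j))] (Coh.structureModule X) < 0) :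
    ∀ a : Fin r → ℤ, a ≠ 0 →
      ∑ i, ∑ j, a i * a j * FGA.intNum k X 2
        ![(ClSub.idealMod (C i)), (ClSub.idealMod (C j))] (Coh.structureModule X) < 0 := by
  obtain ⟨H, hH⟩ := hproj
  have hd : topologicalKrullDim X ≤ ((2 : ℕ) : WithBot ℕ∞) := by
    rw [hdim]
    norm_cast
  have hI : ∀ i, PicF.IsInvertible (ClSub.idealMod (C i)) := fun i =>
    (EffCartMod.isInvertible_idealMod_iff _).mpr
      (Groth.Agent.Lib.Helper7.CurveCartier.isEffCartierIdeal_of_smooth k hdim (C i) (hCi i)
        (hCd i))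
  have hoff : ∀ i j, i ≠ j →
      0 ≤ ip k X (ClSub.idealMod (C i)) (ClSub.idealMod (C j)) := fun i j hij =>
    ip_nonneg_of_ne k X hdim (C i) (C j) (hCi i) (hCd i) (hCi j) (hCd j) (hI i) (hI j)
      (fun h => hij (hC h))
  have hdeg : ∀ i, ip k X (ClSub.idealMod (C i)) H < 0 := by
    intro i
    have h1 := deg_pos_of_ample k X hdim H hH (C i) (hCd i) (hI i)
    rw [deg_eq_neg_ip k X hd (C i) (hI i) H hH.1] at h1
    linarith
  have hv : ∀ v : Fin r → ℤ, (∀ i, 0 ≤ v i) → v ≠ 0 →
      ∑ i, ∑ j, v i * v j * ip k X (ClSub.idealMod (C i)) (ClSub.idealMod (C j)) < 0 := by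
    intro v hv0 hvne
    apply hneg v ⟨H, hH.1, ?_⟩
    apply ne_of_lt
    show ∑ i, v i * ip k X (ClSub.idealMod (C i)) H < 0
    obtain ⟨i0, hi0⟩ : ∃ i, v i ≠ 0 := by
      by_contra h
      push_neg at h
      exact hvne (funext h)
    exact Finset.sum_neg' (fun i _ => mul_nonpos_of_nonneg_of_nonpos (hv0 i) (hdeg i).le)
      ⟨i0, Finset.mem_univ _,
        mul_neg_of_pos_of_neg (lt_of_le_of_ne (hv0 i0) (Ne.symm hi0)) (hdeg i0)⟩
  intro a ha
  by_cases hnt : ∃ M : X.Modules, PicF.IsInvertible M ∧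
      ∑ i, a i * FGA.intNum k X 2 ![(ClSub.idealMod (C i)), M] (Coh.structureModule X) ≠ 0
  · exact hneg a hnt
  · exfalso
    push_neg at hnt
    have hrow : ∀ i, ∑ j, a j * ip k X (ClSub.idealMod (C j)) (ClSub.idealMod (C i)) = 0 :=
      fun i => hnt _ (hI i)
    have hsymm : ∀ i j, ip k X (ClSub.idealMod (C i)) (ClSub.idealMod (C j)) =
        ip k X (ClSub.idealMod (C j)) (ClSub.idealMod (C i)) := fun i j => ip_symm k X _ _
    have hp0 : ∀ i, 0 ≤ max (a i) 0 := fun i => le_max_right _ _
    have hn0 : ∀ i, 0 ≤ max (- a i) 0 := fun i => le_max_right _ _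
    have hpn : ∀ i, max (a i) 0 * max (- a i) 0 = 0 := by
      intro i
      rcases le_total 0 (a i) with h | h
      · rw [max_eq_right (neg_nonpos.mpr h), mul_zero]
      · rw [max_eq_right h, zero_mul]
    have hnp : ∀ i, max (- a i) 0 * max (a i) 0 = 0 := fun i => by rw [mul_comm, hpn i]
    have hsub : ∀ i, max (a i) 0 - max (- a i) 0 = a i := fun i =>
      max_zero_sub_max_neg_zero_eq_self (a i)
    have hrow1 : ∀ i, ∑ j, (max (a j) 0 - max (- a j) 0) *
        ip k X (ClSub.idealMod (C j)) (ClSub.idealMod (C i)) = 0 := by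
      intro i
      simp only [hsub]
      exact hrow i
    have hrow2 : ∀ i, ∑ j, (max (- a j) 0 - max (a j) 0) *
        ip k X (ClSub.idealMod (C j)) (ClSub.idealMod (C i)) = 0 := by
      intro i
      have h1 : ∀ j, max (- a j) 0 - max (a j) 0 = - a j := fun j => by
        have := hsub j
        linarith
      simp only [h1, neg_mul, Finset.sum_neg_distrib, hrow i, neg_zero]
    obtain ⟨i0, hi0⟩ : ∃ i, a i ≠ 0 := by
      by_contra h
      push_neg at h
      exact ha (funext h)
    rcases lt_or_gt_of_ne hi0 with h | h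
    · -- negative part nonzero
      have hne : (fun i => max (- a i) 0) ≠ 0 := by
        intro h0
        have := congrFun h0 i0
        simp only [Pi.zero_apply] at this
        have h2 : - a i0 ≤ 0 := by
          rw [← this]
          exact le_max_left _ _
        linarith
      have h1 := hv _ hn0 hne
      have h2 := cross_nonneg _ hsymm hoff _ _ hn0 hp0 hnp hrow2
      linarith
    · have hne : (fun i => max (a i) 0) ≠ 0 := by
        intro h0
        have := congrFun h0 i0
        simp only [Pi.zero_apply] at this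
        have h2 : a i0 ≤ 0 := by
          rw [← this]
          exact le_max_left _ _
        linarith
      have h1 := hv _ hp0 hne
      have h2 := cross_nonneg _ hsymm hoff _ _ hp0 hn0 hpn hrow1
      linarith

end Groth.Agent.Lib.Helper7.NegDefNefB
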