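import Mathlib
import Groth.Prelude
import Groth.Agent.Lib.Helper7.NegDefNefB
import Groth.Agent.Lib.Helper7.DivDim

/-!
# Helper library (helper7): negative definite configurations of curves, III (S18463)

* `deg_pos_of_ample_effCartier` : an ample module has positive degree on a nonzero effective
  Cartier divisor of a surface;
* `main18463`.
-/

set_option autoImplicit false
set_option linter.unusedSectionVars false
set_option linter.style.haveILetI false
universe u
open CategoryTheory CategoryTheory.Limits AlgebraicGeometry Opposite TopologicalSpace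
open Scheme.Modules

namespace Groth.Agent.Lib.Helper7.NegDefNefC

open Groth.Agent.Lib.Helper3 Groth.Agent.Lib.Helper3.InvMonoidal Groth.Agent.Lib.Helper3.InvTensor
open Groth.Agent.Lib.Helper3.InvGen Groth.Agent.Lib.Helper3.InvAmple
open Groth.Agent.Lib.Helper23 Groth.Agent.Lib.Helper23.Snap Groth.Agent.Lib.Helper23.HilbP
open Groth.Agent.Lib.Helper7.SnapAlt Groth.Agent.Lib.Helper7.SnapFGA
open Groth.Agent.Lib.Helper7.IntNumPos Groth.Agent.Lib.Helper7.IntNumDiv
open Groth.Agent.Lib.Helper7.SecDeg Groth.Agent.Lib.Helper7.HilbCoeff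
open Groth.Agent.Lib.Helper7.SecDegB Groth.Agent.Lib.Helper7.TwFun
open Groth.Agent.Lib.Helper7.SecDegC Groth.Agent.Lib.Helper17
open Groth.Agent.Lib.Helper7.SurfIP Groth.Agent.Lib.Helper7.NefCoh
open Groth.Agent.Lib.Helper7.NefTrivA Groth.Agent.Lib.Helper7.NumSec
open Groth.Agent.Lib.Helper7.CanSec Groth.Agent.Lib.Helper7.GGNef
open Groth.Agent.Lib.Helper7.NegDefNef Groth.Agent.Lib.Helper7.NegDefNefB
open Groth.Agent.Lib.Helper12 Groth.Agent.Lib.Helper12.SchemeDimFT

variable (k : Type u) [Field k] (X : Scheme.{u}) [X.Over (Spec (CommRingCat.of k))]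
  [IsProper (X ↘ Spec (CommRingCat.of k))] [IsIntegral X]

/-- an ample module pairs negatively with the ideal of a nonzero effective Cartier divisor. -/
theorem ip_ideal_neg_of_ample (hdim : topologicalKrullDim X = 2) (H : X.Modules)
    (hH : CohB1.IsAmple H) (F : X.IdealSheafData) (hF : BlowUp.IsEffCartierIdeal F)
    (hF0 : F ≠ ⊤) : ip k X (ClSub.idealMod F) H < 0 := by
  have hd : topologicalKrullDim X ≤ ((2 : ℕ) : WithBot ℕ∞) := by
    rw [hdim]
    norm_cast
  have hIF : PicF.IsInvertible (ClSub.idealMod F) :=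
    (EffCartMod.isInvertible_idealMod_iff F).mpr hF
  have hne : (F.support : Set X).Nonempty := by
    rw [Set.nonempty_iff_ne_empty]
    intro h
    apply hF0
    rw [← Scheme.IdealSheafData.support_eq_bot_iff]
    exact TopologicalSpace.Closeds.ext h
  have hX : topologicalKrullDim X = ((1 + 1 : ℕ) : WithBot ℕ∞) := by
    rw [hdim]
    norm_cast
  have h1 := Groth.Agent.Lib.Helper7.DivDim.dim_support_eq k X 1 hX F hF hne
  have hF1 : topologicalKrullDim (F.support : Set X) = 1 := by
    rw [h1]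
    norm_cast
  have h2 := deg_pos_of_ample k X hdim H hH F hF1 hIF
  rw [deg_eq_neg_ip k X hd F hIF H hH.1] at h2
  linarith

variable [Smooth (X ↘ Spec (CommRingCat.of k))]

/-- **S18463**. -/
theorem main18463 (hdim : topologicalKrullDim X = 2)
    (hproj : ∃ H : X.Modules, CohB1.IsAmple H)
    (r : ℕ) (C : Fin r → X.IdealSheafData) (hC : Function.Injective C)
    (hCi : ∀ i, IsIntegral (C i).subscheme)
    (hCd : ∀ i, topologicalKrullDim ((C i).support : Set X) = 1)
    (hneg : ∀ a : Fin r → ℤ, a ≠ 0 →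
      ∑ i, ∑ j, a i * a j * FGA.intNum k X 2
        ![(ClSub.idealMod (C i)), (ClSub.idealMod (C j))] (Coh.structureModule X) < 0)
    (F : X.IdealSheafData) (hF : FGA.IsEffCartier F)
    (hFC : ∀ i, ¬ ((C i).support : Set X) ⊆ (F.support : Set X))
    (s : Fin r → ℤ)
    (hnum : ∀ M : X.Modules, PicF.IsInvertible M →
      FGA.intNum k X 2 ![(ClSub.idealMod F), M] (Coh.structureModule X) =
        ∑ i, s i * FGA.intNum k X 2 ![(ClSub.idealMod (C i)), M] (Coh.structureModule X)) :
    F = ⊤ ∧ ∀ i, s i = 0 := by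
  obtain ⟨H, hH⟩ := hproj
  have hd : topologicalKrullDim X ≤ ((2 : ℕ) : WithBot ℕ∞) := by
    rw [hdim]
    norm_cast
  have hcart : ∀ D : X.IdealSheafData, IsIntegral D.subscheme →
      topologicalKrullDim (D.support : Set X) = 1 → PicF.IsInvertible (ClSub.idealMod D) :=
    fun D hDi hD1 => (EffCartMod.isInvertible_idealMod_iff _).mpr
      (Groth.Agent.Lib.Helper7.CurveCartier.isEffCartierIdeal_of_smooth k hdim D hDi hD1)
  have hI : ∀ i, PicF.IsInvertible (ClSub.idealMod (C i)) := fun i => hcart _ (hCi i) (hCd i)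
  have hIF : PicF.IsInvertible (ClSub.idealMod F) :=
    (EffCartMod.isInvertible_idealMod_iff F).mpr hF
  have hoff : ∀ i j, i ≠ j →
      0 ≤ ip k X (ClSub.idealMod (C i)) (ClSub.idealMod (C j)) := fun i j hij =>
    ip_nonneg_of_ne k X hdim (C i) (C j) (hCi i) (hCd i) (hCi j) (hCd j) (hI i) (hI j)
      (fun h => hij (hC h))
  have hdeg : ∀ i, ip k X (ClSub.idealMod (C i)) H < 0 := by
    intro i
    have h1 := deg_pos_of_ample k X hdim H hH (C i) (hCd i) (hI i)
    rw [deg_eq_neg_ip k X hd (C i) (hI i) H hH.1] at h1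
    linarith
  have hb : ∀ j, 0 ≤ ip k X (ClSub.idealMod (C j)) (ClSub.idealMod F) := by
    intro j
    haveI := hCi j
    apply ip_nonneg_of_generic_notMem k X hdim (C j) F (hCi j) (hCd j) (hI j) hIF
    intro hmem
    apply hFC j
    rw [← closure_generic X (C j)]
    exact closure_minimal (Set.singleton_subset_iff.mpr hmem) F.support.isClosed
  -- `- s ≥ 0`
  have hx : ∀ j, ∑ i, ((ip k X (ClSub.idealMod (C j)) (ClSub.idealMod (C i)) : ℤ) : ℚ) *
      (((- s i : ℤ) : ℤ) : ℚ) = - ((ip k X (ClSub.idealMod (C j)) (ClSub.idealMod F) : ℤ) : ℚ) := by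
    intro j
    have h1 : ip k X (ClSub.idealMod F) (ClSub.idealMod (C j)) =
        ∑ i, s i * ip k X (ClSub.idealMod (C i)) (ClSub.idealMod (C j)) := hnum _ (hI j)
    have h2 : ∑ i, ip k X (ClSub.idealMod (C j)) (ClSub.idealMod (C i)) * (- s i) =
        - ip k X (ClSub.idealMod (C j)) (ClSub.idealMod F) := by
      rw [ip_symm k X (ClSub.idealMod (C j)) (ClSub.idealMod F), h1, ← Finset.sum_neg_distrib]
      apply Finset.sum_congr rfl
      intro i _
      rw [ip_symm k X (ClSub.idealMod (C j))]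
      ring
    exact_mod_cast h2
  have h3 := Groth.Agent.Lib.Helper7.MMatrixLA.solution_nonneg
    (fun i j => ip k X (ClSub.idealMod (C i)) (ClSub.idealMod (C j))) hoff hneg
    (fun j => ((ip k X (ClSub.idealMod (C j)) (ClSub.idealMod F) : ℤ) : ℚ))
    (fun j => by exact_mod_cast hb j) (fun i => (((- s i : ℤ) : ℤ) : ℚ)) hx
  have hs0 : ∀ i, s i ≤ 0 := by
    intro i
    have h4 : (0 : ℤ) ≤ - s i := by exact_mod_cast h3 i
    linarith
  -- pair with `H`
  have hnef : ∀ Γ : X.IdealSheafData, IsIntegral Γ.subscheme →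
      topologicalKrullDim (Γ.support : Set X) = 1 →
        0 ≤ Curv2.euler k X (CohB1.tensorMod (ClSub.quotMod Γ) H) -
          Curv2.euler k X (ClSub.quotMod Γ) := fun Γ hΓi hΓ1 =>
    (deg_pos_of_ample k X hdim H hH Γ hΓ1 (hcart Γ hΓi hΓ1)).le
  have h5 : ip k X (ClSub.idealMod F) H ≤ 0 := ip_ideal_nonpos k X hdim F hF H hH.1 hnef
  have h6 : ip k X (ClSub.idealMod F) H = ∑ i, s i * ip k X (ClSub.idealMod (C i)) H :=
    hnum H hH.1
  have hterm : ∀ i ∈ (Finset.univ : Finset (Fin r)),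
      0 ≤ s i * ip k X (ClSub.idealMod (C i)) H :=
    fun i _ => mul_nonneg_of_nonpos_of_nonpos (hs0 i) (hdeg i).le
  have hsum0 : ∑ i, s i * ip k X (ClSub.idealMod (C i)) H = 0 :=
    le_antisymm (by rw [← h6]; exact h5) (Finset.sum_nonneg hterm)
  have hs : ∀ i, s i = 0 := by
    intro i
    have h7 := (Finset.sum_eq_zero_iff_of_nonneg hterm).mp hsum0 i (Finset.mem_univ i)
    rcases mul_eq_zero.mp h7 with h | h
    · exact h
    · exact absurd h (hdeg i).ne
  refine ⟨?_, hs⟩
  by_contra hF0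
  have h8 := ip_ideal_neg_of_ample k X hdim H hH F hF hF0
  rw [h6, hsum0] at h8
  exact lt_irrefl _ h8

end Groth.Agent.Lib.Helper7.NegDefNefC
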