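import Mathlib
import Groth.Agent.Lib.Helper7.ComplLim

/-!
# The surjection `Â[[x,y]]/(xy - α) → B̂` built from approximating sequences
-/

set_option autoImplicit false
universe u

open IsLocalRing MvPowerSeries

namespace Groth.Agent.Lib.Helper7.NodeLim

open Groth.Agent.Lib.Helper7.ComplLim

variable {A B : Type u} [CommRing A] [IsLocalRing A] [IsNoetherianRing A]
    [CommRing B] [IsLocalRing B] [IsNoetherianRing B] [Algebra A B] [IsLocalHom (algebraMap A B)]

theorem exists_node_hom' (us vs : ℕ → B) (ε : ℕ → A)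
    (hum : ∀ n, us n ∈ maximalIdeal B) (hvm : ∀ n, vs n ∈ maximalIdeal B)
    (hεm : ∀ n, ε n ∈ maximalIdeal A)
    (hus : ∀ n, us (n + 1) - us n ∈ (maximalIdeal A ^ (n + 1)).map (algebraMap A B))
    (hvs : ∀ n, vs (n + 1) - vs n ∈ (maximalIdeal A ^ (n + 1)).map (algebraMap A B))
    (hε : ∀ n, ε (n + 1) - ε n ∈ maximalIdeal A ^ (n + 1))
    (hprod : ∀ n, us n * vs n - algebraMap A B (ε n) ∈
      (maximalIdeal A ^ (n + 1)).map (algebraMap A B))
    (hres : Function.Surjective (IsLocalRing.ResidueField.map (algebraMap A B)))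
    (hgen : maximalIdeal B =
      Ideal.span {us 0, vs 0} ⊔ (maximalIdeal A).map (algebraMap A B)) :
    ∃ (α : AdicCompletion (maximalIdeal A) A)
      (_ : α ∈ (maximalIdeal A).map (algebraMap A (AdicCompletion (maximalIdeal A) A)))
      (ψ' : MvPowerSeries (Fin 2) (AdicCompletion (maximalIdeal A) A) →+*
        AdicCompletion (maximalIdeal B) B),
      (∀ r, ψ' (C r) = complMap (A := A) (B := B) r) ∧
      ψ' (X 0 * X 1 - C α) = 0 ∧ Function.Surjective ψ' ∧
        ψ' (X 0) - algebraMap B (AdicCompletion (maximalIdeal B) B) (us 0) ∈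
          (maximalIdeal A).map (algebraMap A (AdicCompletion (maximalIdeal B) B)) ∧
        ψ' (X 1) - algebraMap B (AdicCompletion (maximalIdeal B) B) (vs 0) ∈
          (maximalIdeal A).map (algebraMap A (AdicCompletion (maximalIdeal B) B)) := by
  classical
  haveI := isNoetherianRing_compl A
  haveI := isNoetherianRing_compl B
  have hcomp : (algebraMap B (AdicCompletion (maximalIdeal B) B)).comp (algebraMap A B) =
      algebraMap A (AdicCompletion (maximalIdeal B) B) := RingHom.ext fun a => rfl
  have hle1 : ∀ n, (maximalIdeal A ^ (n + 1)).map (algebraMap A B) ≤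
      (maximalIdeal A).map (algebraMap A B) := fun n =>
    Ideal.map_mono (Ideal.pow_le_self (Nat.succ_ne_zero n))
  have hleB : ∀ n, (maximalIdeal A ^ (n + 1)).map (algebraMap A B) ≤ maximalIdeal B ^ n :=
    fun n => (map_pow_le (A := A) (B := B) (n + 1)).trans (Ideal.pow_le_pow_right (Nat.le_succ n))
  -- the limits
  obtain ⟨U, hU, hUJ'⟩ := exists_limit ((maximalIdeal A).map (algebraMap A B)) us
    (fun n => hleB n (hus n)) (fun n => hle1 n (hus n))
  obtain ⟨V, hV, hVJ'⟩ := exists_limit ((maximalIdeal A).map (algebraMap A B)) vs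
    (fun n => hleB n (hvs n)) (fun n => hle1 n (hvs n))
  obtain ⟨α, hα, hαJ'⟩ := exists_limit (maximalIdeal A) ε
    (fun n => Ideal.pow_le_pow_right (Nat.le_succ n) (hε n))
    (fun n => Ideal.pow_le_self (Nat.succ_ne_zero n) (hε n))
  rw [Ideal.map_map, hcomp] at hUJ' hVJ'
  have hαJ : α ∈ (maximalIdeal A).map (algebraMap A (AdicCompletion (maximalIdeal A) A)) := by
    have h : α = (α - algebraMap A (AdicCompletion (maximalIdeal A) A) (ε 0)) +
        algebraMap A (AdicCompletion (maximalIdeal A) A) (ε 0) := by ring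
    rw [h]
    exact Ideal.add_mem _ hαJ' (Ideal.mem_map_of_mem _ (hεm 0))
  have hUm : U ∈ maximalIdeal (AdicCompletion (maximalIdeal B) B) := by
    have h := (mem_maximalIdeal_pow_iff U 1).mpr (by
      rw [hU 1, Ideal.Quotient.eq_zero_iff_mem, pow_one]; exact hum 1)
    rwa [pow_one] at h
  have hVm : V ∈ maximalIdeal (AdicCompletion (maximalIdeal B) B) := by
    have h := (mem_maximalIdeal_pow_iff V 1).mpr (by
      rw [hV 1, Ideal.Quotient.eq_zero_iff_mem, pow_one]; exact hvm 1)
    rwa [pow_one] at h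
  -- the coefficient map
  let w : AdicCompletion (maximalIdeal A) A →ₐ[A] AdicCompletion (maximalIdeal B) B :=
    complMap (A := A) (B := B)
  have hUV : U * V = w α := by
    apply AdicCompletion.ext_evalₐ
    intro n
    rw [map_mul, hU n, hV n, evalₐ_complMap n α (ε n) (hα n), ← map_mul, Ideal.Quotient.eq]
    exact hleB n (hprod n)
  -- the evaluation map
  let x : Fin 2 → AdicCompletion (maximalIdeal B) B := ![U, V]
  have hx : ∀ i, x i ∈ maximalIdeal (AdicCompletion (maximalIdeal B) B) :=
    Fin.forall_fin_two.mpr ⟨hUm, hVm⟩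
  obtain ⟨ψ', hC, hX⟩ := Groth.Agent.Lib.Helper7.CohenStruct7.exists_powser_hom
    (maximalIdeal (AdicCompletion (maximalIdeal B) B))
    (w : AdicCompletion (maximalIdeal A) A →+* AdicCompletion (maximalIdeal B) B) x hx
  have hX0 : ψ' (X 0) = U := hX 0
  have hX1 : ψ' (X 1) = V := hX 1
  have hkill : ψ' (X 0 * X 1 - C α) = 0 := by
    rw [map_sub, map_mul, hX0, hX1, hC]
    show U * V - w α = 0
    rw [hUV, sub_self]
  -- surjectivity
  haveI : IsAdicComplete (maximalIdeal (MvPowerSeries (Fin 2) (AdicCompletion (maximalIdeal A) A)))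
      (MvPowerSeries (Fin 2) (AdicCompletion (maximalIdeal A) A)) :=
    Groth.Agent.Lib.Helper7.PowSerCRing.isAdicComplete
  have h1 : ψ'.comp (C : AdicCompletion (maximalIdeal A) A →+*
      MvPowerSeries (Fin 2) (AdicCompletion (maximalIdeal A) A)) =
      (w : AdicCompletion (maximalIdeal A) A →+* AdicCompletion (maximalIdeal B) B) :=
    RingHom.ext hC
  have h2 : (ψ' ∘ (X : Fin 2 → MvPowerSeries (Fin 2) (AdicCompletion (maximalIdeal A) A))) = x :=
    funext hX
  have hmB : maximalIdeal (AdicCompletion (maximalIdeal B) B) =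
      Ideal.map (algebraMap B (AdicCompletion (maximalIdeal B) B))
        (Ideal.span {us 0, vs 0} ⊔ (maximalIdeal A).map (algebraMap A B)) :=
    AdicCompletion.maximalIdeal_eq_map.trans
      (congrArg (Ideal.map (algebraMap B (AdicCompletion (maximalIdeal B) B))) hgen)
  have hmap : (maximalIdeal (MvPowerSeries (Fin 2) (AdicCompletion (maximalIdeal A) A))).map ψ' =
      maximalIdeal (AdicCompletion (maximalIdeal B) B) := by
    rw [Groth.Agent.Lib.Helper7.PowSerCRing.maximalIdeal_eq_sup, Ideal.map_sup, Ideal.map_map,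
      Ideal.map_span, ← Set.range_comp, h1, h2, map_maximalIdeal_complMap, hmB, Ideal.map_sup,
      Ideal.map_map, Ideal.map_span, hcomp]
    apply le_antisymm
    · refine sup_le le_sup_right ?_
      rw [Ideal.span_le, Set.range_subset_iff]
      refine Fin.forall_fin_two.mpr ⟨?_, ?_⟩
      · have h : U = algebraMap B (AdicCompletion (maximalIdeal B) B) (us 0) +
            (U - algebraMap B (AdicCompletion (maximalIdeal B) B) (us 0)) := by ring
        show U ∈ _
        rw [h]
        exact Ideal.add_mem _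
          (Ideal.mem_sup_left (Ideal.subset_span ⟨us 0, Set.mem_insert _ _, rfl⟩))
          (Ideal.mem_sup_right hUJ')
      · have h : V = algebraMap B (AdicCompletion (maximalIdeal B) B) (vs 0) +
            (V - algebraMap B (AdicCompletion (maximalIdeal B) B) (vs 0)) := by ring
        show V ∈ _
        rw [h]
        exact Ideal.add_mem _
          (Ideal.mem_sup_left (Ideal.subset_span
            ⟨vs 0, Set.mem_insert_of_mem _ rfl, rfl⟩))
          (Ideal.mem_sup_right hVJ')
    · refine sup_le ?_ le_sup_left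
      rw [Ideal.span_le]
      rintro _ ⟨b, hb, rfl⟩
      rcases hb with rfl | hb
      · have h : algebraMap B (AdicCompletion (maximalIdeal B) B) (us 0) =
            U - (U - algebraMap B (AdicCompletion (maximalIdeal B) B) (us 0)) := by ring
        show algebraMap B (AdicCompletion (maximalIdeal B) B) (us 0) ∈ _
        rw [h]
        exact Ideal.sub_mem _ (Ideal.mem_sup_right (Ideal.subset_span ⟨0, rfl⟩))
          (Ideal.mem_sup_left hUJ')
      · have hb' : b = vs 0 := hb
        subst hb'
        have h : algebraMap B (AdicCompletion (maximalIdeal B) B) (vs 0) =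
            V - (V - algebraMap B (AdicCompletion (maximalIdeal B) B) (vs 0)) := by ring
        show algebraMap B (AdicCompletion (maximalIdeal B) B) (vs 0) ∈ _
        rw [h]
        exact Ideal.sub_mem _ (Ideal.mem_sup_right (Ideal.subset_span ⟨1, rfl⟩))
          (Ideal.mem_sup_left hVJ')
  have hres' : Function.Surjective
      ((residue (AdicCompletion (maximalIdeal B) B)).comp ψ') := by
    intro y
    obtain ⟨y1, hy1⟩ := (AdicCompletion.residueField_map_bijective B).2 y
    obtain ⟨y2, hy2⟩ := hres y1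
    obtain ⟨a, rfl⟩ := residue_surjective y2
    refine ⟨C (algebraMap A (AdicCompletion (maximalIdeal A) A) a), ?_⟩
    rw [RingHom.comp_apply, hC, ← hy1, ← hy2, ResidueField.map_residue, ResidueField.map_residue]
    congr 1
  have hsurj : Function.Surjective ψ' :=
    surjective_of_map_maximalIdeal_eq ψ' hmap hres'
  refine ⟨α, hαJ, ψ', hC, hkill, hsurj, ?_, ?_⟩
  · rw [hX0]
    exact hUJ'
  · rw [hX1]
    exact hVJ'

theorem exists_node_hom (us vs : ℕ → B) (ε : ℕ → A)
    (hum : ∀ n, us n ∈ maximalIdeal B) (hvm : ∀ n, vs n ∈ maximalIdeal B)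
    (hεm : ∀ n, ε n ∈ maximalIdeal A)
    (hus : ∀ n, us (n + 1) - us n ∈ (maximalIdeal A ^ (n + 1)).map (algebraMap A B))
    (hvs : ∀ n, vs (n + 1) - vs n ∈ (maximalIdeal A ^ (n + 1)).map (algebraMap A B))
    (hε : ∀ n, ε (n + 1) - ε n ∈ maximalIdeal A ^ (n + 1))
    (hprod : ∀ n, us n * vs n - algebraMap A B (ε n) ∈
      (maximalIdeal A ^ (n + 1)).map (algebraMap A B))
    (hres : Function.Surjective (IsLocalRing.ResidueField.map (algebraMap A B)))
    (hgen : maximalIdeal B =
      Ideal.span {us 0, vs 0} ⊔ (maximalIdeal A).map (algebraMap A B)) :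
    ∃ (α : AdicCompletion (maximalIdeal A) A)
      (_ : α ∈ (maximalIdeal A).map (algebraMap A (AdicCompletion (maximalIdeal A) A)))
      (ψ : (MvPowerSeries (Fin 2) (AdicCompletion (maximalIdeal A) A) ⧸ Ideal.span
          {(X 0 * X 1 - C α : MvPowerSeries (Fin 2) (AdicCompletion (maximalIdeal A) A))}) →ₐ[A]
        AdicCompletion (maximalIdeal B) B),
      Function.Surjective ψ ∧
        ψ (Ideal.Quotient.mk _ (X 0)) - algebraMap B (AdicCompletion (maximalIdeal B) B) (us 0) ∈
          (maximalIdeal A).map (algebraMap A (AdicCompletion (maximalIdeal B) B)) ∧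
        ψ (Ideal.Quotient.mk _ (X 1)) - algebraMap B (AdicCompletion (maximalIdeal B) B) (vs 0) ∈
          (maximalIdeal A).map (algebraMap A (AdicCompletion (maximalIdeal B) B)) := by
  classical
  obtain ⟨α, hαJ, ψ', hC, hkill, hsurj, hU, hV⟩ :=
    exists_node_hom' us vs ε hum hvm hεm hus hvs hε hprod hres hgen
  let ψa : MvPowerSeries (Fin 2) (AdicCompletion (maximalIdeal A) A) →ₐ[A]
      AdicCompletion (maximalIdeal B) B :=
    { ψ' with
      commutes' := fun a => by
        show ψ' (algebraMap A (MvPowerSeries (Fin 2) (AdicCompletion (maximalIdeal A) A)) a) = _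
        rw [MvPowerSeries.algebraMap_apply, hC]
        exact (complMap (A := A) (B := B)).commutes a }
  have hψa : ∀ p, ψa p = ψ' p := fun p => rfl
  have hker : ∀ p ∈ Ideal.span
      {(X 0 * X 1 - C α : MvPowerSeries (Fin 2) (AdicCompletion (maximalIdeal A) A))},
      ψa p = 0 := by
    intro p hp
    obtain ⟨b, rfl⟩ := Ideal.mem_span_singleton'.mp hp
    rw [hψa, map_mul, hkill, mul_zero]
  refine ⟨α, hαJ, Ideal.Quotient.liftₐ _ ψa hker, ?_, ?_, ?_⟩
  · intro y
    obtain ⟨p, rfl⟩ := hsurj y
    exact ⟨Ideal.Quotient.mk _ p, rfl⟩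
  · show ψ' (X 0) - _ ∈ _
    exact hU
  · show ψ' (X 1) - _ ∈ _
    exact hV

end Groth.Agent.Lib.Helper7.NodeLim
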