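import Mathlib
import Groth.Agent.Lib.Helper7.NodeLim
import Groth.Agent.Lib.Helper7.CohenAlg7
import Groth.Agent.Lib.Helper14.ComplQuot
import Groth.Agent.Lib.Helper15.ComplSurj

/-!
# Injectivity of `Â[[x,y]]/(xy - α) → B̂` under flatness and a nodal fibre

* `injective_of_surjective_ringEnd`: surjective ring endomorphisms of Noetherian rings are injective.
* `mem_of_map_mem`, `exists_node_iso`.
-/

set_option autoImplicit false
universe u

open IsLocalRing MvPowerSeries

namespace Groth.Agent.Lib.Helper7.NodeIso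

open Groth.Agent.Lib.Helper7.ComplLim Groth.Agent.Lib.Helper7.NodeLim

theorem injective_of_surjective_ringEnd {N : Type*} [CommRing N] [IsNoetherianRing N]
    (Φ : N →+* N) (hs : Function.Surjective Φ) : Function.Injective Φ := by
  let it : ℕ → (N →+* N) := fun n => Nat.rec (RingHom.id N) (fun _ g => Φ.comp g) n
  have itS : ∀ n x, it (n + 1) x = Φ (it n x) := fun n x => rfl
  have hsurj : ∀ n, Function.Surjective (it n) := by
    intro n
    induction n with
    | zero => intro x; exact ⟨x, rfl⟩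
    | succ n ih =>
      intro x
      obtain ⟨y, rfl⟩ := hs x
      obtain ⟨z, rfl⟩ := ih y
      exact ⟨z, rfl⟩
  let K : ℕ →o Ideal N := ⟨fun n => RingHom.ker (it n), by
    intro m n hmn x hx
    induction n, hmn using Nat.le_induction with
    | base => exact hx
    | succ n _ ih =>
      rw [RingHom.mem_ker] at ih ⊢
      rw [itS, ih, map_zero]⟩
  obtain ⟨n, hn⟩ := monotone_stabilizes_iff_noetherian.mpr (inferInstance : IsNoetherian N N) K
  rw [injective_iff_map_eq_zero]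
  intro x hx
  obtain ⟨y, rfl⟩ := hsurj n x
  have h1 : y ∈ K (n + 1) := by
    show y ∈ RingHom.ker (it (n + 1))
    rw [RingHom.mem_ker, itS, hx]
  rw [← hn (n + 1) (Nat.le_succ n)] at h1
  change y ∈ RingHom.ker (it n) at h1
  exact (RingHom.mem_ker).mp h1

section

variable {A B : Type u} [CommRing A] [IsLocalRing A] [IsNoetherianRing A]
    [CommRing B] [IsLocalRing B] [IsNoetherianRing B] [Algebra A B] [IsLocalHom (algebraMap A B)]

local notation "Ah" => AdicCompletion (maximalIdeal A) A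
local notation "Bh" => AdicCompletion (maximalIdeal B) B
local notation "PA" => MvPowerSeries (Fin 2) (AdicCompletion (maximalIdeal A) A)
local notation "kA" => IsLocalRing.ResidueField A
local notation "aB" =>
  Ideal.map (algebraMap A (AdicCompletion (maximalIdeal B) B)) (maximalIdeal A)
local notation "aP" =>
  Ideal.map (algebraMap A (MvPowerSeries (Fin 2) (AdicCompletion (maximalIdeal A) A)))
    (maximalIdeal A)
local notation "IP" =>
  (Ideal.span {(X 0 * X 1 : MvPowerSeries (Fin 2) (AdicCompletion (maximalIdeal A) A))} ⊔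
    Ideal.map (algebraMap A (MvPowerSeries (Fin 2) (AdicCompletion (maximalIdeal A) A)))
      (maximalIdeal A))

theorem aB_le : aB ≤ maximalIdeal Bh := by
  have h : (algebraMap B Bh).comp (algebraMap A B) = algebraMap A Bh := RingHom.ext fun a => rfl
  rw [← h, ← Ideal.map_map, AdicCompletion.maximalIdeal_eq_map]
  exact Ideal.map_mono map_le

theorem mem_of_map_mem (ψ' : PA →+* Bh)
    (hcomm : ∀ a : A, ψ' (algebraMap A PA a) = algebraMap A Bh a)
    (hsurj : Function.Surjective ψ') (hXY : ψ' (X 0 * X 1) ∈ aB)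
    (e₀ : (Bh ⧸ aB) ≃+*
      (MvPowerSeries (Fin 2) kA ⧸ Ideal.span {(X 0 * X 1 : MvPowerSeries (Fin 2) kA)}))
    (p : PA) (hp : ψ' p ∈ aB) : p ∈ IP := by
  classical
  haveI := isNoetherianRing_compl A
  haveI := isNoetherianRing_compl B
  have hcommR : ψ'.comp (algebraMap A PA) = algebraMap A Bh := RingHom.ext hcomm
  have haBle : aB ≤ maximalIdeal Bh := aB_le
  have hIPle : IP ≤ (aB).comap ψ' := by
    refine sup_le ?_ ?_
    · rw [Ideal.span_le, Set.singleton_subset_iff]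
      exact hXY
    · rw [← Ideal.map_le_iff_le_comap, Ideal.map_map, hcommR]
  have hIPtop : IP ≠ ⊤ := by
    intro h
    have h1 : (1 : PA) ∈ IP := by rw [h]; trivial
    have h2 := hIPle h1
    rw [Ideal.mem_comap, map_one] at h2
    exact (Ideal.ne_top_iff_one _).mp (maximalIdeal.isMaximal Bh).ne_top (haBle h2)
  haveI : Nontrivial (PA ⧸ IP) := Ideal.Quotient.nontrivial_iff.mpr hIPtop
  haveI hPc : IsAdicComplete (maximalIdeal PA) PA :=
    Groth.Agent.Lib.Helper7.PowSerCRing.isAdicComplete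
  haveI hTc : IsAdicComplete (maximalIdeal (PA ⧸ IP)) (PA ⧸ IP) := by
    have h := Groth.Agent.Lib.Helper15.CS.isAdicComplete_quotient (maximalIdeal PA) IP
    rwa [Groth.Agent.Lib.Helper14.ComplQuot.map_maximalIdeal_quotient PA IP] at h
  -- θ
  let θ : (PA ⧸ IP) →+* (Bh ⧸ aB) := Ideal.Quotient.lift IP ((Ideal.Quotient.mk aB).comp ψ')
    (fun q hq => by
      rw [RingHom.comp_apply, Ideal.Quotient.eq_zero_iff_mem]
      exact hIPle hq)
  have hθ : ∀ q : PA, θ (Ideal.Quotient.mk IP q) = Ideal.Quotient.mk aB (ψ' q) := fun q => rfl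
  -- v
  have hkillA : ∀ a ∈ maximalIdeal A, algebraMap A (PA ⧸ IP) a = 0 := by
    intro a ha
    rw [IsScalarTower.algebraMap_apply A PA (PA ⧸ IP), Ideal.Quotient.algebraMap_eq,
      Ideal.Quotient.eq_zero_iff_mem]
    exact Ideal.mem_sup_right (Ideal.mem_map_of_mem _ ha)
  let v : kA →+* (PA ⧸ IP) :=
    Ideal.Quotient.lift (maximalIdeal A) (algebraMap A (PA ⧸ IP)) hkillA
  have hv : ∀ a : A, v (residue A a) = algebraMap A (PA ⧸ IP) a :=
    fun a => Ideal.Quotient.lift_mk _ _ _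
  let xT : Fin 2 → (PA ⧸ IP) := fun i => Ideal.Quotient.mk IP (X i)
  have hmkm : ∀ q ∈ maximalIdeal PA, Ideal.Quotient.mk IP q ∈ maximalIdeal (PA ⧸ IP) := by
    intro q hq
    rw [← Groth.Agent.Lib.Helper14.ComplQuot.map_maximalIdeal_quotient PA IP]
    exact Ideal.mem_map_of_mem _ hq
  have hxT : ∀ i, xT i ∈ maximalIdeal (PA ⧸ IP) :=
    fun i => hmkm _ (Groth.Agent.Lib.Helper7.PowSerCRing.X_mem i)
  obtain ⟨γ', hCγ, hXγ⟩ := Groth.Agent.Lib.Helper7.CohenStruct7.exists_powser_hom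
    (maximalIdeal (PA ⧸ IP)) v xT hxT
  haveI : IsAdicComplete (maximalIdeal (MvPowerSeries (Fin 2) kA)) (MvPowerSeries (Fin 2) kA) :=
    Groth.Agent.Lib.Helper7.PowSerCRing.isAdicComplete
  have hk : maximalIdeal kA = ⊥ := IsLocalRing.maximalIdeal_eq_bot
  have h4 : (maximalIdeal A).map (algebraMap A (PA ⧸ IP)) = ⊥ := by
    rw [Ideal.map_eq_bot_iff_le_ker]
    intro a ha
    exact hkillA a ha
  have hL : (maximalIdeal (MvPowerSeries (Fin 2) kA)).map γ' = Ideal.span (Set.range xT) := by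
    have h1 : γ'.comp (C : kA →+* MvPowerSeries (Fin 2) kA) = v := RingHom.ext hCγ
    have h2 : (γ' ∘ (X : Fin 2 → MvPowerSeries (Fin 2) kA)) = xT := funext hXγ
    rw [Groth.Agent.Lib.Helper7.PowSerCRing.maximalIdeal_eq_sup, Ideal.map_sup, Ideal.map_map,
      Ideal.map_span, ← Set.range_comp, h1, h2, hk, Ideal.map_bot, bot_sup_eq]
  have hR : maximalIdeal (PA ⧸ IP) = Ideal.span (Set.range xT) := by
    have h3 : ((Ideal.Quotient.mk IP).comp (C : Ah →+* PA)).comp (algebraMap A Ah) =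
        algebraMap A (PA ⧸ IP) := by
      refine RingHom.ext fun a => ?_
      rw [IsScalarTower.algebraMap_apply A PA (PA ⧸ IP), MvPowerSeries.algebraMap_apply]
      rfl
    rw [← Groth.Agent.Lib.Helper14.ComplQuot.map_maximalIdeal_quotient PA IP,
      Groth.Agent.Lib.Helper7.PowSerCRing.maximalIdeal_eq_sup, Ideal.map_sup, Ideal.map_map,
      Ideal.map_span, ← Set.range_comp, AdicCompletion.maximalIdeal_eq_map, Ideal.map_map]
    show Ideal.map (((Ideal.Quotient.mk IP).comp (C : Ah →+* PA)).comp (algebraMap A Ah))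
      (maximalIdeal A) ⊔ Ideal.span (Set.range xT) = _
    rw [h3, h4, bot_sup_eq]
  have hmapγ : (maximalIdeal (MvPowerSeries (Fin 2) kA)).map γ' = maximalIdeal (PA ⧸ IP) :=
    hL.trans hR.symm
  have hresγ : Function.Surjective ((residue (PA ⧸ IP)).comp γ') := by
    intro y
    obtain ⟨t, rfl⟩ := residue_surjective y
    obtain ⟨q, rfl⟩ := Ideal.Quotient.mk_surjective t
    obtain ⟨a, ha⟩ :=
      Groth.Agent.Lib.Helper14.ComplQuot.exists_sub_mem_maximalIdeal A (constantCoeff q)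
    refine ⟨C (residue A a), ?_⟩
    rw [RingHom.comp_apply, hCγ, hv, ← sub_eq_zero, ← map_sub, residue_eq_zero_iff,
      IsScalarTower.algebraMap_apply A PA (PA ⧸ IP), Ideal.Quotient.algebraMap_eq, ← map_sub]
    apply hmkm
    rw [Groth.Agent.Lib.Helper7.PowSerCRing.mem_maximalIdeal_iff, map_sub,
      MvPowerSeries.algebraMap_apply, constantCoeff_C, ← neg_sub]
    exact neg_mem ha
  have hγsurj : Function.Surjective γ' := surjective_of_map_maximalIdeal_eq γ' hmapγ hresγ
  have hγkill : γ' (X 0 * X 1) = 0 := by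
    rw [map_mul, hXγ, hXγ]
    show Ideal.Quotient.mk IP (X 0) * Ideal.Quotient.mk IP (X 1) = 0
    rw [← map_mul, Ideal.Quotient.eq_zero_iff_mem]
    exact Ideal.mem_sup_left (Ideal.subset_span (Set.mem_singleton _))
  let γ : (MvPowerSeries (Fin 2) kA ⧸ Ideal.span {(X 0 * X 1 : MvPowerSeries (Fin 2) kA)}) →+*
      (PA ⧸ IP) := Ideal.Quotient.lift _ γ' (fun n hn => by
    obtain ⟨b, rfl⟩ := Ideal.mem_span_singleton'.mp hn
    rw [map_mul, hγkill, mul_zero])
  have hγ : ∀ n, γ (Ideal.Quotient.mk _ n) = γ' n := fun n => rfl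
  let Φ : (MvPowerSeries (Fin 2) kA ⧸ Ideal.span {(X 0 * X 1 : MvPowerSeries (Fin 2) kA)}) →+*
      (MvPowerSeries (Fin 2) kA ⧸ Ideal.span {(X 0 * X 1 : MvPowerSeries (Fin 2) kA)}) :=
    (e₀ : _ →+* _).comp (θ.comp γ)
  have hΦs : Function.Surjective Φ := by
    intro z
    obtain ⟨bb, rfl⟩ := e₀.surjective z
    obtain ⟨b, rfl⟩ := Ideal.Quotient.mk_surjective bb
    obtain ⟨q, rfl⟩ := hsurj b
    obtain ⟨n, hn⟩ := hγsurj (Ideal.Quotient.mk IP q)
    refine ⟨Ideal.Quotient.mk _ n, ?_⟩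
    show e₀ (θ (γ (Ideal.Quotient.mk _ n))) = _
    rw [hγ, hn, hθ]
  have hΦi := injective_of_surjective_ringEnd Φ hΦs
  obtain ⟨n, hn⟩ := hγsurj (Ideal.Quotient.mk IP p)
  have h0 : Φ (Ideal.Quotient.mk _ n) = 0 := by
    show e₀ (θ (γ (Ideal.Quotient.mk _ n))) = 0
    rw [hγ, hn, hθ, Ideal.Quotient.eq_zero_iff_mem.mpr hp, map_zero]
  have h1 : Ideal.Quotient.mk (Ideal.span {(X 0 * X 1 : MvPowerSeries (Fin 2) kA)}) n = 0 :=
    hΦi (by rw [h0, map_zero])
  have h2 : Ideal.Quotient.mk IP p = 0 := by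
    rw [← hn, ← hγ, h1, map_zero]
  exact Ideal.Quotient.eq_zero_iff_mem.mp h2

theorem exists_node_iso [Module.Flat A B] (us vs : ℕ → B) (ε : ℕ → A)
    (hum : ∀ n, us n ∈ maximalIdeal B) (hvm : ∀ n, vs n ∈ maximalIdeal B)
    (hεm : ∀ n, ε n ∈ maximalIdeal A)
    (hus : ∀ n, us (n + 1) - us n ∈ (maximalIdeal A ^ (n + 1)).map (algebraMap A B))
    (hvs : ∀ n, vs (n + 1) - vs n ∈ (maximalIdeal A ^ (n + 1)).map (algebraMap A B))
    (hε : ∀ n, ε (n + 1) - ε n ∈ maximalIdeal A ^ (n + 1))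
    (hprod : ∀ n, us n * vs n - algebraMap A B (ε n) ∈
      (maximalIdeal A ^ (n + 1)).map (algebraMap A B))
    (hres : Function.Surjective (IsLocalRing.ResidueField.map (algebraMap A B)))
    (hgen : maximalIdeal B =
      Ideal.span {us 0, vs 0} ⊔ (maximalIdeal A).map (algebraMap A B))
    (e₀ : (Bh ⧸ aB) ≃+*
      (MvPowerSeries (Fin 2) kA ⧸ Ideal.span {(X 0 * X 1 : MvPowerSeries (Fin 2) kA)})) :
    ∃ (α : AdicCompletion (maximalIdeal A) A)
      (_ : α ∈ (maximalIdeal A).map (algebraMap A (AdicCompletion (maximalIdeal A) A)))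
      (ψ : (MvPowerSeries (Fin 2) (AdicCompletion (maximalIdeal A) A) ⧸ Ideal.span
          {(X 0 * X 1 - C α : MvPowerSeries (Fin 2) (AdicCompletion (maximalIdeal A) A))}) ≃ₐ[A]
        AdicCompletion (maximalIdeal B) B),
        ψ (Ideal.Quotient.mk _ (X 0)) - algebraMap B (AdicCompletion (maximalIdeal B) B) (us 0) ∈
          (maximalIdeal A).map (algebraMap A (AdicCompletion (maximalIdeal B) B)) ∧
        ψ (Ideal.Quotient.mk _ (X 1)) - algebraMap B (AdicCompletion (maximalIdeal B) B) (vs 0) ∈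
          (maximalIdeal A).map (algebraMap A (AdicCompletion (maximalIdeal B) B)) := by
  classical
  haveI := isNoetherianRing_compl A
  haveI := isNoetherianRing_compl B
  obtain ⟨α, hαJ, ψ', hC, hkill, hsurj, hU, hV⟩ :=
    exists_node_hom' us vs ε hum hvm hεm hus hvs hε hprod hres hgen
  have hcomm : ∀ a : A, ψ' (algebraMap A PA a) = algebraMap A Bh a := by
    intro a
    rw [MvPowerSeries.algebraMap_apply, hC]
    exact (complMap (A := A) (B := B)).commutes a
  let ψa : PA →ₐ[A] Bh := { ψ' with commutes' := hcomm }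
  have hψa : ∀ p, ψa p = ψ' p := fun p => rfl
  have hker : ∀ p ∈ Ideal.span {(X 0 * X 1 - C α : PA)}, ψa p = 0 := by
    intro p hp
    obtain ⟨b, rfl⟩ := Ideal.mem_span_singleton'.mp hp
    rw [hψa, map_mul, hkill, mul_zero]
  let ψ : (PA ⧸ Ideal.span {(X 0 * X 1 - C α : PA)}) →ₐ[A] Bh := Ideal.Quotient.liftₐ _ ψa hker
  have hψ : ∀ p : PA, ψ (Ideal.Quotient.mk _ p) = ψ' p := fun p => rfl
  have hψsurj : Function.Surjective ψ := by
    intro y
    obtain ⟨p, rfl⟩ := hsurj y
    exact ⟨Ideal.Quotient.mk _ p, rfl⟩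
  -- flatness of the completion
  haveI : IsScalarTower A B Bh := IsScalarTower.of_algebraMap_eq (fun a => rfl)
  haveI : Module.Flat A Bh := Module.Flat.trans A B Bh
  -- `C α ∈ 𝔞 P`
  have hCalg : (C : Ah →+* PA).comp (algebraMap A Ah) = algebraMap A PA :=
    RingHom.ext fun a => (MvPowerSeries.algebraMap_apply).symm
  have hCα : (C α : PA) ∈ aP := by
    have h := Ideal.mem_map_of_mem (C : Ah →+* PA) hαJ
    rwa [Ideal.map_map, hCalg] at h
  have hcommR : ψ'.comp (algebraMap A PA) = algebraMap A Bh := RingHom.ext hcomm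
  have hXY : ψ' (X 0 * X 1) ∈ aB := by
    have h : (X 0 * X 1 : PA) = (X 0 * X 1 - C α) + C α := by ring
    rw [h, map_add, hkill, zero_add]
    have h1 := Ideal.mem_map_of_mem ψ' hCα
    rwa [Ideal.map_map, hcommR] at h1
  have hQalg : (Ideal.Quotient.mk (Ideal.span {(X 0 * X 1 - C α : PA)})).comp
      (algebraMap A PA) =
      algebraMap A (PA ⧸ Ideal.span {(X 0 * X 1 - C α : PA)}) := rfl
  have hmod : ∀ q : PA ⧸ Ideal.span {(X 0 * X 1 - C α : PA)}, ψ q ∈ aB →
      q ∈ (maximalIdeal A).map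
        (algebraMap A (PA ⧸ Ideal.span {(X 0 * X 1 - C α : PA)})) := by
    intro q hq
    obtain ⟨p, rfl⟩ := Ideal.Quotient.mk_surjective q
    rw [hψ] at hq
    have hpIP := mem_of_map_mem ψ' hcomm hsurj hXY e₀ p hq
    have haPle : aP ≤ ((maximalIdeal A).map
        (algebraMap A (PA ⧸ Ideal.span {(X 0 * X 1 - C α : PA)}))).comap
        (Ideal.Quotient.mk (Ideal.span {(X 0 * X 1 - C α : PA)})) := by
      rw [← Ideal.map_le_iff_le_comap, Ideal.map_map, hQalg]
    have hle : IP ≤ ((maximalIdeal A).map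
        (algebraMap A (PA ⧸ Ideal.span {(X 0 * X 1 - C α : PA)}))).comap
        (Ideal.Quotient.mk (Ideal.span {(X 0 * X 1 - C α : PA)})) := by
      refine sup_le ?_ haPle
      rw [Ideal.span_le, Set.singleton_subset_iff]
      rw [SetLike.mem_coe, Ideal.mem_comap]
      have h : Ideal.Quotient.mk (Ideal.span {(X 0 * X 1 - C α : PA)}) (X 0 * X 1) =
          Ideal.Quotient.mk _ (C α) :=
        Ideal.Quotient.eq.mpr (Ideal.subset_span (Set.mem_singleton _))
      rw [h]
      exact haPle hCα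
    exact hle hpIP
  haveI : Nontrivial (PA ⧸ Ideal.span {(X 0 * X 1 - C α : PA)}) :=
    RingHom.domain_nontrivial (ψ : (PA ⧸ Ideal.span {(X 0 * X 1 - C α : PA)}) →+* Bh)
  have hjac : (maximalIdeal A).map
      (algebraMap A (PA ⧸ Ideal.span {(X 0 * X 1 - C α : PA)})) ≤ Ideal.jacobson ⊥ := by
    rw [IsLocalRing.jacobson_eq_maximalIdeal ⊥ bot_ne_top, Ideal.map_le_iff_le_comap]
    intro a ha
    rw [Ideal.mem_comap, mem_maximalIdeal, mem_nonunits_iff]
    intro hu
    have h1 : IsUnit (ψ (algebraMap A _ a)) := hu.map ψ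
    rw [ψ.commutes] at h1
    have h2 : algebraMap A Bh a ∈ maximalIdeal Bh := aB_le (Ideal.mem_map_of_mem _ ha)
    exact (mem_nonunits_iff.mp ((mem_maximalIdeal _).mp h2)) h1
  have hinj : Function.Injective ψ :=
    Groth.Agent.Lib.Helper7.CohenAlg7.injective_of_flat (maximalIdeal A)
      (Ideal.fg_of_isNoetherianRing _) hjac ψ hψsurj hmod
  refine ⟨α, hαJ, AlgEquiv.ofBijective ψ ⟨hinj, hψsurj⟩, ?_, ?_⟩
  · show ψ' (X 0) - _ ∈ _
    exact hU
  · show ψ' (X 1) - _ ∈ _
    exact hV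

end

end Groth.Agent.Lib.Helper7.NodeIso
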