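import Mathlib
import Groth.Prelude.Def_ega3
import Groth.Agent.Lib.Helper7.MatRes
import Groth.Agent.Lib.Helper7.TorPd
set_option autoImplicit false
universe u
open CategoryTheory

namespace Groth.Agent.Lib.Helper7

lemma ker_diag_eq_range_diag {A : Type u} [CommRing A] (s t : A)
    (hs : ∀ a, s * a = 0 → ∃ a', a = t * a') (ht : ∀ a, t * a = 0 → ∃ a', a = s * a')
    (hst : s * t = 0) :
    LinearMap.ker (Matrix.mulVecLin (Matrix.diagonal ![s, t])) =
      LinearMap.range (Matrix.mulVecLin (Matrix.diagonal ![t, s])) := by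
  ext w
  rw [LinearMap.mem_ker, LinearMap.mem_range]
  constructor
  · intro h
    have h0 : s * w 0 = 0 := by
      have := congrFun h 0
      simpa [Matrix.mulVec_diagonal] using this
    have h1 : t * w 1 = 0 := by
      have := congrFun h 1
      simpa [Matrix.mulVec_diagonal] using this
    obtain ⟨a', ha'⟩ := hs _ h0
    obtain ⟨b', hb'⟩ := ht _ h1
    refine ⟨![a', b'], ?_⟩
    funext i
    fin_cases i
    · simpa [Matrix.mulVec_diagonal] using ha'.symm
    · simpa [Matrix.mulVec_diagonal] using hb'.symm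
  · rintro ⟨z, rfl⟩
    funext i
    fin_cases i
    · simp [Matrix.mulVec_diagonal, ← mul_assoc, hst]
    · simp [Matrix.mulVec_diagonal, ← mul_assoc, mul_comm t s, hst]

section node
variable (k : Type u) [Field k]

abbrev NodeRing : Type u :=
  MvPolynomial (Fin 2) k ⧸ Ideal.span {(MvPolynomial.X 0 * MvPolynomial.X 1 : MvPolynomial (Fin 2) k)}

noncomputable abbrev nodeX : NodeRing k := Ideal.Quotient.mk _ (MvPolynomial.X 0)
noncomputable abbrev nodeY : NodeRing k := Ideal.Quotient.mk _ (MvPolynomial.X 1)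
noncomputable abbrev nodeJ : Ideal (NodeRing k) := Ideal.span {nodeX k, nodeY k}

lemma node_xy : nodeX k * nodeY k = 0 := by
  show Ideal.Quotient.mk _ (MvPolynomial.X 0) * Ideal.Quotient.mk _ (MvPolynomial.X 1) = 0
  rw [← map_mul]
  exact Ideal.Quotient.eq_zero_iff_mem.mpr (Ideal.mem_span_singleton_self _)

lemma node_yx : nodeY k * nodeX k = 0 := by rw [mul_comm, node_xy]

lemma node_F1 (a b : NodeRing k) (h : a * nodeX k + b * nodeY k = 0) :
    ∃ a' b', a = nodeY k * a' ∧ b = nodeX k * b' := by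
  obtain ⟨p, rfl⟩ := Ideal.Quotient.mk_surjective a
  obtain ⟨q, rfl⟩ := Ideal.Quotient.mk_surjective b
  have h1 : p * MvPolynomial.X 0 + q * MvPolynomial.X 1 ∈
      Ideal.span {(MvPolynomial.X 0 * MvPolynomial.X 1 : MvPolynomial (Fin 2) k)} := by
    apply Ideal.Quotient.eq_zero_iff_mem.mp
    rw [map_add, map_mul, map_mul]
    exact h
  obtain ⟨c, hc⟩ := Ideal.mem_span_singleton'.mp h1
  have h2 : (MvPolynomial.X 0 : MvPolynomial (Fin 2) k) ∣ q * MvPolynomial.X 1 :=
    ⟨c * MvPolynomial.X 1 - p, by linear_combination (-1 : MvPolynomial (Fin 2) k) * hc⟩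
  have h3 : (MvPolynomial.X 0 : MvPolynomial (Fin 2) k) ∣ q := by
    rcases MvPolynomial.X_dvd_mul_iff.mp h2 with h | h
    · exact h
    · exact absurd (MvPolynomial.X_dvd_X.mp h) (by decide)
  obtain ⟨q', rfl⟩ := h3
  have h4 : p = (c - q') * MvPolynomial.X 1 := by
    have hX : (MvPolynomial.X 0 : MvPolynomial (Fin 2) k) ≠ 0 := MvPolynomial.X_ne_zero 0
    apply mul_right_cancel₀ hX
    linear_combination (-1 : MvPolynomial (Fin 2) k) * hc
  refine ⟨Ideal.Quotient.mk _ (c - q'), Ideal.Quotient.mk _ q', ?_, ?_⟩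
  · show Ideal.Quotient.mk _ p = Ideal.Quotient.mk _ (MvPolynomial.X 1) * Ideal.Quotient.mk _ (c - q')
    rw [h4, ← map_mul, mul_comm (c - q') (MvPolynomial.X 1)]
  · show Ideal.Quotient.mk _ (MvPolynomial.X 0 * q') =
      Ideal.Quotient.mk _ (MvPolynomial.X 0) * Ideal.Quotient.mk _ q'
    rw [← map_mul]

lemma node_annY (a : NodeRing k) (h : nodeY k * a = 0) : ∃ a', a = nodeX k * a' := by
  obtain ⟨_, b', _, hb⟩ := node_F1 k 0 a (by rw [zero_mul, zero_add, mul_comm]; exact h)
  exact ⟨b', hb⟩

lemma node_annX (a : NodeRing k) (h : nodeX k * a = 0) : ∃ a', a = nodeY k * a' := by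
  obtain ⟨a', _, ha, _⟩ := node_F1 k a 0 (by rw [zero_mul, add_zero, mul_comm]; exact h)
  exact ⟨a', ha⟩

def nodeRk : ℕ → ℕ
  | 0 => 1
  | _ + 1 => 2

noncomputable def nodeU (i : ℕ) : NodeRing k := if i % 2 = 0 then nodeY k else nodeX k
noncomputable def nodeV (i : ℕ) : NodeRing k := if i % 2 = 0 then nodeX k else nodeY k

noncomputable def nodeD : (i : ℕ) → Matrix (Fin (nodeRk i)) (Fin (nodeRk (i + 1))) (NodeRing k)
  | 0 => !![nodeX k, nodeY k]
  | i + 1 => Matrix.diagonal ![nodeU k i, nodeV k i]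

noncomputable def nodeAug : (Fin 1 → NodeRing k) →ₗ[NodeRing k] (NodeRing k ⧸ nodeJ k) :=
  (Submodule.mkQ (nodeJ k)) ∘ₗ (LinearMap.proj (0 : Fin 1))

lemma node_row_apply (z : Fin 2 → NodeRing k) :
    Matrix.mulVecLin (!![nodeX k, nodeY k] : Matrix (Fin 1) (Fin 2) (NodeRing k)) z =
      fun _ => nodeX k * z 0 + nodeY k * z 1 := by
  funext i
  fin_cases i
  simp [Matrix.mulVec, dotProduct, Fin.sum_univ_two]

lemma node_exact_zero : LinearMap.ker (nodeAug k) =
    LinearMap.range (Matrix.mulVecLin (!![nodeX k, nodeY k] : Matrix (Fin 1) (Fin 2) (NodeRing k))) := by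
  ext w
  rw [LinearMap.mem_ker, LinearMap.mem_range]
  have hw : nodeAug k w = Submodule.Quotient.mk (w 0) := rfl
  rw [hw, Submodule.Quotient.mk_eq_zero]
  constructor
  · intro h
    obtain ⟨a, b, hab⟩ := Ideal.mem_span_pair.mp h
    refine ⟨![a, b], ?_⟩
    rw [node_row_apply]
    funext i
    fin_cases i
    show nodeX k * a + nodeY k * b = w 0
    rw [← hab]
    ring
  · rintro ⟨z, rfl⟩
    rw [node_row_apply]
    exact Ideal.mem_span_pair.mpr ⟨z 0, z 1, by ring⟩

lemma node_exact_one : LinearMap.ker (Matrix.mulVecLin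
      (!![nodeX k, nodeY k] : Matrix (Fin 1) (Fin 2) (NodeRing k))) =
    LinearMap.range (Matrix.mulVecLin (Matrix.diagonal ![nodeY k, nodeX k])) := by
  ext z
  rw [LinearMap.mem_ker, LinearMap.mem_range, node_row_apply]
  constructor
  · intro h
    have h0 : z 0 * nodeX k + z 1 * nodeY k = 0 := by
      have := congrFun h 0
      simp only [Pi.zero_apply] at this
      rw [← this]
      ring
    obtain ⟨a', b', ha, hb⟩ := node_F1 k _ _ h0
    refine ⟨![a', b'], ?_⟩
    funext i
    fin_cases i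
    · simpa [Matrix.mulVec_diagonal] using ha.symm
    · simpa [Matrix.mulVec_diagonal] using hb.symm
  · rintro ⟨v, rfl⟩
    funext i
    have e0 : (Matrix.mulVecLin (Matrix.diagonal ![nodeY k, nodeX k]) v) 0 = nodeY k * v 0 := by
      simp [Matrix.mulVec_diagonal]
    have e1 : (Matrix.mulVecLin (Matrix.diagonal ![nodeY k, nodeX k]) v) 1 = nodeX k * v 1 := by
      simp [Matrix.mulVec_diagonal]
    show nodeX k * _ + nodeY k * _ = 0
    rw [e0, e1, ← mul_assoc, ← mul_assoc, node_xy, node_yx, zero_mul, zero_mul, add_zero]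

lemma nodeU_succ (i : ℕ) : nodeU k (i + 1) = nodeV k i := by
  unfold nodeU nodeV
  rcases Nat.mod_two_eq_zero_or_one i with h | h
  · rw [if_neg (by omega), if_pos h]
  · rw [if_pos (by omega), if_neg (by omega)]

lemma nodeV_succ (i : ℕ) : nodeV k (i + 1) = nodeU k i := by
  unfold nodeU nodeV
  rcases Nat.mod_two_eq_zero_or_one i with h | h
  · rw [if_neg (by omega), if_pos h]
  · rw [if_pos (by omega), if_neg (by omega)]

lemma node_exact_succ (i : ℕ) :
    LinearMap.ker (Matrix.mulVecLin (Matrix.diagonal ![nodeU k i, nodeV k i])) =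
    LinearMap.range (Matrix.mulVecLin (Matrix.diagonal ![nodeU k (i + 1), nodeV k (i + 1)])) := by
  rw [nodeU_succ, nodeV_succ]
  unfold nodeU nodeV
  rcases Nat.mod_two_eq_zero_or_one i with h | h
  · rw [if_pos h, if_pos h]
    exact ker_diag_eq_range_diag _ _ (node_annY k) (node_annX k) (node_yx k)
  · rw [if_neg (by omega), if_neg (by omega)]
    exact ker_diag_eq_range_diag _ _ (node_annX k) (node_annY k) (node_xy k)

/-- the periodic free resolution of the residue field of the node. -/
noncomputable def nodeRes : MatRes (NodeRing k) (NodeRing k ⧸ nodeJ k) where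
  rk := nodeRk
  d := nodeD k
  aug := nodeAug k
  aug_surjective := by
    intro y
    obtain ⟨a, rfl⟩ := Submodule.Quotient.mk_surjective _ y
    exact ⟨fun _ => a, rfl⟩
  exact_zero := node_exact_zero k
  exact_succ := by
    intro i
    cases i with
    | zero => exact node_exact_one k
    | succ i => exact node_exact_succ k i

lemma nodeX_mem : nodeX k ∈ nodeJ k := Ideal.subset_span (Set.mem_insert _ _)
lemma nodeY_mem : nodeY k ∈ nodeJ k :=
  Ideal.subset_span (Set.mem_insert_of_mem _ (Set.mem_singleton _))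

lemma node_row_mem (a : Fin 1) (b : Fin 2) :
    (!![nodeX k, nodeY k] : Matrix (Fin 1) (Fin 2) (NodeRing k)) a b ∈ nodeJ k := by
  fin_cases a
  fin_cases b
  · exact nodeX_mem k
  · exact nodeY_mem k

lemma node_diag_mem (s t : NodeRing k) (hs : s ∈ nodeJ k) (ht : t ∈ nodeJ k) (a b : Fin 2) :
    (Matrix.diagonal ![s, t]) a b ∈ nodeJ k := by
  rw [Matrix.diagonal_apply]
  split_ifs with hab
  · fin_cases a
    · exact hs
    · exact ht
  · exact Ideal.zero_mem _

lemma nodeU_mem (i : ℕ) : nodeU k i ∈ nodeJ k := by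
  unfold nodeU
  split_ifs
  · exact nodeY_mem k
  · exact nodeX_mem k

lemma nodeV_mem (i : ℕ) : nodeV k i ∈ nodeJ k := by
  unfold nodeV
  split_ifs
  · exact nodeX_mem k
  · exact nodeY_mem k

lemma nodeRes_min (i : ℕ) (a : Fin ((nodeRes k).rk i)) (b : Fin ((nodeRes k).rk (i + 1))) :
    (nodeRes k).d i a b ∈ nodeJ k := by
  cases i with
  | zero => exact node_row_mem k a b
  | succ i => exact node_diag_mem k _ _ (nodeU_mem k i) (nodeV_mem k i) a b

/-- the origin of the node is a maximal ideal. -/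
lemma nodeJ_isMaximal : (nodeJ k).IsMaximal := by
  have hI : ∀ a ∈ Ideal.span {(MvPolynomial.X 0 * MvPolynomial.X 1 : MvPolynomial (Fin 2) k)},
      MvPolynomial.constantCoeff a = 0 := by
    intro a ha
    obtain ⟨c, rfl⟩ := Ideal.mem_span_singleton'.mp ha
    rw [map_mul, map_mul, MvPolynomial.constantCoeff_X, zero_mul, mul_zero]
  let ψ : NodeRing k →+* k := Ideal.Quotient.lift _ MvPolynomial.constantCoeff hI
  have hψ : ∀ p, ψ (Ideal.Quotient.mk _ p) = MvPolynomial.constantCoeff p := fun p => rfl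
  have hker : RingHom.ker ψ = nodeJ k := by
    apply le_antisymm
    · intro a ha
      rw [RingHom.mem_ker] at ha
      obtain ⟨p, rfl⟩ := Ideal.Quotient.mk_surjective a
      rw [hψ] at ha
      have key : ∀ q : MvPolynomial (Fin 2) k,
          Ideal.Quotient.mk _ q - Ideal.Quotient.mk _ (MvPolynomial.C (MvPolynomial.constantCoeff q)) ∈
            nodeJ k := by
        intro q
        induction q using MvPolynomial.induction_on with
        | C a =>
          rw [MvPolynomial.constantCoeff_C, sub_self]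
          exact Ideal.zero_mem _
        | add p q hp hq =>
          have h2 : Ideal.Quotient.mk (Ideal.span {(MvPolynomial.X 0 * MvPolynomial.X 1 :
                MvPolynomial (Fin 2) k)}) (p + q) -
              Ideal.Quotient.mk _ (MvPolynomial.C (MvPolynomial.constantCoeff (p + q))) =
              (Ideal.Quotient.mk _ p - Ideal.Quotient.mk _ (MvPolynomial.C (MvPolynomial.constantCoeff p))) +
              (Ideal.Quotient.mk _ q - Ideal.Quotient.mk _ (MvPolynomial.C (MvPolynomial.constantCoeff q))) := by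
            simp only [map_add]
            ring
          rw [h2]
          exact Ideal.add_mem _ hp hq
        | mul_X p i _ =>
          have h1 : MvPolynomial.constantCoeff (p * MvPolynomial.X i) = 0 := by
            rw [map_mul, MvPolynomial.constantCoeff_X, mul_zero]
          rw [h1, map_zero, map_zero, sub_zero, map_mul]
          apply Ideal.mul_mem_left
          fin_cases i
          · exact nodeX_mem k
          · exact nodeY_mem k
      have h3 := key p
      rwa [ha, map_zero, map_zero, sub_zero] at h3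
    · show nodeJ k ≤ RingHom.ker ψ
      rw [Ideal.span_le]
      intro a ha
      rcases ha with rfl | rfl
      · rw [SetLike.mem_coe, RingHom.mem_ker, hψ, MvPolynomial.constantCoeff_X]
      · rw [SetLike.mem_coe, RingHom.mem_ker, hψ, MvPolynomial.constantCoeff_X]
  rw [← hker]
  exact RingHom.ker_isMaximal_of_surjective ψ
    (fun a => ⟨Ideal.Quotient.mk _ (MvPolynomial.C a), by rw [hψ, MvPolynomial.constantCoeff_C]⟩)

/-- S16243. -/
theorem node_tor_length :
    (∀ i : ℕ, 1 ≤ i → Module.length (NodeRing k)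
      (((Tor (ModuleCat.{u} (NodeRing k)) i).obj (ModuleCat.of (NodeRing k) (NodeRing k ⧸ nodeJ k))).obj
        (ModuleCat.of (NodeRing k) (NodeRing k ⧸ nodeJ k))) = 2) ∧
    ∀ n : ℕ, ¬ HasProjectiveDimensionLT (ModuleCat.of (NodeRing k) (NodeRing k ⧸ nodeJ k)) n := by
  haveI := nodeJ_isMaximal k
  have hlen : ∀ i : ℕ, Module.length (NodeRing k)
      (((Tor (ModuleCat.{u} (NodeRing k)) i).obj (ModuleCat.of (NodeRing k) (NodeRing k ⧸ nodeJ k))).obj
        (ModuleCat.of (NodeRing k) (NodeRing k ⧸ nodeJ k))) = (nodeRk i : ℕ∞) := fun i =>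
    (nodeRes k).length_tor (nodeJ k) (nodeRes_min k) i
  constructor
  · intro i hi
    obtain ⟨j, rfl⟩ : ∃ j, i = j + 1 := ⟨i - 1, by omega⟩
    rw [hlen]
    rfl
  · intro n hn
    have h1 : HasProjectiveDimensionLT (ModuleCat.of (NodeRing k) (NodeRing k ⧸ nodeJ k)) (n + 1) :=
      hasProjectiveDimensionLT_of_ge _ n (n + 1) (by omega)
    have hz := Tor_isZero_of_hasProjectiveDimensionLT
      (ModuleCat.of (NodeRing k) (NodeRing k ⧸ nodeJ k)) n
      (ModuleCat.of (NodeRing k) (NodeRing k ⧸ nodeJ k)) h1 (n + 1) (Nat.lt_succ_self n)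
    haveI := ModuleCat.subsingleton_of_isZero hz
    have h2 := hlen (n + 1)
    rw [Module.length_eq_zero] at h2
    have h3 : ((2 : ℕ) : ℕ∞) = 0 := h2.symm
    exact absurd h3 (by norm_num)

end node

end Groth.Agent.Lib.Helper7
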