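import Mathlib
import Groth.Prelude
import Groth.Agent.Lib.Helper7.DegRestr
import Groth.Agent.Lib.Helper7.CurveCartier
import Groth.Agent.Lib.Helper7.IntNumDiv
import Groth.Agent.Lib.Helper7.TwFun

/-!
# Helper library (helper7): the self-intersection of a curve on a smooth surface is the degree of
its normal sheaf (S19625)

* `tensorBiIso` : `M ⊗ - ≅ - ⊗ M` as functors;
* `sheafHomObjIso` : for `M ⊗ M' ≅ O`, the sheaf Hom `Hom(M, O) ≅ M'`;
* `main19625`.
-/

set_option autoImplicit false
set_option linter.unusedSectionVars false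
set_option linter.style.haveILetI false
universe u
open CategoryTheory CategoryTheory.Limits AlgebraicGeometry Opposite TopologicalSpace
open Scheme.Modules

namespace Groth.Agent.Lib.Helper7.NormalDeg

open Groth.Agent.Lib.Helper3 Groth.Agent.Lib.Helper3.InvMonoidal Groth.Agent.Lib.Helper3.InvTensor
open Groth.Agent.Lib.Helper3.InvGen
open Groth.Agent.Lib.Helper23 Groth.Agent.Lib.Helper23.Snap Groth.Agent.Lib.Helper23.HilbP
open Groth.Agent.Lib.Helper7.SnapAlt Groth.Agent.Lib.Helper7.SnapFGA
open Groth.Agent.Lib.Helper7.IntNumPos Groth.Agent.Lib.Helper7.IntNumDiv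
open Groth.Agent.Lib.Helper7.SecDeg Groth.Agent.Lib.Helper7.HilbCoeff
open Groth.Agent.Lib.Helper7.SecDegB Groth.Agent.Lib.Helper7.TwFun
open Groth.Agent.Lib.Helper7.SecDegC Groth.Agent.Lib.Helper17
open Groth.Agent.Lib.Helper7.NefCoh Groth.Agent.Lib.Helper7.DegRestr

section Hom

variable {X : Scheme.{u}}

/-- `M ⊗ - ≅ - ⊗ M`. -/
noncomputable def tensorBiIso (M : X.Modules) : DCoh.tensorBi.obj M ≅ twR M :=
  NatIso.ofComponents (fun F => braid M F) (by
    intro F F' φ
    change (DCoh.tensorBi.obj M).map φ ≫ (braid M F').hom = (braid M F).hom ≫ (twR M).map φ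
    rw [tensorBi_obj_map, twR_map]
    apply tensor_hom_ext
    intro U m n
    change (braid M F').hom.app U ((tensorMap (𝟙 M) φ).app U (tm M F U m n)) =
      (tensorMap φ (𝟙 M)).app U ((braid M F).hom.app U (tm M F U m n))
    rw [tensorMap_tm, braid_hom_tm, braid_hom_tm, tensorMap_tm])

/-- for `M ⊗ M' ≅ O`, the sheaf Hom `Hom(M, O)` is `M'`. -/
noncomputable def sheafHomObjIso (M M' : X.Modules)
    (e : CohB1.tensorMod M M' ≅ Coh.structureModule X) [DCoh.HasSheafHom M] :
    (DCoh.sheafHom M).obj (Coh.structureModule X) ≅ M' :=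
  let adj₁ : DCoh.tensorBi.obj M ⊣ twR M' :=
    ((twEquiv M M' e).toAdjunction).ofNatIsoLeft (tensorBiIso M).symm
  ((DCoh.sheafHomAdj M).rightAdjointUniq adj₁).app (Coh.structureModule X) ≪≫ unitorL M'

end Hom

variable (k : Type u) [Field k] (X : Scheme.{u}) [X.Over (Spec (CommRingCat.of k))]
  [IsProper (X ↘ Spec (CommRingCat.of k))]

/-- **S19625**: the self-intersection of an integral curve on a smooth surface is the degree of
its normal sheaf. -/
theorem main19625 [IsIntegral X] [Smooth (X ↘ Spec (CommRingCat.of k))]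
    (hdim : topologicalKrullDim X = 2) {C : Scheme.{u}} (i : C ⟶ X)
    [IsClosedImmersion i] [IsIntegral C] (hC : topologicalKrullDim C = 1)
    [DCoh.HasSheafHom (Omega.conormal i)] :
    letI : C.Over (Spec (CommRingCat.of k)) := ⟨i ≫ (X ↘ (Spec (CommRingCat.of k)))⟩
    FGA.intNum k X 2 ![ClSub.idealMod i.ker, ClSub.idealMod i.ker] (Coh.structureModule X) =
      Curv2.deg k C ((DCoh.sheafHom (Omega.conormal i)).obj (Coh.structureModule C)) 1 := by
  letI : C.Over (Spec (CommRingCat.of k)) := ⟨i ≫ (X ↘ (Spec (CommRingCat.of k)))⟩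
  have hov : C ↘ Spec (CommRingCat.of k) = i ≫ (X ↘ Spec (CommRingCat.of k)) := rfl
  haveI : IsProper (C ↘ Spec (CommRingCat.of k)) := by
    show IsProper (i ≫ (X ↘ Spec (CommRingCat.of k)))
    infer_instance
  have hd : topologicalKrullDim X ≤ ((2 : ℕ) : WithBot ℕ∞) := by
    rw [hdim]
    norm_cast
  have hd1 : topologicalKrullDim C ≤ ((1 : ℕ) : WithBot ℕ∞) := by
    rw [hC]
    norm_cast
  -- the curve is an effective Cartier divisor
  have hEi : IsIntegral i.ker.subscheme := by
    haveI : Nonempty i.ker.subscheme := ⟨i.toImage (Classical.arbitrary _)⟩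
    exact isIntegral_of_isOpenImmersion (inv i.toImage)
  have hE1 : topologicalKrullDim (i.ker.support : Set X) = 1 := by
    rw [← hC]
    have hemb : Topology.IsEmbedding i := i.isClosedEmbedding.isEmbedding
    have h1 := hemb.toHomeomorph.isHomeomorph.topologicalKrullDim_eq
    rw [h1]
    have h2 : (i.ker.support : Set X) = Set.range i := by
      rw [Scheme.Hom.support_ker i]
      exact i.isClosedEmbedding.isClosed_range.closure_eq
    rw [h2]
  have hEc := Groth.Agent.Lib.Helper7.CurveCartier.isEffCartierIdeal_of_smooth k hdim i.ker hEi hE1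
  have hI : PicF.IsInvertible (ClSub.idealMod i.ker) :=
    (EffCartMod.isInvertible_idealMod_iff _).mpr hEc
  have hM : PicF.IsInvertible (Omega.conormal i) := PbBasic.isInvertible_pullback i hI
  obtain ⟨eMM'⟩ := Groth.Agent.Lib.Helper23.Inverse.tensor_dual_iso hM
  have hM' : PicF.IsInvertible (Groth.Agent.Lib.Helper23.Inverse.dual (Omega.conormal i)) :=
    isInvertible_of_inverse hM ⟨eMM'⟩
  have h := euler_add_euler_inv k C hd1 _ _ hM hM' eMM'
  show FGA.intNum k X 2 ![ClSub.idealMod i.ker, ClSub.idealMod i.ker] (Coh.structureModule X) =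
      Curv2.deg k C ((DCoh.sheafHom (Omega.conormal i)).obj (Coh.structureModule C)) 1
  rw [vec2_eq, intNum_cons_ideal' k X 2 hd (fun _ : Fin 1 => ClSub.idealMod i.ker)
      (fun _ => hI) i.ker,
    intNum_one k X 2 hd, euler_quotMod_ker k X i hov,
    euler_quotMod_ker_tensor k X i hov (ClSub.idealMod i.ker)]
  unfold Curv2.deg
  rw [FBC.euler_eq_of_iso' k (sheafHomObjIso (Omega.conormal i) _ eMM')]
  have hcon : Omega.conormal i = (Scheme.Modules.pullback i).obj (ClSub.idealMod i.ker) := rfl
  rw [← hcon]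
  push_cast
  linarith

end Groth.Agent.Lib.Helper7.NormalDeg
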