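import Mathlib
import Groth.Prelude
import Groth.Agent.Lib.Helper7.InterInv
import Groth.Agent.Lib.Helper23.T2A
import Groth.Agent.Lib.Helper6.KappaDvd

/-!
# Helper library (helper7): pieces for the numerical type of a regular model: divisibility of the
intersection numbers and of `h¹` by the degree of the field of constants; the genus of the type.
-/

set_option autoImplicit false
set_option linter.unusedSectionVars false
set_option linter.unusedVariables false
set_option linter.style.haveILetI false
universe u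
open CategoryTheory CategoryTheory.Limits AlgebraicGeometry Opposite TopologicalSpace

namespace Groth.Agent.Lib.Helper7.NumType

open Groth.Agent.Lib.Helper7.InterInv

variable {R : Type u} [CommRing R] [IsDomain R] [IsDiscreteValuationRing R]
  {X : Over (Spec (CommRingCat.of R))}

theorem wdeg_pos (hproper : IsProper X.hom) (Γ : ArSurf.VertComp R X) :
    0 < Models.wdeg R X Γ := by
  haveI := isProper_curve hproper Γ
  exact Groth.Agent.Lib.Helper6.KappaDvd.finrank_H0_pos (IsLocalRing.ResidueField R) Γ.curve.left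

theorem wdeg_dvd_h1 (hproper : IsProper X.hom) (Γ : ArSurf.VertComp R X) :
    Models.wdeg R X Γ ∣ Models.h1 R X Γ := by
  haveI := isProper_curve hproper Γ
  exact Groth.Agent.Lib.Helper6.KappaDvd.finrank_H0_dvd_finrank_HH (IsLocalRing.ResidueField R) Γ.curve.left _ 1

theorem wdeg_dvd_eulerLE (hproper : IsProper X.hom) (Γ : ArSurf.VertComp R X)
    (F : Γ.curve.left.Modules) (d : ℕ) :
    (Models.wdeg R X Γ : ℤ) ∣ FGA.eulerCharLE (IsLocalRing.ResidueField R) Γ.curve.left F d := by
  haveI := isProper_curve hproper Γ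
  unfold FGA.eulerCharLE
  refine Finset.dvd_sum (fun i _ => Dvd.dvd.mul_left ?_ _)
  exact Int.natCast_dvd_natCast.mpr
    (Groth.Agent.Lib.Helper6.KappaDvd.finrank_H0_dvd_finrank_HH (IsLocalRing.ResidueField R) Γ.curve.left F i)

theorem wdeg_dvd_inter (hproper : IsProper X.hom) (Γ : ArSurf.VertComp R X)
    (L : X.left.Modules) : (Models.wdeg R X Γ : ℤ) ∣ ArSurf.inter R X L Γ := by
  unfold ArSurf.inter ArSurf.curveDeg
  exact dvd_sub (wdeg_dvd_eulerLE hproper Γ _ 1) (wdeg_dvd_eulerLE hproper Γ _ 1)

/-- the genus of a numerical type from the genus formula. -/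
theorem genus_eq {n : ℕ} (T : Models.NumericalType n) (gC : ℤ) (h1 : Fin n → ℤ)
    (hg : ∀ i, T.w i * T.g i = h1 i)
    (hform : 2 * gC = 2 + ∑ i, T.m i * (2 * (h1 i - T.w i) - T.a i i)) :
    T.genus = gC := by
  unfold Models.NumericalType.genus
  have e1 : ∑ i, T.m i * T.w i * (T.g i - 1) = ∑ i, T.m i * (h1 i - T.w i) :=
    Finset.sum_congr rfl (fun i _ => by rw [← hg i]; ring)
  have e2 : ∑ i, T.m i * (2 * (h1 i - T.w i) - T.a i i) =
      2 * ∑ i, T.m i * (h1 i - T.w i) - ∑ i, T.m i * T.a i i := by
    rw [Finset.mul_sum, ← Finset.sum_sub_distrib]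
    exact Finset.sum_congr rfl (fun i _ => by ring)
  rw [e2] at hform
  have e3 : ∑ i, T.m i * T.a i i = 2 * (1 + ∑ i, T.m i * (h1 i - T.w i) - gC) := by linarith
  rw [e1, e3, Int.mul_ediv_cancel_left _ (by norm_num : (2 : ℤ) ≠ 0)]
  ring

end Groth.Agent.Lib.Helper7.NumType
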