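import Mathlib
import Groth.Prelude
import Groth.Agent.Lib.Helper7.MTwB

/-!
# Helper library (helper7): `O_X(D)` and the conormal sheaf of `D = Σ (m_i/d) Γ_i` have order
dividing `d = gcd(m_i)` (S7326).
-/

set_option autoImplicit false
set_option linter.unusedSectionVars false
set_option linter.style.haveILetI false
universe u
open CategoryTheory CategoryTheory.Limits AlgebraicGeometry Opposite TopologicalSpace
open Scheme.Modules

namespace Groth.Agent.Lib.Helper7.OrdDiv

open Groth.Agent.Lib.Helper7.MTwA Groth.Agent.Lib.Helper7.MTwB Groth.Agent.Lib.Helper13.ClMon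
open Groth.Agent.Lib.Helper7.FibFacG Groth.Agent.Lib.Helper1.ModelMult

theorem isInvCl_pow {Y : Scheme.{u}} {a : PicF.Cl Y} (ha : PicF.IsInvertibleCl a) (k : ℕ) :
    PicF.IsInvertibleCl (a ^ k) := by
  induction k with
  | zero =>
    rw [pow_zero]
    exact isInvCl_one
  | succ k ih =>
    rw [pow_succ]
    exact isInvCl_mul ih ha

theorem pullCl_pow {X Y : Scheme.{u}} (g : X ⟶ Y) {a : PicF.Cl Y} (ha : PicF.IsInvertibleCl a)
    (k : ℕ) : PicF.pullCl g (a ^ k) = PicF.pullCl g a ^ k := by
  induction k with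
  | zero =>
    rw [pow_zero, pow_zero]
    exact pullCl_one g
  | succ k ih =>
    rw [pow_succ, pow_succ, pullCl_mul g (isInvCl_pow ha k) ha, ih]

variable (R : Type u) [CommRing R] [IsDomain R] [IsDiscreteValuationRing R]
  (X : Over (Spec (CommRingCat.of R)))

include R in
theorem main7326 (hproper : IsProper X.hom) [Flat X.hom]
    (hreg : ∀ x : X.left, IsRegularLocalRing (X.left.presheaf.stalk x))
    {n : ℕ} (Γ : Fin n → ArSurf.VertComp R X) (hΓ : Models.IsComponentList R X Γ)
    (L : X.left.Modules)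
    (hL : ClSub.IsInverseOf L (ClSub.idealMod
      (∏ i, (Γ i).ι.ker ^ (Models.mult R X (Γ i) / Models.multGcd R X Γ)))) :
    Nonempty (CohB1.tensorPow L (Models.multGcd R X Γ) ≅ Coh.structureModule X.left) ∧
      Nonempty (CohB1.tensorPow ((Scheme.Modules.pullback
          (∏ i, (Γ i).ι.ker ^ (Models.mult R X (Γ i) / Models.multGcd R X Γ)).subschemeι).obj
          (ClSub.idealMod (∏ i, (Γ i).ι.ker ^ (Models.mult R X (Γ i) / Models.multGcd R X Γ))))
          (Models.multGcd R X Γ) ≅
        Coh.structureModule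
          (∏ i, (Γ i).ι.ker ^ (Models.mult R X (Γ i) / Models.multGcd R X Γ)).subscheme) := by
  haveI := hproper
  haveI : IsLocallyNoetherian X.left := LocallyOfFiniteType.isLocallyNoetherian X.hom
  haveI : CompactSpace X.left := QuasiCompact.compactSpace_of_compactSpace X.hom
  haveI : IsNoetherian X.left := {}
  set d := Models.multGcd R X Γ with hd
  set J : X.left.IdealSheafData := ∏ i, (Γ i).ι.ker ^ (Models.mult R X (Γ i) / d) with hJdef
  have hInv := isInvertible_ker R X hproper hreg Γ hΓ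
  have hJ := cl_idealMod_prod Finset.univ (fun j => (Γ j).ι.ker)
    (fun j => Models.mult R X (Γ j) / d) hInv
  have hJd := cl_idealMod_pow J hJ.1 d
  obtain ⟨-, hprod⟩ := specialFibreIdeal_eq_prod R X hreg Γ hΓ
  obtain ⟨e⟩ := exists_iso_specialFibreIdeal R X
  rw [hprod] at e
  have hpow : J ^ d = ∏ i, (Γ i).ι.ker ^ Models.mult R X (Γ i) := by
    rw [hJdef, ← Finset.prod_pow]
    refine Finset.prod_congr rfl (fun i _ => ?_)
    rw [← pow_mul]
    congr 1
    exact Nat.div_mul_cancel (Finset.gcd_dvd (Finset.mem_univ i))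
  have ha : PicF.cl (ClSub.idealMod J) ^ d = 1 := by
    rw [← hJd.2, hpow]
    exact (cl_eq_one_iff _).2 ⟨e⟩
  have hca := cl_mul_eq_one_of_isInverseOf hL
  constructor
  · have h1 : PicF.cl (CohB1.tensorPow L d) = 1 := by
      rw [cl_tensorPow]
      calc PicF.cl L ^ d = PicF.cl L ^ d * PicF.cl (ClSub.idealMod J) ^ d := by
            rw [ha, mul_one]
        _ = (PicF.cl L * PicF.cl (ClSub.idealMod J)) ^ d := (mul_pow _ _ _).symm
        _ = 1 := by rw [hca, one_pow]
    obtain ⟨e'⟩ := (cl_eq_one_iff _).1 h1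
    exact ⟨e'.symm⟩
  · have h1 : PicF.cl (CohB1.tensorPow ((Scheme.Modules.pullback J.subschemeι).obj
        (ClSub.idealMod J)) d) = 1 := by
      rw [cl_tensorPow, ← pullCl_cl, ← pullCl_pow J.subschemeι (isInvCl_cl hJ.1), ha, pullCl_one]
    obtain ⟨e'⟩ := (cl_eq_one_iff _).1 h1
    exact ⟨e'.symm⟩

end Groth.Agent.Lib.Helper7.OrdDiv
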