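import Mathlib
import Groth.Prelude.Def_EGA41
set_option autoImplicit false
universe u
open TensorProduct
namespace Groth.Agent.Lib.Helper7

theorem kaehler_ideal_nil (p : ℕ) [Fact p.Prime] {A B : Type u}
    [CommRing A] [CommRing B] [Algebra A B] [CharP B p] (s : ℕ)
    (hpow : ∀ b : B, b ^ p ^ s ∈ Set.range (algebraMap A B)) :
    ∀ x ∈ KaehlerDifferential.ideal A B, IsNilpotent x := by
  intro x hx
  rcases subsingleton_or_nontrivial (TensorProduct A B B) with h | h
  · rw [Subsingleton.elim x 0]; exact IsNilpotent.zero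
  have hp0 : ((p : ℕ) : TensorProduct A B B) = 0 := by
    have : ((p : ℕ) : TensorProduct A B B) = algebraMap B (TensorProduct A B B) (p : B) :=
      (map_natCast (algebraMap B (TensorProduct A B B)) p).symm
    rw [this, CharP.cast_eq_zero, map_zero]
  have : CharP (TensorProduct A B B) p := (CharP.charP_iff_prime_eq_zero (Fact.out)).mpr hp0
  rw [← KaehlerDifferential.span_range_eq_ideal] at hx
  have hle : Ideal.span (Set.range fun s : B => (1 : B) ⊗ₜ[A] s - s ⊗ₜ[A] (1 : B)) ≤ nilradical (TensorProduct A B B) := by
    rw [Ideal.span_le]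
    rintro _ ⟨b, rfl⟩
    show IsNilpotent _
    refine ⟨p ^ s, ?_⟩
    obtain ⟨a, ha⟩ := hpow b
    rw [sub_pow_char_pow, Algebra.TensorProduct.tmul_pow, Algebra.TensorProduct.tmul_pow, one_pow, ← ha,
      Algebra.algebraMap_eq_smul_one, TensorProduct.tmul_smul, ← TensorProduct.smul_tmul', sub_self]
  exact hle hx

theorem D_eq_zero_of_mem_pPower (p : ℕ) [Fact p.Prime] {A B : Type u}
    [CommRing A] [CommRing B] [Algebra A B] [CharP B p] (x : B) (hx : x ∈ EGA41.pPowerSubalgebra p A B) :
    KaehlerDifferential.D A B x = 0 := by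
  unfold EGA41.pPowerSubalgebra at hx
  induction hx using Algebra.adjoin_induction with
  | mem x hx => 
    obtain ⟨b, rfl⟩ := hx
    simp only
    rw [Derivation.leibniz_pow]
    have : ((p : ℕ) : B) = 0 := CharP.cast_eq_zero B p
    rw [← Nat.cast_smul_eq_nsmul B, this, zero_smul]
  | algebraMap r => exact Derivation.map_algebraMap _ r
  | add x y _ _ hx hy => rw [map_add, hx, hy, add_zero]
  | mul x y _ _ hx hy => rw [Derivation.leibniz, hx, hy, smul_zero, smul_zero, add_zero]

theorem kaehler_map_bijective_of_le_pPower (p : ℕ) [Fact p.Prime] {A B : Type u}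
    [CommRing A] [CommRing B] [Algebra A B] [CharP B p] (A' : Subalgebra A B)
    (hA' : A' ≤ EGA41.pPowerSubalgebra p A B) :
    Function.Bijective (KaehlerDifferential.map A A' B B) := by
  refine ⟨?_, KaehlerDifferential.map_surjective A A' B⟩
  rw [← LinearMap.ker_eq_bot, (KaehlerDifferential.exact_mapBaseChange_map A A' B).linearMap_ker_eq,
    LinearMap.range_eq_bot]
  have h0 : ∀ ω : Ω[A'⁄A], KaehlerDifferential.map A A A' B ω = 0 := by
    intro ω
    have hω : ω ∈ Submodule.span A' (Set.range (KaehlerDifferential.D A A')) := by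
      rw [KaehlerDifferential.span_range_derivation]; trivial
    induction hω using Submodule.span_induction with
    | mem x hx =>
      obtain ⟨a, rfl⟩ := hx
      rw [KaehlerDifferential.map_D]
      exact D_eq_zero_of_mem_pPower p _ (hA' a.2)
    | zero => exact map_zero _
    | add x y _ _ hx hy => rw [map_add, hx, hy, add_zero]
    | smul a x _ hx => rw [map_smul, hx, smul_zero]
  refine LinearMap.ext fun t => ?_
  induction t using TensorProduct.induction_on with
  | zero => simp
  | tmul x y => rw [KaehlerDifferential.mapBaseChange_tmul, h0, smul_zero]; rfl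
  | add x y hx hy => rw [map_add, hx, hy]; simp

end Groth.Agent.Lib.Helper7
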