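import Mathlib

/-!
# Helper library (helper7): linear algebra and ring lemmas for the negative semi-definiteness of
the intersection form on the vertical divisors of an arithmetic surface (Mathlib only).
-/

set_option autoImplicit false
open Finset

namespace Groth.Agent.Lib.Helper7.SemiDefLB

/-- a symmetric integral matrix with non-negative off-diagonal entries and a positive vector with
non-positive row sums is negative semi-definite. -/
theorem quad_nonpos_of_le {ι : Type*} [Fintype ι] [DecidableEq ι] (M : ι → ι → ℤ) (n : ι → ℤ)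
    (hn : ∀ i, 0 < n i) (hsymm : ∀ i j, M i j = M j i)
    (hoff : ∀ i j, i ≠ j → 0 ≤ M i j) (hrow : ∀ i, ∑ j, n j * M i j ≤ 0)
    (a : ι → ℤ) : ∑ i, ∑ j, a i * a j * M i j ≤ 0 := by
  have hQ : (∑ i, ∑ j, (a i : ℚ) * (a j : ℚ) * (M i j : ℚ)) ≤ 0 := by
    set x : ι → ℚ := fun i => (a i : ℚ) / (n i : ℚ) with hx
    set c : ι → ι → ℚ := fun i j => (n i : ℚ) * (n j : ℚ) * (M i j : ℚ) with hc
    have hnpos : ∀ i, (0 : ℚ) < (n i : ℚ) := fun i => by exact_mod_cast hn i
    have hcs : ∀ i j, c i j = c j i := fun i j => by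
      simp only [hc]
      rw [hsymm i j]
      ring
    have hax : ∀ i, (a i : ℚ) = (n i : ℚ) * x i := fun i => by
      simp only [hx]
      have := (hnpos i).ne'
      field_simp
    have h1 : ∑ i, ∑ j, (a i : ℚ) * (a j : ℚ) * (M i j : ℚ) = ∑ i, ∑ j, c i j * x i * x j := by
      refine Finset.sum_congr rfl fun i _ => Finset.sum_congr rfl fun j _ => ?_
      rw [hax i, hax j]
      simp only [hc]
      ring
    have e1 : ∑ i, ∑ j, c i j * x j ^ 2 = ∑ i, ∑ j, c i j * x i ^ 2 := by
      rw [Finset.sum_comm]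
      refine Finset.sum_congr rfl fun i _ => Finset.sum_congr rfl fun j _ => ?_
      rw [hcs j i]
    have h2 : ∑ i, ∑ j, c i j * (x i - x j) ^ 2 =
        2 * ∑ i, ∑ j, c i j * x i ^ 2 - 2 * ∑ i, ∑ j, c i j * x i * x j := by
      have e2 : ∀ i j, c i j * (x i - x j) ^ 2 =
          c i j * x i ^ 2 - 2 * (c i j * x i * x j) + c i j * x j ^ 2 := fun i j => by ring
      simp only [e2, Finset.sum_add_distrib, Finset.sum_sub_distrib, ← Finset.mul_sum, e1]
      ring
    have h3 : 0 ≤ ∑ i, ∑ j, c i j * (x i - x j) ^ 2 := by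
      refine Finset.sum_nonneg fun i _ => Finset.sum_nonneg fun j _ => ?_
      by_cases hij : i = j
      · subst hij
        simp
      · have h5 : (0 : ℚ) ≤ (M i j : ℚ) := by exact_mod_cast hoff i j hij
        have h6 : (0 : ℚ) ≤ c i j := by
          simp only [hc]
          exact mul_nonneg (mul_nonneg (hnpos i).le (hnpos j).le) h5
        exact mul_nonneg h6 (sq_nonneg _)
    have h4 : ∑ i, ∑ j, c i j * x i ^ 2 ≤ 0 := by
      refine Finset.sum_nonpos fun i _ => ?_
      have h7 : ∑ j, c i j * x i ^ 2 = ((n i : ℚ) * x i ^ 2) * ∑ j, (n j : ℚ) * (M i j : ℚ) := by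
        rw [Finset.mul_sum]
        refine Finset.sum_congr rfl fun j _ => ?_
        simp only [hc]
        ring
      rw [h7]
      have h5 : (∑ j, (n j : ℚ) * (M i j : ℚ)) ≤ 0 := by exact_mod_cast hrow i
      have h6 : (0 : ℚ) ≤ (n i : ℚ) * x i ^ 2 := mul_nonneg (hnpos i).le (sq_nonneg _)
      exact mul_nonpos_of_nonneg_of_nonpos h6 h5
    rw [h1]
    linarith
  exact_mod_cast hQ

/-- partial factorization: splitting off the powers of finitely many prime elements. -/
theorem exists_partial_factorization {B : Type*} [CommRing B] [IsDomain B] [IsNoetherianRing B]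
    {ι : Type*} [DecidableEq ι] (s : Finset ι) (t : ι → B) (ht : ∀ j ∈ s, Prime (t j))
    (a : B) (ha : a ≠ 0) :
    ∃ (e : ι → ℕ) (b : B), a = b * ∏ j ∈ s, t j ^ e j ∧ ∀ j ∈ s, ¬ t j ∣ b := by
  induction s using Finset.induction_on with
  | empty => exact ⟨fun _ => 0, a, by simp, by simp⟩
  | insert k s hk ih =>
    obtain ⟨e, b, hab, hb⟩ := ih (fun j hj => ht j (Finset.mem_insert_of_mem hj))
    have hb0 : b ≠ 0 := by
      rintro rfl
      exact ha (by rw [hab, zero_mul])
    obtain ⟨n, b', hb', hbb'⟩ := WfDvdMonoid.max_power_factor hb0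
      (ht k (Finset.mem_insert_self k s)).irreducible
    refine ⟨Function.update e k n, b', ?_, ?_⟩
    · rw [Finset.prod_insert hk, Function.update_self, hab, hbb']
      have h1 : ∏ j ∈ s, t j ^ Function.update e k n j = ∏ j ∈ s, t j ^ e j :=
        Finset.prod_congr rfl fun j hj => by
          rw [Function.update_of_ne (ne_of_mem_of_not_mem hj hk)]
      rw [h1]
      ring
    · intro j hj
      rcases Finset.mem_insert.mp hj with rfl | hjs
      · exact hb'
      · intro hdvd
        exact hb j hjs (hdvd.trans ⟨t k ^ n, by rw [hbb', mul_comm]⟩)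

/-- summation along the fibres of a map. -/
theorem sum_fiber {α ι : Type*} [Fintype α] [Fintype ι] [DecidableEq ι] (ρ : α → ι) (a : α → ℤ)
    (f : ι → ℤ) :
    ∑ j, a j * f (ρ j) = ∑ t, (∑ j, if ρ j = t then a j else 0) * f t := by
  symm
  calc ∑ t, (∑ j, if ρ j = t then a j else 0) * f t
      = ∑ t, ∑ j, (if ρ j = t then a j * f t else 0) := by
        refine Finset.sum_congr rfl fun t _ => ?_
        rw [Finset.sum_mul]
        refine Finset.sum_congr rfl fun j _ => ?_
        split_ifs <;> simp
    _ = ∑ j, ∑ t, (if ρ j = t then a j * f t else 0) := Finset.sum_comm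
    _ = ∑ j, a j * f (ρ j) := by
        refine Finset.sum_congr rfl fun j _ => ?_
        rw [Finset.sum_ite_eq]
        simp

/-- a quadratic form pulled back along a map of index sets. -/
theorem sum_group {α ι : Type*} [Fintype α] [Fintype ι] [DecidableEq ι] (ρ : α → ι) (a : α → ℤ)
    (M' : ι → ι → ℤ) :
    ∑ p : α × α, a p.1 * a p.2 * M' (ρ p.1) (ρ p.2) =
      ∑ s, ∑ t, (∑ i, if ρ i = s then a i else 0) * (∑ j, if ρ j = t then a j else 0) *
        M' s t := by
  rw [Fintype.sum_prod_type]
  calc ∑ i, ∑ j, a i * a j * M' (ρ i) (ρ j)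
      = ∑ i, a i * (fun s => ∑ t, (∑ j, if ρ j = t then a j else 0) * M' s t) (ρ i) := by
        refine Finset.sum_congr rfl fun i _ => ?_
        dsimp only
        rw [← sum_fiber ρ a (M' (ρ i)), Finset.mul_sum]
        refine Finset.sum_congr rfl fun j _ => ?_
        ring
    _ = ∑ s, (∑ i, if ρ i = s then a i else 0) *
          ∑ t, (∑ j, if ρ j = t then a j else 0) * M' s t :=
        sum_fiber ρ a (fun s => ∑ t, (∑ j, if ρ j = t then a j else 0) * M' s t)
    _ = _ := by
        refine Finset.sum_congr rfl fun s _ => ?_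
        rw [Finset.mul_sum]
        refine Finset.sum_congr rfl fun t _ => ?_
        ring

end Groth.Agent.Lib.Helper7.SemiDefLB
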