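import Mathlib
import Groth.Prelude
import Groth.Agent.Lib.Helper7.FibFacC
import Groth.Agent.Lib.Helper7.SemiDefLB

/-!
# Helper library (helper7): partial local factorization of a uniformizer along an arbitrary finite
family of distinct vertical prime divisors (not necessarily covering the closed fibre).
-/

set_option autoImplicit false
set_option linter.unusedSectionVars false
set_option linter.style.haveILetI false
universe u
open CategoryTheory CategoryTheory.Limits AlgebraicGeometry Opposite TopologicalSpace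

namespace Groth.Agent.Lib.Helper7.PartFacB

open Groth.Agent.Lib.Helper7.FibFacA Groth.Agent.Lib.Helper7.FibFacB
open Groth.Agent.Lib.Helper7.IntLenD

theorem isUnit_germ_of_notMem {X : Scheme.{u}} (V : X.affineOpens) (ξ : X) (hξ : ξ ∈ V.1)
    (b : Γ(X, V.1)) (hb : b ∉ (V.2.primeIdealOf ⟨ξ, hξ⟩).asIdeal) :
    IsUnit ((X.presheaf.germ V.1 ξ hξ).hom b) := by
  letI : Algebra Γ(X, V.1) (X.presheaf.stalk ξ) :=
    TopCat.Presheaf.algebra_section_stalk X.presheaf ⟨ξ, hξ⟩
  haveI := V.2.isLocalization_stalk ⟨ξ, hξ⟩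
  exact IsLocalization.map_units (X.presheaf.stalk ξ)
    (⟨b, hb⟩ : (V.2.primeIdealOf ⟨ξ, hξ⟩).asIdeal.primeCompl)

variable {R : Type u} [CommRing R] [IsDomain R] [IsDiscreteValuationRing R]
  {X : Over (Spec (CommRingCat.of R))}

/-- a common affine neighbourhood on which all the given Cartier divisors are principal, and which
misses those not passing through the point. -/
theorem exists_nhd' {ι : Type*} [Fintype ι] (Γ : ι → ArSurf.VertComp R X)
    (hcart : ∀ j, BlowUp.IsEffCartierIdeal (Γ j).ι.ker) (x : X.left) :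
    ∃ (V : X.left.affineOpens) (t : ι → Γ(X.left, V.1)), x ∈ V.1 ∧
      (∀ j, (Γ j).ι.ker.ideal V = Ideal.span {t j}) ∧
      (∀ j, x ∉ Set.range (Γ j).ι.base → ∀ c, (Γ j).ι.base c ∉ V.1) := by
  classical
  have hgen : ∀ j, ∃ U : X.left.affineOpens, x ∈ U.1 ∧ ∃ f : Γ(X.left, U.1),
      (Γ j).ι.ker.ideal U = Ideal.span {f} := fun j => by
    obtain ⟨U, hxU, f, -, hf⟩ := hcart j x
    exact ⟨U, hxU, f, hf⟩
  choose U hxU f hf using hgen
  let A : ι → Set X.left := fun j =>
    if x ∈ Set.range (Γ j).ι.base then Set.univ else (Set.range (Γ j).ι.base)ᶜ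
  have hAo : ∀ j, IsOpen (A j) := fun j => by
    simp only [A]
    split_ifs
    · exact isOpen_univ
    · exact (Γ j).ι.isClosedEmbedding.isClosed_range.isOpen_compl
  have hxA : ∀ j, x ∈ A j := fun j => by
    simp only [A]
    split_ifs with h
    · trivial
    · exact h
  have hWo : IsOpen (⋂ j, (((U j).1 : Set X.left) ∩ A j)) :=
    isOpen_iInter_of_finite fun j => (U j).1.isOpen.inter (hAo j)
  have hxW : x ∈ (⟨_, hWo⟩ : X.left.Opens) := Set.mem_iInter.mpr fun j => ⟨hxU j, hxA j⟩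
  obtain ⟨V, hV, hxV, hVW⟩ := Opens.isBasis_iff_nbhd.mp X.left.isBasis_affineOpens hxW
  have hVW' : ∀ y ∈ V, ∀ j, y ∈ (U j).1 ∧ y ∈ A j := fun y hy j => Set.mem_iInter.mp (hVW hy) j
  have hVU : ∀ j, (⟨V, hV⟩ : X.left.affineOpens) ≤ U j := fun j =>
    show V ≤ (U j).1 from fun y hy => (hVW' y hy j).1
  have ht : ∀ j, (Γ j).ι.ker.ideal (⟨V, hV⟩ : X.left.affineOpens) =
      Ideal.span {(X.left.presheaf.map (homOfLE (hVU j)).op).hom (f j)} := fun j =>
    ideal_eq_span_res (Γ j).ι.ker (hVU j) (hf j)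
  have hlast : ∀ j, x ∉ Set.range (Γ j).ι.base → ∀ c, (Γ j).ι.base c ∉ V := by
    intro j hj c hc
    have h1 := (hVW' _ hc j).2
    simp only [A] at h1
    rw [if_neg hj] at h1
    exact h1 ⟨c, rfl⟩
  refine ⟨⟨V, hV⟩, fun j => (X.left.presheaf.map (homOfLE (hVU j)).op).hom (f j), ?_, ?_, ?_⟩
  · exact hxV
  · exact ht
  · intro j hj c hc
    exact hlast j hj c hc

/-- **partial local factorization of a uniformizer.** -/
theorem exists_local_factor' [IsIntegral X.left] [IsLocallyNoetherian X.left] [Flat X.hom]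
    {ι : Type*} [Fintype ι] (Γ : ι → ArSurf.VertComp R X)
    (hdist : ∀ i j, i ≠ j → Set.range (Γ i).ι.base ≠ Set.range (Γ j).ι.base)
    (hcart : ∀ j, BlowUp.IsEffCartierIdeal (Γ j).ι.ker)
    (ϖ : R) (hϖ : Irreducible ϖ) (x : X.left) :
    ∃ (V : X.left.affineOpens) (ε b : Γ(X.left, V.1)), x ∈ V.1 ∧
      (∏ j, (Γ j).ι.ker ^ Models.mult R X (Γ j)).ideal V = Ideal.span {ε} ∧
      unifOn X ϖ V.1 = b * ε ∧ ε ≠ 0 ∧
      ∀ j, x ∈ Set.range (Γ j).ι.base →
        0 < Models.mult R X (Γ j) ∧ b ∉ (Γ j).ι.ker.ideal V := by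
  classical
  obtain ⟨V, t, hxV, ht, hdisj⟩ := exists_nhd' Γ hcart x
  haveI : Nonempty (V.1 : X.left.Opens) := ⟨⟨x, hxV⟩⟩
  haveI : IsDomain Γ(X.left, V.1) := inferInstance
  haveI : IsNoetherianRing Γ(X.left, V.1) := IsLocallyNoetherian.component_noetherian V
  have hϖm : ϖ ∈ IsLocalRing.maximalIdeal R := by
    rw [hϖ.maximalIdeal_eq]
    exact Ideal.mem_span_singleton_self ϖ
  have hb : unifOn X ϖ V.1 ≠ 0 := by
    intro h0
    have h1 := Groth.Agent.Lib.Helper1.ModelComp.germ_toGlobal_ne_zero X.hom x ϖ hϖ.ne_zero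
    apply h1
    have h2 := TopCat.Presheaf.germ_res_apply X.left.presheaf (homOfLE (le_top : V.1 ≤ ⊤)) x hxV
      (Coh.toGlobal X.hom ϖ)
    rw [← h2]
    change (X.left.presheaf.germ V.1 x hxV).hom (unifOn X ϖ V.1) = 0
    rw [h0, map_zero]
  have hbI : ∀ j, unifOn X ϖ V.1 ∈ (Γ j).ι.ker.ideal V := fun j =>
    res_toGlobal_mem_ker (Γ j) ϖ hϖm V
  let s : Finset ι := Finset.univ.filter (fun j => x ∈ Set.range (Γ j).ι.base)
  have hs : ∀ j, j ∈ s ↔ x ∈ Set.range (Γ j).ι.base := fun j => by simp [s]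
  have htop : ∀ j, j ∉ s → (Γ j).ι.ker.ideal V = ⊤ := fun j hj =>
    ker_ideal_eq_top (Γ j).ι V (hdisj j (fun h => hj ((hs j).mpr h)))
  have hprimeI : ∀ j ∈ s, ((Γ j).ι.ker.ideal V).IsPrime := fun j hj => by
    obtain ⟨c, hc⟩ := (hs j).mp hj
    exact isPrime_ker_ideal (Γ j).ι V ⟨c, by rw [hc]; exact hxV⟩
  have ht0 : ∀ j, t j ≠ 0 := fun j h0 => by
    have h1 := hbI j
    rw [ht j, h0, Ideal.mem_span_singleton, zero_dvd_iff] at h1
    exact hb h1
  have hprime : ∀ j ∈ s, Prime (t j) := fun j hj => by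
    have h1 := hprimeI j hj
    rw [ht j] at h1
    exact (Ideal.span_singleton_prime (ht0 j)).mp h1
  obtain ⟨e, b, hfac, hndvd⟩ :=
    Groth.Agent.Lib.Helper7.SemiDefLB.exists_partial_factorization s t hprime (unifOn X ϖ V.1) hb
  have hbnot : ∀ j ∈ s, b ∉ (Γ j).ι.ker.ideal V := fun j hj hmem => by
    rw [ht j, Ideal.mem_span_singleton] at hmem
    exact hndvd j hj hmem
  have hmult : ∀ j ∈ s, Models.mult R X (Γ j) = e j ∧ 0 < e j := by
    intro j hj
    obtain ⟨c, hc⟩ := (hs j).mp hj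
    have hspec : (Γ j).ι.base (genericPoint (Γ j).curve.left) ⤳ x := by
      rw [← hc]
      exact (genericPoint_specializes c).map (Γ j).ι.continuous
    have hξV : (Γ j).ι.base (genericPoint (Γ j).curve.left) ∈ V.1 :=
      hspec.mem_open V.1.isOpen hxV
    have hmax := maximalIdeal_stalk_eq_span V _ hξV (t := t j)
      (by rw [primeIdealOf_generic (Γ j).ι V hξV, ht j])
    have hτ : (X.left.presheaf.germ V.1 _ hξV).hom (t j) ≠ 0 := fun h0 =>
      ht0 j (germ_injective_of_isIntegral X.left _ hξV (by rw [h0, map_zero]))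
    have hunit : ∀ i ∈ s, i ≠ j → IsUnit ((X.left.presheaf.germ V.1 _ hξV).hom (t i)) :=
      fun i _ hij => isUnit_germ_of_notMem_support _ V (ht i) _ hξV
        (generic_notMem_of_ne (Γ j) (Γ i) (hdist j i (Ne.symm hij)))
    have hbu : IsUnit ((X.left.presheaf.germ V.1 _ hξV).hom b) :=
      isUnit_germ_of_notMem V _ hξV b (by
        rw [primeIdealOf_generic (Γ j).ι V hξV]
        exact hbnot j hj)
    have hord := Groth.Agent.Lib.Helper7.FibRing.ord_eq_of_factorization s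
      (fun i => (X.left.presheaf.germ V.1 _ hξV).hom (t i)) e
      ((X.left.presheaf.germ V.1 _ hξV).hom b) hbu j hj hmax hτ hunit
    have hφb : (X.left.presheaf.germ V.1 _ hξV).hom (unifOn X ϖ V.1) =
        (X.left.presheaf.germ V.1 _ hξV).hom b *
          ∏ i ∈ s, (X.left.presheaf.germ V.1 _ hξV).hom (t i) ^ e i := by
      rw [hfac, map_mul, map_prod]
      simp only [map_pow]
    have hm := mult_eq_ord (Γ j) ϖ hϖ V.1 hξV
    rw [hφb, hord] at hm
    refine ⟨by simpa using hm, ?_⟩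
    by_contra h0
    have he0 : e j = 0 := by omega
    rw [he0, ← hφb, Ring.ord, Nat.cast_zero, Module.length_eq_zero_iff,
      Ideal.Quotient.subsingleton_iff, Ideal.span_singleton_eq_top] at hord
    have hmem : (X.left.presheaf.germ V.1 _ hξV).hom (unifOn X ϖ V.1) ∈
        IsLocalRing.maximalIdeal (X.left.presheaf.stalk _) := by
      rw [hmax]
      have h1 := hbI j
      rw [ht j, Ideal.mem_span_singleton] at h1
      obtain ⟨a, ha⟩ := h1
      rw [ha, map_mul]
      exact Ideal.mul_mem_right _ _ (Ideal.mem_span_singleton_self _)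
    exact (IsLocalRing.mem_maximalIdeal _).mp hmem hord
  refine ⟨V, ∏ j ∈ s, t j ^ e j, b, hxV, ?_, hfac, ?_, ?_⟩
  · rw [ideal_prod_pow]
    have h1 : ∏ j ∈ s, (Γ j).ι.ker.ideal V ^ Models.mult R X (Γ j) =
        ∏ j, (Γ j).ι.ker.ideal V ^ Models.mult R X (Γ j) :=
      Finset.prod_subset (Finset.subset_univ s) (fun j _ hj => by
        rw [htop j hj, ← Ideal.one_eq_top, one_pow])
    rw [← h1, ← Ideal.prod_span_singleton]
    exact Finset.prod_congr rfl (fun j hj => by
      rw [ht j, (hmult j hj).1, Ideal.span_singleton_pow])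
  · intro h0
    exact hb (by rw [hfac, h0, mul_zero])
  · intro j hj
    have hjs := (hs j).mpr hj
    exact ⟨by rw [(hmult j hjs).1]; exact (hmult j hjs).2, hbnot j hjs⟩

end Groth.Agent.Lib.Helper7.PartFacB
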