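import Mathlib
import Groth.Prelude
import Groth.Agent.Lib.Helper7.PartFacB
import Groth.Agent.Lib.Helper7.InterInv
import Groth.Agent.Lib.Helper1.GrSect
import Groth.Agent.Lib.Helper17.EffCartMod

/-!
# Helper library (helper7): for distinct vertical prime divisors `Γ_j` of a regular model with
multiplicities `m_j` in the closed fibre, `Σ_j m_j (Γ_j · Γ_i) ≤ 0` for every `i`.
-/

set_option autoImplicit false
set_option linter.unusedSectionVars false
set_option linter.style.haveILetI false
universe u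
open CategoryTheory CategoryTheory.Limits AlgebraicGeometry Opposite TopologicalSpace
open Scheme.Modules

namespace Groth.Agent.Lib.Helper7.PartFacC

open Groth.Agent.Lib.Helper3 Groth.Agent.Lib.Helper3.QCSec Groth.Agent.Lib.Helper3.InvGen
  Groth.Agent.Lib.Helper3.FreeBasis Groth.Agent.Lib.Helper3.SecLoc
  Groth.Agent.Lib.Helper3.IdealMod
open Groth.Agent.Lib.Helper17.EffCartMod
open Groth.Agent.Lib.Helper7.FibFacA Groth.Agent.Lib.Helper7.FibFacB
open Groth.Agent.Lib.Helper7.FibFacD Groth.Agent.Lib.Helper7.FibFacF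
open Groth.Agent.Lib.Helper7.PartFacB Groth.Agent.Lib.Helper7.InterInv

/-- a nonzerodivisor generating the ideal on an affine open is the value of a local generator of
the ideal module. -/
theorem exists_isGen_val {X : Scheme.{u}} (I : X.IdealSheafData) (U : X.affineOpens)
    (f : Γ(X, U.1)) (hf : f ∈ nonZeroDivisors Γ(X, U.1)) (hI : I.ideal U = Ideal.span {f}) :
    ∃ e : Γ(ClSub.idealMod I, U.1), val I e = f ∧ IsGen (ClSub.idealMod I) U.1 e := by
  obtain ⟨e, he⟩ := (mem_ideal_iff I U f).mp (by rw [hI]; exact Ideal.mem_span_singleton_self f)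
  refine ⟨e, he, isGen_of_isBasis (isBasis_of_isBasisAt (ClSub.idealMod I) U.2 ?_)⟩
  unfold IsBasisAt
  have hsum : ∀ a : Fin 1 → Γ(X, U.1), ∑ i, a i • e = a 0 • e := fun a => by simp
  constructor
  · intro a b hab
    have h1 : a 0 • e = b 0 • e := by rw [← hsum a, ← hsum b]; exact hab
    have h2 := congrArg (val I) h1
    rw [val_smul, val_smul, he] at h2
    have h3 : (a 0 - b 0) * f = 0 := by rw [sub_mul, h2, sub_self]
    have h4 := (mem_nonZeroDivisors_iff_right.mp hf) _ h3
    funext i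
    obtain rfl : i = 0 := Subsingleton.elim _ _
    exact sub_eq_zero.mp h4
  · intro s
    have hs : val I s ∈ I.ideal U := (mem_ideal_iff I U _).mpr ⟨s, rfl⟩
    rw [hI, Ideal.mem_span_singleton'] at hs
    obtain ⟨c, hc⟩ := hs
    refine ⟨fun _ => c, ?_⟩
    show ∑ i : Fin 1, c • e = s
    apply val_injective I U.1
    simp only [Finset.univ_unique, Finset.sum_singleton]
    rw [val_smul, he, hc]

variable {R : Type u} [CommRing R] [IsDomain R] [IsDiscreteValuationRing R]
  {X : Over (Spec (CommRingCat.of R))}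

section

variable (hproper : IsProper X.hom) [IsIntegral X.left] [Flat X.hom]
  {ι : Type*} [Fintype ι] (Γ : ι → ArSurf.VertComp R X)
  (hdist : ∀ i j, i ≠ j → Set.range (Γ i).ι.base ≠ Set.range (Γ j).ι.base)
  (hcart : ∀ j, BlowUp.IsEffCartierIdeal (Γ j).ι.ker)

include hproper hdist hcart in
theorem mult_pos' (j : ι) : 0 < Models.mult R X (Γ j) := by
  haveI := hproper
  haveI : IsLocallyNoetherian X.left := LocallyOfFiniteType.isLocallyNoetherian X.hom
  obtain ⟨ϖ, hϖ⟩ := IsDiscreteValuationRing.exists_irreducible R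
  obtain ⟨V, ε, b, hxV, -, -, -, h⟩ := exists_local_factor' Γ hdist hcart ϖ hϖ
    ((Γ j).ι.base (genericPoint (Γ j).curve.left))
  exact (h j ⟨_, rfl⟩).1

include hproper hdist hcart in
/-- **the row sums of the intersection matrix against the multiplicity vector are
non-positive.** -/
theorem row_sum_nonpos (L : ι → X.left.Modules)
    (hL : ∀ j, ClSub.IsInverseOf (L j) (ClSub.idealMod (Γ j).ι.ker)) (i : ι) :
    ∑ j, (Models.mult R X (Γ j) : ℤ) * ArSurf.inter R X (L j) (Γ i) ≤ 0 := by
  classical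
  haveI := hproper
  haveI : IsLocallyNoetherian X.left := LocallyOfFiniteType.isLocallyNoetherian X.hom
  haveI : CompactSpace X.left := QuasiCompact.compactSpace_of_compactSpace X.hom
  haveI : IsNoetherian X.left := {}
  obtain ⟨ϖ, hϖ⟩ := IsDiscreteValuationRing.exists_irreducible R
  have hInv : ∀ j, PicF.IsInvertible (ClSub.idealMod (Γ j).ι.ker) := fun j =>
    (isInvertible_idealMod_iff _).mpr (hcart j)
  haveI := isProper_curve hproper (Γ i)
  have hd1 : topologicalKrullDim (Γ i).curve.left ≤ 1 := by rw [(Γ i).dim_eq]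
  have hprod := δ_prod' (IsLocalRing.ResidueField R) hd1 (Γ i).ι Finset.univ
    (fun j => (Γ j).ι.ker) (fun j => Models.mult R X (Γ j)) hInv
  obtain ⟨E, hE⟩ : ∃ E : X.left.IdealSheafData,
      E = ∏ j, (Γ j).ι.ker ^ Models.mult R X (Γ j) := ⟨_, rfl⟩
  rw [← hE] at hprod
  have hEinv : PicF.IsInvertible (ClSub.idealMod E) := hprod.1
  have hloc := exists_local_factor' Γ hdist hcart ϖ hϖ
  obtain ⟨σ, hσ⟩ : ∃ σ : Γ(ClSub.idealMod E, ⊤), val E σ = unif X ϖ := by
    apply Groth.Agent.Lib.Helper1.GrSect.exists_val_eq_of_cover E ⊤ (unif X ϖ)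
    intro x _
    obtain ⟨V, ε, b, hxV, hEV, hfac, -, -⟩ := hloc x
    refine ⟨V.1, V.2, le_top, hxV, ?_⟩
    change unifOn X ϖ V.1 ∈ E.ideal V
    rw [hE, hEV, hfac]
    exact Ideal.mul_mem_left _ _ (Ideal.mem_span_singleton_self ε)
  obtain ⟨s, hs⟩ : ∃ s : Coh.structureModule X.left ⟶ ClSub.idealMod E,
      ∀ U : X.left.Opens, sec s U = res (ClSub.idealMod E) le_top σ :=
    ⟨InvAmple.globalHom _ σ, InvAmple.sec_globalHom _ σ⟩
  have hgen : (Γ i).ι.base (genericPoint (Γ i).curve.left) ∈
      CohB1.genLocus (ClSub.idealMod E) s := by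
    obtain ⟨V, ε, b, hξV, hEV, hfac, hε0, hb⟩ := hloc
      ((Γ i).ι.base (genericPoint (Γ i).curve.left))
    obtain ⟨-, hbi⟩ := hb i ⟨_, rfl⟩
    haveI : Nonempty (V.1 : X.left.Opens) := ⟨⟨_, hξV⟩⟩
    haveI : IsDomain Γ(X.left, V.1) := inferInstance
    rw [← hE] at hEV
    obtain ⟨e', he'val, he'gen⟩ := exists_isGen_val E V ε (mem_nonZeroDivisors_of_ne_zero hε0) hEV
    have hsec : sec s V.1 = b • e' := by
      apply val_injective E V.1
      rw [val_smul, he'val, ← hfac, hs, val_res, hσ]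
      rfl
    have hgl := genLocus_inf_eq_basicOpen s he'gen b hsec
    have hmem : (Γ i).ι.base (genericPoint (Γ i).curve.left) ∈ X.left.basicOpen b := by
      rw [X.left.mem_basicOpen b _ hξV]
      exact isUnit_germ_of_notMem V _ hξV b (by
        rw [primeIdealOf_generic (Γ i).ι V hξV]
        exact hbi)
    have h2 : (Γ i).ι.base (genericPoint (Γ i).curve.left) ∈
        CohB1.genLocus (ClSub.idealMod E) s ⊓ V.1 := by
      rw [hgl]
      exact hmem
    exact h2.1
  have hnonneg := inter_nonneg_of_section hproper (Γ i) (ClSub.idealMod E) hEinv s hgen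
  rw [inter_idealMod_eq_delta hproper (Γ i) E, hprod.2] at hnonneg
  have hint : ∀ j, ArSurf.inter R X (L j) (Γ i) =
      - δ (IsLocalRing.ResidueField R) (Γ i).ι (Γ j).ι.ker := fun j =>
    inter_eq_neg_delta hproper (Γ i) _ (hInv j) (L j) (hL j)
  have h3 : ∑ j, (Models.mult R X (Γ j) : ℤ) * ArSurf.inter R X (L j) (Γ i) =
      - ∑ j, (Models.mult R X (Γ j) : ℤ) *
        δ (IsLocalRing.ResidueField R) (Γ i).ι (Γ j).ι.ker := by
    rw [← Finset.sum_neg_distrib]
    exact Finset.sum_congr rfl fun j _ => by rw [hint j]; ring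
  rw [h3]
  linarith

end

end Groth.Agent.Lib.Helper7.PartFacC
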