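import Groth.Agent.Lib.Helper7.PtSec
import Groth.Agent.Lib.Helper23.Devissage
import Groth.Agent.Lib.Helper23.DegTensor
import Groth.Agent.Lib.Helper23.PtDiv2
import Groth.Agent.Lib.Helper4.SerreNormal
import Groth.Agent.Lib.Helper7.CurveCM
import Groth.Agent.Lib.Helper17.EffCartMod
import Groth.Agent.S14510
import Groth.Agent.S1564
import Groth.Agent.Lib.Helper3.GrGamma

/-!
# Pencil: a duality-free Clifford inequality and the base-point-free pencil trick
-/
set_option autoImplicit false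
set_option linter.style.haveILetI false
universe u
open CategoryTheory CategoryTheory.Limits AlgebraicGeometry TopologicalSpace Opposite
open Scheme.Modules

noncomputable section

namespace Groth.Agent.Lib.Helper7.Pencil

open Groth.Agent.Lib.Helper3 Groth.Agent.Lib.Helper3.QCSec Groth.Agent.Lib.Helper3.InvGen
  Groth.Agent.Lib.Helper3.IdealMod Groth.Agent.Lib.Helper3.InvMonoidal
  Groth.Agent.Lib.Helper3.InvTensor Groth.Agent.Lib.Helper7.TwFun
open Groth.Agent.Lib.Helper23.T2 Groth.Agent.Lib.Helper23.Curve Groth.Agent.Lib.Helper23.Twist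
  Groth.Agent.Lib.Helper23.TwE Groth.Agent.Lib.Helper23.EffCart
  Groth.Agent.Lib.Helper7.CurvePair Groth.Agent.Lib.Helper23 Groth.Agent.Lib.Helper7.PtDiv

variable {X : Scheme.{u}}

/-- a morphism which vanishes on all sections is zero -/
theorem hom_eq_zero_of_app {K N : X.Modules} (g : K ⟶ N)
    (h : ∀ (U : X.Opens) (t : Γ(K, U)), g.app U t = 0) : g = 0 := by
  apply Scheme.Modules.hom_ext
  intro U
  ext t
  exact h U t

/-- the local computation behind the pencil trick -/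
theorem local_rel {M M' : X.Modules} {V : X.Opens} {e' : Γ(M', V)} (hg' : IsGen M' V e')
    (t₀ t₁ : Γ(M, V)) (hg : IsGen M V t₀) (a b : Γ(M', V))
    (hrel : tm M M' V t₀ a + tm M M' V t₁ b = 0) (u v : Γ(X, V))
    (hp : u • t₀ + v • t₁ = 0) : -(u • b) + v • a = 0 := by
  obtain ⟨σ, hσ⟩ := hg.self.exists_coord t₁
  obtain ⟨α, hα⟩ := hg'.self.exists_coord a
  obtain ⟨β, hβ⟩ := hg'.self.exists_coord b
  have hgt := (isGen_tm hg hg').self
  have h1 : (α + σ * β) • tm M M' V t₀ e' = 0 := by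
    calc (α + σ * β) • tm M M' V t₀ e'
        = tm M M' V t₀ (α • e') + tm M M' V (σ • t₀) (β • e') := by
          rw [tm_smul_right, tm_smul_left, tm_smul_right, smul_smul, add_smul]
      _ = tm M M' V t₀ a + tm M M' V t₁ b := by rw [hα, hβ, hσ]
      _ = 0 := hrel
  have h2 : α + σ * β = 0 := hgt.eq_zero h1
  have h3 : (u + v * σ) • t₀ = 0 := by
    rw [add_smul, mul_smul, hσ]
    exact hp
  have h4 : u + v * σ = 0 := hg.self.eq_zero h3
  have h5 : -(u * β) + v * α = 0 := by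
    have hu : u = -(v * σ) := eq_neg_of_add_eq_zero_left h4
    have hα' : α = -(σ * β) := eq_neg_of_add_eq_zero_left h2
    rw [hu, hα']
    ring
  rw [← hα, ← hβ, smul_smul, smul_smul, ← neg_smul, ← add_smul, h5, zero_smul]

/-- **pencil trick, sheaf part**: if `s₀, s₁` generate `M` and `s₀ ⊗ a + s₁ ⊗ b = 0`, there is a
morphism `M ⟶ M'` with `s₀ ↦ -b`, `s₁ ↦ a` -/
theorem exists_hom_of_relation {M M' : X.Modules} (hM : PicF.IsInvertible M)
    (hM' : PicF.IsInvertible M') (s₀ s₁ : Γ(M, ⊤))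
    (hgen : ∀ x : X, x ∈ CohB1.genLocus M (InvAmple.globalHom M s₀) ∨
      x ∈ CohB1.genLocus M (InvAmple.globalHom M s₁))
    (a b : Γ(M', ⊤)) (hrel : tm M M' ⊤ s₀ a + tm M M' ⊤ s₁ b = 0) :
    ∃ ψ : M ⟶ M', InvAmple.globalHom M s₀ ≫ ψ = InvAmple.globalHom M' (-b) ∧
      InvAmple.globalHom M s₁ ≫ ψ = InvAmple.globalHom M' a := by
  let O := Coh.structureModule X
  let p : (O ⊞ O : X.Modules) ⟶ M :=
    biprod.desc (InvAmple.globalHom M s₀) (InvAmple.globalHom M s₁)
  let f : (O ⊞ O : X.Modules) ⟶ M' :=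
    biprod.desc (InvAmple.globalHom M' (-b)) (InvAmple.globalHom M' a)
  -- sections of `p` and `f`
  have hpapp : ∀ (V : X.Opens) (z : Γ((O ⊞ O : X.Modules), V)),
      p.app V z = toFun V ((biprod.fst : O ⊞ O ⟶ O).app V z) • res M (le_top : V ≤ ⊤) s₀ +
        toFun V ((biprod.snd : O ⊞ O ⟶ O).app V z) • res M (le_top : V ≤ ⊤) s₁ := by
    intro V z
    have hz := Groth.Agent.Lib.Helper23.Dev.biprod_decomp (A := O) (B := O) V z
    have e1 : p.app V z = p.app V ((biprod.inl : O ⟶ O ⊞ O).app V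
        ((biprod.fst : O ⊞ O ⟶ O).app V z) + (biprod.inr : O ⟶ O ⊞ O).app V
        ((biprod.snd : O ⊞ O ⟶ O).app V z)) := congrArg (p.app V) hz
    rw [e1, Groth.Agent.Lib.Helper23.Dev.app_add', Groth.Agent.Lib.Helper23.Dev.desc_inl,
      Groth.Agent.Lib.Helper23.Dev.desc_inr]
    have e2 : ∀ (m : Γ(M, ⊤)) (w : Γ(O, V)),
        (InvAmple.globalHom M m).app V w = toFun V w • res M (le_top : V ≤ ⊤) m := by
      intro m w
      have := app_eq_smul_sec (InvAmple.globalHom M m) V (toFun V w)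
      rw [InvAmple.sec_globalHom] at this
      exact this
    rw [e2, e2]
  have hfapp : ∀ (V : X.Opens) (z : Γ((O ⊞ O : X.Modules), V)),
      f.app V z = toFun V ((biprod.fst : O ⊞ O ⟶ O).app V z) • res M' (le_top : V ≤ ⊤) (-b) +
        toFun V ((biprod.snd : O ⊞ O ⟶ O).app V z) • res M' (le_top : V ≤ ⊤) a := by
    intro V z
    have hz := Groth.Agent.Lib.Helper23.Dev.biprod_decomp (A := O) (B := O) V z
    have e1 : f.app V z = f.app V ((biprod.inl : O ⟶ O ⊞ O).app V
        ((biprod.fst : O ⊞ O ⟶ O).app V z) + (biprod.inr : O ⟶ O ⊞ O).app V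
        ((biprod.snd : O ⊞ O ⟶ O).app V z)) := congrArg (f.app V) hz
    rw [e1, Groth.Agent.Lib.Helper23.Dev.app_add', Groth.Agent.Lib.Helper23.Dev.desc_inl,
      Groth.Agent.Lib.Helper23.Dev.desc_inr]
    have e2 : ∀ (m : Γ(M', ⊤)) (w : Γ(O, V)),
        (InvAmple.globalHom M' m).app V w = toFun V w • res M' (le_top : V ≤ ⊤) m := by
      intro m w
      have := app_eq_smul_sec (InvAmple.globalHom M' m) V (toFun V w)
      rw [InvAmple.sec_globalHom] at this
      exact this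
    rw [e2, e2]
  -- `p` is an epimorphism
  haveI hepi : Epi p := by
    apply ModBasis.epi_of_surjective_on_basis
    intro W x hxW
    have key : ∀ (m : Γ(M, ⊤)) (ι : O ⟶ (O ⊞ O : X.Modules))
        (hι : ι ≫ p = InvAmple.globalHom M m),
        x ∈ CohB1.genLocus M (InvAmple.globalHom M m) →
        ∃ V : X.Opens, x ∈ V ∧ V ≤ W ∧ Function.Surjective (p.app V) := by
      intro m ι hι hx
      obtain ⟨V₀, hxV₀, hV₀⟩ := (mem_genLocus_iff _ x).mp hx
      refine ⟨V₀ ⊓ W, ⟨hxV₀, hxW⟩, inf_le_right, fun t => ?_⟩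
      have hgm : IsGenAt M (V₀ ⊓ W) (res M (le_top : V₀ ⊓ W ≤ ⊤) m) := by
        have h1 := hV₀ (V₀ ⊓ W) inf_le_left
        rwa [res_sec, InvAmple.sec_globalHom] at h1
      obtain ⟨r, hr⟩ := hgm.exists_coord t
      refine ⟨ι.app (V₀ ⊓ W) (ofFun (V₀ ⊓ W) r), ?_⟩
      have h2 : p.app (V₀ ⊓ W) (ι.app (V₀ ⊓ W) (ofFun (V₀ ⊓ W) r)) =
          (InvAmple.globalHom M m).app (V₀ ⊓ W) (ofFun (V₀ ⊓ W) r) :=
        congrArg (fun φ : O ⟶ M => φ.app (V₀ ⊓ W) (ofFun (V₀ ⊓ W) r)) hι
      rw [h2, app_eq_smul_sec, InvAmple.sec_globalHom]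
      exact hr
    rcases hgen x with hx | hx
    · exact key s₀ biprod.inl (biprod.inl_desc _ _) hx
    · exact key s₁ biprod.inr (biprod.inr_desc _ _) hx
  -- `f` kills the kernel of `p`
  have hkf : kernel.ι p ≫ f = 0 := by
    apply hom_eq_zero_of_app
    intro U t
    set z := (kernel.ι p).app U t with hz
    have hpz : p.app U z = 0 := Groth.Agent.Lib.Helper23.Dev.desc_kernel _ _ U t
    change f.app U z = 0
    apply ModBasis.eq_zero_of_locally_zero
    intro x hxU
    -- a small open around `x` with generators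
    have key : ∀ (m₀ m₁ : Γ(M, ⊤)) (a' b' : Γ(M', ⊤)),
        tm M M' ⊤ m₀ a' + tm M M' ⊤ m₁ b' = 0 →
        x ∈ CohB1.genLocus M (InvAmple.globalHom M m₀) →
        ∃ (V : X.Opens) (_ : V ≤ U), x ∈ V ∧ ∀ u v : Γ(X, V),
          u • res M (le_top : V ≤ ⊤) m₀ + v • res M (le_top : V ≤ ⊤) m₁ = 0 →
          -(u • res M' (le_top : V ≤ ⊤) b') + v • res M' (le_top : V ≤ ⊤) a' = 0 := by
      intro m₀ m₁ a' b' hrel' hx
      obtain ⟨V₀, hxV₀, hV₀⟩ := (mem_genLocus_iff _ x).mp hx
      obtain ⟨V, e', hVaff, hxV, hVle, hg'⟩ := exists_affine_isGen_le hM' x (V₀ ⊓ U) ⟨hxV₀, hxU⟩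
      refine ⟨V, hVle.trans inf_le_right, hxV, fun u v huv => ?_⟩
      have hg : IsGen M V (res M (le_top : V ≤ ⊤) m₀) := by
        have h1 := hV₀.mono (hVle.trans inf_le_left)
        rwa [res_sec, InvAmple.sec_globalHom] at h1
      have hrelV : tm M M' V (res M (le_top : V ≤ ⊤) m₀) (res M' (le_top : V ≤ ⊤) a') +
          tm M M' V (res M (le_top : V ≤ ⊤) m₁) (res M' (le_top : V ≤ ⊤) b') = 0 := by
        rw [← tm_res, ← tm_res, ← QCExact.res_add, hrel', res_zero]
      exact local_rel hg' _ _ hg _ _ hrelV u v huv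
    have hpzV : ∀ (V : X.Opens) (hVU : V ≤ U), p.app V (res _ hVU z) = 0 := by
      intro V hVU
      rw [QCExact.app_res', hpz, res_zero]
    rcases hgen x with hx | hx
    · obtain ⟨V, hVU, hxV, hV⟩ := key s₀ s₁ a b hrel hx
      refine ⟨V, hVU, hxV, ?_⟩
      rw [← QCExact.app_res', hfapp, Groth.Agent.Lib.Helper3.GrGamma.res_neg, smul_neg]
      have h1 := hpzV V hVU
      rw [hpapp] at h1
      exact hV _ _ h1
    · have hrel' : tm M M' ⊤ s₁ b + tm M M' ⊤ s₀ a = 0 := by rw [add_comm]; exact hrel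
      obtain ⟨V, hVU, hxV, hV⟩ := key s₁ s₀ b a hrel' hx
      refine ⟨V, hVU, hxV, ?_⟩
      rw [← QCExact.app_res', hfapp, Groth.Agent.Lib.Helper3.GrGamma.res_neg, smul_neg]
      have h1 := hpzV V hVU
      rw [hpapp, add_comm] at h1
      have h2 := hV _ _ h1
      have h3 := congrArg Neg.neg h2
      rw [neg_add, neg_neg, neg_zero, add_comm] at h3
      exact h3
  refine ⟨Abelian.epiDesc p f hkf, ?_, ?_⟩
  · have h1 : (biprod.inl : O ⟶ O ⊞ O) ≫ p ≫ Abelian.epiDesc p f hkf =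
        (biprod.inl : O ⟶ O ⊞ O) ≫ f := by rw [Abelian.comp_epiDesc]
    rw [← Category.assoc, biprod.inl_desc, biprod.inl_desc] at h1
    exact h1
  · have h1 : (biprod.inr : O ⟶ O ⊞ O) ≫ p ≫ Abelian.epiDesc p f hkf =
        (biprod.inr : O ⟶ O ⊞ O) ≫ f := by rw [Abelian.comp_epiDesc]
    rw [← Category.assoc, biprod.inr_desc, biprod.inr_desc] at h1
    exact h1

/-- multiplication by a global section of `M`, as a morphism `M' ⟶ M ⊗ M'` -/
def mulHom (M M' : X.Modules) (s : Γ(M, ⊤)) : M' ⟶ CohB1.tensorMod M M' :=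
  (unitorL M').inv ≫ (twR M').map (InvAmple.globalHom M s)

theorem mulHom_app (M M' : X.Modules) (s : Γ(M, ⊤)) (U : X.Opens) (a : Γ(M', U)) :
    (mulHom M M' s).app U a = tm M M' U (res M (le_top : U ≤ ⊤) s) a := by
  have h := unitorL_hom_tm M' U a 1
  rw [one_smul] at h
  have h2 : (unitorL M').inv.app U a = tm (Coh.structureModule X) M' U (ofFun U 1) a :=
    (congrArg ((unitorL M').inv.app U) h.symm).trans (iso_inv_hom_app _ U _)
  change ((twR M').map (InvAmple.globalHom M s)).app U ((unitorL M').inv.app U a) = _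
  rw [h2, tw_app_tm]
  have h3 : (InvAmple.globalHom M s).app U (ofFun U 1) = res M (le_top : U ≤ ⊤) s :=
    InvAmple.sec_globalHom M s U
  rw [h3]

variable (k : Type u) [Field k] [X.Over (Spec (CommRingCat.of k))]
  [IsProper (X ↘ Spec (CommRingCat.of k))] [IsIntegral X]

/-- a duality-free Clifford-type inequality: `h⁰(L) + h¹(L) ≤ g + 1` when both are nonzero -/
theorem h0_add_h1_le [IsAlgClosed k] (hdim : topologicalKrullDim X ≤ 1) {L : X.Modules}
    (hL : PicF.IsInvertible L) (h0 : Nontrivial (Coh.HH X L 0))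
    (h1 : Nontrivial (Coh.HH X L 1)) :
    Module.finrank k (Coh.HH X L 0) + Module.finrank k (Coh.HH X L 1) ≤
      Curv2.genus k X + 1 := by
  haveI := isNoetherian_of_isProper k X
  haveI : Module.Finite k (Coh.HH X (Coh.structureModule X) 1) :=
    finite_HH k _ (Groth.Agent.Lib.Helper23.T2.isCoh_structureModule X) 1
  haveI : Module.Finite k (Coh.HH X L 0) := finite_HH k _ (isCoh_of_isInvertible hL) 0
  haveI : Module.Finite k (Coh.HH X L 1) := finite_HH k _ (isCoh_of_isInvertible hL) 1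
  have hsurj : ∀ w : Coh.HH X L 0, w ≠ 0 → Function.Surjective (pairL k L 1 w) := by
    intro w hw y
    have hm0 : H0equiv L w ≠ 0 :=
      fun h0 => hw ((H0equiv L).injective (by rw [map_zero]; exact h0))
    have hσ := globalHom_ne_zero L (H0equiv L w) hm0
    obtain ⟨hmono, hcohQ, hfl, -⟩ := Groth.Agent.Lib.Helper23.Curve.invertible_map k hdim
      (Groth.Agent.Lib.Helper3.InvGen.isInvertible_structureModule X) hL _ hσ
    haveI := hmono
    have hQ : Subsingleton (HHm (cokernel (InvAmple.globalHom L (H0equiv L w))) 1) :=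
      acyclic_of_isFlq hfl 0
    have hy : Hmap (cokernel.π (InvAmple.globalHom L (H0equiv L w))) 1 y = 0 := hQ.elim _ _
    obtain ⟨z, hz⟩ := exact₂ (Groth.Agent.Lib.Helper23.Curve.cokerSC _)
      (Groth.Agent.Lib.Helper23.Curve.cokerSC_shortExact
        (InvAmple.globalHom L (H0equiv L w))) 1 y hy
    exact ⟨z, hz⟩
  let φ : Coh.HH X L 0 →ₗ[k] Module.Dual k (Coh.HH X L 1) →ₗ[k]
      Module.Dual k (Coh.HH X (Coh.structureModule X) 1) :=
    (Module.Dual.transpose (R := k)).comp (pairL k L 1)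
  haveI : Nontrivial (Module.Dual k (Coh.HH X L 1)) := by
    apply Module.nontrivial_of_finrank_pos (R := k)
    rw [Subspace.dual_finrank_eq]
    exact Module.finrank_pos
  have h := Groth.Agent.S14510.result k (Coh.HH X L 0) (Module.Dual k (Coh.HH X L 1))
    (Module.Dual k (Coh.HH X (Coh.structureModule X) 1)) φ (by
      intro a ξ ha hξ hzero
      obtain ⟨v, hv⟩ : ∃ v, ξ v ≠ 0 := by
        by_contra hc
        push Not at hc
        exact hξ (LinearMap.ext hc)
      obtain ⟨y, hy⟩ := hsurj a ha v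
      have h2 : φ a ξ y = ξ (pairL k L 1 a y) := rfl
      rw [hzero, hy] at h2
      exact hv h2.symm)
  rw [Subspace.dual_finrank_eq, Subspace.dual_finrank_eq] at h
  unfold Curv2.genus
  exact h

set_option backward.isDefEq.respectTransparency false in
/-- a pencil of degree two on a regular curve of positive genus has no base points -/
theorem mem_genLocus_of_pencil [IsAlgClosed k] (hdim : topologicalKrullDim X = 1)
    (hreg : ∀ x : X, IsRegularLocalRing (X.presheaf.stalk x)) (hg : 1 ≤ Curv2.genus k X)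
    {M : X.Modules} (hM : PicF.IsInvertible M) (hdeg : Curv2.deg k X M 1 = 2)
    (s₀ s₁ : Γm M)
    (hind : ∀ c₀ c₁ : k, Coh.toGlobal (X ↘ Spec (CommRingCat.of k)) c₀ • s₀ +
      Coh.toGlobal (X ↘ Spec (CommRingCat.of k)) c₁ • s₁ = 0 → c₀ = 0 ∧ c₁ = 0)
    (P : X) (hP : IsClosed ({P} : Set X)) :
    P ∈ CohB1.genLocus M (InvAmple.globalHom M s₀) ∨
      P ∈ CohB1.genLocus M (InvAmple.globalHom M s₁) := by
  by_contra hcon
  push Not at hcon
  obtain ⟨hc0, hc1⟩ := hcon
  haveI := isNoetherian_of_isProper k X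
  have h0 := GeomH0.finrank_H0_eq_one_of_isAlgClosed k X
  obtain ⟨n₀, hn₀⟩ := exists_lift_of_notMem_genLocus P hP hM s₀ hc0
  obtain ⟨n₁, hn₁⟩ := exists_lift_of_notMem_genLocus P hP hM s₁ hc1
  let Zc : Closeds X := ⟨{P}, hP⟩
  let I : X.IdealSheafData := Scheme.IdealSheafData.vanishingIdeal Zc
  have hdimP : ringKrullDim (X.presheaf.stalk P) ≤ 1 :=
    (Groth.Agent.Lib.Helper7.CurveCM.ringKrullDim_stalk_le_topologicalKrullDim P).trans hdim.le
  haveI := hreg P
  have hn : IsIntegrallyClosed (X.presheaf.stalk P) :=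
    Groth.Agent.Lib.Helper4.SerreNormal.isIntegrallyClosed_of_regular_of_dim_le_one _ hdimP
  have hEff : BlowUp.IsEffCartierIdeal I :=
    isEffCartierIdeal_vanishingIdeal_point P hP hdimP
      (not_isField_stalk P hP (Groth.Agent.Lib.Helper7.CurveCM.singleton_ne_univ hdim P)) hn
  have hI : PicF.IsInvertible (ClSub.idealMod I) :=
    (Groth.Agent.Lib.Helper17.EffCartMod.isInvertible_idealMod_iff I).mpr hEff
  have hN : PicF.IsInvertible (CohB1.tensorMod (ClSub.idealMod I) M) :=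
    isInvertible_tensorMod hI hM
  have hsupp : (I.support : Set X) = {P} := Scheme.IdealSheafData.coe_support_vanishingIdeal Zc
  have hfin : (I.support : Set X).Finite := by rw [hsupp]; exact Set.finite_singleton P
  have hpt : ∀ z ∈ (I.support : Set X), IsClosed ({z} : Set X) := by
    intro z hz
    rw [hsupp] at hz
    rw [Set.mem_singleton_iff.mp hz]
    exact hP
  have hdI := Groth.Agent.Lib.Helper23.PtDiv.deg_idealMod k X I (isCoh_of_isInvertible hI)
    hfin hpt
  have hQ1 : Module.finrank k (Coh.HH X (ClSub.quotMod I) 0) = 1 :=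
    finrank_h0_quotMod_closedPoint k P hP
  rw [hQ1] at hdI
  have hdN := Groth.Agent.Lib.Helper23.DegTensor.deg_tw k hdim.le
    (isFinLocFreeOfRank_one_of_isInvertible hI) hM
  haveI : Module.Finite k (Coh.HH X (CohB1.tensorMod (ClSub.idealMod I) M) 0) :=
    finite_HH k _ (isCoh_of_isInvertible hN) 0
  have h2 : 2 ≤ Module.finrank k (Coh.HH X (CohB1.tensorMod (ClSub.idealMod I) M) 0) := by
    apply two_le_finrank_of_sections k _ n₀ n₁
    intro c₀ c₁ hc
    apply hind c₀ c₁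
    have h3 := congrArg (Γmap (jmap I M)) hc
    rw [map_add, (Γmap (jmap I M)).map_smul, (Γmap (jmap I M)).map_smul, map_zero] at h3
    have e0 : Γmap (jmap I M) n₀ = s₀ := hn₀
    have e1 : Γmap (jmap I M) n₁ = s₁ := hn₁
    rw [e0, e1] at h3
    exact h3
  have hs : Nontrivial (Coh.HH X (CohB1.tensorMod (ClSub.idealMod I) M) 0) :=
    Module.nontrivial_of_finrank_pos (R := k) (by omega)
  obtain ⟨hle, hgen⟩ := Groth.Agent.S1564.result k X hdim h0 _ hN hs
  have hdN' : Curv2.deg k X (CohB1.tensorMod (ClSub.idealMod I) M) 1 = 1 := by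
    rw [hdN, hdI, hdeg]
    norm_num
  rw [hdN'] at hle hgen
  have heq : (Module.finrank k (Coh.HH X (CohB1.tensorMod (ClSub.idealMod I) M) 0) : ℤ) =
      1 + 1 := by
    have : (2 : ℤ) ≤ (Module.finrank k
        (Coh.HH X (CohB1.tensorMod (ClSub.idealMod I) M) 0) : ℤ) := by exact_mod_cast h2
    linarith
  have hg0 := hgen heq one_pos
  omega

/-- **base-point-free pencil trick**: if `s₀, s₁` generate `M`, `deg M = deg M'` and
`M ≇ M'`, then `2 h⁰(M') ≤ h⁰(M ⊗ M')` -/
theorem two_mul_h0_le (hdim : topologicalKrullDim X ≤ 1) {M M' : X.Modules}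
    (hM : PicF.IsInvertible M) (hM' : PicF.IsInvertible M')
    (hdeg : Curv2.deg k X M 1 = Curv2.deg k X M' 1) (s₀ s₁ : Γ(M, ⊤))
    (hgen : ∀ x : X, x ∈ CohB1.genLocus M (InvAmple.globalHom M s₀) ∨
      x ∈ CohB1.genLocus M (InvAmple.globalHom M s₁))
    (hniso : ¬ Nonempty (M ≅ M')) :
    2 * Module.finrank k (Coh.HH X M' 0) ≤
      Module.finrank k (Coh.HH X (CohB1.tensorMod M M') 0) := by
  haveI := isNoetherian_of_isProper k X
  haveI : Module.Finite k (Coh.HH X M' 0) := finite_HH k _ (isCoh_of_isInvertible hM') 0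
  haveI : Module.Finite k (Coh.HH X (CohB1.tensorMod M M') 0) :=
    finite_HH k _ (isCoh_of_isInvertible (isInvertible_tensorMod hM hM')) 0
  obtain ⟨μ, hμ⟩ : ∃ μ : (Coh.HH X M' 0 × Coh.HH X M' 0) →ₗ[k]
      Coh.HH X (CohB1.tensorMod M M') 0, ∀ x y, μ (x, y) =
        Groth.Agent.Lib.Helper7.CohFinite.HmapL k (mulHom M M' s₀) 0 x +
        Groth.Agent.Lib.Helper7.CohFinite.HmapL k (mulHom M M' s₁) 0 y :=
    ⟨(Groth.Agent.Lib.Helper7.CohFinite.HmapL k (mulHom M M' s₀) 0).coprod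
      (Groth.Agent.Lib.Helper7.CohFinite.HmapL k (mulHom M M' s₁) 0),
      fun x y => LinearMap.coprod_apply _ _ _⟩
  have hinj : Function.Injective μ := by
    rw [injective_iff_map_eq_zero]
    rintro ⟨x, y⟩ hxy
    rw [hμ] at hxy
    have h1 : Hmap (mulHom M M' s₀) 0 x + Hmap (mulHom M M' s₁) 0 y = 0 := hxy
    have h2 := congrArg (H0equiv (CohB1.tensorMod M M')) h1
    rw [map_add, H0equiv_naturality, H0equiv_naturality, map_zero] at h2
    have e0 := mulHom_app M M' s₀ ⊤ (H0equiv M' x)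
    have e1 := mulHom_app M M' s₁ ⊤ (H0equiv M' y)
    rw [res_self] at e0 e1
    have h3 : tm M M' ⊤ s₀ (H0equiv M' x) + tm M M' ⊤ s₁ (H0equiv M' y) = 0 := by
      rw [← e0, ← e1]
      exact h2
    obtain ⟨ψ, hψ0, hψ1⟩ := exists_hom_of_relation hM hM' s₀ s₁ hgen _ _ h3
    have hψ : ψ = 0 := by
      by_contra hne
      haveI := (deg_le_of_map k hdim hM hM' ψ hne).2 hdeg
      exact hniso ⟨asIso ψ⟩
    rw [hψ, comp_zero] at hψ0 hψ1
    have hb : H0equiv M' y = 0 := by
      by_contra hne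
      exact globalHom_ne_zero M' _ (neg_ne_zero.mpr hne) hψ0.symm
    have ha : H0equiv M' x = 0 := by
      by_contra hne
      exact globalHom_ne_zero M' _ hne hψ1.symm
    have hx : x = 0 := (H0equiv M').injective (ha.trans (map_zero _).symm)
    have hy : y = 0 := (H0equiv M').injective (hb.trans (map_zero _).symm)
    rw [hx, hy]
    rfl
  have h := LinearMap.finrank_le_finrank_of_injective hinj
  rw [Module.finrank_prod] at h
  omega

end Groth.Agent.Lib.Helper7.Pencil
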