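import Mathlib
set_option autoImplicit false
universe u v
open TensorProduct

namespace Groth.Agent.Lib.Helper7

/-- plain-hypothesis perfect ring of characteristic `p`. -/
def IsPerf (p : ℕ) (R : Type u) [CommRing R] : Prop :=
  (p : R) = 0 ∧ Function.Bijective (fun x : R => x ^ p)

lemma frob_add {p : ℕ} [hp : Fact p.Prime] {R : Type u} [CommRing R] (h0 : (p : R) = 0)
    (x y : R) : (x + y) ^ p = x ^ p + y ^ p := by
  rcases subsingleton_or_nontrivial R with h | h
  · exact Subsingleton.elim _ _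
  · haveI : CharP R p := (CharP.charP_iff_prime_eq_zero hp.out).mpr h0
    exact add_pow_char x y p

lemma frob_sub {p : ℕ} [hp : Fact p.Prime] {R : Type u} [CommRing R] (h0 : (p : R) = 0)
    (x y : R) : (x - y) ^ p = x ^ p - y ^ p := by
  rcases subsingleton_or_nontrivial R with h | h
  · exact Subsingleton.elim _ _
  · haveI : CharP R p := (CharP.charP_iff_prime_eq_zero hp.out).mpr h0
    exact sub_pow_char x y

namespace IsPerf

lemma of_subsingleton (p : ℕ) (R : Type u) [CommRing R] [Subsingleton R] : IsPerf p R :=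
  ⟨Subsingleton.elim _ _, fun a b _ => Subsingleton.elim a b,
    fun b => ⟨b, Subsingleton.elim _ _⟩⟩

lemma eq_zero_of_pow_eq_zero {p : ℕ} [hp : Fact p.Prime] {R : Type u} [CommRing R]
    (h : IsPerf p R) {x : R} (hx : x ^ p = 0) : x = 0 := by
  apply h.2.1
  show x ^ p = 0 ^ p
  rw [hx, zero_pow hp.out.ne_zero]

/-- the `p`-th root. -/
noncomputable def root {p : ℕ} {R : Type u} [CommRing R] (h : IsPerf p R) (x : R) : R :=
  (h.2.2 x).choose

lemma root_pow {p : ℕ} {R : Type u} [CommRing R] (h : IsPerf p R) (x : R) :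
    (h.root x) ^ p = x :=
  (h.2.2 x).choose_spec

lemma root_of_pow {p : ℕ} {R : Type u} [CommRing R] (h : IsPerf p R) (x : R) :
    h.root (x ^ p) = x :=
  h.2.1 (h.root_pow (x ^ p))

lemma root_mul {p : ℕ} {R : Type u} [CommRing R] (h : IsPerf p R) (x y : R) :
    h.root (x * y) = h.root x * h.root y := by
  apply h.2.1
  show (h.root (x * y)) ^ p = (h.root x * h.root y) ^ p
  rw [h.root_pow, mul_pow, h.root_pow, h.root_pow]

lemma root_add {p : ℕ} [Fact p.Prime] {R : Type u} [CommRing R] (h : IsPerf p R) (x y : R) :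
    h.root (x + y) = h.root x + h.root y := by
  apply h.2.1
  show (h.root (x + y)) ^ p = (h.root x + h.root y) ^ p
  rw [h.root_pow, frob_add h.1, h.root_pow, h.root_pow]

lemma root_algebraMap {p : ℕ} {K : Type v} {R : Type u} [CommRing K] [CommRing R] [Algebra K R]
    (hK : IsPerf p K) (hR : IsPerf p R) (a : K) :
    hR.root (algebraMap K R a) = algebraMap K R (hK.root a) := by
  apply hR.2.1
  show (hR.root (algebraMap K R a)) ^ p = (algebraMap K R (hK.root a)) ^ p
  rw [hR.root_pow, ← map_pow, hK.root_pow]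

lemma root_smul {p : ℕ} {K : Type v} {R : Type u} [CommRing K] [CommRing R] [Algebra K R]
    (hK : IsPerf p K) (hR : IsPerf p R) (a : K) (b : R) :
    hR.root (a • b) = hK.root a • hR.root b := by
  rw [Algebra.smul_def, Algebra.smul_def, hR.root_mul, root_algebraMap hK hR]

lemma pow_pow_injective {p : ℕ} {R : Type u} [CommRing R] (h : IsPerf p R) (n : ℕ) :
    Function.Injective (fun x : R => x ^ p ^ n) := by
  induction n with
  | zero =>
    intro x y hxy
    simpa using hxy
  | succ n ih =>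
    intro x y hxy
    have hxy' : (x ^ p) ^ p ^ n = (y ^ p) ^ p ^ n := by
      rw [← pow_mul, ← pow_mul, ← pow_succ']
      exact hxy
    exact h.2.1 (ih hxy')

lemma exists_pow_pow_eq {p : ℕ} {R : Type u} [CommRing R] (h : IsPerf p R) (n : ℕ) (c : R) :
    ∃ r : R, r ^ p ^ n = c := by
  induction n generalizing c with
  | zero => exact ⟨c, by simp⟩
  | succ n ih =>
    obtain ⟨r, hr⟩ := ih c
    obtain ⟨r', hr'⟩ := h.2.2 r
    have hr'' : r' ^ p = r := hr'
    exact ⟨r', by rw [pow_succ', pow_mul, hr'', hr]⟩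

lemma isReduced_aux {p : ℕ} [hp : Fact p.Prime] {R : Type u} [CommRing R] (h : IsPerf p R)
    {x : R} {k : ℕ} (hx : x ^ k = 0) : x = 0 := by
  have hk : k ≤ p ^ k := (Nat.lt_pow_self hp.out.one_lt).le
  apply h.pow_pow_injective k
  show x ^ p ^ k = 0 ^ p ^ k
  rw [zero_pow (pow_ne_zero k hp.out.ne_zero)]
  have e : p ^ k = (p ^ k - k) + k := (Nat.sub_add_cancel hk).symm
  rw [e, pow_add, hx, mul_zero]

lemma quotient {p : ℕ} [Fact p.Prime] {A : Type u} [CommRing A] (hA : IsPerf p A)
    (I : Ideal A) (hI : I.IsRadical) : IsPerf p (A ⧸ I) := by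
  refine ⟨?_, ?_, ?_⟩
  · have h := map_natCast (Ideal.Quotient.mk I) p
    rw [← h, hA.1, map_zero]
  · intro x y hxy
    obtain ⟨a, rfl⟩ := Ideal.Quotient.mk_surjective x
    obtain ⟨b, rfl⟩ := Ideal.Quotient.mk_surjective y
    have h1 : Ideal.Quotient.mk I (a ^ p) = Ideal.Quotient.mk I (b ^ p) := by
      rw [map_pow, map_pow]
      exact hxy
    rw [Ideal.Quotient.eq] at h1 ⊢
    have h2 : (a - b) ^ p ∈ I := by
      rw [frob_sub hA.1]
      exact h1
    exact hI (Ideal.mem_radical_iff.mpr ⟨p, h2⟩)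
  · intro y
    obtain ⟨b, rfl⟩ := Ideal.Quotient.mk_surjective y
    obtain ⟨a, ha⟩ := hA.2.2 b
    have ha' : a ^ p = b := ha
    refine ⟨Ideal.Quotient.mk I a, ?_⟩
    show (Ideal.Quotient.mk I a) ^ p = Ideal.Quotient.mk I b
    rw [← map_pow, ha']

lemma zmod (p : ℕ) [Fact p.Prime] : IsPerf p (ZMod p) := by
  refine ⟨ZMod.natCast_self p, ?_⟩
  have h : (fun x : ZMod p => x ^ p) = id := funext (fun x => ZMod.pow_card x)
  rw [h]
  exact Function.bijective_id

section tensor
variable {p : ℕ} [Fact p.Prime] {K : Type v} {B C : Type u} [CommRing K] [CommRing B] [CommRing C]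
  [Algebra K B] [Algebra K C] (hK : IsPerf p K) (hB : IsPerf p B) (hC : IsPerf p C)

/-- the additive `p`-th root map on a tensor product of perfect rings. -/
noncomputable def rootTensor : B ⊗[K] C →+ B ⊗[K] C :=
  TensorProduct.liftAddHom
    (AddMonoidHom.mk' (fun b => AddMonoidHom.mk' (fun c => hB.root b ⊗ₜ[K] hC.root c)
        (fun c c' => by rw [hC.root_add, TensorProduct.tmul_add]))
      (fun b b' => by
        apply AddMonoidHom.ext
        intro c
        show hB.root (b + b') ⊗ₜ[K] hC.root c =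
          hB.root b ⊗ₜ[K] hC.root c + hB.root b' ⊗ₜ[K] hC.root c
        rw [hB.root_add, TensorProduct.add_tmul]))
    (fun a b c => by
      show hB.root (a • b) ⊗ₜ[K] hC.root c = hB.root b ⊗ₜ[K] hC.root (a • c)
      rw [root_smul hK hB, root_smul hK hC, TensorProduct.smul_tmul])

lemma rootTensor_tmul (b : B) (c : C) :
    rootTensor hK hB hC (b ⊗ₜ[K] c) = hB.root b ⊗ₜ[K] hC.root c :=
  TensorProduct.liftAddHom_tmul _ _ b c

include hK hB hC in
theorem tensor : IsPerf p (B ⊗[K] C) := by
  have h0 : (p : B ⊗[K] C) = 0 := by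
    have h := map_natCast (algebraMap B (B ⊗[K] C)) p
    rw [← h, hB.1, map_zero]
  have hadd : ∀ x y : B ⊗[K] C, (x + y) ^ p = x ^ p + y ^ p := frob_add h0
  have hp0 : p ≠ 0 := (Fact.out : p.Prime).ne_zero
  have h1 : ∀ t : B ⊗[K] C, (rootTensor hK hB hC t) ^ p = t := by
    intro t
    induction t using TensorProduct.induction_on with
    | zero => rw [map_zero, zero_pow hp0]
    | tmul b c =>
      rw [rootTensor_tmul, Algebra.TensorProduct.tmul_pow, hB.root_pow, hC.root_pow]
    | add x y hx hy => rw [map_add, hadd, hx, hy]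
  have h2 : ∀ t : B ⊗[K] C, rootTensor hK hB hC (t ^ p) = t := by
    intro t
    induction t using TensorProduct.induction_on with
    | zero => rw [zero_pow hp0, map_zero]
    | tmul b c =>
      rw [Algebra.TensorProduct.tmul_pow, rootTensor_tmul, hB.root_of_pow, hC.root_of_pow]
    | add x y hx hy => rw [hadd, map_add, hx, hy]
  refine ⟨h0, ?_, ?_⟩
  · intro x y hxy
    have hxy' : x ^ p = y ^ p := hxy
    calc x = rootTensor hK hB hC (x ^ p) := (h2 x).symm
      _ = rootTensor hK hB hC (y ^ p) := by rw [hxy']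
      _ = y := h2 y
  · intro t
    exact ⟨rootTensor hK hB hC t, h1 t⟩

end tensor

end IsPerf

end Groth.Agent.Lib.Helper7
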