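import Mathlib
import Groth.Prelude.Def_ega3
import Groth.Agent.Lib.Helper7.CxElem
import Groth.Agent.Lib.Helper7.TorNat7
set_option autoImplicit false
universe u
open CategoryTheory CategoryTheory.Limits MonoidalCategory TensorProduct

namespace Groth.Agent.Lib.Helper7

variable {A : Type u} [CommRing A]

section union
variable {X : Type u} [AddCommGroup X] [Module A X] (K : Submodule A X)
  {σ : Type*} (Ks : σ → Submodule A X) (hle : ∀ s, Ks s ≤ K)
  (hdir : ∀ s s', ∃ t, Ks s ≤ Ks t ∧ Ks s' ≤ Ks t) (hcov : ∀ k ∈ K, ∃ s, k ∈ Ks s)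

lemma lTensor_inclusion_inclusion {K₁ K₂ K₃ : Submodule A X} (h₁₂ : K₁ ≤ K₂) (h₂₃ : K₂ ≤ K₃)
    (Y : Type u) [AddCommGroup Y] [Module A Y] (v : Y ⊗[A] K₁) :
    LinearMap.lTensor Y (Submodule.inclusion h₂₃) (LinearMap.lTensor Y (Submodule.inclusion h₁₂) v) =
      LinearMap.lTensor Y (Submodule.inclusion (h₁₂.trans h₂₃)) v := by
  have hc : Submodule.inclusion h₂₃ ∘ₗ Submodule.inclusion h₁₂ =
      Submodule.inclusion (h₁₂.trans h₂₃) := LinearMap.ext fun x => rfl
  rw [← hc, LinearMap.lTensor_comp]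
  rfl

include hdir hcov in
/-- every element of `Y ⊗ K` comes from `Y ⊗ K_s` for some member of a directed covering
family. -/
lemma exists_lTensor_inclusion_eq (Y : Type u) [AddCommGroup Y] [Module A Y] (w : Y ⊗[A] K) :
    ∃ (s : σ) (ws : Y ⊗[A] (Ks s)),
      LinearMap.lTensor Y (Submodule.inclusion (hle s)) ws = w := by
  induction w using TensorProduct.induction_on with
  | zero =>
    obtain ⟨s, _⟩ := hcov 0 K.zero_mem
    exact ⟨s, 0, map_zero _⟩
  | tmul y k =>
    obtain ⟨s, hs⟩ := hcov k.1 k.2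
    refine ⟨s, y ⊗ₜ[A] ⟨k.1, hs⟩, ?_⟩
    rw [LinearMap.lTensor_tmul]
    exact congrArg (fun z => y ⊗ₜ[A] z) (Subtype.ext rfl)
  | add w₁ w₂ h₁ h₂ =>
    obtain ⟨s₁, v₁, hv₁⟩ := h₁
    obtain ⟨s₂, v₂, hv₂⟩ := h₂
    obtain ⟨t, ht₁, ht₂⟩ := hdir s₁ s₂
    refine ⟨t, LinearMap.lTensor Y (Submodule.inclusion ht₁) v₁ +
      LinearMap.lTensor Y (Submodule.inclusion ht₂) v₂, ?_⟩
    rw [map_add, lTensor_inclusion_inclusion, lTensor_inclusion_inclusion, hv₁, hv₂]

variable {ι : Type} {c : ComplexShape ι}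

include hle hdir hcov in
/-- `H_p(P ⊗ -)` vanishes on `X/K` as soon as it vanishes on `X/K_s` for a directed family of
submodules `K_s` with union `K`. -/
theorem TFun_subsingleton_quot_of_directed (P : HomologicalComplex (ModuleCat.{u} A) c) (p : ι)
    (hz : ∀ s, Subsingleton ((CohIII.TFun P p).obj (ModuleCat.of A (X ⧸ Ks s)))) :
    Subsingleton ((CohIII.TFun P p).obj (ModuleCat.of A (X ⧸ K))) := by
  suffices H : ∀ h : (CohIII.TFun P p).obj (ModuleCat.of A (X ⧸ K)), h = 0 from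
    ⟨fun a b => (H a).trans (H b).symm⟩
  intro h
  obtain ⟨x, hx, rfl⟩ := clsT_surjective P p (ModuleCat.of A (X ⧸ K)) h
  rw [clsT_eq_zero_iff]
  obtain ⟨xt, hxt⟩ := LinearMap.lTensor_surjective (P.X p) (Submodule.mkQ_surjective K) x
  have hb : LinearMap.lTensor (P.X (c.next p)) K.mkQ
      (LinearMap.rTensor X (P.d p (c.next p)).hom xt) = 0 := by
    have e := rTensor_lTensor_comm (P.d p (c.next p)).hom K.mkQ xt
    rw [← e, hxt]
    exact hx
  obtain ⟨w, hw⟩ := (lTensor_exact (P.X (c.next p)) (LinearMap.exact_subtype_mkQ K)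
    (Submodule.mkQ_surjective K) _).mp hb
  obtain ⟨s, ws, hws⟩ := exists_lTensor_inclusion_eq K Ks hle hdir hcov (P.X (c.next p)) w
  have hcomp : ((Ks s).mkQ ∘ₗ K.subtype) ∘ₗ Submodule.inclusion (hle s) = 0 :=
    LinearMap.ext fun k => (Submodule.Quotient.mk_eq_zero _).mpr k.2
  have e2 : LinearMap.lTensor (P.X (c.next p)) (Ks s).mkQ
      (LinearMap.lTensor (P.X (c.next p)) K.subtype
        (LinearMap.lTensor (P.X (c.next p)) (Submodule.inclusion (hle s)) ws)) = 0 := by
    have e3 : LinearMap.lTensor (P.X (c.next p))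
        (((Ks s).mkQ ∘ₗ K.subtype) ∘ₗ Submodule.inclusion (hle s)) ws = 0 := by
      rw [hcomp, LinearMap.lTensor_zero, LinearMap.zero_apply]
    rw [LinearMap.lTensor_comp, LinearMap.lTensor_comp] at e3
    exact e3
  have hcyc : LinearMap.rTensor (X ⧸ Ks s) (P.d p (c.next p)).hom
      (LinearMap.lTensor (P.X p) (Ks s).mkQ xt) = 0 := by
    rw [rTensor_lTensor_comm, ← hw, ← hws]
    exact e2
  haveI := hz s
  have h0 : clsT P p (ModuleCat.of A (X ⧸ Ks s)) (LinearMap.lTensor (P.X p) (Ks s).mkQ xt) hcyc = 0 :=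
    Subsingleton.elim _ _
  obtain ⟨ys, hys⟩ := (clsT_eq_zero_iff P p (ModuleCat.of A (X ⧸ Ks s)) _ hcyc).mp h0
  refine ⟨LinearMap.lTensor (P.X (c.prev p)) (Submodule.factor (hle s)) ys, ?_⟩
  have e1 := rTensor_lTensor_comm (P.d (c.prev p) p).hom (Submodule.factor (hle s)) ys
  have e4 : LinearMap.lTensor (P.X p) (Submodule.factor (hle s))
      (LinearMap.lTensor (P.X p) (Ks s).mkQ xt) = x := by
    have e5 : LinearMap.lTensor (P.X p) ((Submodule.factor (hle s)) ∘ₗ (Ks s).mkQ) xt = x := by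
      rw [Submodule.factor_comp_mk]
      exact hxt
    rw [LinearMap.lTensor_comp] at e5
    exact e5
  exact e1.trans ((congrArg (LinearMap.lTensor (P.X p) (Submodule.factor (hle s))) hys).trans e4)

include hle hdir hcov in
/-- `Tor_n(M, -)` vanishes on `X/K` as soon as it vanishes on `X/K_s` for a directed family of
submodules `K_s` with union `K`. -/
theorem Tor_subsingleton_quot_of_directed (M : ModuleCat.{u} A) (n : ℕ)
    (hz : ∀ s, Subsingleton (((Tor (ModuleCat.{u} A) n).obj M).obj (ModuleCat.of A (X ⧸ Ks s)))) :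
    Subsingleton (((Tor (ModuleCat.{u} A) n).obj M).obj (ModuleCat.of A (X ⧸ K))) := by
  have e : ∀ Y : ModuleCat.{u} A, ((Tor (ModuleCat.{u} A) n).obj M).obj Y ≃ₗ[A]
      (CohIII.TFun (ProjectiveResolution.of M).complex n).obj Y :=
    fun Y => ((torObjNatIso n M).app Y).toLinearEquiv
  have hz' : ∀ s, Subsingleton ((CohIII.TFun (ProjectiveResolution.of M).complex n).obj
      (ModuleCat.of A (X ⧸ Ks s))) := by
    intro s
    haveI := hz s
    exact (e _).symm.toEquiv.subsingleton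
  haveI := TFun_subsingleton_quot_of_directed K Ks hle hdir hcov
    (ProjectiveResolution.of M).complex n hz'
  exact (e _).toEquiv.subsingleton

end union

end Groth.Agent.Lib.Helper7
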