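import Mathlib
import Groth.Prelude.Def_ega3
import Groth.Agent.Lib.Helper7.PerfBasic
import Groth.Agent.Lib.Helper7.TorUnion
import Groth.Agent.Lib.Helper7.TorBC
import Groth.Agent.Lib.Helper7.TorLES
import Groth.Agent.Lib.Helper7.TorUCT
import Groth.Agent.Lib.Helper7.TorBasic
import Groth.Agent.Lib.Helper7.TorBalance3
import Groth.Agent.S14262
set_option autoImplicit false
universe u
open CategoryTheory CategoryTheory.Limits MonoidalCategory TensorProduct

namespace Groth.Agent.Lib.Helper7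

section T1
variable {p : ℕ} {A : Type u} [CommRing A] (hA : IsPerf p A) (f : A)

/-- iterated `p`-th roots of `f`. -/
noncomputable def rootSeq : ℕ → A
  | 0 => f
  | n + 1 => hA.root (rootSeq n)

lemma rootSeq_succ_pow (n : ℕ) : rootSeq hA f (n + 1) ^ p = rootSeq hA f n := by
  show (hA.root (rootSeq hA f n)) ^ p = rootSeq hA f n
  exact hA.root_pow _

lemma rootSeq_pow (n : ℕ) : rootSeq hA f n ^ p ^ n = f := by
  induction n with
  | zero =>
    show f ^ p ^ 0 = f
    rw [pow_zero, pow_one]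
  | succ n ih => rw [pow_succ', pow_mul, rootSeq_succ_pow, ih]

lemma rootSeq_mem (n : ℕ) : rootSeq hA f n ∈ (Ideal.span {f}).radical :=
  Ideal.mem_radical_iff.mpr ⟨p ^ n, by
    rw [rootSeq_pow]
    exact Ideal.mem_span_singleton_self f⟩

lemma rootSeq_eq [hp : Fact p.Prime] (n : ℕ) :
    rootSeq hA f n = rootSeq hA f (n + 1) ^ (p - 1) * rootSeq hA f (n + 1) := by
  rw [← pow_succ, Nat.sub_add_cancel hp.out.pos, rootSeq_succ_pow]

lemma exists_eq_mul_rootSeq [hp : Fact p.Prime] (x : A) (hx : x ∈ (Ideal.span {f}).radical) :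
    ∃ (N : ℕ) (a : A), x = a * rootSeq hA f N := by
  obtain ⟨k, hk⟩ := Ideal.mem_radical_iff.mp hx
  have hkp : k ≤ p ^ k := (Nat.lt_pow_self hp.out.one_lt).le
  have h1 : x ^ p ^ k ∈ Ideal.span {f} := by
    have e : p ^ k = (p ^ k - k) + k := (Nat.sub_add_cancel hkp).symm
    rw [e, pow_add]
    exact Ideal.mul_mem_left _ _ hk
  obtain ⟨c, hc⟩ := Ideal.mem_span_singleton'.mp h1
  obtain ⟨r, hr⟩ := hA.exists_pow_pow_eq k c
  refine ⟨k, r, ?_⟩
  apply hA.pow_pow_injective k
  show x ^ p ^ k = (r * rootSeq hA f k) ^ p ^ k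
  rw [mul_pow, hr, rootSeq_pow, hc]

/-- the iterated roots as elements of the radical. -/
noncomputable def rootElt (n : ℕ) : ↥((Ideal.span {f}).radical) :=
  ⟨rootSeq hA f n, rootSeq_mem hA f n⟩

lemma rootElt_eq_smul [Fact p.Prime] (n : ℕ) :
    rootElt hA f n = (rootSeq hA f (n + 1) ^ (p - 1)) • rootElt hA f (n + 1) := by
  apply Subtype.ext
  show rootSeq hA f n = rootSeq hA f (n + 1) ^ (p - 1) * rootSeq hA f (n + 1)
  exact rootSeq_eq hA f n

lemma tmul_rootElt_shift [Fact p.Prime] {C : Type u} [AddCommGroup C] [Module A C] (n d : ℕ)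
    (c : C) : ∃ c' : C, (rootElt hA f n) ⊗ₜ[A] c = (rootElt hA f (n + d)) ⊗ₜ[A] c' := by
  induction d with
  | zero => exact ⟨c, rfl⟩
  | succ d ih =>
    obtain ⟨c', h⟩ := ih
    refine ⟨(rootSeq hA f (n + d + 1) ^ (p - 1)) • c', ?_⟩
    rw [h, rootElt_eq_smul hA f (n + d), TensorProduct.smul_tmul]
    rfl

lemma exists_tmul_rootElt [Fact p.Prime] {C : Type u} [AddCommGroup C] [Module A C]
    (z : ↥((Ideal.span {f}).radical) ⊗[A] C) :
    ∃ (n : ℕ) (c : C), z = (rootElt hA f n) ⊗ₜ[A] c := by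
  induction z using TensorProduct.induction_on with
  | zero => exact ⟨0, 0, by rw [TensorProduct.tmul_zero]⟩
  | tmul x c =>
    obtain ⟨N, a, ha⟩ := exists_eq_mul_rootSeq hA f x.1 x.2
    refine ⟨N, a • c, ?_⟩
    have hx : x = a • rootElt hA f N := Subtype.ext ha
    rw [hx, TensorProduct.smul_tmul]
  | add z₁ z₂ h₁ h₂ =>
    obtain ⟨n₁, c₁, rfl⟩ := h₁
    obtain ⟨n₂, c₂, rfl⟩ := h₂
    obtain ⟨c₁', e₁⟩ := tmul_rootElt_shift hA f n₁ n₂ c₁
    obtain ⟨c₂', e₂⟩ := tmul_rootElt_shift hA f n₂ n₁ c₂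
    rw [Nat.add_comm n₂ n₁] at e₂
    exact ⟨n₁ + n₂, c₁' + c₂', by rw [e₁, e₂, TensorProduct.tmul_add]⟩

include hA in
lemma rTensor_subtype_eq_zero [hp : Fact p.Prime] {C : Type u} [CommRing C] [Algebra A C]
    (hC : ∀ c : C, c ^ p = 0 → c = 0) (z : ↥((Ideal.span {f}).radical) ⊗[A] C)
    (hz : LinearMap.rTensor C ((Ideal.span {f}).radical).subtype z = 0) : z = 0 := by
  obtain ⟨n, c, rfl⟩ := exists_tmul_rootElt hA f z
  rw [LinearMap.rTensor_tmul] at hz
  have h1 : rootSeq hA f n • c = 0 := by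
    have h := congrArg (TensorProduct.lid A C) hz
    rw [TensorProduct.lid_tmul, map_zero] at h
    exact h
  have h1' : algebraMap A C (rootSeq hA f n) * c = 0 := by
    rw [← Algebra.smul_def]
    exact h1
  have hcp : c ^ p = c * c ^ (p - 1) := by
    rw [← pow_succ', Nat.sub_add_cancel hp.out.pos]
  have h2 : rootSeq hA f (n + 1) • c = 0 := by
    apply hC
    rw [Algebra.smul_def, mul_pow, ← map_pow, rootSeq_succ_pow, hcp, ← mul_assoc, h1', zero_mul]
  have h3 : (rootSeq hA f (n + 1) ^ (p - 1)) • c = 0 := by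
    have e : rootSeq hA f (n + 1) ^ (p - 1) =
        rootSeq hA f (n + 1) ^ (p - 2) * rootSeq hA f (n + 1) := by
      rw [← pow_succ]
      congr 1
      have := hp.out.two_le
      omega
    rw [e, mul_smul, h2, smul_zero]
  rw [rootElt_eq_smul hA f n, TensorProduct.smul_tmul, h3, TensorProduct.tmul_zero]

include hA in
/-- `Tor_i^A(A/rad(f), C) = 0` for a perfect ring `A` and a reduced-type `A`-algebra `C`. -/
theorem tor_quot_radical_singleton [hp : Fact p.Prime] [CharP A p]
    (C : Type u) [CommRing C] [Algebra A C] (hC : ∀ c : C, c ^ p = 0 → c = 0) (i : ℕ)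
    (hi : 0 < i) :
    Subsingleton (((Tor (ModuleCat.{u} A) i).obj
      (ModuleCat.of A (A ⧸ (Ideal.span {f}).radical))).obj (ModuleCat.of A C)) := by
  haveI : PerfectRing A p := ⟨hA.2⟩
  haveI hflat : Module.Flat A ((Ideal.span {f}).radical) := Groth.Agent.S14262.result p A f
  have hf := ((Ideal.span {f}).radical).injective_subtype
  have hfg := LinearMap.exact_subtype_mkQ ((Ideal.span {f}).radical)
  have hg := Submodule.mkQ_surjective ((Ideal.span {f}).radical)
  obtain ⟨k, rfl⟩ : ∃ k, i = k + 1 := Nat.exists_eq_succ_of_ne_zero hi.ne'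
  cases k with
  | zero =>
    obtain ⟨e⟩ := nonempty_Tor1_equiv_ker' ((Ideal.span {f}).radical).subtype
      ((Ideal.span {f}).radical).mkQ hf hfg hg C
    haveI : Subsingleton (LinearMap.ker
        (LinearMap.rTensor C ((Ideal.span {f}).radical).subtype)) :=
      ⟨fun a b => Subtype.ext ((rTensor_subtype_eq_zero hA f hC a.1 a.2).trans
        (rTensor_subtype_eq_zero hA f hC b.1 b.2).symm)⟩
    exact e.toEquiv.subsingleton
  | succ k =>
    obtain ⟨e⟩ := nonempty_Tor_shift' ((Ideal.span {f}).radical).subtype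
      ((Ideal.span {f}).radical).mkQ hf hfg hg (ModuleCat.of A C) k
    haveI := Tor_subsingleton_of_flat_left (ModuleCat.of A ((Ideal.span {f}).radical))
      (ModuleCat.of A C) hflat (k + 1) (Nat.succ_pos k)
    exact e.toEquiv.subsingleton

end T1

section T2

lemma comap_radical_span_eq {A : Type u} [CommRing A] {r : ℕ} (s : Fin (r + 1) → A) :
    Ideal.comap (Ideal.Quotient.mk (Ideal.span {s 0}).radical)
      (Ideal.span (Set.range fun j : Fin r =>
        Ideal.Quotient.mk (Ideal.span {s 0}).radical (s j.succ))).radical =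
      (Ideal.span (Set.range s)).radical := by
  have h1 : Ideal.span (Set.range fun j : Fin r =>
      Ideal.Quotient.mk (Ideal.span {s 0}).radical (s j.succ)) =
      Ideal.map (Ideal.Quotient.mk (Ideal.span {s 0}).radical)
        (Ideal.span (Set.range fun j : Fin r => s j.succ)) := by
    rw [Ideal.map_span]
    congr 1
    ext x
    constructor
    · rintro ⟨j, rfl⟩
      exact ⟨s j.succ, ⟨j, rfl⟩, rfl⟩
    · rintro ⟨_, ⟨j, rfl⟩, rfl⟩
      exact ⟨j, rfl⟩
  have h2 : Ideal.span (Set.range s) =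
      Ideal.span {s 0} ⊔ Ideal.span (Set.range fun j : Fin r => s j.succ) := by
    rw [← Ideal.span_union]
    congr 1
    ext x
    constructor
    · rintro ⟨j, rfl⟩
      refine Fin.cases ?_ (fun j => ?_) j
      · exact Or.inl rfl
      · exact Or.inr ⟨j, rfl⟩
    · rintro (h | ⟨j, rfl⟩)
      · rw [Set.mem_singleton_iff] at h
        exact ⟨0, h.symm⟩
      · exact ⟨j.succ, rfl⟩
  rw [Ideal.comap_radical, h1, Ideal.comap_map_of_surjective _ Ideal.Quotient.mk_surjective,
    ← RingHom.ker_eq_comap_bot, Ideal.mk_ker, h2,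
    Ideal.radical_sup (Ideal.span {s 0}) (Ideal.span (Set.range fun j : Fin r => s j.succ)),
    Ideal.radical_sup (Ideal.span (Set.range fun j : Fin r => s j.succ))
      (Ideal.span {s 0}).radical,
    Ideal.radical_idem, sup_comm]

theorem nonempty_quot_equiv_quot_quot {A : Type u} [CommRing A] (I₀ : Ideal A)
    (I' : Ideal (A ⧸ I₀)) (I : Ideal A) (h : Ideal.comap (Ideal.Quotient.mk I₀) I' = I) :
    Nonempty ((A ⧸ I) ≃ₗ[A] ((A ⧸ I₀) ⧸ I')) := by
  let g : A →ₗ[A] ((A ⧸ I₀) ⧸ I') := (I'.mkQ.restrictScalars A).comp I₀.mkQ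
  have hg : Function.Surjective g := by
    intro y
    obtain ⟨y', rfl⟩ := Submodule.mkQ_surjective I' y
    obtain ⟨a, rfl⟩ := Submodule.mkQ_surjective I₀ y'
    exact ⟨a, rfl⟩
  have hker : LinearMap.ker g = I := by
    rw [← h]
    ext x
    rw [LinearMap.mem_ker]
    show (Submodule.Quotient.mk (Submodule.Quotient.mk x) : (A ⧸ I₀) ⧸ I') = 0 ↔
      x ∈ Ideal.comap (Ideal.Quotient.mk I₀) I'
    rw [Submodule.Quotient.mk_eq_zero]
    rfl
  exact ⟨(Submodule.quotEquivOfEq _ _ hker).symm.trans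
    (LinearMap.quotKerEquivOfSurjective g hg)⟩

/-- `Tor_i^A(C, A/rad(f_1, …, f_r)) = 0` for perfect `A` and perfect `A`-algebras `C`. -/
theorem tor_quot_radical_span_range {p : ℕ} [hp : Fact p.Prime] :
    ∀ (r : ℕ) (A : Type u) [CommRing A] (_ : IsPerf p A) (C : Type u) [CommRing C]
      [Algebra A C] (_ : IsPerf p C) (s : Fin r → A) (i : ℕ) (_ : 0 < i),
      Subsingleton (((Tor (ModuleCat.{u} A) i).obj (ModuleCat.of A C)).obj
        (ModuleCat.of A (A ⧸ (Ideal.span (Set.range s)).radical))) := by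
  intro r
  induction r with
  | zero =>
    intro A _ hA C _ _ hC s i hi
    have hbot : (Ideal.span (Set.range s)).radical = ⊥ := by
      rw [eq_bot_iff]
      intro x hx
      obtain ⟨k, hk⟩ := Ideal.mem_radical_iff.mp hx
      have hr : Set.range s = ∅ := Set.range_eq_empty s
      rw [hr, Ideal.span_empty, Ideal.mem_bot] at hk
      rw [Ideal.mem_bot]
      exact hA.isReduced_aux hk
    have e : (A ⧸ (Ideal.span (Set.range s)).radical) ≃ₗ[A] A :=
      Submodule.quotEquivOfEqBot _ hbot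
    have hfl : Module.Flat A (A ⧸ (Ideal.span (Set.range s)).radical) :=
      Module.Flat.of_linearEquiv e
    exact Tor_subsingleton_of_flat_right (ModuleCat.of A C)
      (ModuleCat.of A (A ⧸ (Ideal.span (Set.range s)).radical)) hfl i hi
  | succ r ih =>
    intro A _ hA C _ _ hC s i hi
    rcases subsingleton_or_nontrivial A with hsub | hnt
    · exact Module.subsingleton A _
    · haveI : CharP A p := (CharP.charP_iff_prime_eq_zero hp.out).mpr hA.1
      have hA' : IsPerf p (A ⧸ (Ideal.span {s 0}).radical) :=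
        hA.quotient _ (Ideal.radical_isRadical _)
      have hC' : IsPerf p ((A ⧸ (Ideal.span {s 0}).radical) ⊗[A] C) :=
        IsPerf.tensor hA hA' hC
      have hP : ∀ q : ℕ, 0 < q → Subsingleton (((Tor (ModuleCat.{u} A) q).obj
          (ModuleCat.of A C)).obj (ModuleCat.of A (A ⧸ (Ideal.span {s 0}).radical))) := by
        intro q hq
        haveI := tor_quot_radical_singleton hA (s 0) C
          (fun c hc => hC.eq_zero_of_pow_eq_zero hc) q hq
        obtain ⟨e⟩ := nonempty_Tor_equiv_flip (ModuleCat.of A C)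
          (ModuleCat.of A (A ⧸ (Ideal.span {s 0}).radical)) q
        exact e.toEquiv.subsingleton
      have hIH := ih (A ⧸ (Ideal.span {s 0}).radical) hA'
        ((A ⧸ (Ideal.span {s 0}).radical) ⊗[A] C) hC'
        (fun j : Fin r => Ideal.Quotient.mk (Ideal.span {s 0}).radical (s j.succ)) i hi
      have halg : (Ideal.Quotient.algebra A : Algebra A (A ⧸ (Ideal.span {s 0}).radical)) =
          (Ideal.Quotient.mk (Ideal.span {s 0}).radical).toAlgebra :=
        Algebra.algebra_ext _ _ (fun r => rfl)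
      obtain ⟨ψ, hψ⟩ := exists_semilinear_Tor_of_vanishing
        (Ideal.Quotient.mk (Ideal.span {s 0}).radical) halg C
        ((A ⧸ (Ideal.span {s 0}).radical) ⧸ (Ideal.span (Set.range fun j : Fin r =>
          Ideal.Quotient.mk (Ideal.span {s 0}).radical (s j.succ))).radical) hP i
      have h3 : Subsingleton (((Tor (ModuleCat.{u} A) i).obj (ModuleCat.of A C)).obj
          (ModuleCat.of A ((A ⧸ (Ideal.span {s 0}).radical) ⧸
            (Ideal.span (Set.range fun j : Fin r =>
              Ideal.Quotient.mk (Ideal.span {s 0}).radical (s j.succ))).radical))) :=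
        @Function.Injective.subsingleton _ _ ψ hψ.1 hIH
      obtain ⟨e⟩ := nonempty_quot_equiv_quot_quot (Ideal.span {s 0}).radical
        (Ideal.span (Set.range fun j : Fin r =>
          Ideal.Quotient.mk (Ideal.span {s 0}).radical (s j.succ))).radical
        (Ideal.span (Set.range s)).radical (comap_radical_span_eq s)
      have hz := Tor_isZero_of_linearEquiv_right e (ModuleCat.of A C) i
        (@ModuleCat.isZero_of_subsingleton _ _ _ h3)
      exact ModuleCat.subsingleton_of_isZero hz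

end T2

section T3

/-- `Tor_i^A(C, A/I) = 0` for perfect `A`, a perfect `A`-algebra `C` and a radical ideal `I`. -/
theorem tor_quot_radical {p : ℕ} [Fact p.Prime] {A : Type u} [CommRing A] (hA : IsPerf p A)
    (C : Type u) [CommRing C] [Algebra A C] (hC : IsPerf p C) (I : Ideal A) (hI : I.IsRadical)
    (i : ℕ) (hi : 0 < i) :
    Subsingleton (((Tor (ModuleCat.{u} A) i).obj (ModuleCat.of A C)).obj
      (ModuleCat.of A (A ⧸ I))) := by
  refine Tor_subsingleton_quot_of_directed (X := A) I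
    (σ := Σ r : ℕ, {s : Fin r → A // ∀ j, s j ∈ I})
    (fun t => (Ideal.span (Set.range t.2.1)).radical) ?_ ?_ ?_ (ModuleCat.of A C) i ?_
  · intro t
    show (Ideal.span (Set.range t.2.1)).radical ≤ I
    exact hI.radical_le_iff.mpr (Ideal.span_le.mpr (by
      rintro _ ⟨j, rfl⟩
      exact t.2.2 j))
  · intro t t'
    refine ⟨⟨t.1 + t'.1, ⟨Fin.append t.2.1 t'.2.1, ?_⟩⟩, ?_, ?_⟩
    · intro j
      refine Fin.addCases (fun j => ?_) (fun j => ?_) j
      · rw [Fin.append_left]
        exact t.2.2 j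
      · rw [Fin.append_right]
        exact t'.2.2 j
    · show (Ideal.span (Set.range t.2.1)).radical ≤
        (Ideal.span (Set.range (Fin.append t.2.1 t'.2.1))).radical
      apply Ideal.radical_mono
      apply Ideal.span_le.mpr
      rintro _ ⟨j, rfl⟩
      exact Ideal.subset_span ⟨Fin.castAdd t'.1 j, Fin.append_left _ _ j⟩
    · show (Ideal.span (Set.range t'.2.1)).radical ≤
        (Ideal.span (Set.range (Fin.append t.2.1 t'.2.1))).radical
      apply Ideal.radical_mono
      apply Ideal.span_le.mpr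
      rintro _ ⟨j, rfl⟩
      exact Ideal.subset_span ⟨Fin.natAdd t.1 j, Fin.append_right _ _ j⟩
  · intro k hk
    refine ⟨⟨1, ⟨fun _ => k, fun _ => hk⟩⟩, ?_⟩
    show k ∈ (Ideal.span (Set.range fun _ : Fin 1 => k)).radical
    exact Ideal.le_radical (Ideal.subset_span ⟨0, rfl⟩)
  · intro t
    exact tor_quot_radical_span_range t.1 A hA C hC t.2.1 i hi

end T3

section final

/-- S14252: `Tor_i^A(B, C) = 0` for perfect `F_p`-algebras. -/
theorem tor_perfect_subsingleton {p : ℕ} [hp : Fact p.Prime] (A B C : Type u) [CommRing A]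
    [CommRing B] [CommRing C] [CharP A p] [Algebra A B] [Algebra A C]
    (hA : IsPerf p A) (hB : IsPerf p B) (hC : IsPerf p C) (i : ℕ) (hi : 0 < i) :
    Subsingleton (((Tor (ModuleCat.{u} A) i).obj (ModuleCat.of A B)).obj (ModuleCat.of A C)) := by
  rcases subsingleton_or_nontrivial B with hsub | hnt
  · haveI : Module.Free A B := Module.Free.of_subsingleton A B
    have hfl : Module.Flat A B := inferInstance
    exact Tor_subsingleton_of_flat_left (ModuleCat.of A B) (ModuleCat.of A C) hfl i hi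
  · haveI : CharP B p := (CharP.charP_iff_prime_eq_zero hp.out).mpr hB.1
    letI : Algebra (ZMod p) A := ZMod.algebra A p
    letI : Algebra (ZMod p) B := ZMod.algebra B p
    haveI : IsScalarTower (ZMod p) A B := IsScalarTower.of_algebraMap_eq (fun z =>
      RingHom.congr_fun (Subsingleton.elim (algebraMap (ZMod p) B)
        ((algebraMap A B).comp (algebraMap (ZMod p) A))) z)
    -- the perfect flat `A`-algebra `P = A ⊗ B` and the multiplication map
    let μ : A ⊗[ZMod p] B →ₐ[A] B :=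
      Algebra.TensorProduct.lift (Algebra.ofId A B) (AlgHom.id (ZMod p) B)
        (fun _ _ => Commute.all _ _)
    have hμ : Function.Surjective μ := by
      intro b
      refine ⟨1 ⊗ₜ[ZMod p] b, ?_⟩
      show μ (1 ⊗ₜ[ZMod p] b) = b
      rw [Algebra.TensorProduct.lift_tmul, map_one, one_mul]
      rfl
    have hP : IsPerf p (A ⊗[ZMod p] B) := IsPerf.tensor (IsPerf.zmod p) hA hB
    have hPC : IsPerf p ((A ⊗[ZMod p] B) ⊗[A] C) := IsPerf.tensor hA hP hC
    haveI hflat : Module.Flat A (A ⊗[ZMod p] B) := inferInstance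
    letI algPB : Algebra (A ⊗[ZMod p] B) B := μ.toRingHom.toAlgebra
    haveI : IsScalarTower A (A ⊗[ZMod p] B) B :=
      IsScalarTower.of_algebraMap_eq (fun a => (μ.commutes a).symm)
    have halgP : (Algebra.TensorProduct.leftAlgebra : Algebra A (A ⊗[ZMod p] B)) =
        (algebraMap A (A ⊗[ZMod p] B)).toAlgebra := Algebra.algebra_ext _ _ (fun r => rfl)
    obtain ⟨ψ, hψ⟩ := exists_semilinear_Tor_flat (algebraMap A (A ⊗[ZMod p] B)) halgP B C i
    -- `B = P/J` with `J` radical
    have hsurj : Function.Surjective (Algebra.linearMap (A ⊗[ZMod p] B) B) := hμ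
    have hJ : Ideal.IsRadical (LinearMap.ker (Algebra.linearMap (A ⊗[ZMod p] B) B) :
        Ideal (A ⊗[ZMod p] B)) := by
      intro x hx
      obtain ⟨n, hn⟩ := Ideal.mem_radical_iff.mp hx
      rw [LinearMap.mem_ker, Algebra.linearMap_apply, map_pow] at hn
      rw [LinearMap.mem_ker, Algebra.linearMap_apply]
      exact hB.isReduced_aux hn
    have e : (A ⊗[ZMod p] B ⧸ (LinearMap.ker (Algebra.linearMap (A ⊗[ZMod p] B) B) :
        Ideal (A ⊗[ZMod p] B))) ≃ₗ[A ⊗[ZMod p] B] B :=
      LinearMap.quotKerEquivOfSurjective (Algebra.linearMap (A ⊗[ZMod p] B) B) hsurj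
    have h1 := tor_quot_radical hP ((A ⊗[ZMod p] B) ⊗[A] C) hPC _ hJ i hi
    obtain ⟨e2⟩ := nonempty_Tor_equiv_flip
      (ModuleCat.of (A ⊗[ZMod p] B) (A ⊗[ZMod p] B ⧸
        (LinearMap.ker (Algebra.linearMap (A ⊗[ZMod p] B) B) : Ideal (A ⊗[ZMod p] B))))
      (ModuleCat.of (A ⊗[ZMod p] B) ((A ⊗[ZMod p] B) ⊗[A] C)) i
    have h2 : Subsingleton (((Tor (ModuleCat.{u} (A ⊗[ZMod p] B)) i).obj
        (ModuleCat.of (A ⊗[ZMod p] B) (A ⊗[ZMod p] B ⧸
          (LinearMap.ker (Algebra.linearMap (A ⊗[ZMod p] B) B) : Ideal (A ⊗[ZMod p] B))))).obj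
        (ModuleCat.of (A ⊗[ZMod p] B) ((A ⊗[ZMod p] B) ⊗[A] C))) :=
      @Equiv.subsingleton _ _ e2.toEquiv h1
    have hz := Tor_isZero_of_linearEquiv_left e.symm
      (ModuleCat.of (A ⊗[ZMod p] B) ((A ⊗[ZMod p] B) ⊗[A] C)) i
      (@ModuleCat.isZero_of_subsingleton _ _ _ h2)
    have h3 := ModuleCat.subsingleton_of_isZero hz
    exact @Function.Injective.subsingleton _ _ ψ hψ.1 h3

end final

end Groth.Agent.Lib.Helper7
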