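import Mathlib
import Groth.Agent.Lib.Helper4.FaltPd
import Groth.Agent.Lib.Helper7.SyzFree

/-!
# Syzygies over a planar curve singularity `R = S/(f)`, `S` regular local of dimension two (helper7)

* `exists_cover`: for a finite `R`-module `M` of positive depth killed by `I` and a presentation
  `p : R^b ↠ M`, there is `φ : R^c → R^b` with `range φ = ker p` and `ker φ` killed by `I`
  (the matrix-factorisation cover of the first syzygy).
* `exists_regular`: a reduced such `R` has a non-zero-divisor in its maximal ideal.
* `rTensor_injective_core`: the resulting `Tor`-vanishing in linear-algebra form.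
-/

set_option autoImplicit false
universe u

namespace Groth.Agent.Lib.Helper7.PlanarSyz

open CategoryTheory IsLocalRing Groth.Agent.Lib.Helper4 TensorProduct

theorem exists_cover (S : Type u) [CommRing S] [IsRegularLocalRing S] (hS : ringKrullDim S = 2)
    (f : S) (R : Type u) [CommRing R] [IsLocalRing R] (π : S →+* R)
    (hπ : Function.Surjective π) (hker : RingHom.ker π = Ideal.span {f})
    (I : Ideal R) (M : Type u) [AddCommGroup M] [Module R M] [Module.Finite R M]
    (hI : I ≤ Module.annihilator R M) (x : R) (hx : x ∈ maximalIdeal R) (hxM : IsSMulRegular M x)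
    (b : ℕ) (p : (Fin b → R) →ₗ[R] M) (hp : Function.Surjective p) :
    ∃ (c : ℕ) (φ : (Fin c → R) →ₗ[R] (Fin b → R)), LinearMap.range φ = LinearMap.ker p ∧
      ∀ s ∈ I, ∀ t ∈ LinearMap.ker φ, s • t = 0 := by
  classical
  letI : Algebra S R := π.toAlgebra
  letI : Module S M := Module.compHom M π
  haveI : IsScalarTower S R M := IsScalarTower.of_algebraMap_smul (fun s m => rfl)
  haveI : Module.Finite S R := Module.Finite.of_surjective (Algebra.linearMap S R) hπ
  haveI : Module.Finite S M := Module.Finite.trans R M
  haveI : IsLocalRing S := inferInstance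
  haveI : IsNoetherianRing S := inferInstance
  have hsm : ∀ (s : S) (m : M), s • m = π s • m := fun s m => rfl
  -- pd_S M ≤ 1
  have hpd : HasProjectiveDimensionLE (ModuleCat.of S M) 1 := by
    have h1 : ((1 : ℕ) : ℕ∞) ≤ LocCoh.depth S M := by
      by_cases hsub : Subsingleton M
      · rw [depth_eq_top_of_subsingleton]; exact le_top
      · haveI : Nontrivial M := not_subsingleton_iff_nontrivial.1 hsub
        have hmM : maximalIdeal S • (⊤ : Submodule S M) ≠ ⊤ := maximalIdeal_smul_top_ne_top
        obtain ⟨x', hx'⟩ := hπ x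
        have hx'm : x' ∈ maximalIdeal S := by
          rw [mem_maximalIdeal, mem_nonunits_iff]
          intro hu
          have hux : IsUnit x := hx' ▸ hu.map π
          exact ((mem_maximalIdeal x).1 hx) hux
        have hreg : IsSMulRegular M x' := by
          intro m₁ m₂ h
          apply hxM
          have h' : x' • m₁ = x' • m₂ := h
          rw [hsm, hsm, hx'] at h'
          exact h'
        have := (one_le_idealDepth_iff (maximalIdeal S) hmM).2 ⟨x', hx'm, hreg⟩
        show ((1 : ℕ) : ℕ∞) ≤ LocCoh.idealDepth (maximalIdeal S) M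
        exact_mod_cast this
    exact Falt.hasProjectiveDimensionLE_of_depth S 2 (by rw [hS]; rfl) 1 M 1 h1 (by norm_num)
  let L : (Fin b → S) →ₗ[S] (Fin b → R) := (Algebra.linearMap S R).compLeft (Fin b)
  have hL : ∀ v j, L v j = π (v j) := fun v j => rfl
  have hLsurj : Function.Surjective L := by
    intro k
    choose v hv using fun j => hπ (k j)
    exact ⟨v, funext hv⟩
  let q : (Fin b → S) →ₗ[S] M := (p.restrictScalars S).comp L
  have hq : ∀ v, q v = p (L v) := fun v => rfl
  have hqsurj : Function.Surjective q := hp.comp hLsurj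
  let KS : Submodule S (Fin b → S) := LinearMap.ker q
  have hKSfree : Module.Free S KS := by
    apply SyzFree.free_of_hasProjectiveDimensionLT_one S KS
    let SC : ShortComplex (ModuleCat.{u} S) :=
      ModuleCat.shortComplexOfCompEqZero KS.subtype q
        (LinearMap.exact_subtype_ker_map q).linearMap_comp_eq_zero
    have hSC : SC.ShortExact := ModuleCat.shortComplex_shortExact SC
      (LinearMap.exact_subtype_ker_map q) KS.injective_subtype hqsurj
    have h2 : HasProjectiveDimensionLT SC.X₂ 1 := by
      haveI : Projective (ModuleCat.of S (Fin b → S)) :=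
        (IsProjective.iff_projective (R := S) (Fin b → S)).1 inferInstance
      exact hasProjectiveDimensionLT_of_ge (ModuleCat.of S (Fin b → S)) 1 1 le_rfl
    have h3 : HasProjectiveDimensionLT SC.X₃ (1 + 1) := hpd
    exact hSC.hasProjectiveDimensionLT_X₁ 1 h2 h3
  haveI := hKSfree
  let e := Module.finBasis S KS
  let v : Fin (Module.finrank S KS) → (Fin b → R) := fun i => L (e i : Fin b → S)
  let φ : (Fin (Module.finrank S KS) → R) →ₗ[R] (Fin b → R) := Fintype.linearCombination R v
  have hφ : ∀ t, φ t = ∑ i, t i • v i := fun t => Fintype.linearCombination_apply R v t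
  have key : ∀ τ : Fin (Module.finrank S KS) → S,
      L ((∑ i, τ i • e i : KS) : Fin b → S) = φ (fun i => π (τ i)) := by
    intro τ
    rw [hφ, Submodule.coe_sum, map_sum]
    refine Finset.sum_congr rfl (fun i _ => ?_)
    rw [Submodule.coe_smul, map_smul]
    exact (algebraMap_smul R (τ i) (v i)).symm
  refine ⟨Module.finrank S KS, φ, ?_, ?_⟩
  · apply le_antisymm
    · rintro _ ⟨t, rfl⟩
      rw [LinearMap.mem_ker, hφ, map_sum]
      refine Finset.sum_eq_zero (fun i _ => ?_)
      rw [map_smul]
      have hvi : p (v i) = 0 := (e i).2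
      rw [hvi, smul_zero]
    · intro k hk
      obtain ⟨w, rfl⟩ := hLsurj k
      have hw : w ∈ KS := hk
      have hrep : (∑ i, e.repr ⟨w, hw⟩ i • e i : KS) = ⟨w, hw⟩ := e.sum_repr _
      refine ⟨fun i => π (e.repr ⟨w, hw⟩ i), ?_⟩
      rw [← key, hrep]
  · intro s hs t ht
    obtain ⟨s', hs'⟩ := hπ s
    choose τ hτ using fun i => hπ (t i)
    let u : KS := ∑ i, τ i • e i
    have hu : L (u : Fin b → S) = 0 := by
      rw [key]
      have hτ' : (fun i => π (τ i)) = t := funext hτ
      rw [hτ']
      exact ht
    have hcomp : ∀ j, ∃ a, a * f = (u : Fin b → S) j := by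
      intro j
      have h0 : π ((u : Fin b → S) j) = 0 := congrFun hu j
      have hm : (u : Fin b → S) j ∈ Ideal.span {f} := by
        rw [← hker]; exact (RingHom.mem_ker).2 h0
      exact Ideal.mem_span_singleton'.1 hm
    choose w hw using hcomp
    have hsw : s' • w ∈ KS := by
      show q (s' • w) = 0
      rw [map_smul, hsm, hs']
      exact Module.mem_annihilator.1 (hI hs) _
    let u' : KS := ⟨s' • w, hsw⟩
    have heq : f • u' = s' • u := by
      apply Subtype.ext
      funext j
      show f * (s' * w j) = s' * (u : Fin b → S) j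
      rw [← hw j]; ring
    have hπf : π f = 0 := by
      have : f ∈ RingHom.ker π := by rw [hker]; exact Ideal.mem_span_singleton_self f
      exact (RingHom.mem_ker).1 this
    funext i
    have h1 : f * e.repr u' i = s' * e.repr u i := by
      have := congrArg (fun z => e.repr z i) heq
      simpa only [map_smul, Finsupp.smul_apply, smul_eq_mul] using this
    have h2 : e.repr u i = τ i := congrFun (e.repr_sum_self τ) i
    rw [h2] at h1
    have h3 := congrArg π h1
    rw [map_mul, map_mul, hπf, zero_mul, hs', hτ] at h3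
    show s * t i = 0
    exact h3.symm

theorem exists_regular (S : Type u) [CommRing S] [IsRegularLocalRing S] (hS : ringKrullDim S = 2)
    (f : S) (R : Type u) [CommRing R] [IsLocalRing R] [IsReduced R] (π : S →+* R)
    (hπ : Function.Surjective π) (hker : RingHom.ker π = Ideal.span {f}) :
    ∃ g ∈ maximalIdeal R, IsSMulRegular R g := by
  classical
  haveI : IsNoetherianRing S := inferInstance
  haveI : IsNoetherianRing R := isNoetherianRing_of_surjective S R π hπ
  by_contra hcon
  push Not at hcon
  obtain ⟨P, hP, hle⟩ :=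
    (forall_not_isSMulRegular_iff_exists_le_associatedPrime (M := R) (maximalIdeal R)).1 hcon
  obtain ⟨hPprime, r, hr⟩ := (isAssociatedPrime_iff (I := P) (M := R)).1 hP
  have hmem : ∀ a : R, a ∈ P ↔ a * r = 0 := by
    intro a
    rw [hr, Submodule.mem_colon_singleton, Submodule.mem_bot, smul_eq_mul]
  have hr0 : r ≠ 0 := by
    intro h0
    apply hPprime.ne_top
    rw [Ideal.eq_top_iff_one, hmem, h0, mul_zero]
  have hrunit : IsUnit r := by
    by_contra hnu
    have hrm : r ∈ maximalIdeal R := (mem_maximalIdeal r).2 hnu
    have hrr : r * r = 0 := (hmem r).1 (hle hrm)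
    exact hr0 (IsReduced.eq_zero r ⟨2, by rw [pow_two, hrr]⟩)
  have hbot : maximalIdeal R = ⊥ := by
    rw [eq_bot_iff]
    intro a ha
    have h1 : a * r = 0 := (hmem a).1 (hle ha)
    rw [Submodule.mem_bot]
    exact (hrunit.mul_left_eq_zero).1 h1
  have hfield : IsField R := (IsLocalRing.isField_iff_maximalIdeal_eq).2 hbot
  letI := hfield.toField
  have hmax : (RingHom.ker π).IsMaximal := RingHom.ker_isMaximal_of_surjective π hπ
  have hmS : maximalIdeal S = Ideal.span {f} := by
    rw [← hker]; exact (IsLocalRing.eq_maximalIdeal hmax).symm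
  have h1 : ((maximalIdeal S).spanFinrank : WithBot ℕ∞) = ringKrullDim S :=
    IsRegularLocalRing.spanFinrank_maximalIdeal
  have h2 : (maximalIdeal S).spanFinrank ≤ 1 := by
    rw [hmS]
    exact le_trans (Submodule.spanFinrank_span_le_ncard_of_finite (Set.finite_singleton f))
      (by simp)
  rw [hS] at h1
  have h3 : (maximalIdeal S).spanFinrank = 2 := by exact_mod_cast h1
  omega

lemma smul_tmul_eq_zero_left {R : Type u} [CommRing R] {A B : Type u} [AddCommGroup A] [Module R A]
    [AddCommGroup B] [Module R B] (r : R) (h : ∀ a : A, r • a = 0) (w : A ⊗[R] B) : r • w = 0 := by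
  induction w using TensorProduct.induction_on with
  | zero => simp
  | tmul a b => rw [TensorProduct.smul_tmul', h, TensorProduct.zero_tmul]
  | add x y hx hy => rw [smul_add, hx, hy, add_zero]

lemma smul_tmul_eq_zero_right {R : Type u} [CommRing R] {A B : Type u} [AddCommGroup A]
    [Module R A] [AddCommGroup B] [Module R B] (r : R) (h : ∀ b : B, r • b = 0) (w : A ⊗[R] B) :
    r • w = 0 := by
  induction w using TensorProduct.induction_on with
  | zero => simp
  | tmul a b => rw [TensorProduct.smul_tmul', TensorProduct.smul_tmul, h, TensorProduct.tmul_zero]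
  | add x y hx hy => rw [smul_add, hx, hy, add_zero]

theorem rTensor_injective_core {R : Type u} [CommRing R] (I J : Ideal R) (g : R) (n : ℕ)
    (hg : g ^ n ∈ I ⊔ J) {M X : Type u} [AddCommGroup M] [Module R M] [AddCommGroup X] [Module R X]
    (hI : ∀ s ∈ I, ∀ m : M, s • m = 0) (hJ : ∀ s ∈ J, ∀ ξ : X, s • ξ = 0)
    (hgX : IsSMulRegular X g) {b c : ℕ} (p : (Fin b → R) →ₗ[R] M)
    (φ : (Fin c → R) →ₗ[R] (Fin b → R)) (hφ : LinearMap.range φ = LinearMap.ker p)
    (hT : ∀ s ∈ I, ∀ t ∈ LinearMap.ker φ, s • t = 0) :
    Function.Injective ((LinearMap.ker p).subtype.rTensor X) := by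
  classical
  obtain ⟨a, ha, a', ha', haa⟩ := Submodule.mem_sup.1 hg
  set K := LinearMap.ker p with hK
  let φ' : (Fin c → R) →ₗ[R] K :=
    φ.codRestrict K (fun t => by rw [← hφ]; exact LinearMap.mem_range_self φ t)
  have hφ'surj : Function.Surjective φ' := by
    rintro ⟨k, hk⟩
    have : k ∈ LinearMap.range φ := by rw [hφ]; exact hk
    obtain ⟨t, rfl⟩ := this
    exact ⟨t, Subtype.ext rfl⟩
  -- regularity of g^n on P ⊗ X
  have hregP : IsSMulRegular ((Fin c → R) ⊗[R] X) (g ^ n) := by
    have hreg1 : IsSMulRegular ((Fin c → R) ⊗[R] X) g := by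
      have hinj : Function.Injective (LinearMap.lTensor (Fin c → R) (LinearMap.lsmul R X g)) :=
        Module.Flat.lTensor_preserves_injective_linearMap _ hgX
      intro w₁ w₂ h
      apply hinj
      have e : ∀ w : (Fin c → R) ⊗[R] X,
          LinearMap.lTensor (Fin c → R) (LinearMap.lsmul R X g) w = g • w := by
        intro w
        induction w using TensorProduct.induction_on with
        | zero => simp
        | tmul a b => simp [TensorProduct.tmul_smul]
        | add x y hx hy => rw [map_add, hx, hy, smul_add]
      rw [e, e]; exact h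
    exact hreg1.pow n
  set T := LinearMap.ker φ' with hTdef
  have hexact : Function.Exact (T.subtype.rTensor X) (φ'.rTensor X) :=
    rTensor_exact X (LinearMap.exact_subtype_ker_map φ') hφ'surj
  have hTkill : ∀ t : T, a • t = 0 := by
    intro t
    apply Subtype.ext
    have : (t : Fin c → R) ∈ LinearMap.ker φ := by
      have h0 : φ' t = 0 := t.2
      have := congrArg Subtype.val h0
      exact this
    exact hT a ha _ this
  have hinj1 : Function.Injective (φ'.rTensor X) := by
    rw [injective_iff_map_eq_zero]
    intro w hw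
    obtain ⟨w', rfl⟩ := (hexact w).1 hw
    have h1 : (g ^ n) • w' = 0 := by
      rw [← haa, add_smul, smul_tmul_eq_zero_left a hTkill, smul_tmul_eq_zero_right a' (hJ a' ha'),
        add_zero]
    apply hregP
    show (g ^ n) • (T.subtype.rTensor X) w' = (g ^ n) • 0
    rw [← map_smul, h1, map_zero, smul_zero]
  -- main
  rw [injective_iff_map_eq_zero]
  intro z hz
  have hgz : (g ^ n) • z = 0 := by
    have hmu : ∀ v : Fin b → R, a • v ∈ K := by
      intro v
      show p (a • v) = 0
      rw [map_smul]; exact hI a ha _
    let μ : (Fin b → R) →ₗ[R] K :=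
      (LinearMap.lsmul R (Fin b → R) a).codRestrict K hmu
    have hcomp : μ.comp K.subtype = a • LinearMap.id := by
      ext k : 1
      apply Subtype.ext
      rfl
    have haz : a • z = 0 := by
      have h1 : (μ.comp K.subtype).rTensor X z = a • z := by
        rw [hcomp, LinearMap.rTensor_smul, LinearMap.rTensor_id]; rfl
      rw [← h1, LinearMap.rTensor_comp, LinearMap.comp_apply, hz, map_zero]
    rw [← haa, add_smul, haz, smul_tmul_eq_zero_right a' (hJ a' ha'), add_zero]
  obtain ⟨w, rfl⟩ := LinearMap.rTensor_surjective X hφ'surj z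
  have h0 : (g ^ n) • w = 0 := by
    apply hinj1
    rw [map_smul, hgz, map_zero]
  have hw0 : w = 0 := hregP (by show (g ^ n) • w = (g ^ n) • 0; rw [h0, smul_zero])
  rw [hw0, map_zero]

end Groth.Agent.Lib.Helper7.PlanarSyz
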