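import Groth.Agent.Lib.Helper7.PnGeom
import Groth.Agent.Lib.Helper13.CechLocal

/-!
# Čech cohomology of `O(d)` on projective space for the standard cover
-/

set_option autoImplicit false
universe u
open CategoryTheory CategoryTheory.Limits AlgebraicGeometry TopologicalSpace Opposite
open Scheme.Modules MvPolynomial

noncomputable section

namespace Groth.Agent.Lib.Helper7.PnCech

open PnLaurent PnSections Groth.Agent.Lib.Helper3 Groth.Agent.Lib.Helper3.TwistBasic
  Groth.Agent.Lib.Helper3.QCSec Groth.Agent.Lib.Helper13 Groth.Agent.Lib.Helper13.CechBasic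
  Groth.Agent.Lib.Helper13.CechLocal

section Transfer

variable {X : TopCat.{u}} {P Q : (Opens X)ᵒᵖ ⥤ AddCommGrpCat.{u}} {ι : Type u} (V : ι → Opens X)

/-- transfer of Čech acyclicity along a morphism of presheaves which is surjective on
`(m+2)`-fold intersections and injective on `(m+3)`-fold intersections -/
theorem isZero_homology_of_transfer (α : P ⟶ Q) (m : ℕ)
    (hs : ∀ i : Fin (m + 2) → ι, Function.Surjective (α.app (op (∏ᶜ (V ∘ i)))).hom)
    (hi : ∀ i : Fin (m + 3) → ι, Function.Injective (α.app (op (∏ᶜ (V ∘ i)))).hom)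
    (hP : IsZero ((cx V P).homology (m + 1))) : IsZero ((cx V Q).homology (m + 1)) := by
  rw [← HomologicalComplex.exactAt_iff_isZero_homology,
    HomologicalComplex.exactAt_iff' _ m (m + 1) (m + 2) (by simp) (by simp),
    ShortComplex.ab_exact_iff] at hP ⊢
  intro c hc
  have hc0 : ((cx V Q).d (m + 1) (m + 2)).hom c = 0 := hc
  choose c0 hc0' using fun i => hs i ((proj V Q (m + 1) i).hom c)
  have hc' : A P V α (m + 1) (mk V P c0) = c := by
    apply ext_elem
    intro i
    rw [proj_A, proj_mk, hc0']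
  have hd : ((cx V P).d (m + 1) (m + 2)).hom (mk V P c0) = 0 := by
    apply ext_elem
    intro i
    apply hi i
    have h1 : (α.app (op (∏ᶜ (V ∘ i)))).hom ((proj V P (m + 2) i).hom
        (((cx V P).d (m + 1) (m + 2)).hom (mk V P c0))) = 0 := by
      rw [← proj_A, ← d_A, hc', hc0, map_zero]
    rw [h1, map_zero, map_zero]
  obtain ⟨b, hb⟩ := hP (mk V P c0) hd
  have hb' : ((cx V P).d m (m + 1)).hom b = mk V P c0 := hb
  refine ⟨A P V α m b, ?_⟩
  change ((cx V Q).d m (m + 1)).hom (A P V α m b) = c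
  rw [d_A, hb', hc']

end Transfer

variable (n : ℕ) (R : Type u) [CommRing R]

/-- the index set, in the universe `u` -/
abbrev Idx (n : ℕ) : Type u := ULift.{u} (Fin (n + 1))

/-- the standard cover, indexed in the universe `u` -/
def Vu (j : Idx.{u} n) : (Proj (CohB1.polyGrading n R)).Opens := V n R j.down

/-- the variables invertible on `W` -/
def SW (W : (Proj (CohB1.polyGrading n R)).Opens) : Set (Fin (n + 1)) := {i | W ≤ V n R i}

theorem SW_mono {W W' : (Proj (CohB1.polyGrading n R)).Opens} (h : W' ≤ W) :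
    SW n R W ⊆ SW n R W' := fun _ hi => h.trans hi

/-- the presheaf of "good" Laurent polynomials -/
def PL (d : ℤ) : TopCat.Presheaf AddCommGrpCat.{u} (Proj (CohB1.polyGrading n R)) where
  obj W := AddCommGrpCat.of (good R d (SW n R W.unop))
  map {W W'} f := AddCommGrpCat.ofHom
    (AddSubgroup.inclusion (good_mono (SW_mono n R (leOfHom f.unop))))
  map_id W := by ext x; rfl
  map_comp f g := by ext x; rfl

/-- the comparison morphism to the sections of `O(d)` -/
def alphaNat (d : ℤ) : PL n R d ⟶ (Twist.twist (CohB1.polyGrading n R) d).presheaf where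
  app W := AddCommGrpCat.ofHom ((alpha d W.unop).comp (good R d (SW n R W.unop)).subtype)
  naturality W W' f := by
    ext x
    exact (res_alpha (leOfHom f.unop) (fun e he => ⟨(x.2 e he).1, (x.2 e he).2.1⟩)).symm

theorem alphaNat_app (d : ℤ) (W : (Proj (CohB1.polyGrading n R)).Opens)
    (x : good R d (SW n R W)) :
    ((alphaNat n R d).app (op W)).hom x = alpha d W x.1 := rfl

/-- the pivot projections -/
def tauNat (d : ℤ) (j : Fin (n + 1)) : PL n R d ⟶ PL n R d where
  app W := AddCommGrpCat.ofHom (AddMonoidHom.codRestrict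
    ((tau j).comp (good R d (SW n R W.unop)).subtype) (good R d (SW n R W.unop))
    (fun F => tau_mem j F.2))
  naturality W W' f := by ext x; rfl

theorem tauNat_idem (d : ℤ) (j : Fin (n + 1)) :
    tauNat n R d j ≫ tauNat n R d j = tauNat n R d j := by
  ext W x
  exact Subtype.ext (tau_tau j _)

theorem le_Vu_cons (j : Idx.{u} n) {m : ℕ} (i : Fin (m + 1) → Idx.{u} n) :
    V n R j.down ⊓ ⨅ k, V n R (i k).down ≤
      ⨅ k, Vu n R ((Fin.cons j i : Fin (m + 2) → Idx.{u} n) k) := by
  refine le_iInf fun k => ?_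
  refine Fin.cases ?_ (fun k' => ?_) k
  · exact inf_le_left
  · exact inf_le_right.trans (iInf_le (fun k => V n R (i k).down) k')

theorem isLoc_PL (d : ℤ) (j : Idx.{u} n) (m : ℕ) (i : Fin (m + 1) → Idx.{u} n) :
    IsLoc (PL n R d) (fun _ => tauNat n R d j.down) (le_cons (Vu n R) j i) := by
  constructor
  · intro y
    have hS : ∀ l ∈ SW n R (∏ᶜ (Vu n R ∘ (Fin.cons j i : Fin (m + 2) → Idx.{u} n))),
        l ≠ j.down → l ∈ SW n R (∏ᶜ (Vu n R ∘ i)) := by
      intro l hl hne
      change ∏ᶜ (Vu n R ∘ (Fin.cons j i : Fin (m + 2) → Idx.{u} n)) ≤ V n R l at hl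
      change ∏ᶜ (Vu n R ∘ i) ≤ V n R l
      rw [prod_eq_iInf] at hl ⊢
      exact le_V_of_cons_le (fun k => (i k).down) j.down l hne ((le_Vu_cons n R j i).trans hl)
    refine ⟨0, ⟨tau j.down y.1, tau_mem_of_subset_insert hS y.2⟩, ?_⟩
    rfl
  · intro x hx
    refine ⟨0, ?_⟩
    obtain ⟨F, hF⟩ := x
    have hF0 : F = 0 := congrArg (fun z : good R d (SW n R
      (∏ᶜ (Vu n R ∘ (Fin.cons j i : Fin (m + 2) → Idx.{u} n)))) => (z : Lau n R)) hx
    subst hF0
    exact map_zero ((tauNat n R d j.down).app (op (∏ᶜ (Vu n R ∘ i)))).hom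

theorem isZero_homology_PL (d : ℤ) (m : ℕ) :
    IsZero ((cx (Vu n R) (PL n R d)).homology (m + 1)) := by
  refine isZero_homology (P := PL n R d) (V := Vu n R) (fun j _ => tauNat n R d j.down)
    (fun j N K => (tauNat_idem n R d j.down).symm) (fun j m i => isLoc_PL n R d j m i)
    (fun N => ⟨𝟙 _, fun _ => 𝟙 _, ?_, ?_⟩) m
  · intro W x
    change ∑ j : Idx.{u} n, ((tauNat n R d j.down).app W).hom x = x
    have h1 : ((∑ j : Idx.{u} n, ((tauNat n R d j.down).app W).hom x :
        good R d (SW n R W.unop)) : Lau n R) = ∑ j : Idx.{u} n, tau j.down x.1 := by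
      rw [← AddSubgroup.subtype_apply, map_sum]
      rfl
    have h2 := Equiv.sum_comp (Equiv.ulift.{u} (α := Fin (n + 1))) (fun j => tau j x.1)
    exact Subtype.ext (h1.trans (h2.trans (sum_tau_of_mem x.2)))
  · intro m i
    exact Function.bijective_id

end Groth.Agent.Lib.Helper7.PnCech
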