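import Groth.Agent.Lib.Helper7.PnSections2

/-!
# Geometry of the standard cover of projective space
-/

set_option autoImplicit false
universe u
open CategoryTheory CategoryTheory.Limits AlgebraicGeometry TopologicalSpace Opposite
open Scheme.Modules MvPolynomial

noncomputable section

namespace Groth.Agent.Lib.Helper7.PnSections

open PnLaurent Groth.Agent.Lib.Helper3 Groth.Agent.Lib.Helper3.TwistBasic
  Groth.Agent.Lib.Helper3.QCSec Groth.Agent.Lib.Helper6

variable {n : ℕ} {R : Type u} [CommRing R]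

/-- a point of `P^n` lying on the hyperplane `X_l = 0` and on no other coordinate hyperplane -/
theorem exists_point [Nontrivial R] {l j : Fin (n + 1)} (hjl : j ≠ l) :
    ∃ x : Proj (CohB1.polyGrading n R), (∀ i, i ≠ l → x ∈ V n R i) ∧ x ∉ V n R l := by
  classical
  obtain ⟨𝔪, h𝔪⟩ := Ideal.exists_maximal R
  haveI := h𝔪.isPrime
  let φ : MvPolynomial (Fin (n + 1)) R →+* R ⧸ 𝔪 :=
    eval₂Hom (Ideal.Quotient.mk 𝔪) (fun i => if i = l then 0 else 1)
  haveI : (RingHom.ker φ).IsPrime := RingHom.ker_isPrime φ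
  have hφX : ∀ i, φ (X i) = if i = l then 0 else 1 := fun i => eval₂Hom_X' _ _ _
  have hXmem : ∀ i, (X i : MvPolynomial (Fin (n + 1)) R) ∈ RingHom.ker φ ↔ i = l := by
    intro i
    rw [RingHom.mem_ker, hφX]
    by_cases h : i = l
    · simp [h]
    · simp [h]
  have hle : ¬ (HomogeneousIdeal.irrelevant (CohB1.polyGrading n R)).toIdeal ≤ RingHom.ker φ :=
    fun hle => hjl ((hXmem j).mp (hle
      (HomogeneousIdeal.mem_irrelevant_of_mem _ one_pos (X_mem n R j))))
  refine ⟨projPointOfPrime (CohB1.polyGrading n R) (RingHom.ker φ) hle, fun i hi => ?_, ?_⟩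
  · rw [mem_V]
    intro hmem
    exact hi ((hXmem i).mp (projPointOfPrime_le (CohB1.polyGrading n R) _ hle hmem))
  · rw [mem_V, not_not]
    exact mem_projPointOfPrime_of_homogeneous (CohB1.polyGrading n R) _ hle ⟨1, X_mem n R l⟩
      ((hXmem l).mpr rfl)

theorem nontrivial_of_point (x : Proj (CohB1.polyGrading n R)) : Nontrivial R := by
  by_contra hR
  rw [not_nontrivial_iff_subsingleton] at hR
  refine x.isPrime.ne_top ((Ideal.eq_top_iff_one _).mpr ?_)
  have : (1 : MvPolynomial (Fin (n + 1)) R) = 0 := by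
    rw [← C_1, Subsingleton.elim (1 : R) 0, C_0]
  rw [this]
  exact zero_mem _

theorem mem_iInf_V {m : ℕ} (a : Fin (m + 1) → Fin (n + 1)) (x : Proj (CohB1.polyGrading n R)) :
    x ∈ ⨅ k, V n R (a k) ↔ ∀ k, x ∈ V n R (a k) := by
  rw [← SetLike.mem_coe, Opens.coe_iInf, Set.mem_iInter]
  rfl

theorem le_V_of_cons_le {m : ℕ} (a : Fin (m + 1) → Fin (n + 1)) (j l : Fin (n + 1))
    (hlj : l ≠ j) (h : V n R j ⊓ ⨅ k, V n R (a k) ≤ V n R l) :
    ⨅ k, V n R (a k) ≤ V n R l := by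
  by_cases hl : ∃ k, a k = l
  · obtain ⟨k, rfl⟩ := hl
    exact iInf_le _ k
  · push Not at hl
    intro x hx
    haveI : Nontrivial R := nontrivial_of_point x
    obtain ⟨x', hx', hx'l⟩ := exists_point (n := n) (R := R) (Ne.symm hlj)
    exfalso
    apply hx'l
    apply h
    exact ⟨hx' j (Ne.symm hlj), (mem_iInf_V a x').mpr fun k => hx' _ (hl k)⟩

/-- the exponent vector of `∏ k, X (a k)` -/
def cvec {m : ℕ} (a : Fin (m + 1) → Fin (n + 1)) : Fin (n + 1) →₀ ℕ :=
  ∑ k, Finsupp.single (a k) 1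

theorem cvec_apply_ne_zero {m : ℕ} (a : Fin (m + 1) → Fin (n + 1)) (i : Fin (n + 1)) :
    cvec a i ≠ 0 ↔ ∃ k, a k = i := by
  classical
  rw [cvec, Finsupp.finsetSum_apply, Ne, Finset.sum_eq_zero_iff]
  push Not
  constructor
  · rintro ⟨k, _, hk⟩
    refine ⟨k, ?_⟩
    by_contra hne
    exact hk (Finsupp.single_eq_of_ne' hne)
  · rintro ⟨k, rfl⟩
    exact ⟨k, Finset.mem_univ _, by simp⟩

theorem cvec_ne_zero {m : ℕ} (a : Fin (m + 1) → Fin (n + 1)) : cvec a ≠ 0 := by
  intro h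
  have := (cvec_apply_ne_zero a (a 0)).mpr ⟨0, rfl⟩
  rw [h] at this
  exact this rfl

theorem iInf_V_eq {m : ℕ} (a : Fin (m + 1) → Fin (n + 1)) :
    ⨅ k, V n R (a k) =
      Proj.basicOpen (CohB1.polyGrading n R) (monomial (cvec a) (1 : R)) := by
  ext x
  rw [SetLike.mem_coe, SetLike.mem_coe, mem_iInf_V, Proj.mem_basicOpen]
  constructor
  · intro h
    apply monomial_one_notMem
    intro i hi
    obtain ⟨k, rfl⟩ := (cvec_apply_ne_zero a i).mp hi
    exact (mem_V n R).mp (h k)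
  · intro h k
    exact (mem_V n R).mpr
      (X_notMem_of_monomial_notMem ((cvec_apply_ne_zero a (a k)).mpr ⟨k, rfl⟩) h)

end Groth.Agent.Lib.Helper7.PnSections
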