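import Mathlib

/-!
# Laurent monomial combinatorics for the cohomology of `O(d)` on projective space

`Lau n R` is the group of finitely supported `R`-valued functions on exponent vectors
`Fin (n+1) → ℤ` ("Laurent polynomials").  `good R d S` is the subgroup of those supported on
exponents of total degree `d`, whose negative part lies in `S`, and which have at least one
non-negative exponent.  `tau j` is the projection onto the exponents whose *pivot* (first index
with non-negative exponent) is `j`.
-/

set_option autoImplicit false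
universe u

namespace Groth.Agent.Lib.Helper7.PnLaurent

/-- exponent vectors -/
abbrev Ex (n : ℕ) := Fin (n + 1) → ℤ

/-- Laurent polynomials as finitely supported functions -/
abbrev Lau (n : ℕ) (R : Type u) [CommRing R] := Ex n →₀ R

variable {n : ℕ} {R : Type u} [CommRing R]

/-- `j` is the pivot of `e`: the first index with non-negative exponent -/
def Piv (e : Ex n) (j : Fin (n + 1)) : Prop := 0 ≤ e j ∧ ∀ i, i < j → e i < 0

instance (e : Ex n) (j : Fin (n + 1)) : Decidable (Piv e j) := by unfold Piv; infer_instance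

theorem Piv.unique {e : Ex n} {j j' : Fin (n + 1)} (h : Piv e j) (h' : Piv e j') : j = j' := by
  rcases lt_trichotomy j j' with hlt | heq | hgt
  · exact absurd (h'.2 j hlt) (not_lt.mpr h.1)
  · exact heq
  · exact absurd (h.2 j' hgt) (not_lt.mpr h'.1)

theorem exists_piv {e : Ex n} (he : ∃ i, 0 ≤ e i) : ∃ j, Piv e j := by
  classical
  let s : Finset (Fin (n + 1)) := Finset.univ.filter (fun i => 0 ≤ e i)
  have hs : s.Nonempty := by
    obtain ⟨i, hi⟩ := he
    exact ⟨i, Finset.mem_filter.mpr ⟨Finset.mem_univ _, hi⟩⟩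
  refine ⟨s.min' hs, (Finset.mem_filter.mp (s.min'_mem hs)).2, fun i hi => ?_⟩
  by_contra hneg
  have : i ∈ s := Finset.mem_filter.mpr ⟨Finset.mem_univ _, not_lt.mp hneg⟩
  exact absurd (s.min'_le i this) (not_le.mpr hi)

/-- the condition on a single exponent -/
def GoodEx (d : ℤ) (S : Set (Fin (n + 1))) (e : Ex n) : Prop :=
  (∑ i, e i = d) ∧ (∀ i, e i < 0 → i ∈ S) ∧ ∃ i, 0 ≤ e i

theorem GoodEx.mono {d : ℤ} {S S' : Set (Fin (n + 1))} (h : S ⊆ S') {e : Ex n}
    (he : GoodEx d S e) : GoodEx d S' e :=
  ⟨he.1, fun i hi => h (he.2.1 i hi), he.2.2⟩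

variable (R) in
/-- Laurent polynomials of degree `d`, with poles only along `S`, and no all-negative monomials -/
def good (d : ℤ) (S : Set (Fin (n + 1))) : AddSubgroup (Lau n R) where
  carrier := {F | ∀ e ∈ F.support, GoodEx d S e}
  zero_mem' := by intro e he; simp at he
  add_mem' := by
    classical
    intro F G hF hG e he
    rcases Finset.mem_union.mp (Finsupp.support_add he) with h | h
    · exact hF e h
    · exact hG e h
  neg_mem' := by
    intro F hF e he
    rw [Finsupp.support_neg] at he
    exact hF e he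

theorem mem_good {d : ℤ} {S : Set (Fin (n + 1))} {F : Lau n R} :
    F ∈ good R d S ↔ ∀ e ∈ F.support, GoodEx d S e := Iff.rfl

theorem good_mono {d : ℤ} {S S' : Set (Fin (n + 1))} (h : S ⊆ S') : good R d S ≤ good R d S' :=
  fun _ hF e he => (hF e he).mono h

theorem single_mem_good {d : ℤ} {S : Set (Fin (n + 1))} {e : Ex n} (he : GoodEx d S e) (r : R) :
    Finsupp.single e r ∈ good R d S := by
  classical
  intro e' he'
  have := Finsupp.support_single_subset he'
  rw [Finset.mem_singleton] at this
  rw [this]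
  exact he

/-- projection onto the monomials with pivot `j` -/
def tau (j : Fin (n + 1)) : Lau n R →+ Lau n R := Finsupp.filterAddHom (fun e => Piv e j)

theorem tau_apply (j : Fin (n + 1)) (F : Lau n R) (e : Ex n) :
    tau j F e = if Piv e j then F e else 0 := Finsupp.filter_apply _ _ _

theorem mem_support_tau {j : Fin (n + 1)} {F : Lau n R} {e : Ex n} :
    e ∈ (tau j F).support ↔ e ∈ F.support ∧ Piv e j := by
  rw [Finsupp.mem_support_iff, tau_apply, Finsupp.mem_support_iff]
  by_cases h : Piv e j
  · simp [h]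
  · simp [h]

theorem tau_mem {d : ℤ} {S : Set (Fin (n + 1))} (j : Fin (n + 1)) {F : Lau n R}
    (hF : F ∈ good R d S) : tau j F ∈ good R d S :=
  fun e he => hF e (mem_support_tau.mp he).1

theorem tau_tau (j : Fin (n + 1)) (F : Lau n R) : tau j (tau j F) = tau j F := by
  ext e
  rw [tau_apply, tau_apply]
  by_cases h : Piv e j
  · simp [h]
  · simp [h]

theorem sum_tau {F : Lau n R} (hF : ∀ e ∈ F.support, ∃ i, 0 ≤ e i) :
    ∑ j, tau j F = F := by
  classical
  ext e
  rw [Finsupp.finsetSum_apply]
  simp only [tau_apply]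
  by_cases he : e ∈ F.support
  · obtain ⟨j0, hj0⟩ := exists_piv (hF e he)
    rw [Finset.sum_eq_single j0]
    · simp [hj0]
    · intro j _ hj
      rw [if_neg]
      exact fun h => hj (h.unique hj0)
    · intro h
      exact absurd (Finset.mem_univ _) h
  · rw [Finsupp.notMem_support_iff] at he
    simp [he]

theorem sum_tau_of_mem {d : ℤ} {S : Set (Fin (n + 1))} {F : Lau n R} (hF : F ∈ good R d S) :
    ∑ j, tau j F = F :=
  sum_tau fun e he => (hF e he).2.2

theorem tau_mem_of_subset_insert {d : ℤ} {S S' : Set (Fin (n + 1))} {j : Fin (n + 1)}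
    (hS : ∀ i ∈ S', i ≠ j → i ∈ S) {F : Lau n R} (hF : F ∈ good R d S') :
    tau j F ∈ good R d S := by
  intro e he
  obtain ⟨he1, hp⟩ := mem_support_tau.mp he
  obtain ⟨h1, h2, h3⟩ := hF e he1
  refine ⟨h1, fun i hi => hS i (h2 i hi) ?_, h3⟩
  rintro rfl
  exact absurd hi (not_lt.mpr hp.1)

end Groth.Agent.Lib.Helper7.PnLaurent
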