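import Groth.Agent.Lib.Helper7.PnOver
import Groth.Agent.Lib.Helper6.ProjSpaceGamma
import Groth.Agent.Lib.Helper3.IdealMod
import Groth.Agent.Lib.Helper3.GrModComap
import Groth.Agent.Lib.Helper13.SerreCrit1
import Groth.Agent.Lib.Helper26.FinPush

/-!
# `p_* O_{P^n_Y} = O_Y` and regularity of the structure sheaf of `P^n_Y` (helper7)
-/

set_option autoImplicit false
set_option linter.unusedSectionVars false
set_option linter.style.haveILetI false
universe u
open CategoryTheory CategoryTheory.Limits AlgebraicGeometry TopologicalSpace Opposite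
open Scheme.Modules

noncomputable section

namespace Groth.Agent.Lib.Helper7.PnPushUnit

open Groth.Agent.Lib.Helper3 Groth.Agent.Lib.Helper13
open InvMonoidal PnOver QCSec InvGen

variable (n : ℕ) (Y : Scheme.{u})

lemma isIso_appTop' {X Z : Scheme.{u}} (f : X ⟶ Z) [IsIso f] : IsIso f.appTop := by
  have h : f.appTop = (Scheme.Γ.mapIso (asIso f).op).hom := rfl
  rw [h]
  exact ⟨⟨(Scheme.Γ.mapIso (asIso f).op).inv, Iso.hom_inv_id _, Iso.inv_hom_id _⟩⟩

/-- `O_Y(W) ⟶ O_P(p⁻¹ W)` is an isomorphism for affine `W`. -/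
theorem isIso_app_pp {W : Y.Opens} (hW : IsAffineOpen W) : IsIso ((pp n Y).app W) := by
  have h1 : cZ n Y hW ≫ bZ n Y hW = CohB1.ProjSpace.toSpec n ↑Γ(Y, W) :=
    (isPullback_Z n Y hW).lift_snd _ _ _
  have h2 : (CohB1.ProjSpace.toSpec n ↑Γ(Y, W)).appTop =
      hW.isoSpec.hom.appTop ≫ (pp n Y ∣_ W).appTop ≫ (cZ n Y hW).appTop := by
    rw [← h1, bZ, Scheme.Hom.comp_appTop, Scheme.Hom.comp_appTop, Category.assoc]
  haveI h3 : IsIso (hW.isoSpec.hom.appTop ≫ (pp n Y ∣_ W).appTop ≫ (cZ n Y hW).appTop) := by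
    rw [← h2]
    exact Groth.Agent.Lib.Helper6.ProjSpaceGamma.main n ↑Γ(Y, W)
  haveI i1 : IsIso hW.isoSpec.hom.appTop := isIso_appTop' _
  haveI i2 : IsIso (cZ n Y hW).appTop := isIso_appTop' _
  haveI h4 : IsIso ((pp n Y ∣_ W).appTop ≫ (cZ n Y hW).appTop) :=
    IsIso.of_isIso_comp_left hW.isoSpec.hom.appTop _
  haveI h5 : IsIso ((pp n Y ∣_ W).appTop) :=
    IsIso.of_isIso_comp_right _ (cZ n Y hW).appTop
  have h5' : IsIso ((pp n Y).app (W.ι ''ᵁ ⊤) ≫ (CohB1.ProjSpaceOver n Y).presheaf.map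
      (eqToHom (image_morphismRestrict_preimage (pp n Y) W ⊤)).op) := by
    rw [← morphismRestrict_appTop]
    exact h5
  haveI := h5'
  haveI h6 : IsIso ((pp n Y).app (W.ι ''ᵁ ⊤)) := IsIso.of_isIso_comp_right _
    ((CohB1.ProjSpaceOver n Y).presheaf.map
      (eqToHom (image_morphismRestrict_preimage (pp n Y) W ⊤)).op)
  have h7 : W.ι ''ᵁ ⊤ = W := W.ι_image_top
  rw [h7] at h6
  exact h6

/-- `O_Y ⟶ p_* O_P` is an isomorphism. -/
theorem isIso_unitToPush : IsIso (ClSub.unitToPush (pp n Y)) := by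
  apply GrModComap.isIso_of_bijective_on_basis
  intro W x hx
  obtain ⟨V, hV, hxV, hVW⟩ := Opens.isBasis_iff_nbhd.mp (Scheme.isBasis_affineOpens Y) hx
  refine ⟨V, hxV, hVW, ?_⟩
  haveI := isIso_app_pp n Y hV
  exact (ConcreteCategory.isIso_iff_bijective ((pp n Y).app V)).mp inferInstance

/-- `p_* O_P ≅ O_Y`. -/
theorem nonempty_push_iso :
    Nonempty ((Scheme.Modules.pushforward (pp n Y)).obj
      (Coh.structureModule (CohB1.ProjSpaceOver n Y)) ≅ Coh.structureModule Y) := by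
  haveI := isIso_unitToPush n Y
  exact ⟨(asIso (ClSub.unitToPush (pp n Y))).symm⟩

/-- `O_P` is regular. -/
theorem isRegSheaf_structureModule :
    KRR.IsRegSheaf n Y (Coh.structureModule (CohB1.ProjSpaceOver n Y)) := by
  intro i hi
  let e : KRR.twF n Y (-(i : ℤ)) (Coh.structureModule (CohB1.ProjSpaceOver n Y)) ≅
      Twist.twistOver n Y (-(i : ℤ)) := SecTwist.unitorR _
  have h := isZero_RpushAb_twistOver n Y i (-(i : ℤ)) (by omega)
  exact h.of_iso ((Coh.RpushAb (pp n Y) i).mapIso ((SerreCrit1.TT _).mapIso e))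

end Groth.Agent.Lib.Helper7.PnPushUnit
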