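import Groth.Agent.Lib.Helper7.PnLaurent
import Groth.Agent.Lib.Helper3.GrTildeSelf
import Groth.Agent.Lib.Helper6.GrTildeFrac
import Groth.Agent.Lib.Helper6.ProjBasic

/-!
# Sections of `O(d)` on projective space as Laurent polynomials

`alpha d W : Lau n R →+ Γ(O(d), W)` sends a Laurent monomial `r T^e` of degree `d`, whose negative
exponents only involve variables invertible on `W`, to the corresponding fraction.  It is injective
and surjective on the standard opens `D₊(T^c)`.
-/

set_option autoImplicit false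
universe u
open CategoryTheory CategoryTheory.Limits AlgebraicGeometry TopologicalSpace Opposite
open Scheme.Modules MvPolynomial

noncomputable section

namespace Groth.Agent.Lib.Helper7.PnSections

open PnLaurent Groth.Agent.Lib.Helper3 Groth.Agent.Lib.Helper3.TwistBasic
  Groth.Agent.Lib.Helper3.QCSec Groth.Agent.Lib.Helper3.GrTildeQC Groth.Agent.Lib.Helper6

variable (n : ℕ) (R : Type u) [CommRing R]

theorem monomial_mem (a : Fin (n + 1) →₀ ℕ) (r : R) :
    (monomial a r : MvPolynomial (Fin (n + 1)) R) ∈ CohB1.polyGrading n R (Finsupp.degree a) :=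
  (mem_homogeneousSubmodule _ _).mpr (isHomogeneous_monomial r rfl)

theorem X_mem (i : Fin (n + 1)) :
    (X i : MvPolynomial (Fin (n + 1)) R) ∈ CohB1.polyGrading n R 1 :=
  (mem_homogeneousSubmodule _ _).mpr (isHomogeneous_X R i)

variable {n R}

theorem monomial_one_notMem {x : ProjectiveSpectrum (CohB1.polyGrading n R)}
    (b : Fin (n + 1) →₀ ℕ)
    (h : ∀ i, b i ≠ 0 → (X i : MvPolynomial (Fin (n + 1)) R) ∉ x.asHomogeneousIdeal) :
    (monomial b (1 : R) : MvPolynomial (Fin (n + 1)) R) ∉ x.asHomogeneousIdeal := by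
  intro hmem
  have hp : x.asHomogeneousIdeal.toIdeal.IsPrime := x.isPrime
  change (monomial b (1 : R) : MvPolynomial (Fin (n + 1)) R) ∈ x.asHomogeneousIdeal.toIdeal at hmem
  rw [monomial_eq, C_1, one_mul, Finsupp.prod, Ideal.IsPrime.prod_mem_iff] at hmem
  obtain ⟨i, hi, hi'⟩ := hmem
  exact h i (Finsupp.mem_support_iff.mp hi) (hp.mem_of_pow_mem _ hi')

theorem X_notMem_of_monomial_notMem {x : ProjectiveSpectrum (CohB1.polyGrading n R)}
    {c : Fin (n + 1) →₀ ℕ} {i : Fin (n + 1)} (hi : c i ≠ 0)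
    (h : (monomial c (1 : R) : MvPolynomial (Fin (n + 1)) R) ∉ x.asHomogeneousIdeal) :
    (X i : MvPolynomial (Fin (n + 1)) R) ∉ x.asHomogeneousIdeal := by
  intro hX
  apply h
  have hp : x.asHomogeneousIdeal.toIdeal.IsPrime := x.isPrime
  change (monomial c (1 : R) : MvPolynomial (Fin (n + 1)) R) ∈ x.asHomogeneousIdeal.toIdeal
  rw [monomial_eq, C_1, one_mul, Finsupp.prod, Ideal.IsPrime.prod_mem_iff]
  exact ⟨i, Finsupp.mem_support_iff.mpr hi, Ideal.pow_mem_of_mem _ hX _ (Nat.pos_of_ne_zero hi)⟩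

theorem mk_monomial_eq {x : ProjectiveSpectrum (CohB1.polyGrading n R)}
    {a a' b b' : Fin (n + 1) →₀ ℕ} (r : R)
    (hb : (monomial b (1 : R) : MvPolynomial (Fin (n + 1)) R) ∉ x.asHomogeneousIdeal)
    (hb' : (monomial b' (1 : R) : MvPolynomial (Fin (n + 1)) R) ∉ x.asHomogeneousIdeal)
    (h : a + b' = a' + b) :
    (Localization.mk (monomial a r) ⟨monomial b 1, hb⟩ : Twist.Loc (CohB1.polyGrading n R) x) =
      Localization.mk (monomial a' r) ⟨monomial b' 1, hb'⟩ := by
  rw [Localization.mk_eq_mk_iff]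
  apply Localization.r_of_eq
  change monomial b' (1 : R) * monomial a r = monomial b (1 : R) * monomial a' r
  rw [monomial_mul, monomial_mul, one_mul, add_comm b' a, h, add_comm a' b]

theorem mk_sum {x : ProjectiveSpectrum (CohB1.polyGrading n R)} {ι : Type*} (s : Finset ι)
    (f : ι → MvPolynomial (Fin (n + 1)) R) (z : x.asHomogeneousIdeal.toIdeal.primeCompl) :
    (∑ i ∈ s, Localization.mk (f i) z : Twist.Loc (CohB1.polyGrading n R) x) =
      Localization.mk (∑ i ∈ s, f i) z := by
  classical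
  induction s using Finset.induction_on with
  | empty => rw [Finset.sum_empty, Finset.sum_empty, Localization.mk_zero]
  | insert a s ha ih =>
    rw [Finset.sum_insert ha, Finset.sum_insert ha, ih, Localization.add_mk_self]

variable (n R)

/-- the standard open `D₊(X_i)` -/
def V (i : Fin (n + 1)) : (Proj (CohB1.polyGrading n R)).Opens :=
  Proj.basicOpen (CohB1.polyGrading n R) (X i)

theorem mem_V {i : Fin (n + 1)} {x : Proj (CohB1.polyGrading n R)} :
    x ∈ V n R i ↔ (X i : MvPolynomial (Fin (n + 1)) R) ∉ x.asHomogeneousIdeal :=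
  Proj.mem_basicOpen _ _ _

variable {n R}

/-- the section `r T^a / T^b` of `O(d)` -/
def monSec (d : ℤ) (W : (Proj (CohB1.polyGrading n R)).Opens) (a b : Fin (n + 1) →₀ ℕ)
    (hb : ∀ x : W, (monomial b (1 : R) : MvPolynomial (Fin (n + 1)) R) ∉ x.1.asHomogeneousIdeal)
    (hd : ((Finsupp.degree a : ℕ) : ℤ) = (Finsupp.degree b : ℕ) + d) (r : R) :
    Γ(Twist.twist (CohB1.polyGrading n R) d, W) :=
  frac W ⟨monomial a r, monomial_mem n R a r⟩ ⟨monomial b 1, monomial_mem n R b 1⟩ hb d hd

theorem val_monSec (d : ℤ) (W : (Proj (CohB1.polyGrading n R)).Opens) (a b : Fin (n + 1) →₀ ℕ)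
    (hb : ∀ x : W, (monomial b (1 : R) : MvPolynomial (Fin (n + 1)) R) ∉ x.1.asHomogeneousIdeal)
    (hd : ((Finsupp.degree a : ℕ) : ℤ) = (Finsupp.degree b : ℕ) + d) (r : R) (x : W) :
    val (monSec d W a b hb hd r) x = Localization.mk (monomial a r) ⟨monomial b 1, hb x⟩ := rfl

/-- positive part of an exponent vector -/
def pp (e : Ex n) : Fin (n + 1) →₀ ℕ := Finsupp.equivFunOnFinite.symm (fun i => (e i).toNat)

/-- negative part of an exponent vector -/
def np (e : Ex n) : Fin (n + 1) →₀ ℕ := Finsupp.equivFunOnFinite.symm (fun i => (-e i).toNat)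

@[simp] theorem pp_apply (e : Ex n) (i : Fin (n + 1)) : pp e i = (e i).toNat := rfl

@[simp] theorem np_apply (e : Ex n) (i : Fin (n + 1)) : np e i = (-e i).toNat := rfl

theorem pp_add_eq {e : Ex n} {s b : Fin (n + 1) →₀ ℕ} (h : ∀ i, (s i : ℤ) = e i + b i) :
    pp e + b = s + np e := by
  ext i
  have := h i
  simp only [Finsupp.add_apply, pp_apply, np_apply]
  omega

theorem degree_pp (e : Ex n) :
    ((Finsupp.degree (pp e) : ℕ) : ℤ) = (Finsupp.degree (np e) : ℕ) + ∑ i, e i := by
  rw [Finsupp.degree_eq_sum, Finsupp.degree_eq_sum]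
  push_cast
  rw [← Finset.sum_add_distrib]
  refine Finset.sum_congr rfl fun i _ => ?_
  simp only [pp_apply, np_apply]
  omega

variable (n R) in
/-- the Laurent monomial `T^e` defines a section of `O(d)` over `W` -/
def Cond (d : ℤ) (W : (Proj (CohB1.polyGrading n R)).Opens) (e : Ex n) : Prop :=
  (∑ i, e i = d) ∧ ∀ i, e i < 0 → W ≤ V n R i

theorem Cond.mono {d : ℤ} {W W' : (Proj (CohB1.polyGrading n R)).Opens} {e : Ex n} (h : W' ≤ W)
    (he : Cond n R d W e) : Cond n R d W' e :=
  ⟨he.1, fun i hi => h.trans (he.2 i hi)⟩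

theorem Cond.hb {d : ℤ} {W : (Proj (CohB1.polyGrading n R)).Opens} {e : Ex n}
    (h : Cond n R d W e) (x : W) :
    (monomial (np e) (1 : R) : MvPolynomial (Fin (n + 1)) R) ∉ x.1.asHomogeneousIdeal := by
  apply monomial_one_notMem
  intro i hi
  have hneg : e i < 0 := by
    by_contra hc
    apply hi
    rw [np_apply]
    omega
  exact (mem_V n R).mp (h.2 i hneg x.2)

theorem Cond.hd {d : ℤ} {W : (Proj (CohB1.polyGrading n R)).Opens} {e : Ex n}
    (h : Cond n R d W e) :
    ((Finsupp.degree (pp e) : ℕ) : ℤ) = (Finsupp.degree (np e) : ℕ) + d := by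
  rw [degree_pp, h.1]

open Classical in
/-- the section of `O(d)` over `W` defined by the Laurent monomial `r T^e` (zero if it does not
define one) -/
def secT (d : ℤ) (W : (Proj (CohB1.polyGrading n R)).Opens) (e : Ex n) (r : R) :
    Γ(Twist.twist (CohB1.polyGrading n R) d, W) :=
  if h : Cond n R d W e then monSec d W (pp e) (np e) h.hb h.hd r else 0

theorem secT_pos {d : ℤ} {W : (Proj (CohB1.polyGrading n R)).Opens} {e : Ex n}
    (h : Cond n R d W e) (r : R) :
    secT d W e r = monSec d W (pp e) (np e) h.hb h.hd r := dif_pos h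

theorem val_secT {d : ℤ} {W : (Proj (CohB1.polyGrading n R)).Opens} {e : Ex n}
    (h : Cond n R d W e) (r : R) (x : W) {s b : Fin (n + 1) →₀ ℕ}
    (hs : ∀ i, (s i : ℤ) = e i + b i)
    (hb : (monomial b (1 : R) : MvPolynomial (Fin (n + 1)) R) ∉ x.1.asHomogeneousIdeal) :
    val (secT d W e r) x = Localization.mk (monomial s r) ⟨monomial b 1, hb⟩ := by
  rw [secT_pos h, val_monSec]
  exact mk_monomial_eq r _ hb (pp_add_eq hs)

theorem secT_add (d : ℤ) (W : (Proj (CohB1.polyGrading n R)).Opens) (e : Ex n) (r r' : R) :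
    secT d W e (r + r') = secT d W e r + secT d W e r' := by
  by_cases h : Cond n R d W e
  · rw [secT_pos h, secT_pos h, secT_pos h]
    apply val_ext
    intro x
    rw [val_add, val_monSec, val_monSec, val_monSec, Localization.add_mk_self, ← map_add]
  · simp only [secT, dif_neg h, add_zero]

theorem res_secT {d : ℤ} {W W' : (Proj (CohB1.polyGrading n R)).Opens} (h : W' ≤ W) {e : Ex n}
    (he : Cond n R d W e) (r : R) :
    res (Twist.twist (CohB1.polyGrading n R) d) h (secT d W e r) = secT d W' e r := by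
  rw [secT_pos he, secT_pos (he.mono h)]
  exact val_ext fun _ => rfl

/-- Laurent polynomials to sections of `O(d)` -/
def alpha (d : ℤ) (W : (Proj (CohB1.polyGrading n R)).Opens) :
    Lau n R →+ Γ(Twist.twist (CohB1.polyGrading n R) d, W) :=
  Finsupp.liftAddHom (fun e => AddMonoidHom.mk' (secT d W e) (secT_add d W e))

theorem alpha_apply (d : ℤ) (W : (Proj (CohB1.polyGrading n R)).Opens) (F : Lau n R) :
    alpha d W F = ∑ e ∈ F.support, secT d W e (F e) := rfl

theorem alpha_single (d : ℤ) (W : (Proj (CohB1.polyGrading n R)).Opens) (e : Ex n) (r : R) :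
    alpha d W (Finsupp.single e r) = secT d W e r :=
  Finsupp.liftAddHom_apply_single _ _ _

theorem val_sum {d : ℤ} {W : (Proj (CohB1.polyGrading n R)).Opens} {ι : Type*} (s : Finset ι)
    (f : ι → Γ(Twist.twist (CohB1.polyGrading n R) d, W)) (x : W) :
    val (∑ i ∈ s, f i) x = ∑ i ∈ s, val (f i) x := by
  classical
  induction s using Finset.induction_on with
  | empty => rw [Finset.sum_empty, Finset.sum_empty]; exact val_zero x
  | insert a s ha ih => rw [Finset.sum_insert ha, Finset.sum_insert ha, val_add, ih]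

theorem res_alpha {d : ℤ} {W W' : (Proj (CohB1.polyGrading n R)).Opens} (h : W' ≤ W)
    {F : Lau n R} (hF : ∀ e ∈ F.support, Cond n R d W e) :
    res (Twist.twist (CohB1.polyGrading n R) d) h (alpha d W F) = alpha d W' F := by
  apply val_ext
  intro x
  rw [val_res, alpha_apply, alpha_apply, val_sum, val_sum]
  refine Finset.sum_congr rfl fun e he => ?_
  rw [← res_secT h (hF e he), val_res]

theorem val_alpha {d : ℤ} {W : (Proj (CohB1.polyGrading n R)).Opens} {F : Lau n R}
    (hF : ∀ e ∈ F.support, Cond n R d W e) (x : W) (b : Fin (n + 1) →₀ ℕ)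
    (s : Ex n → (Fin (n + 1) →₀ ℕ)) (hs : ∀ e ∈ F.support, ∀ i, (s e i : ℤ) = e i + b i)
    (hb : (monomial b (1 : R) : MvPolynomial (Fin (n + 1)) R) ∉ x.1.asHomogeneousIdeal) :
    val (alpha d W F) x =
      Localization.mk (∑ e ∈ F.support, monomial (s e) (F e)) ⟨monomial b 1, hb⟩ := by
  rw [alpha_apply, val_sum, ← mk_sum]
  exact Finset.sum_congr rfl fun e he => val_secT (hF e he) _ x (hs e he) hb

end Groth.Agent.Lib.Helper7.PnSections
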