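import Groth.Agent.Lib.Helper7.PnSections

/-!
# Injectivity and surjectivity of `alpha` on standard opens of projective space
-/

set_option autoImplicit false
universe u
open CategoryTheory CategoryTheory.Limits AlgebraicGeometry TopologicalSpace Opposite
open Scheme.Modules MvPolynomial

noncomputable section

namespace Groth.Agent.Lib.Helper7.PnSections

open PnLaurent Groth.Agent.Lib.Helper3 Groth.Agent.Lib.Helper3.TwistBasic
  Groth.Agent.Lib.Helper3.QCSec Groth.Agent.Lib.Helper3.GrTildeQC Groth.Agent.Lib.Helper6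

variable {n : ℕ} {R : Type u} [CommRing R]

theorem monomial_mem_irrelevant {c : Fin (n + 1) →₀ ℕ} (hc : c ≠ 0) :
    (monomial c (1 : R) : MvPolynomial (Fin (n + 1)) R) ∈
      (HomogeneousIdeal.irrelevant (CohB1.polyGrading n R)).toIdeal :=
  HomogeneousIdeal.mem_irrelevant_of_mem _
    (Nat.pos_of_ne_zero (fun h => hc ((Finsupp.degree_eq_zero_iff c).mp h))) (monomial_mem n R c 1)

theorem alpha_injective {d : ℤ} {W : (Proj (CohB1.polyGrading n R)).Opens}
    {c : Fin (n + 1) →₀ ℕ} (hc : c ≠ 0)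
    (hW : ∀ x : Proj (CohB1.polyGrading n R),
      (monomial c (1 : R) : MvPolynomial (Fin (n + 1)) R) ∉ x.asHomogeneousIdeal → x ∈ W)
    {F : Lau n R} (hF : ∀ e ∈ F.support, Cond n R d W e) (h0 : alpha d W F = 0) : F = 0 := by
  classical
  obtain ⟨k, hk⟩ : ∃ k : ℕ, k = F.support.sup (fun e => Finset.univ.sup (fun i => (-e i).toNat)) :=
    ⟨_, rfl⟩
  obtain ⟨S, hS⟩ : ∃ S : Finset (Fin (n + 1)),
      S = Finset.univ.filter (fun i => ∃ e ∈ F.support, e i < 0) := ⟨_, rfl⟩
  obtain ⟨b, hb⟩ : ∃ b : Fin (n + 1) →₀ ℕ,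
      b = Finsupp.equivFunOnFinite.symm (fun i => if i ∈ S then k else 0) := ⟨_, rfl⟩
  have hbi : ∀ i, b i = if i ∈ S then k else 0 := fun i => by rw [hb]; rfl
  obtain ⟨s, hs0⟩ : ∃ s : Ex n → (Fin (n + 1) →₀ ℕ),
      s = fun e => Finsupp.equivFunOnFinite.symm (fun i => (e i + (b i : ℤ)).toNat) := ⟨_, rfl⟩
  have hsi : ∀ (e : Ex n) (i : Fin (n + 1)), s e i = (e i + (b i : ℤ)).toNat := fun e i => by rw [hs0]; rfl
  have hs : ∀ e ∈ F.support, ∀ i, (s e i : ℤ) = e i + b i := by
    intro e he i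
    rw [hsi]
    have h1 : 0 ≤ e i + b i := by
      by_cases hneg : e i < 0
      · have hiS : i ∈ S := by
          rw [hS]
          exact Finset.mem_filter.mpr ⟨Finset.mem_univ _, e, he, hneg⟩
        have h2 : (-e i).toNat ≤ k := by
          rw [hk]
          exact le_trans (Finset.le_sup (f := fun i => (-e i).toNat) (Finset.mem_univ i))
            (Finset.le_sup (f := fun e => Finset.univ.sup (fun i => (-e i).toNat)) he)
        rw [hbi, if_pos hiS]
        omega
      · have : (0 : ℤ) ≤ b i := Int.natCast_nonneg _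
        omega
    exact Int.toNat_of_nonneg h1
  have hbx : ∀ x : W,
      (monomial b (1 : R) : MvPolynomial (Fin (n + 1)) R) ∉ x.1.asHomogeneousIdeal := by
    intro x
    apply monomial_one_notMem
    intro i hi
    have hiS : i ∈ S := by
      by_contra hn
      exact hi (by rw [hbi, if_neg hn])
    rw [hS] at hiS
    obtain ⟨e, he, hneg⟩ := (Finset.mem_filter.mp hiS).2
    exact (mem_V n R).mp ((hF e he).2 i hneg x.2)
  obtain ⟨w, hw⟩ : ∃ w : MvPolynomial (Fin (n + 1)) R,
      w = ∑ e ∈ F.support, monomial (s e) (F e) := ⟨_, rfl⟩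
  obtain ⟨N, hN⟩ : ∃ N : ℕ, N = (d + (Finsupp.degree b : ℕ)).toNat := ⟨_, rfl⟩
  have hdeg : ∀ e ∈ F.support, Finsupp.degree (s e) = N := by
    intro e he
    have h1 : ((Finsupp.degree (s e) : ℕ) : ℤ) = d + (Finsupp.degree b : ℕ) := by
      rw [Finsupp.degree_eq_sum, Finsupp.degree_eq_sum]
      push_cast
      rw [← (hF e he).1, ← Finset.sum_add_distrib]
      exact Finset.sum_congr rfl fun i _ => hs e he i
    omega
  have hwN : w ∈ CohB1.polyGrading n R N := by
    rw [hw]
    exact Submodule.sum_mem _ fun e he => hdeg e he ▸ monomial_mem n R (s e) (F e)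
  obtain ⟨K, hK⟩ := exists_pow_smul_eq_zero_of_locally_killed (CohB1.polyGrading n R)
    (CohB1.polyGrading n R) (monomial_mem_irrelevant (R := R) hc) hwN (by
      intro x hx
      have hxW : x ∈ W := hW x hx
      have h1 := val_alpha hF ⟨x, hxW⟩ b s hs (hbx ⟨x, hxW⟩)
      rw [h0, val_zero, ← hw, Localization.mk_eq_mk'] at h1
      obtain ⟨m, hm⟩ := (IsLocalization.mk'_eq_zero_iff _ _).mp h1.symm
      exact ⟨m.1, m.2, hm⟩)
  have hw0 : w = 0 := by
    have h2 : (monomial c (1 : R) : MvPolynomial (Fin (n + 1)) R) ^ K = monomial (K • c) 1 := by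
      rw [monomial_pow, one_pow]
    have h3 : (monomial (K • c) (1 : R)) * w = 0 := by
      rw [← h2]
      exact hK
    ext m
    have h1 := coeff_monomial_mul m (K • c) (1 : R) w
    rw [one_mul, h3, coeff_zero] at h1
    rw [← h1, coeff_zero]
  by_contra hne
  obtain ⟨e₀, he₀⟩ := Finsupp.support_nonempty_iff.mpr hne
  have h1 : coeff (s e₀) w = F e₀ := by
    rw [hw, coeff_sum, Finset.sum_eq_single e₀]
    · rw [coeff_monomial, if_pos rfl]
    · intro e he hne'
      rw [coeff_monomial, if_neg]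
      intro hse
      apply hne'
      funext i
      have h2 := hs e he i
      have h3 := hs e₀ he₀ i
      rw [hse] at h2
      omega
    · intro h
      exact absurd he₀ h
  rw [hw0, coeff_zero] at h1
  exact (Finsupp.mem_support_iff.mp he₀) h1.symm

theorem alpha_surjective {d : ℤ} {W : (Proj (CohB1.polyGrading n R)).Opens}
    {c : Fin (n + 1) →₀ ℕ} (hc : c ≠ 0)
    (hW : W = Proj.basicOpen (CohB1.polyGrading n R) (monomial c (1 : R)))
    (t : Γ(Twist.twist (CohB1.polyGrading n R) d, W)) :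
    ∃ F : Lau n R, (∀ e ∈ F.support, (∑ i, e i = d) ∧ ∀ i, e i < 0 → c i ≠ 0) ∧
      alpha d W F = t := by
  classical
  subst hW
  have hD : 0 < Finsupp.degree c :=
    Nat.pos_of_ne_zero (fun h => hc ((Finsupp.degree_eq_zero_iff c).mp h))
  obtain ⟨k, N, m, hN, hval⟩ := exists_mval_eq (𝒜 := CohB1.polyGrading n R)
    (ℳ := CohB1.polyGrading n R) d hD (monomial_mem n R c 1)
    (mkMSec (CohB1.polyGrading n R) d _ (fun x => val t x)
      (GrTildeSelf.isLocMFrac_of_isLocFrac (isLocFrac_val t)))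
  have hval' : ∀ (x : Proj.basicOpen (CohB1.polyGrading n R) (monomial c (1 : R)))
      (hx : (monomial c (1 : R) : MvPolynomial (Fin (n + 1)) R) ^ k ∉
        x.1.asHomogeneousIdeal.toIdeal),
      val t x = Localization.mk m.1 ⟨(monomial c (1 : R)) ^ k, hx⟩ := hval
  have hgk : (monomial c (1 : R) : MvPolynomial (Fin (n + 1)) R) ^ k = monomial (k • c) 1 := by
    rw [monomial_pow, one_pow]
  obtain ⟨ε, hε0⟩ : ∃ ε : (Fin (n + 1) →₀ ℕ) → Ex n,
      ε = fun v i => (v i : ℤ) - (k : ℤ) * (c i : ℤ) := ⟨_, rfl⟩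
  have hεi : ∀ v i, ε v i = (v i : ℤ) - (k : ℤ) * (c i : ℤ) := fun v i => by rw [hε0]
  have hm : (m.1).IsHomogeneous N := (mem_homogeneousSubmodule _ _).mp m.2
  have hdegv : ∀ v ∈ (m.1).support, Finsupp.degree v = N := by
    intro v hv
    rw [Finsupp.degree_eq_weight_one]
    exact hm (mem_support_iff.mp hv)
  have hε : ∀ v ∈ (m.1).support, (∑ i, ε v i = d) ∧ ∀ i, ε v i < 0 → c i ≠ 0 := by
    intro v hv
    constructor
    · have h1 : ((Finsupp.degree v : ℕ) : ℤ) = ∑ i, (v i : ℤ) := by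
        rw [Finsupp.degree_eq_sum]; push_cast; rfl
      have h2 : ((Finsupp.degree c : ℕ) : ℤ) = ∑ i, (c i : ℤ) := by
        rw [Finsupp.degree_eq_sum]; push_cast; rfl
      simp only [hεi]
      rw [Finset.sum_sub_distrib, ← Finset.mul_sum, ← h1, ← h2, hdegv v hv]
      linarith
    · intro i hi hci
      rw [hεi, hci] at hi
      simp at hi
      omega
  have hcond : ∀ v ∈ (m.1).support,
      Cond n R d (Proj.basicOpen (CohB1.polyGrading n R) (monomial c (1 : R))) (ε v) := by
    intro v hv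
    refine ⟨(hε v hv).1, fun i hi x hx => ?_⟩
    exact (mem_V n R).mpr (X_notMem_of_monomial_notMem ((hε v hv).2 i hi)
      ((Proj.mem_basicOpen _ _ _).mp hx))
  refine ⟨∑ v ∈ (m.1).support, Finsupp.single (ε v) (coeff v m.1), ?_, ?_⟩
  · intro e he
    have h1 := Finsupp.support_finsetSum he
    rw [Finset.mem_biUnion] at h1
    obtain ⟨v, hv, hev⟩ := h1
    have h2 := Finsupp.support_single_subset hev
    rw [Finset.mem_singleton] at h2
    rw [h2]
    exact hε v hv
  · apply val_ext
    intro x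
    have hx : (monomial c (1 : R) : MvPolynomial (Fin (n + 1)) R) ^ k ∉
        x.1.asHomogeneousIdeal.toIdeal := fun h =>
      (Proj.mem_basicOpen _ _ _).mp x.2 (x.1.isPrime.mem_of_pow_mem k h)
    have hbk : (monomial (k • c) (1 : R) : MvPolynomial (Fin (n + 1)) R) ∉
        x.1.asHomogeneousIdeal := by
      rw [← hgk]
      exact hx
    rw [hval' x hx, map_sum, val_sum]
    have h3 : ∀ v ∈ (m.1).support,
        val (alpha d (Proj.basicOpen (CohB1.polyGrading n R) (monomial c (1 : R)))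
          (Finsupp.single (ε v) (coeff v m.1))) x =
        Localization.mk (monomial v (coeff v m.1)) ⟨monomial (k • c) 1, hbk⟩ := by
      intro v hv
      rw [alpha_single]
      refine val_secT (hcond v hv) _ x (fun i => ?_) hbk
      rw [hεi, Finsupp.smul_apply, smul_eq_mul]
      push_cast
      ring
    rw [Finset.sum_congr rfl h3, mk_sum, support_sum_monomial_coeff, Localization.mk_eq_mk_iff]
    apply Localization.r_of_eq
    change (monomial c (1 : R)) ^ k * m.1 = monomial (k • c) (1 : R) * m.1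
    rw [hgk]

end Groth.Agent.Lib.Helper7.PnSections
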