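import Groth.Agent.Lib.Helper7.PnGamma
import Groth.Agent.Lib.Helper7.AltComb
import Groth.Agent.Lib.Helper7.HomologyElem
import Groth.Agent.Lib.Helper13.CechLES

/-!
# The presheaf of all Laurent polynomial sections of `O(d)` and its Čech cochains
-/

set_option autoImplicit false
universe u
open CategoryTheory CategoryTheory.Limits AlgebraicGeometry TopologicalSpace Opposite
open Scheme.Modules MvPolynomial

noncomputable section

namespace Groth.Agent.Lib.Helper7.PnTop

open PnLaurent PnSections PnCech PnGamma Groth.Agent.Lib.Helper3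
  Groth.Agent.Lib.Helper3.TwistBasic Groth.Agent.Lib.Helper3.QCSec Groth.Agent.Lib.Helper13
  Groth.Agent.Lib.Helper13.CechBasic Groth.Agent.Lib.Helper13.CechLocal
  Groth.Agent.Lib.Helper13.CechLES

variable {n : ℕ} {R : Type u} [CommRing R]

/-- all exponents are negative -/
def AllNeg (e : Ex n) : Prop := ∀ l, e l < 0

instance : DecidablePred (AllNeg (n := n)) := fun e => by unfold AllNeg; infer_instance

/-- the exponents of the top cohomology -/
def NegEx (n : ℕ) (d : ℤ) (e : Ex n) : Prop := (∑ i, e i = d) ∧ AllNeg e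

variable (R) in
/-- Laurent polynomials with a condition on the support -/
def suppSub (C : Ex n → Prop) : AddSubgroup (Lau n R) where
  carrier := {F | ∀ e ∈ F.support, C e}
  zero_mem' := by intro e he; simp at he
  add_mem' := by
    classical
    intro F G hF hG e he
    rcases Finset.mem_union.mp (Finsupp.support_add he) with h | h
    · exact hF e h
    · exact hG e h
  neg_mem' := by
    intro F hF e he
    rw [Finsupp.support_neg] at he
    exact hF e he

theorem suppSub_mono {C C' : Ex n → Prop} (h : ∀ e, C e → C' e) : suppSub R C ≤ suppSub R C' :=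
  fun _ hF e he => h e (hF e he)

/-- the all-negative part of a Laurent polynomial -/
def filt : Lau n R →+ Lau n R := Finsupp.filterAddHom AllNeg

theorem filt_apply (F : Lau n R) : filt F = F.filter AllNeg := rfl

theorem mem_supp_filt {F : Lau n R} {e : Ex n} :
    e ∈ (filt F).support ↔ e ∈ F.support ∧ AllNeg e := by
  rw [filt_apply, Finsupp.support_filter, Finset.mem_filter]

theorem filt_smul (r : R) (F : Lau n R) : filt (r • F) = r • filt F := by
  rw [filt_apply, filt_apply, Finsupp.filter_smul]

theorem filt_eq_self {F : Lau n R} (h : ∀ e ∈ F.support, AllNeg e) : filt F = F := by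
  rw [filt_apply, Finsupp.filter_eq_self_iff]
  intro e he
  exact h e (Finsupp.mem_support_iff.mpr he)

/-- the module of Laurent polynomials of degree `d` with all exponents negative -/
abbrev ND (n : ℕ) (R : Type u) [CommRing R] (d : ℤ) : Submodule R (Lau n R) :=
  Finsupp.supported R R {e : Ex n | NegEx n d e}

variable (n R) in
/-- the presheaf of all Laurent polynomials defining sections of `O(d)` -/
def PA (d : ℤ) : TopCat.Presheaf AddCommGrpCat.{u} (Proj (CohB1.polyGrading n R)) where
  obj W := AddCommGrpCat.of (suppSub R (Cond n R d W.unop))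
  map {W W'} f := AddCommGrpCat.ofHom
    (AddSubgroup.inclusion (suppSub_mono fun _ he => he.mono (leOfHom f.unop)))
  map_id W := by ext x; rfl
  map_comp f g := by ext x; rfl

/-- the inclusion of the good part -/
def iotaNat (d : ℤ) : PL n R d ⟶ PA n R d where
  app W := AddCommGrpCat.ofHom (AddSubgroup.inclusion (H := good R d (SW n R W.unop))
    (K := suppSub R (Cond n R d W.unop))
    (fun F hF e he => ⟨(hF e he).1, fun i hi => (hF e he).2.1 i hi⟩))
  naturality W W' f := by ext x; rfl

/-- the comparison morphism to the sections of `O(d)` -/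
def alphaA (d : ℤ) : PA n R d ⟶ (Twist.twist (CohB1.polyGrading n R) d).presheaf where
  app W := AddCommGrpCat.ofHom ((alpha d W.unop).comp (suppSub R (Cond n R d W.unop)).subtype)
  naturality W W' f := by
    ext x
    exact (res_alpha (leOfHom f.unop) (fun e he => x.2 e he)).symm

/-- the projection onto the all-negative part -/
def nuNat (d : ℤ) : PA n R d ⟶ PA n R d where
  app W := AddCommGrpCat.ofHom (AddMonoidHom.codRestrict
    (filt.comp (suppSub R (Cond n R d W.unop)).subtype) (suppSub R (Cond n R d W.unop))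
    (fun F e he => F.2 e (mem_supp_filt.mp he).1))
  naturality W W' f := by ext x; rfl

/-- multiplication by a scalar -/
def muNat (d : ℤ) (r : R) : PA n R d ⟶ PA n R d where
  app W := AddCommGrpCat.ofHom (AddMonoidHom.codRestrict
    ((DistribSMul.toAddMonoidHom (Lau n R) r).comp
      (suppSub R (Cond n R d W.unop)).subtype) (suppSub R (Cond n R d W.unop))
    (fun F e he => F.2 e (Finsupp.support_smul he)))
  naturality W W' f := by ext x; rfl

/-- multiplication by a scalar on the sections of `O(d)` -/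
def sigmaNat (d : ℤ) (r : R) : (Twist.twist (CohB1.polyGrading n R) d).presheaf ⟶
    (Twist.twist (CohB1.polyGrading n R) d).presheaf :=
  (Coh.smulAb (Twist.twist (CohB1.polyGrading n R) d)
    (Coh.toGlobal (CohB1.ProjSpace.toSpec n R) r)).hom

theorem sigmaNat_app (d : ℤ) (r : R) (W : (Proj (CohB1.polyGrading n R)).Opens)
    (t : Γ(Twist.twist (CohB1.polyGrading n R) d, W)) :
    ((sigmaNat d r).app (op W)).hom t =
      rres (Proj (CohB1.polyGrading n R)) (le_top : W ≤ ⊤) (rhoR n R r) • t := rfl

theorem alpha_smul (d : ℤ) (W : (Proj (CohB1.polyGrading n R)).Opens) (r : R) (F : Lau n R) :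
    alpha d W (r • F) =
      rres (Proj (CohB1.polyGrading n R)) (le_top : W ≤ ⊤) (rhoR n R r) • alpha d W F := by
  induction F using Finsupp.induction_linear with
  | zero => rw [smul_zero, map_zero, smul_zero]
  | add F G hF hG => rw [smul_add, map_add, map_add, smul_add, hF, hG]
  | single e a =>
    rw [Finsupp.smul_single, alpha_single, alpha_single]
    by_cases h : Cond n R d W e
    · apply val_ext
      intro x
      rw [val_smul, fval_res, fval_rhoR, secT_pos h, secT_pos h, val_monSec, val_monSec,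
        Localization.mk_mul, one_mul, smul_eq_mul, ← MvPolynomial.C_mul_monomial]
    · simp only [secT, dif_neg h, smul_zero]

theorem alphaA_sigma (d : ℤ) (r : R) :
    alphaA (n := n) (R := R) d ≫ sigmaNat d r = muNat d r ≫ alphaA d := by
  ext W x
  exact (alpha_smul d W r x.1).symm

/-- the identity tuple -/
def idT (n : ℕ) : Fin (n + 1) → Idx.{u} n := fun k => ULift.up k

section Cochains

variable {d : ℤ} {m : ℕ}

/-- the component of a cochain, as a Laurent polynomial -/
def cmp (x : (cx (Vu n R) (PA n R d)).X m) (i : Fin (m + 1) → Idx.{u} n) : Lau n R :=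
  ((proj (Vu n R) (PA n R d) m i).hom x).1

theorem cmp_mem (x : (cx (Vu n R) (PA n R d)).X m) (i : Fin (m + 1) → Idx.{u} n) :
    ∀ e ∈ (cmp x i).support, Cond n R d (∏ᶜ (Vu n R ∘ i)) e :=
  ((proj (Vu n R) (PA n R d) m i).hom x).2

theorem cmp_zero (i : Fin (m + 1) → Idx.{u} n) :
    cmp (0 : (cx (Vu n R) (PA n R d)).X m) i = 0 := by
  unfold cmp
  rw [map_zero]
  rfl

theorem cmp_add (x y : (cx (Vu n R) (PA n R d)).X m) (i : Fin (m + 1) → Idx.{u} n) :
    cmp (x + y) i = cmp x i + cmp y i := by
  unfold cmp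
  rw [map_add]
  rfl

theorem cmp_ext {x y : (cx (Vu n R) (PA n R d)).X m} (h : ∀ i, cmp x i = cmp y i) : x = y :=
  ext_elem _ _ (fun i => Subtype.ext (h i))

theorem cmp_mk (c : ∀ i : Fin (m + 1) → Idx.{u} n, (PA n R d).obj (op (∏ᶜ (Vu n R ∘ i))))
    (i : Fin (m + 1) → Idx.{u} n) : cmp (mk (Vu n R) (PA n R d) c) i = (c i).1 := by
  unfold cmp
  rw [proj_mk]

theorem coe_sum_zsmul {H : AddSubgroup (Lau n R)} {ι : Type*} (s : Finset ι) (z : ι → ℤ)
    (f : ι → H) : ((∑ k ∈ s, z k • f k : H) : Lau n R) = ∑ k ∈ s, z k • (f k : Lau n R) := by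
  rw [← AddSubgroup.subtype_apply, map_sum]
  refine Finset.sum_congr rfl fun k _ => ?_
  rw [map_zsmul]
  rfl

theorem cmp_d (x : (cx (Vu n R) (PA n R d)).X m) (j : Fin (m + 2) → Idx.{u} n) :
    cmp (((cx (Vu n R) (PA n R d)).d m (m + 1)).hom x) j =
      ∑ k : Fin (m + 2), (-1 : ℤ) ^ (k : ℕ) • cmp x (j ∘ k.succAbove) := by
  have h := d_apply (Vu n R) (PA n R d) m x j
  have h2 := congrArg Subtype.val h
  refine h2.trans ?_
  exact (coe_sum_zsmul (H := suppSub R (Cond n R d (∏ᶜ (Vu n R ∘ j)))) Finset.univ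
    (fun k : Fin (m + 2) => (-1 : ℤ) ^ (k : ℕ))
    (fun k => ((PA n R d).map (face (Vu n R) j k).op).hom
      ((proj (Vu n R) (PA n R d) m (j ∘ k.succAbove)).hom x))).trans
    (Finset.sum_congr rfl fun k _ => rfl)

theorem cech_comm {P P' : TopCat.Presheaf AddCommGrpCat.{u} (Proj (CohB1.polyGrading n R))}
    (τ : P ⟶ P') (m : ℕ) (x : (cx (Vu n R) P).X m) :
    ((cx (Vu n R) P').d m (m + 1)).hom ((((cechComplexFunctor (Vu n R)).map τ).f m).hom x) =
      (((cechComplexFunctor (Vu n R)).map τ).f (m + 1)).hom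
        (((cx (Vu n R) P).d m (m + 1)).hom x) :=
  ConcreteCategory.congr_hom (((cechComplexFunctor (Vu n R)).map τ).comm m (m + 1)) x

theorem cmp_map_nu (x : (cx (Vu n R) (PA n R d)).X m) (i : Fin (m + 1) → Idx.{u} n) :
    cmp ((((cechComplexFunctor (Vu n R)).map (nuNat d)).f m).hom x) i = filt (cmp x i) := by
  unfold cmp
  rw [map_proj_apply]
  rfl

theorem cmp_map_mu (r : R) (x : (cx (Vu n R) (PA n R d)).X m) (i : Fin (m + 1) → Idx.{u} n) :
    cmp ((((cechComplexFunctor (Vu n R)).map (muNat d r)).f m).hom x) i = r • cmp x i := by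
  unfold cmp
  rw [map_proj_apply]
  rfl

theorem cmp_map_iota (x : (cx (Vu n R) (PL n R d)).X m) (i : Fin (m + 1) → Idx.{u} n) :
    cmp ((((cechComplexFunctor (Vu n R)).map (iotaNat d)).f m).hom x) i =
      ((proj (Vu n R) (PL n R d) m i).hom x).1 := by
  unfold cmp
  rw [map_proj_apply]
  rfl

theorem iota_injective (x : (cx (Vu n R) (PL n R d)).X m)
    (hx : (((cechComplexFunctor (Vu n R)).map (iotaNat d)).f m).hom x = 0) : x = 0 := by
  apply ext_elem
  intro i
  rw [map_zero]
  apply Subtype.ext
  have h := cmp_map_iota x i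
  rw [hx, cmp_zero] at h
  exact h.symm

end Cochains

end Groth.Agent.Lib.Helper7.PnTop
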