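import Groth.Agent.Lib.Helper7.PnTopA

/-!
# The top-degree Čech cohomology of the presheaf of Laurent polynomial sections of `O(d)`
-/

set_option autoImplicit false
universe u
open CategoryTheory CategoryTheory.Limits AlgebraicGeometry TopologicalSpace Opposite
open Scheme.Modules MvPolynomial

noncomputable section

namespace Groth.Agent.Lib.Helper7.PnTop

open PnLaurent PnSections PnCech PnGamma Groth.Agent.Lib.Helper3
  Groth.Agent.Lib.Helper3.TwistBasic Groth.Agent.Lib.Helper3.QCSec Groth.Agent.Lib.Helper13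
  Groth.Agent.Lib.Helper13.CechBasic Groth.Agent.Lib.Helper13.CechLocal
  Groth.Agent.Lib.Helper13.CechLES

variable {n : ℕ} {R : Type u} [CommRing R]

theorem eq_zero_of_allNeg_of_not_surj {d : ℤ} {m : ℕ} (i : Fin (m + 1) → Idx.{u} n)
    (hi : ¬ Function.Surjective (fun k => (i k).down)) (F : Lau n R)
    (hF : ∀ e ∈ F.support, Cond n R d (∏ᶜ (Vu n R ∘ i)) e)
    (hneg : ∀ e ∈ F.support, AllNeg e) : F = 0 := by
  by_contra hne
  obtain ⟨e, he⟩ := Finsupp.support_nonempty_iff.mpr hne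
  haveI : Nontrivial R := nontrivial_of_ne (F e) 0 (Finsupp.mem_support_iff.mp he)
  simp only [Function.Surjective, not_forall, not_exists] at hi
  obtain ⟨l, hl⟩ := hi
  have hW := (hF e he).2 l (hneg e he l)
  rw [prod_eq_iInf] at hW
  obtain ⟨x, hx, hxl⟩ := exists_point (n := n) (R := R) (j := (i 0).down) (l := l) (hl 0)
  apply hxl
  apply hW
  exact (mem_iInf_V (fun k => (i k).down) x).mpr (fun k => hx _ (hl k))

variable (n R) in
/-- the all-negative part of the component at the identity tuple -/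
def psi (d : ℤ) : (cx (Vu n R) (PA n R d)).X n →+ ND n R d where
  toFun x := ⟨filt (cmp x (idT n)), by
    rw [Finsupp.mem_supported]
    intro e he
    have he' := mem_supp_filt.mp (Finset.mem_coe.mp he)
    exact ⟨(cmp_mem x (idT n) e he'.1).1, he'.2⟩⟩
  map_zero' := Subtype.ext
    (show filt (cmp (0 : (cx (Vu n R) (PA n R d)).X n) (idT n)) = 0 by rw [cmp_zero, map_zero])
  map_add' x y := Subtype.ext
    (show filt (cmp (x + y) (idT n)) = filt (cmp x (idT n)) + filt (cmp y (idT n)) by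
      rw [cmp_add, map_add])

theorem psi_val (d : ℤ) (x : (cx (Vu n R) (PA n R d)).X n) :
    (psi n R d x).1 = filt (cmp x (idT n)) := rfl

theorem psi_d (d : ℤ) (m : ℕ) (b : (cx (Vu (m + 1) R) (PA (m + 1) R d)).X m) :
    psi (m + 1) R d (((cx (Vu (m + 1) R) (PA (m + 1) R d)).d m (m + 1)).hom b) = 0 := by
  apply Subtype.ext
  rw [psi_val, cmp_d, map_sum]
  refine Finset.sum_eq_zero fun k _ => ?_
  rw [map_zsmul]
  have h0 : filt (cmp b (idT (m + 1) ∘ k.succAbove)) = 0 := by
    refine eq_zero_of_allNeg_of_not_surj (d := d) (idT (m + 1) ∘ k.succAbove) ?_ _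
      (fun e he => cmp_mem b _ e (mem_supp_filt.mp he).1) (fun e he => (mem_supp_filt.mp he).2)
    intro hs
    have := Fintype.card_le_of_surjective _ hs
    simp only [Fintype.card_fin] at this
    omega
  rw [h0, smul_zero]

theorem psi_mu (d : ℤ) (r : R) (x : (cx (Vu n R) (PA n R d)).X n) :
    psi n R d ((((cechComplexFunctor (Vu n R)).map (muNat d r)).f n).hom x) =
      r • psi n R d x := by
  apply Subtype.ext
  rw [psi_val, cmp_map_mu, filt_smul]
  rfl

theorem alt_mem (d : ℤ) (y : ND n R d) (i : Fin (n + 1) → Idx.{u} n) :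
    ((AltComb.sg (fun k => (i k).down) : ℤ) : R) • y.1 ∈
      suppSub R (Cond n R d (∏ᶜ (Vu n R ∘ i))) := by
  intro e he
  by_cases hs : Function.Surjective (fun k => (i k).down)
  · have he' : e ∈ y.1.support := Finsupp.support_smul he
    have hN : NegEx n d e := (Finsupp.mem_supported R y.1).mp y.2 (Finset.mem_coe.mpr he')
    refine ⟨hN.1, fun l _ => ?_⟩
    obtain ⟨k, hk⟩ := hs l
    rw [prod_eq_iInf]
    have h1 : Vu n R (i k) = V n R l := by rw [← hk]; rfl
    rw [← h1]
    exact iInf_le (fun k => Vu n R (i k)) k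
  · rw [AltComb.sg_eq_zero _ hs, Int.cast_zero, zero_smul] at he
    simp at he

/-- the alternating cochain attached to an all-negative Laurent polynomial -/
def altC (d : ℤ) (y : ND n R d) : (cx (Vu n R) (PA n R d)).X n :=
  mk (Vu n R) (PA n R d)
    (fun i => ⟨((AltComb.sg (fun k => (i k).down) : ℤ) : R) • y.1, alt_mem d y i⟩)

theorem cmp_altC (d : ℤ) (y : ND n R d) (i : Fin (n + 1) → Idx.{u} n) :
    cmp (altC d y) i = ((AltComb.sg (fun k => (i k).down) : ℤ) : R) • y.1 :=
  cmp_mk _ i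

theorem d_altC (d : ℤ) (y : ND n R d) :
    ((cx (Vu n R) (PA n R d)).d n (n + 1)).hom (altC d y) = 0 := by
  apply cmp_ext
  intro j
  rw [cmp_d, cmp_zero]
  have h : ∀ k : Fin (n + 2), (-1 : ℤ) ^ (k : ℕ) • cmp (altC d y) (j ∘ k.succAbove) =
      (((-1 : ℤ) ^ (k : ℕ) * AltComb.sg ((fun k' => (j k').down) ∘ k.succAbove) : ℤ) : R) •
        y.1 := by
    intro k
    rw [cmp_altC, ← Int.cast_smul_eq_zsmul R, smul_smul, ← Int.cast_mul]
    rfl
  rw [Finset.sum_congr rfl (fun k _ => h k), ← Finset.sum_smul, ← Int.cast_sum, AltComb.sg_alt,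
    Int.cast_zero, zero_smul]

theorem psi_altC (d : ℤ) (y : ND n R d) : psi n R d (altC d y) = y := by
  apply Subtype.ext
  rw [psi_val, cmp_altC]
  have h1 : AltComb.sg (fun k => (idT.{u} n k).down) = 1 := AltComb.sg_id (n + 1)
  rw [h1, Int.cast_one, one_smul]
  exact filt_eq_self
    (fun e he => ((Finsupp.mem_supported R y.1).mp y.2 (Finset.mem_coe.mpr he)).2)

theorem allNeg_cocycle_eq_zero (d : ℤ) (w : (cx (Vu n R) (PA n R d)).X n)
    (hd : ((cx (Vu n R) (PA n R d)).d n (n + 1)).hom w = 0)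
    (hneg : ∀ i, ∀ e ∈ (cmp w i).support, AllNeg e) (h0 : cmp w (idT n) = 0) : w = 0 := by
  apply cmp_ext
  intro i
  rw [cmp_zero]
  have key := AltComb.alt_unique (N := Lau n R) (n := n)
    (fun i' : Fin (n + 1) → Fin (n + 1) => cmp w (fun k => ULift.up (i' k))) ?_ ?_ h0
  · exact key (fun k => (i k).down)
  · intro i' hi'
    refine eq_zero_of_allNeg_of_not_surj (d := d) (fun k => ULift.up (i' k)) ?_ _
      (cmp_mem w _) (hneg _)
    intro hs
    exact hi' (Finite.injective_iff_surjective.mpr hs)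
  · intro j
    have h := cmp_d w (fun k => ULift.up (j k))
    rw [hd, cmp_zero] at h
    exact h.symm

theorem exists_good_cocycle (d : ℤ) (x : (cx (Vu n R) (PA n R d)).X n)
    (hx : ((cx (Vu n R) (PA n R d)).d n (n + 1)).hom x = 0) (hψ : psi n R d x = 0) :
    ∃ x₀ : (cx (Vu n R) (PL n R d)).X n,
      ((cx (Vu n R) (PL n R d)).d n (n + 1)).hom x₀ = 0 ∧
        (((cechComplexFunctor (Vu n R)).map (iotaNat d)).f n).hom x₀ = x := by
  have hw : (((cechComplexFunctor (Vu n R)).map (nuNat d)).f n).hom x = 0 := by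
    apply allNeg_cocycle_eq_zero d
    · rw [cech_comm, hx, map_zero]
    · intro i e he
      rw [cmp_map_nu] at he
      exact (mem_supp_filt.mp he).2
    · rw [cmp_map_nu]
      exact congrArg Subtype.val hψ
  have hfilt : ∀ i, filt (cmp x i) = 0 := by
    intro i
    rw [← cmp_map_nu, hw, cmp_zero]
  have hgood : ∀ i : Fin (n + 1) → Idx.{u} n,
      cmp x i ∈ good R d (SW n R (∏ᶜ (Vu n R ∘ i))) := by
    intro i e he
    have hC := cmp_mem x i e he
    refine ⟨hC.1, fun l hl => hC.2 l hl, ?_⟩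
    by_contra hall
    push Not at hall
    have h1 : e ∈ (filt (cmp x i)).support := mem_supp_filt.mpr ⟨he, hall⟩
    rw [hfilt i] at h1
    simp at h1
  let x₀ : (cx (Vu n R) (PL n R d)).X n :=
    mk (Vu n R) (PL n R d) (fun i => ⟨cmp x i, hgood i⟩)
  have hx₀ : (((cechComplexFunctor (Vu n R)).map (iotaNat d)).f n).hom x₀ = x := by
    apply cmp_ext
    intro i
    rw [cmp_map_iota]
    exact congrArg Subtype.val (proj_mk (Vu n R) (PL n R d) (fun i => ⟨cmp x i, hgood i⟩) i)
  refine ⟨x₀, ?_, hx₀⟩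
  apply iota_injective
  rw [← cech_comm, hx₀, hx]

theorem exists_boundary (n : ℕ) (k : ℕ)
    (x : (cx (Vu n R) (PA n R (-((n : ℤ) + 1 + k)))).X n)
    (hx : ((cx (Vu n R) (PA n R (-((n : ℤ) + 1 + k)))).d n (n + 1)).hom x = 0)
    (hψ : psi n R (-((n : ℤ) + 1 + k)) x = 0) :
    ∃ (i : ℕ) (b : (cx (Vu n R) (PA n R (-((n : ℤ) + 1 + k)))).X i),
      ((cx (Vu n R) (PA n R (-((n : ℤ) + 1 + k)))).d i n).hom b = x := by
  obtain ⟨x₀, hx₀d, hx₀⟩ := exists_good_cocycle _ x hx hψ
  cases n with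
  | zero =>
    have h0 : x₀ = 0 := by
      apply ext_elem
      intro i
      rw [map_zero]
      apply Subtype.ext
      by_contra hne
      obtain ⟨e, he⟩ := Finsupp.support_nonempty_iff.mpr hne
      have hg := ((proj (Vu 0 R) (PL 0 R (-(((0 : ℕ) : ℤ) + 1 + k))) 0 i).hom x₀).2 e he
      obtain ⟨l, hl⟩ := hg.2.2
      have hsum := hg.1
      have hl0 : l = 0 := Fin.fin_one_eq_zero l
      rw [hl0] at hl
      simp only [Fin.sum_univ_succ, Fin.sum_univ_zero, add_zero] at hsum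
      push_cast at hsum
      omega
    refine ⟨0, 0, ?_⟩
    rw [map_zero, ← hx₀, h0, map_zero]
  | succ m =>
    have hP := isZero_homology_PL (m + 1) R (-(((m + 1 : ℕ) : ℤ) + 1 + k)) m
    rw [← HomologicalComplex.exactAt_iff_isZero_homology,
      HomologicalComplex.exactAt_iff' _ m (m + 1) (m + 2) (by simp) (by simp),
      ShortComplex.ab_exact_iff] at hP
    have hb : ∃ b₀ : (cx (Vu (m + 1) R) (PL (m + 1) R (-(((m + 1 : ℕ) : ℤ) + 1 + k)))).X m,
        ((cx (Vu (m + 1) R) (PL (m + 1) R (-(((m + 1 : ℕ) : ℤ) + 1 + k)))).d m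
        (m + 1)).hom b₀ = x₀ := hP x₀ hx₀d
    obtain ⟨b₀, hb₀'⟩ := hb
    refine ⟨m, (((cechComplexFunctor (Vu (m + 1) R)).map (iotaNat _)).f m).hom b₀, ?_⟩
    rw [cech_comm, hb₀', hx₀]

/-- the top-degree Čech cohomology of the presheaf of Laurent polynomial sections -/
theorem exists_cechPA_equiv (n : ℕ) (R : Type u) [CommRing R] (k : ℕ) :
    ∃ E : (cx (Vu n R) (PA n R (-((n : ℤ) + 1 + k)))).homology n ≃+
        ND n R (-((n : ℤ) + 1 + k)),
      ∀ (r : R) (h : (cx (Vu n R) (PA n R (-((n : ℤ) + 1 + k)))).homology n),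
        E ((HomologicalComplex.homologyMap ((cechComplexFunctor (Vu n R)).map
          (muNat (-((n : ℤ) + 1 + k)) r)) n).hom h) = r • E h := by
  obtain ⟨E, hE⟩ := HomologyElem.exists_homologyEquiv
    (cx (Vu n R) (PA n R (-((n : ℤ) + 1 + k)))) n (psi n R (-((n : ℤ) + 1 + k)))
    (fun i b hi => by subst hi; exact psi_d _ i b)
    (fun y => ⟨altC _ y, d_altC _ y, psi_altC _ y⟩)
    (fun x hx hψ => exists_boundary n k x hx hψ)
  refine ⟨E, fun r h => ?_⟩
  exact HomologyElem.homologyEquiv_natural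
    ((cechComplexFunctor (Vu n R)).map (muNat (-((n : ℤ) + 1 + k)) r)) n
    (psi n R (-((n : ℤ) + 1 + k))) (psi n R (-((n : ℤ) + 1 + k))) E E hE hE
    (fun a => r • a) (fun x => psi_mu _ r x) h

end Groth.Agent.Lib.Helper7.PnTop
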