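import Mathlib
import Groth.Agent.Lib.Helper7.PowSerCRing
import Groth.Agent.Lib.Helper19.ArtFunHR
import Groth.Agent.S12714

/-!
# `h_S → h_R` is smooth iff `S ≅ R[[X₁..Xₙ]]` (helper7)
-/

set_option autoImplicit false
universe u v

open CategoryTheory

namespace Groth.Agent.Lib.Helper7.PowSerVersal

open MvPowerSeries ArtFun ArtFun.Art
open Groth.Agent.Lib.Helper7.PowSerCRing
open Groth.Agent.Lib.Helper19.ArtFunBasic Groth.Agent.Lib.Helper19.ArtFunCRing

variable {Λ : Type u} {k : Type u} [CommRing Λ] [Field k] [Algebra Λ k]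

/-- a power series ring over `R` is versal over `h_R` -/
theorem isVersal_of_equiv (R S : CRing Λ k) [Algebra R.carrier S.carrier]
    [IsScalarTower Λ R.carrier S.carrier]
    (hRS : S.res.comp (IsScalarTower.toAlgHom Λ R.carrier S.carrier) = R.res) (n : ℕ)
    (e : S.carrier ≃ₐ[R.carrier] MvPowerSeries (Fin n) R.carrier) :
    IsVersal ((Family.self R.carrier R.res).along
      (IsScalarTower.toAlgHom Λ R.carrier S.carrier) hRS) := by
  intro B A μ hμ φ y0 hy0
  let y : HomSet R.carrier R.res B := y0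
  have hy : ∀ r, μ (y.1 r) = φ.1 (algebraMap R.carrier S.carrier r) := by
    intro r
    have h1 : HomSet.map μ y = ⟨φ.1.comp (IsScalarTower.toAlgHom Λ R.carrier S.carrier),
        by rw [← AlgHom.comp_assoc, φ.2, hRS]⟩ := hy0
    exact AlgHom.congr_fun (congrArg Subtype.val h1) r
  have hX : ∀ i, S.res (e.symm (X i)) = 0 := by
    intro i
    rw [← CRing.mem_maximalIdeal_iff, IsLocalRing.mem_maximalIdeal, mem_nonunits_iff]
    intro hu
    have h1 : IsUnit (e (e.symm (X i))) := hu.map e
    rw [e.apply_symm_apply] at h1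
    have h2 := MvPowerSeries.isUnit_iff_constantCoeff.mp h1
    rw [constantCoeff_X] at h2
    exact not_isUnit_zero h2
  have hres : ∀ t : MvPowerSeries (Fin n) R.carrier, S.res (e.symm t) = R.res (constantCoeff t) := by
    intro t
    have h := evNil_unique
      ((S.res : S.carrier →+* k).comp (e.symm : MvPowerSeries (Fin n) R.carrier →+* S.carrier))
      ((R.res : R.carrier →+* k).comp (constantCoeff (σ := Fin n) (R := R.carrier)))
      (fun r => by
        show S.res (e.symm (C r)) = R.res (constantCoeff (C r))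
        rw [constantCoeff_C, c_eq_algebraMap, e.symm.commutes]
        exact AlgHom.congr_fun hRS r)
      (fun i => by
        show S.res (e.symm (X i)) = R.res (constantCoeff (X i))
        rw [hX, constantCoeff_X, map_zero])
      (fun i => by
        show IsNilpotent (S.res (e.symm (X i)))
        rw [hX]; exact IsNilpotent.zero)
    exact RingHom.congr_fun h t
  choose c hc using fun i => hμ (φ.1 (e.symm (X i)))
  have hcm : ∀ i, c i ∈ IsLocalRing.maximalIdeal B := by
    intro i
    rw [Art.mem_maximalIdeal_iff, ← Art.res_app μ, hc]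
    have := AlgHom.congr_fun φ.2 (e.symm (X i))
    rw [show A.res (φ.1 (e.symm (X i))) = S.res (e.symm (X i)) from this, hX]
  obtain ⟨ψT, hψC, hψX⟩ := exists_hom_art R n B y c hcm
  have hcomm : ∀ l : Λ, ψT.1 (e (algebraMap Λ S.carrier l)) = algebraMap Λ B l := by
    intro l
    rw [IsScalarTower.algebraMap_apply Λ R.carrier S.carrier, e.commutes, ← c_eq_algebraMap, hψC]
    exact y.1.commutes l
  let ψ : S.carrier →ₐ[Λ] B :=
    { (ψT.1 : MvPowerSeries (Fin n) R.carrier →+* B).comp
        (e : S.carrier →+* MvPowerSeries (Fin n) R.carrier) with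
      commutes' := hcomm }
  have hψ : ∀ s, ψ s = ψT.1 (e s) := fun s => rfl
  have hψres : B.res.comp ψ = S.res := by
    apply AlgHom.ext
    intro s
    show B.res (ψT.1 (e s)) = S.res s
    have h1 : B.res (ψT.1 (e s)) = powRes R n (e s) := AlgHom.congr_fun ψT.2 (e s)
    rw [h1, powRes_apply, ← hres, e.symm_apply_apply]
  have hμψ : ∀ t : MvPowerSeries (Fin n) R.carrier, μ (ψT.1 t) = φ.1 (e.symm t) := by
    intro t
    have h := evNil_unique
      ((μ.toAlgHom : B →+* A).comp (ψT.1 : MvPowerSeries (Fin n) R.carrier →+* B))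
      ((φ.1 : S.carrier →+* A).comp (e.symm : MvPowerSeries (Fin n) R.carrier →+* S.carrier))
      (fun r => by
        show μ (ψT.1 (C r)) = φ.1 (e.symm (C r))
        rw [hψC, hy, c_eq_algebraMap, e.symm.commutes])
      (fun i => by
        show μ (ψT.1 (X i)) = φ.1 (e.symm (X i))
        rw [hψX, hc])
      (fun i => by
        show IsNilpotent (μ (ψT.1 (X i)))
        rw [hψX]
        exact (isNilpotent_of_mem B (hcm i)).map μ.toAlgHom)
    exact RingHom.congr_fun h t
  refine ⟨⟨ψ, hψres⟩, Subtype.ext (AlgHom.ext fun s => ?_), Subtype.ext (AlgHom.ext fun r => ?_)⟩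
  · show μ (ψT.1 (e s)) = φ.1 s
    rw [hμψ, e.symm_apply_apply]
  · show ψT.1 (e (algebraMap R.carrier S.carrier r)) = y.1 r
    rw [e.commutes, ← c_eq_algebraMap, hψC]

theorem reindex {S : Type*} [CommRing S] (I mS : Ideal S) (hI : I ≤ mS) :
    ∀ (n : ℕ) (x : Fin n → S) (i₀ : Fin n), (∀ i, x i ∈ mS) →
      mS ≤ I ⊔ Ideal.span (x '' {i | i ≠ i₀}) →
      ∃ m, m < n ∧ ∃ x' : Fin m → S, (∀ i, x' i ∈ mS) ∧ mS = I ⊔ Ideal.span (Set.range x') := by
  intro n
  cases n with
  | zero => intro x i₀; exact i₀.elim0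
  | succ m =>
    intro x i₀ hxm hle
    refine ⟨m, Nat.lt_succ_self m, x ∘ i₀.succAbove, fun j => hxm _, le_antisymm ?_ ?_⟩
    · have hr : Set.range (x ∘ i₀.succAbove) = x '' {i | i ≠ i₀} := by
        rw [Set.range_comp, Fin.range_succAbove]
        rfl
      rw [hr]; exact hle
    · refine sup_le hI ?_
      rw [Ideal.span_le]
      rintro _ ⟨j, rfl⟩
      exact hxm _

variable [IsNoetherianRing Λ] [Module.Finite Λ k]

/-- if `h_S → h_R` is smooth then `S` is a power series ring over `R` -/
theorem exists_equiv_of_isVersal (R S : CRing Λ k) [Algebra R.carrier S.carrier]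
    [IsScalarTower Λ R.carrier S.carrier]
    (hRS : S.res.comp (IsScalarTower.toAlgHom Λ R.carrier S.carrier) = R.res)
    (hV : IsVersal ((Family.self R.carrier R.res).along
      (IsScalarTower.toAlgHom Λ R.carrier S.carrier) hRS)) :
    ∃ n : ℕ, Nonempty (S.carrier ≃ₐ[R.carrier] MvPowerSeries (Fin n) R.carrier) := by
  classical
  set ι : R.carrier →ₐ[Λ] S.carrier := IsScalarTower.toAlgHom Λ R.carrier S.carrier with hι
  set mS := IsLocalRing.maximalIdeal S.carrier with hmS
  set mR := IsLocalRing.maximalIdeal R.carrier with hmR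
  have hιm : Ideal.map ι mR ≤ mS := by
    rw [Ideal.map_le_iff_le_comap]; exact CRing.maximalIdeal_le_comap ι hRS
  -- minimal generators
  let P : ℕ → Prop := fun n => ∃ x : Fin n → S.carrier, (∀ i, x i ∈ mS) ∧
    mS = Ideal.map ι mR ⊔ Ideal.span (Set.range x)
  have hP : ∃ n, P n := by
    have hfg : mS.FG := IsNoetherian.noetherian mS
    obtain ⟨n, x, hx⟩ := Submodule.fg_iff_exists_fin_generating_family.mp hfg
    have hxm : ∀ i, x i ∈ mS := fun i => by
      rw [← hx]; exact Submodule.subset_span ⟨i, rfl⟩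
    refine ⟨n, x, hxm, le_antisymm ?_ ?_⟩
    · refine le_trans (le_of_eq hx.symm) ?_
      exact le_sup_right
    · refine sup_le hιm ?_
      rw [Ideal.span_le]
      rintro _ ⟨i, rfl⟩
      exact hxm i
  obtain ⟨n, ⟨x, hxm, hgen⟩, hmin⟩ : ∃ n, P n ∧ ∀ m < n, ¬ P m :=
    ⟨Nat.find hP, Nat.find_spec hP, fun m hm => Nat.find_min hP hm⟩
  -- the map u
  obtain ⟨u, hu_res, huC, huX⟩ := exists_hom_cring R n S ι hRS x hxm
  let TT : CRing Λ k := pow R n
  have hum : Ideal.map u (IsLocalRing.maximalIdeal (MvPowerSeries (Fin n) R.carrier)) ≤ mS := by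
    rw [Ideal.map_le_iff_le_comap]
    exact CRing.maximalIdeal_le_comap (R' := TT) (R := S) u hu_res
  have husurj : Function.Surjective u := by
    have htfae := Groth.Agent.S12714.result TT S u hu_res
    apply (htfae.out 1 0).mp
    apply le_antisymm
    · exact sup_le hum (Ideal.pow_le_self two_ne_zero)
    · refine le_trans ?_ le_sup_left
      refine le_trans (le_of_eq hgen) (sup_le ?_ ?_)
      · rw [Ideal.map_le_iff_le_comap]
        intro r hr
        rw [Ideal.mem_comap, ← huC]
        exact Ideal.mem_map_of_mem u (map_C_le (Ideal.mem_map_of_mem C hr))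
      · rw [Ideal.span_le]
        rintro _ ⟨i, rfl⟩
        rw [← huX]
        exact Ideal.mem_map_of_mem u (X_mem i)
  -- the key claim
  have hclaim : ∀ f : MvPowerSeries (Fin n) R.carrier, u f ∈ mS ^ 2 →
      f ∈ Ideal.map (C : R.carrier →+* MvPowerSeries (Fin n) R.carrier) mR ⊔
        IsLocalRing.maximalIdeal (MvPowerSeries (Fin n) R.carrier) ^ 2 := by
    intro f hf
    have hfm : f ∈ IsLocalRing.maximalIdeal (MvPowerSeries (Fin n) R.carrier) := by
      rw [PowSerCRing.mem_maximalIdeal_iff, CRing.mem_maximalIdeal_iff]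
      have h1 : S.res (u f) = powRes R n f := AlgHom.congr_fun hu_res f
      rw [powRes_apply] at h1
      rw [← h1]
      exact (CRing.mem_maximalIdeal_iff S _).mp (Ideal.pow_le_self two_ne_zero hf)
    obtain ⟨h, -, hfe⟩ := decomp (⊤ : Ideal R.carrier) 0 f (mem_W_top _ f)
    choose h2 hW2 hh2 using fun i =>
      decomp (⊤ : Ideal R.carrier) 0 (h i) (mem_W_top _ (h i))
    by_cases hall : ∀ i, constantCoeff (h i) ∈ mR
    · rw [hfe]
      refine Ideal.add_mem _ (Ideal.mem_sup_left
        (Ideal.mem_map_of_mem _ ((PowSerCRing.mem_maximalIdeal_iff f).mp hfm))) ?_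
      refine Ideal.sum_mem _ fun i _ => ?_
      rw [hh2 i, mul_add]
      refine Ideal.add_mem _ (Ideal.mem_sup_left
        (Ideal.mul_mem_left _ _ (Ideal.mem_map_of_mem _ (hall i)))) (Ideal.mem_sup_right ?_)
      rw [pow_two]
      exact Ideal.mul_mem_mul (X_mem i)
        (Ideal.sum_mem _ fun j _ => Ideal.mul_mem_right _ _ (X_mem j))
    · exfalso
      push_neg at hall
      obtain ⟨i₀, hi₀⟩ := hall
      set 𝔮 : Ideal S.carrier :=
        (Ideal.map ι mR ⊔ Ideal.span (x '' {i | i ≠ i₀})) ⊔ mS * mS with h𝔮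
      have huf : u f = ι (constantCoeff f) + ∑ i, x i * u (h i) := by
        conv_lhs => rw [hfe]
        rw [map_add, map_sum, huC]
        simp only [map_mul, huX]
      have hmem1 : x i₀ * u (h i₀) ∈ 𝔮 := by
        have e1 : x i₀ * u (h i₀) =
            u f - ι (constantCoeff f) - ∑ i ∈ Finset.univ.erase i₀, x i * u (h i) := by
          rw [huf, ← Finset.add_sum_erase Finset.univ (fun i => x i * u (h i))
            (Finset.mem_univ i₀)]
          ring
        rw [e1]
        refine Ideal.sub_mem _ (Ideal.sub_mem _ (Ideal.mem_sup_right ?_)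
          (Ideal.mem_sup_left (Ideal.mem_sup_left ?_)))
          (Ideal.sum_mem _ fun i hi => Ideal.mem_sup_left (Ideal.mem_sup_right ?_))
        · rw [← pow_two]; exact hf
        · exact Ideal.mem_map_of_mem ι ((PowSerCRing.mem_maximalIdeal_iff f).mp hfm)
        · exact Ideal.mul_mem_right _ _
            (Ideal.subset_span ⟨i, Finset.ne_of_mem_erase hi, rfl⟩)
      have huh : u (h i₀) = ι (constantCoeff (h i₀)) + ∑ j, x j * u (h2 i₀ j) := by
        conv_lhs => rw [hh2 i₀]
        rw [map_add, map_sum, huC]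
        simp only [map_mul, huX]
      have hmem2 : x i₀ * ι (constantCoeff (h i₀)) ∈ 𝔮 := by
        have e2 : x i₀ * ι (constantCoeff (h i₀)) =
            x i₀ * u (h i₀) - x i₀ * ∑ j, x j * u (h2 i₀ j) := by
          rw [huh]; ring
        rw [e2]
        exact Ideal.sub_mem _ hmem1 (Ideal.mem_sup_right (Ideal.mul_mem_mul (hxm i₀)
          (Ideal.sum_mem _ fun j _ => Ideal.mul_mem_right _ _ (hxm j))))
      have hunit : IsUnit (ι (constantCoeff (h i₀))) := by
        have : IsUnit (constantCoeff (h i₀)) := by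
          by_contra hnu
          exact hi₀ ((IsLocalRing.mem_maximalIdeal _).mpr hnu)
        exact this.map ι
      have hx0 : x i₀ ∈ 𝔮 := by
        obtain ⟨w, hw⟩ := hunit.exists_right_inv
        have : x i₀ = (x i₀ * ι (constantCoeff (h i₀))) * w := by rw [mul_assoc, hw, mul_one]
        rw [this]; exact Ideal.mul_mem_right _ _ hmem2
      have hle : mS ≤ Ideal.map ι mR ⊔ Ideal.span (x '' {i | i ≠ i₀}) := by
        apply Submodule.le_of_le_smul_of_le_jacobson_bot (I := mS) (IsNoetherian.noetherian mS)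
          (IsLocalRing.maximalIdeal_le_jacobson ⊥)
        refine le_trans (le_of_eq hgen) (sup_le (le_trans le_sup_left le_sup_left) ?_)
        rw [Ideal.span_le]
        rintro _ ⟨i, rfl⟩
        by_cases hi : i = i₀
        · rw [hi]; exact hx0
        · exact Ideal.mem_sup_left (Ideal.mem_sup_right (Ideal.subset_span ⟨i, hi, rfl⟩))
      obtain ⟨m, hm, x', hx', hgen'⟩ := reindex (Ideal.map ι mR) mS hιm n x i₀ hxm hle
      exact hmin m hm ⟨x', hx', hgen'⟩
  -- the first-order section
  let Cₐ : R.carrier →ₐ[Λ] TT.carrier :=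
    IsScalarTower.toAlgHom Λ R.carrier (MvPowerSeries (Fin n) R.carrier)
  have hCres : TT.res.comp Cₐ = R.res := by
    apply AlgHom.ext; intro r
    show powRes R n (C r) = R.res r
    rw [powRes_apply, constantCoeff_C]
  let η : FormalElt (hR R.carrier R.res) TT :=
    ((Family.self R.carrier R.res).along Cₐ hCres).toFormalElt
  let ξ : Family S.carrier S.res (hR R.carrier R.res) := (Family.self R.carrier R.res).along ι hRS
  let μ₁ : TT.trunc 1 ⟶ S.trunc 1 := CRing.truncMapOfHom u hu_res 1
  have hμ₁ : Function.Surjective μ₁ := by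
    intro z
    obtain ⟨s, rfl⟩ := Ideal.Quotient.mk_surjective z
    obtain ⟨t, rfl⟩ := husurj s
    exact ⟨Ideal.Quotient.mk _ t, rfl⟩
  obtain ⟨ψ₁, hψ₁μ, hψ₁ξ⟩ := hV μ₁ hμ₁ (S.truncHom 1) (η.elt 1) (by
    apply Subtype.ext
    apply AlgHom.ext
    intro r
    show μ₁ (Ideal.Quotient.mk _ (C r)) = Ideal.Quotient.mk _ (ι r)
    rw [← huC]; rfl)
  obtain ⟨v, hv_res, hvη, hv1⟩ := exists_hom_of_isVersal_from_one S ξ hV TT η ψ₁ hψ₁ξ
  have hvι : ∀ r, v (ι r) = C r := by
    intro r
    apply eq_of_forall_mk_eq TT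
    intro j
    have h1 : ((ξ.along v hv_res).toFormalElt.elt j : HomSet R.carrier R.res (TT.trunc j)) =
        η.elt j := congrArg (fun w => FormalElt.elt w j) hvη
    exact AlgHom.congr_fun (congrArg Subtype.val h1) r
  have hvm : Ideal.map v mS ≤ IsLocalRing.maximalIdeal (MvPowerSeries (Fin n) R.carrier) := by
    rw [Ideal.map_le_iff_le_comap]
    exact CRing.maximalIdeal_le_comap (R' := S) (R := TT) v hv_res
  have huv : ∀ s, u (v s) - s ∈ mS ^ 2 := by
    intro s
    have h1 : μ₁ (ψ₁.1 s) = (S.truncHom 1).1 s := AlgHom.congr_fun (congrArg Subtype.val hψ₁μ) s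
    have h2 : ψ₁.1 s = (TT.truncHom 1).1 (v s) := (AlgHom.congr_fun hv1 s).symm
    rw [h2] at h1
    have h3 : Ideal.Quotient.mk (CRing.mpow S 1) (u (v s)) =
        Ideal.Quotient.mk (CRing.mpow S 1) s := h1
    rw [Ideal.Quotient.eq] at h3
    exact h3
  have hCv : Ideal.map (C : R.carrier →+* MvPowerSeries (Fin n) R.carrier) mR ≤ Ideal.map v mS := by
    rw [Ideal.map_le_iff_le_comap]
    intro r hr
    rw [Ideal.mem_comap, ← hvι]
    exact Ideal.mem_map_of_mem v (hιm (Ideal.mem_map_of_mem ι hr))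
  have hvsurj : Function.Surjective v := by
    have htfae := Groth.Agent.S12714.result S TT v hv_res
    apply (htfae.out 1 0).mp
    apply le_antisymm
    · exact sup_le hvm (Ideal.pow_le_self two_ne_zero)
    · refine le_trans (le_of_eq maximalIdeal_eq_sup) (sup_le (le_trans hCv le_sup_left) ?_)
      rw [Ideal.span_le]
      rintro _ ⟨i, rfl⟩
      have h1 : v (x i) - X i ∈ Ideal.map (C : R.carrier →+* MvPowerSeries (Fin n) R.carrier) mR ⊔
          IsLocalRing.maximalIdeal (MvPowerSeries (Fin n) R.carrier) ^ 2 := hclaim _ (by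
        rw [map_sub, huX]; exact huv (x i))
      have h3 : v (x i) - (v (x i) - X i) ∈ Ideal.map v mS ⊔
          IsLocalRing.maximalIdeal (MvPowerSeries (Fin n) R.carrier) ^ 2 := by
        refine Ideal.sub_mem _ (Ideal.mem_sup_left (Ideal.mem_map_of_mem v (hxm i))) ?_
        exact (sup_le (le_trans hCv le_sup_left) le_sup_right) h1
      rwa [sub_sub_cancel] at h3
  have huvres : S.res.comp (u.comp v) = S.res := by
    rw [← AlgHom.comp_assoc, hu_res]; exact hv_res
  have huvsurj : Function.Surjective (u.comp v) := by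
    have htfae := Groth.Agent.S12714.result S S (u.comp v) huvres
    apply (htfae.out 1 0).mp
    apply le_antisymm
    · refine sup_le ?_ (Ideal.pow_le_self two_ne_zero)
      rw [Ideal.map_le_iff_le_comap]
      exact CRing.maximalIdeal_le_comap (R' := S) (R := S) (u.comp v) huvres
    · intro s hs
      have h3 : u (v s) - (u (v s) - s) ∈ Ideal.map (u.comp v) mS ⊔ mS ^ 2 :=
        Ideal.sub_mem _ (Ideal.mem_sup_left (Ideal.mem_map_of_mem (u.comp v) hs))
          (Ideal.mem_sup_right (huv s))
      rwa [sub_sub_cancel] at h3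
  have hinj : Function.Injective v := by
    have h1 := Groth.Agent.Lib.Helper19.ArtFunHR.injective_of_surjective_ringEnd
      ((u.comp v : S.carrier →ₐ[Λ] S.carrier) : S.carrier →+* S.carrier) huvsurj
    intro a b hab
    apply h1
    show u (v a) = u (v b)
    rw [hab]
  let vR : S.carrier →ₐ[R.carrier] MvPowerSeries (Fin n) R.carrier :=
    { (v : S.carrier →+* MvPowerSeries (Fin n) R.carrier) with
      commutes' := fun r => hvι r }
  exact ⟨n, ⟨AlgEquiv.ofBijective vR ⟨hinj, hvsurj⟩⟩⟩

end Groth.Agent.Lib.Helper7.PowSerVersal
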