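import Groth.Agent.Lib.Helper7.GradedLib

set_option autoImplicit false

namespace Groth.Agent.Lib.Helper7

open DirectSum

section PrimeTail

variable {R A : Type*} [CommRing R] [CommRing A] [Algebra R A] (𝒜 : ℕ → Submodule R A) [GradedAlgebra 𝒜]

theorem exists_homog_not_mem (𝔭 : HomogeneousIdeal 𝒜) (hprime : 𝔭.toIdeal.IsPrime)
    (hrel : ¬ HomogeneousIdeal.irrelevant 𝒜 ≤ 𝔭) (n₀ : ℕ) (hn₀ : 0 < n₀) :
    ∃ d, n₀ ≤ d ∧ ∃ f ∈ 𝒜 d, f ∉ 𝔭.toIdeal := by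
  rw [HomogeneousIdeal.irrelevant_le] at hrel
  push_neg at hrel
  obtain ⟨i, hi, hnot⟩ := hrel
  rw [SetLike.not_le_iff_exists] at hnot
  obtain ⟨f, hf, hfp⟩ := hnot
  refine ⟨n₀ * i, Nat.le_mul_of_pos_right _ hi, f ^ n₀, ?_, ?_⟩
  · have := SetLike.pow_mem_graded n₀ (show f ∈ 𝒜 i from hf)
    simpa using this
  · intro h
    exact hfp (hprime.mem_of_pow_mem _ h)

theorem exists_homogeneous_prime_with_tail_iff (n₀ : ℕ) (hn₀ : 0 < n₀) (p : ℕ → AddSubgroup A)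
    (hp : ∀ n : ℕ, n₀ ≤ n → (p n : Set A) ⊆ 𝒜 n) :
    (∃ 𝔭 : HomogeneousIdeal 𝒜, 𝔭.toIdeal.IsPrime ∧ ¬ HomogeneousIdeal.irrelevant 𝒜 ≤ 𝔭 ∧
        ∀ n : ℕ, n₀ ≤ n → (𝔭.toIdeal : Set A) ∩ 𝒜 n = p n) ↔
      ((∀ m n : ℕ, n₀ ≤ n → ∀ a ∈ 𝒜 m, ∀ b ∈ p n, a * b ∈ p (m + n)) ∧
        (∀ m n : ℕ, n₀ ≤ m → n₀ ≤ n → ∀ f ∈ 𝒜 m, ∀ g ∈ 𝒜 n, f * g ∈ p (m + n) →
          f ∈ p m ∨ g ∈ p n) ∧
        ∃ n : ℕ, n₀ ≤ n ∧ (p n : Set A) ≠ 𝒜 n) := by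
  constructor
  · rintro ⟨𝔭, hprime, hrel, htail⟩
    have hmem : ∀ n, n₀ ≤ n → ∀ x, x ∈ p n ↔ x ∈ 𝔭.toIdeal ∧ x ∈ 𝒜 n := by
      intro n hn x
      have := Set.ext_iff.mp (htail n hn) x
      simp only [Set.mem_inter_iff, SetLike.mem_coe] at this
      exact this.symm
    refine ⟨?_, ?_, ?_⟩
    · intro m n hn a ha b hb
      rw [hmem n hn] at hb
      rw [hmem (m + n) (by omega)]
      exact ⟨Ideal.mul_mem_left _ _ hb.1, SetLike.mul_mem_graded ha hb.2⟩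
    · intro m n hm hn f hf g hg hfg
      rw [hmem (m + n) (by omega)] at hfg
      rcases hprime.mem_or_mem hfg.1 with h | h
      · exact Or.inl ((hmem m hm f).mpr ⟨h, hf⟩)
      · exact Or.inr ((hmem n hn g).mpr ⟨h, hg⟩)
    · obtain ⟨d, hd, f, hf, hfp⟩ := exists_homog_not_mem 𝒜 𝔭 hprime hrel n₀ hn₀
      refine ⟨d, hd, fun heq => hfp ?_⟩
      have : f ∈ (p d : Set A) := heq ▸ hf
      exact ((hmem d hd f).mp this).1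
  · rintro ⟨h1, h2, d, hd, hne⟩
    obtain ⟨f, hf, hfp⟩ : ∃ f ∈ 𝒜 d, f ∉ p d := by
      by_contra hcon
      push_neg at hcon
      exact hne (Set.Subset.antisymm (hp d hd) hcon)
    let H : Set A := {x | ∃ m, x ∈ 𝒜 m ∧ f * x ∈ p (d + m)}
    have hHhom : (Ideal.span H).IsHomogeneous 𝒜 :=
      Ideal.homogeneous_span 𝒜 H (fun x hx => by obtain ⟨m, hxm, _⟩ := hx; exact ⟨m, hxm⟩)
    have K : ∀ m, ∀ x ∈ 𝒜 m, x ∈ Ideal.span H → f * x ∈ p (d + m) := by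
      intro m x hx hxH
      refine homog_span_induction 𝒜 (fun y => f * y ∈ p (d + m)) (by simp)
        (fun y z hy hz => by rw [mul_add]; exact add_mem hy hz) ?_ hx hxH
      rintro e ⟨k, hek, hfe⟩
      refine ⟨k, hek, fun hkm a ha => ?_⟩
      have := h1 (m - k) (d + k) (by omega) a ha (f * e) hfe
      rw [show m - k + (d + k) = d + m by omega] at this
      rwa [show f * (a * e) = a * (f * e) by ring]
    have T : ∀ n, n₀ ≤ n → ∀ x, x ∈ 𝒜 n → (x ∈ Ideal.span H ↔ x ∈ p n) := by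
      intro n hn x hx
      constructor
      · intro hxH
        rcases h2 d n hd hn f hf x hx (K n x hx hxH) with h | h
        · exact absurd h hfp
        · exact h
      · intro hxp
        exact Ideal.subset_span ⟨n, hx, h1 d n hn f hf x hxp⟩
    have hfH : f ∉ Ideal.span H := fun h => hfp ((T d hd f hf).mp h)
    refine ⟨⟨Ideal.span H, hHhom⟩, ?_, ?_, ?_⟩
    · refine hHhom.isPrime_of_homogeneous_mem_or_mem
        (fun htop => hfH (htop ▸ Submodule.mem_top)) ?_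
      rintro x y ⟨m, hxm⟩ ⟨k, hyk⟩ hxy
      have h3 := K (m + k) (x * y) (SetLike.mul_mem_graded hxm hyk) hxy
      have h4 := h1 d (d + (m + k)) (by omega) f hf _ h3
      have h5 : (f * x) * (f * y) ∈ p ((d + m) + (d + k)) := by
        rw [show (d + m) + (d + k) = d + (d + (m + k)) by omega,
          show (f * x) * (f * y) = f * (f * (x * y)) by ring]
        exact h4
      rcases h2 (d + m) (d + k) (by omega) (by omega) (f * x) (SetLike.mul_mem_graded hf hxm)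
        (f * y) (SetLike.mul_mem_graded hf hyk) h5 with h | h
      · exact Or.inl (Ideal.subset_span ⟨m, hxm, h⟩)
      · exact Or.inr (Ideal.subset_span ⟨k, hyk, h⟩)
    · intro hle
      exact hfH (hle (HomogeneousIdeal.mem_irrelevant_of_mem 𝒜 (by omega) hf))
    · intro n hn
      ext x
      simp only [Set.mem_inter_iff, SetLike.mem_coe]
      constructor
      · rintro ⟨hxH, hx⟩
        exact (T n hn x hx).mp hxH
      · intro hxp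
        have hx := hp n hn hxp
        exact ⟨(T n hn x hx).mpr hxp, hx⟩

theorem homogeneous_prime_tail_unique (n₀ : ℕ) (hn₀ : 0 < n₀) (p : ℕ → AddSubgroup A)
    (𝔭 𝔮 : HomogeneousIdeal 𝒜) (h𝔭 : 𝔭.toIdeal.IsPrime) (h𝔮 : 𝔮.toIdeal.IsPrime)
    (hr𝔭 : ¬ HomogeneousIdeal.irrelevant 𝒜 ≤ 𝔭) (_hr𝔮 : ¬ HomogeneousIdeal.irrelevant 𝒜 ≤ 𝔮)
    (ht𝔭 : ∀ n : ℕ, n₀ ≤ n → (𝔭.toIdeal : Set A) ∩ 𝒜 n = p n)
    (ht𝔮 : ∀ n : ℕ, n₀ ≤ n → (𝔮.toIdeal : Set A) ∩ 𝒜 n = p n) : 𝔭 = 𝔮 := by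
  have aux : ∀ (𝔭 𝔮 : HomogeneousIdeal 𝒜), 𝔮.toIdeal.IsPrime →
      (∀ n : ℕ, n₀ ≤ n → (𝔭.toIdeal : Set A) ∩ 𝒜 n = (𝔮.toIdeal : Set A) ∩ 𝒜 n) →
      ∀ d, n₀ ≤ d → ∀ f ∈ 𝒜 d, f ∉ 𝔮.toIdeal →
        ∀ i, ∀ x ∈ 𝒜 i, x ∈ 𝔭.toIdeal → x ∈ 𝔮.toIdeal := by
    intro 𝔭 𝔮 h𝔮 ht d hd f hf hfq i x hx hxp
    have h1 : f * x ∈ (𝔭.toIdeal : Set A) ∩ 𝒜 (d + i) :=
      ⟨Ideal.mul_mem_left _ _ hxp, SetLike.mul_mem_graded hf hx⟩
    rw [ht (d + i) (by omega)] at h1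
    rcases h𝔮.mem_or_mem h1.1 with h | h
    · exact absurd h hfq
    · exact h
  have htail : ∀ n, n₀ ≤ n → (𝔭.toIdeal : Set A) ∩ 𝒜 n = (𝔮.toIdeal : Set A) ∩ 𝒜 n :=
    fun n hn => (ht𝔭 n hn).trans (ht𝔮 n hn).symm
  obtain ⟨d, hd, f, hf, hfp⟩ := exists_homog_not_mem 𝒜 𝔭 h𝔭 hr𝔭 n₀ hn₀
  have hfq : f ∉ 𝔮.toIdeal := by
    intro h
    have : f ∈ (𝔮.toIdeal : Set A) ∩ 𝒜 d := ⟨h, hf⟩
    rw [← htail d hd] at this
    exact hfp this.1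
  refine HomogeneousIdeal.ext' fun i x hx => ⟨?_, ?_⟩
  · exact aux 𝔭 𝔮 h𝔮 htail d hd f hf hfq i x hx
  · exact aux 𝔮 𝔭 h𝔭 (fun n hn => (htail n hn).symm) d hd f hf hfp i x hx

end PrimeTail

end Groth.Agent.Lib.Helper7
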