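import Mathlib
import Groth.Agent.Lib.Helper6.ProjMap

set_option autoImplicit false
universe u
open CategoryTheory CategoryTheory.Limits AlgebraicGeometry HomogeneousLocalization

namespace Groth.Agent.Lib.Helper7

section
variable {A B σ τ : Type u} [CommRing A] [SetLike σ A] [AddSubgroupClass σ A]
  [CommRing B] [SetLike τ B] [AddSubgroupClass τ B]
  {𝒜 : ℕ → σ} {ℬ : ℕ → τ} [GradedRing 𝒜] [GradedRing ℬ]
  (φ : 𝒜 →+*ᵍ ℬ)

/-- Raising the exponent of the denominator. -/
lemma away_mk_eq_mk_succ {d : ℕ} {s : A} (hs : s ∈ 𝒜 d) (n : ℕ) (a : A) (ha : a ∈ 𝒜 (n • d)) :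
    Away.mk 𝒜 hs n a ha = Away.mk 𝒜 hs (n + 1) (a * s)
      (by rw [add_smul, one_smul]; exact SetLike.mul_mem_graded ha hs) := by
  apply val_injective
  rw [Away.val_mk, Away.val_mk, Localization.mk_eq_mk_iff, Localization.r_iff_exists]
  exact ⟨1, by simp only [pow_succ]; ring⟩

theorem away_map_bijective (hbij : ∀ n, 0 < n → Set.BijOn φ (𝒜 n) (ℬ n)) {d : ℕ} (hd : 0 < d)
    {s : A} (hs : s ∈ 𝒜 d) : Function.Bijective (Away.map φ s) := by
  constructor
  · rw [injective_iff_map_eq_zero]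
    intro x hx
    obtain ⟨n, a, ha, rfl⟩ := Away.mk_surjective 𝒜 hs x
    rw [away_mk_eq_mk_succ hs n a ha] at hx ⊢
    rw [Away.map_mk] at hx
    have h3 := congrArg HomogeneousLocalization.val hx
    rw [Away.val_mk, val_zero, Localization.mk_eq_mk'_apply, IsLocalization.mk'_eq_zero_iff] at h3
    obtain ⟨⟨_, k, rfl⟩, hk⟩ := h3
    have hmem : s ^ k * (a * s) ∈ 𝒜 (k • d + (n + 1) • d) :=
      SetLike.mul_mem_graded (SetLike.pow_mem_graded k hs)
        (by rw [add_smul, one_smul]; exact SetLike.mul_mem_graded ha hs)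
    have hpos : 0 < k • d + (n + 1) • d := by
      simp only [smul_eq_mul]
      have : 0 < (n + 1) * d := Nat.mul_pos (Nat.succ_pos _) hd
      omega
    have h0 : s ^ k * (a * s) = 0 :=
      (hbij _ hpos).injOn hmem (zero_mem _) (by rw [map_mul, map_pow, map_zero]; exact hk)
    apply val_injective
    rw [Away.val_mk, val_zero, Localization.mk_eq_mk'_apply, IsLocalization.mk'_eq_zero_iff]
    exact ⟨⟨s ^ k, k, rfl⟩, h0⟩
  · intro y
    obtain ⟨n, b, hb, rfl⟩ := Away.mk_surjective ℬ (Graded.map_mem φ hs) y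
    rw [away_mk_eq_mk_succ (Graded.map_mem φ hs) n b hb]
    have hpos : 0 < (n + 1) • d := by
      simp only [smul_eq_mul]; exact Nat.mul_pos (Nat.succ_pos _) hd
    have hmem : b * φ s ∈ ℬ ((n + 1) • d) := by
      rw [add_smul, one_smul]; exact SetLike.mul_mem_graded hb (Graded.map_mem φ hs)
    obtain ⟨a, ha, hab⟩ := (hbij _ hpos).surjOn hmem
    refine ⟨Away.mk 𝒜 hs (n + 1) a ha, ?_⟩
    rw [Away.map_mk]
    apply val_injective
    simp only [Away.val_mk, hab]

theorem proj_map_isIso_of_bijective_pos_degrees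
    (hbij : ∀ n : ℕ, 0 < n → Set.BijOn φ (𝒜 n) (ℬ n))
    (hφ : HomogeneousIdeal.irrelevant ℬ ≤ (HomogeneousIdeal.irrelevant 𝒜).map φ) :
    IsIso (Proj.map φ hφ) := by
  have := Groth.Agent.Lib.Helper6.proj_map_of_forall_away φ hφ (MorphismProperty.isomorphisms Scheme)
    (fun i hi s hs => ?_)
  · exact this
  · have hb : Function.Bijective (Away.map φ s) := away_map_bijective φ hbij hi hs
    have : IsIso (CommRingCat.ofHom (Away.map φ s)) :=
      (ConcreteCategory.isIso_iff_bijective _).mpr hb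
    exact (inferInstance : IsIso (Spec.map (CommRingCat.ofHom (Away.map φ s))))

end

end Groth.Agent.Lib.Helper7
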