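import Mathlib

set_option autoImplicit false
universe u
open CategoryTheory CategoryTheory.Limits AlgebraicGeometry MorphismProperty

namespace Groth.Agent.Lib.Helper7

theorem isClosedMap_of_comm {α β γ δ : Type*} [TopologicalSpace α] [TopologicalSpace β]
    [TopologicalSpace γ] [TopologicalSpace δ] {p : α → β} {ι : α → γ} {h : γ → δ} {s : β → δ}
    (hι : IsClosedMap ι) (hh : IsClosedMap h) (hs : Continuous s) (hsinj : Function.Injective s)
    (hcomm : h ∘ ι = s ∘ p) : IsClosedMap p := by
  intro Z hZ
  have h1 : IsClosed (h '' (ι '' Z)) := hh _ (hι _ hZ)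
  rw [← Set.image_comp, hcomm, Set.image_comp] at h1
  have : p '' Z = s ⁻¹' (s '' (p '' Z)) := (hsinj.preimage_image _).symm
  rw [this]
  exact h1.preimage hs

theorem isProper_iff_baseChange_over_base_isClosedMap {X Y S : Scheme.{u}} (q : Y ⟶ S) (f : X ⟶ Y)
    [IsSeparated q] [LocallyOfFiniteType q] [QuasiCompact q]
    [IsSeparated (f ≫ q)] [LocallyOfFiniteType (f ≫ q)] [QuasiCompact (f ≫ q)] :
    IsProper f ↔ ∀ (S' : Scheme.{u}) (g : S' ⟶ S),
      IsClosedMap (pullback.map (f ≫ q) g q g f (𝟙 S') (𝟙 S) (Category.comp_id (f ≫ q))
        ((Category.comp_id g).trans (Category.id_comp g).symm)).base := by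
  constructor
  · intro hf S' g
    have : IsProper (pullback.map (f ≫ q) g q g f (𝟙 S') (𝟙 S) (Category.comp_id (f ≫ q))
        ((Category.comp_id g).trans (Category.id_comp g).symm)) :=
      MorphismProperty.pullbackMap (P := @IsProper) hf (inferInstance : IsProper (𝟙 S')) rfl
        (Category.id_comp g).symm
    exact Scheme.Hom.isClosedMap _
  · intro H
    have hsep : IsSeparated f := IsSeparated.of_comp f q
    have hlft : LocallyOfFiniteType f := locallyOfFiniteType_of_comp f q
    have hqc : QuasiCompact f := QuasiCompact.of_comp f q
    have huc : UniversallyClosed f := by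
      rw [universallyClosed_eq]
      apply MorphismProperty.universally_mk'
      intro T g' _
      have key : IsClosedMap (pullback.snd f g').base := by
        have hcomm : pullback.mapDesc f g' q ≫
            pullback.map (f ≫ q) (g' ≫ q) q (g' ≫ q) f (𝟙 T) (𝟙 S) (Category.comp_id (f ≫ q))
              ((Category.comp_id (g' ≫ q)).trans (Category.id_comp (g' ≫ q)).symm) =
            pullback.snd f g' ≫ pullback.lift g' (𝟙 T) (by simp) := by
          apply pullback.hom_ext <;>
            simp only [pullback.lift_fst, pullback.lift_snd, pullback.lift_fst_assoc,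
              pullback.lift_snd_assoc, Category.assoc, Category.comp_id, Category.id_comp,
              pullback.condition]
        have hγ : pullback.lift g' (𝟙 T) (by simp) ≫ pullback.snd q (g' ≫ q) = 𝟙 T :=
          pullback.lift_snd _ _ _
        refine isClosedMap_of_comm (ι := (pullback.mapDesc f g' q).base)
          (h := (pullback.map (f ≫ q) (g' ≫ q) q (g' ≫ q) f (𝟙 T) (𝟙 S) (Category.comp_id (f ≫ q))
              ((Category.comp_id (g' ≫ q)).trans (Category.id_comp (g' ≫ q)).symm)).base)
          (s := (pullback.lift g' (𝟙 T) (by simp) : T ⟶ pullback q (g' ≫ q)).base)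
          (pullback.mapDesc f g' q).isClosedEmbedding.isClosedMap (H T (g' ≫ q))
          (Scheme.Hom.continuous _) ?_ ?_
        · have : Function.LeftInverse (pullback.snd q (g' ≫ q)).base
              (pullback.lift g' (𝟙 T) (by simp) : T ⟶ pullback q (g' ≫ q)).base := fun x => by
            have := congrArg (fun k => k.base x) hγ
            simpa using this
          exact this.injective
        · ext x
          have := congrArg (fun k => k.base x) hcomm
          simpa using this
      change IsClosedMap (pullback.fst g' f).base
      rw [← pullbackSymmetry_hom_comp_snd]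
      exact key.comp (Scheme.Hom.isClosedMap (pullbackSymmetry g' f).hom)
    exact { }

end Groth.Agent.Lib.Helper7
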