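import Mathlib
import Groth.Agent.Lib.Helper7.TFDense
import Groth.Agent.Lib.Helper17.AssPt
import Groth.Agent.Lib.Helper17.ExactStage
import Groth.Agent.Lib.Helper17.StalkExact
import Groth.Agent.Lib.Helper3.AffinePoints
import Groth.Agent.Lib.Helper3.InvAmple
import Groth.Agent.Lib.Helper3.StalkLin
import Groth.Agent.Lib.Helper23.T2L
import Groth.Prelude

/-!
# Pure one-dimensional modules on reduced curves are killed by the ideal of their support (helper7)

* `isClosed_singleton_or_generic`: in a space all of whose irreducible components have dimension one,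
  a point is closed or has no proper generization.
* `isField_stalk_of_forall_specializes`: on a reduced scheme the local ring of a point without proper
  generization is a field.
* `exists_global_section_of_isAssPoint`: an associated closed point of a quasi-coherent module carries a
  nonzero global section supported at that point.
* `germ_smul_eq_zero_of_isPure`: the main statement.
-/

set_option autoImplicit false
universe u
open CategoryTheory CategoryTheory.Limits AlgebraicGeometry TopologicalSpace Opposite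

namespace Groth.Agent.Lib.Helper7.PureKill

open Groth.Agent.Lib.Helper3 Groth.Agent.Lib.Helper3.QCSec Groth.Agent.Lib.Helper3.InvGen
open Groth.Agent.Lib.Helper17

section Top

theorem isIrreducible_preimage_val {T : Type*} [TopologicalSpace T] (Z S : Set T)
    (hS : IsIrreducible S) (hSZ : S ⊆ Z) : IsIrreducible ((Subtype.val : Z → T) ⁻¹' S) := by
  obtain ⟨⟨a, ha⟩, hpre⟩ := hS
  refine ⟨⟨⟨a, hSZ ha⟩, ha⟩, ?_⟩
  intro u v hu hv hnu hnv
  obtain ⟨u', hu', rfl⟩ := isOpen_induced_iff.mp hu
  obtain ⟨v', hv', rfl⟩ := isOpen_induced_iff.mp hv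
  obtain ⟨⟨p, hpZ⟩, hpS, hpu⟩ := hnu
  obtain ⟨⟨q, hqZ⟩, hqS, hqv⟩ := hnv
  obtain ⟨r, hrS, hru, hrv⟩ := hpre u' v' hu' hv' ⟨p, hpS, hpu⟩ ⟨q, hqS, hqv⟩
  exact ⟨⟨r, hSZ hrS⟩, hrS, hru, hrv⟩

theorem not_chain_of_dim_le_one {T : Type*} [TopologicalSpace T] (Z A B : Set T)
    (hdim : topologicalKrullDim Z ≤ 1)
    (hA : IsClosed A) (hAi : IsIrreducible A) (hB : IsClosed B) (hBi : IsIrreducible B)
    (hZ : IsClosed Z) (hZi : IsIrreducible Z) (hAB : A ⊂ B) (hBZ : B ⊂ Z) : False := by
  have hAZ : A ⊆ Z := hAB.1.trans hBZ.1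
  let a : IrreducibleCloseds Z := ⟨Subtype.val ⁻¹' A, isIrreducible_preimage_val Z A hAi hAZ,
    hA.preimage continuous_subtype_val⟩
  let b : IrreducibleCloseds Z := ⟨Subtype.val ⁻¹' B, isIrreducible_preimage_val Z B hBi hBZ.1,
    hB.preimage continuous_subtype_val⟩
  let c : IrreducibleCloseds Z := ⟨Subtype.val ⁻¹' Z, isIrreducible_preimage_val Z Z hZi subset_rfl,
    hZ.preimage continuous_subtype_val⟩
  have hab : a < b := by
    rw [lt_iff_le_not_ge]
    refine ⟨fun p hp => hAB.1 hp, fun h => hAB.2 (fun p hp => ?_)⟩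
    exact h (show (⟨p, hBZ.1 hp⟩ : Z) ∈ b from hp)
  have hbc : b < c := by
    rw [lt_iff_le_not_ge]
    refine ⟨fun p hp => hBZ.1 hp, fun h => hBZ.2 (fun p hp => ?_)⟩
    exact h (show (⟨p, hp⟩ : Z) ∈ c from hp)
  rcases (Order.krullDim_le_one_iff (α := IrreducibleCloseds Z)).mp hdim b with hmin | hmax
  · exact hab.not_ge (hmin hab.le)
  · exact hbc.not_ge (hmax hbc.le)

theorem isClosed_singleton_or_generic {T : Type*} [TopologicalSpace T] [T0Space T]
    (hequi : ∀ Z ∈ irreducibleComponents T, topologicalKrullDim Z = 1) (z : T) :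
    IsClosed ({z} : Set T) ∨ (∀ y : T, y ⤳ z → y = z) := by
  by_cases hcl : IsClosed ({z} : Set T)
  · exact Or.inl hcl
  right
  have hw : ∃ w ∈ closure ({z} : Set T), w ≠ z := by
    by_contra hcon
    push Not at hcon
    apply hcl
    have h1 : closure ({z} : Set T) = {z} :=
      Set.Subset.antisymm (fun w hw => hcon w hw) subset_closure
    rw [← h1]
    exact isClosed_closure
  obtain ⟨w, hwz, hne⟩ := hw
  have hzw : z ⤳ w := specializes_iff_mem_closure.mpr hwz
  have hZmem : irreducibleComponent z ∈ irreducibleComponents T :=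
    irreducibleComponent_mem_irreducibleComponents z
  have hBZ : closure ({z} : Set T) ⊆ irreducibleComponent z :=
    closure_minimal (Set.singleton_subset_iff.mpr mem_irreducibleComponent)
      isClosed_irreducibleComponent
  have hAB : closure ({w} : Set T) ⊂ closure ({z} : Set T) := by
    refine ⟨closure_minimal (Set.singleton_subset_iff.mpr hwz) isClosed_closure, fun h => ?_⟩
    have hwz' : w ⤳ z := specializes_iff_mem_closure.mpr (h (subset_closure rfl))
    exact hne (hwz'.antisymm hzw).eq
  have hBeq : closure ({z} : Set T) = irreducibleComponent z := by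
    by_contra hne2
    exact not_chain_of_dim_le_one (irreducibleComponent z) _ _ (hequi _ hZmem).le isClosed_closure
      isIrreducible_singleton.closure isClosed_closure isIrreducible_singleton.closure
      isClosed_irreducibleComponent isIrreducible_irreducibleComponent hAB
      ⟨hBZ, fun h => hne2 (Set.Subset.antisymm hBZ h)⟩
  intro y hy
  have h1 : closure ({z} : Set T) ⊆ closure {y} :=
    closure_minimal (Set.singleton_subset_iff.mpr (specializes_iff_mem_closure.mp hy))
      isClosed_closure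
  have h2 : closure ({y} : Set T) ⊆ irreducibleComponent z :=
    hZmem.2 isIrreducible_singleton.closure (hBeq ▸ h1)
  have h3 : z ⤳ y := by
    rw [specializes_iff_mem_closure, hBeq]
    exact h2 (subset_closure rfl)
  exact (hy.antisymm h3).eq

end Top

variable {X : Scheme.{u}}

theorem isField_stalk_of_forall_specializes [IsReduced X] (z : X)
    (h : ∀ y : X, y ⤳ z → y = z) : IsField (X.presheaf.stalk z) := by
  rw [IsLocalRing.isField_iff_maximalIdeal_eq, eq_bot_iff]
  intro a ha
  have hnil : IsNilpotent a := by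
    rw [nilpotent_iff_mem_prime]
    intro q hq
    have hq' : q = IsLocalRing.maximalIdeal (X.presheaf.stalk z) := by
      let Q : PrimeSpectrum (X.presheaf.stalk z) := ⟨q, hq⟩
      have hy : X.fromSpecStalk z Q ⤳ z := by
        have h0 : X.fromSpecStalk z Q ∈ Set.range (X.fromSpecStalk z) := ⟨Q, rfl⟩
        rw [Scheme.range_fromSpecStalk] at h0
        exact h0
      have h1 := h _ hy
      have h2 : X.fromSpecStalk z (IsLocalRing.closedPoint (X.presheaf.stalk z)) = z :=
        Scheme.fromSpecStalk_closedPoint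
      have h3 : Q = IsLocalRing.closedPoint (X.presheaf.stalk z) :=
        (X.fromSpecStalk z).isEmbedding.injective (h1.trans h2.symm)
      exact congrArg PrimeSpectrum.asIdeal h3
    rw [hq']
    exact ha
  rw [IsReduced.eq_zero a hnil]
  exact Submodule.zero_mem _

theorem exists_mem_notMem_of_isClosed {W : X.Opens} (hW : IsAffineOpen W) (z y : X) (hz : z ∈ W)
    (hy : y ∈ W) (hcl : IsClosed ({z} : Set X)) (hne : y ≠ z) :
    ∃ a : Γ(X, W), a ∈ (hW.primeIdealOf ⟨z, hz⟩).asIdeal ∧
      a ∉ (hW.primeIdealOf ⟨y, hy⟩).asIdeal := by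
  by_contra hcon
  push Not at hcon
  have h1 : hW.primeIdealOf ⟨z, hz⟩ ⤳ hW.primeIdealOf ⟨y, hy⟩ := by
    rw [← PrimeSpectrum.le_iff_specializes]
    exact fun a ha => hcon a ha
  have h2 := h1.map hW.fromSpec.continuous
  rw [hW.fromSpec_primeIdealOf ⟨z, hz⟩, hW.fromSpec_primeIdealOf ⟨y, hy⟩] at h2
  have h3 : y ∈ closure ({z} : Set X) := specializes_iff_mem_closure.mp h2
  rw [hcl.closure_eq] at h3
  exact hne h3

/-- an associated closed point of a quasi-coherent module carries a nonzero global section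
supported at that point -/
theorem exists_global_section_of_isAssPoint [IsLocallyNoetherian X] (J : X.Modules)
    [J.IsQuasicoherent] (z : X) (hcl : IsClosed ({z} : Set X)) (hass : Curv2.IsAssPoint J z) :
    ∃ s : Γ(J, ⊤), s ≠ 0 ∧ ∀ (y : X), y ≠ z → J.presheaf.germ ⊤ y trivial s = 0 := by
  obtain ⟨_, ⟨W, hW, rfl⟩, hzW, -⟩ :=
    X.isBasis_affineOpens.exists_subset_of_mem_open (Set.mem_univ z) isOpen_univ
  haveI : IsNoetherianRing Γ(X, W) := IsLocallyNoetherian.component_noetherian ⟨W, hW⟩
  have hfg : (hW.primeIdealOf ⟨z, hzW⟩).asIdeal.FG := IsNoetherian.noetherian _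
  have hmem := QS.mem_associatedPrimes_of_isAssPoint hW J z hzW hfg hass
  obtain ⟨-, m, hm⟩ := isAssociatedPrime_iff.mp hmem
  have hann : ∀ a : Γ(X, W), a ∈ (hW.primeIdealOf ⟨z, hzW⟩).asIdeal ↔ a • m = 0 := by
    intro a
    rw [hm, Submodule.mem_colon_singleton, Submodule.mem_bot]
  have hgz : J.presheaf.germ W z hzW m ≠ 0 := by
    intro h0
    obtain ⟨c, hc, hcm⟩ := (QS.germ_eq_zero_iff hW J z hzW m).mp h0
    exact hc ((hann c).mpr hcm)
  have hgy : ∀ (y : X) (hy : y ∈ W), y ≠ z → J.presheaf.germ W y hy m = 0 := by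
    intro y hy hne
    obtain ⟨a, haz, hay⟩ := exists_mem_notMem_of_isClosed hW z y hzW hy hcl hne
    exact (QS.germ_eq_zero_iff hW J y hy m).mpr ⟨a, hay, (hann a).mp haz⟩
  let W₂ : X.Opens := ⟨({z} : Set X)ᶜ, hcl.isOpen_compl⟩
  let Ms : TopCat.Sheaf AddCommGrpCat.{u} X := ⟨J.presheaf, J.isSheaf⟩
  let Wc : Bool → X.Opens := fun b => Bool.rec W₂ W b
  let sf : ∀ b : Bool, Γ(J, Wc b) := fun b => Bool.rec (motive := fun b => Γ(J, Wc b)) 0 m b
  have hcov : (⊤ : X.Opens) ≤ ⨆ b, Wc b := by
    intro y _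
    by_cases h : y = z
    · exact Opens.mem_iSup.mpr ⟨true, h ▸ hzW⟩
    · exact Opens.mem_iSup.mpr ⟨false, show y ∈ (({z} : Set X)ᶜ) from h⟩
  have hzero : ∀ (V : X.Opens) (hVW : V ≤ W) (hV2 : V ≤ W₂), res J hVW m = 0 := by
    intro V hVW hV2
    refine QS.eq_zero_of_subsingleton_stalk J V _ (fun y hy => ?_)
    have h1 := TopCat.Presheaf.germ_res_apply J.presheaf (homOfLE hVW) y hy m
    have hyz : y ≠ z := hV2 hy
    exact h1.trans (hgy y (hVW hy) hyz)
  have hcompat : TopCat.Presheaf.IsCompatible Ms.1 Wc sf := by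
    intro i j
    cases i <;> cases j
    · rfl
    · change res J (inf_le_left : W₂ ⊓ W ≤ W₂) (0 : Γ(J, W₂)) = res J (inf_le_right : W₂ ⊓ W ≤ W) m
      rw [res_zero, hzero _ inf_le_right inf_le_left]
    · change res J (inf_le_left : W ⊓ W₂ ≤ W) m = res J (inf_le_right : W ⊓ W₂ ≤ W₂) (0 : Γ(J, W₂))
      rw [res_zero, hzero _ inf_le_left inf_le_right]
    · rfl
  obtain ⟨s, hs, -⟩ := TopCat.Sheaf.existsUnique_gluing' Ms Wc ⊤
    (fun b => homOfLE le_top) hcov sf hcompat
  have hsW : res J (le_top : W ≤ ⊤) s = m := hs true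
  have hsW₂ : res J (le_top : W₂ ≤ ⊤) s = 0 := hs false
  refine ⟨s, ?_, ?_⟩
  · intro hs0
    apply hgz
    rw [← hsW, hs0, res_zero, map_zero]
  · intro y hyz
    have hy2 : y ∈ W₂ := hyz
    have h1 := TopCat.Presheaf.germ_res_apply J.presheaf (homOfLE (le_top : W₂ ≤ ⊤)) y hy2 s
    rw [← h1]
    change J.presheaf.germ W₂ y hy2 (res J (le_top : W₂ ≤ ⊤) s) = 0
    rw [hsW₂, map_zero]

/-- a coherent module, pure of dimension one, on a reduced locally Noetherian scheme all of whose
irreducible components have dimension one is killed by every function vanishing on its support -/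
theorem germ_smul_eq_zero_of_isPure [IsReduced X] [IsLocallyNoetherian X]
    (hequi : ∀ Z ∈ irreducibleComponents (X : Type u), topologicalKrullDim Z = 1)
    (J : X.Modules) (hJc : Coh.IsCoh J) (hJp : ShStab.IsPure X J 1)
    (U : X.Opens) (f : Γ(X, U))
    (hf : ∀ x : X, x ∈ U → x ∈ CohB1.support J → x ∉ X.basicOpen f)
    (x : X) (hx : x ∈ U) (t : J.presheaf.stalk x) :
    (X.presheaf.germ U x hx f) • t = 0 := by
  haveI : J.IsQuasicoherent := hJc.1
  obtain ⟨_, ⟨W, hW, rfl⟩, hxW, hWU⟩ :=
    X.isBasis_affineOpens.exists_subset_of_mem_open hx U.isOpen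
  have hWU' : W ≤ U := hWU
  obtain ⟨c, m, hc, hcm⟩ := QS.exists_smul_eq_germ hW J x hxW t
  have hcu := AssPt.isUnit_germ_of_notMem hW x hxW c hc
  apply AssPt.eq_zero_of_isUnit_smul hcu
  rw [smul_comm, hcm]
  have hfW : X.presheaf.germ U x hx f = X.presheaf.germ W x hxW (rres X hWU' f) :=
    (TopCat.Presheaf.germ_res_apply X.presheaf (homOfLE hWU') x hxW f).symm
  rw [hfW, ← QS.germ_smul]
  by_contra hne
  obtain ⟨z, hzW, hass, -, hann⟩ :=
    AssPt.exists_assPoint_specializes hW J x hxW (rres X hWU' f • m) hne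
  have hgz : J.presheaf.germ W z hzW (rres X hWU' f • m) ≠ 0 := by
    intro h0
    obtain ⟨c', hc', hcm'⟩ := (QS.germ_eq_zero_iff hW J z hzW _).mp h0
    exact hc' (hann c' hcm')
  have hzcl : IsClosed ({z} : Set X) := by
    rcases isClosed_singleton_or_generic hequi z with h | h
    · exact h
    exfalso
    have hfld := isField_stalk_of_forall_specializes z h
    apply hgz
    rw [QS.germ_smul]
    by_cases hsup : z ∈ CohB1.support J
    · have hzb : z ∉ X.basicOpen f := hf z (hWU' hzW) hsup
      have hnu : ¬ IsUnit (X.presheaf.germ W z hzW (rres X hWU' f)) := by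
        intro hu
        apply hzb
        rw [Scheme.mem_basicOpen X f z (hWU' hzW)]
        rwa [TopCat.Presheaf.germ_res_apply X.presheaf (homOfLE hWU') z hzW f] at hu
      have h0 : X.presheaf.germ W z hzW (rres X hWU' f) = 0 := by
        by_contra hne0
        obtain ⟨b, hb⟩ := hfld.mul_inv_cancel hne0
        exact hnu (IsUnit.of_mul_eq_one b hb)
      rw [h0, zero_smul]
    · have hss : Subsingleton (J.presheaf.stalk z) := not_not.mp hsup
      exact Subsingleton.elim _ _
  obtain ⟨s, hs0, hsy⟩ := exists_global_section_of_isAssPoint J z hzcl hass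
  have hφ : sec (InvAmple.globalHom J s) ⊤ = s := by
    rw [InvAmple.sec_globalHom, res_self]
  have hIcoh : Coh.IsCoh (image (InvAmple.globalHom J s)) :=
    ⟨ExactStage.isQuasicoherent_image _,
      QCProps.isFiniteType_of_epi (factorThruImage (InvAmple.globalHom J s))⟩
  have hInz : ¬ IsZero (image (InvAmple.globalHom J s)) := by
    intro hz
    apply hs0
    have h1 : InvAmple.globalHom J s = 0 := by
      rw [← image.fac (InvAmple.globalHom J s),
        hz.eq_of_tgt (factorThruImage (InvAmple.globalHom J s)) 0, zero_comp]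
    rw [← hφ, h1]
    rfl
  have hdim := hJp (image (InvAmple.globalHom J s)) (image.ι _) inferInstance hIcoh hInz
  have hsupp : CohB1.support (image (InvAmple.globalHom J s)) ⊆ {z} := by
    intro y hy
    by_contra hyz
    apply hy
    refine ⟨fun e e' => ?_⟩
    suffices hall : ∀ e : (image (InvAmple.globalHom J s)).presheaf.stalk y, e = 0 by
      rw [hall e, hall e']
    intro e
    apply QS.stalkMap_injective_of_mono (image.ι (InvAmple.globalHom J s)) y
    rw [map_zero]
    obtain ⟨r, hr⟩ := StalkExact.stalkLin_surjective (factorThruImage (InvAmple.globalHom J s)) y e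
    rw [← hr, StalkExact.stalkLin_apply, ← QS.stalkMap_comp_apply, image.fac]
    obtain ⟨V, hyV, a, rfl⟩ := TopCat.Presheaf.exists_germ_eq (Coh.structureModule X).presheaf r
    rw [QS.stalkMap_germ]
    have h1 : (InvAmple.globalHom J s).app V a = toFun V a • sec (InvAmple.globalHom J s) V :=
      app_eq_smul_sec (InvAmple.globalHom J s) V (toFun V a)
    rw [h1, QS.germ_smul, InvAmple.sec_globalHom]
    have h2 := TopCat.Presheaf.germ_res_apply J.presheaf (homOfLE (le_top : V ≤ ⊤)) y hyV s
    have h3 : J.presheaf.germ V y hyV (res J (le_top : V ≤ ⊤) s) = 0 :=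
      h2.trans (hsy y hyz)
    rw [h3, smul_zero]
  haveI : Subsingleton (CohB1.support (image (InvAmple.globalHom J s))) :=
    ⟨fun a b => Subtype.ext ((hsupp a.2).trans (hsupp b.2).symm)⟩
  have h0 := topologicalKrullDim_zero_of_discreteTopology
    (CohB1.support (image (InvAmple.globalHom J s)))
  rw [hdim] at h0
  exact absurd h0 (by simp)

end Groth.Agent.Lib.Helper7.PureKill
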