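import Mathlib
import Groth.Agent.Lib.Helper7.SemiDefLA

/-!
# Helper library (helper7): the negative semi-definite form statement in the shape of S3320.
-/

set_option autoImplicit false

namespace Groth.Agent.Lib.Helper7.QF3320

open Groth.Agent.Lib.Helper7.SemiDefLA

theorem main {r : ℕ} (M : Fin r → Fin r → ℤ) (n : Fin r → ℕ)
    (hn : ∀ i, 0 < n i) (hsymm : ∀ i j, M i j = M j i)
    (hoff : ∀ i j, i ≠ j → 0 ≤ M i j) (hker : ∀ i, ∑ j, (n j : ℤ) * M i j = 0)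
    (hconn : ∀ I : Finset (Fin r), I.Nonempty → I ≠ Finset.univ →
      ∃ i ∈ I, ∃ j ∉ I, M i j ≠ 0)
    (a : Fin r → ℤ) :
    (∑ q : Fin r × Fin r, a q.1 * a q.2 * M q.1 q.2) ≤ 0 ∧
      ((∑ q : Fin r × Fin r, a q.1 * a q.2 * M q.1 q.2) = 0 ↔
        ∃ c : ℚ, ∀ i, (a i : ℚ) = c * (n i : ℚ)) := by
  have hsum : (∑ q : Fin r × Fin r, a q.1 * a q.2 * M q.1 q.2) =
      ∑ i, ∑ j, a i * a j * M i j := Fintype.sum_prod_type _
  rw [hsum]
  refine ⟨quad_nonpos M n hn hsymm hoff hker a, ?_, ?_⟩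
  · exact fun h => exists_rat_of_kernel M n hn hsymm hoff hker hconn a h
  · rintro ⟨c, hc⟩
    have hkerQ : ∀ i, ∑ j, (n j : ℚ) * (M i j : ℚ) = 0 := fun i => by
      have := hker i
      exact_mod_cast this
    have hQ : ((∑ i, ∑ j, a i * a j * M i j : ℤ) : ℚ) = 0 := by
      push_cast
      refine Finset.sum_eq_zero (fun i _ => ?_)
      have h3 : ∑ j, (a i : ℚ) * (a j : ℚ) * (M i j : ℚ) =
          ((a i : ℚ) * c) * ∑ j, (n j : ℚ) * (M i j : ℚ) := by
        rw [Finset.mul_sum]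
        exact Finset.sum_congr rfl (fun j _ => by rw [hc j]; ring)
      rw [h3, hkerQ i, mul_zero]
    exact_mod_cast hQ

end Groth.Agent.Lib.Helper7.QF3320
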