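import Mathlib

set_option autoImplicit false
universe u
open CategoryTheory CategoryTheory.Limits AlgebraicGeometry

namespace Groth.Agent.Lib.Helper7.QfFiltL3

/-- (L3) factorization -/
theorem exists_factor_of_isIso_thickening {S X Xi : Scheme.{u}} (f : X ⟶ S) (xi : Xi ⟶ X)
    (p : X) (n : ℕ)
    (h : IsIso (pullback.snd xi (pullback.fst f
        (Spec.map (CommRingCat.ofHom (Ideal.Quotient.mk
          (IsLocalRing.maximalIdeal (S.presheaf.stalk (f p)) ^ (n + 1)))) ≫
            S.fromSpecStalk (f p))))) :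
    ∃ μ : Spec (CommRingCat.of (X.presheaf.stalk p ⧸
        IsLocalRing.maximalIdeal (X.presheaf.stalk p) ^ (n + 1))) ⟶ Xi,
      μ ≫ xi = Spec.map (CommRingCat.ofHom (Ideal.Quotient.mk
        (IsLocalRing.maximalIdeal (X.presheaf.stalk p) ^ (n + 1)))) ≫ X.fromSpecStalk p := by
  have hle : IsLocalRing.maximalIdeal (S.presheaf.stalk (f p)) ^ (n + 1) ≤
      (IsLocalRing.maximalIdeal (X.presheaf.stalk p) ^ (n + 1)).comap (f.stalkMap p).hom := by
    rw [← Ideal.map_le_iff_le_comap, Ideal.map_pow]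
    exact Ideal.pow_right_mono (IsLocalRing.map_maximalIdeal_le (f.stalkMap p).hom) _
  set τ := Ideal.quotientMap (IsLocalRing.maximalIdeal (X.presheaf.stalk p) ^ (n + 1))
    (f.stalkMap p).hom hle with hτ
  set c := Spec.map (CommRingCat.ofHom (Ideal.Quotient.mk
          (IsLocalRing.maximalIdeal (S.presheaf.stalk (f p)) ^ (n + 1)))) ≫
            S.fromSpecStalk (f p) with hc
  set σ := Spec.map (CommRingCat.ofHom (Ideal.Quotient.mk
        (IsLocalRing.maximalIdeal (X.presheaf.stalk p) ^ (n + 1)))) ≫ X.fromSpecStalk p with hσ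
  have hcomm : σ ≫ f = Spec.map (CommRingCat.ofHom τ) ≫ c := by
    rw [hσ, hc, Category.assoc, ← Scheme.SpecMap_stalkMap_fromSpecStalk, ← Spec.map_comp_assoc,
      ← Spec.map_comp_assoc]
    congr 2
  refine ⟨pullback.lift σ (Spec.map (CommRingCat.ofHom τ)) hcomm ≫
    inv (pullback.snd xi (pullback.fst f c)) ≫ pullback.fst xi (pullback.fst f c), ?_⟩
  rw [Category.assoc, Category.assoc, pullback.condition, IsIso.inv_hom_id_assoc,
    pullback.lift_fst]

end Groth.Agent.Lib.Helper7.QfFiltL3
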