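import Groth.Agent.Lib.Helper7.Hypersurf
import Groth.Agent.Lib.Helper7.Gaeta2
import Groth.Agent.Lib.Helper13.BaseChangeVanish
import Groth.Agent.Lib.Helper6.ProjSpaceGamma
import Groth.Agent.Lib.Helper3.QCOpen

/-!
# Cohomology of a closed subscheme of `P^N_K` whose ideal sheaf has no cohomology (helper7)
-/

set_option autoImplicit false
universe u
open CategoryTheory CategoryTheory.Limits AlgebraicGeometry TopologicalSpace Opposite
open Scheme.Modules

noncomputable section

namespace Groth.Agent.Lib.Helper7.QuotCoh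

open Groth.Agent.Lib.Helper3 Groth.Agent.Lib.Helper3.QCSec Groth.Agent.Lib.Helper3.InvGen
  Groth.Agent.Lib.Helper7.TwFun Groth.Agent.Lib.Helper7.CohFinite

variable {N : ℕ} {K : Type u} [Field K] (I : (CohB1.ProjSpace N K).IdealSheafData)

/-- `0 → I → O → O/I → 0`. -/
lemma shortExact_ideal :
    (ShortComplex.mk (kernel.ι (ClSub.toSubscheme I)) (ClSub.toSubscheme I)
      (kernel.condition _)).ShortExact := by
  haveI := Hypersurf.epi_toSubscheme I
  exact CechCard.shortExact_kernel (ClSub.toSubscheme I)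

lemma sub_structure (i : ℕ) (hi : 1 ≤ i) :
    Subsingleton (Coh.HH (CohB1.ProjSpace N K) (Coh.structureModule (CohB1.ProjSpace N K)) i) := by
  haveI := Groth.Agent.S0844.result K N 0 i (by rintro ⟨h, -⟩; omega) (by rintro ⟨-, h⟩; omega)
  exact subsingleton_HH_of_iso
    (TwistMul.unitIso (𝒜 := CohB1.polyGrading N K)) i this

lemma eq_zero_of_sub_H0 {X : Scheme.{u}} (M : X.Modules) (h : Subsingleton (Coh.HH X M 0))
    (s : Γ(M, ⊤)) : s = 0 := by
  have hT : IsTerminal (⊤ : X.Opens) := isTerminalTop
  have e := Sheaf.H.equiv₀ (Coh.toAb M) hT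
  have h1 : e.symm s = e.symm 0 := @Subsingleton.elim _ h _ _
  exact e.symm.injective h1

/-- if the ideal sheaf has no cohomology then `O/I` has no higher cohomology. -/
theorem sub_quot (h : ∀ j, Subsingleton (Coh.HH (CohB1.ProjSpace N K) (ClSub.idealMod I) j))
    (i : ℕ) (hi : 1 ≤ i) :
    Subsingleton (Coh.HH (CohB1.ProjSpace N K) (ClSub.quotMod I) i) :=
  sub_right _ (shortExact_ideal I) i (sub_structure i hi) (h (i + 1))

/-- if the ideal sheaf has no `H^0` and no `H^1` then restriction of global functions to the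
closed subscheme is bijective. -/
theorem app_top_bijective
    (h0 : Subsingleton (Coh.HH (CohB1.ProjSpace N K) (ClSub.idealMod I) 0))
    (h1 : Subsingleton (Coh.HH (CohB1.ProjSpace N K) (ClSub.idealMod I) 1)) :
    Function.Bijective ((ClSub.toSubscheme I).app ⊤) := by
  have hS := shortExact_ideal I
  constructor
  · intro a b hab
    have hz : (ClSub.toSubscheme I).app ⊤ (a - b) = 0 := by rw [map_sub, hab, sub_self]
    haveI : Mono (ShortComplex.mk (kernel.ι (ClSub.toSubscheme I)) (ClSub.toSubscheme I)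
      (kernel.condition _)).f := hS.mono_f
    obtain ⟨s, hs⟩ := QCExact.exact_sections _ hS.exact ⊤ (a - b) hz
    have hs0 : s = 0 := eq_zero_of_sub_H0 (ClSub.idealMod I) h0 s
    rw [hs0, map_zero] at hs
    exact sub_eq_zero.mp hs.symm
  · have hS1 : Function.Surjective (HmapL K (ClSub.toSubscheme I) 0) := by
      intro x
      exact CohFinite.exact_right K _ hS 0 x (@Subsingleton.elim _ h1 _ _)
    exact Gaeta.surj_top_of_surj_H0 K (ClSub.toSubscheme I) hS1

/-- cohomology of the closed subscheme, via the pushforward. -/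
theorem sub_subscheme
    (h : ∀ j, Subsingleton (Coh.HH (CohB1.ProjSpace N K) (ClSub.idealMod I) j))
    (i : ℕ) (hi : 1 ≤ i) :
    Subsingleton (Coh.HH I.subscheme (Coh.structureModule I.subscheme) i) := by
  obtain ⟨e⟩ := Groth.Agent.Lib.Helper13.BaseChangeVanish.nonempty_HH_equiv_push
    I.subschemeι (Coh.structureModule I.subscheme) i
  haveI := sub_quot I h i hi
  exact e.toEquiv.subsingleton

/-- the structure map `K → Γ(Z, O_Z)` is bijective. -/
theorem appTop_bijective
    (h0 : Subsingleton (Coh.HH (CohB1.ProjSpace N K) (ClSub.idealMod I) 0))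
    (h1 : Subsingleton (Coh.HH (CohB1.ProjSpace N K) (ClSub.idealMod I) 1)) :
    Function.Bijective (I.subschemeι ≫ CohB1.ProjSpace.toSpec N K).appTop.hom := by
  have hb : Function.Bijective (I.subschemeι.appTop.hom) := app_top_bijective I h0 h1
  haveI : IsIso (CohB1.ProjSpace.toSpec N K).appTop :=
    Groth.Agent.Lib.Helper6.ProjSpaceGamma.main N K
  have hc : Function.Bijective ((CohB1.ProjSpace.toSpec N K).appTop.hom) :=
    ConcreteCategory.bijective_of_isIso (CohB1.ProjSpace.toSpec N K).appTop
  rw [Scheme.Hom.comp_appTop]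
  exact hb.comp hc

end Groth.Agent.Lib.Helper7.QuotCoh
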