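import Groth.Agent.Lib.Helper7.Pencil
import Groth.Agent.Lib.Helper23.Sat
import Groth.Agent.Lib.Helper23.VBMaps
import Groth.Agent.Lib.Helper23.HiggsInv
import Groth.Agent.Lib.Helper23.Inverse
import Groth.Agent.Lib.Helper12.CurveNormSm

/-!
# RankTwo: normalized rank two bundles on a regular proper curve over an algebraically closed
field (Hartshorne V.2)
-/
set_option autoImplicit false
set_option linter.style.haveILetI false
universe u
open CategoryTheory CategoryTheory.Limits AlgebraicGeometry TopologicalSpace Opposite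
open Scheme.Modules

noncomputable section

namespace Groth.Agent.Lib.Helper7.RankTwo

open Groth.Agent.Lib.Helper3 Groth.Agent.Lib.Helper3.QCSec Groth.Agent.Lib.Helper3.InvGen
  Groth.Agent.Lib.Helper3.IdealMod Groth.Agent.Lib.Helper3.InvMonoidal
  Groth.Agent.Lib.Helper3.InvTensor Groth.Agent.Lib.Helper7.TwFun
open Groth.Agent.Lib.Helper23.T2 Groth.Agent.Lib.Helper23.Curve Groth.Agent.Lib.Helper23.Twist
  Groth.Agent.Lib.Helper23.TwE Groth.Agent.Lib.Helper23.EffCart Groth.Agent.Lib.Helper23.Inverse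
  Groth.Agent.Lib.Helper7.CurvePair Groth.Agent.Lib.Helper23 Groth.Agent.Lib.Helper7.PtDiv

variable {X : Scheme.{u}}

/-- **splitting**: a short exact sequence `0 → A → E → Q → 0` with `Q` invertible with inverse
`N'` splits after the twists if `H¹(A ⊗ N') = 0` -/
theorem exists_iso_biprod_of_h1 {A E Q N' : X.Modules} (f : A ⟶ E) (g : E ⟶ Q) (w : f ≫ g = 0)
    (hS : (ShortComplex.mk f g w).ShortExact) (hN' : PicF.IsInvertible N')
    (e' : CohB1.tensorMod Q N' ≅ Coh.structureModule X)
    (h1 : Subsingleton (Coh.HH X (CohB1.tensorMod A N') 1)) :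
    Nonempty (E ≅ CohB1.tensorMod (CohB1.tensorMod A N') Q ⊞
      CohB1.tensorMod (CohB1.tensorMod Q N') Q) := by
  have hE' := isFinLocFreeOfRank_one_of_isInvertible hN'
  have hS' : ((ShortComplex.mk f g w).map (twR N')).ShortExact := shortExact_twE hE' _ hS
  let g' : CohB1.tensorMod E N' ⟶ CohB1.tensorMod Q N' := (twR N').map g
  let x : Coh.HH X (CohB1.tensorMod Q N') 0 :=
    (H0equiv (CohB1.tensorMod Q N')).symm (e'.inv.app ⊤ (ofFun ⊤ 1))
  obtain ⟨y, hy⟩ := exact₃ ((ShortComplex.mk f g w).map (twR N')) hS' 0 x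
    (@Subsingleton.elim _ h1 _ _)
  let t : Γ(CohB1.tensorMod E N', ⊤) := H0equiv (CohB1.tensorMod E N') y
  have ht : g'.app ⊤ t = e'.inv.app ⊤ (ofFun ⊤ 1) := by
    have h2 := H0equiv_naturality g' y
    have h3 : Hmap g' 0 y = x := hy
    rw [h3] at h2
    have h4 : H0equiv (CohB1.tensorMod Q N') x = e'.inv.app ⊤ (ofFun ⊤ 1) :=
      LinearEquiv.apply_symm_apply _ _
    exact h2.symm.trans h4
  let τ : Coh.structureModule X ⟶ CohB1.tensorMod E N' := InvAmple.globalHom _ t
  have hτ : τ ≫ g' ≫ e'.hom = 𝟙 _ := by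
    apply hom_ext_sec
    rw [sec_comp, sec_globalHom_top]
    change e'.hom.app ⊤ (g'.app ⊤ t) = _
    rw [ht, iso_hom_inv_app]
    rfl
  let ρ : CohB1.tensorMod Q N' ⟶ CohB1.tensorMod E N' := e'.hom ≫ τ
  have hρ : ρ ≫ g' = 𝟙 _ := by
    have h5 : ρ ≫ g' = (e'.hom ≫ (τ ≫ g' ≫ e'.hom)) ≫ e'.inv := by
      simp only [ρ, Category.assoc, Iso.hom_inv_id, Category.comp_id]
    rw [h5, hτ, Category.comp_id, Iso.hom_inv_id]
  let sp := ShortComplex.Splitting.ofExactOfSection ((ShortComplex.mk f g w).map (twR N'))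
    hS'.exact ρ hρ hS'.mono_f
  let iso₁ : CohB1.tensorMod E N' ≅ CohB1.tensorMod A N' ⊞ CohB1.tensorMod Q N' :=
    sp.isoBinaryBiproduct
  haveI : PreservesBinaryBiproducts (twR Q) :=
    preservesBinaryBiproducts_of_preservesBiproducts (twR Q)
  let iso₂ := (twR Q).mapIso iso₁ ≪≫ (twR Q).mapBiprod _ _
  let iso₀ : CohB1.tensorMod (CohB1.tensorMod E N') Q ≅ E :=
    assoc E N' Q ≪≫ tensorMapIso (Iso.refl E) (braid N' Q ≪≫ e') ≪≫ SecTwist.unitorR E
  exact ⟨iso₀.symm ≪≫ iso₂⟩

variable (k : Type u) [Field k] [X.Over (Spec (CommRingCat.of k))]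
  [IsProper (X ↘ Spec (CommRingCat.of k))] [IsIntegral X]

/-- an invertible submodule of a normalized module has degree at most zero -/
theorem deg_le_zero_of_mono [IsAlgClosed k] (hdim : topologicalKrullDim X ≤ 1) {E L : X.Modules}
    (hneg : ∀ M : X.Modules, PicF.IsInvertible M → Curv2.deg k X M 1 < 0 →
      Subsingleton (Coh.HH X (CohB1.tensorMod E M) 0))
    (hL : PicF.IsInvertible L) (ι : L ⟶ E) [Mono ι] : Curv2.deg k X L 1 ≤ 0 := by
  haveI := isNoetherian_of_isProper k X
  have h0 := GeomH0.finrank_H0_eq_one_of_isAlgClosed k X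
  obtain ⟨N, hN, hLN⟩ := exists_isInverseOf hL
  have hdN := DegTensor.deg_of_isInverseOf k hdim hL hN hLN
  obtain ⟨e⟩ := hLN
  have hnt : Nontrivial (Coh.HH X (CohB1.tensorMod E N) 0) := by
    let j : CohB1.tensorMod L N ⟶ CohB1.tensorMod E N := (twR N).map ι
    haveI : Mono j := mono_tw hN ι
    have hinj := HmapL_injective_of_mono k j
    haveI : Nontrivial (Coh.HH X (Coh.structureModule X) 0) :=
      Module.nontrivial_of_finrank_pos (R := k) (by omega)
    haveI : Nontrivial (Coh.HH X (CohB1.tensorMod L N) 0) :=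
      (FBC.HmapEquivK k e 0).toEquiv.nontrivial
    exact hinj.nontrivial
  have hdegN : 0 ≤ Curv2.deg k X N 1 := by
    by_contra hlt
    push Not at hlt
    exact not_subsingleton _ (hneg N hN hlt)
  linarith

/-- the sequence `0 → O → E → Q → 0` attached to a nonzero section of a normalized rank two
module -/
theorem exists_normalized_seq [IsAlgClosed k] (hdim : topologicalKrullDim X = 1)
    (hreg : ∀ x : X, IsRegularLocalRing (X.presheaf.stalk x)) {E : X.Modules}
    (hE : FlatMod.IsFinLocFreeOfRank 2 E)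
    (hneg : ∀ M : X.Modules, PicF.IsInvertible M → Curv2.deg k X M 1 < 0 →
      Subsingleton (Coh.HH X (CohB1.tensorMod E M) 0))
    (s : Coh.structureModule X ⟶ E) (hs : s ≠ 0) :
    ∃ (G' C' : X.Modules) (i' : G' ⟶ E) (p : E ⟶ C') (w : i' ≫ p = 0)
      (u : Coh.structureModule X ⟶ G'), (ShortComplex.mk i' p w).ShortExact ∧ u ≫ i' = s ∧
      IsIso u ∧ PicF.IsInvertible G' ∧ PicF.IsInvertible C' ∧ Curv2.deg k X G' 1 = 0 ∧
      Curv2.deg k X E 2 = Curv2.deg k X C' 1 := by
  haveI := isNoetherian_of_isProper k X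
  haveI : PerfectField k := inferInstance
  haveI : LocallyOfFinitePresentation (X ↘ Spec (CommRingCat.of k)) := inferInstance
  haveI : Smooth (X ↘ Spec (CommRingCat.of k)) :=
    Groth.Agent.Lib.Helper12.CurveNormSm.smooth_of_regular_of_perfect k _ hreg
  have hOinv := isInvertible_structureModule X
  have hO := isFinLocFreeOfRank_one_of_isInvertible hOinv
  obtain ⟨a, b, -, -, hab, -, hb0, ha0, -, -⟩ := VBMaps.map_analysis k hdim.le hO hE s
  have hb : b ≠ 0 := fun h => hs (hb0 h)
  have ha : a = 0 := by omega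
  haveI : Mono s := (ha0 ha).1
  obtain ⟨G', C', i', p, w, u, c, hS, hui, hG', hC', hrank, hdle, hdE, huiso⟩ :=
    Sat.exists_saturation k hdim.le hO hE s
  have hc : c = 1 := by omega
  subst hc
  have hG'inv := HiggsInv.isInvertible_of_rank_one hG'
  have hC'inv := HiggsInv.isInvertible_of_rank_one hC'
  haveI : Mono i' := hS.mono_f
  have hG'le := deg_le_zero_of_mono k hdim.le hneg hG'inv i'
  have hdO := DegTensor.deg_structureModule_one k (X := X)
  rw [hdO] at hdle
  have hdG' : Curv2.deg k X G' 1 = 0 := le_antisymm hG'le hdle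
  have hdeq : Curv2.deg k X (Coh.structureModule X) 1 = Curv2.deg k X G' 1 := by
    rw [hdO, hdG']
  refine ⟨G', C', i', p, w, u, hS, hui, huiso hdeq, hG'inv, hC'inv, hdG', ?_⟩
  rw [hdE, hdG', zero_add]

set_option backward.isDefEq.respectTransparency false in
/-- there is an invertible module of degree `-1` -/
theorem exists_invertible_deg_neg_one [IsAlgClosed k] (hdim : topologicalKrullDim X = 1)
    (hreg : ∀ x : X, IsRegularLocalRing (X.presheaf.stalk x)) :
    ∃ M : X.Modules, PicF.IsInvertible M ∧ Curv2.deg k X M 1 = -1 := by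
  haveI := isNoetherian_of_isProper k X
  obtain ⟨y⟩ : Nonempty X := inferInstance
  obtain ⟨P, -, hP⟩ := (isClosed_closure (s := ({y} : Set X))).exists_closed_singleton
    ⟨y, subset_closure rfl⟩
  let Zc : Closeds X := ⟨{P}, hP⟩
  let I : X.IdealSheafData := Scheme.IdealSheafData.vanishingIdeal Zc
  have hdimP : ringKrullDim (X.presheaf.stalk P) ≤ 1 :=
    (Groth.Agent.Lib.Helper7.CurveCM.ringKrullDim_stalk_le_topologicalKrullDim P).trans hdim.le
  haveI := hreg P
  have hn : IsIntegrallyClosed (X.presheaf.stalk P) :=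
    Groth.Agent.Lib.Helper4.SerreNormal.isIntegrallyClosed_of_regular_of_dim_le_one _ hdimP
  have hEff : BlowUp.IsEffCartierIdeal I :=
    isEffCartierIdeal_vanishingIdeal_point P hP hdimP
      (not_isField_stalk P hP (Groth.Agent.Lib.Helper7.CurveCM.singleton_ne_univ hdim P)) hn
  have hI : PicF.IsInvertible (ClSub.idealMod I) :=
    (Groth.Agent.Lib.Helper17.EffCartMod.isInvertible_idealMod_iff I).mpr hEff
  have hsupp : (I.support : Set X) = {P} := Scheme.IdealSheafData.coe_support_vanishingIdeal Zc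
  have hfin : (I.support : Set X).Finite := by rw [hsupp]; exact Set.finite_singleton P
  have hpt : ∀ z ∈ (I.support : Set X), IsClosed ({z} : Set X) := by
    intro z hz
    rw [hsupp] at hz
    rw [Set.mem_singleton_iff.mp hz]
    exact hP
  have hdI := Groth.Agent.Lib.Helper23.PtDiv.deg_idealMod k X I (isCoh_of_isInvertible hI)
    hfin hpt
  have hQ1 : Module.finrank k (Coh.HH X (ClSub.quotMod I) 0) = 1 :=
    finrank_h0_quotMod_closedPoint k P hP
  rw [hQ1] at hdI
  exact ⟨ClSub.idealMod I, hI, by rw [hdI]; norm_num⟩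

end Groth.Agent.Lib.Helper7.RankTwo
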