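import Groth.Agent.Lib.Helper7.RankTwo
import Groth.Agent.Lib.Helper23.CurveF

/-!
# RankTwoB: invertible modules of every degree, invertible submodules of rank two modules
-/
set_option autoImplicit false
set_option linter.style.haveILetI false
universe u
open CategoryTheory CategoryTheory.Limits AlgebraicGeometry TopologicalSpace Opposite
open Scheme.Modules

noncomputable section

namespace Groth.Agent.Lib.Helper7.RankTwo

open Groth.Agent.Lib.Helper3 Groth.Agent.Lib.Helper3.QCSec Groth.Agent.Lib.Helper3.InvGen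
  Groth.Agent.Lib.Helper3.IdealMod Groth.Agent.Lib.Helper3.InvMonoidal
  Groth.Agent.Lib.Helper3.InvTensor Groth.Agent.Lib.Helper7.TwFun
open Groth.Agent.Lib.Helper23.T2 Groth.Agent.Lib.Helper23.Curve Groth.Agent.Lib.Helper23.Twist
  Groth.Agent.Lib.Helper23.TwE Groth.Agent.Lib.Helper23.EffCart Groth.Agent.Lib.Helper23.Inverse
  Groth.Agent.Lib.Helper7.CurvePair Groth.Agent.Lib.Helper23 Groth.Agent.Lib.Helper7.PtDiv

variable {X : Scheme.{u}}

/-- a monomorphism `O ⟶ E ⊗ N` gives a monomorphism `L ⟶ E` from the inverse `L` of `N` -/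
theorem exists_mono_of_twisted_section {E N L : X.Modules} (hL : PicF.IsInvertible L)
    (e : CohB1.tensorMod N L ≅ Coh.structureModule X)
    (σ : Coh.structureModule X ⟶ CohB1.tensorMod E N) [Mono σ] : ∃ ι : L ⟶ E, Mono ι := by
  let j : CohB1.tensorMod (Coh.structureModule X) L ⟶
      CohB1.tensorMod (CohB1.tensorMod E N) L := (twR L).map σ
  haveI : Mono j := mono_tw hL σ
  let iso₀ : CohB1.tensorMod (CohB1.tensorMod E N) L ≅ E :=
    assoc E N L ≪≫ tensorMapIso (Iso.refl E) e ≪≫ SecTwist.unitorR E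
  refine ⟨(unitorL L).inv ≫ j ≫ iso₀.hom, ?_⟩
  haveI : Mono (j ≫ iso₀.hom) := mono_comp _ _
  exact mono_comp _ _

variable (k : Type u) [Field k] [X.Over (Spec (CommRingCat.of k))]
  [IsProper (X ↘ Spec (CommRingCat.of k))] [IsIntegral X]

/-- there are invertible modules of every degree -/
theorem exists_invertible_deg [IsAlgClosed k] (hdim : topologicalKrullDim X = 1)
    (hreg : ∀ x : X, IsRegularLocalRing (X.presheaf.stalk x)) (n : ℤ) :
    ∃ M : X.Modules, PicF.IsInvertible M ∧ Curv2.deg k X M 1 = n := by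
  obtain ⟨M₁, hM₁, hd₁⟩ := exists_invertible_deg_neg_one k hdim hreg
  obtain ⟨M₂, hM₂, h12⟩ := exists_isInverseOf hM₁
  have hd₂ := DegTensor.deg_of_isInverseOf k hdim.le hM₁ hM₂ h12
  rw [hd₁] at hd₂
  have key : ∀ (P : X.Modules), PicF.IsInvertible P → ∀ m : ℕ, ∃ M : X.Modules,
      PicF.IsInvertible M ∧ Curv2.deg k X M 1 = m * Curv2.deg k X P 1 := by
    intro P hP m
    induction m with
    | zero =>
      exact ⟨Coh.structureModule X, isInvertible_structureModule X, by
        rw [DegTensor.deg_structureModule_one]; simp⟩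
    | succ m ih =>
      obtain ⟨M, hM, hdM⟩ := ih
      refine ⟨CohB1.tensorMod M P, isInvertible_tensorMod hM hP, ?_⟩
      rw [DegTensor.deg_tw k hdim.le (isFinLocFreeOfRank_one_of_isInvertible hM) hP, hdM]
      push_cast
      ring
  rcases le_total 0 n with hn | hn
  · obtain ⟨M, hM, hdM⟩ := key M₂ hM₂ n.toNat
    refine ⟨M, hM, ?_⟩
    rw [hdM, hd₂, Int.toNat_of_nonneg hn]
    ring
  · obtain ⟨M, hM, hdM⟩ := key M₁ hM₁ (-n).toNat
    refine ⟨M, hM, ?_⟩
    rw [hdM, hd₁, Int.toNat_of_nonneg (neg_nonneg.2 hn)]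
    ring

/-- **non-split extensions**: if `0 → A → E → Q → 0` is exact with `A`, `Q` invertible and `E` is
indecomposable, then `deg A - deg Q ≤ 2g - 2` -/
theorem deg_sub_le_of_indecomposable [IsAlgClosed k] (hdim : topologicalKrullDim X ≤ 1)
    {A E Q : X.Modules} (f : A ⟶ E) (g : E ⟶ Q) (w : f ≫ g = 0)
    (hS : (ShortComplex.mk f g w).ShortExact) (hA : PicF.IsInvertible A)
    (hQ : PicF.IsInvertible Q)
    (hind : ∀ (E₁ E₂ : X.Modules), Nonempty (E ≅ E₁ ⊞ E₂) → IsZero E₁ ∨ IsZero E₂) :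
    Curv2.deg k X A 1 - Curv2.deg k X Q 1 ≤ 2 * (Curv2.genus k X : ℤ) - 2 := by
  haveI := isNoetherian_of_isProper k X
  have h0 := GeomH0.finrank_H0_eq_one_of_isAlgClosed k X
  obtain ⟨N', hN', hCN⟩ := exists_isInverseOf hQ
  have hdN := DegTensor.deg_of_isInverseOf k hdim hQ hN' hCN
  obtain ⟨e'⟩ := hCN
  have hGN := isInvertible_tensorMod hA hN'
  have hdGN := DegTensor.deg_tw k hdim (isFinLocFreeOfRank_one_of_isInvertible hA) hN'
  by_contra hlt
  push Not at hlt
  have h1 : Subsingleton (Coh.HH X (CohB1.tensorMod A N') 1) := by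
    apply h1_vanish_of_deg_ge' k hdim h0 hGN
    rw [hdGN, hdN]
    push_cast
    linarith
  obtain ⟨iso⟩ := exists_iso_biprod_of_h1 f g w hS hN' e' h1
  rcases hind _ _ ⟨iso⟩ with hz | hz
  · exact not_isZero_of_isInvertible (isInvertible_tensorMod (isInvertible_tensorMod hA hN') hQ) hz
  · exact not_isZero_of_isInvertible (isInvertible_tensorMod (isInvertible_tensorMod hQ hN') hQ) hz

/-- every invertible submodule of an indecomposable rank two module has
`2 deg L ≤ deg E + 2g - 2` -/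
theorem two_mul_deg_le_of_indecomposable [IsAlgClosed k]
    [Smooth (X ↘ Spec (CommRingCat.of k))] (hdim : topologicalKrullDim X ≤ 1)
    {E : X.Modules} (hE : FlatMod.IsFinLocFreeOfRank 2 E)
    (hind : ∀ (E₁ E₂ : X.Modules), Nonempty (E ≅ E₁ ⊞ E₂) → IsZero E₁ ∨ IsZero E₂)
    {L : X.Modules} (hL : PicF.IsInvertible L) (ι : L ⟶ E) [Mono ι] :
    2 * Curv2.deg k X L 1 ≤ Curv2.deg k X E 2 + 2 * (Curv2.genus k X : ℤ) - 2 := by
  have hL1 := isFinLocFreeOfRank_one_of_isInvertible hL
  obtain ⟨G', C', i', p, w, u, c, hS, hui, hG', hC', hrank, hdle, hdE, -⟩ :=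
    Sat.exists_saturation k hdim hL1 hE ι
  have hc : c = 1 := by omega
  subst hc
  have hG'inv := HiggsInv.isInvertible_of_rank_one hG'
  have hC'inv := HiggsInv.isInvertible_of_rank_one hC'
  have h := deg_sub_le_of_indecomposable k hdim i' p w hS hG'inv hC'inv hind
  linarith

/-- a rank two module has an invertible submodule `L` with `deg E - 2g ≤ 2 deg L` -/
theorem exists_invertible_sub_deg_ge [IsAlgClosed k] (hdim : topologicalKrullDim X = 1)
    (hreg : ∀ x : X, IsRegularLocalRing (X.presheaf.stalk x))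
    {E : X.Modules} (hE : FlatMod.IsFinLocFreeOfRank 2 E) :
    ∃ (L : X.Modules) (ι : L ⟶ E), PicF.IsInvertible L ∧ Mono ι ∧
      Curv2.deg k X E 2 - 2 * (Curv2.genus k X : ℤ) ≤ 2 * Curv2.deg k X L 1 := by
  haveI := isNoetherian_of_isProper k X
  haveI : PerfectField k := inferInstance
  haveI : LocallyOfFinitePresentation (X ↘ Spec (CommRingCat.of k)) := inferInstance
  haveI : Smooth (X ↘ Spec (CommRingCat.of k)) :=
    Groth.Agent.Lib.Helper12.CurveNormSm.smooth_of_regular_of_perfect k _ hreg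
  have h0 := GeomH0.finrank_H0_eq_one_of_isAlgClosed k X
  obtain ⟨N, hN, hdN⟩ := exists_invertible_deg k hdim hreg
    ((2 * (Curv2.genus k X : ℤ) - Curv2.deg k X E 2) / 2)
  obtain ⟨L, hL, hNL⟩ := exists_isInverseOf hN
  have hdL := DegTensor.deg_of_isInverseOf k hdim.le hN hL hNL
  obtain ⟨e⟩ := hNL
  have hEN := isFinLocFreeOfRank_tensor hN hE
  have hcoh := isCoh_of_isFinLocFreeOfRank hEN
  have hχ := euler_eq_h0_sub_h1 k hdim.le _ hcoh
  have hd := DegTensor.deg_tw k hdim.le hE hN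
  have hO := euler_structureModule k hdim.le h0
  have hχ2 : Curv2.euler k X (CohB1.tensorMod E N) =
      Curv2.deg k X (CohB1.tensorMod E N) 2 + 2 * Curv2.euler k X (Coh.structureModule X) := by
    unfold Curv2.deg
    push_cast
    ring
  rw [hd, hdN, hO] at hχ2
  rw [hχ2] at hχ
  push_cast at hχ
  have hnn : (0 : ℤ) ≤ (Module.finrank k (Coh.HH X (CohB1.tensorMod E N) 1) : ℤ) :=
    Int.natCast_nonneg _
  haveI : Module.Finite k (Coh.HH X (CohB1.tensorMod E N) 0) := finite_HH k _ hcoh 0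
  have hpos : 0 < Module.finrank k (Coh.HH X (CohB1.tensorMod E N) 0) := by
    have : (0 : ℤ) < (Module.finrank k (Coh.HH X (CohB1.tensorMod E N) 0) : ℤ) := by
      generalize (Curv2.genus k X : ℤ) = g at *
      generalize Curv2.deg k X E 2 = d at *
      omega
    exact_mod_cast this
  haveI : Nontrivial (Coh.HH X (CohB1.tensorMod E N) 0) :=
    Module.nontrivial_of_finrank_pos (R := k) hpos
  obtain ⟨x, hx⟩ := exists_ne (0 : Coh.HH X (CohB1.tensorMod E N) 0)
  have hm0 : H0equiv (CohB1.tensorMod E N) x ≠ 0 :=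
    fun h => hx ((H0equiv _).injective (h.trans (map_zero _).symm))
  have hs := globalHom_ne_zero (CohB1.tensorMod E N) (H0equiv _ x) hm0
  have hOinv := isInvertible_structureModule X
  have hO1 := isFinLocFreeOfRank_one_of_isInvertible hOinv
  obtain ⟨a, b, -, -, hab, -, hb0, ha0, -, -⟩ := VBMaps.map_analysis k hdim.le hO1 hEN
    (InvAmple.globalHom (CohB1.tensorMod E N) (H0equiv _ x))
  have hb : b ≠ 0 := fun h => hs (hb0 h)
  have ha : a = 0 := by omega
  haveI : Mono (InvAmple.globalHom (CohB1.tensorMod E N) (H0equiv _ x)) := (ha0 ha).1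
  obtain ⟨ι, hι⟩ := exists_mono_of_twisted_section hL e
    (InvAmple.globalHom (CohB1.tensorMod E N) (H0equiv _ x))
  refine ⟨L, ι, hL, hι, ?_⟩
  rw [hdL, hdN]
  generalize (Curv2.genus k X : ℤ) = g
  generalize Curv2.deg k X E 2 = d
  omega

end Groth.Agent.Lib.Helper7.RankTwo
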