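import Mathlib.AlgebraicGeometry.Birational.RationalMap

/-! Helper7: the largest `S`-representative of a rational `S`-map from a reduced scheme to a scheme
separated over `S` (relative version of `RationalMap.toPartialMap`). -/

universe u

namespace Groth.Agent.Lib.Helper7

open AlgebraicGeometry CategoryTheory Scheme

section
variable (S : Scheme.{u}) {X Y : Scheme.{u}} [X.Over S] [Y.Over S]

/-- domains of `S`-representatives -/
def repSet (f : X ⤏ Y) : Set X.Opens :=
  { U | ∃ g : X.PartialMap Y, g.IsOver S ∧ g.toRationalMap = f ∧ g.domain = U }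

def domS (f : X ⤏ Y) : X.Opens := sSup (repSet S f)

set_option backward.isDefEq.respectTransparency false in
noncomputable def coverS (f : X ⤏ Y) : (domS S f).toScheme.OpenCover where
  I₀ := repSet S f
  X U := U.1.toScheme
  f U := X.homOfLE (le_sSup U.2)
  mem₀ := by
    rw [presieve₀_mem_precoverage_iff]
    refine ⟨fun x ↦ ?_, inferInstance⟩
    use ⟨_, (TopologicalSpace.Opens.mem_sSup.mp x.2).choose_spec.1⟩
    exact ⟨⟨x.1, (TopologicalSpace.Opens.mem_sSup.mp x.2).choose_spec.2⟩, Subtype.ext (by simp)⟩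

set_option backward.isDefEq.respectTransparency false in
noncomputable def glueS [IsReduced X] [IsSeparated (Y ↘ S)] (f : X ⤏ Y) :
    (domS S f).toScheme ⟶ Y := by
  refine (coverS S f).glueMorphisms
    (fun x ↦ (X.isoOfEq x.2.choose_spec.2.2).inv ≫ x.2.choose.hom) ?_
  intro x y
  let g (x : (coverS S f).I₀) := x.2.choose
  have hg₀ (x) : (g x).IsOver S := x.2.choose_spec.1
  have hg₁ (x) : (g x).toRationalMap = f := x.2.choose_spec.2.1
  have hg₂ (x) : (g x).domain = x.1 := x.2.choose_spec.2.2
  refine (cancel_epi (isPullback_opens_inf_le (le_sSup x.2) (le_sSup y.2)).isoPullback.hom).mp ?_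
  simp only [coverS, IsPullback.isoPullback_hom_fst_assoc,
    IsPullback.isoPullback_hom_snd_assoc]
  change _ ≫ _ ≫ (g x).hom = _ ≫ _ ≫ (g y).hom
  simp_rw [← cancel_epi (X.isoOfEq congr($(hg₂ x) ⊓ $(hg₂ y))).hom, ← Category.assoc]
  have := hg₀ x
  have := hg₀ y
  convert! (PartialMap.equiv_iff_of_isSeparated (S := S) (f := g x) (g := g y)).mp ?_ using 1
  · congr 1; simp [g, ← cancel_mono (Opens.ι _)]
  · congr 1; simp [g, ← cancel_mono (Opens.ι _)]
  · rw [← PartialMap.toRationalMap_eq_iff, hg₁, hg₁]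

theorem dense_domS (f : X ⤏ Y) [f.IsOver S] : Dense ((domS S f : X.Opens) : Set X) := by
  obtain ⟨g, hgS, hg⟩ := f.exists_partialMap_over S
  exact g.dense_domain.mono (show g.domain ≤ domS S f from le_sSup ⟨g, hgS, hg, rfl⟩)

/-- the largest `S`-representative -/
noncomputable def bigRep [IsReduced X] [IsSeparated (Y ↘ S)] (f : X ⤏ Y) [f.IsOver S] :
    X.PartialMap Y := ⟨domS S f, dense_domS S f, glueS S f⟩

set_option backward.defeqAttrib.useBackward true in
theorem bigRep_restrict [IsReduced X] [IsSeparated (Y ↘ S)] (f : X ⤏ Y) [f.IsOver S]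
    (h : X.PartialMap Y) [hS : h.IsOver S] (hf : h.toRationalMap = f) :
    ((bigRep S f).restrict h.domain h.dense_domain
      (show h.domain ≤ domS S f from le_sSup ⟨h, hS, hf, rfl⟩)).hom = h.hom := by
  dsimp [bigRep, glueS]
  refine ((coverS S f).ι_glueMorphisms _ _ ⟨_, h, hS, hf, rfl⟩).trans ?_
  generalize_proofs _ H H'
  have h1 := H.choose_spec.1
  have : H.choose = h :=
    (PartialMap.equiv_iff_of_domain_eq_of_isSeparated (S := S) H.choose_spec.2.2).mp
    (PartialMap.toRationalMap_eq_iff.mp (H.choose_spec.2.1.trans hf.symm))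
  exact ((PartialMap.ext_iff _ _).mp this.symm).choose_spec.symm


set_option backward.defeqAttrib.useBackward true in
theorem exists_largest_partialMap_over [IsReduced X] [IsSeparated (Y ↘ S)] (f : X ⤏ Y)
    [f.IsOver S] :
    ∃ g : X.PartialMap Y, g.IsOver S ∧ g.toRationalMap = f ∧
      ∀ h : X.PartialMap Y, h.IsOver S → h.toRationalMap = f →
        ∃ hle : h.domain ≤ g.domain, h = g.restrict h.domain h.dense_domain hle := by
  have key : ∀ h : X.PartialMap Y, ∀ _ : h.IsOver S, ∀ _ : h.toRationalMap = f,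
      ∃ hle : h.domain ≤ (bigRep S f).domain,
        h = (bigRep S f).restrict h.domain h.dense_domain hle := by
    intro h hS hf
    refine ⟨le_sSup ⟨h, hS, hf, rfl⟩, ?_⟩
    exact PartialMap.ext _ _ rfl (by simpa using (bigRep_restrict S f h hf).symm)
  refine ⟨bigRep S f, ?_, ?_, fun h hS hf => key h hS hf⟩
  · rw [PartialMap.isOver_iff]
    apply (coverS S f).hom_ext
    rintro ⟨U, h, hS, hf, rfl⟩
    have h1 := bigRep_restrict S f h hf
    have h2 := PartialMap.isOver_iff.mp hS
    simp only [PartialMap.restrict_hom, PartialMap.compHom_hom] at h1 h2 ⊢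
    have hle : h.domain ≤ (bigRep S f).domain := le_sSup ⟨h, hS, hf, rfl⟩
    change X.homOfLE hle ≫ (bigRep S f).hom ≫ Y ↘ S = X.homOfLE hle ≫ _
    rw [reassoc_of% h1, h2]
    simp [bigRep]
  · obtain ⟨h₀, hS, hf⟩ := f.exists_partialMap_over S
    obtain ⟨hle, he⟩ := key h₀ hS hf
    calc (bigRep S f).toRationalMap
        = ((bigRep S f).restrict h₀.domain h₀.dense_domain hle).toRationalMap :=
          (PartialMap.restrict_toRationalMap _ _ _ _).symm
      _ = h₀.toRationalMap := by rw [← he]
      _ = f := hf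

end

end Groth.Agent.Lib.Helper7
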