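import Groth.Agent.Lib.Helper7.PnOver
import Groth.Agent.Lib.Helper7.PnFlat
import Groth.Agent.Lib.Helper2.RHom.FlatOver
import Groth.Agent.Lib.Helper17.FlatStructure
import Groth.Agent.Lib.Helper3.LocFreeCrit
import Groth.Agent.Lib.Helper17.LocConstRank
import Groth.Agent.S2390

/-!
# Direct images of finite locally free sheaves on `P^n_Y` without higher direct images

For `Y` Noetherian and `F` finite locally free on `P^n_Y` with `R^i p_* F = 0` for `i ≥ 1`,
`p_* F` is finite locally free (`P^n_Y ⟶ Y` is flat and proper; cohomology and base change).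
-/

set_option autoImplicit false
set_option linter.unusedSectionVars false
set_option linter.style.haveILetI false
universe u
open CategoryTheory CategoryTheory.Limits AlgebraicGeometry TopologicalSpace Opposite
open Scheme.Modules

noncomputable section

namespace Groth.Agent.Lib.Helper7.RegPush

open Groth.Agent.Lib.Helper3 Groth.Agent.Lib.Helper13 Groth.Agent.Lib.Helper2
open InvMonoidal PnOver

variable (n : ℕ) (Y : Scheme.{u})

lemma isCoh_of_isFinLocFree {X : Scheme.{u}} {G : X.Modules} (hG : FlatMod.IsFinLocFree G) :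
    Coh.IsCoh G := by
  haveI := LocFreeCrit.isQuasicoherent_of_isFinLocFree hG
  exact ⟨inferInstance, Groth.Agent.Lib.Helper17.LocConstRank.isFiniteType_of_isFinLocFree G hG⟩

/-- finite locally free modules on `P^n_Y` are flat over `Y`. -/
lemma isFlatOver_of_isFinLocFree (F : (CohB1.ProjSpaceOver n Y).Modules)
    (hF : FlatMod.IsFinLocFree F) : FlatMod.IsFlatOver (pp n Y) F := by
  have hO : FlatMod.IsFlatOver (pp n Y) (Coh.structureModule (CohB1.ProjSpaceOver n Y)) :=
    (Groth.Agent.Lib.Helper17.FlatStructure.flat_iff_isFlatOver (pp n Y)).1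
      (Groth.Agent.Lib.Helper7.PnFlat.flat_toBase n Y)
  have h1 := Groth.Agent.Lib.Helper2.FlatOver.isFlatOver_tensor (pp n Y) F _ hF hO
  intro x
  exact Groth.Agent.Lib.Helper17.PbFlatOver.isFlatOverAt_of_iso (pp n Y) (SecTwist.unitorR F) x
    (h1 x)

/-- `p_* F` is finite locally free if `F` is and has no higher direct images. -/
theorem isFinLocFree_push [IsNoetherian Y] (F : (CohB1.ProjSpaceOver n Y).Modules)
    (hF : FlatMod.IsFinLocFree F)
    (hvan : ∀ i : ℕ, 1 ≤ i → IsZero ((Coh.RpushAb (pp n Y) i).obj (Coh.toAb F))) :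
    FlatMod.IsFinLocFree ((Scheme.Modules.pushforward (pp n Y)).obj F) := by
  haveI := Groth.Agent.Lib.Helper8.ProperAtDvr.isProper_toBase n Y
  haveI : EnoughInjectives (CohB1.ProjSpaceOver n Y).Modules :=
    ModGrothendieck.enoughInjectives (CohB1.ProjSpaceOver n Y).ringCatSheaf
  have hcoh := isCoh_of_isFinLocFree hF
  haveI : F.IsQuasicoherent := hcoh.1
  have hR : ∀ i : ℕ, 0 < i → IsZero ((Coh.Rpush (pp n Y) i).obj F) := fun i hi =>
    (RpushCompare.isZero_Rpush_iff (pp n Y) F i).2 (hvan i hi)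
  obtain ⟨-, h2⟩ := Groth.Agent.S2390.result (pp n Y) F hcoh (isFlatOver_of_isFinLocFree n Y F hF) hR
  intro y
  obtain ⟨U, hyU, ⟨e⟩⟩ := h2 y
  exact ⟨U, _, hyU, ⟨e⟩⟩

end Groth.Agent.Lib.Helper7.RegPush
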