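import Groth.Agent.Lib.Helper7.PnPullReg
import Groth.Agent.Lib.Helper7.PnOver
import Groth.Agent.Lib.Helper7.RegGG
import Groth.Agent.Lib.Helper25.RegSES
import Groth.Agent.Lib.Helper25.RegSES2
import Groth.Agent.Lib.Helper10.DerLES
import Groth.Agent.S0036

/-!
# Quillen's lemma on regular sheaves: `p^* p_* F ⟶ F` is onto with kernel `Z`, `Z(1)` regular
-/

set_option autoImplicit false
set_option linter.unusedSectionVars false
set_option linter.style.haveILetI false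
universe u
open CategoryTheory CategoryTheory.Limits AlgebraicGeometry TopologicalSpace Opposite
open Scheme.Modules

noncomputable section

namespace Groth.Agent.Lib.Helper7.RegQuillen

open Groth.Agent.Lib.Helper3 Groth.Agent.Lib.Helper13 Groth.Agent.Lib.Helper2
open InvMonoidal PnOver Groth.Agent.Lib.Helper7.TwFun

variable (n : ℕ) (Y : Scheme.{u})

lemma jZ_pp {W : Y.Opens} (hW : IsAffineOpen W) :
    jZ n Y hW ≫ pp n Y = CohB1.ProjSpace.toSpec n ↑Γ(Y, W) ≫ hW.fromSpec := by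
  have h1 : cZ n Y hW ≫ bZ n Y hW = CohB1.ProjSpace.toSpec n ↑Γ(Y, W) :=
    (isPullback_Z n Y hW).lift_snd _ _ _
  have h2 : (pp n Y ∣_ W) ≫ W.ι = (pp n Y ⁻¹ᵁ W).ι ≫ pp n Y := morphismRestrict_ι _ _
  rw [← h1, bZ, jZ, Category.assoc, Category.assoc, Category.assoc, ← h2,
    ← hW.isoSpec_inv_ι, Iso.hom_inv_id_assoc]

/-- regular ⇒ `R^i p_*(F(r)) = 0` for `i ≥ 1`, `r ≥ -i`. -/
theorem isZero_RpushAb_twF_of_regular (F : (CohB1.ProjSpaceOver n Y).Modules) [F.IsQuasicoherent]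
    (hreg : KRR.IsRegSheaf n Y F) (i : ℕ) (hi : 1 ≤ i) (r : ℤ) (hr : -(i : ℤ) ≤ r) :
    IsZero ((Coh.RpushAb (pp n Y) i).obj (Coh.toAb (KRR.twF n Y r F))) := by
  haveI := isQCoh_twF n Y r F
  rw [isZero_RpushAb_iff]
  intro W hW
  obtain ⟨e⟩ := nonempty_jZ_twF_iso n Y hW r F
  exact subsingleton_HH_of_iso e i (regular_local n Y F hreg hW i r hi hr)

/-- `p^* G` is regular for `G` coherent on a Noetherian base. -/
theorem isRegSheaf_pullback [IsNoetherian Y] (G : Y.Modules) (hG : Coh.IsCoh G) :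
    KRR.IsRegSheaf n Y ((Scheme.Modules.pullback (pp n Y)).obj G) := by
  intro i hi
  haveI := hG.1
  haveI := hG.2
  haveI : ((Scheme.Modules.pullback (pp n Y)).obj G).IsQuasicoherent :=
    Groth.Agent.Lib.Helper17.PbStalk.isQuasicoherent_pullback _ G
  haveI := isQCoh_twF n Y (-(i : ℤ)) ((Scheme.Modules.pullback (pp n Y)).obj G)
  change IsZero ((Coh.RpushAb (pp n Y) i).obj (Coh.toAb (KRR.twF n Y (-(i : ℤ))
    ((Scheme.Modules.pullback (pp n Y)).obj G))))
  rw [isZero_RpushAb_iff]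
  intro W hW
  haveI : IsNoetherianRing ↑Γ(Y, W) := IsLocallyNoetherian.component_noetherian ⟨W, hW⟩
  obtain ⟨e⟩ := nonempty_jZ_twF_iso n Y hW (-(i : ℤ)) ((Scheme.Modules.pullback (pp n Y)).obj G)
  have hN : Coh.IsCoh ((Scheme.Modules.pullback hW.fromSpec).obj G) := by
    haveI : (G.restrict hW.fromSpec).IsFiniteType := QCProps.isFiniteType_restrict hW.fromSpec G
    exact ⟨Groth.Agent.Lib.Helper17.PbStalk.isQuasicoherent_pullback _ G,
      QCProps.isFiniteType_of_iso ((Scheme.Modules.restrictFunctorIsoPullback hW.fromSpec).app G)⟩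
  let t : (Scheme.Modules.pullback (jZ n Y hW)).obj ((Scheme.Modules.pullback (pp n Y)).obj G) ≅
      (Scheme.Modules.pullback (CohB1.ProjSpace.toSpec n ↑Γ(Y, W))).obj
        ((Scheme.Modules.pullback hW.fromSpec).obj G) :=
    (Scheme.Modules.pullbackComp (jZ n Y hW) (pp n Y)).app G ≪≫
      (Scheme.Modules.pullbackCongr (jZ_pp n Y hW)).app G ≪≫
      ((Scheme.Modules.pullbackComp (CohB1.ProjSpace.toSpec n ↑Γ(Y, W)) hW.fromSpec).app G).symm
  exact subsingleton_HH_of_iso (e ≪≫ tensorMapIso t (Iso.refl _)) i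
    (PnPullReg.sub_pull_twist n ↑Γ(Y, W) _ hN i hi (-(i : ℤ)) le_rfl)

/-- `twF 0 Z ≅ Z`. -/
def twFZeroIso (Z : (CohB1.ProjSpaceOver n Y).Modules) : KRR.twF n Y 0 Z ≅ Z :=
  tensorMapIso ((Scheme.Modules.pullback (qq n Y)).mapIso
      (TwistMul.unitIso (𝒜 := CohB1.polyGrading n (ULift.{u} ℤ))).symm ≪≫
    PbBasic.pbUnit (qq n Y)) (Iso.refl Z) ≪≫ unitorL Z

/-- **Quillen's lemma.** -/
theorem main [IsNoetherian Y] (F : (CohB1.ProjSpaceOver n Y).Modules) (hF : Coh.IsCoh F)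
    (hreg : KRR.IsRegSheaf n Y F) :
    Epi ((Scheme.Modules.pullbackPushforwardAdjunction (pp n Y)).counit.app F) ∧
    KRR.IsRegSheaf n Y (KRR.twF n Y 1
      (kernel ((Scheme.Modules.pullbackPushforwardAdjunction (pp n Y)).counit.app F))) := by
  haveI := hF.1
  haveI := Groth.Agent.Lib.Helper8.ProperAtDvr.isProper_toBase n Y
  haveI : EnoughInjectives (CohB1.ProjSpaceOver n Y).Modules :=
    ModGrothendieck.enoughInjectives (CohB1.ProjSpaceOver n Y).ringCatSheaf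
  haveI hε : Epi ((Scheme.Modules.pullbackPushforwardAdjunction (pp n Y)).counit.app F) :=
    RegGG.epi_counit_of_regular n Y F hreg
  refine ⟨hε, ?_⟩
  set ε := (Scheme.Modules.pullbackPushforwardAdjunction (pp n Y)).counit.app F with hεdef
  have hG : Coh.IsCoh ((Scheme.Modules.pushforward (pp n Y)).obj F) :=
    Groth.Agent.Lib.Helper17.DevBasic.isCoh_of_iso
      ((Coh.push (pp n Y)).rightDerivedZeroIsoSelf.app F) (Groth.Agent.S0036.result (pp n Y) F hF 0)
  have hregG := isRegSheaf_pullback n Y _ hG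
  haveI : ((Scheme.Modules.pullback (pp n Y)).obj
      ((Scheme.Modules.pushforward (pp n Y)).obj F)).IsQuasicoherent :=
    haveI := hG.1
    Groth.Agent.Lib.Helper17.PbStalk.isQuasicoherent_pullback _ _
  have hS₀ := CechCard.shortExact_kernel ε
  intro i hi
  obtain ⟨m, rfl⟩ : ∃ m, i = m + 1 := ⟨i - 1, by omega⟩
  rcases Nat.eq_zero_or_pos m with rfl | hm
  · -- `i = 1`
    have h2 := SerreCrit1.shortExact_map_toSheaf _ hS₀
    obtain ⟨Tres⟩ := H10SES.nonempty_sesRes h2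
    have hex₁ := H10SES.les_exact₁ (Coh.pushAb (pp n Y)) Tres 0 1 rfl
    have hcomp := H10SES.les_comp_δ (Coh.pushAb (pp n Y)) Tres 0 1 rfl
    have hz2 : IsZero ((Coh.RpushAb (pp n Y) 1).obj (Coh.toAb ((Scheme.Modules.pullback (pp n Y)).obj
        ((Scheme.Modules.pushforward (pp n Y)).obj F)))) :=
      PnOver.isZero_RpushAb_of_regular n Y _ hregG 1 le_rfl
    haveI hsplit : IsSplitEpi ((Scheme.Modules.pushforward (pp n Y)).map ε) :=
      ⟨⟨⟨(Scheme.Modules.pullbackPushforwardAdjunction (pp n Y)).unit.app _,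
        (Scheme.Modules.pullbackPushforwardAdjunction (pp n Y)).right_triangle_components F⟩⟩⟩
    haveI hepi0 : Epi ((Coh.pushAb (pp n Y)).map ((SerreCrit1.TT _).map ε)) := by
      change Epi ((SerreCrit1.TT Y).map ((Scheme.Modules.pushforward (pp n Y)).map ε))
      infer_instance
    haveI hepi1 : Epi ((Coh.RpushAb (pp n Y) 0).map ((SerreCrit1.TT _).map ε)) := by
      have hnat := (Coh.pushAb (pp n Y)).rightDerivedZeroIsoSelf.hom.naturality
        ((SerreCrit1.TT _).map ε)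
      have : (Coh.RpushAb (pp n Y) 0).map ((SerreCrit1.TT _).map ε) =
          (Coh.pushAb (pp n Y)).rightDerivedZeroIsoSelf.hom.app _ ≫
            (Coh.pushAb (pp n Y)).map ((SerreCrit1.TT _).map ε) ≫
            (Coh.pushAb (pp n Y)).rightDerivedZeroIsoSelf.inv.app _ := by
        rw [← Category.assoc, ← hnat, Category.assoc, Iso.hom_inv_id_app, Category.comp_id]
      rw [this]
      infer_instance
    have hδ0 : Tres.delta (Coh.pushAb (pp n Y)) 0 1 rfl = 0 :=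
      (cancel_epi ((Coh.RpushAb (pp n Y) 0).map ((SerreCrit1.TT _).map ε))).1
        (hcomp.trans comp_zero.symm)
    have hδe : Epi (Tres.delta (Coh.pushAb (pp n Y)) 0 1 rfl) := hex₁.epi_f (hz2.eq_of_tgt _ _)
    have hzZ : IsZero ((Coh.RpushAb (pp n Y) 1).obj (Coh.toAb (kernel ε))) :=
      @IsZero.of_epi_eq_zero _ _ _ _ _ (Tres.delta (Coh.pushAb (pp n Y)) 0 1 rfl) hδe hδ0
    obtain ⟨e1⟩ := Groth.Agent.Lib.Helper25.RegSES.nonempty_twF_twF n Y (-(((0 : ℕ) + 1 : ℕ) : ℤ)) 1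
      (kernel ε)
    have e0 : -(((0 : ℕ) + 1 : ℕ) : ℤ) + 1 = 0 := by norm_num
    rw [e0] at e1
    exact hzZ.of_iso ((Coh.RpushAb (pp n Y) 1).mapIso ((SerreCrit1.TT _).mapIso
      (e1 ≪≫ twFZeroIso n Y (kernel ε))))
  · -- `i = m + 1`, `m ≥ 1`
    have h1 := Groth.Agent.Lib.Helper25.RegSES.shortExact_twF n Y (-(m : ℤ)) _ hS₀
    have h2 := SerreCrit1.shortExact_map_toSheaf _ h1
    obtain ⟨Tres⟩ := H10SES.nonempty_sesRes h2
    have hex₁ := H10SES.les_exact₁ (Coh.pushAb (pp n Y)) Tres m (m + 1) rfl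
    have hz3 : IsZero ((Coh.RpushAb (pp n Y) m).obj (Coh.toAb (KRR.twF n Y (-(m : ℤ)) F))) :=
      hreg m hm
    have hz2 : IsZero ((Coh.RpushAb (pp n Y) (m + 1)).obj (Coh.toAb (KRR.twF n Y (-(m : ℤ))
        ((Scheme.Modules.pullback (pp n Y)).obj ((Scheme.Modules.pushforward (pp n Y)).obj F))))) :=
      isZero_RpushAb_twF_of_regular n Y _ hregG (m + 1) (by omega) (-(m : ℤ)) (by push_cast; omega)
    have hzZ : IsZero ((Coh.RpushAb (pp n Y) (m + 1)).obj
        (Coh.toAb (KRR.twF n Y (-(m : ℤ)) (kernel ε)))) :=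
      hex₁.isZero_of_both_zeros (hz3.eq_of_src _ _) (hz2.eq_of_tgt _ _)
    obtain ⟨e1⟩ := Groth.Agent.Lib.Helper25.RegSES.nonempty_twF_twF n Y (-((m + 1 : ℕ) : ℤ)) 1
      (kernel ε)
    have e0 : -((m + 1 : ℕ) : ℤ) + 1 = -(m : ℤ) := by push_cast; ring
    rw [e0] at e1
    exact hzZ.of_iso ((Coh.RpushAb (pp n Y) (m + 1)).mapIso ((SerreCrit1.TT _).mapIso e1))

end Groth.Agent.Lib.Helper7.RegQuillen
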