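import Mathlib

/-!
# Avoiding finitely many "hyperplanes" over a local ring with infinite residue field (helper7)
-/
set_option autoImplicit false
universe u v

namespace Groth.Agent.Lib.Helper7.RegSpanLA

open IsLocalRing Pointwise

/-- Let `A` be a local ring with infinite residue field, `φ z : A →+* K z` finitely many ring maps
to fields and `u z : ι' → K z` families which are not identically zero.  Then some `a : ι' → A`
satisfies `∑ i, φ z (a i) * u z i ≠ 0` for all `z`. -/
theorem exists_avoid {A : Type u} [CommRing A] [IsLocalRing A]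
    (hA : Infinite (ResidueField A)) {ι' : Type} [Fintype ι'] [DecidableEq ι']
    {ζ : Type v} [Finite ζ] (K : ζ → Type u) [∀ z, Field (K z)]
    (φ : ∀ z, A →+* K z) (u : ∀ z, ι' → K z) (hu : ∀ z, ∃ i, u z i ≠ 0) :
    ∃ a : ι' → A, ∀ z, ∑ i, φ z (a i) * u z i ≠ 0 := by
  classical
  haveI := Fintype.ofFinite ζ
  let ψ : ∀ z, (ι' → A) →+ K z := fun z =>
    { toFun := fun a => ∑ i, φ z (a i) * u z i
      map_zero' := by simp
      map_add' := fun a b => by
        simp only [Pi.add_apply, map_add, add_mul, Finset.sum_add_distrib] }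
  by_contra hcon
  push Not at hcon
  have hcov : ⋃ z ∈ (Finset.univ : Finset ζ),
      (0 : ι' → A) +ᵥ (((ψ z).ker : AddSubgroup (ι' → A)) : Set (ι' → A)) = Set.univ := by
    apply Set.eq_univ_of_forall
    intro a
    obtain ⟨z, hz⟩ := hcon a
    simp only [zero_vadd, Set.mem_iUnion]
    exact ⟨z, Finset.mem_univ z, hz⟩
  obtain ⟨z, -, hfi⟩ := AddSubgroup.exists_finiteIndex_of_leftCoset_cover hcov
  haveI : Finite ((ι' → A) ⧸ (ψ z).ker) := AddSubgroup.finite_quotient_of_finiteIndex
  have hfin : (Set.range (ψ z)).Finite := by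
    have e := QuotientAddGroup.quotientKerEquivRange (ψ z)
    haveI : Finite (ψ z).range := Finite.of_equiv _ e.toEquiv
    have h1 : (Set.range (ψ z)) = ((ψ z).range : Set (K z)) := (AddMonoidHom.coe_range (ψ z)).symm
    rw [h1]
    exact Set.toFinite _
  obtain ⟨i₀, hi₀⟩ := hu z
  -- the map `A ⧸ ker (φ z) → K z`, `t ↦ φ z t * u z i₀`
  have hker : RingHom.ker (φ z) ≤ maximalIdeal A :=
    IsLocalRing.le_maximalIdeal (RingHom.ker_ne_top (φ z))
  haveI : Infinite (A ⧸ maximalIdeal A) := hA
  haveI : Infinite (A ⧸ RingHom.ker (φ z)) :=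
    Infinite.of_surjective (Ideal.Quotient.factor hker) (Ideal.Quotient.factor_surjective hker)
  let Φ : A ⧸ RingHom.ker (φ z) → K z := fun t => RingHom.kerLift (φ z) t * u z i₀
  have hΦ : Function.Injective Φ := by
    intro s t hst
    exact RingHom.kerLift_injective (φ z) (mul_right_cancel₀ hi₀ hst)
  have hsub : Set.range Φ ⊆ Set.range (ψ z) := by
    rintro _ ⟨t, rfl⟩
    obtain ⟨t, rfl⟩ := Ideal.Quotient.mk_surjective t
    refine ⟨Pi.single i₀ t, ?_⟩
    change ∑ i, φ z ((Pi.single i₀ t : ι' → A) i) * u z i = φ z t * u z i₀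
    rw [Finset.sum_eq_single i₀]
    · rw [Pi.single_eq_same]
    · intro j _ hj
      rw [Pi.single_eq_of_ne hj, map_zero, zero_mul]
    · intro h
      exact absurd (Finset.mem_univ i₀) h
  exact Set.infinite_range_of_injective hΦ (hfin.subset hsub)

end Groth.Agent.Lib.Helper7.RegSpanLA
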