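import Groth.Agent.Lib.Helper7.RegSpanA
import Groth.Agent.Lib.Helper7.RegSpanLA
import Groth.Agent.S1576

/-!
# A linear combination of generating sections which is regular for finitely many coherent modules
(helper7)
-/
set_option autoImplicit false
universe u
open CategoryTheory CategoryTheory.Limits AlgebraicGeometry TopologicalSpace Opposite
open Scheme.Modules

noncomputable section

namespace Groth.Agent.Lib.Helper7.RegSpanB

open Groth.Agent.Lib.Helper3 Groth.Agent.Lib.Helper3.QCSec Groth.Agent.Lib.Helper3.InvGen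
  Groth.Agent.Lib.Helper3.InvTensor Groth.Agent.Lib.Helper3.InvMonoidal
  Groth.Agent.Lib.Helper3.InvAmple Groth.Agent.Lib.Helper7.RegSpanA

variable {V : Scheme.{u}}

lemma res_sum (M : V.Modules) {A B : V.Opens} (h : A ≤ B) {ι : Type*} (S : Finset ι)
    (s : ι → Γ(M, B)) : res M h (∑ i ∈ S, s i) = ∑ i ∈ S, res M h (s i) := by
  classical
  induction S using Finset.induction_on with
  | empty => simp [res_zero]
  | insert a S ha ih => rw [Finset.sum_insert ha, Finset.sum_insert ha, QCExact.res_add, ih]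

variable {A : Type u} [CommRing A] (f : V ⟶ Spec (CommRingCat.of A))
  (L : V.Modules) {N : ℕ} (σ : Fin (N + 1) → (Coh.structureModule V ⟶ L))

/-- the image of `a : A` in the global functions. -/
def rho (a : A) : Γ(V, (⊤ : V.Opens)) := Coh.toGlobal f a

/-- the global section `∑ a_i σ_i`. -/
def comb (a : Fin (N + 1) → A) : Γ(L, (⊤ : V.Opens)) :=
  ∑ i, rho f (a i) • sec (σ i) ⊤

variable {L}

theorem exists_gen_at_points [IsLocalRing A] (hA : Infinite (IsLocalRing.ResidueField A))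
    (hL : PicF.IsInvertible L) (hgen : ∀ x : V, ∃ i, x ∈ CohB1.genLocus L (σ i))
    (Z : Set V) (hZ : Z.Finite) :
    ∃ a : Fin (N + 1) → A, ∀ z ∈ Z, z ∈ CohB1.genLocus L (globalHom L (comb f L σ a)) := by
  classical
  haveI : Finite Z := hZ.to_subtype
  have hloc : ∀ z : Z, ∃ (U : V.Opens) (e : Γ(L, U)) (b : Fin (N + 1) → Γ(V, U)),
      z.1 ∈ U ∧ IsGen L U e ∧ ∀ i, sec (σ i) U = b i • e := by
    intro z
    obtain ⟨U, e, hzU, hg⟩ := exists_isGen hL z.1
    have hc : ∀ i, ∃ b : Γ(V, U), b • e = sec (σ i) U := fun i => hg.self.exists_coord _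
    choose b hb using hc
    exact ⟨U, e, b, hzU, hg, fun i => (hb i).symm⟩
  choose U e b hzU hg hb using hloc
  let K : Z → Type u := fun z => IsLocalRing.ResidueField (V.presheaf.stalk z.1)
  let φ : ∀ z : Z, A →+* K z := fun z =>
    (IsLocalRing.residue (V.presheaf.stalk z.1)).comp
      ((V.presheaf.germ ⊤ z.1 trivial).hom.comp (Coh.toGlobal f : A →+* Γ(V, (⊤ : V.Opens))))
  let u : ∀ z : Z, Fin (N + 1) → K z := fun z i =>
    IsLocalRing.residue (V.presheaf.stalk z.1) (V.presheaf.germ (U z) z.1 (hzU z) (b z i))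
  have hu : ∀ z, ∃ i, u z i ≠ 0 := by
    intro z
    obtain ⟨i, hi⟩ := hgen z.1
    refine ⟨i, ?_⟩
    have h1 := genLocus_inf_eq_basicOpen (σ i) (hg z) (b z i) (hb z i)
    have h2 : z.1 ∈ V.basicOpen (b z i) := by rw [← h1]; exact ⟨hi, hzU z⟩
    have h3 : IsUnit (V.presheaf.germ (U z) z.1 (hzU z) (b z i)) :=
      (Scheme.mem_basicOpen V _ z.1 (hzU z)).mp h2
    intro h0
    have h4 := (IsLocalRing.residue_eq_zero_iff _).mp h0
    exact (IsLocalRing.mem_maximalIdeal _).mp h4 h3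
  obtain ⟨a, ha⟩ := RegSpanLA.exists_avoid hA K φ u hu
  refine ⟨a, fun z hz => ?_⟩
  have hsec : sec (globalHom L (comb f L σ a)) (U ⟨z, hz⟩) =
      (∑ i, rres V (le_top : U ⟨z, hz⟩ ≤ ⊤) (rho f (a i)) * b ⟨z, hz⟩ i) •
        e ⟨z, hz⟩ := by
    rw [sec_globalHom]
    unfold comb
    rw [res_sum, Finset.sum_smul]
    refine Finset.sum_congr rfl fun i _ => ?_
    rw [res_smul, res_sec, hb ⟨z, hz⟩ i, smul_smul]
  have h1 := genLocus_inf_eq_basicOpen _ (hg ⟨z, hz⟩) _ hsec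
  have h2 : z ∈ V.basicOpen
      (∑ i, rres V (le_top : U ⟨z, hz⟩ ≤ ⊤) (rho f (a i)) * b ⟨z, hz⟩ i) := by
    rw [Scheme.mem_basicOpen V _ z (hzU ⟨z, hz⟩)]
    rw [← IsLocalRing.notMem_maximalIdeal, ← IsLocalRing.residue_eq_zero_iff]
    have h3 : IsLocalRing.residue (V.presheaf.stalk z) (V.presheaf.germ (U ⟨z, hz⟩) z
        (hzU ⟨z, hz⟩) (∑ i, rres V (le_top : U ⟨z, hz⟩ ≤ ⊤) (rho f (a i)) *
          b ⟨z, hz⟩ i)) = ∑ i, φ ⟨z, hz⟩ (a i) * u ⟨z, hz⟩ i := by
      have h4 : V.presheaf.germ (U ⟨z, hz⟩) z (hzU ⟨z, hz⟩)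
          (∑ i, rres V (le_top : U ⟨z, hz⟩ ≤ ⊤) (rho f (a i)) * b ⟨z, hz⟩ i) =
          ∑ i, V.presheaf.germ (U ⟨z, hz⟩) z (hzU ⟨z, hz⟩)
            (rres V (le_top : U ⟨z, hz⟩ ≤ ⊤) (rho f (a i))) *
            V.presheaf.germ (U ⟨z, hz⟩) z (hzU ⟨z, hz⟩) (b ⟨z, hz⟩ i) := by
        rw [map_sum]
        exact Finset.sum_congr rfl fun i _ => map_mul _ _ _
      rw [h4, map_sum]
      refine Finset.sum_congr rfl fun i _ => ?_
      rw [map_mul]
      congr 1
      have h5 := TopCat.Presheaf.germ_res_apply V.presheaf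
        (homOfLE (le_top : U ⟨z, hz⟩ ≤ ⊤)) z (hzU ⟨z, hz⟩) (rho f (a i))
      exact congrArg (IsLocalRing.residue (V.presheaf.stalk z)) h5
    rw [h3]
    exact ha ⟨z, hz⟩
  have h6 : z ∈ CohB1.genLocus L (globalHom L (comb f L σ a)) ⊓ U ⟨z, hz⟩ := by
    rw [h1]
    exact h2
  exact h6.1

theorem main [IsLocalRing A] [IsNoetherian V] (hA : Infinite (IsLocalRing.ResidueField A))
    (hL : PicF.IsInvertible L) (hgen : ∀ x : V, ∃ i, x ∈ CohB1.genLocus L (σ i))
    {m : ℕ} (F : Fin m → V.Modules) (hF : ∀ j, Coh.IsCoh (F j)) :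
    ∃ a : Fin (N + 1) → A, ∀ j, Mono (tensorMap (𝟙 (F j)) (globalHom L (comb f L σ a))) := by
  have hfin : ∀ j, {x : V | x ∈ (⊤ : V.Opens) ∧ Curv2.IsAssPoint (F j) x}.Finite := fun j =>
    Groth.Agent.S1576.result V (F j) (hF j) ⊤ isCompact_univ
  obtain ⟨a, ha⟩ := exists_gen_at_points f σ hA hL hgen
    (⋃ j, {x : V | x ∈ (⊤ : V.Opens) ∧ Curv2.IsAssPoint (F j) x}) (Set.finite_iUnion hfin)
  refine ⟨a, fun j => ?_⟩
  haveI : (F j).IsQuasicoherent := (hF j).1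
  exact mono_tensorMap_of_gen_assPts (F j) _
    (fun z hz => ha z (Set.mem_iUnion.mpr ⟨j, trivial, hz⟩))

end Groth.Agent.Lib.Helper7.RegSpanB
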