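import Groth.Agent.Lib.Helper13.LerayCollapse
import Groth.Agent.Lib.Helper2.RpushCompare
import Groth.Agent.Lib.Helper3.ModBasis
import Groth.Agent.Lib.Helper3.InvRestrict
import Groth.Agent.Lib.Helper7.AmpleSerre

/-!
# A relatively ample invertible module kills higher direct images (EGA III 2.2.1 / Hartshorne III.5.2-relative)

* `nonempty_HU_equiv_sections`: `H^q(f⁻¹V, M) ≃ Γ(V, R^q f_* M)` for `V` affine open in the target.
* `isZero_of_sections_affine_cover`: a quasi-coherent module with zero sections on the members of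
  an affine open cover is zero.
* `isZero_RpushAb_of_affine_cover`: `R^p f_* G = 0` if `H^p(f⁻¹W_i, G) = 0` on an affine open cover.
* `relAmple_vanishing`: the main theorem.
-/

set_option autoImplicit false
set_option linter.unusedSectionVars false
set_option linter.style.haveILetI false
universe u
open CategoryTheory CategoryTheory.Limits AlgebraicGeometry TopologicalSpace Opposite
open Scheme.Modules

noncomputable section

namespace Groth.Agent.Lib.Helper7.RelAmpleVan

open Groth.Agent.Lib.Helper3 Groth.Agent.Lib.Helper13 Groth.Agent.Lib.Helper2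
open QCSec

variable {X S : Scheme.{u}} (f : X ⟶ S)

/-- `H^q(f⁻¹V, M) ≃ Γ(V, R^q f_* M)` for `V` an affine open of the target. -/
theorem nonempty_HU_equiv_sections [QuasiCompact f] [QuasiSeparated f] {V : S.Opens}
    (hV : IsAffineOpen V) (M : X.Modules) [M.IsQuasicoherent] (q : ℕ) :
    Nonempty (CohSite.HU (Coh.toAb M) q ((Opens.map f.base).obj V) ≃+
      ↑(((Coh.RpushAb f q).obj (Coh.toAb M)).obj.obj (op V))) := by
  haveI : EnoughInjectives X.Modules := ModGrothendieck.enoughInjectives X.ringCatSheaf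
  obtain ⟨E, a, hfin, -, hE2⟩ := GSS.leray_sections (Opens.grothendieckTopology X)
    (Opens.grothendieckTopology S) (Opens.map f.base)
    (fun I hI V n => LerayCollapse.hacyc f I hI V n) (Coh.toAb M) V
  have hvan : ∀ (n p' : ℕ), Subsingleton (CohSite.HU ((CohSite.Rpush (Opens.grothendieckTopology X)
      (Opens.grothendieckTopology S) (Opens.map f.base) n).obj (Coh.toAb M)) (p' + 1) V) := by
    intro n p'
    obtain ⟨e⟩ := RpushCompare.nonempty_toAb_Rpush_iso f M n
    haveI : ((Coh.Rpush f n).obj M).IsQuasicoherent := QCohRpush.isQuasicoherent_Rpush f M n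
    exact AffineHomCrit.subsingleton_ext_of_iso e (p' + 1)
      (AffineVanish.subsingleton_HU_of_isAffineOpen ((Coh.Rpush f n).obj M) hV p')
  have hzero : ∀ p n : ℤ, p ≠ 0 → IsZero ((E.page 2 le_rfl).X (p, n)) := by
    intro p n hp
    obtain ⟨e⟩ := hE2 p n
    refine IsZero.of_iso ?_ e
    by_cases h : 0 ≤ p ∧ 0 ≤ n
    · rw [if_pos h]
      obtain ⟨p', rfl⟩ : ∃ p' : ℕ, p = (p' : ℤ) + 1 := ⟨(p - 1).toNat, by omega⟩
      have hp' : ((p' : ℤ) + 1).toNat = p' + 1 := by omega
      rw [hp']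
      haveI := hvan n.toNat p'
      exact AddCommGrpCat.isZero_of_subsingleton _
    · rw [if_neg h]
      exact AddCommGrpCat.isZero_of_subsingleton _
  obtain ⟨e⟩ := LerayCollapse.collapse E a hfin hzero (q : ℤ)
  obtain ⟨e2⟩ := hE2 0 q
  have h0 : (0 : ℤ) ≤ (q : ℤ) := Int.natCast_nonneg q
  have e' : AddCommGrpCat.of (CohSite.HU (Coh.toAb M) q ((Opens.map f.base).obj V)) ≅
      (E.page 2 le_rfl).X (0, (q : ℤ)) := by
    refine ?_ ≪≫ e
    simp only [h0, if_true, Int.toNat_natCast]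
    exact Iso.refl _
  have e2' : (E.page 2 le_rfl).X (0, (q : ℤ)) ≅
      AddCommGrpCat.of (CohSite.HU ((CohSite.Rpush (Opens.grothendieckTopology X)
        (Opens.grothendieckTopology S) (Opens.map f.base) q).obj (Coh.toAb M)) 0 V) := by
    refine e2 ≪≫ ?_
    simp only [le_refl, h0, and_self, if_true, Int.toNat_natCast, Int.toNat_zero]
    exact Iso.refl _
  have ι := (e' ≪≫ e2').addCommGroupIsoToAddEquiv
  have r : CohSite.HU ((CohSite.Rpush (Opens.grothendieckTopology X)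
        (Opens.grothendieckTopology S) (Opens.map f.base) q).obj (Coh.toAb M)) 0 V ≃+
      ↑(((Coh.RpushAb f q).obj (Coh.toAb M)).obj.obj (op V)) :=
    (CechEdge.sectH0 (Opens.grothendieckTopology S) V
      ((Coh.RpushAb f q).obj (Coh.toAb M))).symm
  exact ⟨ι.trans r⟩

/-- a quasi-coherent module with zero sections on the members of an affine open cover is
zero. -/
theorem isZero_of_sections_affine_cover (N : S.Modules) [N.IsQuasicoherent]
    (h : ∀ x : S, ∃ W : S.Opens, IsAffineOpen W ∧ x ∈ W ∧ Subsingleton Γ(N, W)) : IsZero N := by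
  apply ModBasis.isZero_of_zero_on_basis
  intro W₀ x hx
  obtain ⟨W, hW, hxW, hsub⟩ := h x
  obtain ⟨g, hgle, hxg⟩ := hW.exists_basicOpen_le (V := W₀) ⟨x, hx⟩ hxW
  have hVW : S.basicOpen g ≤ W := S.basicOpen_le g
  refine ⟨S.basicOpen g, hxg, hgle, fun t => ?_⟩
  have hloc := isLocSec_of_isQuasicoherent N hW g (S.basicOpen g) rfl hVW
  obtain ⟨n, s, hs⟩ := hloc.surj t
  have hs0 : s = 0 := Subsingleton.elim _ _
  rw [hs0, res_zero] at hs
  have hu : IsUnit (rres S hVW g) := S.toRingedSpace.isUnit_res_basicOpen g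
  obtain ⟨u, hu''⟩ := hu.pow n
  have h1 : t = (↑u⁻¹ : Γ(S, S.basicOpen g)) • ((rres S hVW g) ^ n • t) := by
    rw [← hu'', smul_smul, Units.inv_mul, one_smul]
  rw [h1, ← hs, smul_zero]

/-- `R^p f_* G = 0` if `H^p(f⁻¹W, G) = 0` for the members `W` of an affine open cover of the
target. -/
theorem isZero_RpushAb_of_affine_cover [QuasiCompact f] [QuasiSeparated f] (G : X.Modules)
    [G.IsQuasicoherent] (p : ℕ)
    (h : ∀ x : S, ∃ W : S.Opens, IsAffineOpen W ∧ x ∈ W ∧
      Subsingleton (Coh.HHon X G (f ⁻¹ᵁ W) p)) :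
    IsZero ((Coh.RpushAb f p).obj (Coh.toAb G)) := by
  haveI : EnoughInjectives X.Modules := ModGrothendieck.enoughInjectives X.ringCatSheaf
  rw [← RpushCompare.isZero_Rpush_iff f G p]
  haveI : ((Coh.Rpush f p).obj G).IsQuasicoherent := QCohRpush.isQuasicoherent_Rpush f G p
  apply isZero_of_sections_affine_cover
  intro x
  obtain ⟨W, hW, hxW, hsub⟩ := h x
  refine ⟨W, hW, hxW, ?_⟩
  obtain ⟨e⟩ := RpushCompare.nonempty_toAb_Rpush_iso f G p
  obtain ⟨c⟩ := nonempty_HU_equiv_sections f hW G p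
  have h1 : Subsingleton (CohSite.HU (Coh.toAb G) p ((Opens.map f.base).obj W)) :=
    (AffineVanish.HUEquivHHon G (f ⁻¹ᵁ W) p).toEquiv.subsingleton_congr.2 hsub
  have h2 : Subsingleton ↑(((Coh.RpushAb f p).obj (Coh.toAb G)).obj.obj (op W)) :=
    c.toEquiv.subsingleton_congr.1 h1
  have e1 := ((sheafSections (Opens.grothendieckTopology S) AddCommGrpCat.{u}).obj (op W)).mapIso e
  have h3 : Subsingleton ↑((Coh.toAb ((Coh.Rpush f p).obj G)).obj.obj (op W)) :=
    e1.addCommGroupIsoToAddEquiv.toEquiv.subsingleton_congr.2 h2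
  exact h3

/-- **A relatively ample invertible module kills higher direct images** of coherent modules
after a large twist. -/
theorem relAmple_vanishing [IsProper f] [IsNoetherian S] (L : X.Modules)
    (hL : PicF.IsInvertible L)
    (ha : ∀ W : S.Opens, IsAffineOpen W → CohB1.IsAmple (L.restrict (f ⁻¹ᵁ W).ι))
    (M : X.Modules) (hM : Coh.IsCoh M) :
    ∃ n₀ : ℕ, ∀ n : ℕ, n₀ ≤ n → ∀ p : ℕ, 0 < p →
      IsZero ((Coh.RpushAb f p).obj (Coh.toAb (CohB1.tensorMod M (CohB1.tensorPow L n)))) := by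
  haveI : M.IsQuasicoherent := hM.1
  haveI : M.IsFiniteType := hM.2
  -- the local statement
  have hloc : ∀ W : S.Opens, IsAffineOpen W → ∃ nW : ℕ, ∀ n : ℕ, nW ≤ n → ∀ p : ℕ, 0 < p →
      Subsingleton (Coh.HHon X (CohB1.tensorMod M (CohB1.tensorPow L n)) (f ⁻¹ᵁ W) p) := by
    intro W hW
    haveI : IsNoetherianRing Γ(S, W) := IsLocallyNoetherian.component_noetherian ⟨W, hW⟩
    let g : (↑(f ⁻¹ᵁ W) : Scheme.{u}) ⟶ Spec (CommRingCat.of ↑Γ(S, W)) :=
      (f ∣_ W) ≫ hW.isoSpec.hom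
    haveI : IsProper g := inferInstanceAs (IsProper ((f ∣_ W) ≫ hW.isoSpec.hom))
    have hMW : Coh.IsCoh (M.restrict (f ⁻¹ᵁ W).ι) :=
      ⟨Scheme.Modules.isQuasicoherent_restrictFunctor (f ⁻¹ᵁ W).ι M,
        QCProps.isFiniteType_restrict (f ⁻¹ᵁ W).ι M⟩
    obtain ⟨nW, hnW⟩ := Groth.Agent.Lib.Helper7.AmpleSerre.serre_vanishing_of_isAmple
      (↑Γ(S, W)) g (ha W hW) (M.restrict (f ⁻¹ᵁ W).ι) hMW
    refine ⟨nW, fun n hn p hp => ?_⟩
    have c : (CohB1.tensorMod M (CohB1.tensorPow L n)).restrict (f ⁻¹ᵁ W).ι ≅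
        CohB1.tensorMod (M.restrict (f ⁻¹ᵁ W).ι)
          (CohB1.tensorPow (L.restrict (f ⁻¹ᵁ W).ι) n) :=
      (InvRestrict.restrictTensorIso (f ⁻¹ᵁ W).ι M (CohB1.tensorPow L n)).symm ≪≫
        InvMonoidal.tensorMapIso (Iso.refl _) (InvRestrict.restrictPowIso (f ⁻¹ᵁ W).ι L n).symm
    exact Groth.Agent.Lib.Helper7.TwFun.subsingleton_HH_of_iso c p (hnW n hn p hp)
  -- a finite affine cover
  obtain ⟨ι, hι, U, hUa, -, hUc⟩ := exists_finite_affine_cover (⊤ : S.Opens)
    (by simpa using (isCompact_univ : IsCompact (Set.univ : Set S)))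
  choose nU hnU using fun i => hloc (U i) (hUa i)
  haveI := Fintype.ofFinite ι
  refine ⟨Finset.univ.sup nU, fun n hn p hp => ?_⟩
  haveI : (CohB1.tensorMod M (CohB1.tensorPow L n)).IsQuasicoherent :=
    InvCoh.isQuasicoherent_tensorMod M _ (InvTensor.isInvertible_tensorPow hL n)
  apply isZero_RpushAb_of_affine_cover
  intro x
  obtain ⟨i, hi⟩ := Opens.mem_iSup.mp (hUc (show x ∈ (⊤ : S.Opens) from trivial))
  exact ⟨U i, hUa i, hi, hnU i n ((Finset.le_sup (Finset.mem_univ i)).trans hn) p hp⟩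

end Groth.Agent.Lib.Helper7.RelAmpleVan
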