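import Mathlib
import Groth.Prelude
import Groth.Agent.Lib.Helper3.RelAmpleLib
import Groth.Agent.Lib.Helper3.FpqcAmpleFam
import Groth.Agent.Lib.Helper17.GGDescentFam
import Groth.Agent.Lib.Helper6.FpqcCover
import Groth.Agent.Lib.Helper21.RelFpqcQ5
import Groth.Agent.Lib.Helper26.RelFpqcQ6

/-!
# Helper library (helper7): relative ampleness descends along a quasi-compact flat surjective
base change (S1152), from the affine-base family version of S2491 (helper3, helper17).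
-/

set_option autoImplicit false
set_option linter.style.haveILetI false
universe u
open CategoryTheory CategoryTheory.Limits AlgebraicGeometry TopologicalSpace

namespace Groth.Agent.Lib.Helper7.RelFpqc

open Groth.Agent.Lib.Helper3 Groth.Agent.Lib.Helper3.RelAmpleLib

/-- a compact open subset is covered by finitely many affine opens contained in it. -/
theorem exists_finite_affine_cover_fin {S' : Scheme.{u}} (W : S'.Opens)
    (hW : IsCompact (W : Set S')) :
    ∃ (n : ℕ) (V' : Fin n → S'.Opens), (∀ j, IsAffineOpen (V' j)) ∧ (∀ j, V' j ≤ W) ∧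
      ∀ x ∈ W, ∃ j, x ∈ V' j := by
  have hb := S'.isBasis_affineOpens
  have hex : ∀ x : W, ∃ U : S'.Opens, IsAffineOpen U ∧ x.1 ∈ U ∧ U ≤ W := fun x => by
    obtain ⟨U, hU, hxU, hUW⟩ := Opens.isBasis_iff_nbhd.mp hb x.2
    exact ⟨U, hU, hxU, hUW⟩
  choose U hU hxU hUW using hex
  obtain ⟨s, hs⟩ := hW.elim_finite_subcover (fun x : W => ((U x : S'.Opens) : Set S'))
    (fun x => (U x).2) (fun x hx => Set.mem_iUnion.mpr ⟨⟨x, hx⟩, hxU ⟨x, hx⟩⟩)
  refine ⟨s.card, fun j => U (s.equivFin.symm j).1, fun j => hU _, fun j => hUW _, ?_⟩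
  intro x hx
  obtain ⟨y, hy⟩ := Set.mem_iUnion.mp (hs hx)
  obtain ⟨hys, hxy⟩ := Set.mem_iUnion.mp hy
  refine ⟨s.equivFin ⟨y, hys⟩, ?_⟩
  change x ∈ U (s.equivFin.symm (s.equivFin ⟨y, hys⟩)).1
  rw [Equiv.symm_apply_apply]
  exact hxy

/-- the affine-base family version of fpqc descent of ampleness. -/
theorem isAmple_of_affine_family {X Y : Scheme.{u}} [IsAffine Y] (f : X ⟶ Y) [QuasiCompact f]
    (L : X.Modules) (hL : PicF.IsInvertible L) {n : ℕ} (T P : Fin n → Scheme.{u})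
    [∀ i, IsAffine (T i)] (t : ∀ i, T i ⟶ Y) (a : ∀ i, P i ⟶ X) (b : ∀ i, P i ⟶ T i)
    (hP : ∀ i, IsPullback (a i) (b i) f (t i)) [∀ i, Flat (t i)]
    (hsurj : ∀ y : Y, ∃ (i : Fin n) (y' : T i), t i y' = y)
    (h : ∀ i, CohB1.IsAmple ((Scheme.Modules.pullback (a i)).obj L)) : CohB1.IsAmple L :=
  Groth.Agent.Lib.Helper3.FpqcAmpleFam.isAmple_of_pullback_family f L hL T P t a b hP hsurj h
    (fun hqs G hG hgg => by
      haveI := hqs
      haveI := hG
      exact Groth.Agent.Lib.Helper17.GGDescentFam.isGloballyGenerated_of_isPullback_family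
        f T P t a b hP hsurj G hgg)

theorem main1152 {X S S' : Scheme.{u}} (f : X ⟶ S) (L : X.Modules) (hL : PicF.IsInvertible L)
    (g : S' ⟶ S) [QuasiCompact g] [Flat g] [Surjective g]
    (h : RelAmple.IsRelAmple (pullback.snd f g)
      ((Scheme.Modules.pullback (pullback.fst f g)).obj L)) :
    RelAmple.IsRelAmple f L := by
  obtain ⟨hqc', hA'⟩ := h
  have hqc : QuasiCompact f :=
    Groth.Agent.Lib.Helper6.FpqcCover.quasiCompact_of_pullback_snd f g hqc'
  haveI := hqc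
  refine ⟨hqc, fun V => ?_⟩
  have hW : IsCompact ((g ⁻¹ᵁ V.1 : S'.Opens) : Set S') :=
    QuasiCompact.isCompact_preimage (f := g) _ V.1.2 V.2.isCompact
  obtain ⟨n, V', hV'aff, hV'le, hV'cov⟩ := exists_finite_affine_cover_fin (g ⁻¹ᵁ V.1) hW
  choose a t ha ht hflat hpb using
    fun j => Groth.Agent.Lib.Helper21.RelFpqcQ5.exists_isPullback_restrict f g V.1 (V' j)
      (hV'le j)
  haveI : IsAffine (V.1 : Scheme.{u}) := V.2
  haveI : ∀ j, IsAffine ((V' j : S'.Opens) : Scheme.{u}) := fun j => hV'aff j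
  haveI : ∀ j, Flat (t j) := fun j => hflat j inferInstance
  haveI : QuasiCompact (f ∣_ V.1) := inferInstance
  refine isAmple_of_affine_family (f ∣_ V.1) (L.restrict (f ⁻¹ᵁ V.1).ι)
    (InvRestrict.isInvertible_restrict _ hL)
    (fun j => ((V' j : S'.Opens) : Scheme.{u}))
    (fun j => (((pullback.snd f g) ⁻¹ᵁ V' j : (pullback f g).Opens) : Scheme.{u})) t a
    (fun j => (pullback.snd f g) ∣_ V' j) hpb ?_ ?_
  · intro y
    obtain ⟨s', hs'⟩ := g.surjective (V.1.ι.base y)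
    have hmem : s' ∈ g ⁻¹ᵁ V.1 := by
      change g.base s' ∈ V.1
      rw [hs']
      exact y.2
    obtain ⟨j, hj⟩ := hV'cov s' hmem
    refine ⟨j, ⟨s', hj⟩, ?_⟩
    apply V.1.ι.isOpenEmbedding.injective
    have h1 := congrArg (fun φ => φ.base ⟨s', hj⟩) (ht j)
    simp only [Scheme.Hom.comp_base, TopCat.hom_comp, ContinuousMap.comp_apply] at h1
    rw [h1]
    exact hs'
  · intro j
    obtain ⟨e⟩ := Groth.Agent.Lib.Helper26.RelFpqcQ6.nonempty_iso_pullback_restrict
      (pullback.fst f g) (f ⁻¹ᵁ V.1).ι ((pullback.snd f g) ⁻¹ᵁ V' j).ι (a j) (ha j) L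
    exact InvAmple.isAmple_of_iso e.symm (hA' ⟨V' j, hV'aff j⟩)

end Groth.Agent.Lib.Helper7.RelFpqc
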