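import Groth.Prelude.Def_RelProj
import Mathlib.AlgebraicGeometry.Morphisms.Proper
import Mathlib.AlgebraicGeometry.ProjectiveSpectrum.Proper

set_option autoImplicit false
universe u
open AlgebraicGeometry CategoryTheory

namespace Groth.Agent.Lib.Helper7

theorem isSeparated_of_isRelProj {Y P : Scheme.{u}} (𝒮 : RelProj.QCGrAlg Y) (p : P ⟶ Y)
    (chart : ∀ (U : Y.Opens) (hU : IsAffineOpen U), ((p ⁻¹ᵁ U : P.Opens) : Scheme.{u}) ≅ Proj (𝒮.deg U hU))
    (hp : RelProj.IsRelProj 𝒮 p chart) : IsSeparated p := by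
  refine IsZariskiLocalAtTarget.of_iSup_eq_top (P := @IsSeparated)
    (fun U : Y.affineOpens => (U : Y.Opens)) (iSup_affineOpens_eq_top Y) fun U => ?_
  have h1 := hp.chart_over U.1 U.2
  have h2 : IsSeparated ((p ∣_ (U : Y.Opens)) ≫ (U : Y.Opens).ι) := by
    rw [morphismRestrict_ι, ← h1]
    infer_instance
  exact IsSeparated.of_comp _ (U : Y.Opens).ι

end Groth.Agent.Lib.Helper7
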