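import Mathlib.AlgebraicGeometry.SpreadingOut
import Mathlib.AlgebraicGeometry.Birational.RationalMap

/-! Helper7: uniqueness of spreading out for targets locally of finite type (no condition on the
source), and its consequence for rational maps. -/

universe u

namespace Groth.Agent.Lib.Helper7

open AlgebraicGeometry CategoryTheory

theorem spread_out_unique_of_locallyOfFiniteType
    {X Y S : Scheme.{u}} (sX : X ⟶ S) (sY : Y ⟶ S) [LocallyOfFiniteType sY]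
    (f g : X ⟶ Y) (hf : f ≫ sY = sX) (hg : g ≫ sY = sX) {x : X} (e : f x = g x)
    (H : f.stalkMap x =
      Y.presheaf.stalkSpecializes (Inseparable.of_eq e.symm).specializes ≫ g.stalkMap x) :
    ∃ U : X.Opens, x ∈ U ∧ U.ι ≫ f = U.ι ≫ g := by
  obtain ⟨_, ⟨W : S.Opens, hW, rfl⟩, hxW, -⟩ :=
    S.isBasis_affineOpens.exists_subset_of_mem_open (Set.mem_univ (sY (f x))) isOpen_univ
  obtain ⟨_, ⟨V : Y.Opens, hV, rfl⟩, hxV, hVW⟩ :=
    Y.isBasis_affineOpens.exists_subset_of_mem_open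
      (show f x ∈ (sY ⁻¹ᵁ W : Set Y) from hxW) (sY ⁻¹ᵁ W).2
  have hxV' : g x ∈ V := e ▸ hxV
  have hVW' : V ≤ sY ⁻¹ᵁ W := hVW
  have hft : (sY.appLE W V hVW').hom.FiniteType :=
    HasRingHomProperty.appLE @LocallyOfFiniteType sY ‹_› ⟨W, hW⟩ ⟨V, hV⟩ hVW'
  have hxU₀ : x ∈ f ⁻¹ᵁ V ⊓ g ⁻¹ᵁ V := ⟨hxV, hxV'⟩
  have key : ∀ (U : X.Opens) (hxU : x ∈ U) (hU : U ≤ f ⁻¹ᵁ V ⊓ g ⁻¹ᵁ V),
      f.appLE V U (hU.trans inf_le_left) ≫ X.presheaf.germ U x hxU =
        g.appLE V U (hU.trans inf_le_right) ≫ X.presheaf.germ U x hxU := by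
    intro U hxU hU
    simp only [Scheme.Hom.appLE, Category.assoc, X.presheaf.germ_res', ← Scheme.Hom.germ_stalkMap, H]
    simp only [TopCat.Presheaf.germ_stalkSpecializes_assoc, Scheme.Hom.germ_stalkMap]
  have hb : ∀ b : Γ(Y, V), ∃ (Wb : X.Opens) (_ : x ∈ Wb) (hWb : Wb ≤ f ⁻¹ᵁ V ⊓ g ⁻¹ᵁ V),
      (f.appLE V Wb (hWb.trans inf_le_left)).hom b = (g.appLE V Wb (hWb.trans inf_le_right)).hom b := by
    intro b
    have h1 := congr($(key _ hxU₀ le_rfl) b)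
    simp only [CommRingCat.comp_apply] at h1
    obtain ⟨Wb, hxWb, i1, i2, h2⟩ := X.presheaf.germ_eq x hxU₀ hxU₀ _ _ h1
    refine ⟨Wb, hxWb, i1.le, ?_⟩
    have h3 := congr($(f.appLE_map (le_rfl.trans inf_le_left) i1.op) b)
    have h4 := congr($(g.appLE_map (le_rfl.trans inf_le_right) i2.op) b)
    simp only [CommRingCat.comp_apply] at h3 h4
    rw [← h3, ← h4]
    exact h2
  choose Wb hxWb hWb hfg using hb
  let _ := (sY.appLE W V hVW').hom.toAlgebra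
  obtain ⟨s, hs⟩ := hft
  have hxU : x ∈ s.inf Wb ⊓ (f ⁻¹ᵁ V ⊓ g ⁻¹ᵁ V) := by
    rw [← SetLike.mem_coe, TopologicalSpace.Opens.coe_inf, TopologicalSpace.Opens.coe_finset_inf]
    exact ⟨by simpa using fun b _ ↦ hxWb b, hxU₀⟩
  have hUU₀ : s.inf Wb ⊓ (f ⁻¹ᵁ V ⊓ g ⁻¹ᵁ V) ≤ f ⁻¹ᵁ V ⊓ g ⁻¹ᵁ V := inf_le_right
  refine ⟨s.inf Wb ⊓ (f ⁻¹ᵁ V ⊓ g ⁻¹ᵁ V), hxU, ?_⟩
  rw [← Scheme.Hom.resLE_comp_ι _ (hUU₀.trans inf_le_left),
    ← Scheme.Hom.resLE_comp_ι _ (hUU₀.trans inf_le_right)]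
  congr 1
  have : IsAffine V := hV
  have main : f.appLE V (s.inf Wb ⊓ (f ⁻¹ᵁ V ⊓ g ⁻¹ᵁ V)) (hUU₀.trans inf_le_left) =
      g.appLE V (s.inf Wb ⊓ (f ⁻¹ᵁ V ⊓ g ⁻¹ᵁ V)) (hUU₀.trans inf_le_right) := by
    have hcomp : sY.appLE W V hVW' ≫ f.appLE V _ (hUU₀.trans inf_le_left) =
        sY.appLE W V hVW' ≫ g.appLE V _ (hUU₀.trans inf_le_right) := by
      rw [Scheme.Hom.appLE_comp_appLE, Scheme.Hom.appLE_comp_appLE]
      simp only [hf, hg]
    let algB : Algebra Γ(S, W) Γ(X, s.inf Wb ⊓ (f ⁻¹ᵁ V ⊓ g ⁻¹ᵁ V)) :=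
      (sY.appLE W V hVW' ≫ f.appLE V _ (hUU₀.trans inf_le_left)).hom.toAlgebra
    let φf : Γ(Y, V) →ₐ[Γ(S, W)] Γ(X, s.inf Wb ⊓ (f ⁻¹ᵁ V ⊓ g ⁻¹ᵁ V)) :=
      { (f.appLE V _ (hUU₀.trans inf_le_left)).hom with commutes' := fun r => rfl }
    let φg : Γ(Y, V) →ₐ[Γ(S, W)] Γ(X, s.inf Wb ⊓ (f ⁻¹ᵁ V ⊓ g ⁻¹ᵁ V)) :=
      { (g.appLE V _ (hUU₀.trans inf_le_right)).hom with
        commutes' := fun r => (congr($hcomp r)).symm }
    have hφ : φf = φg := by
      refine AlgHom.ext_of_adjoin_eq_top hs (fun b hb => ?_)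
      have hUW : s.inf Wb ⊓ (f ⁻¹ᵁ V ⊓ g ⁻¹ᵁ V) ≤ Wb b := inf_le_left.trans (Finset.inf_le hb)
      have h3 := congr($(f.appLE_map ((hWb b).trans inf_le_left) (homOfLE hUW).op) b)
      have h4 := congr($(g.appLE_map ((hWb b).trans inf_le_right) (homOfLE hUW).op) b)
      simp only [CommRingCat.comp_apply] at h3 h4
      change (f.appLE V _ (hUU₀.trans inf_le_left)).hom b = (g.appLE V _ (hUU₀.trans inf_le_right)).hom b
      rw [← h3, ← h4]
      exact congrArg _ (hfg b)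
    ext b
    exact DFunLike.congr_fun hφ b
  suffices ∀ (U₀ V₀) (eU : s.inf Wb ⊓ (f ⁻¹ᵁ V ⊓ g ⁻¹ᵁ V) = U₀) (eV : V = V₀),
      f.appLE V₀ U₀ (eU ▸ eV ▸ hUU₀.trans inf_le_left) =
        g.appLE V₀ U₀ (eU ▸ eV ▸ hUU₀.trans inf_le_right) by
    rw [← cancel_mono V.toScheme.isoSpec.hom]
    simp only [Scheme.isoSpec, asIso_hom, Scheme.toSpecΓ_naturality,
      Scheme.Hom.app_eq_appLE, Scheme.Hom.resLE_appLE]
    congr 2
    apply this <;> simp
  rintro _ _ rfl rfl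
  exact main

/-- Variant with an equality of morphisms from the local scheme. -/
lemma spread_out_unique_of_locallyOfFiniteType'
    {X Y S : Scheme.{u}} (sX : X ⟶ S) (sY : Y ⟶ S) [LocallyOfFiniteType sY]
    (f g : X ⟶ Y) (hf : f ≫ sY = sX) (hg : g ≫ sY = sX) {x : X}
    (e : X.fromSpecStalk x ≫ f = X.fromSpecStalk x ≫ g) :
    ∃ (U : X.Opens), x ∈ U ∧ U.ι ≫ f = U.ι ≫ g := by
  fapply spread_out_unique_of_locallyOfFiniteType sX sY f g hf hg
  · simpa using congr($e (IsLocalRing.closedPoint _))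
  · apply Spec.map_injective
    rw [← cancel_mono (Y.fromSpecStalk _)]
    simpa [Scheme.SpecMap_stalkSpecializes_fromSpecStalk]

set_option backward.defeqAttrib.useBackward true in
set_option backward.isDefEq.respectTransparency false in
lemma partialMap_equiv_of_fromSpecStalkOfMem_eq_of_lft {X Y : Scheme.{u}} (S : Scheme.{u})
    [IrreducibleSpace X] [X.Over S] [Y.Over S] [LocallyOfFiniteType (Y ↘ S)]
    {x : X} (f g : X.PartialMap Y) [hfS : f.IsOver S] [hgS : g.IsOver S]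
    (hxf : x ∈ f.domain) (hxg : x ∈ g.domain)
    (H : f.fromSpecStalkOfMem hxf = g.fromSpecStalkOfMem hxg) : f.equiv g := by
  have hdense : Dense ((f.domain ⊓ g.domain) : Set X) :=
    f.dense_domain.inter_of_isOpen_left g.dense_domain f.domain.2
  have h1 : (X.homOfLE inf_le_left ≫ f.hom) ≫ (Y ↘ S) = (f.domain ⊓ g.domain).ι ≫ (X ↘ S) := by
    have := Scheme.PartialMap.isOver_iff.mp hfS
    simp only [Scheme.PartialMap.compHom_hom] at this
    rw [Category.assoc, this, Scheme.homOfLE_ι_assoc]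
  have h2 : (X.homOfLE inf_le_right ≫ g.hom) ≫ (Y ↘ S) = (f.domain ⊓ g.domain).ι ≫ (X ↘ S) := by
    have := Scheme.PartialMap.isOver_iff.mp hgS
    simp only [Scheme.PartialMap.compHom_hom] at this
    rw [Category.assoc, this, Scheme.homOfLE_ι_assoc]
  have := spread_out_unique_of_locallyOfFiniteType' (X := (f.domain ⊓ g.domain).toScheme)
    ((f.domain ⊓ g.domain).ι ≫ (X ↘ S)) (Y ↘ S)
    (X.homOfLE inf_le_left ≫ f.hom) (X.homOfLE inf_le_right ≫ g.hom) h1 h2 (x := ⟨x, hxf, hxg⟩) ?_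
  · obtain ⟨U, hxU, e⟩ := this
    refine ⟨(f.domain ⊓ g.domain).ι ''ᵁ U, ((f.domain ⊓ g.domain).ι ''ᵁ U).2.dense
      ⟨_, ⟨_, hxU, rfl⟩⟩,
      ((Set.image_subset_range _ _).trans_eq (Subtype.range_val)).trans inf_le_left,
      ((Set.image_subset_range _ _).trans_eq (Subtype.range_val)).trans inf_le_right, ?_⟩
    rw [← cancel_epi (Scheme.Hom.isoImage _ _).hom]
    simp only [Scheme.PartialMap.restrict_hom, ← Category.assoc] at e ⊢
    convert! e using 2 <;> rw [← cancel_mono (Scheme.Opens.ι _)] <;> simp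
  · rw [← f.fromSpecStalkOfMem_restrict hdense inf_le_left ⟨hxf, hxg⟩,
      ← g.fromSpecStalkOfMem_restrict hdense inf_le_right ⟨hxf, hxg⟩] at H
    simpa only [Scheme.PartialMap.fromSpecStalkOfMem, Scheme.PartialMap.restrict_domain,
      Scheme.Opens.fromSpecStalkOfMem, Spec.map_inv,
      Scheme.PartialMap.restrict_hom, Category.assoc, IsIso.eq_inv_comp,
      IsIso.hom_inv_id_assoc] using H

/-- Rational `S`-maps from an irreducible scheme to a scheme locally of finite type over `S`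
are determined by their restriction to the generic local scheme. -/
lemma rationalMap_eq_of_fromFunctionField_eq_of_lft (S X Y : Scheme.{u}) [X.Over S] [Y.Over S]
    [IrreducibleSpace X] [LocallyOfFiniteType (Y ↘ S)] (f g : X ⤏ Y) [f.IsOver S] [g.IsOver S]
    (h : f.fromFunctionField = g.fromFunctionField) : f = g := by
  obtain ⟨f', hf'S, rfl⟩ := f.exists_partialMap_over S
  obtain ⟨g', hg'S, rfl⟩ := g.exists_partialMap_over S
  refine Scheme.PartialMap.toRationalMap_eq_iff.mpr ?_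
  exact partialMap_equiv_of_fromSpecStalkOfMem_eq_of_lft S _ _ _ _ h

end Groth.Agent.Lib.Helper7
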