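import Mathlib
import Groth.Agent.Lib.Helper7.CohenStruct7

/-!
# Artinian local rings with `𝔪² = 0` as `B/𝔫²` for a regular local ring `B`

Given a coefficient ring `W` (a local principal ideal domain: a field or a DVR) mapping to `A`
with `W → A/𝔪` surjective and a generator `π` of `𝔪_W` with `π = 0` or `v π ≠ 0`, the localization
of a polynomial ring over `W` at a maximal ideal maps onto `A` with kernel `𝔫²`.
-/

set_option autoImplicit false
universe u
open IsLocalRing

namespace Groth.Agent.Lib.Helper7.SqZeroReg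

/-- A minimal family generating `𝔪` together with `t`. -/
theorem exists_min_family {A : Type*} [CommRing A] [IsLocalRing A] [IsNoetherianRing A] (t : A)
    (ht : t ∈ maximalIdeal A) :
    ∃ (m : ℕ) (y : Fin m → A), (∀ i, y i ∈ maximalIdeal A) ∧
      maximalIdeal A = Ideal.span {t} ⊔ Ideal.span (Set.range y) ∧
      ∀ c : Fin m → A, (∑ i, c i * y i ∈ Ideal.span {t}) → ∀ i, c i ∈ maximalIdeal A := by
  classical
  have hex : ∃ m : ℕ, ∃ y : Fin m → A,
      maximalIdeal A = Ideal.span {t} ⊔ Ideal.span (Set.range y) := by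
    obtain ⟨k, z, hz⟩ := Submodule.fg_iff_exists_fin_generating_family.mp
      (maximalIdeal A).fg_of_isNoetherianRing
    refine ⟨k, z, ?_⟩
    have hz' : Ideal.span (Set.range z) = maximalIdeal A := hz
    rw [hz']
    refine (sup_eq_right.mpr ?_).symm
    rw [Ideal.span_le, Set.singleton_subset_iff]
    exact ht
  obtain ⟨m, ⟨y, hy⟩, hmin⟩ : ∃ m, (∃ y : Fin m → A,
      maximalIdeal A = Ideal.span {t} ⊔ Ideal.span (Set.range y)) ∧
      ∀ k < m, ¬ ∃ y : Fin k → A, maximalIdeal A = Ideal.span {t} ⊔ Ideal.span (Set.range y) :=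
    ⟨Nat.find hex, Nat.find_spec hex, fun k hk => Nat.find_min hex hk⟩
  have hym : ∀ i, y i ∈ maximalIdeal A := fun i => by
    rw [hy]; exact Ideal.mem_sup_right (Ideal.subset_span ⟨i, rfl⟩)
  refine ⟨m, y, hym, hy, ?_⟩
  intro c hc j
  by_contra hj
  have hu : IsUnit (c j) := by
    by_contra h; exact hj ((mem_maximalIdeal _).mpr h)
  obtain ⟨u, hu'⟩ := hu.exists_left_inv
  obtain ⟨m', rfl⟩ : ∃ m', m = m' + 1 :=
    Nat.exists_eq_succ_of_ne_zero (by rintro rfl; exact j.elim0)
  apply hmin m' (Nat.lt_succ_self m')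
  refine ⟨y ∘ j.succAbove, le_antisymm ?_ ?_⟩
  · have hsub : Ideal.span (Set.range (y ∘ j.succAbove)) ≤ Ideal.span (Set.range y) :=
      Ideal.span_mono (Set.range_comp_subset_range _ _)
    have hyj : y j ∈ Ideal.span {t} ⊔ Ideal.span (Set.range (y ∘ j.succAbove)) := by
      have h1 : c j * y j = ∑ i, c i * y i - ∑ i, c (j.succAbove i) * y (j.succAbove i) := by
        rw [Fin.sum_univ_succAbove _ j]; ring
      have h2 : y j = u * (c j * y j) := by rw [← mul_assoc, hu', one_mul]
      rw [h2, h1]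
      refine Ideal.mul_mem_left _ _ (Ideal.sub_mem _ (Ideal.mem_sup_left hc)
        (Ideal.mem_sup_right (Ideal.sum_mem _ fun i _ => ?_)))
      exact Ideal.mul_mem_left _ _ (Ideal.subset_span ⟨i, rfl⟩)
    rw [hy]
    refine sup_le le_sup_left ?_
    rw [Ideal.span_le]
    rintro _ ⟨i, rfl⟩
    by_cases hij : i = j
    · rw [hij]; exact hyj
    · obtain ⟨i', rfl⟩ := Fin.exists_succAbove_eq hij
      exact Ideal.mem_sup_right (Ideal.subset_span ⟨i', rfl⟩)
  · refine sup_le ?_ ?_
    · rw [Ideal.span_le, Set.singleton_subset_iff]; exact ht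
    · rw [Ideal.span_le]
      rintro _ ⟨i, rfl⟩
      exact hym _

theorem exists_regular_of_coeff {W A : Type u} [CommRing W] [IsDomain W] [IsPrincipalIdealRing W]
    [IsLocalRing W] [CommRing A] [IsLocalRing A] [IsNoetherianRing A]
    (hsq : maximalIdeal A ^ 2 = ⊥) (v : W →+* A)
    (hv : Function.Surjective ((residue A).comp v)) (π : W)
    (hπ : maximalIdeal W = Ideal.span {π}) (hcase : π = 0 ∨ v π ≠ 0) :
    ∃ (B : Type u) (_ : CommRing B) (_ : IsRegularLocalRing B),
      Nonempty (A ≃+* B ⧸ maximalIdeal B ^ 2) := by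
  classical
  have hvm : ∀ w ∈ maximalIdeal W, v w ∈ maximalIdeal A := fun w hw =>
    Groth.Agent.Lib.Helper7.CohenStruct7.map_maximalIdeal_le v hv (Ideal.mem_map_of_mem v hw)
  have hmul0 : ∀ a b : A, a ∈ maximalIdeal A → b ∈ maximalIdeal A → a * b = 0 := by
    intro a b ha hb
    have h1 : a * b ∈ maximalIdeal A ^ 2 := by rw [pow_two]; exact Ideal.mul_mem_mul ha hb
    rwa [hsq, Ideal.mem_bot] at h1
  have ht : v π ∈ maximalIdeal A := hvm π (by rw [hπ]; exact Ideal.mem_span_singleton_self π)
  obtain ⟨m, y, hym, hspan, hind⟩ := exists_min_family (v π) ht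
  let ev : MvPolynomial (Fin m) W →+* A := MvPolynomial.eval₂Hom v y
  have hevC : ∀ w, ev (MvPolynomial.C w) = v w := fun w => MvPolynomial.eval₂Hom_C _ _ w
  have hevX : ∀ i, ev (MvPolynomial.X i) = y i := fun i => MvPolynomial.eval₂Hom_X' _ _ i
  let q : MvPolynomial (Fin m) W →+* ResidueField A := (residue A).comp ev
  have hq : Function.Surjective q := by
    intro z
    obtain ⟨w, hw⟩ := hv z
    refine ⟨MvPolynomial.C w, ?_⟩
    show residue A (ev (MvPolynomial.C w)) = z
    rw [hevC]; exact hw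
  haveI hMmax : (RingHom.ker q).IsMaximal := RingHom.ker_isMaximal_of_surjective q hq
  have hmemM : ∀ g, g ∈ RingHom.ker q ↔ ev g ∈ maximalIdeal A := fun g => by
    rw [RingHom.mem_ker]
    show residue A (ev g) = 0 ↔ _
    exact residue_eq_zero_iff _
  have hXle : Ideal.span (Set.range (MvPolynomial.X : Fin m → MvPolynomial (Fin m) W)) ≤
      (maximalIdeal A).comap ev := by
    rw [Ideal.span_le]
    rintro _ ⟨i, rfl⟩
    show ev (MvPolynomial.X i) ∈ maximalIdeal A
    rw [hevX]; exact hym i
  have hMle : RingHom.ker q ≤ Ideal.span {MvPolynomial.C π} ⊔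
      Ideal.span (Set.range (MvPolynomial.X : Fin m → MvPolynomial (Fin m) W)) := by
    intro g hg
    have h1 : g - MvPolynomial.C (MvPolynomial.constantCoeff g) ∈
        Ideal.span (Set.range (MvPolynomial.X : Fin m → MvPolynomial (Fin m) W)) := by
      have h0 := (MvPolynomial.mem_pow_idealOfVars_iff' (σ := Fin m) (R := W) 1
        (g - MvPolynomial.C (MvPolynomial.constantCoeff g))).mpr ?_
      · rwa [pow_one] at h0
      intro x hx
      have hx0 : x = 0 := (Finsupp.degree_eq_zero_iff x).mp (by omega)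
      subst hx0
      simp [MvPolynomial.constantCoeff_eq]
    have h2 : ev (MvPolynomial.C (MvPolynomial.constantCoeff g)) ∈ maximalIdeal A := by
      have h3 : ev (g - MvPolynomial.C (MvPolynomial.constantCoeff g)) ∈ maximalIdeal A := hXle h1
      have h4 := (hmemM g).mp hg
      have h5 : ev (MvPolynomial.C (MvPolynomial.constantCoeff g)) =
          ev g - ev (g - MvPolynomial.C (MvPolynomial.constantCoeff g)) := by
        rw [map_sub]; ring
      rw [h5]; exact Ideal.sub_mem _ h4 h3
    rw [hevC] at h2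
    have h5 : MvPolynomial.constantCoeff g ∈ maximalIdeal W := by
      by_contra hnu
      have hu : IsUnit (MvPolynomial.constantCoeff g) := by
        by_contra h; exact hnu ((mem_maximalIdeal _).mpr h)
      exact (mem_maximalIdeal _).mp h2 (hu.map v)
    rw [hπ, Ideal.mem_span_singleton'] at h5
    obtain ⟨a, ha⟩ := h5
    have h6 : MvPolynomial.C (MvPolynomial.constantCoeff g) ∈
        Ideal.span {(MvPolynomial.C π : MvPolynomial (Fin m) W)} := by
      rw [← ha, map_mul]
      exact Ideal.mul_mem_left _ _ (Ideal.mem_span_singleton_self _)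
    have h7 : g = MvPolynomial.C (MvPolynomial.constantCoeff g) +
        (g - MvPolynomial.C (MvPolynomial.constantCoeff g)) := by ring
    rw [h7]
    exact Ideal.add_mem _ (Ideal.mem_sup_left h6) (Ideal.mem_sup_right h1)
  have hunit : ∀ s : (RingHom.ker q).primeCompl, IsUnit (ev s) := by
    intro s
    by_contra hnu
    exact s.2 ((hmemM _).mpr ((mem_maximalIdeal _).mpr hnu))
  let f : Localization.AtPrime (RingHom.ker q) →+* A :=
    IsLocalization.lift (M := (RingHom.ker q).primeCompl) (g := ev) hunit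
  have hfalg : ∀ g, f (algebraMap _ (Localization.AtPrime (RingHom.ker q)) g) = ev g :=
    fun g => IsLocalization.lift_eq hunit g
  obtain ⟨π', hπ'⟩ : ∃ π' : Localization.AtPrime (RingHom.ker q),
      π' = algebraMap _ _ (MvPolynomial.C π : MvPolynomial (Fin m) W) := ⟨_, rfl⟩
  obtain ⟨X', hX'⟩ : ∃ X' : Fin m → Localization.AtPrime (RingHom.ker q),
      X' = (algebraMap _ _) ∘ (MvPolynomial.X : Fin m → MvPolynomial (Fin m) W) := ⟨_, rfl⟩
  have hX'i : ∀ i, X' i = algebraMap _ _ (MvPolynomial.X i : MvPolynomial (Fin m) W) :=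
    fun i => by rw [hX']; rfl
  have hfπ : f π' = v π := by rw [hπ', hfalg, hevC]
  have hfX : ∀ i, f (X' i) = y i := fun i => by rw [hX'i, hfalg, hevX]
  have h𝔫 : maximalIdeal (Localization.AtPrime (RingHom.ker q)) ≤
      Ideal.span {π'} ⊔ Ideal.span (Set.range X') := by
    rw [← IsLocalization.AtPrime.map_eq_maximalIdeal (RingHom.ker q)
      (Localization.AtPrime (RingHom.ker q))]
    refine (Ideal.map_mono hMle).trans ?_
    rw [Ideal.map_sup, Ideal.map_span, Ideal.map_span, Set.image_singleton, ← Set.range_comp,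
      ← hπ', ← hX']
  have hfloc : ∀ g, f g ∈ maximalIdeal A →
      g ∈ maximalIdeal (Localization.AtPrime (RingHom.ker q)) := by
    intro g hg
    rw [mem_maximalIdeal, mem_nonunits_iff]
    intro hu
    exact (mem_maximalIdeal _).mp hg (hu.map f)
  have hf𝔫 : ∀ g ∈ maximalIdeal (Localization.AtPrime (RingHom.ker q)),
      f g ∈ maximalIdeal A := by
    intro g hg
    have hle : Ideal.span {π'} ⊔ Ideal.span (Set.range X') ≤ (maximalIdeal A).comap f := by
      refine sup_le ?_ ?_
      · rw [Ideal.span_le, Set.singleton_subset_iff]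
        show f π' ∈ maximalIdeal A
        rw [hfπ]; exact ht
      · rw [Ideal.span_le]
        rintro _ ⟨i, rfl⟩
        show f (X' i) ∈ maximalIdeal A
        rw [hfX]; exact hym i
    exact hle (h𝔫 hg)
  have hres : ∀ a : A, ∃ w : W, a - v w ∈ maximalIdeal A := by
    intro a
    obtain ⟨w, hw⟩ := hv (residue A a)
    refine ⟨w, ?_⟩
    rw [RingHom.comp_apply] at hw
    rw [← residue_eq_zero_iff, map_sub, hw, sub_self]
  have hZ : ∀ (a z : A), z ∈ maximalIdeal A → ∃ w : W, a * z = v w * z := by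
    intro a z hz
    obtain ⟨w, hw⟩ := hres a
    refine ⟨w, ?_⟩
    have h1 := hmul0 _ _ hw hz
    rw [sub_mul, sub_eq_zero] at h1
    exact h1
  have hfsurj : Function.Surjective f := by
    intro a
    obtain ⟨w, hw⟩ := hres a
    rw [hspan] at hw
    obtain ⟨r, hr, s, hs, hrs⟩ := Submodule.mem_sup.mp hw
    obtain ⟨a₀, rfl⟩ := Ideal.mem_span_singleton'.mp hr
    obtain ⟨c, rfl⟩ := Ideal.mem_span_range_iff_exists_fun.mp hs
    obtain ⟨w₀, hw₀⟩ := hZ a₀ (v π) ht
    choose wi hwi using fun i => hZ (c i) (y i) (hym i)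
    refine ⟨algebraMap _ _ (MvPolynomial.C w + MvPolynomial.C w₀ * MvPolynomial.C π +
      ∑ i, MvPolynomial.C (wi i) * MvPolynomial.X i), ?_⟩
    rw [hfalg, map_add, map_add, map_mul, map_sum, hevC, hevC, hevC]
    have e1 : ∑ i, ev (MvPolynomial.C (wi i) * MvPolynomial.X i) = ∑ i, c i * y i :=
      Finset.sum_congr rfl fun i _ => by rw [map_mul, hevC, hevX, hwi i]
    rw [e1, ← hw₀]
    linear_combination hrs
  have hker : RingHom.ker f = maximalIdeal (Localization.AtPrime (RingHom.ker q)) ^ 2 := by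
    apply le_antisymm
    · intro g hg
      rw [RingHom.mem_ker] at hg
      have hg𝔫 := hfloc g (by rw [hg]; exact Ideal.zero_mem _)
      obtain ⟨r, hr, s, hs, rfl⟩ := Submodule.mem_sup.mp (h𝔫 hg𝔫)
      obtain ⟨c₀, rfl⟩ := Ideal.mem_span_singleton'.mp hr
      obtain ⟨c, rfl⟩ := Ideal.mem_span_range_iff_exists_fun.mp hs
      rw [map_add, map_mul, map_sum, hfπ] at hg
      have e2 : ∑ i, f (c i * X' i) = ∑ i, f (c i) * y i :=
        Finset.sum_congr rfl fun i _ => by rw [map_mul, hfX]
      rw [e2] at hg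
      have hci : ∀ i, f (c i) ∈ maximalIdeal A := by
        apply hind (fun i => f (c i))
        have h1 : ∑ i, f (c i) * y i = -(f c₀) * v π := by linear_combination hg
        rw [h1]
        exact Ideal.mul_mem_left _ _ (Ideal.mem_span_singleton_self _)
      have hc𝔫 : ∀ i, c i ∈ maximalIdeal (Localization.AtPrime (RingHom.ker q)) :=
        fun i => hfloc _ (hci i)
      have hsum0 : ∑ i, f (c i) * y i = 0 :=
        Finset.sum_eq_zero fun i _ => hmul0 _ _ (hci i) (hym i)
      rw [hsum0, add_zero] at hg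
      have hX𝔫 : ∀ i, X' i ∈ maximalIdeal (Localization.AtPrime (RingHom.ker q)) :=
        fun i => hfloc _ (by rw [hfX]; exact hym i)
      have hπ𝔫 : π' ∈ maximalIdeal (Localization.AtPrime (RingHom.ker q)) :=
        hfloc _ (by rw [hfπ]; exact ht)
      refine Ideal.add_mem _ ?_ (Ideal.sum_mem _ fun i _ => ?_)
      · rcases hcase with h0 | hne
        · have h2 : π' = 0 := by rw [hπ', h0, map_zero, map_zero]
          rw [h2, mul_zero]; exact Ideal.zero_mem _
        · have hc₀ : f c₀ ∈ maximalIdeal A := by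
            by_contra hnu
            have hu : IsUnit (f c₀) := by
              by_contra h; exact hnu ((mem_maximalIdeal _).mpr h)
            exact hne ((hu.mul_right_eq_zero).mp hg)
          rw [pow_two]; exact Ideal.mul_mem_mul (hfloc _ hc₀) hπ𝔫
      · rw [pow_two]; exact Ideal.mul_mem_mul (hc𝔫 i) (hX𝔫 i)
    · intro g hg
      rw [RingHom.mem_ker]
      have h1 : f g ∈ (maximalIdeal (Localization.AtPrime (RingHom.ker q)) ^ 2).map f :=
        Ideal.mem_map_of_mem f hg
      rw [Ideal.map_pow] at h1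
      have h2 : (maximalIdeal (Localization.AtPrime (RingHom.ker q))).map f ≤ maximalIdeal A :=
        Ideal.map_le_iff_le_comap.mpr fun x hx => hf𝔫 x hx
      have h3 := Ideal.pow_right_mono h2 2 h1
      rwa [hsq, Ideal.mem_bot] at h3
  exact ⟨Localization.AtPrime (RingHom.ker q), inferInstance, inferInstance,
    ⟨((Ideal.quotEquivOfEq hker.symm).trans
      (RingHom.quotientKerEquivOfSurjective hfsurj)).symm⟩⟩

end Groth.Agent.Lib.Helper7.SqZeroReg
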