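import Groth.Agent.Lib.Helper7.QuotCoh
import Groth.Agent.Lib.Helper7.LRSConnected
import Groth.Agent.Lib.Helper3.QProj

/-!
# Connectedness of a closed subscheme and `H^1` of its ideal sheaf (helper7)

* `surjective_appTop`: if `H^1(X, I) = 0` then `Γ(X, O_X) → Γ(Z, O_Z)` is surjective.
* `connected_of_isField`: if moreover `Γ(X, O_X)` is a field and `Z` is nonempty, `Z` is connected.
* `exists_map_eq_of_eval₂_eq_zero`: in a reduced ring with only trivial idempotents, an element
  integral over an algebraically closed field lies in that field.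
* `surjective_appTop_of_connected_reduced`: for `Z` connected, reduced and universally closed over
  an algebraically closed field, `Γ(X, O_X) → Γ(Z, O_Z)` is surjective.
* `sub_ideal_H1`: surjectivity on global sections and `H^1(X, O_X) = 0` give `H^1(X, I) = 0`.
-/

set_option autoImplicit false
universe u
open CategoryTheory CategoryTheory.Limits AlgebraicGeometry TopologicalSpace Opposite
open Scheme.Modules

noncomputable section

namespace Groth.Agent.Lib.Helper7.SubConn

open Groth.Agent.Lib.Helper3 Groth.Agent.Lib.Helper3.QCSec Groth.Agent.Lib.Helper3.InvGen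
  Groth.Agent.Lib.Helper7.TwFun Groth.Agent.Lib.Helper7.CohFinite
  Groth.Agent.Lib.Helper13 Groth.Agent.Lib.Helper13.SerreCrit1

section Alg

lemma eq_zero_or_eq_zero_of_comax {R : Type*} [CommRing R]
    (hid : ∀ e : R, IsIdempotentElem e → e = 0 ∨ e = 1)
    (u v x y : R) (huv : u * v = 0) (h1 : x * u + y * v = 1) : u = 0 ∨ v = 0 := by
  have hidem : IsIdempotentElem (x * u) := by
    have h2 : (x * u) * (y * v) = 0 := by
      calc (x * u) * (y * v) = x * y * (u * v) := by ring
        _ = 0 := by rw [huv, mul_zero]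
    have h3 : x * u = (x * u) * (x * u + y * v) := by rw [h1, mul_one]
    rw [mul_add, h2, add_zero] at h3
    exact h3.symm
  rcases hid _ hidem with h0 | h0
  · left
    have hyv : y * v = 1 := by
      have h := h1
      rw [h0, zero_add] at h
      exact h
    calc u = u * (y * v) := by rw [hyv, mul_one]
      _ = y * (u * v) := by ring
      _ = 0 := by rw [huv, mul_zero]
  · right
    calc v = (x * u) * v := by rw [h0, one_mul]
      _ = x * (u * v) := by ring
      _ = 0 := by rw [huv, mul_zero]

theorem exists_map_eq_of_eval₂_eq_zero {k R : Type*} [Field k] [IsAlgClosed k] [CommRing R]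
    [Nontrivial R] [IsReduced R] (ρ : k →+* R)
    (hid : ∀ e : R, IsIdempotentElem e → e = 0 ∨ e = 1) (a : R) :
    ∀ (n : ℕ) (p : Polynomial k), p ≠ 0 → p.natDegree = n → p.eval₂ ρ a = 0 →
      ∃ c : k, a = ρ c := by
  intro n
  induction n using Nat.strong_induction_on with
  | _ n ih =>
    intro p hp hdeg hpa
    by_cases hd : p.natDegree = 0
    · exfalso
      have hpc : p = Polynomial.C (p.coeff 0) := Polynomial.eq_C_of_natDegree_eq_zero hd
      rw [hpc, Polynomial.eval₂_C] at hpa
      have hc : p.coeff 0 ≠ 0 := fun h => hp (by rw [hpc, h, Polynomial.C_0])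
      exact hc ((map_eq_zero ρ).mp hpa)
    · have hdeg0 : p.degree ≠ 0 := by
        intro h
        exact hd (Polynomial.natDegree_eq_zero_iff_degree_le_zero.mpr h.le)
      obtain ⟨c, hc⟩ := IsAlgClosed.exists_root p hdeg0
      obtain ⟨q, hq, hndvd⟩ := Polynomial.exists_eq_pow_rootMultiplicity_mul_and_not_dvd p hp c
      have hmpos : 0 < p.rootMultiplicity c := (Polynomial.rootMultiplicity_pos hp).mpr hc
      generalize p.rootMultiplicity c = m at hq hmpos
      have hcop : IsCoprime ((Polynomial.X - Polynomial.C c) ^ m) q :=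
        IsCoprime.pow_left ((Polynomial.irreducible_X_sub_C c).coprime_iff_not_dvd.mpr hndvd)
      obtain ⟨x, y, hxy⟩ := hcop
      have hq0 : q ≠ 0 := by
        rintro rfl
        rw [mul_zero] at hq
        exact hp hq
      have huv : (a - ρ c) ^ m * q.eval₂ ρ a = 0 := by
        have h := hpa
        rw [hq, Polynomial.eval₂_mul, Polynomial.eval₂_pow, Polynomial.eval₂_sub,
          Polynomial.eval₂_X, Polynomial.eval₂_C] at h
        exact h
      have h1 : x.eval₂ ρ a * (a - ρ c) ^ m + y.eval₂ ρ a * q.eval₂ ρ a = 1 := by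
        have h := congrArg (Polynomial.eval₂ ρ a) hxy
        rw [Polynomial.eval₂_add, Polynomial.eval₂_mul, Polynomial.eval₂_mul,
          Polynomial.eval₂_pow, Polynomial.eval₂_sub,
          Polynomial.eval₂_X, Polynomial.eval₂_C, Polynomial.eval₂_one] at h
        exact h
      rcases eq_zero_or_eq_zero_of_comax hid _ _ _ _ huv h1 with h0 | h0
      · have h2 : a - ρ c = 0 := IsReduced.eq_zero _ ⟨m, h0⟩
        exact ⟨c, sub_eq_zero.mp h2⟩
      · have hdq : q.natDegree < n := by
          have h3 : p.natDegree = m + q.natDegree := by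
            rw [hq, Polynomial.natDegree_mul (pow_ne_zero _ (Polynomial.X_sub_C_ne_zero c)) hq0,
              Polynomial.natDegree_pow, Polynomial.natDegree_X_sub_C, mul_one]
          omega
        exact ih q.natDegree hdq q hq0 rfl h0

end Alg

section Gen

variable {X : Scheme.{u}} (A : Type u) [CommRing A] [X.Over (Spec (CommRingCat.of A))]
  (I : X.IdealSheafData)

/-- `0 → I → O → O/I → 0`. -/
lemma shortExact_ideal :
    (ShortComplex.mk (kernel.ι (ClSub.toSubscheme I)) (ClSub.toSubscheme I)
      (kernel.condition _)).ShortExact := by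
  haveI := Hypersurf.epi_toSubscheme I
  exact CechCard.shortExact_kernel (ClSub.toSubscheme I)

include A in
theorem surjective_app_top (h1 : Subsingleton (Coh.HH X (ClSub.idealMod I) 1)) :
    Function.Surjective ((ClSub.toSubscheme I).app ⊤) := by
  have hS := shortExact_ideal I
  have hS1 : Function.Surjective (HmapL A (ClSub.toSubscheme I) 0) := by
    intro x
    exact CohFinite.exact_right A _ hS 0 x (@Subsingleton.elim _ h1 _ _)
  exact Gaeta.surj_top_of_surj_H0 A (ClSub.toSubscheme I) hS1

include A in
theorem surjective_appTop (h1 : Subsingleton (Coh.HH X (ClSub.idealMod I) 1)) :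
    Function.Surjective (I.subschemeι.appTop.hom) := surjective_app_top A I h1

include A in
/-- surjectivity on global sections gives surjectivity on `H^0`. -/
lemma surj_H0_of_surj_top {M N : X.Modules} (f : M ⟶ N)
    (h : Function.Surjective (f.app ⊤)) : Function.Surjective (HmapL A f 0) := by
  intro z
  have hT : IsTerminal (⊤ : X.Opens) := isTerminalTop
  obtain ⟨y, hy⟩ := h (Sheaf.H.equiv₀ ((TT X).obj N) hT z)
  obtain ⟨y0, hy0⟩ := (Sheaf.H.equiv₀ ((TT X).obj M) hT).surjective y
  subst hy0
  refine ⟨y0, ?_⟩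
  have h2 := Sheaf.H.equiv₀_naturality hT ((TT X).map f) y0
  apply (Sheaf.H.equiv₀ ((TT X).obj N) hT).injective
  exact h2.symm.trans hy

include A in
theorem sub_ideal_H1 (hs : Function.Surjective ((ClSub.toSubscheme I).app ⊤))
    (hO : Subsingleton (Coh.HH X (Coh.structureModule X) 1)) :
    Subsingleton (Coh.HH X (ClSub.idealMod I) 1) := by
  have hS := shortExact_ideal I
  refine subsingleton_of_forall_eq 0 fun y => ?_
  obtain ⟨x, hx⟩ := Hypersurf.exact_left A _ hS 0 y (@Subsingleton.elim _ hO _ _)
  obtain ⟨z, hz⟩ := surj_H0_of_surj_top A (ClSub.toSubscheme I) hs x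
  rw [← hx, ← hz]
  exact Hypersurf.deltaL_g A _ hS 0 z

theorem connected_of_isField (hne : Nonempty ↥I.subscheme)
    (hF : IsField Γ(X, ⊤)) (hs : Function.Surjective (I.subschemeι.appTop.hom)) :
    ConnectedSpace ↥I.subscheme := by
  have hpre : PreconnectedSpace ↥I.subscheme := by
    apply Groth.Agent.Lib.Helper7.preconnected_of_idem I.subscheme.toLocallyRingedSpace
    intro e he
    obtain ⟨c, rfl⟩ := hs e
    by_cases hc : c = 0
    · left
      rw [hc, map_zero]
    · right
      obtain ⟨c', hc'⟩ := hF.mul_inv_cancel hc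
      have h1 : I.subschemeι.appTop.hom c * I.subschemeι.appTop.hom c' = 1 := by
        rw [← map_mul, hc', map_one]
      calc I.subschemeι.appTop.hom c
          = I.subschemeι.appTop.hom c *
            (I.subschemeι.appTop.hom c * I.subschemeι.appTop.hom c') := by rw [h1, mul_one]
        _ = (I.subschemeι.appTop.hom c * I.subschemeι.appTop.hom c) *
            I.subschemeι.appTop.hom c' := by rw [mul_assoc]
        _ = I.subschemeι.appTop.hom c * I.subschemeι.appTop.hom c' := by rw [he.eq]
        _ = 1 := h1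
  exact { toPreconnectedSpace := hpre, toNonempty := hne }

end Gen

section Closed

theorem surjective_appTop_of_connected_reduced (k : Type u) [Field k] [IsAlgClosed k]
    {X : Scheme.{u}} (g : X ⟶ Spec (CommRingCat.of k)) [UniversallyClosed g]
    (I : X.IdealSheafData) [ConnectedSpace ↥I.subscheme] [IsReduced I.subscheme] :
    Function.Surjective (I.subschemeι.appTop.hom) := by
  intro a
  let f : I.subscheme ⟶ Spec (CommRingCat.of k) := I.subschemeι ≫ g
  haveI : UniversallyClosed f := inferInstance
  have hint := isIntegral_appTop_of_universallyClosed f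
  obtain ⟨p, hpm, hpa⟩ := hint a
  let γ : Γ(Spec (CommRingCat.of k), ⊤) →+* k := (Scheme.ΓSpecIso (CommRingCat.of k)).hom.hom
  let γi : k →+* Γ(Spec (CommRingCat.of k), ⊤) := (Scheme.ΓSpecIso (CommRingCat.of k)).inv.hom
  have hγ : ∀ x, γi (γ x) = x := fun x => by
    change ((Scheme.ΓSpecIso (CommRingCat.of k)).hom ≫
      (Scheme.ΓSpecIso (CommRingCat.of k)).inv).hom x = x
    rw [Iso.hom_inv_id]
    rfl
  let ρ : k →+* Γ(I.subscheme, ⊤) := f.appTop.hom.comp γi
  obtain ⟨x0⟩ : Nonempty ↥I.subscheme := inferInstance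
  haveI : Nonempty ↥(⊤ : I.subscheme.Opens) := ⟨⟨x0, trivial⟩⟩
  haveI : Nontrivial Γ(I.subscheme, ⊤) := inferInstance
  have hpc : PreconnectedSpace ↥I.subscheme := ConnectedSpace.toPreconnectedSpace
  have hid : ∀ e : Γ(I.subscheme, ⊤), IsIdempotentElem e → e = 0 ∨ e = 1 := fun e he =>
    @Groth.Agent.Lib.Helper7.idem_of_preconnected I.subscheme.toLocallyRingedSpace hpc e he
  have hp' : (p.map γ).eval₂ ρ a = 0 := by
    rw [Polynomial.eval₂_map]
    have h : ρ.comp γ = f.appTop.hom := by
      ext x
      change f.appTop.hom (γi (γ x)) = _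
      rw [hγ]
    rw [h]
    exact hpa
  obtain ⟨c, hc⟩ := exists_map_eq_of_eval₂_eq_zero ρ hid a _ (p.map γ) (hpm.map γ).ne_zero rfl hp'
  refine ⟨g.appTop.hom (γi c), ?_⟩
  rw [hc]
  change _ = f.appTop.hom (γi c)
  have h : f.appTop = g.appTop ≫ I.subschemeι.appTop := Scheme.Hom.comp_appTop _ _
  rw [h]
  rfl

end Closed

end Groth.Agent.Lib.Helper7.SubConn
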