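import Mathlib
import Groth.Prelude
import Groth.Agent.Lib.Helper7.SurfSecC

/-!
# Helper library (helper7): quadratic growth of `h⁰(N^m)` on an integral proper surface when
`(N·N) > 0` and `(N·H) > 0`.
-/

set_option autoImplicit false
set_option linter.unusedSectionVars false
set_option linter.style.haveILetI false
universe u
open CategoryTheory CategoryTheory.Limits AlgebraicGeometry Opposite
open Scheme.Modules

namespace Groth.Agent.Lib.Helper7.SurfGrow

open Groth.Agent.Lib.Helper3 Groth.Agent.Lib.Helper3.InvMonoidal Groth.Agent.Lib.Helper3.InvTensor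
open Groth.Agent.Lib.Helper3.InvGen Groth.Agent.Lib.Helper3.QCSec Groth.Agent.Lib.Helper3.InvAmple
open Groth.Agent.Lib.Helper23 Groth.Agent.Lib.Helper23.Snap Groth.Agent.Lib.Helper23.HilbP
open Groth.Agent.Lib.Helper7.SnapAlt Groth.Agent.Lib.Helper7.SnapFGA
open Groth.Agent.Lib.Helper7.IntNumPos Groth.Agent.Lib.Helper7.IntNumDiv
open Groth.Agent.Lib.Helper7.SecDeg Groth.Agent.Lib.Helper7.HilbCoeff
open Groth.Agent.Lib.Helper7.SecDegB
open Groth.Agent.Lib.Helper7.SecDegC Groth.Agent.Lib.Helper7.RegSec Groth.Agent.Lib.Helper17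
open Groth.Agent.Lib.Helper7.TwFun Groth.Agent.Lib.Helper7.SurfSecA
open Groth.Agent.Lib.Helper7.SurfSecB Groth.Agent.Lib.Helper7.RegSecAmple
open Groth.Agent.Lib.Helper7.SurfSecC

/-- elementary estimate. -/
theorem arith_quad (δ B A t : ℤ) (m : ℕ) (ht : 2 * t = (m : ℤ) * (m + 1)) (hA : 1 ≤ A)
    (hm : 4 * |δ| + 4 * |B| + 4 ≤ (m : ℤ)) : (m : ℤ) ^ 2 < 4 * (B + m * δ + t * A) := by
  have h1 : -|δ| ≤ δ := neg_abs_le δ
  have h2 : -|B| ≤ B := neg_abs_le B
  have h4 : 0 ≤ |δ| := abs_nonneg δ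
  have h5 : 0 ≤ |B| := abs_nonneg B
  have hm0 : (0 : ℤ) ≤ m := Int.natCast_nonneg m
  have ht0 : 0 ≤ t := by nlinarith
  have h6 : t ≤ t * A := by nlinarith
  have h7 : (m : ℤ) * δ ≥ -((m : ℤ) * |δ|) := by nlinarith
  have h8 : (m : ℤ) * m ≥ m * (4 * |δ| + 4 * |B| + 4) := by nlinarith
  have h9 : (m : ℤ) * |B| ≥ |B| := by nlinarith
  nlinarith

variable (k : Type u) [Field k] (X : Scheme.{u}) [X.Over (Spec (CommRingCat.of k))]
  [IsProper (X ↘ Spec (CommRingCat.of k))]

/-- if some positive power of `N` has a nonzero section, `h²(N^m)` is bounded. -/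
theorem exists_H2_bound [IsIntegral X] (hdim : topologicalKrullDim X = 2)
    (N : X.Modules) (hN : PicF.IsInvertible N) (n₀ : ℕ) (hn₀ : 0 < n₀)
    (hsec : Nontrivial (Coh.HH X (CohB1.tensorPow N n₀) 0)) :
    ∃ C : ℕ, ∀ m : ℕ, Module.finrank k (Coh.HH X (CohB1.tensorPow N m) 2) ≤ C := by
  have hX : topologicalKrullDim X = ((1 + 1 : ℕ) : WithBot ℕ∞) := by
    rw [hdim]
    norm_cast
  have hG : PicF.IsInvertible (CohB1.tensorPow N n₀) := isInvertible_tensorPow hN n₀
  obtain ⟨s, hs⟩ := exists_section_ne_zero X (CohB1.tensorPow N n₀) hsec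
  obtain ⟨eGG'⟩ := Groth.Agent.Lib.Helper23.Inverse.tensor_dual_iso hG
  refine ⟨(Finset.range n₀).sup
    (fun r => Module.finrank k (Coh.HH X (CohB1.tensorPow N r) 2)), fun m => ?_⟩
  induction m using Nat.strong_induction_on with
  | _ m ih =>
    by_cases hm : m < n₀
    · exact Finset.le_sup (f := fun r => Module.finrank k (Coh.HH X (CohB1.tensorPow N r) 2))
        (Finset.mem_range.mpr hm)
    · push Not at hm
      obtain ⟨m', rfl⟩ := Nat.exists_eq_add_of_le hm
      have h2 := finrank_H2_le k X hX (CohB1.tensorPow N n₀)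
        (Groth.Agent.Lib.Helper23.Inverse.dual (CohB1.tensorPow N n₀)) hG
        (braid _ _ ≪≫ eGG') s hs (CohB1.tensorPow N m') (isInvertible_tensorPow hN m')
      rw [(FBC.HmapEquivK k (powAdd N n₀ m') 2).finrank_eq] at h2
      exact h2.trans (ih m' (by omega))

/-- **quadratic growth**: on an integral proper surface, if `(N·N) > 0` and `(N·H) > 0` for
an ample `H`, then `h⁰(N^m) > m²/4` for all large `m`. -/
theorem quad_growth [IsIntegral X] (hdim : topologicalKrullDim X = 2)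
    (N N' : X.Modules) (hN : PicF.IsInvertible N)
    (eNN' : CohB1.tensorMod N N' ≅ Coh.structureModule X)
    (H H' : X.Modules) (hH : CohB1.IsAmple H)
    (eHH' : CohB1.tensorMod H H' ≅ Coh.structureModule X)
    (hNN : 0 < FGA.intNum k X 2 ![N', N'] (Coh.structureModule X))
    (hNH : 0 < FGA.intNum k X 2 ![N', H'] (Coh.structureModule X)) :
    ∃ c : ℚ, 0 < c ∧ ∃ m₀ : ℕ, ∀ m : ℕ, m₀ ≤ m →
      c * (m : ℚ) ^ 2 < (Module.finrank k (Coh.HH X (CohB1.tensorPow N m) 0) : ℚ) := by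
  obtain ⟨n₀, hn₀⟩ := exists_sections k X hdim N N' hN eNN' H H' hH eHH' hNN hNH
  obtain ⟨C, hC⟩ := exists_H2_bound k X hdim N hN (n₀ + 1) (Nat.succ_pos _)
    (hn₀ _ (Nat.le_succ _))
  have hd : topologicalKrullDim X ≤ ((2 : ℕ) : WithBot ℕ∞) := by
    rw [hdim]
    norm_cast
  set δN : ℤ := FGA.intNum k X 2 (fun _ : Fin 1 => N') (Coh.structureModule X) with hδN
  set NN : ℤ := FGA.intNum k X 2 ![N', N'] (Coh.structureModule X) with hNNdef
  set χO : ℤ := FGA.eulerCharLE k X (Coh.structureModule X) 2 with hχO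
  have hχ : ∀ m : ℕ, FGA.eulerCharLE k X (CohB1.tensorPow N m) 2 =
      χO + (m : ℤ) * δN + (((m + 1).choose 2 : ℕ) : ℤ) * NN := by
    intro m
    have h := euler_pow_pow k X hd N N' hN eNN' N N' hN eNN' m 0
    have e0 : CohB1.tensorMod (CohB1.tensorPow N m) (CohB1.tensorPow N 0) ≅ CohB1.tensorPow N m :=
      SecTwist.unitorR _
    rw [eulerLE_iso k X e0] at h
    have h0 : FGA.eulerCharLE k X (CohB1.tensorPow N 0) 2 = χO := rfl
    rw [h0] at h
    rw [h]
    simp only [Nat.cast_zero, zero_mul, add_zero]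
    rfl
  refine ⟨1 / 4, by norm_num, (4 * |δN| + 4 * |χO - (C : ℤ)| + 4).toNat, fun m hm => ?_⟩
  have hm' : 4 * |δN| + 4 * |χO - (C : ℤ)| + 4 ≤ (m : ℤ) := Int.toNat_le.mp hm
  have hle : FGA.eulerCharLE k X (CohB1.tensorPow N m) 2 ≤
      (Module.finrank k (Coh.HH X (CohB1.tensorPow N m) 0) : ℤ) + C := by
    unfold FGA.eulerCharLE
    rw [Finset.sum_range_succ, Finset.sum_range_succ, Finset.sum_range_one]
    have hh1 : (0 : ℤ) ≤ (Module.finrank k (Coh.HH X (CohB1.tensorPow N m) 1) : ℤ) :=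
      Int.natCast_nonneg _
    have hh2 : (Module.finrank k (Coh.HH X (CohB1.tensorPow N m) 2) : ℤ) ≤ C := by
      exact_mod_cast hC m
    simp only [pow_zero, pow_one]
    nlinarith
  have harith := arith_quad δN (χO - C) NN (((m + 1).choose 2 : ℕ) : ℤ) m
    (two_mul_choose_two m) hNN hm'
  have hfin : (m : ℤ) ^ 2 < 4 * (Module.finrank k (Coh.HH X (CohB1.tensorPow N m) 0) : ℤ) := by
    have := hχ m
    linarith
  have hq : ((m : ℚ)) ^ 2 < 4 * (Module.finrank k (Coh.HH X (CohB1.tensorPow N m) 0) : ℚ) := by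
    exact_mod_cast hfin
  linarith

end Groth.Agent.Lib.Helper7.SurfGrow
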