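import Mathlib
import Groth.Prelude.Def_ega3
import Groth.Agent.Lib.Helper7.TorLin
import Groth.Agent.Lib.Helper7.TorBasic
set_option autoImplicit false
universe u
open CategoryTheory CategoryTheory.Limits MonoidalCategory TensorProduct

namespace Groth.Agent.Lib.Helper7

/-- a module of finite length over a local domain that is not a field is killed by a nonzero
element. -/
theorem exists_ne_zero_smul_eq_zero_of_isFiniteLength {O : Type u} [CommRing O] [IsDomain O]
    [IsLocalRing O] (hO : ¬ IsField O) (T : Type u) [AddCommGroup T] [Module O T]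
    (hT : IsFiniteLength O T) : ∃ a : O, a ≠ 0 ∧ ∀ t : T, a • t = 0 := by
  have hm : IsLocalRing.maximalIdeal O ≠ ⊥ := fun h =>
    hO (IsLocalRing.isField_iff_maximalIdeal_eq.mpr h)
  obtain ⟨a, ham, ha0⟩ := Submodule.exists_mem_ne_zero_of_ne_bot hm
  haveI : IsArtinian O T := (isFiniteLength_iff_isNoetherian_isArtinian.mp hT).2
  haveI : IsNoetherian O T := (isFiniteLength_iff_isNoetherian_isArtinian.mp hT).1
  let N : ℕ → Submodule O T := fun n => (Ideal.span {a} ^ n) • (⊤ : Submodule O T)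
  have hanti : Antitone N := fun m n hmn =>
    Submodule.smul_mono (Ideal.pow_le_pow_right hmn) le_rfl
  obtain ⟨n, hn⟩ := IsArtinian.monotone_stabilizes
    (⟨fun n => OrderDual.toDual (N n), fun m n hmn => hanti hmn⟩ : ℕ →o (Submodule O T)ᵒᵈ)
  have h1 : N n = N (n + 1) := hn (n + 1) (Nat.le_succ n)
  have h2 : N (n + 1) = Ideal.span {a} • N n := by
    show (Ideal.span {a} ^ (n + 1)) • (⊤ : Submodule O T) =
      Ideal.span {a} • ((Ideal.span {a} ^ n) • (⊤ : Submodule O T))
    rw [pow_succ', Submodule.mul_smul]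
  have hfg : (N n).FG := IsNoetherian.noetherian _
  have h3 : N n = ⊥ := Submodule.eq_bot_of_le_smul_of_le_jacobson_bot (Ideal.span {a}) (N n) hfg
    (by rw [← h2, ← h1]) (by
      rw [IsLocalRing.jacobson_eq_maximalIdeal ⊥ bot_ne_top]
      exact (Ideal.span_singleton_le_iff_mem _).mpr ham)
  refine ⟨a ^ n, pow_ne_zero n ha0, fun t => ?_⟩
  have h4 : a ^ n • t ∈ N n :=
    Submodule.smul_mem_smul (Ideal.pow_mem_pow (Ideal.mem_span_singleton_self a) n)
      Submodule.mem_top
  rw [h3] at h4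
  exact (Submodule.mem_bot O).mp h4

variable {O : Type u} [CommRing O]

/-- `W ⊗ O^n` has no `a`-torsion when `W` has none. -/
lemma smul_tmul_pi_eq_zero (W : Type u) [AddCommGroup W] [Module O W] (a : O)
    (hW : ∀ w : W, a • w = 0 → w = 0) (n : ℕ) (y : W ⊗[O] (Fin n → O)) (hy : a • y = 0) :
    y = 0 := by
  classical
  have h1 : a • (TensorProduct.piScalarRight O O W (Fin n) y) = 0 := by
    rw [← map_smul, hy, map_zero]
  have h2 : TensorProduct.piScalarRight O O W (Fin n) y = 0 := by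
    funext i
    exact hW _ (congrFun h1 i)
  exact (TensorProduct.piScalarRight O O W (Fin n)).injective (h2.trans (map_zero _).symm)

/-- core of S15024. -/
theorem tor_one_iso_and_lTensor_injective (W : Type u) [AddCommGroup W] [Module O W]
    (a : O) (hW : ∀ w : W, a • w = 0 → w = 0)
    (M : Type u) [AddCommGroup M] [Module O M] (n : ℕ) (f : (Fin n → O) →ₗ[O] M)
    (hf : Function.Injective f) (haT : ∀ t : M ⧸ LinearMap.range f, a • t = 0) :
    Nonempty (((Tor (ModuleCat.{u} O) 1).obj (ModuleCat.of O W)).obj (ModuleCat.of O M) ≅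
      ((Tor (ModuleCat.{u} O) 1).obj (ModuleCat.of O W)).obj
        (ModuleCat.of O (M ⧸ LinearMap.range f))) ∧
    Function.Injective (LinearMap.lTensor W f) := by
  let S : ShortComplex (ModuleCat.{u} O) :=
    ModuleCat.shortComplexOfCompEqZero f (LinearMap.range f).mkQ
      (LinearMap.ext fun x => (LinearMap.exact_map_mkQ_range f).apply_apply_eq_zero x)
  have hS : S.ShortExact := ModuleCat.shortComplex_shortExact S
    (LinearMap.exact_map_mkQ_range f) hf (Submodule.mkQ_surjective _)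
  let Wc : ModuleCat.{u} O := ModuleCat.of O W
  have hz : IsZero (((Tor (ModuleCat.{u} O) 1).obj Wc).obj S.X₁) := by
    have hfl : Module.Flat O S.X₁ := (inferInstance : Module.Flat O (Fin n → O))
    haveI := Tor_subsingleton_of_flat_right Wc S.X₁ hfl 1 Nat.one_pos
    exact ModuleCat.isZero_of_subsingleton _
  have hδ : torδ Wc S hS 0 = 0 := by
    apply ModuleCat.hom_ext
    apply LinearMap.ext
    intro z
    show (torδ Wc S hS 0).hom z = 0
    have h1 : a • z = 0 := tor_smul_eq_zero_of_smul_eq_zero 1 Wc S.X₃ a haT z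
    have h2 : a • (tor0Equiv Wc S.X₁ ((torδ Wc S hS 0).hom z)) = 0 := by
      rw [← map_smul, ← map_smul, h1, map_zero, map_zero]
    have h3 := smul_tmul_pi_eq_zero W a hW n _ h2
    exact (tor0Equiv Wc S.X₁).injective (h3.trans (map_zero _).symm)
  -- injectivity
  obtain ⟨w₁, e₁⟩ := torδ_exact₁ Wc S hS 0
  have m1 : Mono (((Tor (ModuleCat.{u} O) 0).obj Wc).map S.f) := e₁.mono_g hδ
  have inj1 := (ModuleCat.mono_iff_injective _).mp m1
  have hinj : Function.Injective (LinearMap.lTensor W f) := by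
    have h1 : ∀ y : W ⊗[O] (Fin n → O), LinearMap.lTensor W f y =
        tor0Equiv Wc S.X₂ ((((Tor (ModuleCat.{u} O) 0).obj Wc).map S.f).hom
          ((tor0Equiv Wc S.X₁).symm y)) := by
      intro y
      rw [tor0Equiv_naturality, LinearEquiv.apply_symm_apply]
      rfl
    intro y y' hyy
    rw [h1, h1] at hyy
    exact (tor0Equiv Wc S.X₁).symm.injective (inj1 ((tor0Equiv Wc S.X₂).injective hyy))
  -- iso
  obtain ⟨w₂, e₂⟩ := tor_exact₂ Wc S hS 1
  obtain ⟨w₃, e₃⟩ := torδ_exact₃ Wc S hS 0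
  have m2 : Mono (((Tor (ModuleCat.{u} O) 1).obj Wc).map S.g) := e₂.mono_g (hz.eq_of_src _ _)
  have ep2 : Epi (((Tor (ModuleCat.{u} O) 1).obj Wc).map S.g) := e₃.epi_f hδ
  haveI := isIso_of_mono_of_epi (((Tor (ModuleCat.{u} O) 1).obj Wc).map S.g)
  exact ⟨⟨asIso (((Tor (ModuleCat.{u} O) 1).obj Wc).map S.g)⟩, hinj⟩

/-- core of S15025. -/
theorem torsion_equiv_tor_one [IsDomain O] (W : Type u) [AddCommGroup W] [Module O W]
    (hW : ∀ (a : O) (w : W), a ≠ 0 → a • w = 0 → w = 0)
    (M : Type u) [AddCommGroup M] [Module O M] (n : ℕ) (g : M →ₗ[O] (Fin n → O))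
    (hg : Function.Injective g) (a : O) (ha : a ≠ 0)
    (haT : ∀ t : (Fin n → O) ⧸ LinearMap.range g, a • t = 0) :
    Nonempty (↥(Submodule.torsion O (W ⊗[O] M)) ≃ₗ[O]
      ↑(((Tor (ModuleCat.{u} O) 1).obj (ModuleCat.of O W)).obj
        (ModuleCat.of O ((Fin n → O) ⧸ LinearMap.range g)))) := by
  let S : ShortComplex (ModuleCat.{u} O) :=
    ModuleCat.shortComplexOfCompEqZero g (LinearMap.range g).mkQ
      (LinearMap.ext fun x => (LinearMap.exact_map_mkQ_range g).apply_apply_eq_zero x)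
  have hS : S.ShortExact := ModuleCat.shortComplex_shortExact S
    (LinearMap.exact_map_mkQ_range g) hg (Submodule.mkQ_surjective _)
  let Wc : ModuleCat.{u} O := ModuleCat.of O W
  have hz : IsZero (((Tor (ModuleCat.{u} O) 1).obj Wc).obj S.X₂) := by
    have hfl : Module.Flat O S.X₂ := (inferInstance : Module.Flat O (Fin n → O))
    haveI := Tor_subsingleton_of_flat_right Wc S.X₂ hfl 1 Nat.one_pos
    exact ModuleCat.isZero_of_subsingleton _
  obtain ⟨w₃, e₃⟩ := torδ_exact₃ Wc S hS 0
  obtain ⟨w₁, e₁⟩ := torδ_exact₁ Wc S hS 0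
  have m : Mono (torδ Wc S hS 0) := e₃.mono_g (hz.eq_of_src _ _)
  have hfe := (ShortComplex.ShortExact.moduleCat_exact_iff_function_exact _).mp e₁
  let Φ : ↑(((Tor (ModuleCat.{u} O) 1).obj Wc).obj S.X₃) →ₗ[O] (W ⊗[O] M) :=
    (tor0Equiv Wc S.X₁).toLinearMap ∘ₗ (torδ Wc S hS 0).hom
  have hΦinj : Function.Injective Φ :=
    (tor0Equiv Wc S.X₁).injective.comp ((ModuleCat.mono_iff_injective _).mp m)
  have hrange : LinearMap.range Φ = Submodule.torsion O (W ⊗[O] M) := by
    apply le_antisymm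
    · rintro _ ⟨z, rfl⟩
      rw [Submodule.mem_torsion_iff]
      refine ⟨⟨a, mem_nonZeroDivisors_of_ne_zero ha⟩, ?_⟩
      show a • Φ z = 0
      rw [← map_smul, tor_smul_eq_zero_of_smul_eq_zero 1 Wc S.X₃ a haT z, map_zero]
    · intro y hy
      rw [Submodule.mem_torsion_iff] at hy
      obtain ⟨b, hb⟩ := hy
      have hb0 : (b : O) ≠ 0 := nonZeroDivisors.ne_zero b.2
      have hb' : (b : O) • y = 0 := hb
      have h1 : LinearMap.lTensor W g y = 0 := by
        apply smul_tmul_pi_eq_zero W (b : O) (fun w hw => hW b w hb0 hw) n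
        rw [← map_smul, hb', map_zero]
      let t := (tor0Equiv Wc S.X₁).symm y
      have ht : (((Tor (ModuleCat.{u} O) 0).obj Wc).map S.f).hom t = 0 := by
        apply (tor0Equiv Wc S.X₂).injective
        rw [tor0Equiv_naturality, map_zero]
        show LinearMap.lTensor W g ((tor0Equiv Wc S.X₁) ((tor0Equiv Wc S.X₁).symm y)) = 0
        rw [LinearEquiv.apply_symm_apply]
        exact h1
      obtain ⟨z, hz⟩ := (hfe t).mp ht
      refine ⟨z, ?_⟩
      show tor0Equiv Wc S.X₁ ((torδ Wc S hS 0).hom z) = y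
      have hz' : (torδ Wc S hS 0).hom z = t := hz
      rw [hz']
      exact LinearEquiv.apply_symm_apply _ y
  exact ⟨((LinearEquiv.ofInjective Φ hΦinj).trans (LinearEquiv.ofEq _ _ hrange)).symm⟩

/-- the integral closure of a domain in its fraction field is torsion free. -/
lemma integralClosure_smul_eq_zero {K : Type u} [Field K] [Algebra O K] [IsDomain O]
    [IsFractionRing O K] (a : O) (w : ↥(integralClosure O K)) (ha : a ≠ 0) (h : a • w = 0) :
    w = 0 := by
  have h1 : a • (w : K) = 0 := by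
    have := congrArg (fun x : ↥(integralClosure O K) => (x : K)) h
    simpa using this
  rw [Algebra.smul_def, mul_eq_zero] at h1
  rcases h1 with h1 | h1
  · exact absurd ((map_eq_zero_iff _ (IsFractionRing.injective O K)).mp h1) ha
  · exact Subtype.ext h1

end Groth.Agent.Lib.Helper7
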