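import Mathlib

/-!
# Termwise split factorizations of morphisms of cochain complexes (Helper7)

* `isoBiprodOfSplit`: iso `M ≅ A ⊞ C` from split data.
* `factor_inj`: any `α : K ⟶ L` factors as a termwise split injection `K ⟶ L'` followed by
  `π : L' ⟶ L` with a section `s` such that `π ≫ s` is homotopic to the identity
  (`L' = mappingCone (𝟙 K) ⊞ L`).
* `factor_surj`: dual statement with `K' = K ⊞ mappingCocone (𝟙 L)`.
-/

set_option autoImplicit false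
set_option linter.unusedSimpArgs false
universe v u
open CategoryTheory CategoryTheory.Limits

namespace Groth.Agent.Lib.Helper7.TermwiseSplit

variable {V : Type u} [Category.{v} V] [Preadditive V]

/-- An isomorphism `M ≅ A ⊞ C` from split data. -/
@[simps]
noncomputable def isoBiprodOfSplit {A C M : V} [HasBinaryBiproduct A C]
    (i : A ⟶ M) (ρ : M ⟶ A) (j : C ⟶ M) (q : M ⟶ C)
    (h1 : i ≫ ρ = 𝟙 A) (h2 : j ≫ q = 𝟙 C) (h3 : i ≫ q = 0) (h4 : j ≫ ρ = 0)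
    (h5 : ρ ≫ i + q ≫ j = 𝟙 M) : M ≅ A ⊞ C where
  hom := biprod.lift ρ q
  inv := biprod.desc i j
  hom_inv_id := by rw [biprod.lift_desc, h5]
  inv_hom_id := by
    ext <;> simp [h1, h2, h3, h4]

theorem exists_iso_biprod_inl [HasBinaryBiproducts V] {K1 K0 Ln Tn M : V}
    (a : K1 ⟶ Tn) (c : K0 ⟶ Tn) (p1 : Tn ⟶ K1) (p2 : Tn ⟶ K0)
    (IL : Tn ⟶ M) (IR : Ln ⟶ M) (F : M ⟶ Tn) (S : M ⟶ Ln) (i : K0 ⟶ M) (αn : K0 ⟶ Ln)
    (ap1 : a ≫ p1 = 𝟙 _) (ap2 : a ≫ p2 = 0) (cp1 : c ≫ p1 = 0) (cp2 : c ≫ p2 = 𝟙 _)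
    (hT : p1 ≫ a + p2 ≫ c = 𝟙 _)
    (ILF : IL ≫ F = 𝟙 _) (ILS : IL ≫ S = 0) (IRF : IR ≫ F = 0) (IRS : IR ≫ S = 𝟙 _)
    (hM : F ≫ IL + S ≫ IR = 𝟙 _)
    (iF : i ≫ F = c) (iS : i ≫ S = αn) :
    ∃ (C : V) (e : M ≅ K0 ⊞ C), i ≫ e.hom = biprod.inl := by
  have h1 : i ≫ (F ≫ p2) = 𝟙 _ := by rw [← Category.assoc, iF, cp2]
  have h2 : biprod.desc (a ≫ IL) IR ≫ biprod.lift (F ≫ p1) (S - (F ≫ p2) ≫ αn) =
      𝟙 (K1 ⊞ Ln) := by
    ext <;> simp [ap1, ap2, cp1, cp2, ILF, ILS, IRF, IRS, iF, iS, reassoc_of% ap1,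
      reassoc_of% ap2, reassoc_of% cp1, reassoc_of% cp2, reassoc_of% ILF, reassoc_of% ILS,
      reassoc_of% IRF, reassoc_of% IRS, reassoc_of% iF, reassoc_of% iS]
  have h3 : i ≫ biprod.lift (F ≫ p1) (S - (F ≫ p2) ≫ αn) = 0 := by
    ext <;> simp [ap1, ap2, cp1, cp2, ILF, ILS, IRF, IRS, iF, iS, reassoc_of% ap1,
      reassoc_of% ap2, reassoc_of% cp1, reassoc_of% cp2, reassoc_of% ILF, reassoc_of% ILS,
      reassoc_of% IRF, reassoc_of% IRS, reassoc_of% iF, reassoc_of% iS]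
  have h4 : biprod.desc (a ≫ IL) IR ≫ (F ≫ p2) = 0 := by
    ext <;> simp [ap1, ap2, cp1, cp2, ILF, ILS, IRF, IRS, iF, iS, reassoc_of% ap1,
      reassoc_of% ap2, reassoc_of% cp1, reassoc_of% cp2, reassoc_of% ILF, reassoc_of% ILS,
      reassoc_of% IRF, reassoc_of% IRS, reassoc_of% iF, reassoc_of% iS]
  have hi : i = c ≫ IL + αn ≫ IR := by
    calc i = i ≫ (F ≫ IL + S ≫ IR) := by rw [hM, Category.comp_id]
      _ = _ := by rw [Preadditive.comp_add, ← Category.assoc, ← Category.assoc, iF, iS]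
  have h5 : (F ≫ p2) ≫ i +
      biprod.lift (F ≫ p1) (S - (F ≫ p2) ≫ αn) ≫ biprod.desc (a ≫ IL) IR = 𝟙 M := by
    rw [biprod.lift_desc, hi]
    calc _ = F ≫ (p1 ≫ a + p2 ≫ c) ≫ IL + S ≫ IR := by
          simp only [Preadditive.comp_add, Preadditive.add_comp, Preadditive.sub_comp,
            Category.assoc]
          abel
      _ = 𝟙 M := by rw [hT, Category.id_comp, hM]
  refine ⟨K1 ⊞ Ln, isoBiprodOfSplit _ _ _ _ h1 h2 h3 h4 h5, ?_⟩
  simp only [isoBiprodOfSplit_hom]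
  apply biprod.hom_ext
  · rw [Category.assoc, biprod.lift_fst, h1, biprod.inl_fst]
  · rw [Category.assoc, biprod.lift_snd, h3, biprod.inl_snd]

theorem exists_iso_biprod_snd [HasBinaryBiproducts V] {Kn Ln L1 Cn M : V}
    (a : Ln ⟶ Cn) (c : L1 ⟶ Cn) (p1 : Cn ⟶ Ln) (p2 : Cn ⟶ L1)
    (IL : Kn ⟶ M) (IR : Cn ⟶ M) (F : M ⟶ Kn) (S : M ⟶ Cn) (π : M ⟶ Ln) (αn : Kn ⟶ Ln)
    (ap1 : a ≫ p1 = 𝟙 _) (ap2 : a ≫ p2 = 0) (cp1 : c ≫ p1 = 0) (cp2 : c ≫ p2 = 𝟙 _)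
    (hT : p1 ≫ a + p2 ≫ c = 𝟙 _)
    (ILF : IL ≫ F = 𝟙 _) (ILS : IL ≫ S = 0) (IRF : IR ≫ F = 0) (IRS : IR ≫ S = 𝟙 _)
    (hM : F ≫ IL + S ≫ IR = 𝟙 _)
    (ILπ : IL ≫ π = αn) (IRπ : IR ≫ π = p1) :
    ∃ (C : V) (e : M ≅ C ⊞ Ln), e.inv ≫ π = biprod.snd := by
  have h1 : biprod.desc (IL - αn ≫ a ≫ IR) (c ≫ IR) ≫ biprod.lift F (S ≫ p2) =
      𝟙 (Kn ⊞ L1) := by
    ext <;> simp [ap1, ap2, cp1, cp2, ILF, ILS, IRF, IRS, ILπ, IRπ, reassoc_of% ap1,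
      reassoc_of% ap2, reassoc_of% cp1, reassoc_of% cp2, reassoc_of% ILF, reassoc_of% ILS,
      reassoc_of% IRF, reassoc_of% IRS, reassoc_of% ILπ, reassoc_of% IRπ]
  have h2 : (a ≫ IR) ≫ π = 𝟙 _ := by rw [Category.assoc, IRπ, ap1]
  have h3 : biprod.desc (IL - αn ≫ a ≫ IR) (c ≫ IR) ≫ π = 0 := by
    ext <;> simp [ap1, ap2, cp1, cp2, ILF, ILS, IRF, IRS, ILπ, IRπ, reassoc_of% ap1,
      reassoc_of% ap2, reassoc_of% cp1, reassoc_of% cp2, reassoc_of% ILF, reassoc_of% ILS,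
      reassoc_of% IRF, reassoc_of% IRS, reassoc_of% ILπ, reassoc_of% IRπ]
  have h4 : (a ≫ IR) ≫ biprod.lift F (S ≫ p2) = 0 := by
    ext <;> simp [ap1, ap2, cp1, cp2, ILF, ILS, IRF, IRS, ILπ, IRπ, reassoc_of% ap1,
      reassoc_of% ap2, reassoc_of% cp1, reassoc_of% cp2, reassoc_of% ILF, reassoc_of% ILS,
      reassoc_of% IRF, reassoc_of% IRS, reassoc_of% ILπ, reassoc_of% IRπ]
  have hπ : π = F ≫ αn + S ≫ p1 := by
    calc π = (F ≫ IL + S ≫ IR) ≫ π := by rw [hM, Category.id_comp]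
      _ = _ := by rw [Preadditive.add_comp, Category.assoc, Category.assoc, ILπ, IRπ]
  have h5 : biprod.lift F (S ≫ p2) ≫ biprod.desc (IL - αn ≫ a ≫ IR) (c ≫ IR) +
      π ≫ (a ≫ IR) = 𝟙 M := by
    rw [biprod.lift_desc, hπ]
    calc _ = F ≫ IL + S ≫ (p1 ≫ a + p2 ≫ c) ≫ IR := by
          simp only [Preadditive.comp_add, Preadditive.add_comp, Preadditive.comp_sub,
            Category.assoc]
          abel
      _ = 𝟙 M := by rw [hT, Category.id_comp, hM]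
  refine ⟨Kn ⊞ L1, isoBiprodOfSplit _ _ _ _ h1 h2 h3 h4 h5, ?_⟩
  simp only [isoBiprodOfSplit_inv]
  apply biprod.hom_ext'
  · rw [biprod.inl_desc_assoc, h3, biprod.inl_snd]
  · rw [biprod.inr_desc_assoc, h2, biprod.inr_snd]

open CochainComplex

theorem factor_inj [HasBinaryBiproducts V] (K L : CochainComplex V ℤ) (α : K ⟶ L) :
    ∃ (L' : CochainComplex V ℤ) (α' : K ⟶ L') (π : L' ⟶ L) (s : L ⟶ L'),
      α' ≫ π = α ∧ s ≫ π = 𝟙 L ∧ Nonempty (Homotopy (π ≫ s) (𝟙 L')) ∧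
      (∀ n : ℤ, ∃ (C : V) (e : L'.X n ≅ K.X n ⊞ C), α'.f n ≫ e.hom = biprod.inl) ∧
      (∀ a : ℤ, K.IsStrictlyGE a → L.IsStrictlyGE a → L'.IsStrictlyGE (a - 1)) ∧
      (∀ a : ℤ, K.IsStrictlyLE a → L.IsStrictlyLE a → L'.IsStrictlyLE a) := by
  refine ⟨mappingCone (𝟙 K) ⊞ L, biprod.lift (mappingCone.inr (𝟙 K)) α, biprod.snd, biprod.inr,
    biprod.lift_snd _ _, biprod.inr_snd, ⟨?_⟩, ?_, ?_, ?_⟩
  · have h₀ : Homotopy (𝟙 (mappingCone (𝟙 K))) 0 := mappingCone.homotopyToZeroOfId K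
    have h₁ := (h₀.compRight (biprod.inl : _ ⟶ mappingCone (𝟙 K) ⊞ L)).compLeft
        (biprod.fst : mappingCone (𝟙 K) ⊞ L ⟶ _)
    have h₂ := Homotopy.add h₁ (Homotopy.refl (biprod.snd ≫ biprod.inr))
    exact (Homotopy.ofEq (by simp)).trans (h₂.symm.trans (Homotopy.ofEq (by simp)))
  · intro n
    exact exists_iso_biprod_inl
      ((mappingCone.inl (𝟙 K)).v (n + 1) n (by lia)) ((mappingCone.inr (𝟙 K)).f n)
      ((mappingCone.fst (𝟙 K)).1.v n (n + 1) rfl) ((mappingCone.snd (𝟙 K)).v n n (add_zero n))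
      ((biprod.inl : mappingCone (𝟙 K) ⟶ mappingCone (𝟙 K) ⊞ L).f n)
      ((biprod.inr : L ⟶ mappingCone (𝟙 K) ⊞ L).f n)
      ((biprod.fst : mappingCone (𝟙 K) ⊞ L ⟶ _).f n)
      ((biprod.snd : mappingCone (𝟙 K) ⊞ L ⟶ _).f n)
      ((biprod.lift (mappingCone.inr (𝟙 K)) α).f n) (α.f n)
      (mappingCone.inl_v_fst_v (𝟙 K) (n + 1) n rfl)
      (mappingCone.inl_v_snd_v (𝟙 K) (n + 1) n (by lia))
      (mappingCone.inr_f_fst_v (𝟙 K) n (n + 1) rfl)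
      (mappingCone.inr_f_snd_v (𝟙 K) n)
      (mappingCone.id_X (𝟙 K) n (n + 1) rfl)
      (HomologicalComplex.biprod_inl_fst_f _ _ n) (HomologicalComplex.biprod_inl_snd_f _ _ n)
      (HomologicalComplex.biprod_inr_fst_f _ _ n) (HomologicalComplex.biprod_inr_snd_f _ _ n)
      (HomologicalComplex.biprod_total_f _ _ n)
      (HomologicalComplex.biprod_lift_fst_f _ _ n) (HomologicalComplex.biprod_lift_snd_f _ _ n)
  · intro a hK hL
    rw [isStrictlyGE_iff]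
    intro i hi
    refine IsZero.of_iso ?_ (HomologicalComplex.biprodXIso _ _ i)
    rw [biprod_isZero_iff, mappingCone.isZero_X_iff]
    exact ⟨⟨K.isZero_of_isStrictlyGE a _ (by lia), K.isZero_of_isStrictlyGE a _ (by lia)⟩,
      L.isZero_of_isStrictlyGE a _ (by lia)⟩
  · intro a hK hL
    rw [isStrictlyLE_iff]
    intro i hi
    refine IsZero.of_iso ?_ (HomologicalComplex.biprodXIso _ _ i)
    rw [biprod_isZero_iff, mappingCone.isZero_X_iff]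
    exact ⟨⟨K.isZero_of_isStrictlyLE a _ (by lia), K.isZero_of_isStrictlyLE a _ (by lia)⟩,
      L.isZero_of_isStrictlyLE a _ (by lia)⟩

theorem isZero_mappingCocone_id_X [HasBinaryBiproducts V] (L : CochainComplex V ℤ) (i : ℤ)
    (h1 : IsZero (L.X i)) (h2 : IsZero (L.X (i - 1))) :
    IsZero ((mappingCocone (𝟙 L)).X i) := by
  rw [IsZero.iff_id_eq_zero, ← mappingCocone.id_X (𝟙 L) i (i - 1) (by lia),
    h1.eq_of_tgt ((mappingCocone.fst (𝟙 L)).f i) 0,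
    h2.eq_of_tgt ((mappingCocone.snd (𝟙 L)).v i (i - 1) (by lia)) 0, zero_comp, zero_comp,
    add_zero]

theorem factor_surj [HasBinaryBiproducts V] (K L : CochainComplex V ℤ) (α : K ⟶ L) :
    ∃ (K' : CochainComplex V ℤ) (i : K ⟶ K') (α' : K' ⟶ L) (s : K' ⟶ K),
      i ≫ α' = α ∧ i ≫ s = 𝟙 K ∧ Nonempty (Homotopy (s ≫ i) (𝟙 K')) ∧
      (∀ n : ℤ, ∃ (C : V) (e : K'.X n ≅ C ⊞ L.X n), e.inv ≫ α'.f n = biprod.snd) ∧
      (∀ a : ℤ, K.IsStrictlyGE a → L.IsStrictlyGE a → K'.IsStrictlyGE a) ∧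
      (∀ a : ℤ, K.IsStrictlyLE a → L.IsStrictlyLE a → K'.IsStrictlyLE (a + 1)) := by
  refine ⟨K ⊞ mappingCocone (𝟙 L), biprod.inl, biprod.desc α (mappingCocone.fst (𝟙 L)),
    biprod.fst, biprod.inl_desc _ _, biprod.inl_fst, ⟨?_⟩, ?_, ?_, ?_⟩
  · have h₀ : Homotopy (𝟙 (mappingCocone (𝟙 L))) 0 := by
      have h := (mappingCone.homotopyToZeroOfId L).shift (-1)
      rw [CategoryTheory.Functor.map_id, CategoryTheory.Functor.map_zero] at h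
      exact h
    have h₁ := (h₀.compRight (biprod.inr : _ ⟶ K ⊞ mappingCocone (𝟙 L))).compLeft
        (biprod.snd : K ⊞ mappingCocone (𝟙 L) ⟶ _)
    have h₂ := Homotopy.add (Homotopy.refl (biprod.fst ≫ biprod.inl)) h₁
    exact (Homotopy.ofEq (by simp)).trans (h₂.symm.trans (Homotopy.ofEq (by simp)))
  · intro n
    exact exists_iso_biprod_snd
      ((mappingCocone.inl (𝟙 L)).v n n (add_zero n))
      ((mappingCocone.inr (𝟙 L)).1.v (n - 1) n (by lia))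
      ((mappingCocone.fst (𝟙 L)).f n) ((mappingCocone.snd (𝟙 L)).v n (n - 1) (by lia))
      ((biprod.inl : K ⟶ K ⊞ mappingCocone (𝟙 L)).f n)
      ((biprod.inr : mappingCocone (𝟙 L) ⟶ K ⊞ mappingCocone (𝟙 L)).f n)
      ((biprod.fst : K ⊞ mappingCocone (𝟙 L) ⟶ _).f n)
      ((biprod.snd : K ⊞ mappingCocone (𝟙 L) ⟶ _).f n)
      ((biprod.desc α (mappingCocone.fst (𝟙 L))).f n) (α.f n)
      (mappingCocone.inl_v_fst_f (𝟙 L) n)
      (mappingCocone.inl_v_snd_v (𝟙 L) n (n - 1) (by lia))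
      (mappingCocone.inr_v_fst_f (𝟙 L) (n - 1) n (by lia))
      (mappingCocone.inr_v_snd_v (𝟙 L) (n - 1) n (by lia))
      (mappingCocone.id_X (𝟙 L) n (n - 1) (by lia))
      (HomologicalComplex.biprod_inl_fst_f _ _ n) (HomologicalComplex.biprod_inl_snd_f _ _ n)
      (HomologicalComplex.biprod_inr_fst_f _ _ n) (HomologicalComplex.biprod_inr_snd_f _ _ n)
      (HomologicalComplex.biprod_total_f _ _ n)
      (HomologicalComplex.biprod_inl_desc_f _ _ n) (HomologicalComplex.biprod_inr_desc_f _ _ n)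
  · intro a hK hL
    rw [isStrictlyGE_iff]
    intro i hi
    refine IsZero.of_iso ?_ (HomologicalComplex.biprodXIso _ _ i)
    rw [biprod_isZero_iff]
    exact ⟨K.isZero_of_isStrictlyGE a _ (by lia),
      isZero_mappingCocone_id_X L i (L.isZero_of_isStrictlyGE a _ (by lia))
        (L.isZero_of_isStrictlyGE a _ (by lia))⟩
  · intro a hK hL
    rw [isStrictlyLE_iff]
    intro i hi
    refine IsZero.of_iso ?_ (HomologicalComplex.biprodXIso _ _ i)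
    rw [biprod_isZero_iff]
    exact ⟨K.isZero_of_isStrictlyLE a _ (by lia),
      isZero_mappingCocone_id_X L i (L.isZero_of_isStrictlyLE a _ (by lia))
        (L.isZero_of_isStrictlyLE a _ (by lia))⟩

end Groth.Agent.Lib.Helper7.TermwiseSplit
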