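import Mathlib
import Groth.Prelude.Def_ega3
import Groth.Agent.Lib.Helper7.TorLin
import Groth.Agent.Lib.Helper7.TorBalance3
import Groth.Agent.Lib.Helper7.TorBasic
set_option autoImplicit false
universe u
open CategoryTheory CategoryTheory.Limits MonoidalCategory TensorProduct

namespace Groth.Agent.Lib.Helper7

variable {A : Type u} [CommRing A]

/-- `Tor'` (resolving the first variable) agrees with `Tor`. -/
theorem nonempty_Tor'_equiv_Tor (X Y : ModuleCat.{u} A) (n : ℕ) :
    Nonempty (((Tor' (ModuleCat.{u} A) n).obj X).obj Y ≃ₗ[A]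
      ((Tor (ModuleCat.{u} A) n).obj X).obj Y) := by
  let P := ProjectiveResolution.of X
  have e3 : ((Tor' (ModuleCat.{u} A) n).obj X).obj Y ≅ CohIII.T P.complex n Y :=
    P.isoLeftDerivedObj (MonoidalCategory.tensorRight Y) n
  obtain ⟨e1⟩ := nonempty_Tor_equiv_T_of_flatRes (FlatRes.ofProjectiveResolution P) Y n
  exact ⟨e3.toLinearEquiv.trans e1.symm⟩

section hom
variable (J : Ideal A) (M : Type u) [AddCommGroup M] [Module A M]

lemma eval_one_mem_torsionBySet (φ : (A ⧸ J) →ₗ[A] M) :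
    φ 1 ∈ Submodule.torsionBySet A M (J : Set A) := by
  rw [Submodule.mem_torsionBySet_iff]
  rintro ⟨a, ha⟩
  show a • φ 1 = 0
  rw [← map_smul]
  have h : a • (1 : A ⧸ J) = 0 := by
    rw [Algebra.smul_def, mul_one]
    exact Ideal.Quotient.eq_zero_iff_mem.mpr ha
  rw [h, map_zero]

/-- `Hom(A/J, M)` is the `J`-torsion of `M`. -/
noncomputable def homQuotEquivTorsionBySet :
    ((A ⧸ J) →ₗ[A] M) ≃ₗ[A] ↥(Submodule.torsionBySet A M (J : Set A)) := by
  refine LinearEquiv.ofBijective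
    { toFun := fun φ => ⟨φ 1, eval_one_mem_torsionBySet J M φ⟩
      map_add' := fun φ ψ => Subtype.ext rfl
      map_smul' := fun r φ => Subtype.ext rfl } ⟨?_, ?_⟩
  · intro φ ψ h
    have h1 : φ 1 = ψ 1 := congrArg Subtype.val h
    apply LinearMap.ext
    intro y
    obtain ⟨a, rfl⟩ := Ideal.Quotient.mk_surjective y
    have h2 : (Ideal.Quotient.mk J a) = a • (1 : A ⧸ J) := by
      rw [Algebra.smul_def, mul_one]
      rfl
    rw [h2, map_smul, map_smul, h1]
  · rintro ⟨m, hm⟩
    rw [Submodule.mem_torsionBySet_iff] at hm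
    refine ⟨Submodule.liftQ J (LinearMap.toSpanSingleton A M m) ?_, ?_⟩
    · intro a ha
      rw [LinearMap.mem_ker, LinearMap.toSpanSingleton_apply]
      exact hm ⟨a, ha⟩
    · apply Subtype.ext
      show Submodule.liftQ J (LinearMap.toSpanSingleton A M m) _ (Submodule.Quotient.mk (1 : A)) = m
      rw [Submodule.liftQ_apply, LinearMap.toSpanSingleton_apply, one_smul]

end hom

/-- the inductive step: adding a regular element. -/
theorem tor_top_step (M : Type u) [AddCommGroup M] [Module A M] (J' : Ideal A) (x : A) (p : ℕ)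
    (hx : Function.Injective (fun y : A ⧸ J' => x • y))
    (hvan : ∀ i, p < i → IsZero (((Tor (ModuleCat.{u} A) i).obj (ModuleCat.of A M)).obj
      (ModuleCat.of A (A ⧸ J'))))
    (e' : ((Tor (ModuleCat.{u} A) p).obj (ModuleCat.of A M)).obj (ModuleCat.of A (A ⧸ J')) ≃ₗ[A]
        ↥(Submodule.torsionBySet A M (J' : Set A))) :
    (∀ i, p + 1 < i → IsZero (((Tor (ModuleCat.{u} A) i).obj (ModuleCat.of A M)).obj
        (ModuleCat.of A (A ⧸ (J' ⊔ Ideal.span {x}))))) ∧
    Nonempty (((Tor (ModuleCat.{u} A) (p + 1)).obj (ModuleCat.of A M)).obj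
        (ModuleCat.of A (A ⧸ (J' ⊔ Ideal.span {x}))) ≃ₗ[A]
        ↥(Submodule.torsionBySet A M ((J' ⊔ Ideal.span {x} : Ideal A) : Set A))) := by
  let J : Ideal A := J' ⊔ Ideal.span {x}
  have hJ'J : J' ≤ J := le_sup_left
  have hxJ : x ∈ J := Submodule.mem_sup_right (Ideal.mem_span_singleton_self x)
  let f : (A ⧸ J') →ₗ[A] (A ⧸ J') := x • LinearMap.id
  let g : (A ⧸ J') →ₗ[A] (A ⧸ J) := Submodule.mapQ J' J LinearMap.id (fun a ha => hJ'J ha)
  have hgmk : ∀ a : A, g (Submodule.Quotient.mk a) = Submodule.Quotient.mk a := fun a => rfl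
  have hfmk : ∀ a : A, f (Submodule.Quotient.mk a) = Submodule.Quotient.mk (x * a) := fun a => rfl
  have hex : Function.Exact f g := by
    intro y
    constructor
    · intro h
      obtain ⟨a, rfl⟩ := Submodule.Quotient.mk_surjective J' y
      rw [hgmk, Submodule.Quotient.mk_eq_zero] at h
      obtain ⟨j, hj, b, hb, hab⟩ := Submodule.mem_sup.mp h
      obtain ⟨c, rfl⟩ := Ideal.mem_span_singleton'.mp hb
      refine ⟨Submodule.Quotient.mk c, ?_⟩
      rw [hfmk, ← hab]
      apply (Submodule.Quotient.eq _).mpr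
      have h3 : x * c - (j + c * x) = -j := by ring
      rw [h3]
      exact J'.neg_mem hj
    · rintro ⟨z, rfl⟩
      obtain ⟨c, rfl⟩ := Submodule.Quotient.mk_surjective J' z
      rw [hfmk, hgmk, Submodule.Quotient.mk_eq_zero]
      exact J.mul_mem_right c hxJ
  let S : ShortComplex (ModuleCat.{u} A) := ModuleCat.shortComplexOfCompEqZero f g
    (LinearMap.ext fun y => hex.apply_apply_eq_zero y)
  have hS : S.ShortExact := ModuleCat.shortComplex_shortExact S hex (fun y y' h => hx h) (by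
    intro y
    obtain ⟨a, rfl⟩ := Submodule.Quotient.mk_surjective J y
    exact ⟨Submodule.Quotient.mk a, rfl⟩)
  let Mc : ModuleCat.{u} A := ModuleCat.of A M
  have hmapf : ∀ i, ((Tor (ModuleCat.{u} A) i).obj Mc).map S.f =
      x • 𝟙 (((Tor (ModuleCat.{u} A) i).obj Mc).obj S.X₁) := fun i =>
    tor_obj_map_smul_id i Mc (ModuleCat.of A (A ⧸ J')) x
  refine ⟨?_, ?_⟩
  · intro i hi
    obtain ⟨k, rfl⟩ : ∃ k, i = k + 1 := ⟨i - 1, by omega⟩
    have hk : p < k := by omega
    obtain ⟨w₃, e₃⟩ := torδ_exact₃ Mc S hS k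
    exact e₃.isZero_X₂ ((hvan (k + 1) (by omega)).eq_of_src _ _) ((hvan k hk).eq_of_tgt _ _)
  · obtain ⟨w₃, e₃⟩ := torδ_exact₃ Mc S hS p
    obtain ⟨w₁, e₁⟩ := torδ_exact₁ Mc S hS p
    have m : Mono (torδ Mc S hS p) :=
      e₃.mono_g ((hvan (p + 1) (Nat.lt_succ_self p)).eq_of_src _ _)
    have hfe := (ShortComplex.ShortExact.moduleCat_exact_iff_function_exact _).mp e₁
    let Φ : ↑(((Tor (ModuleCat.{u} A) (p + 1)).obj Mc).obj S.X₃) →ₗ[A] M :=
      (Submodule.torsionBySet A M (J' : Set A)).subtype ∘ₗ e'.toLinearMap ∘ₗ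
        (torδ Mc S hS p).hom
    have hΦinj : Function.Injective Φ :=
      (Submodule.subtype_injective _).comp
        (e'.injective.comp ((ModuleCat.mono_iff_injective _).mp m))
    have hkill : ∀ a ∈ J, ∀ y : A ⧸ J, a • y = 0 := by
      intro a ha y
      obtain ⟨b, rfl⟩ := Submodule.Quotient.mk_surjective J y
      show Submodule.Quotient.mk (a * b) = (0 : A ⧸ J)
      exact (Submodule.Quotient.mk_eq_zero _).mpr (J.mul_mem_right b ha)
    have hrange : LinearMap.range Φ = Submodule.torsionBySet A M (J : Set A) := by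
      apply le_antisymm
      · rintro _ ⟨z, rfl⟩
        rw [Submodule.mem_torsionBySet_iff]
        rintro ⟨a, ha⟩
        show a • Φ z = 0
        rw [← map_smul, tor_smul_eq_zero_of_smul_eq_zero (p + 1) Mc S.X₃ a (hkill a ha) z,
          map_zero]
      · intro m hm
        rw [Submodule.mem_torsionBySet_iff] at hm
        have hm' : m ∈ Submodule.torsionBySet A M (J' : Set A) := by
          rw [Submodule.mem_torsionBySet_iff]
          rintro ⟨a, ha⟩
          exact hm ⟨a, hJ'J ha⟩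
        have hxm : x • (⟨m, hm'⟩ : ↥(Submodule.torsionBySet A M (J' : Set A))) = 0 :=
          Subtype.ext (hm ⟨x, hxJ⟩)
        have hw : (((Tor (ModuleCat.{u} A) p).obj Mc).map S.f).hom (e'.symm ⟨m, hm'⟩) = 0 := by
          rw [hmapf p]
          show x • e'.symm ⟨m, hm'⟩ = 0
          rw [← map_smul, hxm, map_zero]
        obtain ⟨z, hz⟩ := (hfe (e'.symm ⟨m, hm'⟩)).mp hw
        refine ⟨z, ?_⟩
        have hz' : (torδ Mc S hS p).hom z = e'.symm ⟨m, hm'⟩ := hz
        show ((e' ((torδ Mc S hS p).hom z) : ↥(Submodule.torsionBySet A M (J' : Set A))) : M) = m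
        rw [hz', LinearEquiv.apply_symm_apply]
    exact ⟨(LinearEquiv.ofInjective Φ hΦinj).trans (LinearEquiv.ofEq _ _ hrange)⟩

/-- the base case. -/
theorem tor_top_bot (M : Type u) [AddCommGroup M] [Module A M] :
    (∀ i, 0 < i → IsZero (((Tor (ModuleCat.{u} A) i).obj (ModuleCat.of A M)).obj
        (ModuleCat.of A (A ⧸ (⊥ : Ideal A))))) ∧
    Nonempty (((Tor (ModuleCat.{u} A) 0).obj (ModuleCat.of A M)).obj
        (ModuleCat.of A (A ⧸ (⊥ : Ideal A))) ≃ₗ[A]
        ↥(Submodule.torsionBySet A M ((⊥ : Ideal A) : Set A))) := by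
  let e0 : (A ⧸ (⊥ : Ideal A)) ≃ₗ[A] A := Submodule.quotEquivOfEqBot ⊥ rfl
  have hfl : Module.Flat A (A ⧸ (⊥ : Ideal A)) := Module.Flat.of_linearEquiv e0
  refine ⟨?_, ?_⟩
  · intro i hi
    haveI := Tor_subsingleton_of_flat_right (ModuleCat.of A M)
      (ModuleCat.of A (A ⧸ (⊥ : Ideal A))) hfl i hi
    exact ModuleCat.isZero_of_subsingleton _
  · have htop : Submodule.torsionBySet A M ((⊥ : Ideal A) : Set A) = ⊤ := by
      rw [eq_top_iff]
      intro m _
      rw [Submodule.mem_torsionBySet_iff]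
      rintro ⟨a, ha⟩
      have h0 : a = 0 := (Submodule.mem_bot A).mp ha
      show a • m = 0
      rw [h0, zero_smul]
    exact ⟨(tor0Equiv (ModuleCat.of A M) (ModuleCat.of A (A ⧸ (⊥ : Ideal A)))).trans
      ((TensorProduct.congr (LinearEquiv.refl A M) e0).trans
        ((TensorProduct.rid A M).trans (LinearEquiv.ofTop _ htop).symm))⟩

/-- For a weakly regular sequence `xs` of length `p` generating `J`: `Tor_i(M, A/J) = 0` for
`i > p` and `Tor_p(M, A/J) = M[J]`. -/
theorem tor_weaklyRegular (M : Type u) [AddCommGroup M] [Module A M] :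
    ∀ (xs : List A), RingTheory.Sequence.IsWeaklyRegular A xs → ∀ J : Ideal A,
      J = Ideal.ofList xs →
      (∀ i, xs.length < i → IsZero (((Tor (ModuleCat.{u} A) i).obj (ModuleCat.of A M)).obj
        (ModuleCat.of A (A ⧸ J)))) ∧
      Nonempty (((Tor (ModuleCat.{u} A) xs.length).obj (ModuleCat.of A M)).obj
        (ModuleCat.of A (A ⧸ J)) ≃ₗ[A] ↥(Submodule.torsionBySet A M (J : Set A))) := by
  intro xs
  induction xs using List.reverseRecOn with
  | nil =>
    intro _ J hJ
    obtain rfl : J = ⊥ := hJ.trans Ideal.ofList_nil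
    exact tor_top_bot M
  | append_singleton ys x ih =>
    intro hreg J hJ
    obtain rfl : J = Ideal.ofList ys ⊔ Ideal.span {x} :=
      hJ.trans (by rw [Ideal.ofList_append, Ideal.ofList_singleton])
    obtain ⟨hys, hx1⟩ := (RingTheory.Sequence.isWeaklyRegular_append_iff A ys [x]).mp hreg
    have hx2 := (RingTheory.Sequence.isWeaklyRegular_singleton_iff _ x).mp hx1
    have hsm : (Ideal.ofList ys • (⊤ : Submodule A A)) = Ideal.ofList ys := by
      rw [smul_eq_mul, Ideal.mul_top]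
    rw [hsm] at hx2
    obtain ⟨hvan, ⟨e'⟩⟩ := ih hys (Ideal.ofList ys) rfl
    have hlen : (ys ++ [x]).length = ys.length + 1 := by
      rw [List.length_append, List.length_singleton]
    rw [hlen]
    exact tor_top_step M (Ideal.ofList ys) x ys.length (fun y y' h => hx2 h) hvan e'

/-- S5673. -/
theorem tor'_top_weaklyRegular (xs : List A) (hreg : RingTheory.Sequence.IsWeaklyRegular A xs)
    (M : Type u) [AddCommGroup M] [Module A M] :
    Nonempty (↑(((Tor' (ModuleCat.{u} A) xs.length).obj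
      (ModuleCat.of A (A ⧸ Ideal.ofList xs))).obj (ModuleCat.of A M)) ≃ₗ[A]
        ((A ⧸ Ideal.ofList xs) →ₗ[A] M)) := by
  obtain ⟨-, ⟨e1⟩⟩ := tor_weaklyRegular M xs hreg (Ideal.ofList xs) rfl
  obtain ⟨e2⟩ := nonempty_Tor'_equiv_Tor (ModuleCat.of A (A ⧸ Ideal.ofList xs))
    (ModuleCat.of A M) xs.length
  obtain ⟨e3⟩ := nonempty_Tor_equiv_flip (ModuleCat.of A (A ⧸ Ideal.ofList xs))
    (ModuleCat.of A M) xs.length
  exact ⟨e2.trans (e3.trans (e1.trans (homQuotEquivTorsionBySet _ M).symm))⟩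

end Groth.Agent.Lib.Helper7
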