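import Mathlib
import Groth.Agent.Lib.Helper9.NilpFlat
import Groth.Agent.Lib.Helper9.RegFlat
import Groth.Agent.Lib.Helper7.FlatLift

/-!
# Flat lifts of an ideal along a small extension form a pseudotorsor
-/

set_option autoImplicit false

namespace Groth.Agent.Lib.Helper7.TorsorLift

universe u

open TensorProduct

section mu

variable {R : Type*} [CommRing R] (J : Ideal R) (X : Type*) [AddCommGroup X] [Module R X]

/-- The multiplication map `X ⊗ J → X`. -/
noncomputable def mu : X ⊗[R] J →ₗ[R] X :=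
  (TensorProduct.rid R X).toLinearMap ∘ₗ (LinearMap.lTensor X J.subtype)

lemma mu_apply (z : X ⊗[R] J) :
    mu J X z = TensorProduct.rid R X (LinearMap.lTensor X (Submodule.subtype J) z) := rfl

lemma mu_tmul (x : X) (j : J) : mu J X (x ⊗ₜ j) = (j : R) • x := by
  simp [mu]

lemma mu_injective [Module.Flat R X] : Function.Injective (mu J X) := by
  intro a b h
  have h1 : TensorProduct.rid R X (LinearMap.lTensor X J.subtype a) =
      TensorProduct.rid R X (LinearMap.lTensor X J.subtype b) := h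
  exact Module.Flat.lTensor_preserves_injective_linearMap (M := X) J.subtype
    (Submodule.subtype_injective J) ((TensorProduct.rid R X).injective h1)

variable {X} in
lemma mu_naturality {Y : Type*} [AddCommGroup Y] [Module R Y] (f : X →ₗ[R] Y) (z : X ⊗[R] J) :
    mu J Y (LinearMap.rTensor J f z) = f (mu J X z) := by
  induction z using TensorProduct.induction_on with
  | zero => simp
  | tmul x j => simp [mu_tmul]
  | add a b ha hb => simp only [map_add, ha, hb]

variable (A' : Type*) [CommRing A'] [Algebra R A']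

lemma mu_smul (a : A') (z : A' ⊗[R] J) : mu J A' (a • z) = a * mu J A' z := by
  induction z using TensorProduct.induction_on with
  | zero => simp
  | tmul x j => simp [TensorProduct.smul_tmul', mu_tmul, mul_smul_comm]
  | add a b ha hb => rw [smul_add, map_add, map_add, ha, hb, mul_add]

lemma mu_mem (z : A' ⊗[R] J) : mu J A' z ∈ J.map (algebraMap R A') := by
  induction z using TensorProduct.induction_on with
  | zero => simp
  | tmul x j =>
    rw [mu_tmul, Algebra.smul_def]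
    exact Ideal.mul_mem_right _ _ (Ideal.mem_map_of_mem _ j.2)
  | add a b ha hb =>
    rw [map_add]
    exact add_mem ha hb

lemma exists_mu_eq {w : A'} (hw : w ∈ J.map (algebraMap R A')) : ∃ z, mu J A' z = w := by
  have hw' : w ∈ Submodule.span A' ((algebraMap R A') '' (J : Set R)) := hw
  induction hw' using Submodule.span_induction with
  | mem x hx =>
    obtain ⟨j, hj, rfl⟩ := hx
    refine ⟨(1 : A') ⊗ₜ[R] (⟨j, hj⟩ : J), ?_⟩
    rw [mu_tmul, Algebra.smul_def, mul_one]
  | zero => exact ⟨0, map_zero _⟩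
  | add x y _ _ hx hy =>
    obtain ⟨z1, h1⟩ := hx (Submodule.span_le.2 (fun _ h => Ideal.subset_span h) ‹_›)
    obtain ⟨z2, h2⟩ := hy (Submodule.span_le.2 (fun _ h => Ideal.subset_span h) ‹_›)
    exact ⟨z1 + z2, by rw [map_add, h1, h2]⟩
  | smul a x _ hx =>
    obtain ⟨z1, h1⟩ := hx (Submodule.span_le.2 (fun _ h => Ideal.subset_span h) ‹_›)
    exact ⟨a • z1, by rw [mu_smul, h1, smul_eq_mul]⟩

lemma rTensor_smul {D : Type*} [CommRing D] [Algebra R D] [Algebra A' D] [IsScalarTower R A' D]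
    (a : A') (z : A' ⊗[R] J) :
    LinearMap.rTensor J (IsScalarTower.toAlgHom R A' D).toLinearMap (a • z) =
      a • LinearMap.rTensor J (IsScalarTower.toAlgHom R A' D).toLinearMap z := by
  induction z using TensorProduct.induction_on with
  | zero => simp
  | tmul x j => simp [TensorProduct.smul_tmul', Algebra.smul_def]
  | add a b ha hb => rw [smul_add, map_add, map_add, ha, hb, smul_add]

variable {A'} in
theorem rTensor_eq_zero_of_mu_mem {D : Type*} [CommRing D] [Algebra R D]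
    (I' : Ideal A') [Module.Flat R (A' ⧸ I')] (ρ : A' →ₐ[R] D) (hρ : ∀ x ∈ I', ρ x = 0)
    (z : A' ⊗[R] J) (hz : mu J A' z ∈ I') : LinearMap.rTensor J ρ.toLinearMap z = 0 := by
  let π : A' →ₐ[R] A' ⧸ I' := Ideal.Quotient.mkₐ R I'
  let ρ' : A' ⧸ I' →ₐ[R] D := Ideal.Quotient.liftₐ I' ρ hρ
  have hcomp : ρ.toLinearMap = ρ'.toLinearMap ∘ₗ π.toLinearMap := by
    ext a; rfl
  rw [hcomp, LinearMap.rTensor_comp, LinearMap.comp_apply]
  have h1 : LinearMap.rTensor J π.toLinearMap z = 0 := by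
    apply mu_injective J (A' ⧸ I')
    rw [mu_naturality, map_zero]
    exact Ideal.Quotient.eq_zero_iff_mem.2 hz
  rw [h1, map_zero]

variable {A'} in
theorem key [Module.Flat R A'] (I' I'' : Ideal A') [Module.Flat R (A' ⧸ I')]
    [Module.Flat R (A' ⧸ I'')] {D : Type*} [CommRing D] [Algebra R D] (ρ : A' →ₐ[R] D)
    (hρ' : ∀ x ∈ I', ρ x = 0) (hρ'' : ∀ x ∈ I'', ρ x = 0)
    {x' y' x'' y'' : A'} (hx' : x' ∈ I') (hy' : y' ∈ I') (hx'' : x'' ∈ I'') (hy'' : y'' ∈ I'')
    (h' : x' - y' ∈ J.map (algebraMap R A')) (h'' : x'' - y'' ∈ J.map (algebraMap R A'))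
    (z w : A' ⊗[R] J) (hz : mu J A' z = x'' - x') (hw : mu J A' w = y'' - y') :
    LinearMap.rTensor J ρ.toLinearMap z = LinearMap.rTensor J ρ.toLinearMap w := by
  obtain ⟨z', hz'⟩ := exists_mu_eq J A' h'
  obtain ⟨z'', hz''⟩ := exists_mu_eq J A' h''
  have e1 : LinearMap.rTensor J ρ.toLinearMap z' = 0 :=
    rTensor_eq_zero_of_mu_mem J I' ρ hρ' z' (hz' ▸ sub_mem hx' hy')
  have e2 : LinearMap.rTensor J ρ.toLinearMap z'' = 0 :=
    rTensor_eq_zero_of_mu_mem J I'' ρ hρ'' z'' (hz'' ▸ sub_mem hx'' hy'')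
  have e3 : z - w = z'' - z' := by
    apply mu_injective J A'
    rw [map_sub, map_sub, hz, hw, hz', hz'']
    ring
  have e4 : z = w + (z'' - z') := by rw [← e3]; abel
  rw [e4, map_add, map_sub, e1, e2, sub_zero, add_zero]

end mu

section Torsor

variable (R : Type u) [CommRing R] (J : Ideal R) (A' : Type u) [CommRing A'] [Algebra R A']
  [Module.Flat R A']

theorem existsUnique_hom (I : Ideal (A' ⧸ J.map (algebraMap R A')))
    (I' I'' : Ideal A') [Module.Flat R (A' ⧸ I')] [Module.Flat R (A' ⧸ I'')]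
    (hI' : I'.map (Ideal.Quotient.mk (J.map (algebraMap R A'))) = I)
    (hI'' : I''.map (Ideal.Quotient.mk (J.map (algebraMap R A'))) = I) :
    ∃! φ : ↥I →ₗ[A'] (((A' ⧸ J.map (algebraMap R A')) ⧸ I) ⊗[R] ↥J),
      (∀ (x : (A' ⧸ J.map (algebraMap R A'))) (hx : x ∈ I) (x' x'' : A'), x' ∈ I' → x'' ∈ I'' →
          Ideal.Quotient.mk (J.map (algebraMap R A')) x' = x →
          Ideal.Quotient.mk (J.map (algebraMap R A')) x'' = x →
          ∀ z : A' ⊗[R] ↥J,
            TensorProduct.rid R A' (LinearMap.lTensor A' (Submodule.subtype J) z) = x'' - x' →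
            LinearMap.rTensor ↥J (IsScalarTower.toAlgHom R A'
              ((A' ⧸ J.map (algebraMap R A')) ⧸ I)).toLinearMap z = φ ⟨x, hx⟩) := by
  classical
  have hρ' : ∀ x ∈ I', (IsScalarTower.toAlgHom R A'
      ((A' ⧸ J.map (algebraMap R A')) ⧸ I)) x = 0 := fun x hx => by
    show Ideal.Quotient.mk I (Ideal.Quotient.mk (J.map (algebraMap R A')) x) = 0
    exact Ideal.Quotient.eq_zero_iff_mem.2 (hI' ▸ Ideal.mem_map_of_mem _ hx)
  have hρ'' : ∀ x ∈ I'', (IsScalarTower.toAlgHom R A'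
      ((A' ⧸ J.map (algebraMap R A')) ⧸ I)) x = 0 := fun x hx => by
    show Ideal.Quotient.mk I (Ideal.Quotient.mk (J.map (algebraMap R A')) x) = 0
    exact Ideal.Quotient.eq_zero_iff_mem.2 (hI'' ▸ Ideal.mem_map_of_mem _ hx)
  have hex : ∀ x ∈ I, ∃ x' ∈ I', ∃ x'' ∈ I'', ∃ z : A' ⊗[R] J,
      Ideal.Quotient.mk (J.map (algebraMap R A')) x' = x ∧
      Ideal.Quotient.mk (J.map (algebraMap R A')) x'' = x ∧ mu J A' z = x'' - x' := by
    intro x hx
    obtain ⟨x', hx', hx'x⟩ := (Ideal.mem_map_iff_of_surjective _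
      Ideal.Quotient.mk_surjective).1 (hI' ▸ hx : x ∈ I'.map _)
    obtain ⟨x'', hx'', hx''x⟩ := (Ideal.mem_map_iff_of_surjective _
      Ideal.Quotient.mk_surjective).1 (hI'' ▸ hx : x ∈ I''.map _)
    have hd : x'' - x' ∈ J.map (algebraMap R A') := by
      rw [← Ideal.Quotient.eq_zero_iff_mem, map_sub, hx'x, hx''x, sub_self]
    obtain ⟨z, hz⟩ := exists_mu_eq J A' hd
    exact ⟨x', hx', x'', hx'', z, hx'x, hx''x, hz⟩
  have hkey : ∀ (x : A' ⧸ J.map (algebraMap R A')) (x' x'' y' y'' : A') (z w : A' ⊗[R] J),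
      x' ∈ I' → y' ∈ I' → x'' ∈ I'' → y'' ∈ I'' →
      Ideal.Quotient.mk (J.map (algebraMap R A')) x' = x →
      Ideal.Quotient.mk (J.map (algebraMap R A')) y' = x →
      Ideal.Quotient.mk (J.map (algebraMap R A')) x'' = x →
      Ideal.Quotient.mk (J.map (algebraMap R A')) y'' = x →
      mu J A' z = x'' - x' → mu J A' w = y'' - y' →
      LinearMap.rTensor ↥J (IsScalarTower.toAlgHom R A'
        ((A' ⧸ J.map (algebraMap R A')) ⧸ I)).toLinearMap z =
      LinearMap.rTensor ↥J (IsScalarTower.toAlgHom R A'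
        ((A' ⧸ J.map (algebraMap R A')) ⧸ I)).toLinearMap w := by
    intro x x' x'' y' y'' z w hx' hy' hx'' hy'' e1 e2 e3 e4 hz hw
    exact key J I' I'' _ hρ' hρ'' hx' hy' hx'' hy''
      (Ideal.Quotient.eq.1 (e1.trans e2.symm)) (Ideal.Quotient.eq.1 (e3.trans e4.symm)) z w hz hw
  choose! fx' hfx' fx'' hfx'' fz hfz1 hfz2 hfz3 using hex
  let φ : ↥I →ₗ[A'] (((A' ⧸ J.map (algebraMap R A')) ⧸ I) ⊗[R] ↥J) :=
    { toFun := fun x => LinearMap.rTensor ↥J (IsScalarTower.toAlgHom R A'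
        ((A' ⧸ J.map (algebraMap R A')) ⧸ I)).toLinearMap (fz x.1)
      map_add' := fun x y => by
        rw [← map_add]
        refine hkey (x.1 + y.1) _ _ (fx' x.1 + fx' y.1) (fx'' x.1 + fx'' y.1) _ _
          (hfx' _ (x + y).2) (add_mem (hfx' _ x.2) (hfx' _ y.2))
          (hfx'' _ (x + y).2) (add_mem (hfx'' _ x.2) (hfx'' _ y.2))
          (hfz1 _ (x + y).2) ?_ (hfz2 _ (x + y).2) ?_ (hfz3 _ (x + y).2) ?_
        · rw [map_add, hfz1 _ x.2, hfz1 _ y.2]
        · rw [map_add, hfz2 _ x.2, hfz2 _ y.2]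
        · rw [map_add, hfz3 _ x.2, hfz3 _ y.2]
          ring
      map_smul' := fun a x => by
        rw [RingHom.id_apply, ← rTensor_smul]
        have hax : (a • x : ↥I).1 = Ideal.Quotient.mk (J.map (algebraMap R A')) a * x.1 := rfl
        refine hkey (a • x : ↥I).1 _ _ (a * fx' x.1) (a * fx'' x.1) _ _
          (hfx' _ (a • x).2) (Ideal.mul_mem_left _ _ (hfx' _ x.2))
          (hfx'' _ (a • x).2) (Ideal.mul_mem_left _ _ (hfx'' _ x.2))
          (hfz1 _ (a • x).2) ?_ (hfz2 _ (a • x).2) ?_ (hfz3 _ (a • x).2) ?_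
        · rw [map_mul, hfz1 _ x.2, hax]
        · rw [map_mul, hfz2 _ x.2, hax]
        · rw [mu_smul, hfz3 _ x.2]
          ring }
  refine ⟨φ, ?_, ?_⟩
  · intro x hx x' x'' hx' hx'' e' e'' z hz
    exact hkey x x' x'' (fx' x) (fx'' x) z (fz x) hx' (hfx' x hx) hx'' (hfx'' x hx) e'
      (hfz1 x hx) e'' (hfz2 x hx) hz (hfz3 x hx)
  · intro φ₂ h₂
    refine LinearMap.ext fun ⟨x, hx⟩ => ?_
    exact (h₂ x hx (fx' x) (fx'' x) (hfx' x hx) (hfx'' x hx) (hfz1 x hx) (hfz2 x hx) (fz x)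
      (hfz3 x hx)).symm

end Torsor

section Translate

open IsLocalRing Groth.Agent.Lib.Helper9

lemma rTensor_smul' {R : Type*} [CommRing R] (J : Ideal R) (A' : Type*) [CommRing A'] [Algebra R A']
    {D : Type*} [CommRing D] [Algebra R D] [Algebra A' D] [IsScalarTower R A' D]
    (ρ : A' →ₐ[R] D) (hρ : ∀ a, ρ a = algebraMap A' D a)
    (a : A') (z : A' ⊗[R] J) :
    LinearMap.rTensor J ρ.toLinearMap (a • z) = a • LinearMap.rTensor J ρ.toLinearMap z := by
  induction z using TensorProduct.induction_on with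
  | zero => simp
  | tmul x j =>
    rw [TensorProduct.smul_tmul', LinearMap.rTensor_tmul, LinearMap.rTensor_tmul,
      TensorProduct.smul_tmul']
    congr 1
    show ρ (a * x) = a • ρ x
    rw [map_mul, hρ a, Algebra.smul_def]
  | add a b ha hb => rw [smul_add, map_add, map_add, ha, hb, smul_add]

lemma mem_smul_top_of_mem_mul {R A' : Type*} [CommRing R] [CommRing A'] [Algebra R A']
    (𝔪 : Ideal R) (I'' : Ideal A') (x : ↥I'')
    (hx : x.1 ∈ 𝔪.map (algebraMap R A') * I'') : x ∈ 𝔪 • (⊤ : Submodule R ↥I'') := by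
  have h1 : x.1 ∈ 𝔪 • (I''.restrictScalars R) := by
    rw [← Ideal.smul_restrictScalars, Submodule.restrictScalars_mem]
    exact hx
  have h2 : ∀ w ∈ 𝔪 • (I''.restrictScalars R),
      ∃ y : ↥I'', y ∈ 𝔪 • (⊤ : Submodule R ↥I'') ∧ y.1 = w := by
    intro w hw
    refine Submodule.smul_induction_on hw ?_ ?_
    · intro m hm n hn
      exact ⟨m • (⟨n, hn⟩ : ↥I''), Submodule.smul_mem_smul hm Submodule.mem_top, rfl⟩
    · rintro a b ⟨y1, h1, rfl⟩ ⟨y2, h2, rfl⟩
      exact ⟨y1 + y2, add_mem h1 h2, rfl⟩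
  obtain ⟨y, hy, hyx⟩ := h2 _ h1
  have : y = x := Subtype.ext hyx
  exact this ▸ hy

theorem existsUnique_translate (R : Type u) [CommRing R] [IsLocalRing R] [IsArtinianRing R]
    (J : Ideal R) (hJ : maximalIdeal R * J = ⊥) (hJne : J ≠ ⊤)
    (A' : Type u) [CommRing A'] [Algebra R A'] [Module.Flat R A']
    (I : Ideal (A' ⧸ J.map (algebraMap R A')))
    [Module.Flat (R ⧸ J) ((A' ⧸ J.map (algebraMap R A')) ⧸ I)]
    (I' : Ideal A') [Module.Flat R (A' ⧸ I')]
    (hI' : I'.map (Ideal.Quotient.mk (J.map (algebraMap R A'))) = I)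
    (φ : ↥I →ₗ[A'] (((A' ⧸ J.map (algebraMap R A')) ⧸ I) ⊗[R] ↥J)) :
    ∃! I'' : Ideal A', Module.Flat R (A' ⧸ I'') ∧
      I''.map (Ideal.Quotient.mk (J.map (algebraMap R A'))) = I ∧
      (∀ (x : (A' ⧸ J.map (algebraMap R A'))) (hx : x ∈ I) (x' x'' : A'), x' ∈ I' → x'' ∈ I'' →
          Ideal.Quotient.mk (J.map (algebraMap R A')) x' = x →
          Ideal.Quotient.mk (J.map (algebraMap R A')) x'' = x →
          ∀ z : A' ⊗[R] ↥J,
            TensorProduct.rid R A' (LinearMap.lTensor A' (Submodule.subtype J) z) = x'' - x' →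
            LinearMap.rTensor ↥J (IsScalarTower.toAlgHom R A'
              ((A' ⧸ J.map (algebraMap R A')) ⧸ I)).toLinearMap z = φ ⟨x, hx⟩) := by
  classical
  have hJm : J ≤ maximalIdeal R := le_maximalIdeal hJne
  have hJ2 : J * J = ⊥ := le_bot_iff.1 ((Ideal.mul_mono_left hJm).trans hJ.le)
  have hJnil : IsNilpotent J := ⟨2, by rw [pow_two, hJ2]; rfl⟩
  have hKK : J.map (algebraMap R A') * J.map (algebraMap R A') = ⊥ := by
    rw [← Ideal.map_mul, hJ2, Ideal.map_bot]
  have hmnil : IsNilpotent (maximalIdeal R) := by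
    rw [← IsLocalRing.jacobson_eq_maximalIdeal ⊥ bot_ne_top]
    exact IsArtinianRing.isNilpotent_jacobson_bot
  have hcomm : (algebraMap (R ⧸ J) (A' ⧸ J.map (algebraMap R A'))).comp (Ideal.Quotient.mk J) =
      (Ideal.Quotient.mk (J.map (algebraMap R A'))).comp (algebraMap R A') :=
    RingHom.ext fun c => rfl
  let ρ : A' →ₐ[R] ((A' ⧸ J.map (algebraMap R A')) ⧸ I) := IsScalarTower.toAlgHom R A' _
  have hρalg : ∀ a, ρ a = algebraMap A' ((A' ⧸ J.map (algebraMap R A')) ⧸ I) a := fun a => rfl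
  have hρmk : ∀ a, ρ a =
      Ideal.Quotient.mk I (Ideal.Quotient.mk (J.map (algebraMap R A')) a) := fun a => rfl
  have hρsurj : Function.Surjective ρ := fun b => by
    obtain ⟨a, rfl⟩ := Ideal.Quotient.mk_surjective b
    obtain ⟨a', rfl⟩ := Ideal.Quotient.mk_surjective a
    exact ⟨a', rfl⟩
  have hρ0 : ∀ a, ρ a = 0 ↔ Ideal.Quotient.mk (J.map (algebraMap R A')) a ∈ I := fun a => by
    rw [hρmk]; exact Ideal.Quotient.eq_zero_iff_mem
  have hmem : ∀ x' ∈ I', Ideal.Quotient.mk (J.map (algebraMap R A')) x' ∈ I := fun x' hx' =>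
    hI' ▸ Ideal.mem_map_of_mem _ hx'
  have hρ' : ∀ x ∈ I', ρ x = 0 := fun x hx => (hρ0 x).2 (hmem x hx)
  have hmkmu : ∀ z : A' ⊗[R] J,
      Ideal.Quotient.mk (J.map (algebraMap R A')) (mu J A' z) = 0 := fun z =>
    Ideal.Quotient.eq_zero_iff_mem.2 (mu_mem J A' z)
  have hqsurj : Function.Surjective (LinearMap.rTensor J ρ.toLinearMap) :=
    LinearMap.rTensor_surjective J hρsurj
  let ψ : ↥I' →ₗ[A'] (((A' ⧸ J.map (algebraMap R A')) ⧸ I) ⊗[R] ↥J) :=
    { toFun := fun x' => φ ⟨Ideal.Quotient.mk _ x'.1, hmem x'.1 x'.2⟩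
      map_add' := fun x y => by
        rw [← map_add]
        congr 1
      map_smul' := fun a x => by
        rw [RingHom.id_apply, ← map_smul]
        congr 1 }
  have hψφ : ∀ (x' : A') (hx' : x' ∈ I') (x : A' ⧸ J.map (algebraMap R A')) (hx : x ∈ I),
      Ideal.Quotient.mk _ x' = x → ψ ⟨x', hx'⟩ = φ ⟨x, hx⟩ := by
    intro x' hx' x hx e
    subst e
    rfl
  let I'' : Ideal A' :=
    { carrier := {y | ∃ (x' : ↥I') (z : A' ⊗[R] J), mu J A' z = y - x'.1 ∧
        LinearMap.rTensor J ρ.toLinearMap z = ψ x'}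
      add_mem' := by
        rintro a b ⟨x1, z1, h11, h12⟩ ⟨x2, z2, h21, h22⟩
        refine ⟨x1 + x2, z1 + z2, ?_, ?_⟩
        · rw [map_add, h11, h21]
          show _ = a + b - (x1.1 + x2.1)
          ring
        · rw [map_add, map_add, h12, h22]
      zero_mem' := ⟨0, 0, by simp, by simp⟩
      smul_mem' := by
        rintro c y ⟨x1, z1, h11, h12⟩
        refine ⟨c • x1, c • z1, ?_, ?_⟩
        · rw [mu_smul, h11]
          show _ = c * y - c * x1.1
          ring
        · rw [rTensor_smul' J A' ρ hρalg, h12, map_smul] }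
  have hI''map : I''.map (Ideal.Quotient.mk (J.map (algebraMap R A'))) = I := by
    apply le_antisymm
    · rw [Ideal.map_le_iff_le_comap]
      rintro y ⟨x', z, h1, h2⟩
      show Ideal.Quotient.mk _ y ∈ I
      have : y = mu J A' z + x'.1 := by rw [h1]; ring
      rw [this, map_add, hmkmu, zero_add]
      exact hmem x'.1 x'.2
    · intro x hx
      obtain ⟨x', hx', hx'x⟩ := (Ideal.mem_map_iff_of_surjective _
        Ideal.Quotient.mk_surjective).1 (hI' ▸ hx : x ∈ I'.map _)
      obtain ⟨z, hz⟩ := hqsurj (ψ ⟨x', hx'⟩)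
      have hy : x' + mu J A' z ∈ I'' := by
        refine ⟨⟨x', hx'⟩, z, ?_, hz⟩
        show mu J A' z = x' + mu J A' z - x'
        ring
      have : Ideal.Quotient.mk (J.map (algebraMap R A')) (x' + mu J A' z) = x := by
        rw [map_add, hmkmu, add_zero, hx'x]
      rw [← this]
      exact Ideal.mem_map_of_mem _ hy
  -- kernel of `q`
  let L : Submodule R A' := (RingHom.ker ρ.toRingHom).restrictScalars R
  have hex : Function.Exact L.subtype ρ.toLinearMap := by
    intro a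
    constructor
    · intro ha
      exact ⟨⟨a, ha⟩, rfl⟩
    · rintro ⟨l, rfl⟩
      exact l.2
  have hL : ∀ l : L, l.1 ∈ I'' ⊔ J.map (algebraMap R A') := by
    intro l
    have h1 : ρ l.1 = 0 := l.2
    rw [hρ0, ← hI''map] at h1
    obtain ⟨y', hy', hyl⟩ := (Ideal.mem_map_iff_of_surjective _
      Ideal.Quotient.mk_surjective).1 h1
    have h2 : l.1 - y' ∈ J.map (algebraMap R A') := Ideal.Quotient.eq.1 hyl.symm
    have h3 : l.1 = y' + (l.1 - y') := by ring
    rw [h3]
    exact Submodule.add_mem_sup hy' h2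
  have hLmu : ∀ y : L ⊗[R] J, mu J A' (LinearMap.rTensor J L.subtype y) ∈
      J.map (algebraMap R A') * I'' := by
    intro y
    induction y using TensorProduct.induction_on with
    | zero => simp
    | tmul l j =>
      rw [LinearMap.rTensor_tmul, mu_tmul, Algebra.smul_def]
      have h4 : algebraMap R A' j * l.1 ∈
          J.map (algebraMap R A') * (I'' ⊔ J.map (algebraMap R A')) :=
        Ideal.mul_mem_mul (Ideal.mem_map_of_mem _ j.2) (hL l)
      rw [Ideal.mul_sup, hKK, sup_bot_eq] at h4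
      exact h4
    | add a b ha hb =>
      rw [map_add, map_add]
      exact add_mem ha hb
  have hkerq : ∀ z : A' ⊗[R] J, LinearMap.rTensor J ρ.toLinearMap z = 0 →
      mu J A' z ∈ J.map (algebraMap R A') * I'' := by
    intro z hz
    obtain ⟨y, rfl⟩ := (rTensor_exact J hex hρsurj z).1 hz
    exact hLmu y
  have hcap : ∀ w ∈ I'', w ∈ J.map (algebraMap R A') → w ∈ J.map (algebraMap R A') * I'' := by
    rintro w ⟨x', z, h1, h2⟩ hwK
    have hx'K : x'.1 ∈ J.map (algebraMap R A') := by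
      have : x'.1 = w - mu J A' z := by rw [h1]; ring
      rw [this]
      exact sub_mem hwK (mu_mem J A' z)
    have hψ0 : ψ x' = 0 := by
      have h0 : (⟨Ideal.Quotient.mk _ x'.1, hmem x'.1 x'.2⟩ : ↥I) = 0 :=
        Subtype.ext (Ideal.Quotient.eq_zero_iff_mem.2 hx'K)
      show φ _ = 0
      rw [h0, map_zero]
    obtain ⟨z', hz'⟩ := exists_mu_eq J A' hx'K
    have hqz' : LinearMap.rTensor J ρ.toLinearMap z' = 0 :=
      rTensor_eq_zero_of_mu_mem J I' ρ hρ' z' (hz' ▸ x'.2)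
    have hw : w = mu J A' (z' + z) := by rw [map_add, hz', h1]; ring
    rw [hw]
    exact hkerq _ (by rw [map_add, hqz', h2, hψ0, add_zero])
  have hflat : Module.Flat R (A' ⧸ I'') := by
    let u : ↥I'' →ₗ[R] A' := (Submodule.subtype I'').restrictScalars R
    have hu : ∀ x : ↥I'', u x ∈ maximalIdeal R • (⊤ : Submodule R A') →
        x ∈ maximalIdeal R • (⊤ : Submodule R ↥I'') := by
      intro x hx
      apply mem_smul_top_of_mem_mul
      have hx1 : x.1 ∈ (maximalIdeal R).map (algebraMap R A') := by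
        have h0 : x.1 ∈ maximalIdeal R • (⊤ : Submodule R A') := hx
        rw [← NilpFlat.mem_map_smul_top_iff (B := A'), Ideal.smul_eq_mul, Ideal.mul_top] at h0
        exact h0
      have hy : Ideal.Quotient.mk (J.map (algebraMap R A')) x.1 ∈
          ((maximalIdeal R).map (Ideal.Quotient.mk J)) •
            (⊤ : Submodule (R ⧸ J) (A' ⧸ J.map (algebraMap R A'))) := by
        rw [← NilpFlat.mem_map_smul_top_iff (B := A' ⧸ J.map (algebraMap R A')),
          Ideal.smul_eq_mul, Ideal.mul_top, Ideal.map_map, hcomm, ← Ideal.map_map]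
        exact Ideal.mem_map_of_mem _ hx1
      have hyI : Ideal.Quotient.mk (J.map (algebraMap R A')) x.1 ∈ I :=
        hI''map ▸ Ideal.mem_map_of_mem _ x.2
      have h1 := RegFlat.mem_smul_of_flat_quotient (A := R ⧸ J)
        (B := A' ⧸ J.map (algebraMap R A')) (M := A' ⧸ J.map (algebraMap R A'))
        ((maximalIdeal R).map (Ideal.Quotient.mk J)) I hyI hy
      rw [Ideal.map_map, hcomm, ← Ideal.map_map, ← hI''map, Ideal.smul_eq_mul,
        ← Ideal.map_mul] at h1
      obtain ⟨w, hw, hwx⟩ := (Ideal.mem_map_iff_of_surjective _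
        Ideal.Quotient.mk_surjective).1 h1
      have hwI'' : w ∈ I'' := Ideal.mul_le_right hw
      have hd : x.1 - w ∈ J.map (algebraMap R A') := Ideal.Quotient.eq.1 hwx.symm
      have hd2 := hcap (x.1 - w) (sub_mem x.2 hwI'') hd
      have hKm : J.map (algebraMap R A') ≤ (maximalIdeal R).map (algebraMap R A') :=
        Ideal.map_mono hJm
      have h3 : x.1 = w + (x.1 - w) := by ring
      rw [h3]
      exact add_mem hw (Ideal.mul_mono_left hKm hd2)
    obtain ⟨-, hfl⟩ := NilpFlat.injective_and_flat_coker (maximalIdeal R) hmnil u hu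
    have hrange : LinearMap.range u = I''.restrictScalars R := by
      apply Submodule.ext
      intro a
      rw [Submodule.restrictScalars_mem]
      constructor
      · rintro ⟨x, rfl⟩
        exact x.2
      · intro ha
        exact ⟨⟨a, ha⟩, rfl⟩
    haveI := hfl
    exact Module.Flat.of_linearEquiv
      ((Submodule.Quotient.restrictScalarsEquiv R I'').symm ≪≫ₗ
        (Submodule.quotEquivOfEq _ _ hrange.symm))
  have hprop : ∀ (x : (A' ⧸ J.map (algebraMap R A'))) (hx : x ∈ I) (x' x'' : A'),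
      x' ∈ I' → x'' ∈ I'' →
      Ideal.Quotient.mk (J.map (algebraMap R A')) x' = x →
      Ideal.Quotient.mk (J.map (algebraMap R A')) x'' = x →
      ∀ z : A' ⊗[R] ↥J,
        TensorProduct.rid R A' (LinearMap.lTensor A' (Submodule.subtype J) z) = x'' - x' →
        LinearMap.rTensor ↥J ρ.toLinearMap z = φ ⟨x, hx⟩ := by
    rintro x hx x' x'' hx' ⟨x1, z1, h11, h12⟩ e' e'' z hz
    have hmk1 : Ideal.Quotient.mk (J.map (algebraMap R A')) x1.1 = x := by
      have : x1.1 = x'' - mu J A' z1 := by rw [h11]; ring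
      rw [this, map_sub, hmkmu, sub_zero, e'']
    have hdK : x1.1 - x' ∈ J.map (algebraMap R A') := Ideal.Quotient.eq.1 (hmk1.trans e'.symm)
    obtain ⟨z0, hz0⟩ := exists_mu_eq J A' hdK
    have hqz0 : LinearMap.rTensor J ρ.toLinearMap z0 = 0 :=
      rTensor_eq_zero_of_mu_mem J I' ρ hρ' z0 (hz0 ▸ sub_mem x1.2 hx')
    have hzz : z = z0 + z1 := by
      apply mu_injective J A'
      rw [map_add, hz0, h11, mu_apply, hz]
      ring
    rw [hzz, map_add, hqz0, zero_add, h12]
    exact hψφ x1.1 x1.2 x hx hmk1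
  refine ⟨I'', ⟨hflat, hI''map, hprop⟩, ?_⟩
  rintro I₂ ⟨hfl₂, hmap₂, hprop₂⟩
  have h1 : I₂ ≤ I'' := by
    intro y hy
    have hyI : Ideal.Quotient.mk (J.map (algebraMap R A')) y ∈ I :=
      hmap₂ ▸ Ideal.mem_map_of_mem _ hy
    obtain ⟨x', hx', hx'y⟩ := (Ideal.mem_map_iff_of_surjective _
      Ideal.Quotient.mk_surjective).1
      (hI' ▸ hyI : Ideal.Quotient.mk (J.map (algebraMap R A')) y ∈ I'.map _)
    have hd : y - x' ∈ J.map (algebraMap R A') := Ideal.Quotient.eq.1 hx'y.symm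
    obtain ⟨z, hz⟩ := exists_mu_eq J A' hd
    have h3 := hprop₂ (Ideal.Quotient.mk _ y) hyI x' y hx' hy hx'y rfl z hz
    exact ⟨⟨x', hx'⟩, z, hz, h3.trans (hψφ x' hx' _ hyI hx'y).symm⟩
  have h2 : I'' ≤ I₂ := by
    haveI := hflat
    exact Groth.Agent.Lib.Helper7.FlatLift.le_of_nilpotent J hJnil I'' I₂ h1
      (by rw [hI''map, hmap₂])
  exact le_antisymm h1 h2

end Translate

end Groth.Agent.Lib.Helper7.TorsorLift
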