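import Mathlib

set_option autoImplicit false
universe u
open AlgebraicGeometry CategoryTheory IsLocalRing

namespace Groth.Agent.Lib.Helper7

theorem exists_valuationRing_through_specialization {X Y : Scheme.{u}} (p : X ⟶ Y) (x : X) (y' : Y)
    (hsp : p.base x ⤳ y') (hne : y' ≠ p.base x) :
    ∃ (A : ValuationSubring (X.residueField x)) (h : Spec (CommRingCat.of A) ⟶ Y), A ≠ ⊤ ∧
      h.base (IsLocalRing.closedPoint A) = y' ∧
      Spec.map (CommRingCat.ofHom A.subtype) ≫ h = X.fromSpecResidueField x ≫ p := by
  let φ : Y.presheaf.stalk y' ⟶ X.residueField x :=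
    Y.presheaf.stalkSpecializes hsp ≫ p.stalkMap x ≫ X.residue x
  obtain ⟨A, hA, hA_local⟩ := exists_factor_valuationRing φ.hom
  let ψ : Y.presheaf.stalk y' ⟶ .of A := CommRingCat.ofHom (φ.hom.codRestrict _ hA)
  have w : X.fromSpecResidueField x ≫ p =
      Spec.map (CommRingCat.ofHom (algebraMap A (X.residueField x))) ≫
        Spec.map ψ ≫ Y.fromSpecStalk y' := by
    rw [Scheme.fromSpecResidueField, Category.assoc, ← Scheme.SpecMap_stalkMap_fromSpecStalk,
      ← Scheme.SpecMap_stalkSpecializes_fromSpecStalk hsp]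
    simp_rw [← Spec.map_comp_assoc]
    rfl
  have hclosed : (Spec.map ψ ≫ Y.fromSpecStalk y').base (closedPoint A) = y' := by
    simp only [Scheme.Hom.comp_base, TopCat.coe_comp, Function.comp_apply]
    have : Spec.map ψ (closedPoint A) = closedPoint (Y.presheaf.stalk y') :=
      comap_closedPoint (S := A) (φ.hom.codRestrict A.toSubring hA)
    rw [this, Y.fromSpecStalk_closedPoint]
  refine ⟨A, Spec.map ψ ≫ Y.fromSpecStalk y', ?_, hclosed, w.symm⟩
  intro hAtop
  apply hne
  have hall : ∀ z : X.residueField x, z ∈ A := fun z => by rw [hAtop]; trivial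
  have : IsLocalHom A.subtype := ⟨fun a ha => by
    have ha0 : (a : X.residueField x) ≠ 0 := ha.ne_zero
    have hmem : (a : X.residueField x)⁻¹ ∈ A := hall _
    exact IsUnit.of_mul_eq_one ⟨_, hmem⟩ (Subtype.ext (mul_inv_cancel₀ ha0))⟩
  have h1 : (Spec.map (CommRingCat.ofHom A.subtype)).base (closedPoint (X.residueField x)) =
      closedPoint A := comap_closedPoint (S := X.residueField x) A.subtype
  have h2 := congrArg (fun k => k.base (closedPoint (X.residueField x))) w
  simp only [Scheme.Hom.comp_base, TopCat.coe_comp, Function.comp_apply] at h2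
  rw [Scheme.fromSpecResidueField_apply] at h2
  rw [h2]
  have h3 : (Spec.map (CommRingCat.ofHom (algebraMap A (X.residueField x)))).base
      (closedPoint (X.residueField x)) = closedPoint A := h1
  rw [h3]
  simpa using hclosed.symm

end Groth.Agent.Lib.Helper7
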