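import Mathlib
import Groth.Prelude
import Groth.Agent.Lib.Helper7.PartFacC
import Groth.Agent.Lib.Helper7.IntLenD
import Groth.Agent.Lib.Helper7.ArSurfDegB

/-!
# Helper library (helper7): the intersection form on the vertical divisors of an arithmetic
surface is negative semi-definite (S3253), for an arbitrary list of vertical prime divisors.
-/

set_option autoImplicit false
set_option linter.unusedSectionVars false
set_option linter.style.haveILetI false
universe u
open CategoryTheory CategoryTheory.Limits AlgebraicGeometry Opposite TopologicalSpace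
open Scheme.Modules

namespace Groth.Agent.Lib.Helper7.VertNeg

open Groth.Agent.Lib.Helper3 Groth.Agent.Lib.Helper3.InvMonoidal Groth.Agent.Lib.Helper3.InvTensor
open Groth.Agent.Lib.Helper17 Groth.Agent.Lib.Helper7.SnapFGA
open Groth.Agent.Lib.Helper7.ArSurfDeg
open Groth.Agent.Lib.Helper7.FibFacA Groth.Agent.Lib.Helper7.IntLenD
open Groth.Agent.Lib.Helper7.PartFacC Groth.Agent.Lib.Helper7.InterInv
open Groth.Agent.Lib.Helper7.SemiDefLB

variable {R : Type u} [CommRing R] [IsDomain R] [IsDiscreteValuationRing R]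
  {X : Over (Spec (CommRingCat.of R))}

theorem main3253 (hX : ArSurf.IsArithSurface R X)
    {r : ℕ} (Γ : Fin r → ArSurf.VertComp R X) (L : Fin r → X.left.Modules)
    (hL : ∀ j, ClSub.IsInverseOf (L j) (ClSub.idealMod ((Γ j).ι.ker))) (a : Fin r → ℤ) :
    (Finset.univ : Finset (Fin r × Fin r)).sum
      (fun p => a p.1 * a p.2 * ArSurf.inter R X (L p.2) (Γ p.1)) ≤ 0 := by
  classical
  rcases Nat.eq_zero_or_pos r with h0 | hpos
  · subst h0
    simp
  haveI : Nonempty (Fin r) := ⟨⟨0, hpos⟩⟩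
  have hp := isProper_hom R X hX
  haveI : IsIntegral X.left := hX.2.1
  haveI : Flat X.hom := hX.2.2.2.1
  have hcartAll : ∀ j, BlowUp.IsEffCartierIdeal (Γ j).ι.ker := fun j =>
    isEffCartierIdeal_ker hX (Γ j)
  have hInvAll : ∀ j, PicF.IsInvertible (ClSub.idealMod (Γ j).ι.ker) := fun j =>
    (EffCartMod.isInvertible_idealMod_iff _).mpr (hcartAll j)
  have hLinv : ∀ j, PicF.IsInvertible (L j) := fun j => by
    obtain ⟨e⟩ := hL j
    exact isInvertible_of_inverse (hInvAll j) ⟨braid _ _ ≪≫ e⟩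
  obtain ⟨ker, hker⟩ : ∃ ker : Fin r → X.left.IdealSheafData, ∀ i, ker i = (Γ i).ι.ker :=
    ⟨fun i => (Γ i).ι.ker, fun _ => rfl⟩
  obtain ⟨rep, hrepdef⟩ : ∃ rep : Fin r → Fin r, ∀ i, rep i = Function.invFun ker (ker i) :=
    ⟨fun i => Function.invFun ker (ker i), fun _ => rfl⟩
  have hrep : ∀ i, ker (rep i) = ker i := fun i => by
    rw [hrepdef]
    exact Function.invFun_eq ⟨i, rfl⟩
  have hrep2 : ∀ i j, ker i = ker j → rep i = rep j := fun i j h => by
    rw [hrepdef, hrepdef, h]
  let ρ : Fin r → {i : Fin r // rep i = i} := fun i => ⟨rep i, hrep2 _ _ (hrep i)⟩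
  have hdist : ∀ s t : {i : Fin r // rep i = i}, s ≠ t →
      Set.range (Γ s.1).ι.base ≠ Set.range (Γ t.1).ι.base := by
    intro s t hst hrange
    apply hst
    have hk : ker s.1 = ker t.1 := by
      rw [hker, hker, ker_eq_vanishingIdeal (Γ s.1).ι, ker_eq_vanishingIdeal (Γ t.1).ι]
      congr 1
      apply SetLike.coe_injective
      rw [support_ker_eq_range, support_ker_eq_range]
      exact hrange
    apply Subtype.ext
    rw [← s.2, ← t.2]
    exact hrep2 _ _ hk
  have hM : ∀ i j, ArSurf.inter R X (L j) (Γ i) =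
      ArSurf.inter R X (L (ρ j).1) (Γ (ρ i).1) := by
    intro i j
    show ArSurf.inter R X (L j) (Γ i) = ArSurf.inter R X (L (rep j)) (Γ (rep i))
    have h1 : (Γ i).ι.ker = (Γ (rep i)).ι.ker := by
      rw [← hker, ← hker]
      exact (hrep i).symm
    rw [inter_eq_of_ker_eq hp (Γ i) (Γ (rep i)) h1 (L j) (hLinv j),
      inter_eq_neg_delta hp (Γ (rep i)) _ (hInvAll j) (L j) (hL j),
      inter_eq_neg_delta hp (Γ (rep i)) _ (hInvAll (rep j)) (L (rep j)) (hL (rep j))]
    have h2 : (Γ (rep j)).ι.ker = (Γ j).ι.ker := by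
      rw [← hker, ← hker]
      exact hrep j
    rw [h2]
  have h1 : ∑ p : Fin r × Fin r, a p.1 * a p.2 * ArSurf.inter R X (L p.2) (Γ p.1) =
      ∑ p : Fin r × Fin r, a p.1 * a p.2 *
        (fun s t : {i : Fin r // rep i = i} => ArSurf.inter R X (L t.1) (Γ s.1))
          (ρ p.1) (ρ p.2) :=
    Finset.sum_congr rfl fun p _ => by rw [hM p.1 p.2]
  rw [h1, sum_group ρ a
    (fun s t : {i : Fin r // rep i = i} => ArSurf.inter R X (L t.1) (Γ s.1))]
  have hcart : ∀ s : {i : Fin r // rep i = i}, BlowUp.IsEffCartierIdeal (Γ s.1).ι.ker :=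
    fun s => hcartAll s.1
  refine quad_nonpos_of_le
    (fun s t : {i : Fin r // rep i = i} => ArSurf.inter R X (L t.1) (Γ s.1))
    (fun s => (Models.mult R X (Γ s.1) : ℤ)) ?_ ?_ ?_ ?_
    (fun s => ∑ i, if ρ i = s then a i else 0)
  · intro s
    have := mult_pos' hp (fun s : {i : Fin r // rep i = i} => Γ s.1) hdist hcart s
    exact_mod_cast this
  · intro s t
    by_cases hst : s = t
    · subst hst
      rfl
    · exact main8730 hX (Γ s.1) (Γ t.1) (hdist s t hst) (L s.1) (L t.1) (hL s.1) (hL t.1)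
  · intro s t hst
    exact (Groth.Agent.Lib.Helper7.ArSurfDegB.main8728 hX (Γ s.1) (Γ t.1).ι.ker (hcartAll t.1)
      (generic_notMem_of_ne (Γ s.1) (Γ t.1) (hdist s t hst)) (L t.1) (hL t.1)).1
  · intro s
    exact row_sum_nonpos hp (fun s : {i : Fin r // rep i = i} => Γ s.1) hdist hcart
      (fun s => L s.1) (fun s => hL s.1) s

end Groth.Agent.Lib.Helper7.VertNeg
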