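import Mathlib
import Groth.Agent.Lib.Helper7.WeakDimOne
set_option autoImplicit false
universe u
open TensorProduct

namespace Groth.Agent.Lib.Helper7

/-- the extension of a flat ideal to a localization is flat. -/
lemma flat_map_localization {A : Type u} [CommRing A] (p : Submonoid A) (R : Type u) [CommRing R]
    [Algebra A R] [IsLocalization p R] (I : Ideal A) [Module.Flat A I] :
    Module.Flat R (I.map (algebraMap A R)) := by
  rw [← Ideal.localized'_eq_map R p I]
  exact Module.Flat.of_isLocalizedModule R p
    (Submodule.toLocalized' R p (Algebra.linearMap A R) I)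

/-- a nonzero finitely generated flat ideal of a local ring is generated by a nonzerodivisor. -/
lemma exists_span_singleton_of_flat_fg {R : Type u} [CommRing R] [IsLocalRing R] (J : Ideal R)
    (hfg : J.FG) [Module.Flat R J] (hJ : J ≠ ⊥) :
    ∃ c : R, J = Ideal.span {c} ∧ ∀ y : R, y * c = 0 → y = 0 := by
  classical
  haveI : Module.Finite R J := Module.Finite.iff_fg.mpr hfg
  haveI : Module.Free R J := Module.free_of_flat_of_isLocalRing
  have hsub : Subsingleton (Module.Free.ChooseBasisIndex R J) := by
    constructor
    intro i j
    by_contra hij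
    have hz : ((Module.Free.chooseBasis R J j : J) : R) • Module.Free.chooseBasis R J i -
        ((Module.Free.chooseBasis R J i : J) : R) • Module.Free.chooseBasis R J j = 0 := by
      apply Subtype.ext
      simp only [Submodule.coe_sub, Submodule.coe_smul, smul_eq_mul, Submodule.coe_zero]
      ring
    have h1 := congrArg (fun z => (Module.Free.chooseBasis R J).repr z i) hz
    simp only [map_sub, map_smul, Module.Basis.repr_self, Finsupp.coe_sub, Finsupp.coe_smul,
      Pi.sub_apply, Pi.smul_apply, Finsupp.single_eq_same, smul_eq_mul, mul_one,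
      map_zero, Finsupp.coe_zero, Pi.zero_apply] at h1
    rw [Finsupp.single_eq_of_ne hij, mul_zero, sub_zero] at h1
    exact (Module.Free.chooseBasis R J).ne_zero j (Subtype.ext h1)
  have hne : Nonempty (Module.Free.ChooseBasisIndex R J) := by
    by_contra hemp
    rw [not_nonempty_iff] at hemp
    apply hJ
    rw [eq_bot_iff]
    intro x hx
    have h1 : (Module.Free.chooseBasis R J).repr ⟨x, hx⟩ = 0 := Subsingleton.elim _ _
    have h2 : (⟨x, hx⟩ : J) = 0 := by
      rw [← (Module.Free.chooseBasis R J).repr.map_eq_zero_iff]
      exact h1
    exact congrArg Subtype.val h2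
  obtain ⟨i⟩ := hne
  refine ⟨((Module.Free.chooseBasis R J i : J) : R), ?_, ?_⟩
  · apply le_antisymm
    · intro x hx
      have h1 : (Module.Free.chooseBasis R J).repr ⟨x, hx⟩ =
          Finsupp.single i ((Module.Free.chooseBasis R J).repr ⟨x, hx⟩ i) := by
        ext k
        rw [Subsingleton.elim k i, Finsupp.single_eq_same]
      have h2 := (Module.Free.chooseBasis R J).linearCombination_repr ⟨x, hx⟩
      rw [h1, Finsupp.linearCombination_single] at h2
      have h3 := congrArg Subtype.val h2
      simp only [Submodule.coe_smul, smul_eq_mul] at h3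
      rw [Ideal.mem_span_singleton']
      exact ⟨_, h3⟩
    · rw [Ideal.span_singleton_le_iff_mem]
      exact (Module.Free.chooseBasis R J i).2
  · intro y hy
    have h1 : y • Module.Free.chooseBasis R J i = 0 := by
      apply Subtype.ext
      simp only [Submodule.coe_smul, smul_eq_mul, Submodule.coe_zero]
      exact hy
    have h2 := congrArg (fun z => (Module.Free.chooseBasis R J).repr z i) h1
    simp only [map_smul, Module.Basis.repr_self, Finsupp.coe_smul, Pi.smul_apply,
      Finsupp.single_eq_same, smul_eq_mul, mul_one, map_zero, Finsupp.coe_zero,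
      Pi.zero_apply] at h2
    exact h2

/-- extensions of finitely generated ideals to the local rings of a ring whose finitely generated
ideals are flat are generated by a nonzerodivisor. -/
lemma exists_span_singleton_map {A : Type u} [CommRing A]
    (h2 : ∀ I : Ideal A, I.FG → Module.Flat A I) (p : Ideal A) [p.IsPrime] (I : Ideal A)
    (hI : I.FG) (hne : I.map (algebraMap A (Localization.AtPrime p)) ≠ ⊥) :
    ∃ c : Localization.AtPrime p, I.map (algebraMap A (Localization.AtPrime p)) = Ideal.span {c} ∧
      ∀ y : Localization.AtPrime p, y * c = 0 → y = 0 := by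
  haveI := h2 I hI
  haveI : Module.Flat (Localization.AtPrime p) (I.map (algebraMap A (Localization.AtPrime p))) :=
    flat_map_localization p.primeCompl (Localization.AtPrime p) I
  exact exists_span_singleton_of_flat_fg _ (hI.map _) hne

theorem valuationRing_of_fg_ideals_flat (A : Type u) [CommRing A]
    (h2 : ∀ I : Ideal A, I.FG → Module.Flat A I) (p : Ideal A) [p.IsPrime] :
    ∃ _ : IsDomain (Localization.AtPrime p), ValuationRing (Localization.AtPrime p) := by
  have hunit : ∀ s : p.primeCompl, IsUnit (algebraMap A (Localization.AtPrime p) s) :=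
    fun s => IsLocalization.map_units _ s
  have hdom : IsDomain (Localization.AtPrime p) := by
    haveI : NoZeroDivisors (Localization.AtPrime p) := by
      constructor
      intro u v huv
      by_cases hv : v = 0
      · exact Or.inr hv
      left
      obtain ⟨a, s, rfl⟩ := IsLocalization.exists_mk'_eq p.primeCompl v
      have hx : algebraMap A (Localization.AtPrime p) a =
          IsLocalization.mk' (Localization.AtPrime p) a s *
            algebraMap A (Localization.AtPrime p) s := (IsLocalization.mk'_spec _ a s).symm
      have hx0 : algebraMap A (Localization.AtPrime p) a ≠ 0 := by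
        intro h0
        rw [h0] at hx
        exact hv ((hunit s).mul_left_eq_zero.mp hx.symm)
      have hmap : (Ideal.span {a}).map (algebraMap A (Localization.AtPrime p)) =
          Ideal.span {algebraMap A (Localization.AtPrime p) a} := by
        rw [Ideal.map_span, Set.image_singleton]
      obtain ⟨c, hc, hnzd⟩ := exists_span_singleton_map h2 p (Ideal.span {a})
        ⟨{a}, by simp⟩ (by rw [hmap]; simpa [Ideal.span_singleton_eq_bot] using hx0)
      have hcmem : c ∈ Ideal.span {algebraMap A (Localization.AtPrime p) a} := by
        rw [← hmap, hc]; exact Ideal.mem_span_singleton_self c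
      obtain ⟨t, ht⟩ := Ideal.mem_span_singleton'.mp hcmem
      apply hnzd
      rw [← ht, hx]
      calc u * (t * (IsLocalization.mk' (Localization.AtPrime p) a s *
            algebraMap A (Localization.AtPrime p) s))
          = t * algebraMap A (Localization.AtPrime p) s *
            (u * IsLocalization.mk' (Localization.AtPrime p) a s) := by ring
        _ = 0 := by rw [huv, mul_zero]
    exact NoZeroDivisors.to_isDomain _
  refine ⟨hdom, ?_⟩
  rw [ValuationRing.iff_dvd_total]
  refine ⟨fun u v => ?_⟩
  obtain ⟨a1, s1, rfl⟩ := IsLocalization.exists_mk'_eq p.primeCompl u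
  obtain ⟨a2, s2, rfl⟩ := IsLocalization.exists_mk'_eq p.primeCompl v
  have hx1 : algebraMap A (Localization.AtPrime p) a1 =
      IsLocalization.mk' (Localization.AtPrime p) a1 s1 *
        algebraMap A (Localization.AtPrime p) s1 := (IsLocalization.mk'_spec _ a1 s1).symm
  have hx2 : algebraMap A (Localization.AtPrime p) a2 =
      IsLocalization.mk' (Localization.AtPrime p) a2 s2 *
        algebraMap A (Localization.AtPrime p) s2 := (IsLocalization.mk'_spec _ a2 s2).symm
  suffices hsuff : algebraMap A (Localization.AtPrime p) a1 ∣
      algebraMap A (Localization.AtPrime p) a2 ∨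
      algebraMap A (Localization.AtPrime p) a2 ∣ algebraMap A (Localization.AtPrime p) a1 by
    rcases hsuff with h | h
    · left
      rw [hx1, hx2] at h
      exact ((hunit s2).dvd_mul_right).mp ((Dvd.intro _ rfl).trans h)
    · right
      rw [hx1, hx2] at h
      exact ((hunit s1).dvd_mul_right).mp ((Dvd.intro _ rfl).trans h)
  by_cases h0 : algebraMap A (Localization.AtPrime p) a1 = 0 ∧
      algebraMap A (Localization.AtPrime p) a2 = 0
  · left
    rw [h0.2]
    exact dvd_zero _
  have hmap : (Ideal.span {a1, a2}).map (algebraMap A (Localization.AtPrime p)) =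
      Ideal.span {algebraMap A (Localization.AtPrime p) a1,
        algebraMap A (Localization.AtPrime p) a2} := by
    rw [Ideal.map_span, Set.image_pair]
  have hne : (Ideal.span {a1, a2}).map (algebraMap A (Localization.AtPrime p)) ≠ ⊥ := by
    rw [hmap]
    intro hbot
    apply h0
    constructor
    · have : algebraMap A (Localization.AtPrime p) a1 ∈ (⊥ : Ideal (Localization.AtPrime p)) := by
        rw [← hbot]; exact Ideal.subset_span (Set.mem_insert _ _)
      exact this
    · have : algebraMap A (Localization.AtPrime p) a2 ∈ (⊥ : Ideal (Localization.AtPrime p)) := by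
        rw [← hbot]; exact Ideal.subset_span (Set.mem_insert_of_mem _ (Set.mem_singleton _))
      exact this
  obtain ⟨c, hc, hnzd⟩ := exists_span_singleton_map h2 p (Ideal.span {a1, a2})
    (Submodule.fg_span (Set.toFinite _)) hne
  rw [hmap] at hc
  have h1mem : algebraMap A (Localization.AtPrime p) a1 ∈ Ideal.span {c} := by
    rw [← hc]; exact Ideal.subset_span (Set.mem_insert _ _)
  have h2mem : algebraMap A (Localization.AtPrime p) a2 ∈ Ideal.span {c} := by
    rw [← hc]; exact Ideal.subset_span (Set.mem_insert_of_mem _ (Set.mem_singleton _))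
  obtain ⟨a', ha'⟩ := Ideal.mem_span_singleton'.mp h1mem
  obtain ⟨b', hb'⟩ := Ideal.mem_span_singleton'.mp h2mem
  have hcmem : c ∈ Ideal.span {algebraMap A (Localization.AtPrime p) a1,
      algebraMap A (Localization.AtPrime p) a2} := by
    rw [hc]; exact Ideal.mem_span_singleton_self c
  obtain ⟨r, s, hrs⟩ := Ideal.mem_span_pair.mp hcmem
  have hone : r * a' + s * b' = 1 := by
    have h3 : (1 - (r * a' + s * b')) * c = 0 := by
      rw [sub_mul, one_mul, add_mul, mul_assoc, mul_assoc, ha', hb', hrs, sub_self]
    have h4 := hnzd _ h3
    rw [sub_eq_zero] at h4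
    exact h4.symm
  rcases IsLocalRing.isUnit_or_isUnit_of_add_one hone with hu | hu
  · left
    have hau : IsUnit a' := isUnit_of_mul_isUnit_right hu
    rw [← ha', ← hb']
    exact (hau.mul_left_dvd).mpr (Dvd.intro_left _ rfl)
  · right
    have hbu : IsUnit b' := isUnit_of_mul_isUnit_right hu
    rw [← ha', ← hb']
    exact (hbu.mul_left_dvd).mpr (Dvd.intro_left _ rfl)

theorem flat_ideal_of_valuationRing_localization (A : Type u) [CommRing A]
    (h : ∀ (p : Ideal A) [p.IsPrime], ∃ _ : IsDomain (Localization.AtPrime p),
      ValuationRing (Localization.AtPrime p)) (I : Ideal A) : Module.Flat A I := by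
  refine Module.flat_of_isLocalized_maximal A I
    (fun P _ => ↥(Submodule.localized' (Localization.AtPrime P) P.primeCompl
      (Algebra.linearMap A (Localization.AtPrime P)) I))
    (fun P _ => Submodule.toLocalized' (Localization.AtPrime P) P.primeCompl
      (Algebra.linearMap A (Localization.AtPrime P)) I) ?_
  intro P hP
  obtain ⟨hdom, hval⟩ := h P
  rw [← Module.flat_iff_of_isLocalization (Localization.AtPrime P) P.primeCompl]
  rw [Module.Flat.flat_iff_torsion_eq_bot_of_isBezout,
    ← Submodule.isTorsionFree_iff_torsion_eq_bot]
  infer_instance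

theorem weakDimOne_tfae (A : Type u) [CommRing A] :
    List.TFAE [∀ I : Ideal A, Module.Flat A I,
      ∀ I : Ideal A, I.FG → Module.Flat A I,
      ∀ (M : Type u) [AddCommGroup M] [Module A M], Module.Flat A M →
        ∀ N : Submodule A M, Module.Flat A N,
      ∀ (p : Ideal A) [p.IsPrime], ∃ _ : IsDomain (Localization.AtPrime p),
        ValuationRing (Localization.AtPrime p)] := by
  tfae_have 1 → 3 := fun h M _ _ hM N => by
    haveI := hM
    exact flat_submodule_of_forall_ideal_flat h N
  tfae_have 3 → 1 := fun h I => h A inferInstance I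
  tfae_have 1 → 2 := fun h I _ => h I
  tfae_have 2 → 4 := fun h p _ => valuationRing_of_fg_ideals_flat A h p
  tfae_have 4 → 1 := fun h I => flat_ideal_of_valuationRing_localization A h I
  tfae_finish

end Groth.Agent.Lib.Helper7
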