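import Mathlib

set_option autoImplicit false
universe u

namespace Groth.Agent.Lib.Helper7

theorem quasiFiniteAt_of_maximal_of_minimal_over (A B : Type u) [CommRing A] [IsNoetherianRing A]
    [IsLocalRing A] [CommRing B] [Algebra A B] [Algebra.FiniteType A B] (n : Ideal B) [n.IsMaximal]
    (hn : n.comap (algebraMap A B) = IsLocalRing.maximalIdeal A)
    (hmin : ∀ q : Ideal B, q.IsPrime → q.comap (algebraMap A B) = IsLocalRing.maximalIdeal A →
      q ≤ n → q = n) :
    Algebra.QuasiFiniteAt A n := by
  classical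
  have hB : IsNoetherianRing B := Algebra.FiniteType.isNoetherianRing A B
  let q : PrimeSpectrum B := ⟨n, inferInstance⟩
  refine Algebra.QuasiFiniteAt.of_isOpen_singleton_fiber q ?_
  let I : Ideal B := Ideal.map (algebraMap A B) (IsLocalRing.maximalIdeal A)
  have hfin : I.minimalPrimes.Finite := Ideal.finite_minimalPrimes_of_isNoetherianRing B I
  let T : Set (Ideal B) := {p | p ∈ I.minimalPrimes ∧ p ≠ n}
  have hTfin : T.Finite := hfin.subset fun p hp => hp.1
  let C : Set (PrimeSpectrum B) := ⋃ p ∈ T, PrimeSpectrum.zeroLocus (p : Set B)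
  have hC : IsClosed C := hTfin.isClosed_biUnion fun p _ => PrimeSpectrum.isClosed_zeroLocus _
  rw [isOpen_induced_iff]
  refine ⟨Cᶜ, hC.isOpen_compl, ?_⟩
  ext ⟨x, hx⟩
  have hxcomap : x.asIdeal.comap (algebraMap A B) = IsLocalRing.maximalIdeal A := by
    have h1 : PrimeSpectrum.comap (algebraMap A B) x = q.comap (algebraMap A B) := hx
    have h2 := congrArg PrimeSpectrum.asIdeal h1
    exact h2.trans hn
  simp only [Set.mem_preimage, Set.mem_compl_iff, Set.mem_singleton_iff, Subtype.mk.injEq]
  constructor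
  · intro hxC
    have hIx : I ≤ x.asIdeal := Ideal.map_le_iff_le_comap.mpr hxcomap.ge
    obtain ⟨p, hp, hpx⟩ := Ideal.exists_minimalPrimes_le hIx
    by_cases hpn : p = n
    · rw [hpn] at hpx
      have : n = x.asIdeal :=
        (Ideal.IsMaximal.eq_of_le inferInstance x.isPrime.ne_top hpx)
      exact PrimeSpectrum.ext this.symm
    · exfalso
      apply hxC
      simp only [C, Set.mem_iUnion, exists_prop]
      exact ⟨p, ⟨hp, hpn⟩, hpx⟩
  · rintro rfl hqC
    simp only [C, Set.mem_iUnion, exists_prop] at hqC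
    obtain ⟨p, ⟨hp, hpn⟩, hpq⟩ := hqC
    have hpprime : p.IsPrime := hp.1.1
    have hpn' : p ≤ n := hpq
    have hIp : I ≤ p := hp.1.2
    have h1 : IsLocalRing.maximalIdeal A ≤ p.comap (algebraMap A B) :=
      Ideal.map_le_iff_le_comap.mp hIp
    have h2 : p.comap (algebraMap A B) = IsLocalRing.maximalIdeal A :=
      ((IsLocalRing.maximalIdeal.isMaximal A).eq_of_le (Ideal.comap_ne_top _ hpprime.ne_top) h1).symm
    exact hpn (hmin p hpprime h2 hpn')

theorem algebraMap_bijective_of_isolated_prime (A B K : Type u) [CommRing A]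
    [IsDomain A] [IsNoetherianRing A] [IsLocalRing A] [IsIntegrallyClosed A] [CommRing B] [IsDomain B]
    [Field K] [Algebra A B] [Algebra B K] [Algebra A K] [IsScalarTower A B K] [IsFractionRing A K]
    [IsFractionRing B K] [Algebra.FiniteType A B] (n : Ideal B) [n.IsMaximal]
    (hn : n.comap (algebraMap A B) = IsLocalRing.maximalIdeal A)
    (hmin : ∀ q : Ideal B, q.IsPrime → q.comap (algebraMap A B) = IsLocalRing.maximalIdeal A →
      q ≤ n → q = n) :
    Function.Bijective (algebraMap A B) := by
  have := quasiFiniteAt_of_maximal_of_minimal_over A B n hn hmin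
  have hZ := Algebra.ZariskisMainProperty.of_finiteType (R := A) n
  obtain ⟨r, hrn, hrint, hr⟩ := Algebra.zariskisMainProperty_iff.mp hZ
  have hinjB : Function.Injective (algebraMap B K) := IsFractionRing.injective B K
  have hinjA : Function.Injective (algebraMap A K) := IsFractionRing.injective A K
  -- integral elements of B come from A
  have key : ∀ b : B, IsIntegral A b → ∃ a : A, algebraMap A B a = b := by
    intro b hb
    have hb' : IsIntegral A (algebraMap B K b) := hb.map (IsScalarTower.toAlgHom A B K)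
    obtain ⟨a, ha⟩ := (IsIntegrallyClosed.isIntegral_iff (R := A) (K := K)).mp hb'
    refine ⟨a, hinjB ?_⟩
    rw [← IsScalarTower.algebraMap_apply, ha]
  constructor
  · intro a a' h
    apply hinjA
    rw [IsScalarTower.algebraMap_apply A B K, IsScalarTower.algebraMap_apply A B K, h]
  · obtain ⟨a, rfl⟩ := key r hrint
    have ha : IsUnit a := by
      by_contra hna
      have : a ∈ IsLocalRing.maximalIdeal A := (IsLocalRing.mem_maximalIdeal a).mpr hna
      rw [← hn] at this
      exact hrn this
    intro x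
    obtain ⟨m, hm⟩ := hr x
    obtain ⟨c, hc⟩ := key _ hm
    obtain ⟨u, rfl⟩ := ha
    refine ⟨((u⁻¹ : Aˣ) : A) ^ m * c, ?_⟩
    rw [map_mul, map_pow, hc, ← mul_assoc, ← mul_pow, ← map_mul, Units.inv_mul, map_one, one_pow,
      one_mul]

end Groth.Agent.Lib.Helper7
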